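import Cfsg.Agent.Helper28.SzbC0

/-!
# The Suzuki group presentation, cosets of the subgroup generated by a, b, c, d, f, g: the action of the generator d (helper28; generated)
-/

set_option autoImplicit false
set_option maxRecDepth 100000
set_option linter.unusedSimpArgs false
set_option linter.constructorNameAsVariable false

noncomputable section

namespace Cfsg.Agent.Helper28.SzbA

open Cfsg.Spor Cfsg.Spor.Suz Cfsg.Agent.Helper28.CosetTable

theorem ce_d_0 : ∀ r, r < 64 → sm gd (Qf (0 + r)) = Qf (tab Gen.d (0 + r)) :=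
  edges_tab (sm gd) Qf (tab Gen.d) 0 [(0, 0), (1, 2), (2, 1), (3, 5), (4, 7), (5, 3), (6, 12), (7, 4), (8, 17), (9, 18), (10, 10), (11, 22), (12, 6), (13, 27), (14, 28), (15, 31), (16, 16), (17, 8), (18, 9), (19, 37), (20, 38), (21, 41), (22, 11), (23, 46), (24, 47), (25, 53), (26, 26), (27, 13), (28, 14), (29, 59), (30, 60), (31, 15), (32, 70), (33, 68), (34, 69), (35, 35), (36, 36), (37, 19), (38, 20), (39, 79), (40, 80), (41, 21), (42, 89), (43, 90), (44, 94), (45, 45), (46, 23), (47, 24), (48, 100), (49, 101), (50, 102), (51, 103), (52, 109), (53, 25), (54, 116), (55, 114), (56, 115), (57, 57), (58, 58), (59, 29), (60, 30), (61, 123), (62, 130), (63, 125)]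
    ⟨e3 q0 L3 q0, e3 q1 L13 q2, e3 q2 (flp_d L13) q1, e3 q3 L30 q5, e3 q4 L40 q7, e3 q5 (flp_d L30) q3, e3 q6 L64 q12, e3 q7 (flp_d L40) q4, e3 q8 (flp_d L90) q17, e3 q9 (flp_d L95) q18, e3 q10 L60 q10, e3 q11 L120 q22, e3 q12 (flp_d L64) q6, e3 q13 (flp_d L143) q27, e3 q14 (flp_d L149) q28, e3 q15 L157 q31, e3 q16 L87 q16, e3 q17 L90 q8, e3 q18 L95 q9, e3 q19 (flp_d L187) q37, e3 q20 (flp_d L195) q38, e3 q21 L212 q41, e3 q22 (flp_d L120) q11, e3 q23 (flp_d L249) q46, e3 q24 (flp_d L253) q47, e3 q25 L279 q53, e3 q26 L138 q26, e3 q27 L143 q13, e3 q28 L149 q14, e3 q29 (flp_d L319) q59, e3 q30 (flp_d L323) q60, e3 q31 (flp_d L157) q15, e3 q32 L362 q70, e3 q33 (flp_d L356) q68, e3 q34 (flp_d L360) q69, e3 q35 L175 q35, e3 q36 L181 q36, e3 q37 L187 q19, e3 q38 L195 q20, e3 q39 (flp_d L417) q79, e3 q40 (flp_d L422) q80, e3 q41 (flp_d L212) q21, e3 q42 (flp_d L489) q89, e3 q43 (flp_d L495) q90, e3 q44 L548 q94, e3 q45 L246 q45, e3 q46 L249 q23, e3 q47 L253 q24, e3 q48 (flp_d L574) q100, e3 q49 (flp_d L580) q101, e3 q50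 (flp_d L586) q102, e3 q51 (flp_d L594) q103, e3 q52 L638 q109, e3 q53 (flp_d L279) q25, e3 q54 L673 q116, e3 q55 (flp_d L663) q114, e3 q56 (flp_d L671) q115, e3 q57 L307 q57, e3 q58 L314 q58, e3 q59 L319 q29, e3 q60 L323 q30, e3 q61 (flp_d L709) q123, e3 q62 L737 q130, e3 q63 (flp_d L715) q125, trivial⟩ (by decide +kernel)

theorem ce_d_1 : ∀ r, r < 64 → sm gd (Qf (64 + r)) = Qf (tab Gen.d (64 + r)) :=
  edges_tab (sm gd) Qf (tab Gen.d) 64 [(64, 126), (65, 133), (66, 128), (67, 135), (68, 33), (69, 34), (70, 32), (71, 143), (72, 144), (73, 138), (74, 139), (75, 140), (76, 141), (77, 77), (78, 78), (79, 39), (80, 40), (81, 155), (82, 82), (83, 157), (84, 158), (85, 85), (86, 160), (87, 168), (88, 88), (89, 42), (90, 43), (91, 174), (92, 175), (93, 177), (94, 44), (95, 184), (96, 182), (97, 183), (98, 98), (99, 99), (100, 48), (101, 49), (102, 50), (103, 51), (104, 196), (105, 197), (106, 199), (107, 200), (108, 202), (109, 52), (110, 209), (111, 207), (112, 208), (113, 216), (114, 55), (115, 56), (116, 54), (117,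 222), (118, 223), (119, 219), (120, 220), (121, 121), (122, 122), (123, 61), (124, 240), (125, 63), (126, 64), (127, 245)]
    ⟨e3 q64 (flp_d L719) q126, e3 q65 L767 q133, e3 q66 (flp_d L725) q128, e3 q67 L782 q135, e3 q68 L356 q33, e3 q69 L360 q34, e3 q70 (flp_d L362) q32, e3 q71 (flp_d L825) q143, e3 q72 (flp_d L829) q144, e3 q73 (flp_d L797) q138, e3 q74 (flp_d L802) q139, e3 q75 (flp_d L808) q140, e3 q76 (flp_d L817) q141, e3 q77 L401 q77, e3 q78 L410 q78, e3 q79 L417 q39, e3 q80 L422 q40, e3 q81 (flp_d L893) q155, e3 q82 L134980 q82, e3 q83 (flp_d L901) q157, e3 q84 (flp_d L907) q158, e3 q85 L140459 q85, e3 q86 (flp_d L915) q160, e3 q87 L1025 q168, e3 q88 L484 q88, e3 q89 L489 q42, e3 q90 L495 q43, e3 q91 (flp_d L1063) q174, e3 q92 (flp_d L1069) q175, e3 q93 L1168 q177, e3 q94 (flp_d L548) q44, e3 q95 L1202 q184, e3 q96 (flp_d L1196) q182, e3 q97 (flp_d L1200) q183, e3 q98 L564 q98, e3 q99 L569 q99, e3 q100 L574 q48, e3 q101 L580 q49, e3 q102 L586 q50, e3 q103 L594 q51, e3 q104 (flp_d L1270) q196, e3 q105 (flp_d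 L1274) q197, e3 q106 (flp_d L1293) q199, e3 q107 (flp_d L1301) q200, e3 q108 L1334 q202, e3 q109 (flp_d L638) q52, e3 q110 L1366 q209, e3 q111 (flp_d L1359) q207, e3 q112 (flp_d L1364) q208, e3 q113 L1396 q216, e3 q114 L663 q55, e3 q115 L671 q56, e3 q116 (flp_d L673) q54, e3 q117 (flp_d L1436) q222, e3 q118 (flp_d L1442) q223, e3 q119 (flp_d L1420) q219, e3 q120 (flp_d L1424) q220, e3 q121 L699 q121, e3 q122 L704 q122, e3 q123 L709 q61, e3 q124 L1508 q240, e3 q125 L715 q63, e3 q126 L719 q64, e3 q127 L1536 q245, trivial⟩ (by decide +kernel)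

theorem ce_d_2 : ∀ r, r < 64 → sm gd (Qf (128 + r)) = Qf (tab Gen.d (128 + r)) :=
  edges_tab (sm gd) Qf (tab Gen.d) 128 [(128, 66), (129, 238), (130, 62), (131, 242), (132, 243), (133, 65), (134, 247), (135, 67), (136, 253), (137, 254), (138, 73), (139, 74), (140, 75), (141, 76), (142, 221), (143, 71), (144, 72), (145, 266), (146, 267), (147, 268), (148, 269), (149, 259), (150, 260), (151, 261), (152, 262), (153, 153), (154, 154), (155, 81), (156, 286), (157, 83), (158, 84), (159, 289), (160, 86), (161, 161), (162, 287), (163, 163), (164, 164), (165, 290), (166, 166), (167, 294), (168, 87), (169, 299), (170, 297), (171, 298), (172, 172), (173, 173), (174, 91), (175, 92), (176, 304), (177, 93), (178, 311), (179, 309), (180, 310), (181, 318), (182, 96), (183, 97), (184, 95), (185, 326), (186, 327), (187, 321), (188, 322), (189, 323), (190, 324), (191, 191)]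
    ⟨e3 q128 L725 q66, e3 q129 (flp_d L1498) q238, e3 q130 (flp_d L737) q62, e3 q131 (flp_d L1518) q242, e3 q132 (flp_d L1526) q243, e3 q133 (flp_d L767) q65, e3 q134 L65338 q247, e3 q135 (flp_d L782) q67, e3 q136 (flp_d L1601) q253, e3 q137 (flp_d L1607) q254, e3 q138 L797 q73, e3 q139 L802 q74, e3 q140 L808 q75, e3 q141 L817 q76, e3 q142 (flp_d L1430) q221, e3 q143 L825 q71, e3 q144 L829 q72, e3 q145 (flp_d L1682) q266, e3 q146 (flp_d L1687) q267, e3 q147 (flp_d L1693) q268, e3 q148 (flp_d L1700) q269, e3 q149 (flp_d L80237) q259, e3 q150 (flp_d L1651) q260, e3 q151 (flp_d L82407) q261, e3 q152 (flp_d L1667) q262, e3 q153 L881 q153, e3 q154 L887 q154, e3 q155 L893 q81, e3 q156 L142575 q286, e3 q157 L901 q83, e3 q158 L907 q84, e3 q159 L140501 q289, e3 q160 L915 q86, e3 q161 L140752 q161, e3 q162 (flp_d L1825) q287, e3 q163 L134986 q163, e3 q164 L140485 q164, e3 q165 (flp_d L1845) q290, e3 q166 L140451 q166, e3 q167 L2046 q294, e3 q168 (flp_d L1025) q87, e3 q169 L2077 q299, e3 q170 (flp_d L2069) q297, e3 q171 (flp_d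 L2075) q298, e3 q172 L1051 q172, e3 q173 L1058 q173, e3 q174 L1063 q91, e3 q175 L1069 q92, e3 q176 L2258 q304, e3 q177 (flp_d L1168) q93, e3 q178 L2294 q311, e3 q179 (flp_d L2288) q309, e3 q180 (flp_d L2292) q310, e3 q181 L2358 q318, e3 q182 L1196 q96, e3 q183 L1200 q97, e3 q184 (flp_d L1202) q95, e3 q185 (flp_d L2396) q326, e3 q186 (flp_d L2400) q327, e3 q187 (flp_d L2372) q321, e3 q188 (flp_d L2376) q322, e3 q189 (flp_d L2382) q323, e3 q190 (flp_d L2388) q324, e3 q191 L1236 q191, trivial⟩ (by decide +kernel)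

theorem ce_d_3 : ∀ r, r < 64 → sm gd (Qf (192 + r)) = Qf (tab Gen.d (192 + r)) :=
  edges_tab (sm gd) Qf (tab Gen.d) 192 [(192, 192), (193, 193), (194, 194), (195, 346), (196, 104), (197, 105), (198, 349), (199, 106), (200, 107), (201, 352), (202, 108), (203, 357), (204, 355), (205, 356), (206, 360), (207, 111), (208, 112), (209, 110), (210, 368), (211, 369), (212, 363), (213, 364), (214, 365), (215, 366), (216, 113), (217, 379), (218, 380), (219, 119), (220, 120), (221, 142), (222, 117), (223, 118), (224, 392), (225, 393), (226, 383), (227, 402), (228, 385), (229, 386), (230, 406), (231, 388), (232, 232), (233, 410), (234, 234), (235, 235), (236, 415), (237, 237), (238, 129), (239, 418), (240, 124), (241, 420), (242, 131), (243, 132), (244, 423), (245, 127), (246, 425), (247, 134), (248, 429), (249, 249), (250, 432), (251, 251), (252, 435), (253, 136), (254, 137), (255, 438)]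
    ⟨e3 q192 L1243 q192, e3 q193 L1250 q193, e3 q194 L1259 q194, e3 q195 L2502 q346, e3 q196 L1270 q104, e3 q197 L1274 q105, e3 q198 L2524 q349, e3 q199 L1293 q106, e3 q200 L1301 q107, e3 q201 L2570 q352, e3 q202 (flp_d L1334) q108, e3 q203 L2605 q357, e3 q204 (flp_d L2596) q355, e3 q205 (flp_d L2603) q356, e3 q206 L2625 q360, e3 q207 L1359 q111, e3 q208 L1364 q112, e3 q209 (flp_d L1366) q110, e3 q210 (flp_d L2673) q368, e3 q211 (flp_d L2677) q369, e3 q212 (flp_d L2643) q363, e3 q213 (flp_d L2650) q364, e3 q214 (flp_d L2656) q365, e3 q215 (flp_d L2665) q366, e3 q216 (flp_d L1396) q113, e3 q217 (flp_d L2739) q379, e3 q218 (flp_d L2747) q380, e3 q219 L1420 q119, e3 q220 L1424 q120, e3 q221 L1430 q142, e3 q222 L1436 q117, e3 q223 L1442 q118, e3 q224 (flp_d L2805) q392, e3 q225 (flp_d L2809) q393, e3 q226 (flp_d L2761) q383, e3 q227 L2851 q402, e3 q228 (flp_d L2769) q385, e3 q229 (flp_d L2773) q386, e3 q230 L2877 q406, e3 q231 (flp_d L2781) q388, e3 q232 L1470 q232, e3 q233 L2906 q410, e3 q234 L1479 q234, e3 q235 L1484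 q235, e3 q236 L2940 q415, e3 q237 L1493 q237, e3 q238 L1498 q129, e3 q239 L2967 q418, e3 q240 (flp_d L1508) q124, e3 q241 (flp_d L2975) q420, e3 q242 L1518 q131, e3 q243 L1526 q132, e3 q244 L2995 q423, e3 q245 (flp_d L1536) q127, e3 q246 (flp_d L3005) q425, e3 q247 (flp_d L65338) q134, e3 q248 L3020 q429, e3 q249 L1565 q249, e3 q250 L3052 q432, e3 q251 L1577 q251, e3 q252 L3103 q435, e3 q253 L1601 q136, e3 q254 L1607 q137, e3 q255 (flp_d L3120) q438, trivial⟩ (by decide +kernel)

theorem ce_d_4 : ∀ r, r < 64 → sm gd (Qf (256 + r)) = Qf (tab Gen.d (256 + r)) :=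
  edges_tab (sm gd) Qf (tab Gen.d) 256 [(256, 439), (257, 440), (258, 441), (259, 149), (260, 150), (261, 151), (262, 152), (263, 389), (264, 390), (265, 391), (266, 145), (267, 146), (268, 147), (269, 148), (270, 456), (271, 457), (272, 459), (273, 460), (274, 384), (275, 446), (276, 470), (277, 387), (278, 447), (279, 474), (280, 280), (281, 477), (282, 282), (283, 283), (284, 481), (285, 285), (286, 156), (287, 162), (288, 483), (289, 159), (290, 165), (291, 485), (292, 292), (293, 293), (294, 167), (295, 491), (296, 492), (297, 170), (298, 171), (299, 169), (300, 496), (301, 497), (302, 302), (303, 303), (304, 176), (305, 501), (306, 499), (307, 500), (308, 506), (309, 179), (310, 180), (311, 178), (312, 514), (313, 515), (314, 509), (315, 510), (316, 511), (317, 512), (318, 181), (319, 529)]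
    ⟨e3 q256 (flp_d L3127) q439, e3 q257 (flp_d L3135) q440, e3 q258 (flp_d L3144) q441, e3 q259 L80237 q149, e3 q260 L1651 q150, e3 q261 L82407 q151, e3 q262 L1667 q152, e3 q263 (flp_d L2785) q389, e3 q264 (flp_d L2793) q390, e3 q265 (flp_d L2801) q391, e3 q266 L1682 q145, e3 q267 L1687 q146, e3 q268 L1693 q147, e3 q269 L1700 q148, e3 q270 (flp_d L3311) q456, e3 q271 (flp_d L3315) q457, e3 q272 (flp_d L3327) q459, e3 q273 (flp_d L3331) q460, e3 q274 (flp_d L81194) q384, e3 q275 (flp_d L3218) q446, e3 q276 L3438 q470, e3 q277 L82636 q387, e3 q278 (flp_d L3260) q447, e3 q279 L3487 q474, e3 q280 L1782 q280, e3 q281 L3517 q477, e3 q282 L1793 q282, e3 q283 L1800 q283, e3 q284 L3544 q481, e3 q285 L1811 q285, e3 q286 (flp_d L142575) q156, e3 q287 L1825 q162, e3 q288 L142153 q483, e3 q289 (flp_d L140501) q159, e3 q290 L1845 q165, e3 q291 L141948 q485, e3 q292 L140757 q292, e3 q293 L134924 q293, e3 q294 (flp_d L2046) q167, e3 q295 L3953 q491, e3 q296 L3987 q492, e3 q297 L2069 q170, e3 q298 L2075 q171, e3 q299 (flp_d L2077)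 q169, e3 q300 (flp_d L4023) q496, e3 q301 (flp_d L4029) q497, e3 q302 L2103 q302, e3 q303 L2110 q303, e3 q304 (flp_d L2258) q176, e3 q305 L4367 q501, e3 q306 (flp_d L4357) q499, e3 q307 (flp_d L4365) q500, e3 q308 L4391 q506, e3 q309 L2288 q179, e3 q310 L2292 q180, e3 q311 (flp_d L2294) q178, e3 q312 (flp_d L4437) q514, e3 q313 (flp_d L4441) q515, e3 q314 (flp_d L4407) q509, e3 q315 (flp_d L4413) q510, e3 q316 (flp_d L4419) q511, e3 q317 (flp_d L4429) q512, e3 q318 (flp_d L2358) q181, e3 q319 (flp_d L4553) q529, trivial⟩ (by decide +kernel)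

theorem ce_d_5 : ∀ r, r < 64 → sm gd (Qf (320 + r)) = Qf (tab Gen.d (320 + r)) :=
  edges_tab (sm gd) Qf (tab Gen.d) 320 [(320, 530), (321, 187), (322, 188), (323, 189), (324, 190), (325, 495), (326, 185), (327, 186), (328, 546), (329, 547), (330, 548), (331, 549), (332, 535), (333, 560), (334, 537), (335, 538), (336, 539), (337, 568), (338, 541), (339, 542), (340, 574), (341, 341), (342, 342), (343, 577), (344, 344), (345, 345), (346, 195), (347, 581), (348, 583), (349, 198), (350, 585), (351, 587), (352, 201), (353, 590), (354, 591), (355, 204), (356, 205), (357, 203), (358, 595), (359, 596), (360, 206), (361, 598), (362, 599), (363, 212), (364, 213), (365, 214), (366, 215), (367, 607), (368, 210), (369, 211), (370, 610), (371, 611), (372, 612), (373, 613), (374, 618), (375, 604), (376, 621), (377, 605), (378, 625), (379, 217), (380, 218), (381, 628), (382, 629), (383, 226)]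
    ⟨e3 q320 (flp_d L4559) q530, e3 q321 L2372 q187, e3 q322 L2376 q188, e3 q323 L2382 q189, e3 q324 L2388 q190, e3 q325 (flp_d L4017) q495, e3 q326 L2396 q185, e3 q327 L2400 q186, e3 q328 (flp_d L4625) q546, e3 q329 (flp_d L4629) q547, e3 q330 (flp_d L4635) q548, e3 q331 (flp_d L4641) q549, e3 q332 (flp_d L4587) q535, e3 q333 L4693 q560, e3 q334 (flp_d L4593) q537, e3 q335 (flp_d L4597) q538, e3 q336 (flp_d L4601) q539, e3 q337 L4733 q568, e3 q338 (flp_d L4607) q541, e3 q339 (flp_d L4611) q542, e3 q340 L4761 q574, e3 q341 L2456 q341, e3 q342 L2461 q342, e3 q343 L4787 q577, e3 q344 L2484 q344, e3 q345 L2493 q345, e3 q346 (flp_d L2502) q195, e3 q347 (flp_d L4819) q581, e3 q348 L4823 q583, e3 q349 (flp_d L2524) q198, e3 q350 (flp_d L4848) q585, e3 q351 L4856 q587, e3 q352 (flp_d L2570) q201, e3 q353 L4951 q590, e3 q354 L4979 q591, e3 q355 L2596 q204, e3 q356 L2603 q205, e3 q357 (flp_d L2605) q203, e3 q358 (flp_d L5015) q595, e3 q359 (flp_d L5021) q596, e3 q360 (flp_d L2625) q206, e3 q361 (flp_d L5049) q598, e3 q362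 (flp_d L5055) q599, e3 q363 L2643 q212, e3 q364 L2650 q213, e3 q365 L2656 q214, e3 q366 L2665 q215, e3 q367 L5129 q607, e3 q368 L2673 q210, e3 q369 L2677 q211, e3 q370 (flp_d L5141) q610, e3 q371 (flp_d L5147) q611, e3 q372 (flp_d L5153) q612, e3 q373 (flp_d L5161) q613, e3 q374 L5215 q618, e3 q375 (flp_d L5104) q604, e3 q376 L5243 q621, e3 q377 (flp_d L5123) q605, e3 q378 L5267 q625, e3 q379 L2739 q217, e3 q380 L2747 q218, e3 q381 (flp_d L5292) q628, e3 q382 (flp_d L5298) q629, e3 q383 L2761 q226, trivial⟩ (by decide +kernel)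

theorem ce_d_6 : ∀ r, r < 64 → sm gd (Qf (384 + r)) = Qf (tab Gen.d (384 + r)) :=
  edges_tab (sm gd) Qf (tab Gen.d) 384 [(384, 274), (385, 228), (386, 229), (387, 277), (388, 231), (389, 263), (390, 264), (391, 265), (392, 224), (393, 225), (394, 643), (395, 651), (396, 645), (397, 646), (398, 655), (399, 648), (400, 658), (401, 636), (402, 227), (403, 661), (404, 664), (405, 637), (406, 230), (407, 667), (408, 408), (409, 669), (410, 233), (411, 672), (412, 412), (413, 413), (414, 675), (415, 236), (416, 678), (417, 417), (418, 239), (419, 671), (420, 241), (421, 683), (422, 684), (423, 244), (424, 677), (425, 246), (426, 690), (427, 691), (428, 695), (429, 248), (430, 699), (431, 700), (432, 250), (433, 704), (434, 706), (435, 252), (436, 709), (437, 710), (438, 255), (439, 256), (440, 257), (441, 258), (442, 716), (443, 717), (444, 719), (445, 720), (446, 275), (447, 278)]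
    ⟨e3 q384 L81194 q274, e3 q385 L2769 q228, e3 q386 L2773 q229, e3 q387 (flp_d L82636) q277, e3 q388 L2781 q231, e3 q389 L2785 q263, e3 q390 L2793 q264, e3 q391 L2801 q265, e3 q392 L2805 q224, e3 q393 L2809 q225, e3 q394 (flp_d L5416) q643, e3 q395 L5452 q651, e3 q396 (flp_d L5422) q645, e3 q397 (flp_d L5426) q646, e3 q398 L5488 q655, e3 q399 (flp_d L5432) q648, e3 q400 L5519 q658, e3 q401 (flp_d L5342) q636, e3 q402 (flp_d L2851) q227, e3 q403 (flp_d L5541) q661, e3 q404 L5569 q664, e3 q405 (flp_d L5374) q637, e3 q406 (flp_d L2877) q230, e3 q407 (flp_d L5591) q667, e3 q408 L2893 q408, e3 q409 L5619 q669, e3 q410 (flp_d L2906) q233, e3 q411 (flp_d L5631) q672, e3 q412 L2918 q412, e3 q413 L2927 q413, e3 q414 L5659 q675, e3 q415 (flp_d L2940) q236, e3 q416 (flp_d L5671) q678, e3 q417 L2952 q417, e3 q418 (flp_d L2967) q239, e3 q419 (flp_d L5627) q671, e3 q420 L2975 q241, e3 q421 (flp_d L5719) q683, e3 q422 (flp_d L5727) q684, e3 q423 (flp_d L2995) q244, e3 q424 (flp_d L5667) q677, e3 q425 L3005 q246, e3 q426 (flp_d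 L5783) q690, e3 q427 (flp_d L5789) q691, e3 q428 L5808 q695, e3 q429 (flp_d L3020) q248, e3 q430 L5829 q699, e3 q431 L5850 q700, e3 q432 (flp_d L3052) q250, e3 q433 L5879 q704, e3 q434 L5944 q706, e3 q435 (flp_d L3103) q252, e3 q436 (flp_d L5961) q709, e3 q437 (flp_d L5966) q710, e3 q438 L3120 q255, e3 q439 L3127 q256, e3 q440 L3135 q257, e3 q441 L3144 q258, e3 q442 (flp_d L81121) q716, e3 q443 (flp_d L6014) q717, e3 q444 L80048 q719, e3 q445 (flp_d L6038) q720, e3 q446 L3218 q275, e3 q447 L3260 q278, trivial⟩ (by decide +kernel)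

theorem ce_d_7 : ∀ r, r < 64 → sm gd (Qf (448 + r)) = Qf (tab Gen.d (448 + r)) :=
  edges_tab (sm gd) Qf (tab Gen.d) 448 [(448, 638), (449, 639), (450, 640), (451, 641), (452, 454), (453, 642), (454, 452), (455, 740), (456, 270), (457, 271), (458, 745), (459, 272), (460, 273), (461, 742), (462, 743), (463, 753), (464, 747), (465, 748), (466, 757), (467, 758), (468, 723), (469, 762), (470, 276), (471, 764), (472, 724), (473, 768), (474, 279), (475, 770), (476, 476), (477, 281), (478, 773), (479, 775), (480, 480), (481, 284), (482, 778), (483, 288), (484, 780), (485, 291), (486, 783), (487, 487), (488, 488), (489, 786), (490, 788), (491, 295), (492, 296), (493, 791), (494, 792), (495, 325), (496, 300), (497, 301), (498, 796), (499, 306), (500, 307), (501, 305), (502, 802), (503, 803), (504, 799), (505, 800), (506, 308), (507, 807), (508, 808), (509, 314), (510, 315), (511, 316)]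
    ⟨e3 q448 (flp_d L5396) q638, e3 q449 (flp_d L5400) q639, e3 q450 (flp_d L5404) q640, e3 q451 (flp_d L5408) q641, e3 q452 (flp_d L3297) q454, e3 q453 (flp_d L5412) q642, e3 q454 L3297 q452, e3 q455 L6391 q740, e3 q456 L3311 q270, e3 q457 L3315 q271, e3 q458 L6433 q745, e3 q459 L3327 q272, e3 q460 L3331 q273, e3 q461 (flp_d L6400) q742, e3 q462 (flp_d L6406) q743, e3 q463 L6515 q753, e3 q464 (flp_d L6442) q747, e3 q465 (flp_d L6448) q748, e3 q466 L6590 q757, e3 q467 L6662 q758, e3 q468 (flp_d L6201) q723, e3 q469 L6681 q762, e3 q470 (flp_d L3438) q276, e3 q471 L6777 q764, e3 q472 (flp_d L6290) q724, e3 q473 L6798 q768, e3 q474 (flp_d L3487) q279, e3 q475 L6844 q770, e3 q476 L3512 q476, e3 q477 (flp_d L3517) q281, e3 q478 (flp_d L6869) q773, e3 q479 L6881 q775, e3 q480 L3537 q480, e3 q481 (flp_d L3544) q284, e3 q482 (flp_d L6906) q778, e3 q483 (flp_d L142153) q288, e3 q484 (flp_d L131708) q780, e3 q485 (flp_d L141948) q291, e3 q486 (flp_d L142141) q783, e3 q487 L134937 q487, e3 q488 L134931 q488, e3 q489 L7631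 q786, e3 q490 L7645 q788, e3 q491 (flp_d L3953) q295, e3 q492 (flp_d L3987) q296, e3 q493 (flp_d L7759) q791, e3 q494 (flp_d L7767) q792, e3 q495 L4017 q325, e3 q496 L4023 q300, e3 q497 L4029 q301, e3 q498 L8511 q796, e3 q499 L4357 q306, e3 q500 L4365 q307, e3 q501 (flp_d L4367) q305, e3 q502 (flp_d L8549) q802, e3 q503 (flp_d L8555) q803, e3 q504 (flp_d L8535) q799, e3 q505 (flp_d L8539) q800, e3 q506 (flp_d L4391) q308, e3 q507 (flp_d L8593) q807, e3 q508 (flp_d L8599) q808, e3 q509 L4407 q314, e3 q510 L4413 q315, e3 q511 L4419 q316, trivial⟩ (by decide +kernel)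

theorem ce_d_8 : ∀ r, r < 64 → sm gd (Qf (512 + r)) = Qf (tab Gen.d (512 + r)) :=
  edges_tab (sm gd) Qf (tab Gen.d) 512 [(512, 317), (513, 818), (514, 312), (515, 313), (516, 821), (517, 822), (518, 823), (519, 824), (520, 536), (521, 834), (522, 813), (523, 814), (524, 540), (525, 838), (526, 815), (527, 816), (528, 842), (529, 319), (530, 320), (531, 845), (532, 846), (533, 847), (534, 848), (535, 332), (536, 520), (537, 334), (538, 335), (539, 336), (540, 524), (541, 338), (542, 339), (543, 793), (544, 794), (545, 795), (546, 328), (547, 329), (548, 330), (549, 331), (550, 874), (551, 884), (552, 876), (553, 877), (554, 878), (555, 892), (556, 880), (557, 881), (558, 857), (559, 898), (560, 333), (561, 900), (562, 859), (563, 858), (564, 860), (565, 906), (566, 862), (567, 907), (568, 337), (569, 909), (570, 864), (571, 863), (572, 865), (573, 915), (574, 340), (575, 918)]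
    ⟨e3 q512 L4429 q317, e3 q513 L8671 q818, e3 q514 L4437 q312, e3 q515 L4441 q313, e3 q516 (flp_d L8683) q821, e3 q517 (flp_d L8689) q822, e3 q518 (flp_d L8695) q823, e3 q519 (flp_d L8703) q824, e3 q520 (flp_d L69504) q536, e3 q521 L8759 q834, e3 q522 (flp_d L8643) q813, e3 q523 (flp_d L8647) q814, e3 q524 L82535 q540, e3 q525 L8791 q838, e3 q526 (flp_d L8661) q815, e3 q527 (flp_d L8665) q816, e3 q528 L8933 q842, e3 q529 L4553 q319, e3 q530 L4559 q320, e3 q531 (flp_d L8949) q845, e3 q532 (flp_d L8955) q846, e3 q533 (flp_d L8963) q847, e3 q534 (flp_d L8971) q848, e3 q535 L4587 q332, e3 q536 L69504 q520, e3 q537 L4593 q334, e3 q538 L4597 q335, e3 q539 L4601 q336, e3 q540 (flp_d L82535) q524, e3 q541 L4607 q338, e3 q542 L4611 q339, e3 q543 (flp_d L7801) q793, e3 q544 (flp_d L7809) q794, e3 q545 (flp_d L7817) q795, e3 q546 L4625 q328, e3 q547 L4629 q329, e3 q548 L4635 q330, e3 q549 L4641 q331, e3 q550 (flp_d L9133) q874, e3 q551 L9177 q884, e3 q552 (flp_d L9139) q876, e3 q553 (flp_d L9143) q877, e3 q554 (flp_d L9147)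 q878, e3 q555 L9235 q892, e3 q556 (flp_d L9153) q880, e3 q557 (flp_d L9157) q881, e3 q558 (flp_d L9011) q857, e3 q559 L9285 q898, e3 q560 (flp_d L4693) q333, e3 q561 (flp_d L9309) q900, e3 q562 (flp_d L9033) q859, e3 q563 (flp_d L69512) q858, e3 q564 (flp_d L9047) q860, e3 q565 L9347 q906, e3 q566 (flp_d L9059) q862, e3 q567 L9373 q907, e3 q568 (flp_d L4733) q337, e3 q569 (flp_d L9395) q909, e3 q570 (flp_d L9081) q864, e3 q571 (flp_d L82528) q863, e3 q572 (flp_d L9095) q865, e3 q573 L9433 q915, e3 q574 (flp_d L4761) q340, e3 q575 (flp_d L9461) q918, trivial⟩ (by decide +kernel)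

theorem ce_d_9 : ∀ r, r < 64 → sm gd (Qf (576 + r)) = Qf (tab Gen.d (576 + r)) :=
  edges_tab (sm gd) Qf (tab Gen.d) 576 [(576, 920), (577, 343), (578, 923), (579, 925), (580, 917), (581, 347), (582, 927), (583, 348), (584, 922), (585, 350), (586, 932), (587, 351), (588, 936), (589, 938), (590, 353), (591, 354), (592, 941), (593, 942), (594, 944), (595, 358), (596, 359), (597, 948), (598, 361), (599, 362), (600, 951), (601, 952), (602, 953), (603, 954), (604, 375), (605, 377), (606, 962), (607, 367), (608, 967), (609, 968), (610, 370), (611, 371), (612, 372), (613, 373), (614, 977), (615, 974), (616, 980), (617, 976), (618, 374), (619, 957), (620, 905), (621, 376), (622, 959), (623, 914), (624, 986), (625, 378), (626, 989), (627, 990), (628, 381), (629, 382), (630, 993), (631, 1000), (632, 995), (633, 996), (634, 1002), (635, 998), (636, 401), (637, 405), (638, 448), (639, 449)]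
    ⟨e3 q576 L9467 q920, e3 q577 (flp_d L4787) q343, e3 q578 (flp_d L9496) q923, e3 q579 L9506 q925, e3 q580 (flp_d L9457) q917, e3 q581 L4819 q347, e3 q582 (flp_d L9522) q927, e3 q583 (flp_d L4823) q348, e3 q584 (flp_d L9492) q922, e3 q585 L4848 q350, e3 q586 (flp_d L9585) q932, e3 q587 (flp_d L4856) q351, e3 q588 L9703 q936, e3 q589 L9723 q938, e3 q590 (flp_d L4951) q353, e3 q591 (flp_d L4979) q354, e3 q592 (flp_d L9823) q941, e3 q593 (flp_d L9831) q942, e3 q594 L9867 q944, e3 q595 L5015 q358, e3 q596 L5021 q359, e3 q597 L9971 q948, e3 q598 L5049 q361, e3 q599 L5055 q362, e3 q600 (flp_d L9987) q951, e3 q601 (flp_d L9995) q952, e3 q602 (flp_d L10003) q953, e3 q603 (flp_d L10013) q954, e3 q604 L5104 q375, e3 q605 L5123 q377, e3 q606 L10141 q962, e3 q607 (flp_d L5129) q367, e3 q608 (flp_d L10163) q967, e3 q609 (flp_d L10167) q968, e3 q610 L5141 q370, e3 q611 L5147 q371, e3 q612 L5153 q372, e3 q613 L5161 q373, e3 q614 L10237 q977, e3 q615 (flp_d L10203) q974, e3 q616 L10279 q980, e3 q617 (flp_d L10221) q976, e3 q618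 (flp_d L5215) q374, e3 q619 (flp_d L10088) q957, e3 q620 L141713 q905, e3 q621 (flp_d L5243) q376, e3 q622 (flp_d L10126) q959, e3 q623 (flp_d L141191) q914, e3 q624 L10467 q986, e3 q625 (flp_d L5267) q378, e3 q626 (flp_d L10486) q989, e3 q627 (flp_d L10495) q990, e3 q628 L5292 q381, e3 q629 L5298 q382, e3 q630 (flp_d L10509) q993, e3 q631 L10557 q1000, e3 q632 (flp_d L10519) q995, e3 q633 (flp_d L10525) q996, e3 q634 L10593 q1002, e3 q635 (flp_d L10535) q998, e3 q636 L5342 q401, e3 q637 L5374 q405, e3 q638 L5396 q448, e3 q639 L5400 q449, trivial⟩ (by decide +kernel)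

theorem ce_d_10 : ∀ r, r < 64 → sm gd (Qf (640 + r)) = Qf (tab Gen.d (640 + r)) :=
  edges_tab (sm gd) Qf (tab Gen.d) 640 [(640, 450), (641, 451), (642, 453), (643, 394), (644, 1018), (645, 396), (646, 397), (647, 1022), (648, 399), (649, 1025), (650, 1017), (651, 395), (652, 1029), (653, 1032), (654, 1021), (655, 398), (656, 1036), (657, 697), (658, 400), (659, 687), (660, 1028), (661, 403), (662, 1040), (663, 702), (664, 404), (665, 694), (666, 1035), (667, 407), (668, 1044), (669, 409), (670, 1046), (671, 419), (672, 411), (673, 1052), (674, 1053), (675, 414), (676, 1057), (677, 424), (678, 416), (679, 1063), (680, 1064), (681, 1047), (682, 1051), (683, 421), (684, 422), (685, 1070), (686, 761), (687, 659), (688, 1058), (689, 1062), (690, 426), (691, 427), (692, 1071), (693, 767), (694, 665), (695, 428), (696, 1077), (697, 657), (698, 1079), (699, 430), (700, 431), (701, 1082), (702, 663), (703, 1084)]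
    ⟨e3 q640 L5404 q450, e3 q641 L5408 q451, e3 q642 L5412 q453, e3 q643 L5416 q394, e3 q644 L10815 q1018, e3 q645 L5422 q396, e3 q646 L5426 q397, e3 q647 L10845 q1022, e3 q648 L5432 q399, e3 q649 L10882 q1025, e3 q650 (flp_d L10811) q1017, e3 q651 (flp_d L5452) q395, e3 q652 (flp_d L10910) q1029, e3 q653 L10954 q1032, e3 q654 (flp_d L10841) q1021, e3 q655 (flp_d L5488) q398, e3 q656 (flp_d L10982) q1036, e3 q657 L142625 q697, e3 q658 (flp_d L5519) q400, e3 q659 L142602 q687, e3 q660 (flp_d L10906) q1028, e3 q661 L5541 q403, e3 q662 (flp_d L11121) q1040, e3 q663 L137223 q702, e3 q664 (flp_d L5569) q404, e3 q665 (flp_d L140375) q694, e3 q666 (flp_d L10978) q1035, e3 q667 L5591 q407, e3 q668 (flp_d L11256) q1044, e3 q669 (flp_d L5619) q409, e3 q670 (flp_d L11318) q1046, e3 q671 L5627 q419, e3 q672 L5631 q411, e3 q673 (flp_d L11344) q1052, e3 q674 (flp_d L11350) q1053, e3 q675 (flp_d L5659) q414, e3 q676 (flp_d L11400) q1057, e3 q677 L5667 q424, e3 q678 L5671 q416, e3 q679 (flp_d L11426) q1063, e3 q680 (flp_d L11432)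 q1064, e3 q681 (flp_d L11324) q1047, e3 q682 (flp_d L11338) q1051, e3 q683 L5719 q421, e3 q684 L5727 q422, e3 q685 (flp_d L11531) q1070, e3 q686 L142232 q761, e3 q687 (flp_d L142602) q659, e3 q688 (flp_d L11406) q1058, e3 q689 (flp_d L11420) q1062, e3 q690 L5783 q426, e3 q691 L5789 q427, e3 q692 L83120 q1071, e3 q693 L142158 q767, e3 q694 L140375 q665, e3 q695 (flp_d L5808) q428, e3 q696 L11752 q1077, e3 q697 (flp_d L142625) q657, e3 q698 L11762 q1079, e3 q699 (flp_d L5829) q430, e3 q700 (flp_d L5850) q431, e3 q701 L11845 q1082, e3 q702 (flp_d L137223) q663, e3 q703 L11875 q1084, trivial⟩ (by decide +kernel)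

theorem ce_d_11 : ∀ r, r < 64 → sm gd (Qf (704 + r)) = Qf (tab Gen.d (704 + r)) :=
  edges_tab (sm gd) Qf (tab Gen.d) 704 [(704, 433), (705, 1087), (706, 434), (707, 1091), (708, 1092), (709, 436), (710, 437), (711, 1097), (712, 1098), (713, 1099), (714, 1100), (715, 1109), (716, 442), (717, 443), (718, 1113), (719, 444), (720, 445), (721, 1111), (722, 1115), (723, 468), (724, 472), (725, 1003), (726, 1004), (727, 1005), (728, 1006), (729, 1007), (730, 1008), (731, 1009), (732, 1010), (733, 1140), (734, 1012), (735, 739), (736, 1013), (737, 1150), (738, 1015), (739, 735), (740, 455), (741, 1158), (742, 461), (743, 462), (744, 1163), (745, 458), (746, 1165), (747, 464), (748, 465), (749, 1170), (750, 1171), (751, 1161), (752, 1175), (753, 463), (754, 1178), (755, 1168), (756, 1182), (757, 466), (758, 467), (759, 1119), (760, 1188), (761, 686), (762, 469), (763, 1177), (764, 471), (765, 1121), (766, 1195), (767, 693)]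
    ⟨e3 q704 (flp_d L5879) q433, e3 q705 L11972 q1087, e3 q706 (flp_d L5944) q434, e3 q707 (flp_d L11995) q1091, e3 q708 (flp_d L11999) q1092, e3 q709 L5961 q436, e3 q710 L5966 q437, e3 q711 (flp_d L12031) q1097, e3 q712 (flp_d L12036) q1098, e3 q713 (flp_d L12042) q1099, e3 q714 (flp_d L12049) q1100, e3 q715 L12114 q1109, e3 q716 L81121 q442, e3 q717 L6014 q443, e3 q718 L12172 q1113, e3 q719 (flp_d L80048) q444, e3 q720 L6038 q445, e3 q721 (flp_d L12133) q1111, e3 q722 (flp_d L12191) q1115, e3 q723 L6201 q468, e3 q724 L6290 q472, e3 q725 (flp_d L10735) q1003, e3 q726 (flp_d L10741) q1004, e3 q727 (flp_d L10747) q1005, e3 q728 (flp_d L10751) q1006, e3 q729 (flp_d L10757) q1007, e3 q730 (flp_d L10763) q1008, e3 q731 (flp_d L10771) q1009, e3 q732 (flp_d L10777) q1010, e3 q733 L12866 q1140, e3 q734 (flp_d L10785) q1012, e3 q735 (flp_d L6372) q739, e3 q736 (flp_d L10789) q1013, e3 q737 L12906 q1150, e3 q738 (flp_d L10797) q1015, e3 q739 L6372 q735, e3 q740 (flp_d L6391) q455, e3 q741 (flp_d L12981) q1158, e3 q742 L6400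 q461, e3 q743 L6406 q462, e3 q744 L13015 q1163, e3 q745 (flp_d L6433) q458, e3 q746 (flp_d L13070) q1165, e3 q747 L6442 q464, e3 q748 L6448 q465, e3 q749 L13104 q1170, e3 q750 L13198 q1171, e3 q751 (flp_d L13001) q1161, e3 q752 L13231 q1175, e3 q753 (flp_d L6515) q463, e3 q754 L13369 q1178, e3 q755 (flp_d L13090) q1168, e3 q756 L13404 q1182, e3 q757 (flp_d L6590) q466, e3 q758 (flp_d L6662) q467, e3 q759 (flp_d L12555) q1119, e3 q760 L13624 q1188, e3 q761 (flp_d L142232) q686, e3 q762 (flp_d L6681) q469, e3 q763 (flp_d L13259) q1177, e3 q764 (flp_d L6777) q471, e3 q765 (flp_d L12747) q1121, e3 q766 L13888 q1195, e3 q767 (flp_d L142158) q693, trivial⟩ (by decide +kernel)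

theorem ce_d_12 : ∀ r, r < 64 → sm gd (Qf (768 + r)) = Qf (tab Gen.d (768 + r)) :=
  edges_tab (sm gd) Qf (tab Gen.d) 768 [(768, 473), (769, 1184), (770, 475), (771, 1200), (772, 1199), (773, 478), (774, 1204), (775, 479), (776, 1208), (777, 1207), (778, 482), (779, 1212), (780, 484), (781, 1190), (782, 1189), (783, 486), (784, 1197), (785, 1196), (786, 489), (787, 937), (788, 490), (789, 1219), (790, 1221), (791, 493), (792, 494), (793, 543), (794, 544), (795, 545), (796, 498), (797, 1230), (798, 1231), (799, 504), (800, 505), (801, 965), (802, 502), (803, 503), (804, 1237), (805, 1238), (806, 1240), (807, 507), (808, 508), (809, 1243), (810, 1244), (811, 1245), (812, 1246), (813, 522), (814, 523), (815, 526), (816, 527), (817, 1252), (818, 513), (819, 1256), (820, 1257), (821, 516), (822, 517), (823, 518), (824, 519), (825, 1262), (826, 1271), (827, 1264), (828, 1265), (829, 1266), (830, 1275), (831, 1268)]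
    ⟨e3 q768 (flp_d L6798) q473, e3 q769 (flp_d L13432) q1184, e3 q770 (flp_d L6844) q475, e3 q771 (flp_d L14023) q1200, e3 q772 (flp_d L14010) q1199, e3 q773 L6869 q478, e3 q774 (flp_d L14050) q1204, e3 q775 (flp_d L6881) q479, e3 q776 (flp_d L14099) q1208, e3 q777 (flp_d L14086) q1207, e3 q778 L6906 q482, e3 q779 (flp_d L14128) q1212, e3 q780 L131708 q484, e3 q781 L142216 q1190, e3 q782 (flp_d L142163) q1189, e3 q783 L142141 q486, e3 q784 L142173 q1197, e3 q785 (flp_d L142127) q1196, e3 q786 (flp_d L7631) q489, e3 q787 (flp_d L71722) q937, e3 q788 (flp_d L7645) q490, e3 q789 L15643 q1219, e3 q790 L15794 q1221, e3 q791 L7759 q493, e3 q792 L7767 q494, e3 q793 L7801 q543, e3 q794 L7809 q544, e3 q795 L7817 q545, e3 q796 (flp_d L8511) q498, e3 q797 (flp_d L17481) q1230, e3 q798 (flp_d L17489) q1231, e3 q799 L8535 q504, e3 q800 L8539 q505, e3 q801 (flp_d L10157) q965, e3 q802 L8549 q502, e3 q803 L8555 q503, e3 q804 (flp_d L17541) q1237, e3 q805 (flp_d L17545) q1238, e3 q806 L17641 q1240, e3 q807 L8593 q507, e3 q808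 L8599 q508, e3 q809 (flp_d L17658) q1243, e3 q810 (flp_d L17666) q1244, e3 q811 (flp_d L17674) q1245, e3 q812 (flp_d L17684) q1246, e3 q813 L8643 q522, e3 q814 L8647 q523, e3 q815 L8661 q526, e3 q816 L8665 q527, e3 q817 L17808 q1252, e3 q818 (flp_d L8671) q513, e3 q819 (flp_d L17824) q1256, e3 q820 (flp_d L17828) q1257, e3 q821 L8683 q516, e3 q822 L8689 q517, e3 q823 L8695 q518, e3 q824 L8703 q519, e3 q825 (flp_d L17850) q1262, e3 q826 L17896 q1271, e3 q827 (flp_d L17860) q1264, e3 q828 (flp_d L17864) q1265, e3 q829 (flp_d L17868) q1266, e3 q830 L17942 q1275, e3 q831 (flp_d L17878) q1268, trivial⟩ (by decide +kernel)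

theorem ce_d_13 : ∀ r, r < 64 → sm gd (Qf (832 + r)) = Qf (tab Gen.d (832 + r)) :=
  edges_tab (sm gd) Qf (tab Gen.d) 832 [(832, 1269), (833, 1279), (834, 521), (835, 1215), (836, 1281), (837, 1283), (838, 525), (839, 1216), (840, 1285), (841, 1287), (842, 528), (843, 1290), (844, 1291), (845, 531), (846, 532), (847, 533), (848, 534), (849, 1296), (850, 1305), (851, 1298), (852, 1299), (853, 1300), (854, 1311), (855, 1302), (856, 1303), (857, 558), (858, 563), (859, 562), (860, 564), (861, 958), (862, 566), (863, 571), (864, 570), (865, 572), (866, 960), (867, 1224), (868, 1225), (869, 1226), (870, 1227), (871, 873), (872, 1228), (873, 871), (874, 550), (875, 1339), (876, 552), (877, 553), (878, 554), (879, 1347), (880, 556), (881, 557), (882, 1337), (883, 1353), (884, 551), (885, 1356), (886, 1341), (887, 1342), (888, 1343), (889, 1362), (890, 1345), (891, 1363), (892, 555), (893, 1366), (894, 1349), (895, 1350)]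
    ⟨e3 q832 (flp_d L17882) q1269, e3 q833 L17989 q1279, e3 q834 (flp_d L8759) q521, e3 q835 L139870 q1215, e3 q836 L18035 q1281, e3 q837 L18061 q1283, e3 q838 (flp_d L8791) q525, e3 q839 L142088 q1216, e3 q840 L18119 q1285, e3 q841 L18393 q1287, e3 q842 (flp_d L8933) q528, e3 q843 (flp_d L18407) q1290, e3 q844 (flp_d L18411) q1291, e3 q845 L8949 q531, e3 q846 L8955 q532, e3 q847 L8963 q533, e3 q848 L8971 q534, e3 q849 (flp_d L18441) q1296, e3 q850 L18501 q1305, e3 q851 (flp_d L18451) q1298, e3 q852 (flp_d L18457) q1299, e3 q853 (flp_d L18463) q1300, e3 q854 L18555 q1311, e3 q855 (flp_d L18473) q1302, e3 q856 (flp_d L18479) q1303, e3 q857 L9011 q558, e3 q858 L69512 q563, e3 q859 L9033 q562, e3 q860 L9047 q564, e3 q861 (flp_d L141660) q958, e3 q862 L9059 q566, e3 q863 L82528 q571, e3 q864 L9081 q570, e3 q865 L9095 q572, e3 q866 (flp_d L132594) q960, e3 q867 (flp_d L15914) q1224, e3 q868 (flp_d L15918) q1225, e3 q869 (flp_d L15922) q1226, e3 q870 (flp_d L15926) q1227, e3 q871 (flp_d L9127) q873, e3 q872 (flp_d L15930)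 q1228, e3 q873 L9127 q871, e3 q874 L9133 q550, e3 q875 L18853 q1339, e3 q876 L9139 q552, e3 q877 L9143 q553, e3 q878 L9147 q554, e3 q879 L18901 q1347, e3 q880 L9153 q556, e3 q881 L9157 q557, e3 q882 (flp_d L18839) q1337, e3 q883 L18953 q1353, e3 q884 (flp_d L9177) q551, e3 q885 (flp_d L18981) q1356, e3 q886 (flp_d L18861) q1341, e3 q887 (flp_d L18869) q1342, e3 q888 (flp_d L18875) q1343, e3 q889 L19037 q1362, e3 q890 (flp_d L18887) q1345, e3 q891 L19077 q1363, e3 q892 (flp_d L9235) q555, e3 q893 (flp_d L19105) q1366, e3 q894 (flp_d L18909) q1349, e3 q895 (flp_d L18917) q1350, trivial⟩ (by decide +kernel)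

theorem ce_d_14 : ∀ r, r < 64 → sm gd (Qf (896 + r)) = Qf (tab Gen.d (896 + r)) :=
  edges_tab (sm gd) Qf (tab Gen.d) 896 [(896, 1351), (897, 1372), (898, 559), (899, 1355), (900, 561), (901, 1375), (902, 1376), (903, 1316), (904, 1186), (905, 620), (906, 565), (907, 567), (908, 1365), (909, 569), (910, 1381), (911, 1382), (912, 1319), (913, 1193), (914, 623), (915, 573), (916, 1080), (917, 580), (918, 575), (919, 1389), (920, 576), (921, 1085), (922, 584), (923, 578), (924, 1398), (925, 579), (926, 1388), (927, 582), (928, 929), (929, 928), (930, 1393), (931, 1397), (932, 586), (933, 934), (934, 933), (935, 1402), (936, 588), (937, 787), (938, 589), (939, 1407), (940, 1409), (941, 592), (942, 593), (943, 1413), (944, 594), (945, 1417), (946, 1418), (947, 1421), (948, 597), (949, 1425), (950, 1426), (951, 600), (952, 601), (953, 602), (954, 603), (955, 1432), (956, 1434), (957, 619), (958, 861), (959, 622)]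
    ⟨e3 q896 (flp_d L18923) q1351, e3 q897 L19161 q1372, e3 q898 (flp_d L9285) q559, e3 q899 (flp_d L18977) q1355, e3 q900 L9309 q561, e3 q901 (flp_d L19285) q1375, e3 q902 (flp_d L19293) q1376, e3 q903 (flp_d L18643) q1316, e3 q904 L141914 q1186, e3 q905 (flp_d L141713) q620, e3 q906 (flp_d L9347) q565, e3 q907 (flp_d L9373) q567, e3 q908 (flp_d L19101) q1365, e3 q909 L9395 q569, e3 q910 (flp_d L19483) q1381, e3 q911 (flp_d L19491) q1382, e3 q912 (flp_d L18741) q1319, e3 q913 L133331 q1193, e3 q914 L141191 q623, e3 q915 (flp_d L9433) q573, e3 q916 (flp_d L11776) q1080, e3 q917 L9457 q580, e3 q918 L9461 q575, e3 q919 (flp_d L19611) q1389, e3 q920 (flp_d L9467) q576, e3 q921 L65501 q1085, e3 q922 L9492 q584, e3 q923 L9496 q578, e3 q924 (flp_d L19702) q1398, e3 q925 (flp_d L9506) q579, e3 q926 (flp_d L19605) q1388, e3 q927 L9522 q582, e3 q928 (flp_d L141895) q929, e3 q929 L141895 q928, e3 q930 (flp_d L19639) q1393, e3 q931 (flp_d L19694) q1397, e3 q932 L9585 q586, e3 q933 L141904 q934, e3 q934 (flp_d L141904) q933,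 e3 q935 (flp_d L19736) q1402, e3 q936 (flp_d L9703) q588, e3 q937 L71722 q787, e3 q938 (flp_d L9723) q589, e3 q939 L20227 q1407, e3 q940 L20379 q1409, e3 q941 L9823 q592, e3 q942 L9831 q593, e3 q943 L20515 q1413, e3 q944 (flp_d L9867) q594, e3 q945 (flp_d L20535) q1417, e3 q946 (flp_d L20543) q1418, e3 q947 (flp_d L72281) q1421, e3 q948 (flp_d L9971) q597, e3 q949 (flp_d L20751) q1425, e3 q950 (flp_d L20755) q1426, e3 q951 L9987 q600, e3 q952 L9995 q601, e3 q953 L10003 q602, e3 q954 L10013 q603, e3 q955 (flp_d L20805) q1432, e3 q956 (flp_d L20831) q1434, e3 q957 L10088 q619, e3 q958 L141660 q861, e3 q959 L10126 q622, trivial⟩ (by decide +kernel)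

theorem ce_d_15 : ∀ r, r < 64 → sm gd (Qf (960 + r)) = Qf (tab Gen.d (960 + r)) :=
  edges_tab (sm gd) Qf (tab Gen.d) 960 [(960, 866), (961, 1441), (962, 606), (963, 1444), (964, 1445), (965, 801), (966, 1424), (967, 608), (968, 609), (969, 1455), (970, 1456), (971, 1457), (972, 1458), (973, 1467), (974, 615), (975, 1470), (976, 617), (977, 614), (978, 1468), (979, 1475), (980, 616), (981, 1471), (982, 1478), (983, 1474), (984, 1477), (985, 1480), (986, 624), (987, 1484), (988, 1485), (989, 626), (990, 627), (991, 1490), (992, 1491), (993, 630), (994, 1500), (995, 632), (996, 633), (997, 1504), (998, 635), (999, 1499), (1000, 631), (1001, 1503), (1002, 634), (1003, 725), (1004, 726), (1005, 727), (1006, 728), (1007, 729), (1008, 730), (1009, 731), (1010, 732), (1011, 1525), (1012, 734), (1013, 736), (1014, 1531), (1015, 738), (1016, 1535), (1017, 650), (1018, 644), (1019, 1539), (1020, 1542), (1021, 654), (1022, 647), (1023, 1546)]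
    ⟨e3 q960 L132594 q866, e3 q961 L21091 q1441, e3 q962 (flp_d L10141) q606, e3 q963 (flp_d L21115) q1444, e3 q964 (flp_d L21119) q1445, e3 q965 L10157 q801, e3 q966 (flp_d L20747) q1424, e3 q967 L10163 q608, e3 q968 L10167 q609, e3 q969 (flp_d L21179) q1455, e3 q970 (flp_d L21183) q1456, e3 q971 (flp_d L21189) q1457, e3 q972 (flp_d L21195) q1458, e3 q973 L21229 q1467, e3 q974 L10203 q615, e3 q975 L21265 q1470, e3 q976 L10221 q617, e3 q977 (flp_d L10237) q614, e3 q978 (flp_d L21245) q1468, e3 q979 L21363 q1475, e3 q980 (flp_d L10279) q616, e3 q981 (flp_d L21281) q1471, e3 q982 L21458 q1478, e3 q983 (flp_d L21321) q1474, e3 q984 (flp_d L21414) q1477, e3 q985 L21702 q1480, e3 q986 (flp_d L10467) q624, e3 q987 (flp_d L21727) q1484, e3 q988 (flp_d L21733) q1485, e3 q989 L10486 q626, e3 q990 L10495 q627, e3 q991 (flp_d L21765) q1490, e3 q992 (flp_d L21771) q1491, e3 q993 L10509 q630, e3 q994 L21825 q1500, e3 q995 L10519 q632, e3 q996 L10525 q633, e3 q997 L21865 q1504, e3 q998 L10535 q635, e3 q999 (flp_d L21819) q1499,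 e3 q1000 (flp_d L10557) q631, e3 q1001 (flp_d L21859) q1503, e3 q1002 (flp_d L10593) q634, e3 q1003 L10735 q725, e3 q1004 L10741 q726, e3 q1005 L10747 q727, e3 q1006 L10751 q728, e3 q1007 L10757 q729, e3 q1008 L10763 q730, e3 q1009 L10771 q731, e3 q1010 L10777 q732, e3 q1011 L22373 q1525, e3 q1012 L10785 q734, e3 q1013 L10789 q736, e3 q1014 L22405 q1531, e3 q1015 L10797 q738, e3 q1016 L22439 q1535, e3 q1017 L10811 q650, e3 q1018 (flp_d L10815) q644, e3 q1019 (flp_d L22461) q1539, e3 q1020 L22495 q1542, e3 q1021 L10841 q654, e3 q1022 (flp_d L10845) q647, e3 q1023 (flp_d L22517) q1546, trivial⟩ (by decide +kernel)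

theorem ce_d_16 : ∀ r, r < 64 → sm gd (Qf (1024 + r)) = Qf (tab Gen.d (1024 + r)) :=
  edges_tab (sm gd) Qf (tab Gen.d) 1024 [(1024, 1548), (1025, 649), (1026, 1551), (1027, 1553), (1028, 660), (1029, 652), (1030, 1557), (1031, 1559), (1032, 653), (1033, 1562), (1034, 1564), (1035, 666), (1036, 656), (1037, 1568), (1038, 1550), (1039, 1556), (1040, 662), (1041, 1194), (1042, 1561), (1043, 1567), (1044, 668), (1045, 1187), (1046, 670), (1047, 681), (1048, 1572), (1049, 1578), (1050, 1401), (1051, 682), (1052, 673), (1053, 674), (1054, 1584), (1055, 1586), (1056, 1587), (1057, 676), (1058, 688), (1059, 1589), (1060, 1595), (1061, 1392), (1062, 689), (1063, 679), (1064, 680), (1065, 1601), (1066, 1603), (1067, 1604), (1068, 1582), (1069, 1583), (1070, 685), (1071, 692), (1072, 1377), (1073, 1599), (1074, 1600), (1075, 1383), (1076, 1608), (1077, 696), (1078, 1610), (1079, 698), (1080, 916), (1081, 1613), (1082, 701), (1083, 1615), (1084, 703), (1085, 921), (1086, 1620), (1087, 705)]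
    ⟨e3 q1024 L22600 q1548, e3 q1025 (flp_d L10882) q649, e3 q1026 (flp_d L22625) q1551, e3 q1027 L22649 q1553, e3 q1028 L10906 q660, e3 q1029 L10910 q652, e3 q1030 (flp_d L22671) q1557, e3 q1031 L22774 q1559, e3 q1032 (flp_d L10954) q653, e3 q1033 (flp_d L22802) q1562, e3 q1034 L22826 q1564, e3 q1035 L10978 q666, e3 q1036 L10982 q656, e3 q1037 (flp_d L22848) q1568, e3 q1038 (flp_d L22619) q1550, e3 q1039 (flp_d L22665) q1556, e3 q1040 L11121 q662, e3 q1041 L142191 q1194, e3 q1042 (flp_d L22796) q1561, e3 q1043 (flp_d L22842) q1567, e3 q1044 L11256 q668, e3 q1045 L142098 q1187, e3 q1046 L11318 q670, e3 q1047 L11324 q681, e3 q1048 (flp_d L23495) q1572, e3 q1049 L23513 q1578, e3 q1050 (flp_d L19726) q1401, e3 q1051 L11338 q682, e3 q1052 L11344 q673, e3 q1053 L11350 q674, e3 q1054 (flp_d L23551) q1584, e3 q1055 (flp_d L23557) q1586, e3 q1056 (flp_d L23561) q1587, e3 q1057 L11400 q676, e3 q1058 L11406 q688, e3 q1059 (flp_d L23699) q1589, e3 q1060 L23717 q1595, e3 q1061 (flp_d L19631) q1392, e3 q1062 L11420 q689, e3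 q1063 L11426 q679, e3 q1064 L11432 q680, e3 q1065 (flp_d L23755) q1601, e3 q1066 (flp_d L23761) q1603, e3 q1067 (flp_d L23765) q1604, e3 q1068 (flp_d L23535) q1582, e3 q1069 (flp_d L23543) q1583, e3 q1070 L11531 q685, e3 q1071 (flp_d L83120) q692, e3 q1072 L142180 q1377, e3 q1073 (flp_d L23739) q1599, e3 q1074 (flp_d L23747) q1600, e3 q1075 (flp_d L141930) q1383, e3 q1076 L24432 q1608, e3 q1077 (flp_d L11752) q696, e3 q1078 (flp_d L24447) q1610, e3 q1079 (flp_d L11762) q698, e3 q1080 L11776 q916, e3 q1081 L24609 q1613, e3 q1082 (flp_d L11845) q701, e3 q1083 (flp_d L24647) q1615, e3 q1084 (flp_d L11875) q703, e3 q1085 (flp_d L65501) q921, e3 q1086 L24869 q1620, e3 q1087 (flp_d L11972) q705, trivial⟩ (by decide +kernel)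

theorem ce_d_17 : ∀ r, r < 64 → sm gd (Qf (1088 + r)) = Qf (tab Gen.d (1088 + r)) :=
  edges_tab (sm gd) Qf (tab Gen.d) 1088 [(1088, 1624), (1089, 1625), (1090, 1628), (1091, 707), (1092, 708), (1093, 1631), (1094, 1632), (1095, 1633), (1096, 1634), (1097, 711), (1098, 712), (1099, 713), (1100, 714), (1101, 1643), (1102, 1654), (1103, 1645), (1104, 1646), (1105, 1647), (1106, 1664), (1107, 1649), (1108, 1650), (1109, 715), (1110, 1671), (1111, 721), (1112, 1676), (1113, 718), (1114, 1677), (1115, 722), (1116, 1682), (1117, 1674), (1118, 1680), (1119, 759), (1120, 1317), (1121, 765), (1122, 1320), (1123, 1508), (1124, 1692), (1125, 1510), (1126, 1511), (1127, 1512), (1128, 1513), (1129, 1514), (1130, 1707), (1131, 1516), (1132, 1517), (1133, 1518), (1134, 1715), (1135, 1520), (1136, 1521), (1137, 1522), (1138, 1726), (1139, 1524), (1140, 733), (1141, 1731), (1142, 1156), (1143, 1527), (1144, 1154), (1145, 1741), (1146, 1152), (1147, 1528), (1148, 1749), (1149, 1530), (1150, 737), (1151, 1754)]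
    ⟨e3 q1088 (flp_d L24889) q1624, e3 q1089 (flp_d L24895) q1625, e3 q1090 L24905 q1628, e3 q1091 L11995 q707, e3 q1092 L11999 q708, e3 q1093 (flp_d L24918) q1631, e3 q1094 (flp_d L24924) q1632, e3 q1095 (flp_d L24930) q1633, e3 q1096 (flp_d L24938) q1634, e3 q1097 L12031 q711, e3 q1098 L12036 q712, e3 q1099 L12042 q713, e3 q1100 L12049 q714, e3 q1101 (flp_d L24986) q1643, e3 q1102 L25034 q1654, e3 q1103 (flp_d L24993) q1645, e3 q1104 (flp_d L24997) q1646, e3 q1105 (flp_d L25001) q1647, e3 q1106 L25092 q1664, e3 q1107 (flp_d L25008) q1649, e3 q1108 (flp_d L25012) q1650, e3 q1109 (flp_d L12114) q715, e3 q1110 (flp_d L80344) q1671, e3 q1111 L12133 q721, e3 q1112 L25238 q1676, e3 q1113 (flp_d L12172) q718, e3 q1114 L79744 q1677, e3 q1115 L12191 q722, e3 q1116 L25362 q1682, e3 q1117 (flp_d L25218) q1674, e3 q1118 (flp_d L25342) q1680, e3 q1119 L12555 q759, e3 q1120 L141669 q1317, e3 q1121 L12747 q765, e3 q1122 L141657 q1320, e3 q1123 (flp_d L22299) q1508, e3 q1124 L26660 q1692, e3 q1125 (flp_d L22307) q1510, e3 q1126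 (flp_d L22311) q1511, e3 q1127 (flp_d L22315) q1512, e3 q1128 (flp_d L22319) q1513, e3 q1129 (flp_d L22323) q1514, e3 q1130 L26711 q1707, e3 q1131 (flp_d L22333) q1516, e3 q1132 (flp_d L22337) q1517, e3 q1133 (flp_d L22341) q1518, e3 q1134 L26741 q1715, e3 q1135 (flp_d L22351) q1520, e3 q1136 (flp_d L22355) q1521, e3 q1137 (flp_d L22359) q1522, e3 q1138 L26773 q1726, e3 q1139 (flp_d L22369) q1524, e3 q1140 (flp_d L12866) q733, e3 q1141 (flp_d L26795) q1731, e3 q1142 (flp_d L12936) q1156, e3 q1143 (flp_d L22385) q1527, e3 q1144 (flp_d L12928) q1154, e3 q1145 L26833 q1741, e3 q1146 (flp_d L12916) q1152, e3 q1147 (flp_d L22391) q1528, e3 q1148 L26857 q1749, e3 q1149 (flp_d L22401) q1530, e3 q1150 (flp_d L12906) q737, e3 q1151 (flp_d L26879) q1754, trivial⟩ (by decide +kernel)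

theorem ce_d_18 : ∀ r, r < 64 → sm gd (Qf (1152 + r)) = Qf (tab Gen.d (1152 + r)) :=
  edges_tab (sm gd) Qf (tab Gen.d) 1152 [(1152, 1146), (1153, 1533), (1154, 1144), (1155, 1764), (1156, 1142), (1157, 1672), (1158, 741), (1159, 1768), (1160, 1772), (1161, 751), (1162, 1776), (1163, 744), (1164, 1678), (1165, 746), (1166, 1780), (1167, 1784), (1168, 755), (1169, 1788), (1170, 749), (1171, 750), (1172, 1773), (1173, 1795), (1174, 1797), (1175, 752), (1176, 1802), (1177, 763), (1178, 754), (1179, 1785), (1180, 1808), (1181, 1810), (1182, 756), (1183, 1815), (1184, 769), (1185, 1792), (1186, 904), (1187, 1045), (1188, 760), (1189, 782), (1190, 781), (1191, 1800), (1192, 1805), (1193, 913), (1194, 1041), (1195, 766), (1196, 785), (1197, 784), (1198, 1813), (1199, 772), (1200, 771), (1201, 1821), (1202, 1819), (1203, 1820), (1204, 774), (1205, 1826), (1206, 1828), (1207, 777), (1208, 776), (1209, 1832), (1210, 1830), (1211, 1831), (1212, 779), (1213, 1837), (1214, 1839), (1215, 835)]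
    ⟨e3 q1152 L12916 q1146, e3 q1153 (flp_d L22417) q1533, e3 q1154 L12928 q1144, e3 q1155 L26925 q1764, e3 q1156 L12936 q1142, e3 q1157 (flp_d L25186) q1672, e3 q1158 L12981 q741, e3 q1159 (flp_d L27039) q1768, e3 q1160 L27059 q1772, e3 q1161 L13001 q751, e3 q1162 L27085 q1776, e3 q1163 (flp_d L13015) q744, e3 q1164 (flp_d L25310) q1678, e3 q1165 L13070 q746, e3 q1166 (flp_d L27229) q1780, e3 q1167 L27249 q1784, e3 q1168 L13090 q755, e3 q1169 L27277 q1788, e3 q1170 (flp_d L13104) q749, e3 q1171 (flp_d L13198) q750, e3 q1172 (flp_d L27069) q1773, e3 q1173 L27538 q1795, e3 q1174 L27560 q1797, e3 q1175 (flp_d L13231) q752, e3 q1176 L27608 q1802, e3 q1177 L13259 q763, e3 q1178 (flp_d L13369) q754, e3 q1179 (flp_d L27259) q1785, e3 q1180 L27872 q1808, e3 q1181 L27892 q1810, e3 q1182 (flp_d L13404) q756, e3 q1183 L27940 q1815, e3 q1184 L13432 q769, e3 q1185 (flp_d L27505) q1792, e3 q1186 (flp_d L141914) q904, e3 q1187 (flp_d L142098) q1045, e3 q1188 (flp_d L13624) q760, e3 q1189 L142163 q782, e3 q1190 (flp_d L142216)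 q781, e3 q1191 (flp_d L27582) q1800, e3 q1192 (flp_d L27839) q1805, e3 q1193 (flp_d L133331) q913, e3 q1194 (flp_d L142191) q1041, e3 q1195 (flp_d L13888) q766, e3 q1196 L142127 q785, e3 q1197 (flp_d L142173) q784, e3 q1198 (flp_d L27914) q1813, e3 q1199 L14010 q772, e3 q1200 L14023 q771, e3 q1201 (flp_d L29065) q1821, e3 q1202 (flp_d L29034) q1819, e3 q1203 (flp_d L29049) q1820, e3 q1204 L14050 q774, e3 q1205 (flp_d L29107) q1826, e3 q1206 (flp_d L29113) q1828, e3 q1207 L14086 q777, e3 q1208 L14099 q776, e3 q1209 (flp_d L29231) q1832, e3 q1210 (flp_d L29200) q1830, e3 q1211 (flp_d L29215) q1831, e3 q1212 L14128 q779, e3 q1213 (flp_d L29277) q1837, e3 q1214 (flp_d L29283) q1839, e3 q1215 (flp_d L139870) q835, trivial⟩ (by decide +kernel)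

theorem ce_d_19 : ∀ r, r < 64 → sm gd (Qf (1216 + r)) = Qf (tab Gen.d (1216 + r)) :=
  edges_tab (sm gd) Qf (tab Gen.d) 1216 [(1216, 839), (1217, 1405), (1218, 1843), (1219, 789), (1220, 1847), (1221, 790), (1222, 1850), (1223, 1851), (1224, 867), (1225, 868), (1226, 869), (1227, 870), (1228, 872), (1229, 1865), (1230, 797), (1231, 798), (1232, 1868), (1233, 1869), (1234, 1450), (1235, 1451), (1236, 1452), (1237, 804), (1238, 805), (1239, 1878), (1240, 806), (1241, 1881), (1242, 1882), (1243, 809), (1244, 810), (1245, 811), (1246, 812), (1247, 1888), (1248, 1889), (1249, 1891), (1250, 1892), (1251, 1894), (1252, 817), (1253, 1899), (1254, 1900), (1255, 1870), (1256, 819), (1257, 820), (1258, 1907), (1259, 1908), (1260, 1909), (1261, 1910), (1262, 825), (1263, 1920), (1264, 827), (1265, 828), (1266, 829), (1267, 1924), (1268, 831), (1269, 832), (1270, 1928), (1271, 826), (1272, 1931), (1273, 1932), (1274, 1934), (1275, 830), (1276, 1937), (1277, 1938), (1278, 1939), (1279, 833)]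
    ⟨e3 q1216 (flp_d L142088) q839, e3 q1217 L71931 q1405, e3 q1218 L32488 q1843, e3 q1219 (flp_d L15643) q789, e3 q1220 L32814 q1847, e3 q1221 (flp_d L15794) q790, e3 q1222 (flp_d L32832) q1850, e3 q1223 (flp_d L32840) q1851, e3 q1224 L15914 q867, e3 q1225 L15918 q868, e3 q1226 L15922 q869, e3 q1227 L15926 q870, e3 q1228 L15930 q872, e3 q1229 (flp_d L72368) q1865, e3 q1230 L17481 q797, e3 q1231 L17489 q798, e3 q1232 (flp_d L36502) q1868, e3 q1233 (flp_d L36508) q1869, e3 q1234 (flp_d L21145) q1450, e3 q1235 (flp_d L21159) q1451, e3 q1236 (flp_d L21167) q1452, e3 q1237 L17541 q804, e3 q1238 L17545 q805, e3 q1239 L36794 q1878, e3 q1240 (flp_d L17641) q806, e3 q1241 (flp_d L36818) q1881, e3 q1242 (flp_d L36823) q1882, e3 q1243 L17658 q809, e3 q1244 L17666 q810, e3 q1245 L17674 q811, e3 q1246 L17684 q812, e3 q1247 (flp_d L36867) q1888, e3 q1248 (flp_d L36873) q1889, e3 q1249 (flp_d L36893) q1891, e3 q1250 (flp_d L36899) q1892, e3 q1251 L37159 q1894, e3 q1252 (flp_d L17808) q817, e3 q1253 (flp_d L37183) q1899, e3 q1254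 (flp_d L37187) q1900, e3 q1255 L72379 q1870, e3 q1256 L17824 q819, e3 q1257 L17828 q820, e3 q1258 (flp_d L37221) q1907, e3 q1259 (flp_d L37227) q1908, e3 q1260 (flp_d L37233) q1909, e3 q1261 (flp_d L37241) q1910, e3 q1262 L17850 q825, e3 q1263 L37275 q1920, e3 q1264 L17860 q827, e3 q1265 L17864 q828, e3 q1266 L17868 q829, e3 q1267 L37311 q1924, e3 q1268 L17878 q831, e3 q1269 L17882 q832, e3 q1270 L37364 q1928, e3 q1271 (flp_d L17896) q826, e3 q1272 (flp_d L37384) q1931, e3 q1273 L37426 q1932, e3 q1274 L37470 q1934, e3 q1275 (flp_d L17942) q830, e3 q1276 (flp_d L37490) q1937, e3 q1277 L37544 q1938, e3 q1278 L37611 q1939, e3 q1279 (flp_d L17989) q833, trivial⟩ (by decide +kernel)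

theorem ce_d_20 : ∀ r, r < 64 → sm gd (Qf (1280 + r)) = Qf (tab Gen.d (1280 + r)) :=
  edges_tab (sm gd) Qf (tab Gen.d) 1280 [(1280, 1930), (1281, 836), (1282, 1942), (1283, 837), (1284, 1936), (1285, 840), (1286, 1946), (1287, 841), (1288, 1950), (1289, 1951), (1290, 843), (1291, 844), (1292, 1956), (1293, 1957), (1294, 1958), (1295, 1959), (1296, 849), (1297, 1970), (1298, 851), (1299, 852), (1300, 853), (1301, 1978), (1302, 855), (1303, 856), (1304, 1968), (1305, 850), (1306, 1973), (1307, 1972), (1308, 1974), (1309, 1988), (1310, 1976), (1311, 854), (1312, 1981), (1313, 1980), (1314, 1982), (1315, 1993), (1316, 903), (1317, 1120), (1318, 1439), (1319, 912), (1320, 1122), (1321, 1440), (1322, 1854), (1323, 1855), (1324, 1856), (1325, 1857), (1326, 1858), (1327, 1859), (1328, 1860), (1329, 1861), (1330, 2012), (1331, 1862), (1332, 1336), (1333, 1863), (1334, 2022), (1335, 1864), (1336, 1332), (1337, 882), (1338, 2031), (1339, 875), (1340, 2034), (1341, 886), (1342, 887), (1343, 888)]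
    ⟨e3 q1280 (flp_d L37380) q1930, e3 q1281 (flp_d L18035) q836, e3 q1282 L37970 q1942, e3 q1283 (flp_d L18061) q837, e3 q1284 (flp_d L37486) q1936, e3 q1285 (flp_d L18119) q840, e3 q1286 L38664 q1946, e3 q1287 (flp_d L18393) q841, e3 q1288 (flp_d L38684) q1950, e3 q1289 (flp_d L38688) q1951, e3 q1290 L18407 q843, e3 q1291 L18411 q844, e3 q1292 (flp_d L38718) q1956, e3 q1293 (flp_d L38722) q1957, e3 q1294 (flp_d L38728) q1958, e3 q1295 (flp_d L38734) q1959, e3 q1296 L18441 q849, e3 q1297 L38798 q1970, e3 q1298 L18451 q851, e3 q1299 L18457 q852, e3 q1300 L18463 q853, e3 q1301 L38864 q1978, e3 q1302 L18473 q855, e3 q1303 L18479 q856, e3 q1304 (flp_d L38778) q1968, e3 q1305 (flp_d L18501) q850, e3 q1306 L69319 q1973, e3 q1307 (flp_d L38808) q1972, e3 q1308 (flp_d L38826) q1974, e3 q1309 L39008 q1988, e3 q1310 (flp_d L38844) q1976, e3 q1311 (flp_d L18555) q854, e3 q1312 L77433 q1981, e3 q1313 (flp_d L38874) q1980, e3 q1314 (flp_d L38892) q1982, e3 q1315 L39124 q1993, e3 q1316 L18643 q903, e3 q1317 (flp_d L141669) q1120,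 e3 q1318 L132431 q1439, e3 q1319 L18741 q912, e3 q1320 (flp_d L141657) q1122, e3 q1321 L141593 q1440, e3 q1322 (flp_d L33068) q1854, e3 q1323 (flp_d L33074) q1855, e3 q1324 (flp_d L33080) q1856, e3 q1325 (flp_d L33084) q1857, e3 q1326 (flp_d L33090) q1858, e3 q1327 (flp_d L33096) q1859, e3 q1328 (flp_d L33104) q1860, e3 q1329 (flp_d L33110) q1861, e3 q1330 L39623 q2012, e3 q1331 (flp_d L33118) q1862, e3 q1332 (flp_d L18835) q1336, e3 q1333 (flp_d L33122) q1863, e3 q1334 L39663 q2022, e3 q1335 (flp_d L33130) q1864, e3 q1336 L18835 q1332, e3 q1337 L18839 q882, e3 q1338 L39713 q2031, e3 q1339 (flp_d L18853) q875, e3 q1340 (flp_d L39735) q2034, e3 q1341 L18861 q886, e3 q1342 L18869 q887, e3 q1343 L18875 q888, trivial⟩ (by decide +kernel)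

theorem ce_d_21 : ∀ r, r < 64 → sm gd (Qf (1344 + r)) = Qf (tab Gen.d (1344 + r)) :=
  edges_tab (sm gd) Qf (tab Gen.d) 1344 [(1344, 2040), (1345, 890), (1346, 2043), (1347, 879), (1348, 2046), (1349, 894), (1350, 895), (1351, 896), (1352, 2052), (1353, 883), (1354, 2056), (1355, 899), (1356, 885), (1357, 2060), (1358, 2061), (1359, 2037), (1360, 2065), (1361, 2066), (1362, 889), (1363, 891), (1364, 2072), (1365, 908), (1366, 893), (1367, 2076), (1368, 2077), (1369, 2049), (1370, 2081), (1371, 2082), (1372, 897), (1373, 2054), (1374, 2059), (1375, 901), (1376, 902), (1377, 1072), (1378, 2068), (1379, 2070), (1380, 2075), (1381, 910), (1382, 911), (1383, 1075), (1384, 2084), (1385, 1612), (1386, 2089), (1387, 1581), (1388, 926), (1389, 919), (1390, 2093), (1391, 2095), (1392, 1061), (1393, 930), (1394, 1617), (1395, 2102), (1396, 1598), (1397, 931), (1398, 924), (1399, 2106), (1400, 2108), (1401, 1050), (1402, 935), (1403, 2092), (1404, 2105), (1405, 1217), (1406, 2113), (1407, 939)]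
    ⟨e3 q1344 L39781 q2040, e3 q1345 L18887 q890, e3 q1346 L39811 q2043, e3 q1347 (flp_d L18901) q879, e3 q1348 (flp_d L39833) q2046, e3 q1349 L18909 q894, e3 q1350 L18917 q895, e3 q1351 L18923 q896, e3 q1352 L39879 q2052, e3 q1353 (flp_d L18953) q883, e3 q1354 L39987 q2056, e3 q1355 L18977 q899, e3 q1356 L18981 q885, e3 q1357 (flp_d L40009) q2060, e3 q1358 (flp_d L40017) q2061, e3 q1359 (flp_d L39749) q2037, e3 q1360 L40051 q2065, e3 q1361 L40101 q2066, e3 q1362 (flp_d L19037) q889, e3 q1363 (flp_d L19077) q891, e3 q1364 L40235 q2072, e3 q1365 L19101 q908, e3 q1366 L19105 q893, e3 q1367 (flp_d L40257) q2076, e3 q1368 (flp_d L40265) q2077, e3 q1369 (flp_d L39847) q2049, e3 q1370 L40297 q2081, e3 q1371 L40351 q2082, e3 q1372 (flp_d L19161) q897, e3 q1373 (flp_d L39955) q2054, e3 q1374 (flp_d L40003) q2059, e3 q1375 L19285 q901, e3 q1376 L19293 q902, e3 q1377 (flp_d L142180) q1072, e3 q1378 (flp_d L40125) q2068, e3 q1379 (flp_d L40213) q2070, e3 q1380 (flp_d L40251) q2075, e3 q1381 L19483 q910, e3 q1382 L19491 q911,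 e3 q1383 L141930 q1075, e3 q1384 (flp_d L40375) q2084, e3 q1385 (flp_d L24460) q1612, e3 q1386 L41278 q2089, e3 q1387 (flp_d L23529) q1581, e3 q1388 L19605 q926, e3 q1389 L19611 q919, e3 q1390 (flp_d L41298) q2093, e3 q1391 (flp_d L41304) q2095, e3 q1392 L19631 q1061, e3 q1393 L19639 q930, e3 q1394 (flp_d L65450) q1617, e3 q1395 L41414 q2102, e3 q1396 (flp_d L23733) q1598, e3 q1397 L19694 q931, e3 q1398 L19702 q924, e3 q1399 (flp_d L41436) q2106, e3 q1400 (flp_d L41442) q2108, e3 q1401 L19726 q1050, e3 q1402 L19736 q935, e3 q1403 (flp_d L41292) q2092, e3 q1404 (flp_d L41430) q2105, e3 q1405 (flp_d L71931) q1217, e3 q1406 L42500 q2113, e3 q1407 (flp_d L20227) q939, trivial⟩ (by decide +kernel)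

theorem ce_d_22 : ∀ r, r < 64 → sm gd (Qf (1408 + r)) = Qf (tab Gen.d (1408 + r)) :=
  edges_tab (sm gd) Qf (tab Gen.d) 1408 [(1408, 2117), (1409, 940), (1410, 2121), (1411, 2122), (1412, 2126), (1413, 943), (1414, 2131), (1415, 2132), (1416, 2120), (1417, 945), (1418, 946), (1419, 2139), (1420, 2140), (1421, 947), (1422, 2145), (1423, 2146), (1424, 966), (1425, 949), (1426, 950), (1427, 2153), (1428, 2154), (1429, 2155), (1430, 2156), (1431, 2165), (1432, 955), (1433, 2168), (1434, 956), (1435, 2166), (1436, 2172), (1437, 2169), (1438, 2174), (1439, 1318), (1440, 1321), (1441, 961), (1442, 2175), (1443, 2176), (1444, 963), (1445, 964), (1446, 2179), (1447, 2180), (1448, 2181), (1449, 2182), (1450, 1234), (1451, 1235), (1452, 1236), (1453, 2151), (1454, 2152), (1455, 969), (1456, 970), (1457, 971), (1458, 972), (1459, 2199), (1460, 2210), (1461, 2201), (1462, 2202), (1463, 2203), (1464, 2220), (1465, 2205), (1466, 2206), (1467, 973), (1468, 978), (1469, 2230), (1470, 975), (1471, 981)]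
    ⟨e3 q1408 L42656 q2117, e3 q1409 (flp_d L20379) q940, e3 q1410 (flp_d L42682) q2121, e3 q1411 (flp_d L42690) q2122, e3 q1412 L42896 q2126, e3 q1413 (flp_d L20515) q943, e3 q1414 (flp_d L42918) q2131, e3 q1415 (flp_d L42922) q2132, e3 q1416 (flp_d L42674) q2120, e3 q1417 L20535 q945, e3 q1418 L20543 q946, e3 q1419 (flp_d L42960) q2139, e3 q1420 (flp_d L42964) q2140, e3 q1421 L72281 q947, e3 q1422 (flp_d L72294) q2145, e3 q1423 (flp_d L72292) q2146, e3 q1424 L20747 q966, e3 q1425 L20751 q949, e3 q1426 L20755 q950, e3 q1427 (flp_d L43362) q2153, e3 q1428 (flp_d L43366) q2154, e3 q1429 (flp_d L43372) q2155, e3 q1430 (flp_d L43380) q2156, e3 q1431 L43434 q2165, e3 q1432 L20805 q955, e3 q1433 L43484 q2168, e3 q1434 L20831 q956, e3 q1435 (flp_d L43454) q2166, e3 q1436 L43599 q2172, e3 q1437 (flp_d L43504) q2169, e3 q1438 L43697 q2174, e3 q1439 (flp_d L132431) q1318, e3 q1440 (flp_d L141593) q1321, e3 q1441 (flp_d L21091) q961, e3 q1442 (flp_d L43980) q2175, e3 q1443 (flp_d L43988) q2176, e3 q1444 L21115 q963, e3 q1445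 L21119 q964, e3 q1446 (flp_d L44004) q2179, e3 q1447 (flp_d L44010) q2180, e3 q1448 (flp_d L44016) q2181, e3 q1449 (flp_d L44026) q2182, e3 q1450 L21145 q1234, e3 q1451 L21159 q1235, e3 q1452 L21167 q1236, e3 q1453 (flp_d L43350) q2151, e3 q1454 (flp_d L43356) q2152, e3 q1455 L21179 q969, e3 q1456 L21183 q970, e3 q1457 L21189 q971, e3 q1458 L21195 q972, e3 q1459 (flp_d L44129) q2199, e3 q1460 L44167 q2210, e3 q1461 (flp_d L44135) q2201, e3 q1462 (flp_d L44139) q2202, e3 q1463 (flp_d L44143) q2203, e3 q1464 L44207 q2220, e3 q1465 (flp_d L44149) q2205, e3 q1466 (flp_d L44153) q2206, e3 q1467 (flp_d L21229) q973, e3 q1468 L21245 q978, e3 q1469 L44300 q2230, e3 q1470 (flp_d L21265) q975, e3 q1471 L21281 q981, trivial⟩ (by decide +kernel)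

theorem ce_d_23 : ∀ r, r < 64 → sm gd (Qf (1472 + r)) = Qf (tab Gen.d (1472 + r)) :=
  edges_tab (sm gd) Qf (tab Gen.d) 1472 [(1472, 2234), (1473, 2236), (1474, 983), (1475, 979), (1476, 2240), (1477, 984), (1478, 982), (1479, 2244), (1480, 985), (1481, 2248), (1482, 2249), (1483, 1483), (1484, 987), (1485, 988), (1486, 2254), (1487, 2255), (1488, 2256), (1489, 2257), (1490, 991), (1491, 992), (1492, 2266), (1493, 2275), (1494, 2268), (1495, 2269), (1496, 2281), (1497, 2271), (1498, 2285), (1499, 999), (1500, 994), (1501, 2288), (1502, 2291), (1503, 1001), (1504, 997), (1505, 2294), (1506, 2297), (1507, 2299), (1508, 1123), (1509, 2130), (1510, 1125), (1511, 1126), (1512, 1127), (1513, 1128), (1514, 1129), (1515, 2316), (1516, 1131), (1517, 1132), (1518, 1133), (1519, 2324), (1520, 1135), (1521, 1136), (1522, 1137), (1523, 2334), (1524, 1139), (1525, 1011), (1526, 2339), (1527, 1143), (1528, 1147), (1529, 2347), (1530, 1149), (1531, 1014), (1532, 2352), (1533, 1153), (1534, 2357), (1535, 1016)]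
    ⟨e3 q1472 L44381 q2234, e3 q1473 L44414 q2236, e3 q1474 L21321 q983, e3 q1475 (flp_d L21363) q979, e3 q1476 L44575 q2240, e3 q1477 L21414 q984, e3 q1478 (flp_d L21458) q982, e3 q1479 L45114 q2244, e3 q1480 (flp_d L21702) q985, e3 q1481 (flp_d L45138) q2248, e3 q1482 (flp_d L45146) q2249, e3 q1483 L71937 q1483, e3 q1484 L21727 q987, e3 q1485 L21733 q988, e3 q1486 (flp_d L45175) q2254, e3 q1487 (flp_d L45183) q2255, e3 q1488 (flp_d L45191) q2256, e3 q1489 (flp_d L45201) q2257, e3 q1490 L21765 q991, e3 q1491 L21771 q992, e3 q1492 (flp_d L45249) q2266, e3 q1493 L45299 q2275, e3 q1494 (flp_d L45260) q2268, e3 q1495 (flp_d L45266) q2269, e3 q1496 L45335 q2281, e3 q1497 (flp_d L45277) q2271, e3 q1498 L45381 q2285, e3 q1499 L21819 q999, e3 q1500 (flp_d L21825) q994, e3 q1501 (flp_d L45409) q2288, e3 q1502 L45459 q2291, e3 q1503 L21859 q1001, e3 q1504 (flp_d L21865) q997, e3 q1505 (flp_d L45487) q2294, e3 q1506 L45625 q2297, e3 q1507 L45801 q2299, e3 q1508 L22299 q1123, e3 q1509 (flp_d L72438) q2130, e3 q1510 L22307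 q1125, e3 q1511 L22311 q1126, e3 q1512 L22315 q1127, e3 q1513 L22319 q1128, e3 q1514 L22323 q1129, e3 q1515 L46413 q2316, e3 q1516 L22333 q1131, e3 q1517 L22337 q1132, e3 q1518 L22341 q1133, e3 q1519 L46449 q2324, e3 q1520 L22351 q1135, e3 q1521 L22355 q1136, e3 q1522 L22359 q1137, e3 q1523 L46493 q2334, e3 q1524 L22369 q1139, e3 q1525 (flp_d L22373) q1011, e3 q1526 (flp_d L46517) q2339, e3 q1527 L22385 q1143, e3 q1528 L22391 q1147, e3 q1529 L46553 q2347, e3 q1530 L22401 q1149, e3 q1531 (flp_d L22405) q1014, e3 q1532 (flp_d L46577) q2352, e3 q1533 L22417 q1153, e3 q1534 L46647 q2357, e3 q1535 (flp_d L22439) q1016, trivial⟩ (by decide +kernel)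

theorem ce_d_24 : ∀ r, r < 64 → sm gd (Qf (1536 + r)) = Qf (tab Gen.d (1536 + r)) :=
  edges_tab (sm gd) Qf (tab Gen.d) 1536 [(1536, 2361), (1537, 1549), (1538, 2287), (1539, 1019), (1540, 2367), (1541, 2371), (1542, 1020), (1543, 2375), (1544, 1560), (1545, 2293), (1546, 1023), (1547, 2381), (1548, 1024), (1549, 1537), (1550, 1038), (1551, 1026), (1552, 2389), (1553, 1027), (1554, 2395), (1555, 2394), (1556, 1039), (1557, 1030), (1558, 2399), (1559, 1031), (1560, 1544), (1561, 1042), (1562, 1033), (1563, 2406), (1564, 1034), (1565, 2412), (1566, 2411), (1567, 1043), (1568, 1037), (1569, 2416), (1570, 2398), (1571, 2415), (1572, 1048), (1573, 2422), (1574, 2418), (1575, 2427), (1576, 2420), (1577, 2421), (1578, 1049), (1579, 2434), (1580, 2109), (1581, 1387), (1582, 1068), (1583, 1069), (1584, 1054), (1585, 2445), (1586, 1055), (1587, 1056), (1588, 2443), (1589, 1059), (1590, 2452), (1591, 2448), (1592, 2457), (1593, 2450), (1594, 2451), (1595, 1060), (1596, 2464), (1597, 2096), (1598, 1396), (1599, 1073)]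
    ⟨e3 q1536 (flp_d L46663) q2361, e3 q1537 L22613 q1549, e3 q1538 (flp_d L45405) q2287, e3 q1539 L22461 q1019, e3 q1540 (flp_d L46695) q2367, e3 q1541 L46775 q2371, e3 q1542 (flp_d L22495) q1020, e3 q1543 (flp_d L46791) q2375, e3 q1544 L22790 q1560, e3 q1545 (flp_d L45483) q2293, e3 q1546 L22517 q1023, e3 q1547 (flp_d L46823) q2381, e3 q1548 (flp_d L22600) q1024, e3 q1549 (flp_d L22613) q1537, e3 q1550 L22619 q1038, e3 q1551 L22625 q1026, e3 q1552 L47037 q2389, e3 q1553 (flp_d L22649) q1027, e3 q1554 L47069 q2395, e3 q1555 (flp_d L47067) q2394, e3 q1556 L22665 q1039, e3 q1557 L22671 q1030, e3 q1558 (flp_d L47107) q2399, e3 q1559 (flp_d L22774) q1031, e3 q1560 (flp_d L22790) q1544, e3 q1561 L22796 q1042, e3 q1562 L22802 q1033, e3 q1563 L47376 q2406, e3 q1564 (flp_d L22826) q1034, e3 q1565 L47408 q2412, e3 q1566 (flp_d L47406) q2411, e3 q1567 L22842 q1043, e3 q1568 L22848 q1037, e3 q1569 (flp_d L47446) q2416, e3 q1570 (flp_d L47089) q2398, e3 q1571 (flp_d L47428) q2415, e3 q1572 L23495 q1048, e3 q1573 L83831 q2422,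 e3 q1574 (flp_d L83814) q2418, e3 q1575 L83853 q2427, e3 q1576 (flp_d L83824) q2420, e3 q1577 (flp_d L83829) q2421, e3 q1578 (flp_d L23513) q1049, e3 q1579 (flp_d L83891) q2434, e3 q1580 (flp_d L41472) q2109, e3 q1581 L23529 q1387, e3 q1582 L23535 q1068, e3 q1583 L23543 q1069, e3 q1584 L23551 q1054, e3 q1585 L83951 q2445, e3 q1586 L23557 q1055, e3 q1587 L23561 q1056, e3 q1588 (flp_d L83943) q2443, e3 q1589 L23699 q1059, e3 q1590 L83987 q2452, e3 q1591 (flp_d L83970) q2448, e3 q1592 L84009 q2457, e3 q1593 (flp_d L83980) q2450, e3 q1594 (flp_d L83985) q2451, e3 q1595 (flp_d L23717) q1060, e3 q1596 (flp_d L84047) q2464, e3 q1597 (flp_d L41324) q2096, e3 q1598 L23733 q1396, e3 q1599 L23739 q1073, trivial⟩ (by decide +kernel)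

theorem ce_d_25 : ∀ r, r < 64 → sm gd (Qf (1600 + r)) = Qf (tab Gen.d (1600 + r)) :=
  edges_tab (sm gd) Qf (tab Gen.d) 1600 [(1600, 1074), (1601, 1065), (1602, 2475), (1603, 1066), (1604, 1067), (1605, 2473), (1606, 2441), (1607, 2471), (1608, 1076), (1609, 2480), (1610, 1078), (1611, 2433), (1612, 1385), (1613, 1081), (1614, 2488), (1615, 1083), (1616, 2463), (1617, 1394), (1618, 1949), (1619, 2497), (1620, 1086), (1621, 2500), (1622, 2501), (1623, 2507), (1624, 1088), (1625, 1089), (1626, 2510), (1627, 2511), (1628, 1090), (1629, 2518), (1630, 2519), (1631, 1093), (1632, 1094), (1633, 1095), (1634, 1096), (1635, 2524), (1636, 2534), (1637, 2526), (1638, 2527), (1639, 2528), (1640, 2542), (1641, 2530), (1642, 2531), (1643, 1101), (1644, 2551), (1645, 1103), (1646, 1104), (1647, 1105), (1648, 2561), (1649, 1107), (1650, 1108), (1651, 2548), (1652, 2573), (1653, 2550), (1654, 1102), (1655, 2578), (1656, 2553), (1657, 2554), (1658, 2555), (1659, 2588), (1660, 2557), (1661, 2558), (1662, 2596), (1663, 2560)]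
    ⟨e3 q1600 L23747 q1074, e3 q1601 L23755 q1065, e3 q1602 L84107 q2475, e3 q1603 L23761 q1066, e3 q1604 L23765 q1067, e3 q1605 (flp_d L84099) q2473, e3 q1606 (flp_d L83921) q2441, e3 q1607 (flp_d L84077) q2471, e3 q1608 (flp_d L24432) q1076, e3 q1609 L84191 q2480, e3 q1610 L24447 q1078, e3 q1611 (flp_d L83887) q2433, e3 q1612 L24460 q1385, e3 q1613 (flp_d L24609) q1081, e3 q1614 L84238 q2488, e3 q1615 L24647 q1083, e3 q1616 (flp_d L84043) q2463, e3 q1617 L65450 q1394, e3 q1618 (flp_d L84355) q1949, e3 q1619 L84289 q2497, e3 q1620 (flp_d L24869) q1086, e3 q1621 (flp_d L84308) q2500, e3 q1622 (flp_d L84312) q2501, e3 q1623 L84342 q2507, e3 q1624 L24889 q1088, e3 q1625 L24895 q1089, e3 q1626 (flp_d L84375) q2510, e3 q1627 (flp_d L84379) q2511, e3 q1628 (flp_d L24905) q1090, e3 q1629 (flp_d L84409) q2518, e3 q1630 (flp_d L84414) q2519, e3 q1631 L24918 q1093, e3 q1632 L24924 q1094, e3 q1633 L24930 q1095, e3 q1634 L24938 q1096, e3 q1635 (flp_d L84439) q2524, e3 q1636 L84485 q2534, e3 q1637 (flp_d L84449) q2526, e3 q1638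 (flp_d L84453) q2527, e3 q1639 (flp_d L84457) q2528, e3 q1640 L84529 q2542, e3 q1641 (flp_d L84467) q2530, e3 q1642 (flp_d L84471) q2531, e3 q1643 L24986 q1101, e3 q1644 L84577 q2551, e3 q1645 L24993 q1103, e3 q1646 L24997 q1104, e3 q1647 L25001 q1105, e3 q1648 L84627 q2561, e3 q1649 L25008 q1107, e3 q1650 L25012 q1108, e3 q1651 (flp_d L84563) q2548, e3 q1652 L84689 q2573, e3 q1653 (flp_d L84573) q2550, e3 q1654 (flp_d L25034) q1102, e3 q1655 (flp_d L84717) q2578, e3 q1656 (flp_d L84586) q2553, e3 q1657 (flp_d L84594) q2554, e3 q1658 (flp_d L84600) q2555, e3 q1659 L84773 q2588, e3 q1660 (flp_d L84607) q2557, e3 q1661 (flp_d L84613) q2558, e3 q1662 L84811 q2596, e3 q1663 (flp_d L84623) q2560, trivial⟩ (by decide +kernel)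

theorem ce_d_26 : ∀ r, r < 64 → sm gd (Qf (1664 + r)) = Qf (tab Gen.d (1664 + r)) :=
  edges_tab (sm gd) Qf (tab Gen.d) 1664 [(1664, 1106), (1665, 2601), (1666, 2563), (1667, 2564), (1668, 2565), (1669, 2611), (1670, 2567), (1671, 1110), (1672, 1157), (1673, 2614), (1674, 1117), (1675, 2621), (1676, 1112), (1677, 1114), (1678, 1164), (1679, 2624), (1680, 1118), (1681, 2631), (1682, 1116), (1683, 2618), (1684, 2635), (1685, 2628), (1686, 2637), (1687, 1994), (1688, 1995), (1689, 2640), (1690, 2300), (1691, 2301), (1692, 1124), (1693, 2647), (1694, 2648), (1695, 2304), (1696, 2305), (1697, 2306), (1698, 2307), (1699, 2308), (1700, 2664), (1701, 2310), (1702, 2311), (1703, 2670), (1704, 2313), (1705, 2314), (1706, 2678), (1707, 1130), (1708, 2681), (1709, 2318), (1710, 2319), (1711, 2689), (1712, 2321), (1713, 2322), (1714, 2697), (1715, 1134), (1716, 2700), (1717, 2326), (1718, 2327), (1719, 2708), (1720, 2329), (1721, 2330), (1722, 2714), (1723, 2331), (1724, 2332), (1725, 2721), (1726, 1138), (1727, 2726)]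
    ⟨e3 q1664 (flp_d L25092) q1106, e3 q1665 (flp_d L84839) q2601, e3 q1666 (flp_d L84636) q2563, e3 q1667 (flp_d L84646) q2564, e3 q1668 (flp_d L84652) q2565, e3 q1669 L84895 q2611, e3 q1670 (flp_d L84663) q2567, e3 q1671 L80344 q1110, e3 q1672 L25186 q1157, e3 q1673 (flp_d L84915) q2614, e3 q1674 L25218 q1117, e3 q1675 L84956 q2621, e3 q1676 (flp_d L25238) q1112, e3 q1677 (flp_d L79744) q1114, e3 q1678 L25310 q1164, e3 q1679 (flp_d L84980) q2624, e3 q1680 L25342 q1118, e3 q1681 L85023 q2631, e3 q1682 (flp_d L25362) q1116, e3 q1683 (flp_d L84938) q2618, e3 q1684 L85055 q2635, e3 q1685 (flp_d L85003) q2628, e3 q1686 L85069 q2637, e3 q1687 (flp_d L141664) q1994, e3 q1688 L137805 q1995, e3 q1689 L85117 q2640, e3 q1690 (flp_d L46339) q2300, e3 q1691 (flp_d L46345) q2301, e3 q1692 (flp_d L26660) q1124, e3 q1693 (flp_d L85144) q2647, e3 q1694 (flp_d L85148) q2648, e3 q1695 (flp_d L46359) q2304, e3 q1696 (flp_d L46365) q2305, e3 q1697 (flp_d L46371) q2306, e3 q1698 (flp_d L46379) q2307, e3 q1699 (flp_d L46385) q2308,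 e3 q1700 L85208 q2664, e3 q1701 (flp_d L46391) q2310, e3 q1702 (flp_d L46395) q2311, e3 q1703 L85233 q2670, e3 q1704 (flp_d L46401) q2313, e3 q1705 (flp_d L46405) q2314, e3 q1706 L85258 q2678, e3 q1707 (flp_d L26711) q1130, e3 q1708 (flp_d L85275) q2681, e3 q1709 (flp_d L46423) q2318, e3 q1710 (flp_d L46429) q2319, e3 q1711 L85302 q2689, e3 q1712 (flp_d L46435) q2321, e3 q1713 (flp_d L46441) q2322, e3 q1714 L85327 q2697, e3 q1715 (flp_d L26741) q1134, e3 q1716 (flp_d L85344) q2700, e3 q1717 (flp_d L46459) q2326, e3 q1718 (flp_d L46465) q2327, e3 q1719 L85371 q2708, e3 q1720 (flp_d L46471) q2329, e3 q1721 (flp_d L46477) q2330, e3 q1722 L85400 q2714, e3 q1723 (flp_d L46485) q2331, e3 q1724 (flp_d L46489) q2332, e3 q1725 L85427 q2721, e3 q1726 (flp_d L26773) q1138, e3 q1727 (flp_d L85449) q2726, trivial⟩ (by decide +kernel)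

theorem ce_d_27 : ∀ r, r < 64 → sm gd (Qf (1728 + r)) = Qf (tab Gen.d (1728 + r)) :=
  edges_tab (sm gd) Qf (tab Gen.d) 1728 [(1728, 2336), (1729, 2731), (1730, 2577), (1731, 1141), (1732, 2735), (1733, 2736), (1734, 1763), (1735, 2743), (1736, 1766), (1737, 2342), (1738, 1761), (1739, 2754), (1740, 1757), (1741, 1145), (1742, 2759), (1743, 1759), (1744, 2343), (1745, 2765), (1746, 2344), (1747, 2345), (1748, 2772), (1749, 1148), (1750, 2777), (1751, 2349), (1752, 2782), (1753, 2600), (1754, 1151), (1755, 2786), (1756, 2787), (1757, 1740), (1758, 2794), (1759, 1743), (1760, 2355), (1761, 1738), (1762, 2805), (1763, 1734), (1764, 1155), (1765, 2810), (1766, 1736), (1767, 2615), (1768, 1159), (1769, 2814), (1770, 2819), (1771, 2815), (1772, 1160), (1773, 1172), (1774, 2825), (1775, 2827), (1776, 1162), (1777, 1799), (1778, 2623), (1779, 2625), (1780, 1166), (1781, 2834), (1782, 2839), (1783, 2835), (1784, 1167), (1785, 1179), (1786, 2845), (1787, 2847), (1788, 1169), (1789, 1812), (1790, 2633), (1791, 2227)]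
    ⟨e3 q1728 (flp_d L46507) q2336, e3 q1729 L85463 q2731, e3 q1730 (flp_d L84713) q2577, e3 q1731 L26795 q1141, e3 q1732 (flp_d L85485) q2735, e3 q1733 (flp_d L85493) q2736, e3 q1734 (flp_d L26921) q1763, e3 q1735 L85519 q2743, e3 q1736 (flp_d L26937) q1766, e3 q1737 (flp_d L46533) q2342, e3 q1738 (flp_d L26911) q1761, e3 q1739 L85549 q2754, e3 q1740 (flp_d L26895) q1757, e3 q1741 (flp_d L26833) q1145, e3 q1742 (flp_d L85571) q2759, e3 q1743 (flp_d L26905) q1759, e3 q1744 (flp_d L46537) q2343, e3 q1745 L85601 q2765, e3 q1746 (flp_d L46545) q2344, e3 q1747 (flp_d L46549) q2345, e3 q1748 L85628 q2772, e3 q1749 (flp_d L26857) q1148, e3 q1750 (flp_d L85650) q2777, e3 q1751 (flp_d L46567) q2349, e3 q1752 L85664 q2782, e3 q1753 (flp_d L84835) q2600, e3 q1754 L26879 q1151, e3 q1755 (flp_d L85686) q2786, e3 q1756 (flp_d L85694) q2787, e3 q1757 L26895 q1740, e3 q1758 L85722 q2794, e3 q1759 L26905 q1743, e3 q1760 (flp_d L46593) q2355, e3 q1761 L26911 q1738, e3 q1762 L85762 q2805, e3 q1763 L26921 q1734, e3 q1764 (flp_d L26925)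 q1155, e3 q1765 (flp_d L85786) q2810, e3 q1766 L26937 q1736, e3 q1767 (flp_d L84925) q2615, e3 q1768 L27039 q1159, e3 q1769 (flp_d L85808) q2814, e3 q1770 L85830 q2819, e3 q1771 L118184 q2815, e3 q1772 (flp_d L27059) q1160, e3 q1773 L27069 q1172, e3 q1774 L85866 q2825, e3 q1775 L85872 q2827, e3 q1776 (flp_d L27085) q1162, e3 q1777 L27576 q1799, e3 q1778 (flp_d L84976) q2623, e3 q1779 (flp_d L84990) q2625, e3 q1780 L27229 q1166, e3 q1781 (flp_d L85900) q2834, e3 q1782 L85922 q2839, e3 q1783 L149467 q2835, e3 q1784 (flp_d L27249) q1167, e3 q1785 L27259 q1179, e3 q1786 L85958 q2845, e3 q1787 L85964 q2847, e3 q1788 (flp_d L27277) q1169, e3 q1789 L27908 q1812, e3 q1790 (flp_d L85043) q2633, e3 q1791 L75696 q2227, trivial⟩ (by decide +kernel)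

theorem ce_d_28 : ∀ r, r < 64 → sm gd (Qf (1792 + r)) = Qf (tab Gen.d (1792 + r)) :=
  edges_tab (sm gd) Qf (tab Gen.d) 1792 [(1792, 1185), (1793, 2855), (1794, 2856), (1795, 1173), (1796, 2859), (1797, 1174), (1798, 2861), (1799, 1777), (1800, 1191), (1801, 2865), (1802, 1176), (1803, 2870), (1804, 2231), (1805, 1192), (1806, 2873), (1807, 2874), (1808, 1180), (1809, 2877), (1810, 1181), (1811, 2879), (1812, 1789), (1813, 1198), (1814, 2883), (1815, 1183), (1816, 2888), (1817, 2858), (1818, 2876), (1819, 1202), (1820, 1203), (1821, 1201), (1822, 2889), (1823, 2890), (1824, 1834), (1825, 2891), (1826, 1205), (1827, 2903), (1828, 1206), (1829, 2901), (1830, 1210), (1831, 1211), (1832, 1209), (1833, 2897), (1834, 1824), (1835, 2894), (1836, 2905), (1837, 1213), (1838, 2915), (1839, 1214), (1840, 2913), (1841, 2111), (1842, 2921), (1843, 1218), (1844, 2925), (1845, 2926), (1846, 2930), (1847, 1220), (1848, 2934), (1849, 2935), (1850, 1222), (1851, 1223), (1852, 2940), (1853, 2941), (1854, 1322), (1855, 1323)]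
    ⟨e3 q1792 L27505 q1185, e3 q1793 L85999 q2855, e3 q1794 L86009 q2856, e3 q1795 (flp_d L27538) q1173, e3 q1796 L86035 q2859, e3 q1797 (flp_d L27560) q1174, e3 q1798 (flp_d L86071) q2861, e3 q1799 (flp_d L27576) q1777, e3 q1800 L27582 q1191, e3 q1801 L86091 q2865, e3 q1802 (flp_d L27608) q1176, e3 q1803 L86115 q2870, e3 q1804 L77847 q2231, e3 q1805 L27839 q1192, e3 q1806 L86130 q2873, e3 q1807 L86140 q2874, e3 q1808 (flp_d L27872) q1180, e3 q1809 L86156 q2877, e3 q1810 (flp_d L27892) q1181, e3 q1811 (flp_d L86176) q2879, e3 q1812 (flp_d L27908) q1789, e3 q1813 L27914 q1198, e3 q1814 L86202 q2883, e3 q1815 (flp_d L27940) q1183, e3 q1816 L86226 q2888, e3 q1817 (flp_d L86033) q2858, e3 q1818 (flp_d L86154) q2876, e3 q1819 L29034 q1202, e3 q1820 L29049 q1203, e3 q1821 L29065 q1201, e3 q1822 (flp_d L86613) q2889, e3 q1823 (flp_d L86621) q2890, e3 q1824 L147459 q1834, e3 q1825 (flp_d L86647) q2891, e3 q1826 L29107 q1205, e3 q1827 L86751 q2903, e3 q1828 L29113 q1206, e3 q1829 (flp_d L86743) q2901, e3 q1830 L29200 q1210,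 e3 q1831 L29215 q1211, e3 q1832 L29231 q1209, e3 q1833 (flp_d L147413) q2897, e3 q1834 (flp_d L147459) q1824, e3 q1835 (flp_d L147068) q2894, e3 q1836 (flp_d L86894) q2905, e3 q1837 L29277 q1213, e3 q1838 L86998 q2915, e3 q1839 L29283 q1214, e3 q1840 (flp_d L86990) q2913, e3 q1841 (flp_d L72249) q2111, e3 q1842 L87961 q2921, e3 q1843 (flp_d L32488) q1218, e3 q1844 (flp_d L87982) q2925, e3 q1845 (flp_d L87987) q2926, e3 q1846 L88008 q2930, e3 q1847 (flp_d L32814) q1220, e3 q1848 (flp_d L88040) q2934, e3 q1849 (flp_d L88046) q2935, e3 q1850 L32832 q1222, e3 q1851 L32840 q1223, e3 q1852 (flp_d L88080) q2940, e3 q1853 (flp_d L88086) q2941, e3 q1854 L33068 q1322, e3 q1855 L33074 q1323, trivial⟩ (by decide +kernel)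

theorem ce_d_29 : ∀ r, r < 64 → sm gd (Qf (1856 + r)) = Qf (tab Gen.d (1856 + r)) :=
  edges_tab (sm gd) Qf (tab Gen.d) 1856 [(1856, 1324), (1857, 1325), (1858, 1326), (1859, 1327), (1860, 1328), (1861, 1329), (1862, 1331), (1863, 1333), (1864, 1335), (1865, 1229), (1866, 2964), (1867, 2965), (1868, 1232), (1869, 1233), (1870, 1255), (1871, 2191), (1872, 2192), (1873, 2193), (1874, 2194), (1875, 2983), (1876, 2984), (1877, 2986), (1878, 1239), (1879, 2989), (1880, 2990), (1881, 1241), (1882, 1242), (1883, 2995), (1884, 2996), (1885, 2997), (1886, 2998), (1887, 3007), (1888, 1247), (1889, 1248), (1890, 3010), (1891, 1249), (1892, 1250), (1893, 3013), (1894, 1251), (1895, 3018), (1896, 3019), (1897, 3022), (1898, 2970), (1899, 1253), (1900, 1254), (1901, 3028), (1902, 3029), (1903, 3030), (1904, 3031), (1905, 2971), (1906, 2972), (1907, 1258), (1908, 1259), (1909, 1260), (1910, 1261), (1911, 3044), (1912, 3055), (1913, 3046), (1914, 3047), (1915, 3048), (1916, 3065), (1917, 3050), (1918, 3051), (1919, 3073)]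
    ⟨e3 q1856 L33080 q1324, e3 q1857 L33084 q1325, e3 q1858 L33090 q1326, e3 q1859 L33096 q1327, e3 q1860 L33104 q1328, e3 q1861 L33110 q1329, e3 q1862 L33118 q1331, e3 q1863 L33122 q1333, e3 q1864 L33130 q1335, e3 q1865 L72368 q1229, e3 q1866 (flp_d L88215) q2964, e3 q1867 (flp_d L88224) q2965, e3 q1868 L36502 q1232, e3 q1869 L36508 q1233, e3 q1870 (flp_d L72379) q1255, e3 q1871 (flp_d L44068) q2191, e3 q1872 (flp_d L44072) q2192, e3 q1873 (flp_d L44099) q2193, e3 q1874 (flp_d L44103) q2194, e3 q1875 L88308 q2983, e3 q1876 L88313 q2984, e3 q1877 L88322 q2986, e3 q1878 (flp_d L36794) q1239, e3 q1879 (flp_d L88344) q2989, e3 q1880 (flp_d L88348) q2990, e3 q1881 L36818 q1241, e3 q1882 L36823 q1242, e3 q1883 (flp_d L88382) q2995, e3 q1884 (flp_d L88387) q2996, e3 q1885 (flp_d L88395) q2997, e3 q1886 (flp_d L88402) q2998, e3 q1887 L88444 q3007, e3 q1888 L36867 q1247, e3 q1889 L36873 q1248, e3 q1890 L88464 q3010, e3 q1891 L36893 q1249, e3 q1892 L36899 q1250, e3 q1893 L88494 q3013, e3 q1894 (flp_d L37159) q1251, e3 q1895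 (flp_d L88534) q3018, e3 q1896 (flp_d L88540) q3019, e3 q1897 L88546 q3022, e3 q1898 (flp_d L88250) q2970, e3 q1899 L37183 q1253, e3 q1900 L37187 q1254, e3 q1901 (flp_d L88574) q3028, e3 q1902 (flp_d L88580) q3029, e3 q1903 (flp_d L88586) q3030, e3 q1904 (flp_d L88594) q3031, e3 q1905 (flp_d L88259) q2971, e3 q1906 (flp_d L88268) q2972, e3 q1907 L37221 q1258, e3 q1908 L37227 q1259, e3 q1909 L37233 q1260, e3 q1910 L37241 q1261, e3 q1911 (flp_d L88658) q3044, e3 q1912 L88696 q3055, e3 q1913 (flp_d L88664) q3046, e3 q1914 (flp_d L88668) q3047, e3 q1915 (flp_d L88672) q3048, e3 q1916 L88736 q3065, e3 q1917 (flp_d L88678) q3050, e3 q1918 (flp_d L88682) q3051, e3 q1919 L88767 q3073, trivial⟩ (by decide +kernel)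

theorem ce_d_30 : ∀ r, r < 64 → sm gd (Qf (1920 + r)) = Qf (tab Gen.d (1920 + r)) :=
  edges_tab (sm gd) Qf (tab Gen.d) 1920 [(1920, 1263), (1921, 3076), (1922, 3078), (1923, 3080), (1924, 1267), (1925, 3083), (1926, 3085), (1927, 3086), (1928, 1270), (1929, 3091), (1930, 1280), (1931, 1272), (1932, 1273), (1933, 3096), (1934, 1274), (1935, 3101), (1936, 1284), (1937, 1276), (1938, 1277), (1939, 1278), (1940, 3089), (1941, 3095), (1942, 1282), (1943, 3099), (1944, 3105), (1945, 3107), (1946, 1286), (1947, 3110), (1948, 3111), (1949, 1618), (1950, 1288), (1951, 1289), (1952, 3116), (1953, 3117), (1954, 3118), (1955, 3119), (1956, 1292), (1957, 1293), (1958, 1294), (1959, 1295), (1960, 3128), (1961, 3139), (1962, 3130), (1963, 3131), (1964, 3132), (1965, 3149), (1966, 3134), (1967, 3135), (1968, 1304), (1969, 3158), (1970, 1297), (1971, 3160), (1972, 1307), (1973, 1306), (1974, 1308), (1975, 3166), (1976, 1310), (1977, 3169), (1978, 1301), (1979, 3171), (1980, 1313), (1981, 1312), (1982, 1314), (1983, 3177)]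
    ⟨e3 q1920 (flp_d L37275) q1263, e3 q1921 (flp_d L88783) q3076, e3 q1922 L88787 q3078, e3 q1923 L88796 q3080, e3 q1924 (flp_d L37311) q1267, e3 q1925 (flp_d L88812) q3083, e3 q1926 L88820 q3085, e3 q1927 L88828 q3086, e3 q1928 (flp_d L37364) q1270, e3 q1929 L88861 q3091, e3 q1930 L37380 q1280, e3 q1931 L37384 q1272, e3 q1932 (flp_d L37426) q1273, e3 q1933 L88901 q3096, e3 q1934 (flp_d L37470) q1274, e3 q1935 L88934 q3101, e3 q1936 L37486 q1284, e3 q1937 L37490 q1276, e3 q1938 (flp_d L37544) q1277, e3 q1939 (flp_d L37611) q1278, e3 q1940 (flp_d L88855) q3089, e3 q1941 (flp_d L88899) q3095, e3 q1942 (flp_d L37970) q1282, e3 q1943 (flp_d L88928) q3099, e3 q1944 (flp_d L88980) q3105, e3 q1945 L89016 q3107, e3 q1946 (flp_d L38664) q1286, e3 q1947 (flp_d L89036) q3110, e3 q1948 (flp_d L89044) q3111, e3 q1949 L84355 q1618, e3 q1950 L38684 q1288, e3 q1951 L38688 q1289, e3 q1952 (flp_d L89072) q3116, e3 q1953 (flp_d L89078) q3117, e3 q1954 (flp_d L89084) q3118, e3 q1955 (flp_d L89092) q3119, e3 q1956 L38718 q1292, e3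 q1957 L38722 q1293, e3 q1958 L38728 q1294, e3 q1959 L38734 q1295, e3 q1960 (flp_d L89138) q3128, e3 q1961 L89184 q3139, e3 q1962 (flp_d L89144) q3130, e3 q1963 (flp_d L89148) q3131, e3 q1964 (flp_d L89152) q3132, e3 q1965 L89242 q3149, e3 q1966 (flp_d L89158) q3134, e3 q1967 (flp_d L89162) q3135, e3 q1968 L38778 q1304, e3 q1969 L89294 q3158, e3 q1970 (flp_d L38798) q1297, e3 q1971 (flp_d L89304) q3160, e3 q1972 L38808 q1307, e3 q1973 (flp_d L69319) q1306, e3 q1974 L38826 q1308, e3 q1975 L89343 q3166, e3 q1976 L38844 q1310, e3 q1977 L89358 q3169, e3 q1978 (flp_d L38864) q1301, e3 q1979 (flp_d L89368) q3171, e3 q1980 L38874 q1313, e3 q1981 (flp_d L77433) q1312, e3 q1982 L38892 q1314, e3 q1983 L89409 q3177, trivial⟩ (by decide +kernel)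

theorem ce_d_31 : ∀ r, r < 64 → sm gd (Qf (1984 + r)) = Qf (tab Gen.d (1984 + r)) :=
  edges_tab (sm gd) Qf (tab Gen.d) 1984 [(1984, 3179), (1985, 3163), (1986, 3181), (1987, 3182), (1988, 1309), (1989, 3185), (1990, 3174), (1991, 3187), (1992, 3188), (1993, 1315), (1994, 1687), (1995, 1688), (1996, 2946), (1997, 2948), (1998, 2949), (1999, 2950), (2000, 2951), (2001, 2952), (2002, 3206), (2003, 2953), (2004, 2954), (2005, 2955), (2006, 3214), (2007, 2956), (2008, 2957), (2009, 2958), (2010, 3225), (2011, 2959), (2012, 1330), (2013, 3229), (2014, 2028), (2015, 2960), (2016, 2026), (2017, 3239), (2018, 2024), (2019, 2961), (2020, 3247), (2021, 2962), (2022, 1334), (2023, 3251), (2024, 2018), (2025, 2963), (2026, 2016), (2027, 3261), (2028, 2014), (2029, 3265), (2030, 3267), (2031, 1338), (2032, 2053), (2033, 3159), (2034, 1340), (2035, 3275), (2036, 3276), (2037, 1359), (2038, 3282), (2039, 3284), (2040, 1344), (2041, 3288), (2042, 3290), (2043, 1346), (2044, 2069), (2045, 3170), (2046, 1348), (2047, 3298)]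
    ⟨e3 q1984 L89417 q3179, e3 q1985 (flp_d L89322) q3163, e3 q1986 L89435 q3181, e3 q1987 L89439 q3182, e3 q1988 (flp_d L39008) q1309, e3 q1989 L89458 q3185, e3 q1990 (flp_d L89386) q3174, e3 q1991 L89476 q3187, e3 q1992 L89482 q3188, e3 q1993 (flp_d L39124) q1315, e3 q1994 L141664 q1687, e3 q1995 (flp_d L137805) q1688, e3 q1996 (flp_d L88112) q2946, e3 q1997 (flp_d L88120) q2948, e3 q1998 (flp_d L88124) q2949, e3 q1999 (flp_d L88128) q2950, e3 q2000 (flp_d L88132) q2951, e3 q2001 (flp_d L88137) q2952, e3 q2002 L89634 q3206, e3 q2003 (flp_d L88144) q2953, e3 q2004 (flp_d L88148) q2954, e3 q2005 (flp_d L88153) q2955, e3 q2006 L89662 q3214, e3 q2007 (flp_d L88160) q2956, e3 q2008 (flp_d L88164) q2957, e3 q2009 (flp_d L88168) q2958, e3 q2010 L89692 q3225, e3 q2011 (flp_d L88175) q2959, e3 q2012 (flp_d L39623) q1330, e3 q2013 (flp_d L89714) q3229, e3 q2014 (flp_d L39693) q2028, e3 q2015 (flp_d L88184) q2960, e3 q2016 (flp_d L39685) q2026, e3 q2017 L89752 q3239, e3 q2018 (flp_d L39673) q2024, e3 q2019 (flp_d L88190)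 q2961, e3 q2020 L89777 q3247, e3 q2021 (flp_d L88197) q2962, e3 q2022 (flp_d L39663) q1334, e3 q2023 (flp_d L89799) q3251, e3 q2024 L39673 q2018, e3 q2025 (flp_d L88206) q2963, e3 q2026 L39685 q2016, e3 q2027 L89845 q3261, e3 q2028 L39693 q2014, e3 q2029 L89866 q3265, e3 q2030 L89875 q3267, e3 q2031 (flp_d L39713) q1338, e3 q2032 L39949 q2053, e3 q2033 (flp_d L89300) q3159, e3 q2034 L39735 q1340, e3 q2035 (flp_d L89905) q3275, e3 q2036 (flp_d L89911) q3276, e3 q2037 L39749 q1359, e3 q2038 L89933 q3282, e3 q2039 L89939 q3284, e3 q2040 (flp_d L39781) q1344, e3 q2041 L89954 q3288, e3 q2042 L89963 q3290, e3 q2043 (flp_d L39811) q1346, e3 q2044 L40207 q2069, e3 q2045 (flp_d L89364) q3170, e3 q2046 L39833 q1348, e3 q2047 (flp_d L89993) q3298, trivial⟩ (by decide +kernel)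

theorem ce_d_32 : ∀ r, r < 64 → sm gd (Qf (2048 + r)) = Qf (tab Gen.d (2048 + r)) :=
  edges_tab (sm gd) Qf (tab Gen.d) 2048 [(2048, 3299), (2049, 1369), (2050, 3305), (2051, 3307), (2052, 1352), (2053, 2032), (2054, 1373), (2055, 3313), (2056, 1354), (2057, 3319), (2058, 3318), (2059, 1374), (2060, 1357), (2061, 1358), (2062, 3325), (2063, 3323), (2064, 3324), (2065, 1360), (2066, 1361), (2067, 3330), (2068, 1378), (2069, 2044), (2070, 1379), (2071, 3335), (2072, 1364), (2073, 3341), (2074, 3340), (2075, 1380), (2076, 1367), (2077, 1368), (2078, 3347), (2079, 3345), (2080, 3346), (2081, 1370), (2082, 1371), (2083, 3352), (2084, 1384), (2085, 2483), (2086, 3358), (2087, 2484), (2088, 2485), (2089, 1386), (2090, 3364), (2091, 2440), (2092, 1403), (2093, 1390), (2094, 3371), (2095, 1391), (2096, 1597), (2097, 3377), (2098, 2491), (2099, 3382), (2100, 2492), (2101, 2493), (2102, 1395), (2103, 3388), (2104, 2470), (2105, 1404), (2106, 1399), (2107, 3395), (2108, 1400), (2109, 1580), (2110, 3401), (2111, 1841)]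
    ⟨e3 q2048 (flp_d L89999) q3299, e3 q2049 L39847 q1369, e3 q2050 L90023 q3305, e3 q2051 L90031 q3307, e3 q2052 (flp_d L39879) q1352, e3 q2053 (flp_d L39949) q2032, e3 q2054 L39955 q1373, e3 q2055 L90057 q3313, e3 q2056 (flp_d L39987) q1354, e3 q2057 L90089 q3319, e3 q2058 (flp_d L90087) q3318, e3 q2059 L40003 q1374, e3 q2060 L40009 q1357, e3 q2061 L40017 q1358, e3 q2062 (flp_d L90127) q3325, e3 q2063 L139086 q3323, e3 q2064 L139287 q3324, e3 q2065 (flp_d L40051) q1360, e3 q2066 (flp_d L40101) q1361, e3 q2067 L90206 q3330, e3 q2068 L40125 q1378, e3 q2069 (flp_d L40207) q2044, e3 q2070 L40213 q1379, e3 q2071 L90233 q3335, e3 q2072 (flp_d L40235) q1364, e3 q2073 L90265 q3341, e3 q2074 (flp_d L90263) q3340, e3 q2075 L40251 q1380, e3 q2076 L40257 q1367, e3 q2077 L40265 q1368, e3 q2078 (flp_d L90303) q3347, e3 q2079 (flp_d L141867) q3345, e3 q2080 L139787 q3346, e3 q2081 (flp_d L40297) q1370, e3 q2082 (flp_d L40351) q1371, e3 q2083 L90390 q3352, e3 q2084 L40375 q1384, e3 q2085 (flp_d L84208) q2483, e3 q2086 L90614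 q3358, e3 q2087 (flp_d L84212) q2484, e3 q2088 (flp_d L84218) q2485, e3 q2089 (flp_d L41278) q1386, e3 q2090 (flp_d L90644) q3364, e3 q2091 (flp_d L83917) q2440, e3 q2092 L41292 q1403, e3 q2093 L41298 q1390, e3 q2094 L90688 q3371, e3 q2095 L41304 q1391, e3 q2096 L41324 q1597, e3 q2097 L90712 q3377, e3 q2098 (flp_d L84255) q2491, e3 q2099 L90734 q3382, e3 q2100 (flp_d L84259) q2492, e3 q2101 (flp_d L84263) q2493, e3 q2102 (flp_d L41414) q1395, e3 q2103 (flp_d L90766) q3388, e3 q2104 (flp_d L84073) q2470, e3 q2105 L41430 q1404, e3 q2106 L41436 q1399, e3 q2107 L90814 q3395, e3 q2108 L41442 q1400, e3 q2109 L41472 q1580, e3 q2110 L90840 q3401, e3 q2111 L72249 q1841, trivial⟩ (by decide +kernel)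

theorem ce_d_33 : ∀ r, r < 64 → sm gd (Qf (2112 + r)) = Qf (tab Gen.d (2112 + r)) :=
  edges_tab (sm gd) Qf (tab Gen.d) 2112 [(2112, 3405), (2113, 1406), (2114, 3409), (2115, 3410), (2116, 3413), (2117, 1408), (2118, 3416), (2119, 3417), (2120, 1416), (2121, 1410), (2122, 1411), (2123, 3424), (2124, 3425), (2125, 3430), (2126, 1412), (2127, 3434), (2128, 3435), (2129, 3438), (2130, 1509), (2131, 1414), (2132, 1415), (2133, 3444), (2134, 3445), (2135, 3446), (2136, 3447), (2137, 3422), (2138, 3423), (2139, 1419), (2140, 1420), (2141, 3456), (2142, 3458), (2143, 3459), (2144, 3461), (2145, 1422), (2146, 1423), (2147, 3468), (2148, 2150), (2149, 3469), (2150, 2148), (2151, 1453), (2152, 1454), (2153, 1427), (2154, 1428), (2155, 1429), (2156, 1430), (2157, 3482), (2158, 3493), (2159, 3484), (2160, 3485), (2161, 3486), (2162, 3503), (2163, 3488), (2164, 3489), (2165, 1431), (2166, 1435), (2167, 3512), (2168, 1433), (2169, 1437), (2170, 3515), (2171, 3516), (2172, 1436), (2173, 3518), (2174, 1438), (2175, 1442)]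
    ⟨e3 q2112 L90918 q3405, e3 q2113 (flp_d L42500) q1406, e3 q2114 (flp_d L90945) q3409, e3 q2115 (flp_d L90952) q3410, e3 q2116 L90979 q3413, e3 q2117 (flp_d L42656) q1408, e3 q2118 (flp_d L90997) q3416, e3 q2119 (flp_d L91005) q3417, e3 q2120 L42674 q1416, e3 q2121 L42682 q1410, e3 q2122 L42690 q1411, e3 q2123 (flp_d L91059) q3424, e3 q2124 (flp_d L91063) q3425, e3 q2125 L91085 q3430, e3 q2126 (flp_d L42896) q1412, e3 q2127 (flp_d L91113) q3434, e3 q2128 (flp_d L91119) q3435, e3 q2129 L91125 q3438, e3 q2130 L72438 q1509, e3 q2131 L42918 q1414, e3 q2132 L42922 q1415, e3 q2133 (flp_d L91157) q3444, e3 q2134 (flp_d L91163) q3445, e3 q2135 (flp_d L91169) q3446, e3 q2136 (flp_d L91177) q3447, e3 q2137 (flp_d L91043) q3422, e3 q2138 (flp_d L91053) q3423, e3 q2139 L42960 q1419, e3 q2140 L42964 q1420, e3 q2141 (flp_d L91211) q3456, e3 q2142 (flp_d L91219) q3458, e3 q2143 (flp_d L91223) q3459, e3 q2144 (flp_d L91231) q3461, e3 q2145 L72294 q1422, e3 q2146 L72292 q1423, e3 q2147 (flp_d L91267) q3468, e3 q2148 (flp_d L72432)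 q2150, e3 q2149 (flp_d L91275) q3469, e3 q2150 L72432 q2148, e3 q2151 L43350 q1453, e3 q2152 L43356 q1454, e3 q2153 L43362 q1427, e3 q2154 L43366 q1428, e3 q2155 L43372 q1429, e3 q2156 L43380 q1430, e3 q2157 (flp_d L91365) q3482, e3 q2158 L91409 q3493, e3 q2159 (flp_d L91371) q3484, e3 q2160 (flp_d L91375) q3485, e3 q2161 (flp_d L91379) q3486, e3 q2162 L91467 q3503, e3 q2163 (flp_d L91385) q3488, e3 q2164 (flp_d L91389) q3489, e3 q2165 (flp_d L43434) q1431, e3 q2166 L43454 q1435, e3 q2167 L91522 q3512, e3 q2168 (flp_d L43484) q1433, e3 q2169 L43504 q1437, e3 q2170 L91540 q3515, e3 q2171 L91543 q3516, e3 q2172 (flp_d L43599) q1436, e3 q2173 L91559 q3518, e3 q2174 (flp_d L43697) q1438, e3 q2175 L43980 q1442, trivial⟩ (by decide +kernel)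

theorem ce_d_34 : ∀ r, r < 64 → sm gd (Qf (2176 + r)) = Qf (tab Gen.d (2176 + r)) :=
  edges_tab (sm gd) Qf (tab Gen.d) 2176 [(2176, 1443), (2177, 3520), (2178, 3521), (2179, 1446), (2180, 1447), (2181, 1448), (2182, 1449), (2183, 3528), (2184, 3538), (2185, 3530), (2186, 3531), (2187, 3532), (2188, 3546), (2189, 3534), (2190, 3535), (2191, 1871), (2192, 1872), (2193, 1873), (2194, 1874), (2195, 3478), (2196, 3479), (2197, 3480), (2198, 3481), (2199, 1459), (2200, 3571), (2201, 1461), (2202, 1462), (2203, 1463), (2204, 3581), (2205, 1465), (2206, 1466), (2207, 3568), (2208, 3593), (2209, 3570), (2210, 1460), (2211, 3598), (2212, 3573), (2213, 3574), (2214, 3575), (2215, 3607), (2216, 3577), (2217, 3578), (2218, 3615), (2219, 3580), (2220, 1464), (2221, 3620), (2222, 3583), (2223, 3584), (2224, 3585), (2225, 3629), (2226, 3587), (2227, 1791), (2228, 3510), (2229, 3635), (2230, 1469), (2231, 1804), (2232, 3513), (2233, 3641), (2234, 1472), (2235, 3645), (2236, 1473), (2237, 3650), (2238, 3652), (2239, 3654)]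
    ⟨e3 q2176 L43988 q1443, e3 q2177 (flp_d L91607) q3520, e3 q2178 (flp_d L91615) q3521, e3 q2179 L44004 q1446, e3 q2180 L44010 q1447, e3 q2181 L44016 q1448, e3 q2182 L44026 q1449, e3 q2183 (flp_d L91670) q3528, e3 q2184 L91714 q3538, e3 q2185 (flp_d L91680) q3530, e3 q2186 (flp_d L91684) q3531, e3 q2187 (flp_d L91688) q3532, e3 q2188 L91746 q3546, e3 q2189 (flp_d L91698) q3534, e3 q2190 (flp_d L91702) q3535, e3 q2191 L44068 q1871, e3 q2192 L44072 q1872, e3 q2193 L44099 q1873, e3 q2194 L44103 q1874, e3 q2195 (flp_d L91329) q3478, e3 q2196 (flp_d L91337) q3479, e3 q2197 (flp_d L91345) q3480, e3 q2198 (flp_d L91357) q3481, e3 q2199 L44129 q1459, e3 q2200 L91860 q3571, e3 q2201 L44135 q1461, e3 q2202 L44139 q1462, e3 q2203 L44143 q1463, e3 q2204 L91908 q3581, e3 q2205 L44149 q1465, e3 q2206 L44153 q1466, e3 q2207 (flp_d L91846) q3568, e3 q2208 L91950 q3593, e3 q2209 (flp_d L91856) q3570, e3 q2210 (flp_d L44167) q1460, e3 q2211 (flp_d L91972) q3598, e3 q2212 (flp_d L91868) q3573, e3 q2213 (flp_d L91876) q3574, e3 q2214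 (flp_d L91882) q3575, e3 q2215 L92006 q3607, e3 q2216 (flp_d L91888) q3577, e3 q2217 (flp_d L91894) q3578, e3 q2218 L92031 q3615, e3 q2219 (flp_d L91904) q3580, e3 q2220 (flp_d L44207) q1464, e3 q2221 (flp_d L92053) q3620, e3 q2222 (flp_d L91916) q3583, e3 q2223 (flp_d L91924) q3584, e3 q2224 (flp_d L91930) q3585, e3 q2225 L92087 q3629, e3 q2226 (flp_d L91936) q3587, e3 q2227 (flp_d L75696) q1791, e3 q2228 (flp_d L91513) q3510, e3 q2229 L92118 q3635, e3 q2230 (flp_d L44300) q1469, e3 q2231 (flp_d L77847) q1804, e3 q2232 (flp_d L91531) q3513, e3 q2233 L92145 q3641, e3 q2234 (flp_d L44381) q1472, e3 q2235 L92158 q3645, e3 q2236 (flp_d L44414) q1473, e3 q2237 L92182 q3650, e3 q2238 L92217 q3652, e3 q2239 L92231 q3654, trivial⟩ (by decide +kernel)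

theorem ce_d_35 : ∀ r, r < 64 → sm gd (Qf (2240 + r)) = Qf (tab Gen.d (2240 + r)) :=
  edges_tab (sm gd) Qf (tab Gen.d) 2240 [(2240, 1476), (2241, 3659), (2242, 3661), (2243, 2933), (2244, 1479), (2245, 3664), (2246, 3665), (2247, 2247), (2248, 1481), (2249, 1482), (2250, 3673), (2251, 3674), (2252, 2252), (2253, 2253), (2254, 1486), (2255, 1487), (2256, 1488), (2257, 1489), (2258, 3685), (2259, 3695), (2260, 3687), (2261, 3688), (2262, 3689), (2263, 3703), (2264, 3691), (2265, 3692), (2266, 1492), (2267, 3712), (2268, 1494), (2269, 1495), (2270, 3718), (2271, 1497), (2272, 3709), (2273, 3725), (2274, 3711), (2275, 1493), (2276, 3730), (2277, 3714), (2278, 3715), (2279, 3738), (2280, 3717), (2281, 1496), (2282, 3743), (2283, 3720), (2284, 3748), (2285, 1498), (2286, 2622), (2287, 1538), (2288, 1501), (2289, 3754), (2290, 3758), (2291, 1502), (2292, 2632), (2293, 1545), (2294, 1505), (2295, 3764), (2296, 3768), (2297, 1506), (2298, 3773), (2299, 1507), (2300, 1690), (2301, 1691), (2302, 3442), (2303, 3443)]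
    ⟨e3 q2240 (flp_d L44575) q1476, e3 q2241 L92255 q3659, e3 q2242 L92290 q3661, e3 q2243 (flp_d L88036) q2933, e3 q2244 (flp_d L45114) q1479, e3 q2245 (flp_d L92432) q3664, e3 q2246 (flp_d L92438) q3665, e3 q2247 L72264 q2247, e3 q2248 L45138 q1481, e3 q2249 L45146 q1482, e3 q2250 (flp_d L92493) q3673, e3 q2251 (flp_d L92499) q3674, e3 q2252 L72265 q2252, e3 q2253 L72266 q2253, e3 q2254 L45175 q1486, e3 q2255 L45183 q1487, e3 q2256 L45191 q1488, e3 q2257 L45201 q1489, e3 q2258 (flp_d L92567) q3685, e3 q2259 L92629 q3695, e3 q2260 (flp_d L92581) q3687, e3 q2261 (flp_d L92587) q3688, e3 q2262 (flp_d L92593) q3689, e3 q2263 L92671 q3703, e3 q2264 (flp_d L92607) q3691, e3 q2265 (flp_d L92613) q3692, e3 q2266 L45249 q1492, e3 q2267 L92723 q3712, e3 q2268 L45260 q1494, e3 q2269 L45266 q1495, e3 q2270 L92764 q3718, e3 q2271 L45277 q1497, e3 q2272 (flp_d L92703) q3709, e3 q2273 L92807 q3725, e3 q2274 (flp_d L92717) q3711, e3 q2275 (flp_d L45299) q1493, e3 q2276 (flp_d L92835) q3730, e3 q2277 (flp_d L92736) q3714, e3 q2278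 (flp_d L92744) q3715, e3 q2279 L92879 q3738, e3 q2280 (flp_d L92758) q3717, e3 q2281 (flp_d L45335) q1496, e3 q2282 (flp_d L92907) q3743, e3 q2283 (flp_d L92777) q3720, e3 q2284 L92934 q3748, e3 q2285 (flp_d L45381) q1498, e3 q2286 (flp_d L84972) q2622, e3 q2287 L45405 q1538, e3 q2288 L45409 q1501, e3 q2289 (flp_d L92968) q3754, e3 q2290 L92987 q3758, e3 q2291 (flp_d L45459) q1502, e3 q2292 (flp_d L85039) q2632, e3 q2293 L45483 q1545, e3 q2294 L45487 q1505, e3 q2295 (flp_d L93021) q3764, e3 q2296 L93043 q3768, e3 q2297 (flp_d L45625) q1506, e3 q2298 L93081 q3773, e3 q2299 (flp_d L45801) q1507, e3 q2300 L46339 q1690, e3 q2301 L46345 q1691, e3 q2302 (flp_d L91145) q3442, e3 q2303 (flp_d L91151) q3443, trivial⟩ (by decide +kernel)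

theorem ce_d_36 : ∀ r, r < 64 → sm gd (Qf (2304 + r)) = Qf (tab Gen.d (2304 + r)) :=
  edges_tab (sm gd) Qf (tab Gen.d) 2304 [(2304, 1695), (2305, 1696), (2306, 1697), (2307, 1698), (2308, 1699), (2309, 2653), (2310, 1701), (2311, 1702), (2312, 2657), (2313, 1704), (2314, 1705), (2315, 3798), (2316, 1515), (2317, 3801), (2318, 1709), (2319, 1710), (2320, 3809), (2321, 1712), (2322, 1713), (2323, 3817), (2324, 1519), (2325, 3820), (2326, 1717), (2327, 1718), (2328, 3828), (2329, 1720), (2330, 1721), (2331, 1723), (2332, 1724), (2333, 3836), (2334, 1523), (2335, 3840), (2336, 1728), (2337, 2724), (2338, 3729), (2339, 1526), (2340, 3849), (2341, 3850), (2342, 1737), (2343, 1744), (2344, 1746), (2345, 1747), (2346, 3862), (2347, 1529), (2348, 3866), (2349, 1751), (2350, 2775), (2351, 3742), (2352, 1532), (2353, 3875), (2354, 3876), (2355, 1760), (2356, 3884), (2357, 1534), (2358, 3889), (2359, 3890), (2360, 3751), (2361, 1536), (2362, 3895), (2363, 2385), (2364, 3902), (2365, 2387), (2366, 3753), (2367, 1540)]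
    ⟨e3 q2304 L46359 q1695, e3 q2305 L46365 q1696, e3 q2306 L46371 q1697, e3 q2307 L46379 q1698, e3 q2308 L46385 q1699, e3 q2309 (flp_d L85172) q2653, e3 q2310 L46391 q1701, e3 q2311 L46395 q1702, e3 q2312 L150283 q2657, e3 q2313 L46401 q1704, e3 q2314 L46405 q1705, e3 q2315 L93243 q3798, e3 q2316 (flp_d L46413) q1515, e3 q2317 (flp_d L93259) q3801, e3 q2318 L46423 q1709, e3 q2319 L46429 q1710, e3 q2320 L93297 q3809, e3 q2321 L46435 q1712, e3 q2322 L46441 q1713, e3 q2323 L93329 q3817, e3 q2324 (flp_d L46449) q1519, e3 q2325 (flp_d L93345) q3820, e3 q2326 L46459 q1717, e3 q2327 L46465 q1718, e3 q2328 L93383 q3828, e3 q2329 L46471 q1720, e3 q2330 L46477 q1721, e3 q2331 L46485 q1723, e3 q2332 L46489 q1724, e3 q2333 L93435 q3836, e3 q2334 (flp_d L46493) q1523, e3 q2335 (flp_d L93462) q3840, e3 q2336 L46507 q1728, e3 q2337 L85439 q2724, e3 q2338 (flp_d L92831) q3729, e3 q2339 L46517 q1526, e3 q2340 (flp_d L93500) q3849, e3 q2341 (flp_d L93508) q3850, e3 q2342 L46533 q1737, e3 q2343 L46537 q1744, e3 q2344 L46545 q1746,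 e3 q2345 L46549 q1747, e3 q2346 L93584 q3862, e3 q2347 (flp_d L46553) q1529, e3 q2348 (flp_d L93601) q3866, e3 q2349 L46567 q1751, e3 q2350 L85640 q2775, e3 q2351 (flp_d L92903) q3742, e3 q2352 L46577 q1532, e3 q2353 (flp_d L93639) q3875, e3 q2354 (flp_d L93647) q3876, e3 q2355 L46593 q1760, e3 q2356 L93677 q3884, e3 q2357 (flp_d L46647) q1534, e3 q2358 (flp_d L93699) q3889, e3 q2359 (flp_d L93703) q3890, e3 q2360 (flp_d L92952) q3751, e3 q2361 L46663 q1536, e3 q2362 (flp_d L93731) q3895, e3 q2363 (flp_d L46975) q2385, e3 q2364 L93749 q3902, e3 q2365 (flp_d L46989) q2387, e3 q2366 (flp_d L92960) q3753, e3 q2367 L46695 q1540, trivial⟩ (by decide +kernel)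

theorem ce_d_37 : ∀ r, r < 64 → sm gd (Qf (2368 + r)) = Qf (tab Gen.d (2368 + r)) :=
  edges_tab (sm gd) Qf (tab Gen.d) 2368 [(2368, 3906), (2369, 3908), (2370, 3913), (2371, 1541), (2372, 3918), (2373, 3919), (2374, 3761), (2375, 1543), (2376, 3924), (2377, 2402), (2378, 3930), (2379, 2404), (2380, 3763), (2381, 1547), (2382, 3934), (2383, 3936), (2384, 3941), (2385, 2363), (2386, 3020), (2387, 2365), (2388, 3945), (2389, 1552), (2390, 3952), (2391, 3950), (2392, 3951), (2393, 3958), (2394, 1555), (2395, 1554), (2396, 3962), (2397, 3960), (2398, 1570), (2399, 1558), (2400, 3969), (2401, 3971), (2402, 2377), (2403, 3021), (2404, 2379), (2405, 3975), (2406, 1563), (2407, 3982), (2408, 3980), (2409, 3981), (2410, 3988), (2411, 1566), (2412, 1565), (2413, 3992), (2414, 3990), (2415, 1571), (2416, 1569), (2417, 3999), (2418, 1574), (2419, 2425), (2420, 1576), (2421, 1577), (2422, 1573), (2423, 4000), (2424, 2428), (2425, 2419), (2426, 4001), (2427, 1575), (2428, 2424), (2429, 4012), (2430, 4003), (2431, 3400)]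
    ⟨e3 q2368 (flp_d L93767) q3906, e3 q2369 (flp_d L93773) q3908, e3 q2370 L93797 q3913, e3 q2371 (flp_d L46775) q1541, e3 q2372 (flp_d L93819) q3918, e3 q2373 (flp_d L93823) q3919, e3 q2374 (flp_d L93005) q3761, e3 q2375 L46791 q1543, e3 q2376 (flp_d L93851) q3924, e3 q2377 (flp_d L47312) q2402, e3 q2378 L93869 q3930, e3 q2379 (flp_d L47326) q2404, e3 q2380 (flp_d L93013) q3763, e3 q2381 L46823 q1547, e3 q2382 (flp_d L93887) q3934, e3 q2383 (flp_d L93893) q3936, e3 q2384 L93919 q3941, e3 q2385 L46975 q2363, e3 q2386 L119286 q3020, e3 q2387 L46989 q2365, e3 q2388 L94008 q3945, e3 q2389 (flp_d L47037) q1552, e3 q2390 L94048 q3952, e3 q2391 (flp_d L94042) q3950, e3 q2392 (flp_d L94046) q3951, e3 q2393 L94082 q3958, e3 q2394 L47067 q1555, e3 q2395 (flp_d L47069) q1554, e3 q2396 (flp_d L94116) q3962, e3 q2397 (flp_d L94100) q3960, e3 q2398 L47089 q1570, e3 q2399 L47107 q1558, e3 q2400 L94160 q3969, e3 q2401 L94170 q3971, e3 q2402 L47312 q2377, e3 q2403 (flp_d L148272) q3021, e3 q2404 L47326 q2379, e3 q2405 L94259 q3975,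 e3 q2406 (flp_d L47376) q1563, e3 q2407 L94299 q3982, e3 q2408 (flp_d L94293) q3980, e3 q2409 (flp_d L94297) q3981, e3 q2410 L94333 q3988, e3 q2411 L47406 q1566, e3 q2412 (flp_d L47408) q1565, e3 q2413 (flp_d L94367) q3992, e3 q2414 (flp_d L94351) q3990, e3 q2415 L47428 q1571, e3 q2416 L47446 q1569, e3 q2417 L94411 q3999, e3 q2418 L83814 q1574, e3 q2419 L120017 q2425, e3 q2420 L83824 q1576, e3 q2421 L83829 q1577, e3 q2422 (flp_d L83831) q1573, e3 q2423 (flp_d L94419) q4000, e3 q2424 L120173 q2428, e3 q2425 (flp_d L120017) q2419, e3 q2426 (flp_d L94438) q4001, e3 q2427 (flp_d L83853) q1575, e3 q2428 (flp_d L120173) q2424, e3 q2429 (flp_d L94512) q4012, e3 q2430 (flp_d L94459) q4003, e3 q2431 (flp_d L90836) q3400, trivial⟩ (by decide +kernel)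

theorem ce_d_38 : ∀ r, r < 64 → sm gd (Qf (2432 + r)) = Qf (tab Gen.d (2432 + r)) :=
  edges_tab (sm gd) Qf (tab Gen.d) 2432 [(2432, 4002), (2433, 1611), (2434, 1579), (2435, 4021), (2436, 4020), (2437, 3397), (2438, 4029), (2439, 3399), (2440, 2091), (2441, 1606), (2442, 4037), (2443, 1588), (2444, 4040), (2445, 1585), (2446, 4043), (2447, 4045), (2448, 1591), (2449, 2456), (2450, 1593), (2451, 1594), (2452, 1590), (2453, 4046), (2454, 2459), (2455, 4047), (2456, 2449), (2457, 1592), (2458, 4058), (2459, 2454), (2460, 3375), (2461, 4048), (2462, 4049), (2463, 1616), (2464, 1596), (2465, 4067), (2466, 4066), (2467, 3373), (2468, 4075), (2469, 3376), (2470, 2104), (2471, 1607), (2472, 4083), (2473, 1605), (2474, 4086), (2475, 1602), (2476, 4089), (2477, 4091), (2478, 4093), (2479, 4095), (2480, 1609), (2481, 4099), (2482, 4007), (2483, 2085), (2484, 2087), (2485, 2088), (2486, 4109), (2487, 4111), (2488, 1614), (2489, 4115), (2490, 4054), (2491, 2098), (2492, 2100), (2493, 2101), (2494, 4124), (2495, 3114)]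
    ⟨e3 q2432 (flp_d L120136) q4002, e3 q2433 L83887 q1611, e3 q2434 L83891 q1579, e3 q2435 (flp_d L94568) q4021, e3 q2436 (flp_d L94560) q4020, e3 q2437 (flp_d L90822) q3397, e3 q2438 L94600 q4029, e3 q2439 (flp_d L90830) q3399, e3 q2440 L83917 q2091, e3 q2441 L83921 q1606, e3 q2442 L94640 q4037, e3 q2443 L83943 q1588, e3 q2444 L94668 q4040, e3 q2445 (flp_d L83951) q1585, e3 q2446 (flp_d L94684) q4043, e3 q2447 L94688 q4045, e3 q2448 L83970 q1591, e3 q2449 (flp_d L148443) q2456, e3 q2450 L83980 q1593, e3 q2451 L83985 q1594, e3 q2452 (flp_d L83987) q1590, e3 q2453 (flp_d L94698) q4046, e3 q2454 (flp_d L148528) q2459, e3 q2455 (flp_d L94710) q4047, e3 q2456 L148443 q2449, e3 q2457 (flp_d L84009) q1592, e3 q2458 (flp_d L94787) q4058, e3 q2459 L148528 q2454, e3 q2460 (flp_d L90704) q3375, e3 q2461 L148459 q4048, e3 q2462 (flp_d L94747) q4049, e3 q2463 L84043 q1616, e3 q2464 L84047 q1596, e3 q2465 (flp_d L94847) q4067, e3 q2466 (flp_d L94839) q4066, e3 q2467 (flp_d L90696) q3373, e3 q2468 L94879 q4075, e3 q2469 (flp_d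 L90710) q3376, e3 q2470 L84073 q2104, e3 q2471 L84077 q1607, e3 q2472 L94919 q4083, e3 q2473 L84099 q1605, e3 q2474 L94949 q4086, e3 q2475 (flp_d L84107) q1602, e3 q2476 (flp_d L94969) q4089, e3 q2477 L94975 q4091, e3 q2478 L95037 q4093, e3 q2479 L95054 q4095, e3 q2480 (flp_d L84191) q1609, e3 q2481 (flp_d L95076) q4099, e3 q2482 L120212 q4007, e3 q2483 L84208 q2085, e3 q2484 L84212 q2087, e3 q2485 L84218 q2088, e3 q2486 L95131 q4109, e3 q2487 L95148 q4111, e3 q2488 (flp_d L84238) q1614, e3 q2489 (flp_d L95170) q4115, e3 q2490 L146470 q4054, e3 q2491 L84255 q2098, e3 q2492 L84259 q2100, e3 q2493 L84263 q2101, e3 q2494 L95219 q4124, e3 q2495 (flp_d L89060) q3114, trivial⟩ (by decide +kernel)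

theorem ce_d_39 : ∀ r, r < 64 → sm gd (Qf (2496 + r)) = Qf (tab Gen.d (2496 + r)) :=
  edges_tab (sm gd) Qf (tab Gen.d) 2496 [(2496, 3115), (2497, 1619), (2498, 4130), (2499, 4131), (2500, 1621), (2501, 1622), (2502, 4136), (2503, 4137), (2504, 4138), (2505, 4139), (2506, 4149), (2507, 1623), (2508, 4152), (2509, 4153), (2510, 1626), (2511, 1627), (2512, 4156), (2513, 4165), (2514, 4158), (2515, 4159), (2516, 4171), (2517, 4161), (2518, 1629), (2519, 1630), (2520, 4174), (2521, 4175), (2522, 4176), (2523, 4177), (2524, 1635), (2525, 4186), (2526, 1637), (2527, 1638), (2528, 1639), (2529, 4194), (2530, 1641), (2531, 1642), (2532, 4184), (2533, 4203), (2534, 1636), (2535, 4206), (2536, 4188), (2537, 4189), (2538, 4214), (2539, 4191), (2540, 4192), (2541, 4220), (2542, 1640), (2543, 4223), (2544, 4196), (2545, 4197), (2546, 4231), (2547, 4199), (2548, 1651), (2549, 4237), (2550, 1653), (2551, 1644), (2552, 4242), (2553, 1656), (2554, 1657), (2555, 1658), (2556, 4252), (2557, 1660), (2558, 1661), (2559, 4258)]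
    ⟨e3 q2496 (flp_d L89068) q3115, e3 q2497 (flp_d L84289) q1619, e3 q2498 (flp_d L95266) q4130, e3 q2499 (flp_d L95272) q4131, e3 q2500 L84308 q1621, e3 q2501 L84312 q1622, e3 q2502 (flp_d L95304) q4136, e3 q2503 (flp_d L95312) q4137, e3 q2504 (flp_d L95318) q4138, e3 q2505 (flp_d L95328) q4139, e3 q2506 L95374 q4149, e3 q2507 (flp_d L84342) q1623, e3 q2508 (flp_d L95390) q4152, e3 q2509 (flp_d L95399) q4153, e3 q2510 L84375 q1626, e3 q2511 L84379 q1627, e3 q2512 (flp_d L95408) q4156, e3 q2513 L95444 q4165, e3 q2514 (flp_d L95414) q4158, e3 q2515 (flp_d L95418) q4159, e3 q2516 L95479 q4171, e3 q2517 (flp_d L95424) q4161, e3 q2518 L84409 q1629, e3 q2519 L84414 q1630, e3 q2520 (flp_d L95498) q4174, e3 q2521 (flp_d L95504) q4175, e3 q2522 (flp_d L95511) q4176, e3 q2523 (flp_d L95521) q4177, e3 q2524 L84439 q1635, e3 q2525 L95560 q4186, e3 q2526 L84449 q1637, e3 q2527 L84453 q1638, e3 q2528 L84457 q1639, e3 q2529 L95596 q4194, e3 q2530 L84467 q1641, e3 q2531 L84471 q1642, e3 q2532 (flp_d L95552) q4184, e3 q2533 L95636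 q4203, e3 q2534 (flp_d L84485) q1636, e3 q2535 (flp_d L95655) q4206, e3 q2536 (flp_d L95570) q4188, e3 q2537 (flp_d L95576) q4189, e3 q2538 L95696 q4214, e3 q2539 (flp_d L95582) q4191, e3 q2540 (flp_d L95588) q4192, e3 q2541 L95735 q4220, e3 q2542 (flp_d L84529) q1640, e3 q2543 (flp_d L95754) q4223, e3 q2544 (flp_d L95606) q4196, e3 q2545 (flp_d L95612) q4197, e3 q2546 L95795 q4231, e3 q2547 (flp_d L95618) q4199, e3 q2548 L84563 q1651, e3 q2549 L95828 q4237, e3 q2550 L84573 q1653, e3 q2551 (flp_d L84577) q1644, e3 q2552 (flp_d L95851) q4242, e3 q2553 L84586 q1656, e3 q2554 L84594 q1657, e3 q2555 L84600 q1658, e3 q2556 L95898 q4252, e3 q2557 L84607 q1660, e3 q2558 L84613 q1661, e3 q2559 L95929 q4258, trivial⟩ (by decide +kernel)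

theorem ce_d_40 : ∀ r, r < 64 → sm gd (Qf (2560 + r)) = Qf (tab Gen.d (2560 + r)) :=
  edges_tab (sm gd) Qf (tab Gen.d) 2560 [(2560, 1663), (2561, 1648), (2562, 4263), (2563, 1666), (2564, 1667), (2565, 1668), (2566, 4273), (2567, 1670), (2568, 3129), (2569, 4279), (2570, 4234), (2571, 4235), (2572, 4286), (2573, 1652), (2574, 4291), (2575, 4239), (2576, 4297), (2577, 1730), (2578, 1655), (2579, 4301), (2580, 4302), (2581, 4245), (2582, 4308), (2583, 4247), (2584, 4248), (2585, 4249), (2586, 4319), (2587, 4251), (2588, 1659), (2589, 4324), (2590, 4254), (2591, 3133), (2592, 4330), (2593, 4255), (2594, 4256), (2595, 4337), (2596, 1662), (2597, 4342), (2598, 4260), (2599, 4348), (2600, 1753), (2601, 1665), (2602, 4352), (2603, 4353), (2604, 4266), (2605, 4359), (2606, 4268), (2607, 4269), (2608, 4270), (2609, 4370), (2610, 4272), (2611, 1669), (2612, 4375), (2613, 4275), (2614, 1673), (2615, 1767), (2616, 4378), (2617, 4380), (2618, 1683), (2619, 4386), (2620, 4388), (2621, 1675), (2622, 2286), (2623, 1778)]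
    ⟨e3 q2560 L84623 q1663, e3 q2561 (flp_d L84627) q1648, e3 q2562 (flp_d L95952) q4263, e3 q2563 L84636 q1666, e3 q2564 L84646 q1667, e3 q2565 L84652 q1668, e3 q2566 L96011 q4273, e3 q2567 L84663 q1670, e3 q2568 (flp_d L96157) q3129, e3 q2569 L96048 q4279, e3 q2570 (flp_d L95820) q4234, e3 q2571 (flp_d L95824) q4235, e3 q2572 L96087 q4286, e3 q2573 (flp_d L84689) q1652, e3 q2574 (flp_d L96115) q4291, e3 q2575 (flp_d L95842) q4239, e3 q2576 L96141 q4297, e3 q2577 L84713 q1730, e3 q2578 L84717 q1655, e3 q2579 (flp_d L96175) q4301, e3 q2580 (flp_d L96183) q4302, e3 q2581 (flp_d L95866) q4245, e3 q2582 L96213 q4308, e3 q2583 (flp_d L95876) q4247, e3 q2584 (flp_d L95880) q4248, e3 q2585 (flp_d L95884) q4249, e3 q2586 L96263 q4319, e3 q2587 (flp_d L95894) q4251, e3 q2588 (flp_d L84773) q1659, e3 q2589 (flp_d L96291) q4324, e3 q2590 (flp_d L95909) q4254, e3 q2591 (flp_d L96442) q3133, e3 q2592 L96333 q4330, e3 q2593 (flp_d L95921) q4255, e3 q2594 (flp_d L95925) q4256, e3 q2595 L96372 q4337, e3 q2596 (flp_d L84811) q1662,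 e3 q2597 (flp_d L96400) q4342, e3 q2598 (flp_d L95943) q4260, e3 q2599 L96426 q4348, e3 q2600 L84835 q1753, e3 q2601 L84839 q1665, e3 q2602 (flp_d L96460) q4352, e3 q2603 (flp_d L96468) q4353, e3 q2604 (flp_d L95967) q4266, e3 q2605 L96498 q4359, e3 q2606 (flp_d L95981) q4268, e3 q2607 (flp_d L95987) q4269, e3 q2608 (flp_d L95991) q4270, e3 q2609 L96550 q4370, e3 q2610 (flp_d L96005) q4272, e3 q2611 (flp_d L84895) q1669, e3 q2612 (flp_d L96578) q4375, e3 q2613 (flp_d L96024) q4275, e3 q2614 L84915 q1673, e3 q2615 L84925 q1767, e3 q2616 (flp_d L96598) q4378, e3 q2617 (flp_d L96608) q4380, e3 q2618 L84938 q1683, e3 q2619 L96647 q4386, e3 q2620 L96655 q4388, e3 q2621 (flp_d L84956) q1675, e3 q2622 L84972 q2286, e3 q2623 L84976 q1778, trivial⟩ (by decide +kernel)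

theorem ce_d_41 : ∀ r, r < 64 → sm gd (Qf (2624 + r)) = Qf (tab Gen.d (2624 + r)) :=
  edges_tab (sm gd) Qf (tab Gen.d) 2624 [(2624, 1679), (2625, 1779), (2626, 4394), (2627, 4396), (2628, 1685), (2629, 4402), (2630, 4404), (2631, 1681), (2632, 2292), (2633, 1790), (2634, 4411), (2635, 1684), (2636, 4414), (2637, 1686), (2638, 3190), (2639, 3191), (2640, 1689), (2641, 4418), (2642, 4419), (2643, 3777), (2644, 3778), (2645, 4429), (2646, 4129), (2647, 1693), (2648, 1694), (2649, 4435), (2650, 4436), (2651, 4437), (2652, 4438), (2653, 2309), (2654, 4447), (2655, 3783), (2656, 3784), (2657, 2312), (2658, 4455), (2659, 3785), (2660, 3786), (2661, 3787), (2662, 4466), (2663, 3788), (2664, 1700), (2665, 4470), (2666, 3789), (2667, 3790), (2668, 4478), (2669, 3791), (2670, 1703), (2671, 4482), (2672, 3792), (2673, 3793), (2674, 3560), (2675, 3795), (2676, 3796), (2677, 4491), (2678, 1706), (2679, 4497), (2680, 4205), (2681, 1708), (2682, 4501), (2683, 3803), (2684, 4506), (2685, 3805), (2686, 3806), (2687, 4512)]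
    ⟨e3 q2624 L84980 q1679, e3 q2625 L84990 q1779, e3 q2626 (flp_d L96697) q4394, e3 q2627 (flp_d L96707) q4396, e3 q2628 L85003 q1685, e3 q2629 L96746 q4402, e3 q2630 L96754 q4404, e3 q2631 (flp_d L85023) q1681, e3 q2632 L85039 q2292, e3 q2633 L85043 q1790, e3 q2634 L96799 q4411, e3 q2635 (flp_d L85055) q1684, e3 q2636 L96828 q4414, e3 q2637 (flp_d L85069) q1686, e3 q2638 L141667 q3190, e3 q2639 (flp_d L137834) q3191, e3 q2640 (flp_d L85117) q1689, e3 q2641 (flp_d L96924) q4418, e3 q2642 (flp_d L96930) q4419, e3 q2643 (flp_d L93115) q3777, e3 q2644 (flp_d L93121) q3778, e3 q2645 L96951 q4429, e3 q2646 (flp_d L95260) q4129, e3 q2647 L85144 q1693, e3 q2648 L85148 q1694, e3 q2649 (flp_d L96981) q4435, e3 q2650 (flp_d L96986) q4436, e3 q2651 (flp_d L96992) q4437, e3 q2652 (flp_d L96999) q4438, e3 q2653 L85172 q2309, e3 q2654 L97054 q4447, e3 q2655 (flp_d L93145) q3783, e3 q2656 (flp_d L93149) q3784, e3 q2657 (flp_d L150283) q2312, e3 q2658 L97084 q4455, e3 q2659 (flp_d L93163) q3785, e3 q2660 (flp_d L93167) q3786,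 e3 q2661 (flp_d L93171) q3787, e3 q2662 L97126 q4466, e3 q2663 (flp_d L93181) q3788, e3 q2664 (flp_d L85208) q1700, e3 q2665 (flp_d L97145) q4470, e3 q2666 (flp_d L93191) q3789, e3 q2667 (flp_d L93197) q3790, e3 q2668 L97172 q4478, e3 q2669 (flp_d L93207) q3791, e3 q2670 (flp_d L85233) q1703, e3 q2671 (flp_d L97193) q4482, e3 q2672 L150160 q3792, e3 q2673 (flp_d L93227) q3793, e3 q2674 (flp_d L91812) q3560, e3 q2675 (flp_d L93233) q3795, e3 q2676 (flp_d L93239) q3796, e3 q2677 L97238 q4491, e3 q2678 (flp_d L85258) q1706, e3 q2679 L97266 q4497, e3 q2680 (flp_d L95651) q4205, e3 q2681 L85275 q1708, e3 q2682 (flp_d L97290) q4501, e3 q2683 (flp_d L93265) q3803, e3 q2684 L97311 q4506, e3 q2685 (flp_d L93275) q3805, e3 q2686 (flp_d L93279) q3806, e3 q2687 L97333 q4512, trivial⟩ (by decide +kernel)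

theorem ce_d_42 : ∀ r, r < 64 → sm gd (Qf (2688 + r)) = Qf (tab Gen.d (2688 + r)) :=
  edges_tab (sm gd) Qf (tab Gen.d) 2688 [(2688, 3808), (2689, 1711), (2690, 4516), (2691, 3811), (2692, 3812), (2693, 3564), (2694, 3814), (2695, 3815), (2696, 4526), (2697, 1714), (2698, 4532), (2699, 4222), (2700, 1716), (2701, 4536), (2702, 3822), (2703, 4541), (2704, 3824), (2705, 3825), (2706, 4547), (2707, 3827), (2708, 1719), (2709, 4551), (2710, 3830), (2711, 3831), (2712, 3832), (2713, 3268), (2714, 1722), (2715, 3072), (2716, 4559), (2717, 3833), (2718, 3834), (2719, 3835), (2720, 4568), (2721, 1725), (2722, 4573), (2723, 4574), (2724, 2337), (2725, 4290), (2726, 1727), (2727, 4582), (2728, 3842), (2729, 4589), (2730, 3844), (2731, 1729), (2732, 4593), (2733, 4592), (2734, 4300), (2735, 1732), (2736, 1733), (2737, 4599), (2738, 4605), (2739, 4601), (2740, 4602), (2741, 2807), (2742, 4616), (2743, 1735), (2744, 4619), (2745, 2812), (2746, 3854), (2747, 4626), (2748, 3856), (2749, 2800), (2750, 4633), (2751, 2802)]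
    ⟨e3 q2688 (flp_d L93289) q3808, e3 q2689 (flp_d L85302) q1711, e3 q2690 (flp_d L97352) q4516, e3 q2691 (flp_d L93307) q3811, e3 q2692 (flp_d L93313) q3812, e3 q2693 L150450 q3564, e3 q2694 (flp_d L93319) q3814, e3 q2695 (flp_d L93323) q3815, e3 q2696 L97409 q4526, e3 q2697 (flp_d L85327) q1714, e3 q2698 L97437 q4532, e3 q2699 (flp_d L95750) q4222, e3 q2700 L85344 q1716, e3 q2701 (flp_d L97461) q4536, e3 q2702 (flp_d L93351) q3822, e3 q2703 L97482 q4541, e3 q2704 (flp_d L93361) q3824, e3 q2705 (flp_d L93365) q3825, e3 q2706 L97506 q4547, e3 q2707 (flp_d L93375) q3827, e3 q2708 (flp_d L85371) q1719, e3 q2709 (flp_d L97525) q4551, e3 q2710 (flp_d L93393) q3830, e3 q2711 (flp_d L93403) q3831, e3 q2712 (flp_d L93411) q3832, e3 q2713 L119627 q3268, e3 q2714 (flp_d L85400) q1722, e3 q2715 (flp_d L119600) q3072, e3 q2716 (flp_d L97577) q4559, e3 q2717 (flp_d L93415) q3833, e3 q2718 (flp_d L93421) q3834, e3 q2719 (flp_d L93431) q3835, e3 q2720 L97619 q4568, e3 q2721 (flp_d L85427) q1725, e3 q2722 (flp_d L97640) q4573,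 e3 q2723 (flp_d L97644) q4574, e3 q2724 (flp_d L85439) q2337, e3 q2725 (flp_d L96109) q4290, e3 q2726 L85449 q1727, e3 q2727 (flp_d L97690) q4582, e3 q2728 (flp_d L93470) q3842, e3 q2729 L97716 q4589, e3 q2730 (flp_d L93476) q3844, e3 q2731 (flp_d L85463) q1729, e3 q2732 L97737 q4593, e3 q2733 (flp_d L97735) q4592, e3 q2734 (flp_d L96169) q4300, e3 q2735 L85485 q1732, e3 q2736 L85493 q1733, e3 q2737 (flp_d L97773) q4599, e3 q2738 L97797 q4605, e3 q2739 (flp_d L97783) q4601, e3 q2740 (flp_d L97787) q4602, e3 q2741 (flp_d L85776) q2807, e3 q2742 L97833 q4616, e3 q2743 (flp_d L85519) q1735, e3 q2744 (flp_d L97849) q4619, e3 q2745 (flp_d L85798) q2812, e3 q2746 (flp_d L93522) q3854, e3 q2747 L97921 q4626, e3 q2748 (flp_d L93528) q3856, e3 q2749 (flp_d L85746) q2800, e3 q2750 L97949 q4633, e3 q2751 (flp_d L85754) q2802, trivial⟩ (by decide +kernel)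

theorem ce_d_43 : ∀ r, r < 64 → sm gd (Qf (2752 + r)) = Qf (tab Gen.d (2752 + r)) :=
  edges_tab (sm gd) Qf (tab Gen.d) 2752 [(2752, 2803), (2753, 4639), (2754, 1739), (2755, 4644), (2756, 2792), (2757, 4648), (2758, 4323), (2759, 1742), (2760, 4652), (2761, 2796), (2762, 3857), (2763, 3858), (2764, 3292), (2765, 1745), (2766, 4661), (2767, 3079), (2768, 3859), (2769, 3860), (2770, 3861), (2771, 4669), (2772, 1748), (2773, 4674), (2774, 4675), (2775, 2350), (2776, 4341), (2777, 1750), (2778, 4683), (2779, 3868), (2780, 4689), (2781, 3870), (2782, 1752), (2783, 4693), (2784, 4692), (2785, 4351), (2786, 1755), (2787, 1756), (2788, 4699), (2789, 4705), (2790, 4701), (2791, 4702), (2792, 2756), (2793, 4716), (2794, 1758), (2795, 4719), (2796, 2761), (2797, 3880), (2798, 4726), (2799, 3882), (2800, 2749), (2801, 4733), (2802, 2751), (2803, 2752), (2804, 4739), (2805, 1762), (2806, 4743), (2807, 2741), (2808, 4642), (2809, 4374), (2810, 1765), (2811, 4750), (2812, 2745), (2813, 4379), (2814, 1769), (2815, 1771)]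
    ⟨e3 q2752 (flp_d L85758) q2803, e3 q2753 L97991 q4639, e3 q2754 (flp_d L85549) q1739, e3 q2755 (flp_d L98013) q4644, e3 q2756 (flp_d L85714) q2792, e3 q2757 L98025 q4648, e3 q2758 (flp_d L96287) q4323, e3 q2759 L85571 q1742, e3 q2760 (flp_d L98047) q4652, e3 q2761 (flp_d L85732) q2796, e3 q2762 (flp_d L93540) q3857, e3 q2763 (flp_d L93546) q3858, e3 q2764 (flp_d L149889) q3292, e3 q2765 (flp_d L85601) q1745, e3 q2766 (flp_d L98139) q4661, e3 q2767 L149989 q3079, e3 q2768 (flp_d L93564) q3859, e3 q2769 (flp_d L93570) q3860, e3 q2770 (flp_d L93578) q3861, e3 q2771 L98193 q4669, e3 q2772 (flp_d L85628) q1748, e3 q2773 (flp_d L98214) q4674, e3 q2774 (flp_d L98218) q4675, e3 q2775 (flp_d L85640) q2350, e3 q2776 (flp_d L96394) q4341, e3 q2777 L85650 q1750, e3 q2778 (flp_d L98264) q4683, e3 q2779 (flp_d L93609) q3868, e3 q2780 L98286 q4689, e3 q2781 (flp_d L93615) q3870, e3 q2782 (flp_d L85664) q1752, e3 q2783 L98307 q4693, e3 q2784 (flp_d L98305) q4692, e3 q2785 (flp_d L96454) q4351, e3 q2786 L85686 q1755, e3 q2787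 L85694 q1756, e3 q2788 (flp_d L98343) q4699, e3 q2789 L98367 q4705, e3 q2790 (flp_d L98353) q4701, e3 q2791 (flp_d L98357) q4702, e3 q2792 L85714 q2756, e3 q2793 L98413 q4716, e3 q2794 (flp_d L85722) q1758, e3 q2795 (flp_d L98429) q4719, e3 q2796 L85732 q2761, e3 q2797 (flp_d L93661) q3880, e3 q2798 L98465 q4726, e3 q2799 (flp_d L93667) q3882, e3 q2800 L85746 q2749, e3 q2801 L98517 q4733, e3 q2802 L85754 q2751, e3 q2803 L85758 q2752, e3 q2804 L98547 q4739, e3 q2805 (flp_d L85762) q1762, e3 q2806 (flp_d L98563) q4743, e3 q2807 L85776 q2741, e3 q2808 L98003 q4642, e3 q2809 (flp_d L96574) q4374, e3 q2810 L85786 q1765, e3 q2811 (flp_d L98591) q4750, e3 q2812 L85798 q2745, e3 q2813 (flp_d L96604) q4379, e3 q2814 L85808 q1769, e3 q2815 (flp_d L118184) q1771, trivial⟩ (by decide +kernel)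

theorem ce_d_44 : ∀ r, r < 64 → sm gd (Qf (2816 + r)) = Qf (tab Gen.d (2816 + r)) :=
  edges_tab (sm gd) Qf (tab Gen.d) 2816 [(2816, 4757), (2817, 4763), (2818, 4758), (2819, 1770), (2820, 4767), (2821, 4600), (2822, 3771), (2823, 4771), (2824, 4773), (2825, 1774), (2826, 4779), (2827, 1775), (2828, 4784), (2829, 4785), (2830, 4391), (2831, 2862), (2832, 4792), (2833, 4395), (2834, 1781), (2835, 1783), (2836, 4795), (2837, 4801), (2838, 4796), (2839, 1782), (2840, 4805), (2841, 4700), (2842, 3776), (2843, 4809), (2844, 4811), (2845, 1786), (2846, 4817), (2847, 1787), (2848, 4822), (2849, 4823), (2850, 4407), (2851, 2880), (2852, 4830), (2853, 3632), (2854, 3961), (2855, 1793), (2856, 1794), (2857, 4837), (2858, 1817), (2859, 1796), (2860, 4841), (2861, 1798), (2862, 2831), (2863, 4847), (2864, 4849), (2865, 1801), (2866, 4857), (2867, 4855), (2868, 4856), (2869, 4860), (2870, 1803), (2871, 3638), (2872, 3991), (2873, 1806), (2874, 1807), (2875, 4866), (2876, 1818), (2877, 1809), (2878, 4870), (2879, 1811)]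
    ⟨e3 q2816 (flp_d L98633) q4757, e3 q2817 L98671 q4763, e3 q2818 (flp_d L118188) q4758, e3 q2819 (flp_d L85830) q1770, e3 q2820 (flp_d L98691) q4767, e3 q2821 (flp_d L118179) q4600, e3 q2822 (flp_d L93073) q3771, e3 q2823 L98708 q4771, e3 q2824 L98720 q4773, e3 q2825 (flp_d L85866) q1774, e3 q2826 L98744 q4779, e3 q2827 (flp_d L85872) q1775, e3 q2828 (flp_d L98764) q4784, e3 q2829 (flp_d L98768) q4785, e3 q2830 (flp_d L96677) q4391, e3 q2831 (flp_d L86077) q2862, e3 q2832 L98792 q4792, e3 q2833 (flp_d L96703) q4395, e3 q2834 L85900 q1781, e3 q2835 (flp_d L149467) q1783, e3 q2836 (flp_d L98810) q4795, e3 q2837 L98850 q4801, e3 q2838 (flp_d L149364) q4796, e3 q2839 (flp_d L85922) q1782, e3 q2840 (flp_d L98872) q4805, e3 q2841 L149446 q4700, e3 q2842 (flp_d L93111) q3776, e3 q2843 L98891 q4809, e3 q2844 L98903 q4811, e3 q2845 (flp_d L85958) q1786, e3 q2846 L98927 q4817, e3 q2847 (flp_d L85964) q1787, e3 q2848 (flp_d L98947) q4822, e3 q2849 (flp_d L98953) q4823, e3 q2850 (flp_d L96776) q4407, e3 q2851 (flp_d L86188)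 q2880, e3 q2852 L98975 q4830, e3 q2853 (flp_d L92104) q3632, e3 q2854 (flp_d L94108) q3961, e3 q2855 (flp_d L85999) q1793, e3 q2856 (flp_d L86009) q1794, e3 q2857 L99037 q4837, e3 q2858 L86033 q1817, e3 q2859 (flp_d L86035) q1796, e3 q2860 L99083 q4841, e3 q2861 L86071 q1798, e3 q2862 L86077 q2831, e3 q2863 L99133 q4847, e3 q2864 L99143 q4849, e3 q2865 (flp_d L86091) q1801, e3 q2866 L99181 q4857, e3 q2867 (flp_d L99175) q4855, e3 q2868 (flp_d L99179) q4856, e3 q2869 L99211 q4860, e3 q2870 (flp_d L86115) q1803, e3 q2871 (flp_d L92131) q3638, e3 q2872 (flp_d L94359) q3991, e3 q2873 (flp_d L86130) q1806, e3 q2874 (flp_d L86140) q1807, e3 q2875 L99271 q4866, e3 q2876 L86154 q1818, e3 q2877 (flp_d L86156) q1809, e3 q2878 L99307 q4870, e3 q2879 L86176 q1811, trivial⟩ (by decide +kernel)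

theorem ce_d_45 : ∀ r, r < 64 → sm gd (Qf (2880 + r)) = Qf (tab Gen.d (2880 + r)) :=
  edges_tab (sm gd) Qf (tab Gen.d) 2880 [(2880, 2851), (2881, 4876), (2882, 4878), (2883, 1814), (2884, 4884), (2885, 4882), (2886, 4883), (2887, 4885), (2888, 1816), (2889, 1822), (2890, 1823), (2891, 1825), (2892, 4891), (2893, 4886), (2894, 1835), (2895, 2908), (2896, 4887), (2897, 1833), (2898, 4888), (2899, 4901), (2900, 4890), (2901, 1829), (2902, 4087), (2903, 1827), (2904, 4907), (2905, 1836), (2906, 4912), (2907, 4898), (2908, 2895), (2909, 4894), (2910, 4909), (2911, 4920), (2912, 4911), (2913, 1840), (2914, 4041), (2915, 1838), (2916, 4926), (2917, 3402), (2918, 3403), (2919, 3404), (2920, 4417), (2921, 1842), (2922, 4932), (2923, 4933), (2924, 3016), (2925, 1844), (2926, 1845), (2927, 4936), (2928, 4937), (2929, 4942), (2930, 1846), (2931, 4945), (2932, 4946), (2933, 2243), (2934, 1848), (2935, 1849), (2936, 4951), (2937, 4952), (2938, 4953), (2939, 4954), (2940, 1852), (2941, 1853), (2942, 4961), (2943, 4963)]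
    ⟨e3 q2880 L86188 q2851, e3 q2881 L99361 q4876, e3 q2882 L99371 q4878, e3 q2883 (flp_d L86202) q1814, e3 q2884 L99409 q4884, e3 q2885 (flp_d L99403) q4882, e3 q2886 (flp_d L99407) q4883, e3 q2887 L99439 q4885, e3 q2888 (flp_d L86226) q1816, e3 q2889 L86613 q1822, e3 q2890 L86621 q1823, e3 q2891 L86647 q1825, e3 q2892 L99919 q4891, e3 q2893 (flp_d L99834) q4886, e3 q2894 L147068 q1835, e3 q2895 (flp_d L147167) q2908, e3 q2896 (flp_d L99869) q4887, e3 q2897 L147413 q1833, e3 q2898 (flp_d L99903) q4888, e3 q2899 L100039 q4901, e3 q2900 (flp_d L99911) q4890, e3 q2901 L86743 q1829, e3 q2902 (flp_d L94959) q4087, e3 q2903 (flp_d L86751) q1827, e3 q2904 (flp_d L100089) q4907, e3 q2905 L86894 q1836, e3 q2906 L100343 q4912, e3 q2907 (flp_d L147204) q4898, e3 q2908 L147167 q2895, e3 q2909 L147128 q4894, e3 q2910 (flp_d L100327) q4909, e3 q2911 L100463 q4920, e3 q2912 (flp_d L100335) q4911, e3 q2913 L86990 q1840, e3 q2914 (flp_d L94678) q4041, e3 q2915 (flp_d L86998) q1838, e3 q2916 (flp_d L100515) q4926, e3 q2917 (flp_d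 L90894) q3402, e3 q2918 (flp_d L90904) q3403, e3 q2919 (flp_d L90913) q3404, e3 q2920 (flp_d L96918) q4417, e3 q2921 (flp_d L87961) q1842, e3 q2922 (flp_d L101797) q4932, e3 q2923 (flp_d L101803) q4933, e3 q2924 L88506 q3016, e3 q2925 L87982 q1844, e3 q2926 L87987 q1845, e3 q2927 (flp_d L101819) q4936, e3 q2928 (flp_d L101827) q4937, e3 q2929 L101855 q4942, e3 q2930 (flp_d L88008) q1846, e3 q2931 (flp_d L101877) q4945, e3 q2932 (flp_d L101887) q4946, e3 q2933 L88036 q2243, e3 q2934 L88040 q1848, e3 q2935 L88046 q1849, e3 q2936 (flp_d L101921) q4951, e3 q2937 (flp_d L101929) q4952, e3 q2938 (flp_d L101937) q4953, e3 q2939 (flp_d L101947) q4954, e3 q2940 L88080 q1852, e3 q2941 L88086 q1853, e3 q2942 (flp_d L101987) q4961, e3 q2943 (flp_d L102005) q4963, trivial⟩ (by decide +kernel)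

theorem ce_d_46 : ∀ r, r < 64 → sm gd (Qf (2944 + r)) = Qf (tab Gen.d (2944 + r)) :=
  edges_tab (sm gd) Qf (tab Gen.d) 2944 [(2944, 4964), (2945, 4966), (2946, 1996), (2947, 4832), (2948, 1997), (2949, 1998), (2950, 1999), (2951, 2000), (2952, 2001), (2953, 2003), (2954, 2004), (2955, 2005), (2956, 2007), (2957, 2008), (2958, 2009), (2959, 2011), (2960, 2015), (2961, 2019), (2962, 2021), (2963, 2025), (2964, 1866), (2965, 1867), (2966, 4997), (2967, 4998), (2968, 5005), (2969, 5006), (2970, 1898), (2971, 1905), (2972, 1906), (2973, 3552), (2974, 3043), (2975, 3553), (2976, 3041), (2977, 3554), (2978, 5018), (2979, 3556), (2980, 3557), (2981, 5024), (2982, 3559), (2983, 1875), (2984, 1876), (2985, 4941), (2986, 1877), (2987, 3899), (2988, 3928), (2989, 1879), (2990, 1880), (2991, 5031), (2992, 5032), (2993, 5033), (2994, 5034), (2995, 1883), (2996, 1884), (2997, 1885), (2998, 1886), (2999, 5043), (3000, 5054), (3001, 5045), (3002, 5046), (3003, 5047), (3004, 5064), (3005, 5049), (3006, 5050), (3007, 1887)]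
    ⟨e3 q2944 (flp_d L102011) q4964, e3 q2945 (flp_d L102116) q4966, e3 q2946 L88112 q1996, e3 q2947 (flp_d L119073) q4832, e3 q2948 L88120 q1997, e3 q2949 L88124 q1998, e3 q2950 L88128 q1999, e3 q2951 L88132 q2000, e3 q2952 L88137 q2001, e3 q2953 L88144 q2003, e3 q2954 L88148 q2004, e3 q2955 L88153 q2005, e3 q2956 L88160 q2007, e3 q2957 L88164 q2008, e3 q2958 L88168 q2009, e3 q2959 L88175 q2011, e3 q2960 L88184 q2015, e3 q2961 L88190 q2019, e3 q2962 L88197 q2021, e3 q2963 L88206 q2025, e3 q2964 L88215 q1866, e3 q2965 L88224 q1867, e3 q2966 (flp_d L102343) q4997, e3 q2967 (flp_d L102351) q4998, e3 q2968 L102385 q5005, e3 q2969 L102389 q5006, e3 q2970 L88250 q1898, e3 q2971 L88259 q1905, e3 q2972 L88268 q1906, e3 q2973 (flp_d L91772) q3552, e3 q2974 (flp_d L88650) q3043, e3 q2975 (flp_d L91780) q3553, e3 q2976 (flp_d L88634) q3041, e3 q2977 (flp_d L91788) q3554, e3 q2978 L102455 q5018, e3 q2979 (flp_d L91796) q3556, e3 q2980 (flp_d L91800) q3557, e3 q2981 L102481 q5024, e3 q2982 (flp_d L91808) q3559, e3 q2983 (flp_d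 L88308) q1875, e3 q2984 (flp_d L88313) q1876, e3 q2985 L101853 q4941, e3 q2986 (flp_d L88322) q1877, e3 q2987 (flp_d L119165) q3899, e3 q2988 L146600 q3928, e3 q2989 L88344 q1879, e3 q2990 L88348 q1880, e3 q2991 (flp_d L102535) q5031, e3 q2992 (flp_d L102541) q5032, e3 q2993 (flp_d L102547) q5033, e3 q2994 (flp_d L102555) q5034, e3 q2995 L88382 q1883, e3 q2996 L88387 q1884, e3 q2997 L88395 q1885, e3 q2998 L88402 q1886, e3 q2999 (flp_d L102605) q5043, e3 q3000 L102655 q5054, e3 q3001 (flp_d L102612) q5045, e3 q3002 (flp_d L102616) q5046, e3 q3003 (flp_d L102622) q5047, e3 q3004 L102713 q5064, e3 q3005 (flp_d L102629) q5049, e3 q3006 (flp_d L102633) q5050, e3 q3007 (flp_d L88444) q1887, trivial⟩ (by decide +kernel)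

theorem ce_d_47 : ∀ r, r < 64 → sm gd (Qf (3008 + r)) = Qf (tab Gen.d (3008 + r)) :=
  edges_tab (sm gd) Qf (tab Gen.d) 3008 [(3008, 5072), (3009, 5074), (3010, 1890), (3011, 5076), (3012, 5078), (3013, 1893), (3014, 4831), (3015, 4861), (3016, 2924), (3017, 3900), (3018, 1895), (3019, 1896), (3020, 2386), (3021, 2403), (3022, 1897), (3023, 5085), (3024, 5083), (3025, 5084), (3026, 3898), (3027, 3927), (3028, 1901), (3029, 1902), (3030, 1903), (3031, 1904), (3032, 5094), (3033, 3589), (3034, 5096), (3035, 5097), (3036, 5098), (3037, 3611), (3038, 5100), (3039, 5101), (3040, 5007), (3041, 2976), (3042, 5008), (3043, 2974), (3044, 1911), (3045, 3355), (3046, 1913), (3047, 1914), (3048, 1915), (3049, 3379), (3050, 1917), (3051, 1918), (3052, 3947), (3053, 5140), (3054, 5124), (3055, 1912), (3056, 5144), (3057, 5126), (3058, 5127), (3059, 5128), (3060, 5154), (3061, 5130), (3062, 3978), (3063, 5159), (3064, 5131), (3065, 1916), (3066, 5163), (3067, 5133), (3068, 5134), (3069, 5135), (3070, 5173), (3071, 5137)]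
    ⟨e3 q3008 (flp_d L102765) q5072, e3 q3009 L102771 q5074, e3 q3010 (flp_d L88464) q1890, e3 q3011 (flp_d L102789) q5076, e3 q3012 L102799 q5078, e3 q3013 (flp_d L88494) q1893, e3 q3014 (flp_d L119353) q4831, e3 q3015 (flp_d L148204) q4861, e3 q3016 (flp_d L88506) q2924, e3 q3017 (flp_d L119341) q3900, e3 q3018 L88534 q1895, e3 q3019 L88540 q1896, e3 q3020 (flp_d L119286) q2386, e3 q3021 L148272 q2403, e3 q3022 (flp_d L88546) q1897, e3 q3023 L102926 q5085, e3 q3024 (flp_d L102916) q5083, e3 q3025 (flp_d L102924) q5084, e3 q3026 (flp_d L119288) q3898, e3 q3027 L148359 q3927, e3 q3028 L88574 q1901, e3 q3029 L88580 q1902, e3 q3030 L88586 q1903, e3 q3031 L88594 q1904, e3 q3032 (flp_d L102988) q5094, e3 q3033 L119413 q3589, e3 q3034 (flp_d L102998) q5096, e3 q3035 (flp_d L103002) q5097, e3 q3036 (flp_d L103006) q5098, e3 q3037 L147972 q3611, e3 q3038 (flp_d L103016) q5100, e3 q3039 (flp_d L103020) q5101, e3 q3040 (flp_d L102407) q5007, e3 q3041 L88634 q2976, e3 q3042 (flp_d L102413) q5008, e3 q3043 L88650 q2974, e3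 q3044 L88658 q1911, e3 q3045 (flp_d L120231) q3355, e3 q3046 L88664 q1913, e3 q3047 L88668 q1914, e3 q3048 L88672 q1915, e3 q3049 (flp_d L129555) q3379, e3 q3050 L88678 q1917, e3 q3051 L88682 q1918, e3 q3052 L120082 q3947, e3 q3053 L103232 q5140, e3 q3054 (flp_d L103134) q5124, e3 q3055 (flp_d L88696) q1912, e3 q3056 (flp_d L103254) q5144, e3 q3057 (flp_d L103146) q5126, e3 q3058 (flp_d L103154) q5127, e3 q3059 (flp_d L103160) q5128, e3 q3060 L103292 q5154, e3 q3061 (flp_d L103168) q5130, e3 q3062 (flp_d L148520) q3978, e3 q3063 L103318 q5159, e3 q3064 (flp_d L103184) q5131, e3 q3065 (flp_d L88736) q1916, e3 q3066 (flp_d L103340) q5163, e3 q3067 (flp_d L103196) q5133, e3 q3068 (flp_d L103204) q5134, e3 q3069 (flp_d L103210) q5135, e3 q3070 L103378 q5173, e3 q3071 (flp_d L103218) q5137, trivial⟩ (by decide +kernel)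

theorem ce_d_48 : ∀ r, r < 64 → sm gd (Qf (3072 + r)) = Qf (tab Gen.d (3072 + r)) :=
  edges_tab (sm gd) Qf (tab Gen.d) 3072 [(3072, 2715), (3073, 1919), (3074, 3088), (3075, 5071), (3076, 1921), (3077, 5183), (3078, 1922), (3079, 2767), (3080, 1923), (3081, 3098), (3082, 5075), (3083, 1925), (3084, 5194), (3085, 1926), (3086, 1927), (3087, 5198), (3088, 3074), (3089, 1940), (3090, 3522), (3091, 1929), (3092, 3536), (3093, 5202), (3094, 3296), (3095, 1941), (3096, 1933), (3097, 5206), (3098, 3081), (3099, 1943), (3100, 3525), (3101, 1935), (3102, 3544), (3103, 5210), (3104, 3273), (3105, 1944), (3106, 5214), (3107, 1945), (3108, 5217), (3109, 5218), (3110, 1947), (3111, 1948), (3112, 5223), (3113, 5224), (3114, 2495), (3115, 2496), (3116, 1952), (3117, 1953), (3118, 1954), (3119, 1955), (3120, 5233), (3121, 5243), (3122, 5235), (3123, 5236), (3124, 5237), (3125, 5251), (3126, 5239), (3127, 5240), (3128, 1960), (3129, 2568), (3130, 1962), (3131, 1963), (3132, 1964), (3133, 2591), (3134, 1966), (3135, 1967)]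
    ⟨e3 q3072 L119600 q2715, e3 q3073 (flp_d L88767) q1919, e3 q3074 L88847 q3088, e3 q3075 (flp_d L102759) q5071, e3 q3076 L88783 q1921, e3 q3077 (flp_d L103437) q5183, e3 q3078 (flp_d L88787) q1922, e3 q3079 (flp_d L149989) q2767, e3 q3080 (flp_d L88796) q1923, e3 q3081 L88920 q3098, e3 q3082 (flp_d L102783) q5075, e3 q3083 L88812 q1925, e3 q3084 (flp_d L103498) q5194, e3 q3085 (flp_d L88820) q1926, e3 q3086 (flp_d L88828) q1927, e3 q3087 (flp_d L139260) q5198, e3 q3088 (flp_d L88847) q3074, e3 q3089 L88855 q1940, e3 q3090 (flp_d L119576) q3522, e3 q3091 (flp_d L88861) q1929, e3 q3092 (flp_d L119537) q3536, e3 q3093 (flp_d L103586) q5202, e3 q3094 (flp_d L89985) q3296, e3 q3095 L88899 q1941, e3 q3096 (flp_d L88901) q1933, e3 q3097 (flp_d L139735) q5206, e3 q3098 (flp_d L88920) q3081, e3 q3099 L88928 q1943, e3 q3100 L148090 q3525, e3 q3101 (flp_d L88934) q1935, e3 q3102 L148068 q3544, e3 q3103 (flp_d L103682) q5210, e3 q3104 (flp_d L89897) q3273, e3 q3105 L88980 q1944, e3 q3106 L103728 q5214, e3 q3107 (flp_d L89016)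 q1945, e3 q3108 (flp_d L103754) q5217, e3 q3109 (flp_d L103760) q5218, e3 q3110 L89036 q1947, e3 q3111 L89044 q1948, e3 q3112 (flp_d L103792) q5223, e3 q3113 (flp_d L103796) q5224, e3 q3114 L89060 q2495, e3 q3115 L89068 q2496, e3 q3116 L89072 q1952, e3 q3117 L89078 q1953, e3 q3118 L89084 q1954, e3 q3119 L89092 q1955, e3 q3120 (flp_d L103832) q5233, e3 q3121 L103899 q5243, e3 q3122 (flp_d L103857) q5235, e3 q3123 (flp_d L103861) q5236, e3 q3124 (flp_d L103865) q5237, e3 q3125 L103941 q5251, e3 q3126 (flp_d L103881) q5239, e3 q3127 (flp_d L103885) q5240, e3 q3128 L89138 q1960, e3 q3129 L96157 q2568, e3 q3130 L89144 q1962, e3 q3131 L89148 q1963, e3 q3132 L89152 q1964, e3 q3133 L96442 q2591, e3 q3134 L89158 q1966, e3 q3135 L89162 q1967, trivial⟩ (by decide +kernel)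

theorem ce_d_49 : ∀ r, r < 64 → sm gd (Qf (3136 + r)) = Qf (tab Gen.d (3136 + r)) :=
  edges_tab (sm gd) Qf (tab Gen.d) 3136 [(3136, 5257), (3137, 5278), (3138, 5258), (3139, 1961), (3140, 5282), (3141, 5260), (3142, 5261), (3143, 5262), (3144, 5292), (3145, 5264), (3146, 5265), (3147, 5300), (3148, 5266), (3149, 1965), (3150, 5304), (3151, 5268), (3152, 5269), (3153, 5270), (3154, 5314), (3155, 5272), (3156, 5318), (3157, 5320), (3158, 1969), (3159, 2033), (3160, 1971), (3161, 5325), (3162, 5326), (3163, 1985), (3164, 5332), (3165, 5334), (3166, 1975), (3167, 5338), (3168, 5340), (3169, 1977), (3170, 2045), (3171, 1979), (3172, 5345), (3173, 5346), (3174, 1990), (3175, 5352), (3176, 5354), (3177, 1983), (3178, 5358), (3179, 1984), (3180, 5362), (3181, 1986), (3182, 1987), (3183, 5366), (3184, 5368), (3185, 1989), (3186, 5372), (3187, 1991), (3188, 1992), (3189, 5376), (3190, 2638), (3191, 2639), (3192, 4971), (3193, 4972), (3194, 3596), (3195, 4973), (3196, 3618), (3197, 4974), (3198, 4975), (3199, 3646)]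
    ⟨e3 q3136 (flp_d L103973) q5257, e3 q3137 L104101 q5278, e3 q3138 (flp_d L103983) q5258, e3 q3139 (flp_d L89184) q1961, e3 q3140 (flp_d L104127) q5282, e3 q3141 (flp_d L103997) q5260, e3 q3142 (flp_d L104005) q5261, e3 q3143 (flp_d L104011) q5262, e3 q3144 L104183 q5292, e3 q3145 (flp_d L104017) q5264, e3 q3146 (flp_d L104023) q5265, e3 q3147 L104222 q5300, e3 q3148 (flp_d L104033) q5266, e3 q3149 (flp_d L89242) q1965, e3 q3150 (flp_d L104248) q5304, e3 q3151 (flp_d L104047) q5268, e3 q3152 (flp_d L104057) q5269, e3 q3153 (flp_d L104063) q5270, e3 q3154 L104304 q5314, e3 q3155 (flp_d L104075) q5272, e3 q3156 L104329 q5318, e3 q3157 L104341 q5320, e3 q3158 (flp_d L89294) q1969, e3 q3159 L89300 q2033, e3 q3160 L89304 q1971, e3 q3161 (flp_d L104367) q5325, e3 q3162 (flp_d L104375) q5326, e3 q3163 L89322 q1985, e3 q3164 L104407 q5332, e3 q3165 L104415 q5334, e3 q3166 (flp_d L89343) q1975, e3 q3167 L104434 q5338, e3 q3168 L104446 q5340, e3 q3169 (flp_d L89358) q1977, e3 q3170 L89364 q2045, e3 q3171 L89368 q1979,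 e3 q3172 (flp_d L104472) q5345, e3 q3173 (flp_d L104480) q5346, e3 q3174 L89386 q1990, e3 q3175 L104514 q5352, e3 q3176 L104524 q5354, e3 q3177 (flp_d L89409) q1983, e3 q3178 L104542 q5358, e3 q3179 (flp_d L89417) q1984, e3 q3180 L104573 q5362, e3 q3181 (flp_d L89435) q1986, e3 q3182 (flp_d L89439) q1987, e3 q3183 L104608 q5366, e3 q3184 L104625 q5368, e3 q3185 (flp_d L89458) q1989, e3 q3186 L104662 q5372, e3 q3187 (flp_d L89476) q1991, e3 q3188 (flp_d L89482) q1992, e3 q3189 L104701 q5376, e3 q3190 (flp_d L141667) q2638, e3 q3191 L137834 q2639, e3 q3192 (flp_d L102170) q4971, e3 q3193 (flp_d L102178) q4972, e3 q3194 (flp_d L119025) q3596, e3 q3195 (flp_d L102209) q4973, e3 q3196 L147717 q3618, e3 q3197 (flp_d L102223) q4974, e3 q3198 (flp_d L102229) q4975, e3 q3199 (flp_d L119276) q3646, trivial⟩ (by decide +kernel)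

theorem ce_d_50 : ∀ r, r < 64 → sm gd (Qf (3200 + r)) = Qf (tab Gen.d (3200 + r)) :=
  edges_tab (sm gd) Qf (tab Gen.d) 3200 [(3200, 4976), (3201, 4977), (3202, 3655), (3203, 4978), (3204, 4979), (3205, 3592), (3206, 2002), (3207, 5402), (3208, 4980), (3209, 4981), (3210, 5410), (3211, 4983), (3212, 4984), (3213, 3614), (3214, 2006), (3215, 5418), (3216, 4985), (3217, 4986), (3218, 5426), (3219, 4988), (3220, 4989), (3221, 5433), (3222, 4298), (3223, 4990), (3224, 5439), (3225, 2010), (3226, 5443), (3227, 4991), (3228, 5281), (3229, 2013), (3230, 5449), (3231, 5450), (3232, 3260), (3233, 5457), (3234, 3263), (3235, 4992), (3236, 3258), (3237, 5468), (3238, 3254), (3239, 2017), (3240, 3262), (3241, 3256), (3242, 4993), (3243, 5477), (3244, 4994), (3245, 4349), (3246, 5483), (3247, 2020), (3248, 5487), (3249, 4995), (3250, 5303), (3251, 2023), (3252, 5493), (3253, 5494), (3254, 3238), (3255, 5456), (3256, 3241), (3257, 4996), (3258, 3236), (3259, 5458), (3260, 3232), (3261, 2027), (3262, 3240), (3263, 3234)]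
    ⟨e3 q3200 (flp_d L102235) q4976, e3 q3201 (flp_d L102239) q4977, e3 q3202 L147349 q3655, e3 q3203 (flp_d L102245) q4978, e3 q3204 (flp_d L102249) q4979, e3 q3205 L119392 q3592, e3 q3206 (flp_d L89634) q2002, e3 q3207 (flp_d L104913) q5402, e3 q3208 (flp_d L102253) q4980, e3 q3209 (flp_d L102259) q4981, e3 q3210 L104939 q5410, e3 q3211 (flp_d L102265) q4983, e3 q3212 (flp_d L102271) q4984, e3 q3213 L148008 q3614, e3 q3214 (flp_d L89662) q2006, e3 q3215 (flp_d L104977) q5418, e3 q3216 (flp_d L102275) q4985, e3 q3217 (flp_d L102281) q4986, e3 q3218 L105003 q5426, e3 q3219 (flp_d L102287) q4988, e3 q3220 (flp_d L102293) q4989, e3 q3221 L105031 q5433, e3 q3222 (flp_d L116064) q4298, e3 q3223 (flp_d L102306) q4990, e3 q3224 L105057 q5439, e3 q3225 (flp_d L89692) q2010, e3 q3226 (flp_d L105085) q5443, e3 q3227 (flp_d L102310) q4991, e3 q3228 (flp_d L104123) q5281, e3 q3229 L89714 q2013, e3 q3230 (flp_d L105105) q5449, e3 q3231 (flp_d L105115) q5450, e3 q3232 (flp_d L89841) q3260, e3 q3233 L105141 q5457, e3 q3234 (flp_d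 L89858) q3263, e3 q3235 (flp_d L102314) q4992, e3 q3236 (flp_d L89831) q3258, e3 q3237 L105171 q5468, e3 q3238 (flp_d L89815) q3254, e3 q3239 (flp_d L89752) q2017, e3 q3240 (flp_d L151499) q3262, e3 q3241 (flp_d L89825) q3256, e3 q3242 (flp_d L102318) q4993, e3 q3243 L105224 q5477, e3 q3244 (flp_d L102327) q4994, e3 q3245 L148940 q4349, e3 q3246 L105250 q5483, e3 q3247 (flp_d L89777) q2020, e3 q3248 (flp_d L105278) q5487, e3 q3249 (flp_d L102335) q4995, e3 q3250 (flp_d L104244) q5303, e3 q3251 L89799 q2023, e3 q3252 (flp_d L105298) q5493, e3 q3253 (flp_d L105308) q5494, e3 q3254 L89815 q3238, e3 q3255 (flp_d L151480) q5456, e3 q3256 L89825 q3241, e3 q3257 (flp_d L102339) q4996, e3 q3258 L89831 q3236, e3 q3259 (flp_d L151496) q5458, e3 q3260 L89841 q3232, e3 q3261 (flp_d L89845) q2027, e3 q3262 L151499 q3240, e3 q3263 L89858 q3234, trivial⟩ (by decide +kernel)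

theorem ce_d_51 : ∀ r, r < 64 → sm gd (Qf (3264 + r)) = Qf (tab Gen.d (3264 + r)) :=
  edges_tab (sm gd) Qf (tab Gen.d) 3264 [(3264, 5514), (3265, 2029), (3266, 5518), (3267, 2030), (3268, 2713), (3269, 5522), (3270, 5323), (3271, 3310), (3272, 5528), (3273, 3104), (3274, 5324), (3275, 2035), (3276, 2036), (3277, 5533), (3278, 5540), (3279, 5535), (3280, 5536), (3281, 5547), (3282, 2038), (3283, 5551), (3284, 2039), (3285, 3328), (3286, 5336), (3287, 5558), (3288, 2041), (3289, 5562), (3290, 2042), (3291, 5566), (3292, 2764), (3293, 5343), (3294, 3332), (3295, 5572), (3296, 3094), (3297, 5344), (3298, 2047), (3299, 2048), (3300, 5577), (3301, 5584), (3302, 5579), (3303, 5580), (3304, 5591), (3305, 2050), (3306, 5595), (3307, 2051), (3308, 3350), (3309, 5356), (3310, 3271), (3311, 5604), (3312, 5606), (3313, 2055), (3314, 3590), (3315, 4486), (3316, 5611), (3317, 5616), (3318, 2058), (3319, 2057), (3320, 5619), (3321, 5618), (3322, 5181), (3323, 2063), (3324, 2064), (3325, 2062), (3326, 5628), (3327, 5630)]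
    ⟨e3 q3264 L105421 q5514, e3 q3265 (flp_d L89866) q2029, e3 q3266 L105443 q5518, e3 q3267 (flp_d L89875) q2030, e3 q3268 (flp_d L119627) q2713, e3 q3269 (flp_d L105467) q5522, e3 q3270 (flp_d L104357) q5323, e3 q3271 (flp_d L90044) q3310, e3 q3272 L105489 q5528, e3 q3273 L89897 q3104, e3 q3274 (flp_d L104361) q5324, e3 q3275 L89905 q2035, e3 q3276 L89911 q2036, e3 q3277 (flp_d L105515) q5533, e3 q3278 L105539 q5540, e3 q3279 (flp_d L105521) q5535, e3 q3280 (flp_d L105525) q5536, e3 q3281 L105565 q5547, e3 q3282 (flp_d L89933) q2038, e3 q3283 L105583 q5551, e3 q3284 (flp_d L89939) q2039, e3 q3285 L90193 q3328, e3 q3286 (flp_d L104426) q5336, e3 q3287 L105608 q5558, e3 q3288 (flp_d L89954) q2041, e3 q3289 L105630 q5562, e3 q3290 (flp_d L89963) q2042, e3 q3291 (flp_d L105650) q5566, e3 q3292 L149889 q2764, e3 q3293 (flp_d L104462) q5343, e3 q3294 (flp_d L90220) q3332, e3 q3295 L105676 q5572, e3 q3296 L89985 q3094, e3 q3297 (flp_d L104466) q5344, e3 q3298 L89993 q2047, e3 q3299 L89999 q2048, e3 q3300 (flp_d L105702)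 q5577, e3 q3301 L105726 q5584, e3 q3302 (flp_d L105708) q5579, e3 q3303 (flp_d L105712) q5580, e3 q3304 L105760 q5591, e3 q3305 (flp_d L90023) q2050, e3 q3306 L105780 q5595, e3 q3307 (flp_d L90031) q2051, e3 q3308 L90377 q3350, e3 q3309 (flp_d L104535) q5356, e3 q3310 L90044 q3271, e3 q3311 L105825 q5604, e3 q3312 L105835 q5606, e3 q3313 (flp_d L90057) q2055, e3 q3314 L119554 q3590, e3 q3315 (flp_d L119674) q4486, e3 q3316 (flp_d L105871) q5611, e3 q3317 L105907 q5616, e3 q3318 L90087 q2058, e3 q3319 (flp_d L90089) q2057, e3 q3320 (flp_d L105935) q5619, e3 q3321 (flp_d L105923) q5618, e3 q3322 (flp_d L103427) q5181, e3 q3323 (flp_d L139086) q2063, e3 q3324 (flp_d L139287) q2064, e3 q3325 L90127 q2062, e3 q3326 L106001 q5628, e3 q3327 L106047 q5630, trivial⟩ (by decide +kernel)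

theorem ce_d_52 : ∀ r, r < 64 → sm gd (Qf (3328 + r)) = Qf (tab Gen.d (3328 + r)) :=
  edges_tab (sm gd) Qf (tab Gen.d) 3328 [(3328, 3285), (3329, 5633), (3330, 2067), (3331, 3636), (3332, 3294), (3333, 5641), (3334, 5643), (3335, 2071), (3336, 3613), (3337, 5648), (3338, 4521), (3339, 5650), (3340, 2074), (3341, 2073), (3342, 5653), (3343, 5652), (3344, 5192), (3345, 2079), (3346, 2080), (3347, 2078), (3348, 5661), (3349, 5663), (3350, 3308), (3351, 5666), (3352, 2083), (3353, 3642), (3354, 4103), (3355, 3045), (3356, 4104), (3357, 4105), (3358, 2086), (3359, 4006), (3360, 5677), (3361, 4106), (3362, 4035), (3363, 4107), (3364, 2090), (3365, 5684), (3366, 4033), (3367, 5691), (3368, 4031), (3369, 5694), (3370, 5696), (3371, 2094), (3372, 5699), (3373, 2467), (3374, 5705), (3375, 2460), (3376, 2469), (3377, 2097), (3378, 4119), (3379, 3049), (3380, 4120), (3381, 4121), (3382, 2099), (3383, 5716), (3384, 4052), (3385, 4081), (3386, 4122), (3387, 4123), (3388, 2103), (3389, 5720), (3390, 4079), (3391, 5726)]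
    ⟨e3 q3328 (flp_d L90193) q3285, e3 q3329 L106095 q5633, e3 q3330 (flp_d L90206) q2067, e3 q3331 (flp_d L141747) q3636, e3 q3332 L90220 q3294, e3 q3333 L106144 q5641, e3 q3334 L106154 q5643, e3 q3335 (flp_d L90233) q2071, e3 q3336 (flp_d L147915) q3613, e3 q3337 (flp_d L106186) q5648, e3 q3338 L150446 q4521, e3 q3339 L106226 q5650, e3 q3340 L90263 q2074, e3 q3341 (flp_d L90265) q2073, e3 q3342 (flp_d L106254) q5653, e3 q3343 (flp_d L106242) q5652, e3 q3344 (flp_d L103486) q5192, e3 q3345 L141867 q2079, e3 q3346 (flp_d L139787) q2080, e3 q3347 L90303 q2078, e3 q3348 L106320 q5661, e3 q3349 L106368 q5663, e3 q3350 (flp_d L90377) q3308, e3 q3351 L106418 q5666, e3 q3352 (flp_d L90390) q2083, e3 q3353 (flp_d L133426) q3642, e3 q3354 (flp_d L95097) q4103, e3 q3355 L120231 q3045, e3 q3356 (flp_d L95103) q4104, e3 q3357 (flp_d L95109) q4105, e3 q3358 (flp_d L90614) q2086, e3 q3359 L119939 q4006, e3 q3360 (flp_d L106659) q5677, e3 q3361 (flp_d L95113) q4106, e3 q3362 (flp_d L94630) q4035, e3 q3363 (flp_d L95121) q4107,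 e3 q3364 L90644 q2090, e3 q3365 (flp_d L106699) q5684, e3 q3366 (flp_d L94622) q4033, e3 q3367 L106727 q5691, e3 q3368 (flp_d L94610) q4031, e3 q3369 L106759 q5694, e3 q3370 L106769 q5696, e3 q3371 (flp_d L90688) q2094, e3 q3372 (flp_d L106793) q5699, e3 q3373 L90696 q2467, e3 q3374 L106819 q5705, e3 q3375 L90704 q2460, e3 q3376 L90710 q2469, e3 q3377 (flp_d L90712) q2097, e3 q3378 (flp_d L95191) q4119, e3 q3379 L129555 q3049, e3 q3380 (flp_d L95197) q4120, e3 q3381 (flp_d L95203) q4121, e3 q3382 (flp_d L90734) q2099, e3 q3383 (flp_d L106885) q5716, e3 q3384 L148437 q4052, e3 q3385 (flp_d L94909) q4081, e3 q3386 (flp_d L95207) q4122, e3 q3387 (flp_d L95215) q4123, e3 q3388 L90766 q2103, e3 q3389 (flp_d L106931) q5720, e3 q3390 (flp_d L94901) q4079, e3 q3391 L106961 q5726, trivial⟩ (by decide +kernel)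

theorem ce_d_53 : ∀ r, r < 64 → sm gd (Qf (3392 + r)) = Qf (tab Gen.d (3392 + r)) :=
  edges_tab (sm gd) Qf (tab Gen.d) 3392 [(3392, 4077), (3393, 5729), (3394, 5697), (3395, 2107), (3396, 5732), (3397, 2437), (3398, 5738), (3399, 2439), (3400, 2431), (3401, 2110), (3402, 2917), (3403, 2918), (3404, 2919), (3405, 2112), (3406, 5747), (3407, 5748), (3408, 5751), (3409, 2114), (3410, 2115), (3411, 5754), (3412, 5755), (3413, 2116), (3414, 5758), (3415, 5759), (3416, 2118), (3417, 2119), (3418, 5762), (3419, 5763), (3420, 5764), (3421, 5765), (3422, 2137), (3423, 2138), (3424, 2123), (3425, 2124), (3426, 5774), (3427, 5776), (3428, 5777), (3429, 5779), (3430, 2125), (3431, 5786), (3432, 5787), (3433, 5791), (3434, 2127), (3435, 2128), (3436, 5601), (3437, 5638), (3438, 2129), (3439, 4416), (3440, 5800), (3441, 5801), (3442, 2302), (3443, 2303), (3444, 2133), (3445, 2134), (3446, 2135), (3447, 2136), (3448, 5605), (3449, 5810), (3450, 5811), (3451, 5642), (3452, 5812), (3453, 5813), (3454, 5772), (3455, 5773)]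
    ⟨e3 q3392 (flp_d L94889) q4077, e3 q3393 L106993 q5729, e3 q3394 (flp_d L106787) q5697, e3 q3395 (flp_d L90814) q2107, e3 q3396 (flp_d L107015) q5732, e3 q3397 L90822 q2437, e3 q3398 L107041 q5738, e3 q3399 L90830 q2439, e3 q3400 L90836 q2431, e3 q3401 (flp_d L90840) q2110, e3 q3402 L90894 q2917, e3 q3403 L90904 q2918, e3 q3404 L90913 q2919, e3 q3405 (flp_d L90918) q2112, e3 q3406 (flp_d L107131) q5747, e3 q3407 (flp_d L107139) q5748, e3 q3408 L107151 q5751, e3 q3409 L90945 q2114, e3 q3410 L90952 q2115, e3 q3411 (flp_d L107168) q5754, e3 q3412 (flp_d L107178) q5755, e3 q3413 (flp_d L90979) q2116, e3 q3414 (flp_d L107196) q5758, e3 q3415 (flp_d L107206) q5759, e3 q3416 L90997 q2118, e3 q3417 L91005 q2119, e3 q3418 (flp_d L107220) q5762, e3 q3419 (flp_d L107230) q5763, e3 q3420 (flp_d L107238) q5764, e3 q3421 (flp_d L107250) q5765, e3 q3422 L91043 q2137, e3 q3423 L91053 q2138, e3 q3424 L91059 q2123, e3 q3425 L91063 q2124, e3 q3426 (flp_d L107310) q5774, e3 q3427 (flp_d L107326) q5776, e3 q3428 (flp_d L107330)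 q5777, e3 q3429 (flp_d L107338) q5779, e3 q3430 (flp_d L91085) q2125, e3 q3431 (flp_d L107388) q5786, e3 q3432 (flp_d L107396) q5787, e3 q3433 L107411 q5791, e3 q3434 L91113 q2127, e3 q3435 L91119 q2128, e3 q3436 (flp_d L120390) q5601, e3 q3437 L151077 q5638, e3 q3438 (flp_d L91125) q2129, e3 q3439 L96910 q4416, e3 q3440 (flp_d L107465) q5800, e3 q3441 (flp_d L107469) q5801, e3 q3442 L91145 q2302, e3 q3443 L91151 q2303, e3 q3444 L91157 q2133, e3 q3445 L91163 q2134, e3 q3446 L91169 q2135, e3 q3447 L91177 q2136, e3 q3448 (flp_d L120491) q5605, e3 q3449 (flp_d L107551) q5810, e3 q3450 (flp_d L107555) q5811, e3 q3451 (flp_d L150604) q5642, e3 q3452 (flp_d L107569) q5812, e3 q3453 (flp_d L107573) q5813, e3 q3454 (flp_d L107290) q5772, e3 q3455 (flp_d L107302) q5773, trivial⟩ (by decide +kernel)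

theorem ce_d_54 : ∀ r, r < 64 → sm gd (Qf (3456 + r)) = Qf (tab Gen.d (3456 + r)) :=
  edges_tab (sm gd) Qf (tab Gen.d) 3456 [(3456, 2141), (3457, 5672), (3458, 2142), (3459, 2143), (3460, 5711), (3461, 2144), (3462, 5828), (3463, 5830), (3464, 5832), (3465, 5833), (3466, 5835), (3467, 5837), (3468, 2147), (3469, 2149), (3470, 5846), (3471, 5854), (3472, 5848), (3473, 3477), (3474, 5849), (3475, 5862), (3476, 5851), (3477, 3473), (3478, 2195), (3479, 2196), (3480, 2197), (3481, 2198), (3482, 2157), (3483, 5874), (3484, 2159), (3485, 2160), (3486, 2161), (3487, 5883), (3488, 2163), (3489, 2164), (3490, 5872), (3491, 5895), (3492, 5873), (3493, 2158), (3494, 5900), (3495, 5876), (3496, 5877), (3497, 5878), (3498, 5909), (3499, 5880), (3500, 5881), (3501, 5917), (3502, 5882), (3503, 2162), (3504, 5922), (3505, 5885), (3506, 5886), (3507, 5887), (3508, 5931), (3509, 5889), (3510, 2228), (3511, 5935), (3512, 2167), (3513, 2232), (3514, 5939), (3515, 2170), (3516, 2171), (3517, 5944), (3518, 2173), (3519, 5947)]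
    ⟨e3 q3456 L91211 q2141, e3 q3457 (flp_d L120233) q5672, e3 q3458 L91219 q2142, e3 q3459 L91223 q2143, e3 q3460 (flp_d L129557) q5711, e3 q3461 L91231 q2144, e3 q3462 (flp_d L107635) q5828, e3 q3463 (flp_d L107645) q5830, e3 q3464 (flp_d L107661) q5832, e3 q3465 (flp_d L107667) q5833, e3 q3466 (flp_d L107677) q5835, e3 q3467 (flp_d L107693) q5837, e3 q3468 L91267 q2147, e3 q3469 L91275 q2149, e3 q3470 (flp_d L107729) q5846, e3 q3471 L107787 q5854, e3 q3472 (flp_d L107749) q5848, e3 q3473 (flp_d L91323) q3477, e3 q3474 (flp_d L107755) q5849, e3 q3475 L107833 q5862, e3 q3476 (flp_d L107771) q5851, e3 q3477 L91323 q3473, e3 q3478 L91329 q2195, e3 q3479 L91337 q2196, e3 q3480 L91345 q2197, e3 q3481 L91357 q2198, e3 q3482 L91365 q2157, e3 q3483 L107935 q5874, e3 q3484 L91371 q2159, e3 q3485 L91375 q2160, e3 q3486 L91379 q2161, e3 q3487 L107989 q5883, e3 q3488 L91385 q2163, e3 q3489 L91389 q2164, e3 q3490 (flp_d L107917) q5872, e3 q3491 L108043 q5895, e3 q3492 (flp_d L107929) q5873, e3 q3493 (flp_d L91409) q2158, e3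 q3494 (flp_d L108073) q5900, e3 q3495 (flp_d L107949) q5876, e3 q3496 (flp_d L107957) q5877, e3 q3497 (flp_d L107963) q5878, e3 q3498 L108123 q5909, e3 q3499 (flp_d L107969) q5880, e3 q3500 (flp_d L107975) q5881, e3 q3501 L108162 q5917, e3 q3502 (flp_d L107985) q5882, e3 q3503 (flp_d L91467) q2162, e3 q3504 (flp_d L108192) q5922, e3 q3505 (flp_d L107997) q5885, e3 q3506 (flp_d L108005) q5886, e3 q3507 (flp_d L108011) q5887, e3 q3508 L108242 q5931, e3 q3509 (flp_d L108019) q5889, e3 q3510 L91513 q2228, e3 q3511 L108267 q5935, e3 q3512 (flp_d L91522) q2167, e3 q3513 L91531 q2232, e3 q3514 L108286 q5939, e3 q3515 (flp_d L91540) q2170, e3 q3516 (flp_d L91543) q2171, e3 q3517 L108318 q5944, e3 q3518 (flp_d L91559) q2173, e3 q3519 L108349 q5947, trivial⟩ (by decide +kernel)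

theorem ce_d_55 : ∀ r, r < 64 → sm gd (Qf (3520 + r)) = Qf (tab Gen.d (3520 + r)) :=
  edges_tab (sm gd) Qf (tab Gen.d) 3520 [(3520, 2177), (3521, 2178), (3522, 3090), (3523, 4445), (3524, 5948), (3525, 3100), (3526, 4453), (3527, 5949), (3528, 2183), (3529, 5388), (3530, 2185), (3531, 2186), (3532, 2187), (3533, 5393), (3534, 2189), (3535, 2190), (3536, 3092), (3537, 5964), (3538, 2184), (3539, 5966), (3540, 5953), (3541, 5954), (3542, 5974), (3543, 5956), (3544, 3102), (3545, 5979), (3546, 2188), (3547, 5981), (3548, 5958), (3549, 5959), (3550, 5989), (3551, 5961), (3552, 2973), (3553, 2975), (3554, 2977), (3555, 5009), (3556, 2979), (3557, 2980), (3558, 5012), (3559, 2982), (3560, 2674), (3561, 5015), (3562, 5868), (3563, 5869), (3564, 2693), (3565, 5021), (3566, 5870), (3567, 5871), (3568, 2207), (3569, 5380), (3570, 2209), (3571, 2200), (3572, 6013), (3573, 2212), (3574, 2213), (3575, 2214), (3576, 6023), (3577, 2216), (3578, 2217), (3579, 5384), (3580, 2219), (3581, 2204), (3582, 6029), (3583, 2222)]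
    ⟨e3 q3520 L91607 q2177, e3 q3521 L91615 q2178, e3 q3522 L119576 q3090, e3 q3523 (flp_d L97029) q4445, e3 q3524 (flp_d L108419) q5948, e3 q3525 (flp_d L148090) q3100, e3 q3526 L150376 q4453, e3 q3527 (flp_d L108441) q5949, e3 q3528 L91670 q2183, e3 q3529 (flp_d L119417) q5388, e3 q3530 L91680 q2185, e3 q3531 L91684 q2186, e3 q3532 L91688 q2187, e3 q3533 (flp_d L148116) q5393, e3 q3534 L91698 q2189, e3 q3535 L91702 q2190, e3 q3536 L119537 q3092, e3 q3537 L108589 q5964, e3 q3538 (flp_d L91714) q2184, e3 q3539 (flp_d L108607) q5966, e3 q3540 (flp_d L108509) q5953, e3 q3541 (flp_d L108515) q5954, e3 q3542 L108635 q5974, e3 q3543 (flp_d L108521) q5956, e3 q3544 (flp_d L148068) q3102, e3 q3545 L108661 q5979, e3 q3546 (flp_d L91746) q2188, e3 q3547 (flp_d L108679) q5981, e3 q3548 (flp_d L108545) q5958, e3 q3549 (flp_d L108553) q5959, e3 q3550 L108707 q5989, e3 q3551 (flp_d L108565) q5961, e3 q3552 L91772 q2973, e3 q3553 L91780 q2975, e3 q3554 L91788 q2977, e3 q3555 (flp_d L119000) q5009, e3 q3556 L91796 q2979, e3 q3557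 L91800 q2980, e3 q3558 L148149 q5012, e3 q3559 L91808 q2982, e3 q3560 L91812 q2674, e3 q3561 (flp_d L118976) q5015, e3 q3562 (flp_d L107879) q5868, e3 q3563 (flp_d L107885) q5869, e3 q3564 (flp_d L150450) q2693, e3 q3565 (flp_d L148183) q5021, e3 q3566 (flp_d L107905) q5870, e3 q3567 (flp_d L107911) q5871, e3 q3568 L91846 q2207, e3 q3569 (flp_d L119361) q5380, e3 q3570 L91856 q2209, e3 q3571 (flp_d L91860) q2200, e3 q3572 (flp_d L108989) q6013, e3 q3573 L91868 q2212, e3 q3574 L91876 q2213, e3 q3575 L91882 q2214, e3 q3576 L109035 q6023, e3 q3577 L91888 q2216, e3 q3578 L91894 q2217, e3 q3579 L147731 q5384, e3 q3580 L91904 q2219, e3 q3581 (flp_d L91908) q2204, e3 q3582 (flp_d L109087) q6029, e3 q3583 L91916 q2222, trivial⟩ (by decide +kernel)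

theorem ce_d_56 : ∀ r, r < 64 → sm gd (Qf (3584 + r)) = Qf (tab Gen.d (3584 + r)) :=
  edges_tab (sm gd) Qf (tab Gen.d) 3584 [(3584, 2223), (3585, 2224), (3586, 6039), (3587, 2226), (3588, 5657), (3589, 3033), (3590, 3314), (3591, 5655), (3592, 3205), (3593, 2208), (3594, 6049), (3595, 6011), (3596, 3194), (3597, 5899), (3598, 2211), (3599, 6057), (3600, 6016), (3601, 6061), (3602, 6018), (3603, 6019), (3604, 6020), (3605, 6072), (3606, 6022), (3607, 2215), (3608, 6077), (3609, 6025), (3610, 5624), (3611, 3037), (3612, 5622), (3613, 3336), (3614, 3213), (3615, 2218), (3616, 6087), (3617, 6027), (3618, 3196), (3619, 5921), (3620, 2221), (3621, 6095), (3622, 6032), (3623, 6099), (3624, 6034), (3625, 6035), (3626, 6036), (3627, 6110), (3628, 6038), (3629, 2225), (3630, 6115), (3631, 6041), (3632, 2853), (3633, 6119), (3634, 6121), (3635, 2229), (3636, 3331), (3637, 5937), (3638, 2871), (3639, 6128), (3640, 6130), (3641, 2233), (3642, 3353), (3643, 5941), (3644, 6136), (3645, 2235), (3646, 3199), (3647, 6140)]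
    ⟨e3 q3584 L91924 q2223, e3 q3585 L91930 q2224, e3 q3586 L109133 q6039, e3 q3587 L91936 q2226, e3 q3588 (flp_d L150546) q5657, e3 q3589 (flp_d L119413) q3033, e3 q3590 (flp_d L119554) q3314, e3 q3591 (flp_d L150532) q5655, e3 q3592 (flp_d L119392) q3205, e3 q3593 (flp_d L91950) q2208, e3 q3594 (flp_d L109211) q6049, e3 q3595 (flp_d L108981) q6011, e3 q3596 L119025 q3194, e3 q3597 (flp_d L108069) q5899, e3 q3598 L91972 q2211, e3 q3599 (flp_d L109251) q6057, e3 q3600 (flp_d L109003) q6016, e3 q3601 L109265 q6061, e3 q3602 (flp_d L109013) q6018, e3 q3603 (flp_d L109017) q6019, e3 q3604 (flp_d L109021) q6020, e3 q3605 L109295 q6072, e3 q3606 (flp_d L109031) q6022, e3 q3607 (flp_d L92006) q2215, e3 q3608 (flp_d L109321) q6077, e3 q3609 (flp_d L109045) q6025, e3 q3610 (flp_d L120477) q5624, e3 q3611 (flp_d L147972) q3037, e3 q3612 (flp_d L120469) q5622, e3 q3613 L147915 q3336, e3 q3614 (flp_d L148008) q3213, e3 q3615 (flp_d L92031) q2218, e3 q3616 (flp_d L109400) q6087, e3 q3617 (flp_d L109079) q6027, e3 q3618 (flp_d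 L147717) q3196, e3 q3619 (flp_d L108188) q5921, e3 q3620 L92053 q2221, e3 q3621 (flp_d L109440) q6095, e3 q3622 (flp_d L109101) q6032, e3 q3623 L109454 q6099, e3 q3624 (flp_d L109111) q6034, e3 q3625 (flp_d L109115) q6035, e3 q3626 (flp_d L109119) q6036, e3 q3627 L109486 q6110, e3 q3628 (flp_d L109129) q6038, e3 q3629 (flp_d L92087) q2225, e3 q3630 (flp_d L109508) q6115, e3 q3631 (flp_d L109143) q6041, e3 q3632 L92104 q2853, e3 q3633 L109543 q6119, e3 q3634 L109557 q6121, e3 q3635 (flp_d L92118) q2229, e3 q3636 L141747 q3331, e3 q3637 (flp_d L108278) q5937, e3 q3638 L92131 q2871, e3 q3639 L109602 q6128, e3 q3640 L109616 q6130, e3 q3641 (flp_d L92145) q2233, e3 q3642 L133426 q3353, e3 q3643 (flp_d L108297) q5941, e3 q3644 L109643 q6136, e3 q3645 (flp_d L92158) q2235, e3 q3646 L119276 q3199, e3 q3647 (flp_d L109669) q6140, trivial⟩ (by decide +kernel)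

theorem ce_d_57 : ∀ r, r < 64 → sm gd (Qf (3648 + r)) = Qf (tab Gen.d (3648 + r)) :=
  edges_tab (sm gd) Qf (tab Gen.d) 3648 [(3648, 6141), (3649, 6143), (3650, 2237), (3651, 6145), (3652, 2238), (3653, 6149), (3654, 2239), (3655, 3202), (3656, 6153), (3657, 6154), (3658, 6156), (3659, 2241), (3660, 6158), (3661, 2242), (3662, 4949), (3663, 4950), (3664, 2245), (3665, 2246), (3666, 6164), (3667, 6165), (3668, 6166), (3669, 6167), (3670, 3670), (3671, 3671), (3672, 3672), (3673, 2250), (3674, 2251), (3675, 6177), (3676, 6185), (3677, 6179), (3678, 6180), (3679, 6189), (3680, 6182), (3681, 3681), (3682, 3682), (3683, 3683), (3684, 3684), (3685, 2258), (3686, 6199), (3687, 2260), (3688, 2261), (3689, 2262), (3690, 6207), (3691, 2264), (3692, 2265), (3693, 6197), (3694, 6218), (3695, 2259), (3696, 6221), (3697, 6201), (3698, 6202), (3699, 6229), (3700, 6204), (3701, 6205), (3702, 6237), (3703, 2263), (3704, 6240), (3705, 6209), (3706, 6210), (3707, 6248), (3708, 6212), (3709, 2272), (3710, 6254), (3711, 2274)]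
    ⟨e3 q3648 (flp_d L109675) q6141, e3 q3649 L109703 q6143, e3 q3650 (flp_d L92182) q2237, e3 q3651 L109749 q6145, e3 q3652 (flp_d L92217) q2238, e3 q3653 L109774 q6149, e3 q3654 (flp_d L92231) q2239, e3 q3655 (flp_d L147349) q3202, e3 q3656 (flp_d L109800) q6153, e3 q3657 (flp_d L109806) q6154, e3 q3658 L109834 q6156, e3 q3659 (flp_d L92255) q2241, e3 q3660 L109880 q6158, e3 q3661 (flp_d L92290) q2242, e3 q3662 (flp_d L101905) q4949, e3 q3663 (flp_d L101915) q4950, e3 q3664 L92432 q2245, e3 q3665 L92438 q2246, e3 q3666 (flp_d L110063) q6164, e3 q3667 (flp_d L110073) q6165, e3 q3668 (flp_d L110081) q6166, e3 q3669 (flp_d L110093) q6167, e3 q3670 L92470 q3670, e3 q3671 L92479 q3671, e3 q3672 L92488 q3672, e3 q3673 L92493 q2250, e3 q3674 L92499 q2251, e3 q3675 (flp_d L110154) q6177, e3 q3676 L110202 q6185, e3 q3677 (flp_d L110164) q6179, e3 q3678 (flp_d L110170) q6180, e3 q3679 L110238 q6189, e3 q3680 (flp_d L110180) q6182, e3 q3681 L92535 q3681, e3 q3682 L92543 q3682, e3 q3683 L92550 q3683, e3 q3684 L92560 q3684,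 e3 q3685 L92567 q2258, e3 q3686 L110313 q6199, e3 q3687 L92581 q2260, e3 q3688 L92587 q2261, e3 q3689 L92593 q2262, e3 q3690 L110363 q6207, e3 q3691 L92607 q2264, e3 q3692 L92613 q2265, e3 q3693 (flp_d L110301) q6197, e3 q3694 L110421 q6218, e3 q3695 (flp_d L92629) q2259, e3 q3696 (flp_d L110439) q6221, e3 q3697 (flp_d L110325) q6201, e3 q3698 (flp_d L110333) q6202, e3 q3699 L110483 q6229, e3 q3700 (flp_d L110343) q6204, e3 q3701 (flp_d L110351) q6205, e3 q3702 L110521 q6237, e3 q3703 (flp_d L92671) q2263, e3 q3704 (flp_d L110539) q6240, e3 q3705 (flp_d L110375) q6209, e3 q3706 (flp_d L110383) q6210, e3 q3707 L110583 q6248, e3 q3708 (flp_d L110393) q6212, e3 q3709 L92703 q2272, e3 q3710 L110615 q6254, e3 q3711 L92717 q2274, trivial⟩ (by decide +kernel)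

theorem ce_d_58 : ∀ r, r < 64 → sm gd (Qf (3712 + r)) = Qf (tab Gen.d (3712 + r)) :=
  edges_tab (sm gd) Qf (tab Gen.d) 3712 [(3712, 2267), (3713, 6259), (3714, 2277), (3715, 2278), (3716, 6266), (3717, 2280), (3718, 2270), (3719, 6271), (3720, 2283), (3721, 4962), (3722, 6251), (3723, 6252), (3724, 6280), (3725, 2273), (3726, 6285), (3727, 6256), (3728, 6290), (3729, 2338), (3730, 2276), (3731, 6294), (3732, 6295), (3733, 6262), (3734, 4965), (3735, 6263), (3736, 6264), (3737, 6307), (3738, 2279), (3739, 6312), (3740, 6268), (3741, 6317), (3742, 2351), (3743, 2282), (3744, 6321), (3745, 6322), (3746, 6274), (3747, 6330), (3748, 2284), (3749, 6335), (3750, 6336), (3751, 2360), (3752, 4392), (3753, 2366), (3754, 2289), (3755, 6343), (3756, 6345), (3757, 6350), (3758, 2290), (3759, 6355), (3760, 6356), (3761, 2374), (3762, 4408), (3763, 2380), (3764, 2295), (3765, 6363), (3766, 6365), (3767, 6370), (3768, 2296), (3769, 6375), (3770, 6376), (3771, 2822), (3772, 6380), (3773, 2298), (3774, 6385), (3775, 6386)]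
    ⟨e3 q3712 (flp_d L92723) q2267, e3 q3713 (flp_d L110644) q6259, e3 q3714 L92736 q2277, e3 q3715 L92744 q2278, e3 q3716 L110683 q6266, e3 q3717 L92758 q2280, e3 q3718 (flp_d L92764) q2270, e3 q3719 (flp_d L110712) q6271, e3 q3720 L92777 q2283, e3 q3721 (flp_d L102001) q4962, e3 q3722 (flp_d L110601) q6251, e3 q3723 (flp_d L110607) q6252, e3 q3724 L110773 q6280, e3 q3725 (flp_d L92807) q2273, e3 q3726 (flp_d L110813) q6285, e3 q3727 (flp_d L110631) q6256, e3 q3728 L110837 q6290, e3 q3729 L92831 q2338, e3 q3730 L92835 q2276, e3 q3731 (flp_d L110859) q6294, e3 q3732 (flp_d L110867) q6295, e3 q3733 (flp_d L110663) q6262, e3 q3734 (flp_d L102112) q4965, e3 q3735 (flp_d L110669) q6263, e3 q3736 (flp_d L110675) q6264, e3 q3737 L110941 q6307, e3 q3738 (flp_d L92879) q2279, e3 q3739 (flp_d L110981) q6312, e3 q3740 (flp_d L110699) q6268, e3 q3741 L111005 q6317, e3 q3742 L92903 q2351, e3 q3743 L92907 q2282, e3 q3744 (flp_d L111027) q6321, e3 q3745 (flp_d L111035) q6322, e3 q3746 (flp_d L110731) q6274, e3 q3747 L111077 q6330,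 e3 q3748 (flp_d L92934) q2284, e3 q3749 (flp_d L111105) q6335, e3 q3750 (flp_d L111109) q6336, e3 q3751 L92952 q2360, e3 q3752 (flp_d L96681) q4392, e3 q3753 L92960 q2366, e3 q3754 L92968 q2289, e3 q3755 (flp_d L111151) q6343, e3 q3756 (flp_d L111157) q6345, e3 q3757 L111193 q6350, e3 q3758 (flp_d L92987) q2290, e3 q3759 (flp_d L111221) q6355, e3 q3760 (flp_d L111225) q6356, e3 q3761 L93005 q2374, e3 q3762 (flp_d L96780) q4408, e3 q3763 L93013 q2380, e3 q3764 L93021 q2295, e3 q3765 (flp_d L111267) q6363, e3 q3766 (flp_d L111273) q6365, e3 q3767 L111305 q6370, e3 q3768 (flp_d L93043) q2296, e3 q3769 (flp_d L111337) q6375, e3 q3770 (flp_d L111343) q6376, e3 q3771 L93073 q2822, e3 q3772 L111369 q6380, e3 q3773 (flp_d L93081) q2298, e3 q3774 (flp_d L111401) q6385, e3 q3775 (flp_d L111407) q6386, trivial⟩ (by decide +kernel)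

theorem ce_d_59 : ∀ r, r < 64 → sm gd (Qf (3776 + r)) = Qf (tab Gen.d (3776 + r)) :=
  edges_tab (sm gd) Qf (tab Gen.d) 3776 [(3776, 2842), (3777, 2643), (3778, 2644), (3779, 5806), (3780, 5807), (3781, 5808), (3782, 5809), (3783, 2655), (3784, 2656), (3785, 2659), (3786, 2660), (3787, 2661), (3788, 2663), (3789, 2666), (3790, 2667), (3791, 2669), (3792, 2672), (3793, 2673), (3794, 6407), (3795, 2675), (3796, 2676), (3797, 6413), (3798, 2315), (3799, 4494), (3800, 6220), (3801, 2317), (3802, 6420), (3803, 2683), (3804, 6426), (3805, 2685), (3806, 2686), (3807, 6430), (3808, 2688), (3809, 2320), (3810, 6434), (3811, 2691), (3812, 2692), (3813, 6438), (3814, 2694), (3815, 2695), (3816, 6444), (3817, 2323), (3818, 4529), (3819, 6239), (3820, 2325), (3821, 6451), (3822, 2702), (3823, 6457), (3824, 2704), (3825, 2705), (3826, 6461), (3827, 2707), (3828, 2328), (3829, 6465), (3830, 2710), (3831, 2711), (3832, 2712), (3833, 2717), (3834, 2718), (3835, 2719), (3836, 2333), (3837, 5176), (3838, 6471), (3839, 6284)]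
    ⟨e3 q3776 L93111 q2842, e3 q3777 L93115 q2643, e3 q3778 L93121 q2644, e3 q3779 (flp_d L107507) q5806, e3 q3780 (flp_d L107515) q5807, e3 q3781 (flp_d L107523) q5808, e3 q3782 (flp_d L107533) q5809, e3 q3783 L93145 q2655, e3 q3784 L93149 q2656, e3 q3785 L93163 q2659, e3 q3786 L93167 q2660, e3 q3787 L93171 q2661, e3 q3788 L93181 q2663, e3 q3789 L93191 q2666, e3 q3790 L93197 q2667, e3 q3791 L93207 q2669, e3 q3792 (flp_d L150160) q2672, e3 q3793 L93227 q2673, e3 q3794 L111575 q6407, e3 q3795 L93233 q2675, e3 q3796 L93239 q2676, e3 q3797 L111609 q6413, e3 q3798 (flp_d L93243) q2315, e3 q3799 L97254 q4494, e3 q3800 (flp_d L110435) q6220, e3 q3801 L93259 q2317, e3 q3802 (flp_d L111651) q6420, e3 q3803 L93265 q2683, e3 q3804 L111675 q6426, e3 q3805 L93275 q2685, e3 q3806 L93279 q2686, e3 q3807 L111689 q6430, e3 q3808 L93289 q2688, e3 q3809 (flp_d L93297) q2320, e3 q3810 (flp_d L111707) q6434, e3 q3811 L93307 q2691, e3 q3812 L93313 q2692, e3 q3813 L111729 q6438, e3 q3814 L93319 q2694, e3 q3815 L93323 q2695, e3 q3816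 L111759 q6444, e3 q3817 (flp_d L93329) q2323, e3 q3818 L97425 q4529, e3 q3819 (flp_d L110535) q6239, e3 q3820 L93345 q2325, e3 q3821 (flp_d L111797) q6451, e3 q3822 L93351 q2702, e3 q3823 L111821 q6457, e3 q3824 L93361 q2704, e3 q3825 L93365 q2705, e3 q3826 L111835 q6461, e3 q3827 L93375 q2707, e3 q3828 (flp_d L93383) q2328, e3 q3829 (flp_d L111853) q6465, e3 q3830 L93393 q2710, e3 q3831 L93403 q2711, e3 q3832 L93411 q2712, e3 q3833 L93415 q2717, e3 q3834 L93421 q2718, e3 q3835 L93431 q2719, e3 q3836 (flp_d L93435) q2333, e3 q3837 (flp_d L119663) q5176, e3 q3838 (flp_d L111906) q6471, e3 q3839 (flp_d L110807) q6284, trivial⟩ (by decide +kernel)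

theorem ce_d_60 : ∀ r, r < 64 → sm gd (Qf (3840 + r)) = Qf (tab Gen.d (3840 + r)) :=
  edges_tab (sm gd) Qf (tab Gen.d) 3840 [(3840, 2335), (3841, 6474), (3842, 2728), (3843, 6481), (3844, 2730), (3845, 4578), (3846, 6486), (3847, 4580), (3848, 6293), (3849, 2340), (3850, 2341), (3851, 6491), (3852, 3935), (3853, 6492), (3854, 2746), (3855, 6499), (3856, 2748), (3857, 2762), (3858, 2763), (3859, 2768), (3860, 2769), (3861, 2770), (3862, 2346), (3863, 6505), (3864, 5187), (3865, 6311), (3866, 2348), (3867, 6508), (3868, 2779), (3869, 6514), (3870, 2781), (3871, 4679), (3872, 6519), (3873, 4681), (3874, 6320), (3875, 2353), (3876, 2354), (3877, 6524), (3878, 3907), (3879, 6525), (3880, 2797), (3881, 6532), (3882, 2799), (3883, 5519), (3884, 2356), (3885, 6538), (3886, 6539), (3887, 3944), (3888, 6334), (3889, 2358), (3890, 2359), (3891, 6546), (3892, 6547), (3893, 6548), (3894, 4393), (3895, 2362), (3896, 6554), (3897, 5464), (3898, 3026), (3899, 2987), (3900, 3017), (3901, 3942), (3902, 2364), (3903, 6560)]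
    ⟨e3 q3840 L93462 q2335, e3 q3841 (flp_d L111922) q6474, e3 q3842 L93470 q2728, e3 q3843 L111958 q6481, e3 q3844 L93476 q2730, e3 q3845 (flp_d L97662) q4578, e3 q3846 L111984 q6486, e3 q3847 (flp_d L97676) q4580, e3 q3848 (flp_d L110853) q6293, e3 q3849 L93500 q2340, e3 q3850 L93508 q2341, e3 q3851 (flp_d L112020) q6491, e3 q3852 L149100 q3935, e3 q3853 (flp_d L112034) q6492, e3 q3854 L93522 q2746, e3 q3855 L112056 q6499, e3 q3856 L93528 q2748, e3 q3857 L93540 q2762, e3 q3858 L93546 q2763, e3 q3859 L93564 q2768, e3 q3860 L93570 q2769, e3 q3861 L93578 q2770, e3 q3862 (flp_d L93584) q2346, e3 q3863 (flp_d L112098) q6505, e3 q3864 (flp_d L150395) q5187, e3 q3865 (flp_d L110975) q6311, e3 q3866 L93601 q2348, e3 q3867 (flp_d L112121) q6508, e3 q3868 L93609 q2779, e3 q3869 L112188 q6514, e3 q3870 L93615 q2781, e3 q3871 (flp_d L98236) q4679, e3 q3872 L112214 q6519, e3 q3873 (flp_d L98250) q4681, e3 q3874 (flp_d L111021) q6320, e3 q3875 L93639 q2353, e3 q3876 L93647 q2354, e3 q3877 (flp_d L112250) q6524, e3 q3878 L149128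 q3907, e3 q3879 (flp_d L112264) q6525, e3 q3880 L93661 q2797, e3 q3881 L112286 q6532, e3 q3882 L93667 q2799, e3 q3883 (flp_d L119660) q5519, e3 q3884 (flp_d L93677) q2356, e3 q3885 (flp_d L112332) q6538, e3 q3886 (flp_d L112338) q6539, e3 q3887 L94016 q3944, e3 q3888 (flp_d L111101) q6334, e3 q3889 L93699 q2358, e3 q3890 L93703 q2359, e3 q3891 (flp_d L112366) q6546, e3 q3892 (flp_d L112372) q6547, e3 q3893 (flp_d L112380) q6548, e3 q3894 (flp_d L96693) q4393, e3 q3895 L93731 q2362, e3 q3896 (flp_d L112400) q6554, e3 q3897 (flp_d L143439) q5464, e3 q3898 L119288 q3026, e3 q3899 L119165 q2987, e3 q3900 L119341 q3017, e3 q3901 (flp_d L93974) q3942, e3 q3902 (flp_d L93749) q2364, e3 q3903 (flp_d L112468) q6560, trivial⟩ (by decide +kernel)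

theorem ce_d_61 : ∀ r, r < 64 → sm gd (Qf (3904 + r)) = Qf (tab Gen.d (3904 + r)) :=
  edges_tab (sm gd) Qf (tab Gen.d) 3904 [(3904, 3943), (3905, 6342), (3906, 2368), (3907, 3878), (3908, 2369), (3909, 6568), (3910, 5537), (3911, 6570), (3912, 5564), (3913, 2370), (3914, 6577), (3915, 6578), (3916, 3974), (3917, 6354), (3918, 2372), (3919, 2373), (3920, 6585), (3921, 6586), (3922, 6587), (3923, 4409), (3924, 2376), (3925, 6593), (3926, 5505), (3927, 3027), (3928, 2988), (3929, 3972), (3930, 2378), (3931, 6599), (3932, 3973), (3933, 6362), (3934, 2382), (3935, 3852), (3936, 2383), (3937, 6607), (3938, 5581), (3939, 6569), (3940, 6611), (3941, 2384), (3942, 3901), (3943, 3904), (3944, 3887), (3945, 2388), (3946, 6623), (3947, 3052), (3948, 6622), (3949, 6625), (3950, 2391), (3951, 2392), (3952, 2390), (3953, 6631), (3954, 6632), (3955, 6628), (3956, 6629), (3957, 5138), (3958, 2393), (3959, 6641), (3960, 2397), (3961, 2854), (3962, 2396), (3963, 6645), (3964, 5161), (3965, 6651), (3966, 6644), (3967, 6654)]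
    ⟨e3 q3904 (flp_d L93986) q3943, e3 q3905 (flp_d L111145) q6342, e3 q3906 L93767 q2368, e3 q3907 (flp_d L149128) q3878, e3 q3908 L93773 q2369, e3 q3909 (flp_d L112504) q6568, e3 q3910 (flp_d L120587) q5537, e3 q3911 (flp_d L112528) q6570, e3 q3912 (flp_d L150424) q5564, e3 q3913 (flp_d L93797) q2370, e3 q3914 (flp_d L112576) q6577, e3 q3915 (flp_d L112582) q6578, e3 q3916 L94267 q3974, e3 q3917 (flp_d L111217) q6354, e3 q3918 L93819 q2372, e3 q3919 L93823 q2373, e3 q3920 (flp_d L112610) q6585, e3 q3921 (flp_d L112616) q6586, e3 q3922 (flp_d L112624) q6587, e3 q3923 (flp_d L96792) q4409, e3 q3924 L93851 q2376, e3 q3925 (flp_d L112644) q6593, e3 q3926 (flp_d L151368) q5505, e3 q3927 (flp_d L148359) q3027, e3 q3928 (flp_d L146600) q2988, e3 q3929 (flp_d L94221) q3972, e3 q3930 (flp_d L93869) q2378, e3 q3931 (flp_d L112712) q6599, e3 q3932 (flp_d L94237) q3973, e3 q3933 (flp_d L111261) q6362, e3 q3934 L93887 q2382, e3 q3935 (flp_d L149100) q3852, e3 q3936 L93893 q2383, e3 q3937 (flp_d L112748) q6607, e3 q3938 (flp_d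 L151411) q5581, e3 q3939 (flp_d L149130) q6569, e3 q3940 L112796 q6611, e3 q3941 (flp_d L93919) q2384, e3 q3942 L93974 q3901, e3 q3943 L93986 q3904, e3 q3944 (flp_d L94016) q3887, e3 q3945 (flp_d L94008) q2388, e3 q3946 L112984 q6623, e3 q3947 (flp_d L120082) q3052, e3 q3948 (flp_d L112982) q6622, e3 q3949 L113008 q6625, e3 q3950 L94042 q2391, e3 q3951 L94046 q2392, e3 q3952 (flp_d L94048) q2390, e3 q3953 (flp_d L113048) q6631, e3 q3954 (flp_d L113052) q6632, e3 q3955 (flp_d L113024) q6628, e3 q3956 (flp_d L113030) q6629, e3 q3957 (flp_d L120094) q5138, e3 q3958 (flp_d L94082) q2393, e3 q3959 (flp_d L113100) q6641, e3 q3960 L94100 q2397, e3 q3961 L94108 q2854, e3 q3962 L94116 q2396, e3 q3963 (flp_d L113130) q6645, e3 q3964 L143431 q5161, e3 q3965 L113160 q6651, e3 q3966 (flp_d L113120) q6644, e3 q3967 L113186 q6654, trivial⟩ (by decide +kernel)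

theorem ce_d_62 : ∀ r, r < 64 → sm gd (Qf (3968 + r)) = Qf (tab Gen.d (3968 + r)) :=
  edges_tab (sm gd) Qf (tab Gen.d) 3968 [(3968, 6656), (3969, 2400), (3970, 6659), (3971, 2401), (3972, 3929), (3973, 3932), (3974, 3916), (3975, 2405), (3976, 6671), (3977, 6670), (3978, 3062), (3979, 6673), (3980, 2408), (3981, 2409), (3982, 2407), (3983, 6679), (3984, 6680), (3985, 6676), (3986, 5157), (3987, 6677), (3988, 2410), (3989, 6686), (3990, 2414), (3991, 2872), (3992, 2413), (3993, 6690), (3994, 5142), (3995, 6695), (3996, 6689), (3997, 6698), (3998, 6657), (3999, 2417), (4000, 2423), (4001, 2426), (4002, 2432), (4003, 2430), (4004, 6701), (4005, 6707), (4006, 3359), (4007, 2482), (4008, 6703), (4009, 4013), (4010, 6704), (4011, 6716), (4012, 2429), (4013, 4009), (4014, 6717), (4015, 6705), (4016, 5737), (4017, 6727), (4018, 5742), (4019, 5740), (4020, 2436), (4021, 2435), (4022, 6733), (4023, 6739), (4024, 6735), (4025, 6732), (4026, 5734), (4027, 6749), (4028, 5736), (4029, 2438), (4030, 5427), (4031, 3368)]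
    ⟨e3 q3968 L113194 q6656, e3 q3969 (flp_d L94160) q2400, e3 q3970 L113224 q6659, e3 q3971 (flp_d L94170) q2401, e3 q3972 L94221 q3929, e3 q3973 L94237 q3932, e3 q3974 (flp_d L94267) q3916, e3 q3975 (flp_d L94259) q2405, e3 q3976 L113412 q6671, e3 q3977 (flp_d L113402) q6670, e3 q3978 L148520 q3062, e3 q3979 L113436 q6673, e3 q3980 L94293 q2408, e3 q3981 L94297 q2409, e3 q3982 (flp_d L94299) q2407, e3 q3983 (flp_d L113476) q6679, e3 q3984 (flp_d L113480) q6680, e3 q3985 (flp_d L113452) q6676, e3 q3986 L146277 q5157, e3 q3987 (flp_d L113468) q6677, e3 q3988 (flp_d L94333) q2410, e3 q3989 (flp_d L113528) q6686, e3 q3990 L94351 q2414, e3 q3991 L94359 q2872, e3 q3992 L94367 q2413, e3 q3993 (flp_d L113558) q6690, e3 q3994 L149615 q5142, e3 q3995 L113588 q6695, e3 q3996 (flp_d L113548) q6689, e3 q3997 L113614 q6698, e3 q3998 (flp_d L113212) q6657, e3 q3999 (flp_d L94411) q2417, e3 q4000 L94419 q2423, e3 q4001 L94438 q2426, e3 q4002 L120136 q2432, e3 q4003 L94459 q2430, e3 q4004 (flp_d L113630) q6701, e3 q4005 L113731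 q6707, e3 q4006 (flp_d L119939) q3359, e3 q4007 (flp_d L120212) q2482, e3 q4008 (flp_d L113647) q6703, e3 q4009 L119968 q4013, e3 q4010 (flp_d L113675) q6704, e3 q4011 L113827 q6716, e3 q4012 L94512 q2429, e3 q4013 (flp_d L119968) q4009, e3 q4014 (flp_d L113845) q6717, e3 q4015 (flp_d L113713) q6705, e3 q4016 (flp_d L107039) q5737, e3 q4017 L113897 q6727, e3 q4018 (flp_d L107069) q5742, e3 q4019 (flp_d L120140) q5740, e3 q4020 L94560 q2436, e3 q4021 L94568 q2435, e3 q4022 (flp_d L113945) q6733, e3 q4023 L113971 q6739, e3 q4024 (flp_d L113951) q6735, e3 q4025 (flp_d L113939) q6732, e3 q4026 (flp_d L107023) q5734, e3 q4027 L114021 q6749, e3 q4028 (flp_d L107033) q5736, e3 q4029 (flp_d L94600) q2438, e3 q4030 L153431 q5427, e3 q4031 L94610 q3368, trivial⟩ (by decide +kernel)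

theorem ce_d_63 : ∀ r, r < 64 → sm gd (Qf (4032 + r)) = Qf (tab Gen.d (4032 + r)) :=
  edges_tab (sm gd) Qf (tab Gen.d) 4032 [(4032, 5741), (4033, 3366), (4034, 5115), (4035, 3362), (4036, 6762), (4037, 2442), (4038, 6765), (4039, 6767), (4040, 2444), (4041, 2914), (4042, 6763), (4043, 2446), (4044, 6774), (4045, 2447), (4046, 2453), (4047, 2455), (4048, 2461), (4049, 2462), (4050, 6777), (4051, 6783), (4052, 3384), (4053, 6779), (4054, 2490), (4055, 4060), (4056, 6780), (4057, 6792), (4058, 2458), (4059, 6793), (4060, 4055), (4061, 5703), (4062, 6799), (4063, 5708), (4064, 5706), (4065, 6781), (4066, 2466), (4067, 2465), (4068, 6807), (4069, 6813), (4070, 6809), (4071, 6806), (4072, 5701), (4073, 6823), (4074, 5704), (4075, 2468), (4076, 5411), (4077, 3392), (4078, 5709), (4079, 3390), (4080, 5108), (4081, 3385), (4082, 6836), (4083, 2472), (4084, 6839), (4085, 6841), (4086, 2474), (4087, 2902), (4088, 6837), (4089, 2476), (4090, 6848), (4091, 2477), (4092, 6852), (4093, 2478), (4094, 6855), (4095, 2479)]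
    ⟨e3 q4032 (flp_d L107061) q5741, e3 q4033 L94622 q3366, e3 q4034 (flp_d L140949) q5115, e3 q4035 L94630 q3362, e3 q4036 L114109 q6762, e3 q4037 (flp_d L94640) q2442, e3 q4038 L114141 q6765, e3 q4039 L114147 q6767, e3 q4040 (flp_d L94668) q2444, e3 q4041 L94678 q2914, e3 q4042 (flp_d L114115) q6763, e3 q4043 L94684 q2446, e3 q4044 (flp_d L114177) q6774, e3 q4045 (flp_d L94688) q2447, e3 q4046 L94698 q2453, e3 q4047 L94710 q2455, e3 q4048 (flp_d L148459) q2461, e3 q4049 L94747 q2462, e3 q4050 (flp_d L114197) q6777, e3 q4051 L114298 q6783, e3 q4052 (flp_d L148437) q3384, e3 q4053 (flp_d L114210) q6779, e3 q4054 (flp_d L146470) q2490, e3 q4055 (flp_d L148456) q4060, e3 q4056 (flp_d L114238) q6780, e3 q4057 L114388 q6792, e3 q4058 L94787 q2458, e3 q4059 (flp_d L114400) q6793, e3 q4060 L148456 q4055, e3 q4061 (flp_d L106811) q5703, e3 q4062 L114450 q6799, e3 q4063 (flp_d L106837) q5708, e3 q4064 (flp_d L146401) q5706, e3 q4065 (flp_d L114284) q6781, e3 q4066 L94839 q2466, e3 q4067 L94847 q2465, e3 q4068 (flp_d L114506)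 q6807, e3 q4069 L114532 q6813, e3 q4070 (flp_d L114512) q6809, e3 q4071 (flp_d L114500) q6806, e3 q4072 (flp_d L106801) q5701, e3 q4073 L114582 q6823, e3 q4074 (flp_d L106817) q5704, e3 q4075 (flp_d L94879) q2468, e3 q4076 L152988 q5411, e3 q4077 L94889 q3392, e3 q4078 (flp_d L106845) q5709, e3 q4079 L94901 q3390, e3 q4080 (flp_d L147409) q5108, e3 q4081 L94909 q3385, e3 q4082 L114670 q6836, e3 q4083 (flp_d L94919) q2472, e3 q4084 L114706 q6839, e3 q4085 L114714 q6841, e3 q4086 (flp_d L94949) q2474, e3 q4087 L94959 q2902, e3 q4088 (flp_d L114680) q6837, e3 q4089 L94969 q2476, e3 q4090 (flp_d L114750) q6848, e3 q4091 (flp_d L94975) q2477, e3 q4092 L114818 q6852, e3 q4093 (flp_d L95037) q2478, e3 q4094 L114855 q6855, e3 q4095 (flp_d L95054) q2479, trivial⟩ (by decide +kernel)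

theorem ce_d_64 : ∀ r, r < 64 → sm gd (Qf (4096 + r)) = Qf (tab Gen.d (4096 + r)) :=
  edges_tab (sm gd) Qf (tab Gen.d) 4096 [(4096, 6859), (4097, 6860), (4098, 6854), (4099, 2481), (4100, 4934), (4101, 5117), (4102, 6710), (4103, 3354), (4104, 3356), (4105, 3357), (4106, 3361), (4107, 3363), (4108, 6873), (4109, 2486), (4110, 6876), (4111, 2487), (4112, 6880), (4113, 6881), (4114, 6875), (4115, 2489), (4116, 4935), (4117, 5121), (4118, 6788), (4119, 3378), (4120, 3380), (4121, 3381), (4122, 3386), (4123, 3387), (4124, 2494), (4125, 6484), (4126, 6517), (4127, 5231), (4128, 5232), (4129, 2646), (4130, 2498), (4131, 2499), (4132, 6899), (4133, 6900), (4134, 6901), (4135, 6902), (4136, 2502), (4137, 2503), (4138, 2504), (4139, 2505), (4140, 6909), (4141, 6919), (4142, 6911), (4143, 6912), (4144, 6913), (4145, 6927), (4146, 6915), (4147, 6916), (4148, 6934), (4149, 2506), (4150, 6937), (4151, 6938), (4152, 2508), (4153, 2509), (4154, 6943), (4155, 6944), (4156, 2512), (4157, 6954), (4158, 2514), (4159, 2515)]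
    ⟨e3 q4096 (flp_d L114880) q6859, e3 q4097 (flp_d L114885) q6860, e3 q4098 (flp_d L114840) q6854, e3 q4099 L95076 q2481, e3 q4100 (flp_d L142670) q4934, e3 q4101 (flp_d L120218) q5117, e3 q4102 (flp_d L119915) q6710, e3 q4103 L95097 q3354, e3 q4104 L95103 q3356, e3 q4105 L95109 q3357, e3 q4106 L95113 q3361, e3 q4107 L95121 q3363, e3 q4108 L114991 q6873, e3 q4109 (flp_d L95131) q2486, e3 q4110 L115028 q6876, e3 q4111 (flp_d L95148) q2487, e3 q4112 (flp_d L115053) q6880, e3 q4113 (flp_d L115057) q6881, e3 q4114 (flp_d L115013) q6875, e3 q4115 L95170 q2489, e3 q4116 (flp_d L148252) q4935, e3 q4117 (flp_d L129541) q5121, e3 q4118 (flp_d L146454) q6788, e3 q4119 L95191 q3378, e3 q4120 L95197 q3380, e3 q4121 L95203 q3381, e3 q4122 L95207 q3386, e3 q4123 L95215 q3387, e3 q4124 (flp_d L95219) q2494, e3 q4125 (flp_d L119183) q6484, e3 q4126 (flp_d L148287) q6517, e3 q4127 (flp_d L103824) q5231, e3 q4128 (flp_d L103828) q5232, e3 q4129 L95260 q2646, e3 q4130 L95266 q2498, e3 q4131 L95272 q2499, e3 q4132 (flp_d L115236)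 q6899, e3 q4133 (flp_d L115244) q6900, e3 q4134 (flp_d L115250) q6901, e3 q4135 (flp_d L115259) q6902, e3 q4136 L95304 q2502, e3 q4137 L95312 q2503, e3 q4138 L95318 q2504, e3 q4139 L95328 q2505, e3 q4140 (flp_d L115303) q6909, e3 q4141 L115357 q6919, e3 q4142 (flp_d L115315) q6911, e3 q4143 (flp_d L115319) q6912, e3 q4144 (flp_d L115323) q6913, e3 q4145 L115407 q6927, e3 q4146 (flp_d L115333) q6915, e3 q4147 (flp_d L115337) q6916, e3 q4148 L115444 q6934, e3 q4149 (flp_d L95374) q2506, e3 q4150 (flp_d L115461) q6937, e3 q4151 (flp_d L115467) q6938, e3 q4152 L95390 q2508, e3 q4153 L95399 q2509, e3 q4154 (flp_d L115490) q6943, e3 q4155 (flp_d L115495) q6944, e3 q4156 L95408 q2512, e3 q4157 L115531 q6954, e3 q4158 L95414 q2514, e3 q4159 L95418 q2515, trivial⟩ (by decide +kernel)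

theorem ce_d_65 : ∀ r, r < 64 → sm gd (Qf (4160 + r)) = Qf (tab Gen.d (4160 + r)) :=
  edges_tab (sm gd) Qf (tab Gen.d) 4160 [(4160, 6960), (4161, 2517), (4162, 6951), (4163, 6966), (4164, 6953), (4165, 2513), (4166, 6971), (4167, 6956), (4168, 6957), (4169, 6977), (4170, 6959), (4171, 2516), (4172, 6982), (4173, 6962), (4174, 2520), (4175, 2521), (4176, 2522), (4177, 2523), (4178, 6989), (4179, 6985), (4180, 6986), (4181, 6994), (4182, 6987), (4183, 6988), (4184, 2532), (4185, 6253), (4186, 2525), (4187, 7004), (4188, 2536), (4189, 2537), (4190, 7012), (4191, 2539), (4192, 2540), (4193, 6265), (4194, 2529), (4195, 7020), (4196, 2544), (4197, 2545), (4198, 7028), (4199, 2547), (4200, 7000), (4201, 7001), (4202, 7034), (4203, 2533), (4204, 7039), (4205, 2680), (4206, 2535), (4207, 7042), (4208, 7006), (4209, 7047), (4210, 7008), (4211, 7009), (4212, 7051), (4213, 7011), (4214, 2538), (4215, 7055), (4216, 7014), (4217, 7016), (4218, 7017), (4219, 7062), (4220, 2541), (4221, 7067), (4222, 2699), (4223, 2543)]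
    ⟨e3 q4160 L115561 q6960, e3 q4161 L95424 q2517, e3 q4162 (flp_d L115517) q6951, e3 q4163 L115593 q6966, e3 q4164 (flp_d L115527) q6953, e3 q4165 (flp_d L95444) q2513, e3 q4166 (flp_d L115622) q6971, e3 q4167 (flp_d L115541) q6956, e3 q4168 (flp_d L115547) q6957, e3 q4169 L115667 q6977, e3 q4170 (flp_d L115557) q6959, e3 q4171 (flp_d L95479) q2516, e3 q4172 (flp_d L115696) q6982, e3 q4173 (flp_d L115571) q6962, e3 q4174 L95498 q2520, e3 q4175 L95504 q2521, e3 q4176 L95511 q2522, e3 q4177 L95521 q2523, e3 q4178 L115750 q6989, e3 q4179 (flp_d L166580) q6985, e3 q4180 (flp_d L115727) q6986, e3 q4181 L115789 q6994, e3 q4182 (flp_d L166630) q6987, e3 q4183 (flp_d L115747) q6988, e3 q4184 L95552 q2532, e3 q4185 L115820 q6253, e3 q4186 (flp_d L95560) q2525, e3 q4187 (flp_d L115848) q7004, e3 q4188 L95570 q2536, e3 q4189 L95576 q2537, e3 q4190 L115882 q7012, e3 q4191 L95582 q2539, e3 q4192 L95588 q2540, e3 q4193 (flp_d L148992) q6265, e3 q4194 (flp_d L95596) q2529, e3 q4195 (flp_d L115930) q7020, e3 q4196 L95606 q2544,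 e3 q4197 L95612 q2545, e3 q4198 L115964 q7028, e3 q4199 L95618 q2547, e3 q4200 (flp_d L115828) q7000, e3 q4201 (flp_d L115834) q7001, e3 q4202 L116000 q7034, e3 q4203 (flp_d L95636) q2533, e3 q4204 L116033 q7039, e3 q4205 L95651 q2680, e3 q4206 L95655 q2535, e3 q4207 (flp_d L116100) q7042, e3 q4208 (flp_d L115854) q7006, e3 q4209 L116131 q7047, e3 q4210 (flp_d L115864) q7008, e3 q4211 (flp_d L115868) q7009, e3 q4212 L116163 q7051, e3 q4213 (flp_d L115878) q7011, e3 q4214 (flp_d L95696) q2538, e3 q4215 (flp_d L116186) q7055, e3 q4216 (flp_d L115892) q7014, e3 q4217 (flp_d L115904) q7016, e3 q4218 (flp_d L115908) q7017, e3 q4219 L116273 q7062, e3 q4220 (flp_d L95735) q2541, e3 q4221 L116306 q7067, e3 q4222 L95750 q2699, e3 q4223 L95754 q2543, trivial⟩ (by decide +kernel)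

theorem ce_d_66 : ∀ r, r < 64 → sm gd (Qf (4224 + r)) = Qf (tab Gen.d (4224 + r)) :=
  edges_tab (sm gd) Qf (tab Gen.d) 4224 [(4224, 7070), (4225, 7022), (4226, 7075), (4227, 7024), (4228, 7025), (4229, 7079), (4230, 7027), (4231, 2546), (4232, 7083), (4233, 7030), (4234, 2570), (4235, 2571), (4236, 7090), (4237, 2549), (4238, 7093), (4239, 2575), (4240, 4289), (4241, 6258), (4242, 2552), (4243, 7102), (4244, 7103), (4245, 2581), (4246, 7109), (4247, 2583), (4248, 2584), (4249, 2585), (4250, 7118), (4251, 2587), (4252, 2556), (4253, 7123), (4254, 2590), (4255, 2593), (4256, 2594), (4257, 7130), (4258, 2559), (4259, 7133), (4260, 2598), (4261, 4340), (4262, 6270), (4263, 2562), (4264, 7142), (4265, 7143), (4266, 2604), (4267, 7149), (4268, 2606), (4269, 2607), (4270, 2608), (4271, 7158), (4272, 2610), (4273, 2566), (4274, 7163), (4275, 2613), (4276, 5234), (4277, 5259), (4278, 7169), (4279, 2569), (4280, 7172), (4281, 7173), (4282, 7087), (4283, 7088), (4284, 7089), (4285, 5044), (4286, 2572), (4287, 7185)]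
    ⟨e3 q4224 (flp_d L116332) q7070, e3 q4225 (flp_d L115936) q7022, e3 q4226 L116363 q7075, e3 q4227 (flp_d L115946) q7024, e3 q4228 (flp_d L115950) q7025, e3 q4229 L116397 q7079, e3 q4230 (flp_d L115960) q7027, e3 q4231 (flp_d L95795) q2546, e3 q4232 (flp_d L116420) q7083, e3 q4233 (flp_d L115974) q7030, e3 q4234 L95820 q2570, e3 q4235 L95824 q2571, e3 q4236 L116471 q7090, e3 q4237 (flp_d L95828) q2549, e3 q4238 (flp_d L116487) q7093, e3 q4239 L95842 q2575, e3 q4240 L96103 q4289, e3 q4241 (flp_d L110640) q6258, e3 q4242 L95851 q2552, e3 q4243 (flp_d L116524) q7102, e3 q4244 (flp_d L116531) q7103, e3 q4245 L95866 q2581, e3 q4246 L116559 q7109, e3 q4247 L95876 q2583, e3 q4248 L95880 q2584, e3 q4249 L95884 q2585, e3 q4250 L116601 q7118, e3 q4251 L95894 q2587, e3 q4252 (flp_d L95898) q2556, e3 q4253 (flp_d L116624) q7123, e3 q4254 L95909 q2590, e3 q4255 L95921 q2593, e3 q4256 L95925 q2594, e3 q4257 L116671 q7130, e3 q4258 (flp_d L95929) q2559, e3 q4259 (flp_d L116687) q7133, e3 q4260 L95943 q2598, e3 q4261 L96388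 q4340, e3 q4262 (flp_d L110708) q6270, e3 q4263 L95952 q2562, e3 q4264 (flp_d L116722) q7142, e3 q4265 (flp_d L116729) q7143, e3 q4266 L95967 q2604, e3 q4267 L116761 q7149, e3 q4268 L95981 q2606, e3 q4269 L95987 q2607, e3 q4270 L95991 q2608, e3 q4271 L116819 q7158, e3 q4272 L96005 q2610, e3 q4273 (flp_d L96011) q2566, e3 q4274 (flp_d L116848) q7163, e3 q4275 L96024 q2613, e3 q4276 L103853 q5234, e3 q4277 (flp_d L103993) q5259, e3 q4278 L116889 q7169, e3 q4279 (flp_d L96048) q2569, e3 q4280 (flp_d L116923) q7172, e3 q4281 (flp_d L116929) q7173, e3 q4282 (flp_d L116451) q7087, e3 q4283 (flp_d L116457) q7088, e3 q4284 (flp_d L116467) q7089, e3 q4285 L116895 q5044, e3 q4286 (flp_d L96087) q2572, e3 q4287 (flp_d L117013) q7185, trivial⟩ (by decide +kernel)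

theorem ce_d_67 : ∀ r, r < 64 → sm gd (Qf (4288 + r)) = Qf (tab Gen.d (4288 + r)) :=
  edges_tab (sm gd) Qf (tab Gen.d) 4288 [(4288, 7186), (4289, 4240), (4290, 2725), (4291, 2574), (4292, 7194), (4293, 7095), (4294, 7201), (4295, 7097), (4296, 7204), (4297, 2576), (4298, 3222), (4299, 7209), (4300, 2734), (4301, 2579), (4302, 2580), (4303, 7215), (4304, 7216), (4305, 7217), (4306, 7107), (4307, 7228), (4308, 2582), (4309, 7231), (4310, 7111), (4311, 7112), (4312, 7238), (4313, 7114), (4314, 5271), (4315, 7245), (4316, 7115), (4317, 7116), (4318, 7251), (4319, 2586), (4320, 7256), (4321, 7120), (4322, 7260), (4323, 2758), (4324, 2589), (4325, 7264), (4326, 7126), (4327, 5267), (4328, 5238), (4329, 7271), (4330, 2592), (4331, 7274), (4332, 7275), (4333, 7127), (4334, 7128), (4335, 7129), (4336, 5048), (4337, 2595), (4338, 7286), (4339, 7287), (4340, 4261), (4341, 2776), (4342, 2597), (4343, 7295), (4344, 7135), (4345, 7301), (4346, 7137), (4347, 7304), (4348, 2599), (4349, 3245), (4350, 7309), (4351, 2785)]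
    ⟨e3 q4288 (flp_d L117017) q7186, e3 q4289 (flp_d L96103) q4240, e3 q4290 L96109 q2725, e3 q4291 L96115 q2574, e3 q4292 (flp_d L117075) q7194, e3 q4293 (flp_d L116495) q7095, e3 q4294 L117115 q7201, e3 q4295 (flp_d L116501) q7097, e3 q4296 L117127 q7204, e3 q4297 (flp_d L96141) q2576, e3 q4298 L116064 q3222, e3 q4299 (flp_d L117169) q7209, e3 q4300 L96169 q2734, e3 q4301 L96175 q2579, e3 q4302 L96183 q2580, e3 q4303 (flp_d L117209) q7215, e3 q4304 (flp_d L117215) q7216, e3 q4305 (flp_d L117219) q7217, e3 q4306 (flp_d L116551) q7107, e3 q4307 L117275 q7228, e3 q4308 (flp_d L96213) q2582, e3 q4309 (flp_d L117293) q7231, e3 q4310 (flp_d L116569) q7111, e3 q4311 (flp_d L116575) q7112, e3 q4312 L117335 q7238, e3 q4313 (flp_d L116581) q7114, e3 q4314 L156826 q5271, e3 q4315 L117379 q7245, e3 q4316 (flp_d L116593) q7115, e3 q4317 (flp_d L116597) q7116, e3 q4318 L117415 q7251, e3 q4319 (flp_d L96263) q2586, e3 q4320 (flp_d L117443) q7256, e3 q4321 (flp_d L116615) q7120, e3 q4322 L117459 q7260, e3 q4323 L96287 q2758,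 e3 q4324 L96291 q2589, e3 q4325 (flp_d L117483) q7264, e3 q4326 (flp_d L116641) q7126, e3 q4327 (flp_d L104043) q5267, e3 q4328 L103877 q5238, e3 q4329 L117527 q7271, e3 q4330 (flp_d L96333) q2592, e3 q4331 (flp_d L117561) q7274, e3 q4332 (flp_d L117567) q7275, e3 q4333 (flp_d L116647) q7127, e3 q4334 (flp_d L116655) q7128, e3 q4335 (flp_d L116665) q7129, e3 q4336 L117533 q5048, e3 q4337 (flp_d L96372) q2595, e3 q4338 (flp_d L117647) q7286, e3 q4339 (flp_d L117651) q7287, e3 q4340 (flp_d L96388) q4261, e3 q4341 L96394 q2776, e3 q4342 L96400 q2597, e3 q4343 (flp_d L117705) q7295, e3 q4344 (flp_d L116695) q7135, e3 q4345 L117737 q7301, e3 q4346 (flp_d L116701) q7137, e3 q4347 L117749 q7304, e3 q4348 (flp_d L96426) q2599, e3 q4349 (flp_d L148940) q3245, e3 q4350 (flp_d L117779) q7309, e3 q4351 L96454 q2785, trivial⟩ (by decide +kernel)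

theorem ce_d_68 : ∀ r, r < 64 → sm gd (Qf (4352 + r)) = Qf (tab Gen.d (4352 + r)) :=
  edges_tab (sm gd) Qf (tab Gen.d) 4352 [(4352, 2602), (4353, 2603), (4354, 7315), (4355, 7316), (4356, 7317), (4357, 7147), (4358, 7328), (4359, 2605), (4360, 7331), (4361, 7151), (4362, 7152), (4363, 7338), (4364, 7154), (4365, 5263), (4366, 7345), (4367, 7155), (4368, 7156), (4369, 7351), (4370, 2609), (4371, 7356), (4372, 7160), (4373, 7360), (4374, 2809), (4375, 2612), (4376, 7364), (4377, 7166), (4378, 2616), (4379, 2813), (4380, 2617), (4381, 7369), (4382, 7371), (4383, 7373), (4384, 7379), (4385, 7381), (4386, 2619), (4387, 7387), (4388, 2620), (4389, 7392), (4390, 7393), (4391, 2830), (4392, 3752), (4393, 3894), (4394, 2626), (4395, 2833), (4396, 2627), (4397, 7400), (4398, 7402), (4399, 7404), (4400, 7410), (4401, 7412), (4402, 2629), (4403, 7418), (4404, 2630), (4405, 7423), (4406, 7424), (4407, 2850), (4408, 3762), (4409, 3923), (4410, 7431), (4411, 2634), (4412, 7434), (4413, 7435), (4414, 2636), (4415, 7438)]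
    ⟨e3 q4352 L96460 q2602, e3 q4353 L96468 q2603, e3 q4354 (flp_d L117819) q7315, e3 q4355 (flp_d L117825) q7316, e3 q4356 (flp_d L117829) q7317, e3 q4357 (flp_d L116749) q7147, e3 q4358 L117885 q7328, e3 q4359 (flp_d L96498) q2605, e3 q4360 (flp_d L117903) q7331, e3 q4361 (flp_d L116773) q7151, e3 q4362 (flp_d L116781) q7152, e3 q4363 L117947 q7338, e3 q4364 (flp_d L116787) q7154, e3 q4365 (flp_d L156834) q5263, e3 q4366 L117993 q7345, e3 q4367 (flp_d L116805) q7155, e3 q4368 (flp_d L116811) q7156, e3 q4369 L118029 q7351, e3 q4370 (flp_d L96550) q2609, e3 q4371 (flp_d L118057) q7356, e3 q4372 (flp_d L116835) q7160, e3 q4373 L118073 q7360, e3 q4374 L96574 q2809, e3 q4375 L96578 q2612, e3 q4376 (flp_d L118097) q7364, e3 q4377 (flp_d L116869) q7166, e3 q4378 L96598 q2616, e3 q4379 L96604 q2813, e3 q4380 L96608 q2617, e3 q4381 (flp_d L118127) q7369, e3 q4382 (flp_d L118139) q7371, e3 q4383 (flp_d L118208) q7373, e3 q4384 L118234 q7379, e3 q4385 L118248 q7381, e3 q4386 (flp_d L96647) q2619, e3 q4387 L118280 q7387,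 e3 q4388 (flp_d L96655) q2620, e3 q4389 (flp_d L118308) q7392, e3 q4390 (flp_d L118312) q7393, e3 q4391 L96677 q2830, e3 q4392 L96681 q3752, e3 q4393 L96693 q3894, e3 q4394 L96697 q2626, e3 q4395 L96703 q2833, e3 q4396 L96707 q2627, e3 q4397 (flp_d L118354) q7400, e3 q4398 (flp_d L118366) q7402, e3 q4399 (flp_d L118381) q7404, e3 q4400 L118423 q7410, e3 q4401 L118437 q7412, e3 q4402 (flp_d L96746) q2629, e3 q4403 L118469 q7418, e3 q4404 (flp_d L96754) q2630, e3 q4405 (flp_d L118497) q7423, e3 q4406 (flp_d L118503) q7424, e3 q4407 L96776 q2850, e3 q4408 L96780 q3762, e3 q4409 L96792 q3923, e3 q4410 L118541 q7431, e3 q4411 (flp_d L96799) q2634, e3 q4412 L118568 q7434, e3 q4413 L118584 q7435, e3 q4414 (flp_d L96828) q2636, e3 q4415 L118615 q7438, trivial⟩ (by decide +kernel)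

theorem ce_d_69 : ∀ r, r < 64 → sm gd (Qf (4416 + r)) = Qf (tab Gen.d (4416 + r)) :=
  edges_tab (sm gd) Qf (tab Gen.d) 4416 [(4416, 3439), (4417, 2920), (4418, 2641), (4419, 2642), (4420, 4579), (4421, 4680), (4422, 4555), (4423, 7447), (4424, 6390), (4425, 4658), (4426, 7450), (4427, 6392), (4428, 7452), (4429, 2645), (4430, 7456), (4431, 7454), (4432, 7455), (4433, 6483), (4434, 6516), (4435, 2649), (4436, 2650), (4437, 2651), (4438, 2652), (4439, 7469), (4440, 7465), (4441, 7466), (4442, 7474), (4443, 7467), (4444, 7468), (4445, 3523), (4446, 7480), (4447, 2654), (4448, 7482), (4449, 6399), (4450, 4613), (4451, 7485), (4452, 4611), (4453, 3526), (4454, 7489), (4455, 2658), (4456, 7491), (4457, 6401), (4458, 4714), (4459, 7494), (4460, 4711), (4461, 4463), (4462, 5822), (4463, 4461), (4464, 6403), (4465, 7500), (4466, 2662), (4467, 7503), (4468, 4637), (4469, 6970), (4470, 2665), (4471, 7507), (4472, 7508), (4473, 4476), (4474, 5825), (4475, 6404), (4476, 4473), (4477, 7514), (4478, 2668), (4479, 7517)]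
    ⟨e3 q4416 (flp_d L96910) q3439, e3 q4417 L96918 q2920, e3 q4418 L96924 q2641, e3 q4419 L96930 q2642, e3 q4420 (flp_d L119743) q4579, e3 q4421 L147664 q4680, e3 q4422 (flp_d L97546) q4555, e3 q4423 L118766 q7447, e3 q4424 (flp_d L111437) q6390, e3 q4425 (flp_d L98105) q4658, e3 q4426 L118778 q7450, e3 q4427 (flp_d L111449) q6392, e3 q4428 L118787 q7452, e3 q4429 (flp_d L96951) q2645, e3 q4430 L118834 q7456, e3 q4431 (flp_d L118820) q7454, e3 q4432 (flp_d L118830) q7455, e3 q4433 (flp_d L119214) q6483, e3 q4434 (flp_d L148325) q6516, e3 q4435 L96981 q2649, e3 q4436 L96986 q2650, e3 q4437 L96992 q2651, e3 q4438 L96999 q2652, e3 q4439 L118925 q7469, e3 q4440 (flp_d L118902) q7465, e3 q4441 (flp_d L118907) q7466, e3 q4442 L120654 q7474, e3 q4443 (flp_d L118919) q7467, e3 q4444 (flp_d L118923) q7468, e3 q4445 L97029 q3523, e3 q4446 L120728 q7480, e3 q4447 (flp_d L97054) q2654, e3 q4448 (flp_d L120748) q7482, e3 q4449 (flp_d L111475) q6399, e3 q4450 L98481 q4613, e3 q4451 L120762 q7485, e3 q4452 L98491 q4611, e3 q4453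 (flp_d L150376) q3526, e3 q4454 L120786 q7489, e3 q4455 (flp_d L97084) q2658, e3 q4456 (flp_d L120802) q7491, e3 q4457 (flp_d L111501) q6401, e3 q4458 (flp_d L98409) q4714, e3 q4459 L120816 q7494, e3 q4460 (flp_d L98393) q4711, e3 q4461 (flp_d L97116) q4463, e3 q4462 (flp_d L107605) q5822, e3 q4463 L97116 q4461, e3 q4464 (flp_d L111517) q6403, e3 q4465 L120852 q7500, e3 q4466 (flp_d L97126) q2662, e3 q4467 (flp_d L120870) q7503, e3 q4468 L97985 q4637, e3 q4469 (flp_d L115618) q6970, e3 q4470 L97145 q2665, e3 q4471 (flp_d L120896) q7507, e3 q4472 (flp_d L120905) q7508, e3 q4473 L97907 q4476, e3 q4474 (flp_d L150794) q5825, e3 q4475 (flp_d L111529) q6404, e3 q4476 (flp_d L97907) q4473, e3 q4477 L120967 q7514, e3 q4478 (flp_d L97172) q2668, e3 q4479 (flp_d L120989) q7517, trivial⟩ (by decide +kernel)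

theorem ce_d_70 : ∀ r, r < 64 → sm gd (Qf (4480 + r)) = Qf (tab Gen.d (4480 + r)) :=
  edges_tab (sm gd) Qf (tab Gen.d) 4480 [(4480, 4736), (4481, 6981), (4482, 2671), (4483, 7521), (4484, 7522), (4485, 4668), (4486, 3315), (4487, 5998), (4488, 6410), (4489, 6411), (4490, 7529), (4491, 2677), (4492, 7534), (4493, 7535), (4494, 3799), (4495, 7038), (4496, 7539), (4497, 2679), (4498, 7471), (4499, 6488), (4500, 7041), (4501, 2682), (4502, 7544), (4503, 7543), (4504, 6424), (4505, 7549), (4506, 2684), (4507, 7552), (4508, 4667), (4509, 6007), (4510, 4665), (4511, 7556), (4512, 2687), (4513, 7561), (4514, 5123), (4515, 7054), (4516, 2690), (4517, 7565), (4518, 7566), (4519, 4625), (4520, 4563), (4521, 3338), (4522, 6004), (4523, 6441), (4524, 6442), (4525, 7574), (4526, 2696), (4527, 7579), (4528, 7580), (4529, 3818), (4530, 7066), (4531, 7584), (4532, 2698), (4533, 7476), (4534, 6521), (4535, 7069), (4536, 2701), (4537, 7589), (4538, 7588), (4539, 6455), (4540, 7594), (4541, 2703), (4542, 7597), (4543, 4566)]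
    ⟨e3 q4480 (flp_d L98531) q4736, e3 q4481 (flp_d L115692) q6981, e3 q4482 L97193 q2671, e3 q4483 (flp_d L121022) q7521, e3 q4484 (flp_d L121029) q7522, e3 q4485 (flp_d L98187) q4668, e3 q4486 L119674 q3315, e3 q4487 (flp_d L108849) q5998, e3 q4488 (flp_d L111589) q6410, e3 q4489 (flp_d L111599) q6411, e3 q4490 L121066 q7529, e3 q4491 (flp_d L97238) q2677, e3 q4492 (flp_d L121115) q7534, e3 q4493 (flp_d L121121) q7535, e3 q4494 (flp_d L97254) q3799, e3 q4495 (flp_d L116028) q7038, e3 q4496 L121147 q7539, e3 q4497 (flp_d L97266) q2679, e3 q4498 (flp_d L120617) q7471, e3 q4499 (flp_d L112000) q6488, e3 q4500 (flp_d L116094) q7041, e3 q4501 L97290 q2682, e3 q4502 L121173 q7544, e3 q4503 (flp_d L121171) q7543, e3 q4504 (flp_d L111663) q6424, e3 q4505 L121196 q7549, e3 q4506 (flp_d L97311) q2684, e3 q4507 (flp_d L121212) q7552, e3 q4508 (flp_d L98179) q4667, e3 q4509 (flp_d L151195) q6007, e3 q4510 (flp_d L98165) q4665, e3 q4511 L121232 q7556, e3 q4512 (flp_d L97333) q2687, e3 q4513 (flp_d L121258) q7561, e3 q4514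 L163212 q5123, e3 q4515 (flp_d L116182) q7054, e3 q4516 L97352 q2690, e3 q4517 (flp_d L121287) q7565, e3 q4518 (flp_d L121294) q7566, e3 q4519 L97877 q4625, e3 q4520 (flp_d L97909) q4563, e3 q4521 (flp_d L150446) q3338, e3 q4522 L150353 q6004, e3 q4523 (flp_d L111741) q6441, e3 q4524 (flp_d L111751) q6442, e3 q4525 L121384 q7574, e3 q4526 (flp_d L97409) q2696, e3 q4527 (flp_d L121404) q7579, e3 q4528 (flp_d L121408) q7580, e3 q4529 (flp_d L97425) q3818, e3 q4530 (flp_d L116301) q7066, e3 q4531 L121438 q7584, e3 q4532 (flp_d L97437) q2698, e3 q4533 (flp_d L147679) q7476, e3 q4534 (flp_d L112230) q6521, e3 q4535 (flp_d L116326) q7069, e3 q4536 L97461 q2701, e3 q4537 L121502 q7589, e3 q4538 (flp_d L121487) q7588, e3 q4539 (flp_d L111809) q6455, e3 q4540 L121525 q7594, e3 q4541 (flp_d L97482) q2703, e3 q4542 (flp_d L121541) q7597, e3 q4543 (flp_d L97615) q4566, trivial⟩ (by decide +kernel)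

theorem ce_d_71 : ∀ r, r < 64 → sm gd (Qf (4544 + r)) = Qf (tab Gen.d (4544 + r)) :=
  edges_tab (sm gd) Qf (tab Gen.d) 4544 [(4544, 6001), (4545, 4564), (4546, 7601), (4547, 2706), (4548, 7606), (4549, 5119), (4550, 7082), (4551, 2709), (4552, 7610), (4553, 7611), (4554, 4725), (4555, 4422), (4556, 6467), (4557, 5523), (4558, 7171), (4559, 2716), (4560, 5177), (4561, 7620), (4562, 7621), (4563, 4520), (4564, 4545), (4565, 7629), (4566, 4543), (4567, 6469), (4568, 2720), (4569, 7634), (4570, 7635), (4571, 7638), (4572, 7184), (4573, 2722), (4574, 2723), (4575, 7644), (4576, 7645), (4577, 7646), (4578, 3845), (4579, 4420), (4580, 3847), (4581, 7193), (4582, 2727), (4583, 7652), (4584, 7657), (4585, 7653), (4586, 6478), (4587, 7662), (4588, 6480), (4589, 2729), (4590, 7666), (4591, 7668), (4592, 2733), (4593, 2732), (4594, 7671), (4595, 7670), (4596, 6418), (4597, 7213), (4598, 7214), (4599, 2737), (4600, 2821), (4601, 2739), (4602, 2740), (4603, 7682), (4604, 7692), (4605, 2738), (4606, 7693), (4607, 7683)]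
    ⟨e3 q4544 (flp_d L151315) q6001, e3 q4545 (flp_d L97601) q4564, e3 q4546 L121567 q7601, e3 q4547 (flp_d L97506) q2706, e3 q4548 (flp_d L121589) q7606, e3 q4549 (flp_d L163401) q5119, e3 q4550 (flp_d L116416) q7082, e3 q4551 L97525 q2709, e3 q4552 (flp_d L121618) q7610, e3 q4553 (flp_d L121627) q7611, e3 q4554 (flp_d L98459) q4725, e3 q4555 L97546 q4422, e3 q4556 (flp_d L111865) q6467, e3 q4557 (flp_d L120293) q5523, e3 q4558 (flp_d L116917) q7171, e3 q4559 L97577 q2716, e3 q4560 L120283 q5177, e3 q4561 (flp_d L121682) q7620, e3 q4562 (flp_d L121689) q7621, e3 q4563 L97909 q4520, e3 q4564 L97601 q4545, e3 q4565 L121723 q7629, e3 q4566 L97615 q4543, e3 q4567 (flp_d L111879) q6469, e3 q4568 (flp_d L97619) q2720, e3 q4569 (flp_d L121760) q7634, e3 q4570 (flp_d L121766) q7635, e3 q4571 L121781 q7638, e3 q4572 (flp_d L117009) q7184, e3 q4573 L97640 q2722, e3 q4574 L97644 q2723, e3 q4575 (flp_d L121815) q7644, e3 q4576 (flp_d L121821) q7645, e3 q4577 (flp_d L121829) q7646, e3 q4578 L97662 q3845, e3 q4579 L119743 q4420,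 e3 q4580 L97676 q3847, e3 q4581 (flp_d L117067) q7193, e3 q4582 L97690 q2727, e3 q4583 (flp_d L121867) q7652, e3 q4584 L121891 q7657, e3 q4585 (flp_d L121873) q7653, e3 q4586 (flp_d L111936) q6478, e3 q4587 L121913 q7662, e3 q4588 (flp_d L111952) q6480, e3 q4589 (flp_d L97716) q2729, e3 q4590 (flp_d L121931) q7666, e3 q4591 L121937 q7668, e3 q4592 L97735 q2733, e3 q4593 (flp_d L97737) q2732, e3 q4594 (flp_d L121961) q7671, e3 q4595 (flp_d L121954) q7670, e3 q4596 (flp_d L111641) q6418, e3 q4597 (flp_d L117191) q7213, e3 q4598 (flp_d L117201) q7214, e3 q4599 L97773 q2737, e3 q4600 L118179 q2821, e3 q4601 L97783 q2739, e3 q4602 L97787 q2740, e3 q4603 (flp_d L122050) q7682, e3 q4604 L122082 q7692, e3 q4605 (flp_d L97797) q2738, e3 q4606 (flp_d L122092) q7693, e3 q4607 (flp_d L122054) q7683, trivial⟩ (by decide +kernel)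

theorem ce_d_72 : ∀ r, r < 64 → sm gd (Qf (4608 + r)) = Qf (tab Gen.d (4608 + r)) :=
  edges_tab (sm gd) Qf (tab Gen.d) 4608 [(4608, 7684), (4609, 7700), (4610, 7686), (4611, 4452), (4612, 7705), (4613, 4450), (4614, 4737), (4615, 7709), (4616, 2742), (4617, 7715), (4618, 7230), (4619, 2744), (4620, 7719), (4621, 4752), (4622, 7724), (4623, 4754), (4624, 7726), (4625, 4519), (4626, 2747), (4627, 7730), (4628, 6501), (4629, 7505), (4630, 4730), (4631, 4731), (4632, 7737), (4633, 2750), (4634, 7741), (4635, 4734), (4636, 4713), (4637, 4468), (4638, 7746), (4639, 2753), (4640, 7751), (4641, 7752), (4642, 2808), (4643, 7255), (4644, 2755), (4645, 5171), (4646, 7762), (4647, 7764), (4648, 2757), (4649, 7770), (4650, 7769), (4651, 7263), (4652, 2760), (4653, 7774), (4654, 4721), (4655, 7779), (4656, 4723), (4657, 6502), (4658, 4425), (4659, 5568), (4660, 7273), (4661, 2766), (4662, 7786), (4663, 7787), (4664, 5188), (4665, 4510), (4666, 7794), (4667, 4508), (4668, 4485), (4669, 2771), (4670, 7799), (4671, 7800)]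
    ⟨e3 q4608 (flp_d L122060) q7684, e3 q4609 L122126 q7700, e3 q4610 (flp_d L122066) q7686, e3 q4611 (flp_d L98491) q4452, e3 q4612 L122150 q7705, e3 q4613 (flp_d L98481) q4450, e3 q4614 (flp_d L98539) q4737, e3 q4615 L122166 q7709, e3 q4616 (flp_d L97833) q2742, e3 q4617 L122192 q7715, e3 q4618 (flp_d L117289) q7230, e3 q4619 L97849 q2744, e3 q4620 (flp_d L122216) q7719, e3 q4621 (flp_d L98599) q4752, e3 q4622 L122232 q7724, e3 q4623 (flp_d L98609) q4754, e3 q4624 L122242 q7726, e3 q4625 (flp_d L97877) q4519, e3 q4626 (flp_d L97921) q2747, e3 q4627 (flp_d L122260) q7730, e3 q4628 (flp_d L112066) q6501, e3 q4629 (flp_d L163943) q7505, e3 q4630 (flp_d L98501) q4730, e3 q4631 (flp_d L98511) q4731, e3 q4632 L122298 q7737, e3 q4633 (flp_d L97949) q2750, e3 q4634 (flp_d L122316) q7741, e3 q4635 (flp_d L163906) q4734, e3 q4636 (flp_d L98401) q4713, e3 q4637 (flp_d L97985) q4468, e3 q4638 L122344 q7746, e3 q4639 (flp_d L97991) q2753, e3 q4640 (flp_d L122364) q7751, e3 q4641 (flp_d L122368) q7752, e3 q4642 (flp_d L98003)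 q2808, e3 q4643 (flp_d L117437) q7255, e3 q4644 L98013 q2755, e3 q4645 (flp_d L120601) q5171, e3 q4646 L122420 q7762, e3 q4647 L122426 q7764, e3 q4648 (flp_d L98025) q2757, e3 q4649 L122458 q7770, e3 q4650 (flp_d L122456) q7769, e3 q4651 (flp_d L117475) q7263, e3 q4652 L98047 q2760, e3 q4653 (flp_d L122486) q7774, e3 q4654 (flp_d L98435) q4721, e3 q4655 L122504 q7779, e3 q4656 (flp_d L98447) q4723, e3 q4657 (flp_d L112072) q6502, e3 q4658 L98105 q4425, e3 q4659 (flp_d L149898) q5568, e3 q4660 (flp_d L117555) q7273, e3 q4661 L98139 q2766, e3 q4662 (flp_d L122579) q7786, e3 q4663 (flp_d L122584) q7787, e3 q4664 L149970 q5188, e3 q4665 L98165 q4510, e3 q4666 L122625 q7794, e3 q4667 L98179 q4508, e3 q4668 L98187 q4485, e3 q4669 (flp_d L98193) q2771, e3 q4670 (flp_d L122664) q7799, e3 q4671 (flp_d L122670) q7800, trivial⟩ (by decide +kernel)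

theorem ce_d_73 : ∀ r, r < 64 → sm gd (Qf (4672 + r)) = Qf (tab Gen.d (4672 + r)) :=
  edges_tab (sm gd) Qf (tab Gen.d) 4672 [(4672, 7803), (4673, 7285), (4674, 2773), (4675, 2774), (4676, 7809), (4677, 7810), (4678, 7811), (4679, 3871), (4680, 4421), (4681, 3873), (4682, 7294), (4683, 2778), (4684, 7817), (4685, 7822), (4686, 7818), (4687, 6512), (4688, 7827), (4689, 2780), (4690, 7830), (4691, 7832), (4692, 2784), (4693, 2783), (4694, 7835), (4695, 7834), (4696, 6449), (4697, 7313), (4698, 7314), (4699, 2788), (4700, 2841), (4701, 2790), (4702, 2791), (4703, 7846), (4704, 7856), (4705, 2789), (4706, 7857), (4707, 7847), (4708, 7848), (4709, 7864), (4710, 7850), (4711, 4460), (4712, 7869), (4713, 4636), (4714, 4458), (4715, 7873), (4716, 2793), (4717, 7758), (4718, 7330), (4719, 2795), (4720, 7881), (4721, 4654), (4722, 7886), (4723, 4656), (4724, 7888), (4725, 4554), (4726, 2798), (4727, 7892), (4728, 6534), (4729, 7519), (4730, 4630), (4731, 4631), (4732, 7898), (4733, 2801), (4734, 4635), (4735, 7734)]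
    ⟨e3 q4672 L122682 q7803, e3 q4673 (flp_d L117643) q7285, e3 q4674 L98214 q2773, e3 q4675 L98218 q2774, e3 q4676 (flp_d L122714) q7809, e3 q4677 (flp_d L122720) q7810, e3 q4678 (flp_d L122728) q7811, e3 q4679 L98236 q3871, e3 q4680 (flp_d L147664) q4421, e3 q4681 L98250 q3873, e3 q4682 (flp_d L117697) q7294, e3 q4683 L98264 q2778, e3 q4684 (flp_d L122788) q7817, e3 q4685 L122810 q7822, e3 q4686 (flp_d L122794) q7818, e3 q4687 (flp_d L112172) q6512, e3 q4688 L122840 q7827, e3 q4689 (flp_d L98286) q2780, e3 q4690 (flp_d L122850) q7830, e3 q4691 L122856 q7832, e3 q4692 L98305 q2784, e3 q4693 (flp_d L98307) q2783, e3 q4694 (flp_d L122880) q7835, e3 q4695 (flp_d L122873) q7834, e3 q4696 (flp_d L111787) q6449, e3 q4697 (flp_d L117801) q7313, e3 q4698 (flp_d L117811) q7314, e3 q4699 L98343 q2788, e3 q4700 (flp_d L149446) q2841, e3 q4701 L98353 q2790, e3 q4702 L98357 q2791, e3 q4703 (flp_d L122931) q7846, e3 q4704 L122977 q7856, e3 q4705 (flp_d L98367) q2789, e3 q4706 (flp_d L149337) q7857, e3 q4707 (flp_d L122949) q7847,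 e3 q4708 (flp_d L122955) q7848, e3 q4709 L123029 q7864, e3 q4710 (flp_d L122961) q7850, e3 q4711 L98393 q4460, e3 q4712 L123053 q7869, e3 q4713 L98401 q4636, e3 q4714 L98409 q4458, e3 q4715 L123069 q7873, e3 q4716 (flp_d L98413) q2793, e3 q4717 (flp_d L122400) q7758, e3 q4718 (flp_d L117899) q7330, e3 q4719 L98429 q2795, e3 q4720 (flp_d L123107) q7881, e3 q4721 L98435 q4654, e3 q4722 L123125 q7886, e3 q4723 L98447 q4656, e3 q4724 L123133 q7888, e3 q4725 L98459 q4554, e3 q4726 (flp_d L98465) q2798, e3 q4727 (flp_d L123153) q7892, e3 q4728 (flp_d L112296) q6534, e3 q4729 (flp_d L163949) q7519, e3 q4730 L98501 q4630, e3 q4731 L98511 q4631, e3 q4732 L123193 q7898, e3 q4733 (flp_d L98517) q2801, e3 q4734 L163906 q4635, e3 q4735 (flp_d L163897) q7734, trivial⟩ (by decide +kernel)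

theorem ce_d_74 : ∀ r, r < 64 → sm gd (Qf (4736 + r)) = Qf (tab Gen.d (4736 + r)) :=
  edges_tab (sm gd) Qf (tab Gen.d) 4736 [(4736, 4480), (4737, 4614), (4738, 7906), (4739, 2804), (4740, 7911), (4741, 7912), (4742, 7355), (4743, 2806), (4744, 5152), (4745, 7919), (4746, 7756), (4747, 7924), (4748, 7712), (4749, 7363), (4750, 2811), (4751, 7928), (4752, 4621), (4753, 7933), (4754, 4623), (4755, 7370), (4756, 7372), (4757, 2816), (4758, 2818), (4759, 7937), (4760, 7940), (4761, 7938), (4762, 5103), (4763, 2817), (4764, 4765), (4765, 4764), (4766, 6374), (4767, 2820), (4768, 7947), (4769, 7675), (4770, 7952), (4771, 2823), (4772, 7956), (4773, 2824), (4774, 7961), (4775, 7962), (4776, 4834), (4777, 7385), (4778, 7967), (4779, 2826), (4780, 7972), (4781, 7973), (4782, 7976), (4783, 7391), (4784, 2828), (4785, 2829), (4786, 7981), (4787, 7982), (4788, 4843), (4789, 7988), (4790, 4845), (4791, 4846), (4792, 2832), (4793, 7401), (4794, 7403), (4795, 2836), (4796, 2838), (4797, 7995), (4798, 7998), (4799, 7996)]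
    ⟨e3 q4736 L98531 q4480, e3 q4737 L98539 q4614, e3 q4738 L123239 q7906, e3 q4739 (flp_d L98547) q2804, e3 q4740 (flp_d L123259) q7911, e3 q4741 (flp_d L123263) q7912, e3 q4742 (flp_d L118051) q7355, e3 q4743 L98563 q2806, e3 q4744 (flp_d L151354) q5152, e3 q4745 L123301 q7919, e3 q4746 (flp_d L122386) q7756, e3 q4747 L123321 q7924, e3 q4748 L122182 q7712, e3 q4749 (flp_d L118089) q7363, e3 q4750 L98591 q2811, e3 q4751 (flp_d L123351) q7928, e3 q4752 L98599 q4621, e3 q4753 L123369 q7933, e3 q4754 L98609 q4623, e3 q4755 (flp_d L118133) q7370, e3 q4756 L118155 q7372, e3 q4757 L98633 q2816, e3 q4758 L118188 q2818, e3 q4759 (flp_d L123395) q7937, e3 q4760 L123410 q7940, e3 q4761 (flp_d L123400) q7938, e3 q4762 L120237 q5103, e3 q4763 (flp_d L98671) q2817, e3 q4764 (flp_d L118200) q4765, e3 q4765 L118200 q4764, e3 q4766 (flp_d L111333) q6374, e3 q4767 L98691 q2820, e3 q4768 (flp_d L123466) q7947, e3 q4769 L121990 q7675, e3 q4770 L123486 q7952, e3 q4771 (flp_d L98708) q2823, e3 q4772 L123508 q7956, e3 q4773 (flp_d L98720)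 q2824, e3 q4774 (flp_d L123532) q7961, e3 q4775 (flp_d L123536) q7962, e3 q4776 L99003 q4834, e3 q4777 (flp_d L118274) q7385, e3 q4778 L123564 q7967, e3 q4779 (flp_d L98744) q2826, e3 q4780 (flp_d L123584) q7972, e3 q4781 (flp_d L123590) q7973, e3 q4782 L123596 q7976, e3 q4783 (flp_d L118304) q7391, e3 q4784 L98764 q2828, e3 q4785 L98768 q2829, e3 q4786 (flp_d L123622) q7981, e3 q4787 (flp_d L123630) q7982, e3 q4788 (flp_d L99117) q4843, e3 q4789 L123654 q7988, e3 q4790 (flp_d L99125) q4845, e3 q4791 (flp_d L99129) q4846, e3 q4792 (flp_d L98792) q2832, e3 q4793 (flp_d L118360) q7401, e3 q4794 (flp_d L149425) q7403, e3 q4795 L98810 q2836, e3 q4796 L149364 q2838, e3 q4797 (flp_d L123713) q7995, e3 q4798 L123782 q7998, e3 q4799 (flp_d L123720) q7996, trivial⟩ (by decide +kernel)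

theorem ce_d_75 : ∀ r, r < 64 → sm gd (Qf (4800 + r)) = Qf (tab Gen.d (4800 + r)) :=
  edges_tab (sm gd) Qf (tab Gen.d) 4800 [(4800, 5110), (4801, 2837), (4802, 4803), (4803, 4802), (4804, 6384), (4805, 2840), (4806, 8005), (4807, 7839), (4808, 8010), (4809, 2843), (4810, 8014), (4811, 2844), (4812, 8019), (4813, 8020), (4814, 4863), (4815, 7416), (4816, 8025), (4817, 2846), (4818, 8030), (4819, 8031), (4820, 8034), (4821, 7422), (4822, 2848), (4823, 2849), (4824, 8039), (4825, 8040), (4826, 4872), (4827, 8046), (4828, 4874), (4829, 4875), (4830, 2852), (4831, 3014), (4832, 2947), (4833, 5080), (4834, 4776), (4835, 8053), (4836, 7862), (4837, 2857), (4838, 5548), (4839, 8059), (4840, 8061), (4841, 2860), (4842, 8065), (4843, 4788), (4844, 8070), (4845, 4790), (4846, 4791), (4847, 2863), (4848, 5153), (4849, 2864), (4850, 8082), (4851, 8080), (4852, 8081), (4853, 8084), (4854, 8088), (4855, 2867), (4856, 2868), (4857, 2866), (4858, 8093), (4859, 8091), (4860, 2869), (4861, 3015), (4862, 5079), (4863, 4814)]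
    ⟨e3 q4800 L148017 q5110, e3 q4801 (flp_d L98850) q2837, e3 q4802 L149347 q4803, e3 q4803 (flp_d L149347) q4802, e3 q4804 (flp_d L111397) q6384, e3 q4805 L98872 q2840, e3 q4806 (flp_d L123898) q8005, e3 q4807 (flp_d L149449) q7839, e3 q4808 L123920 q8010, e3 q4809 (flp_d L98891) q2843, e3 q4810 L123946 q8014, e3 q4811 (flp_d L98903) q2844, e3 q4812 (flp_d L123995) q8019, e3 q4813 (flp_d L124001) q8020, e3 q4814 L99243 q4863, e3 q4815 (flp_d L118463) q7416, e3 q4816 L124025 q8025, e3 q4817 (flp_d L98927) q2846, e3 q4818 (flp_d L124045) q8030, e3 q4819 (flp_d L124051) q8031, e3 q4820 L124065 q8034, e3 q4821 (flp_d L118493) q7422, e3 q4822 L98947 q2848, e3 q4823 L98953 q2849, e3 q4824 (flp_d L124091) q8039, e3 q4825 (flp_d L124099) q8040, e3 q4826 (flp_d L99345) q4872, e3 q4827 L124123 q8046, e3 q4828 (flp_d L99353) q4874, e3 q4829 (flp_d L99359) q4875, e3 q4830 (flp_d L98975) q2852, e3 q4831 L119353 q3014, e3 q4832 L119073 q2947, e3 q4833 (flp_d L119055) q5080, e3 q4834 (flp_d L99003) q4776, e3 q4835 L124187 q8053,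 e3 q4836 (flp_d L163830) q7862, e3 q4837 (flp_d L99037) q2857, e3 q4838 (flp_d L141783) q5548, e3 q4839 L124247 q8059, e3 q4840 L124287 q8061, e3 q4841 (flp_d L99083) q2860, e3 q4842 (flp_d L124325) q8065, e3 q4843 L99117 q4788, e3 q4844 L124369 q8070, e3 q4845 L99125 q4790, e3 q4846 L99129 q4791, e3 q4847 (flp_d L99133) q2863, e3 q4848 (flp_d L130494) q5153, e3 q4849 (flp_d L99143) q2864, e3 q4850 L124437 q8082, e3 q4851 (flp_d L124429) q8080, e3 q4852 (flp_d L124435) q8081, e3 q4853 L124461 q8084, e3 q4854 L124479 q8088, e3 q4855 L99175 q2867, e3 q4856 L99179 q2868, e3 q4857 (flp_d L99181) q2866, e3 q4858 (flp_d L124511) q8093, e3 q4859 (flp_d L124495) q8091, e3 q4860 (flp_d L99211) q2869, e3 q4861 L148204 q3015, e3 q4862 (flp_d L147469) q5079, e3 q4863 (flp_d L99243) q4814, trivial⟩ (by decide +kernel)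

theorem ce_d_76 : ∀ r, r < 64 → sm gd (Qf (4864 + r)) = Qf (tab Gen.d (4864 + r)) :=
  edges_tab (sm gd) Qf (tab Gen.d) 4864 [(4864, 8097), (4865, 7698), (4866, 2875), (4867, 5592), (4868, 8103), (4869, 8105), (4870, 2878), (4871, 8109), (4872, 4826), (4873, 8114), (4874, 4828), (4875, 4829), (4876, 2881), (4877, 5172), (4878, 2882), (4879, 8123), (4880, 8125), (4881, 8129), (4882, 2885), (4883, 2886), (4884, 2884), (4885, 2887), (4886, 2893), (4887, 2896), (4888, 2898), (4889, 8139), (4890, 2900), (4891, 2892), (4892, 8143), (4893, 8134), (4894, 2909), (4895, 4915), (4896, 8135), (4897, 8153), (4898, 2907), (4899, 8137), (4900, 8159), (4901, 2899), (4902, 8162), (4903, 8141), (4904, 5962), (4905, 6845), (4906, 8142), (4907, 2904), (4908, 8171), (4909, 2910), (4910, 8174), (4911, 2912), (4912, 2906), (4913, 8178), (4914, 8145), (4915, 4895), (4916, 8146), (4917, 8184), (4918, 8150), (4919, 8189), (4920, 2911), (4921, 8192), (4922, 8176), (4923, 5977), (4924, 6771), (4925, 8177), (4926, 2916), (4927, 8201)]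
    ⟨e3 q4864 L124604 q8097, e3 q4865 (flp_d L163816) q7698, e3 q4866 (flp_d L99271) q2875, e3 q4867 L141147 q5592, e3 q4868 L124648 q8103, e3 q4869 L124668 q8105, e3 q4870 (flp_d L99307) q2878, e3 q4871 (flp_d L124704) q8109, e3 q4872 L99345 q4826, e3 q4873 L124762 q8114, e3 q4874 L99353 q4828, e3 q4875 L99359 q4829, e3 q4876 (flp_d L99361) q2881, e3 q4877 L147233 q5172, e3 q4878 (flp_d L99371) q2882, e3 q4879 (flp_d L124822) q8123, e3 q4880 L124854 q8125, e3 q4881 L124872 q8129, e3 q4882 L99403 q2885, e3 q4883 L99407 q2886, e3 q4884 (flp_d L99409) q2884, e3 q4885 (flp_d L99439) q2887, e3 q4886 L99834 q2893, e3 q4887 L99869 q2896, e3 q4888 L99903 q2898, e3 q4889 L125542 q8139, e3 q4890 L99911 q2900, e3 q4891 (flp_d L99919) q2892, e3 q4892 L125578 q8143, e3 q4893 (flp_d L125412) q8134, e3 q4894 (flp_d L147128) q2909, e3 q4895 (flp_d L147103) q4915, e3 q4896 (flp_d L125483) q8135, e3 q4897 L125725 q8153, e3 q4898 L147204 q2907, e3 q4899 (flp_d L125528) q8137, e3 q4900 L125828 q8159, e3 q4901 (flp_d L100039) q2899,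 e3 q4902 (flp_d L125850) q8162, e3 q4903 (flp_d L125554) q8141, e3 q4904 (flp_d L139049) q5962, e3 q4905 (flp_d L114730) q6845, e3 q4906 (flp_d L141046) q8142, e3 q4907 L100089 q2904, e3 q4908 (flp_d L125930) q8171, e3 q4909 L100327 q2910, e3 q4910 L126354 q8174, e3 q4911 L100335 q2912, e3 q4912 (flp_d L100343) q2906, e3 q4913 L126390 q8178, e3 q4914 (flp_d L148811) q8145, e3 q4915 L147103 q4895, e3 q4916 (flp_d L147055) q8146, e3 q4917 L126547 q8184, e3 q4918 (flp_d L148750) q8150, e3 q4919 L126640 q8189, e3 q4920 (flp_d L100463) q2911, e3 q4921 (flp_d L126662) q8192, e3 q4922 (flp_d L126366) q8176, e3 q4923 (flp_d L148054) q5977, e3 q4924 (flp_d L114163) q6771, e3 q4925 (flp_d L141038) q8177, e3 q4926 L100515 q2916, e3 q4927 (flp_d L126728) q8201, trivial⟩ (by decide +kernel)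

theorem ce_d_77 : ∀ r, r < 64 → sm gd (Qf (4928 + r)) = Qf (tab Gen.d (4928 + r)) :=
  edges_tab (sm gd) Qf (tab Gen.d) 4928 [(4928, 5743), (4929, 5744), (4930, 5745), (4931, 5746), (4932, 2922), (4933, 2923), (4934, 4100), (4935, 4116), (4936, 2927), (4937, 2928), (4938, 7674), (4939, 7838), (4940, 8211), (4941, 2985), (4942, 2929), (4943, 8214), (4944, 8215), (4945, 2931), (4946, 2932), (4947, 8218), (4948, 8219), (4949, 3662), (4950, 3663), (4951, 2936), (4952, 2937), (4953, 2938), (4954, 2939), (4955, 8226), (4956, 8228), (4957, 8229), (4958, 8230), (4959, 8232), (4960, 8233), (4961, 2942), (4962, 3721), (4963, 2943), (4964, 2944), (4965, 3734), (4966, 2945), (4967, 8242), (4968, 8244), (4969, 8245), (4970, 8247), (4971, 3192), (4972, 3193), (4973, 3195), (4974, 3197), (4975, 3198), (4976, 3200), (4977, 3201), (4978, 3203), (4979, 3204), (4980, 3208), (4981, 3209), (4982, 8268), (4983, 3211), (4984, 3212), (4985, 3216), (4986, 3217), (4987, 8279), (4988, 3219), (4989, 3220), (4990, 3223), (4991, 3227)]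
    ⟨e3 q4928 (flp_d L107091) q5743, e3 q4929 (flp_d L107101) q5744, e3 q4930 (flp_d L107109) q5745, e3 q4931 (flp_d L107121) q5746, e3 q4932 L101797 q2922, e3 q4933 L101803 q2923, e3 q4934 L142670 q4100, e3 q4935 L148252 q4116, e3 q4936 L101819 q2927, e3 q4937 L101827 q2928, e3 q4938 (flp_d L149808) q7674, e3 q4939 (flp_d L150856) q7838, e3 q4940 L128659 q8211, e3 q4941 (flp_d L101853) q2985, e3 q4942 (flp_d L101855) q2929, e3 q4943 (flp_d L128699) q8214, e3 q4944 (flp_d L128707) q8215, e3 q4945 L101877 q2931, e3 q4946 L101887 q2932, e3 q4947 (flp_d L128733) q8218, e3 q4948 (flp_d L128739) q8219, e3 q4949 L101905 q3662, e3 q4950 L101915 q3663, e3 q4951 L101921 q2936, e3 q4952 L101929 q2937, e3 q4953 L101937 q2938, e3 q4954 L101947 q2939, e3 q4955 (flp_d L128781) q8226, e3 q4956 (flp_d L128801) q8228, e3 q4957 (flp_d L128807) q8229, e3 q4958 (flp_d L128813) q8230, e3 q4959 (flp_d L128833) q8232, e3 q4960 (flp_d L128839) q8233, e3 q4961 L101987 q2942, e3 q4962 L102001 q3721, e3 q4963 L102005 q2943, e3 q4964 L102011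 q2944, e3 q4965 L102112 q3734, e3 q4966 L102116 q2945, e3 q4967 (flp_d L128893) q8242, e3 q4968 (flp_d L128913) q8244, e3 q4969 (flp_d L128933) q8245, e3 q4970 (flp_d L128953) q8247, e3 q4971 L102170 q3192, e3 q4972 L102178 q3193, e3 q4973 L102209 q3195, e3 q4974 L102223 q3197, e3 q4975 L102229 q3198, e3 q4976 L102235 q3200, e3 q4977 L102239 q3201, e3 q4978 L102245 q3203, e3 q4979 L102249 q3204, e3 q4980 L102253 q3208, e3 q4981 L102259 q3209, e3 q4982 L129121 q8268, e3 q4983 L102265 q3211, e3 q4984 L102271 q3212, e3 q4985 L102275 q3216, e3 q4986 L102281 q3217, e3 q4987 L129187 q8279, e3 q4988 L102287 q3219, e3 q4989 L102293 q3220, e3 q4990 L102306 q3223, e3 q4991 L102310 q3227, trivial⟩ (by decide +kernel)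

theorem ce_d_78 : ∀ r, r < 64 → sm gd (Qf (4992 + r)) = Qf (tab Gen.d (4992 + r)) :=
  edges_tab (sm gd) Qf (tab Gen.d) 4992 [(4992, 3235), (4993, 3242), (4994, 3244), (4995, 3249), (4996, 3257), (4997, 2966), (4998, 2967), (4999, 8300), (5000, 8309), (5001, 8302), (5002, 8303), (5003, 8315), (5004, 8305), (5005, 2968), (5006, 2969), (5007, 3040), (5008, 3042), (5009, 3555), (5010, 8327), (5011, 5992), (5012, 3558), (5013, 8330), (5014, 5993), (5015, 3561), (5016, 8334), (5017, 5994), (5018, 2978), (5019, 8337), (5020, 5995), (5021, 3565), (5022, 8342), (5023, 5996), (5024, 2981), (5025, 8345), (5026, 5997), (5027, 8318), (5028, 8319), (5029, 6118), (5030, 6127), (5031, 2991), (5032, 2992), (5033, 2993), (5034, 2994), (5035, 8350), (5036, 8360), (5037, 8352), (5038, 8353), (5039, 8354), (5040, 8368), (5041, 8356), (5042, 8357), (5043, 2999), (5044, 4285), (5045, 3001), (5046, 3002), (5047, 3003), (5048, 4336), (5049, 3005), (5050, 3006), (5051, 8374), (5052, 8390), (5053, 8375), (5054, 3000), (5055, 8394)]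
    ⟨e3 q4992 L102314 q3235, e3 q4993 L102318 q3242, e3 q4994 L102327 q3244, e3 q4995 L102335 q3249, e3 q4996 L102339 q3257, e3 q4997 L102343 q2966, e3 q4998 L102351 q2967, e3 q4999 (flp_d L129338) q8300, e3 q5000 L129412 q8309, e3 q5001 (flp_d L129361) q8302, e3 q5002 (flp_d L129367) q8303, e3 q5003 L129456 q8315, e3 q5004 (flp_d L129382) q8305, e3 q5005 (flp_d L102385) q2968, e3 q5006 (flp_d L102389) q2969, e3 q5007 L102407 q3040, e3 q5008 L102413 q3042, e3 q5009 L119000 q3555, e3 q5010 L129673 q8327, e3 q5011 (flp_d L108739) q5992, e3 q5012 (flp_d L148149) q3558, e3 q5013 L129709 q8330, e3 q5014 (flp_d L108761) q5993, e3 q5015 L118976 q3561, e3 q5016 L129745 q8334, e3 q5017 (flp_d L108777) q5994, e3 q5018 (flp_d L102455) q2978, e3 q5019 (flp_d L129781) q8337, e3 q5020 (flp_d L118992) q5995, e3 q5021 L148183 q3565, e3 q5022 L129809 q8342, e3 q5023 (flp_d L108811) q5996, e3 q5024 (flp_d L102481) q2981, e3 q5025 (flp_d L129832) q8345, e3 q5026 (flp_d L148163) q5997, e3 q5027 (flp_d L129486) q8318, e3 q5028 (flp_d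 L129492) q8319, e3 q5029 L119811 q6118, e3 q5030 (flp_d L147519) q6127, e3 q5031 L102535 q2991, e3 q5032 L102541 q2992, e3 q5033 L102547 q2993, e3 q5034 L102555 q2994, e3 q5035 (flp_d L129892) q8350, e3 q5036 L129962 q8360, e3 q5037 (flp_d L129910) q8352, e3 q5038 (flp_d L129914) q8353, e3 q5039 (flp_d L129918) q8354, e3 q5040 L130008 q8368, e3 q5041 (flp_d L129934) q8356, e3 q5042 (flp_d L129938) q8357, e3 q5043 L102605 q2999, e3 q5044 (flp_d L116895) q4285, e3 q5045 L102612 q3001, e3 q5046 L102616 q3002, e3 q5047 L102622 q3003, e3 q5048 (flp_d L117533) q4336, e3 q5049 L102629 q3005, e3 q5050 L102633 q3006, e3 q5051 (flp_d L130046) q8374, e3 q5052 L130176 q8390, e3 q5053 (flp_d L130058) q8375, e3 q5054 (flp_d L102655) q3000, e3 q5055 (flp_d L130202) q8394, trivial⟩ (by decide +kernel)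

theorem ce_d_79 : ∀ r, r < 64 → sm gd (Qf (5056 + r)) = Qf (tab Gen.d (5056 + r)) :=
  edges_tab (sm gd) Qf (tab Gen.d) 5056 [(5056, 8377), (5057, 8378), (5058, 8379), (5059, 8404), (5060, 8380), (5061, 8381), (5062, 8409), (5063, 8382), (5064, 3004), (5065, 8413), (5066, 8384), (5067, 8385), (5068, 8386), (5069, 8423), (5070, 8387), (5071, 3075), (5072, 3008), (5073, 8427), (5074, 3009), (5075, 3082), (5076, 3011), (5077, 8432), (5078, 3012), (5079, 4862), (5080, 4833), (5081, 8436), (5082, 5798), (5083, 3024), (5084, 3025), (5085, 3023), (5086, 8439), (5087, 8440), (5088, 7532), (5089, 8206), (5090, 7577), (5091, 8205), (5092, 6558), (5093, 6597), (5094, 3032), (5095, 5674), (5096, 3034), (5097, 3035), (5098, 3036), (5099, 5714), (5100, 3038), (5101, 3039), (5102, 6619), (5103, 4762), (5104, 6043), (5105, 8446), (5106, 8447), (5107, 8459), (5108, 4080), (5109, 6668), (5110, 4800), (5111, 6081), (5112, 8449), (5113, 8450), (5114, 8470), (5115, 4034), (5116, 8320), (5117, 4101), (5118, 8322), (5119, 4549)]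
    ⟨e3 q5056 (flp_d L130072) q8377, e3 q5057 (flp_d L130082) q8378, e3 q5058 (flp_d L130088) q8379, e3 q5059 L130258 q8404, e3 q5060 (flp_d L130099) q8380, e3 q5061 (flp_d L130107) q8381, e3 q5062 L130296 q8409, e3 q5063 (flp_d L130119) q8382, e3 q5064 (flp_d L102713) q3004, e3 q5065 (flp_d L130322) q8413, e3 q5066 (flp_d L130133) q8384, e3 q5067 (flp_d L130143) q8385, e3 q5068 (flp_d L130149) q8386, e3 q5069 L130380 q8423, e3 q5070 (flp_d L130160) q8387, e3 q5071 L102759 q3075, e3 q5072 L102765 q3008, e3 q5073 (flp_d L130410) q8427, e3 q5074 (flp_d L102771) q3009, e3 q5075 L102783 q3082, e3 q5076 L102789 q3011, e3 q5077 (flp_d L130444) q8432, e3 q5078 (flp_d L102799) q3012, e3 q5079 L147469 q4862, e3 q5080 L119055 q4833, e3 q5081 L130534 q8436, e3 q5082 (flp_d L107453) q5798, e3 q5083 L102916 q3024, e3 q5084 L102924 q3025, e3 q5085 (flp_d L102926) q3023, e3 q5086 (flp_d L130622) q8439, e3 q5087 (flp_d L130626) q8440, e3 q5088 (flp_d L121097) q7532, e3 q5089 (flp_d L128617) q8206, e3 q5090 (flp_d L149192) q7577,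 e3 q5091 (flp_d L128603) q8205, e3 q5092 L119314 q6558, e3 q5093 (flp_d L146515) q6597, e3 q5094 L102988 q3032, e3 q5095 L120241 q5674, e3 q5096 L102998 q3034, e3 q5097 L103002 q3035, e3 q5098 L103006 q3036, e3 q5099 L129590 q5714, e3 q5100 L103016 q3038, e3 q5101 L103020 q3039, e3 q5102 L120400 q6619, e3 q5103 (flp_d L120237) q4762, e3 q5104 (flp_d L120239) q6043, e3 q5105 (flp_d L142865) q8446, e3 q5106 (flp_d L142871) q8447, e3 q5107 L142949 q8459, e3 q5108 L147409 q4080, e3 q5109 (flp_d L148492) q6668, e3 q5110 (flp_d L148017) q4800, e3 q5111 (flp_d L147956) q6081, e3 q5112 (flp_d L142895) q8449, e3 q5113 (flp_d L142905) q8450, e3 q5114 L143025 q8470, e3 q5115 L140949 q4034, e3 q5116 (flp_d L129504) q8320, e3 q5117 L120218 q4101, e3 q5118 (flp_d L129525) q8322, e3 q5119 L163401 q4549, trivial⟩ (by decide +kernel)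

theorem ce_d_80 : ∀ r, r < 64 → sm gd (Qf (5120 + r)) = Qf (tab Gen.d (5120 + r)) :=
  edges_tab (sm gd) Qf (tab Gen.d) 5120 [(5120, 8323), (5121, 4117), (5122, 8325), (5123, 4514), (5124, 3054), (5125, 5675), (5126, 3057), (5127, 3058), (5128, 3059), (5129, 8484), (5130, 3061), (5131, 3064), (5132, 5713), (5133, 3067), (5134, 3068), (5135, 3069), (5136, 8492), (5137, 3071), (5138, 3957), (5139, 6405), (5140, 3053), (5141, 8498), (5142, 3994), (5143, 8393), (5144, 3056), (5145, 8503), (5146, 7943), (5147, 8480), (5148, 8508), (5149, 8077), (5150, 8482), (5151, 8483), (5152, 4744), (5153, 4848), (5154, 3060), (5155, 8521), (5156, 8486), (5157, 3986), (5158, 6436), (5159, 3063), (5160, 8527), (5161, 3964), (5162, 8412), (5163, 3066), (5164, 8532), (5165, 8001), (5166, 8488), (5167, 8537), (5168, 8120), (5169, 8490), (5170, 8491), (5171, 4645), (5172, 4877), (5173, 3070), (5174, 8550), (5175, 8494), (5176, 3837), (5177, 4560), (5178, 5360), (5179, 5199), (5180, 8554), (5181, 3322), (5182, 8426), (5183, 3077)]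
    ⟨e3 q5120 (flp_d L129531) q8323, e3 q5121 L129541 q4117, e3 q5122 (flp_d L129657) q8325, e3 q5123 (flp_d L163212) q4514, e3 q5124 L103134 q3054, e3 q5125 L120418 q5675, e3 q5126 L103146 q3057, e3 q5127 L103154 q3058, e3 q5128 L103160 q3059, e3 q5129 L143173 q8484, e3 q5130 L103168 q3061, e3 q5131 L103184 q3064, e3 q5132 L129588 q5713, e3 q5133 L103196 q3067, e3 q5134 L103204 q3068, e3 q5135 L103210 q3069, e3 q5136 L143279 q8492, e3 q5137 L103218 q3071, e3 q5138 L120094 q3957, e3 q5139 L120416 q6405, e3 q5140 (flp_d L103232) q3053, e3 q5141 (flp_d L143317) q8498, e3 q5142 (flp_d L149615) q3994, e3 q5143 (flp_d L130198) q8393, e3 q5144 L103254 q3056, e3 q5145 (flp_d L143343) q8503, e3 q5146 (flp_d L123436) q7943, e3 q5147 (flp_d L143149) q8480, e3 q5148 L143363 q8508, e3 q5149 L130480 q8077, e3 q5150 (flp_d L143159) q8482, e3 q5151 (flp_d L143163) q8483, e3 q5152 L151354 q4744, e3 q5153 L130494 q4848, e3 q5154 (flp_d L103292) q3060, e3 q5155 (flp_d L143467) q8521, e3 q5156 (flp_d L143187) q8486, e3 q5157 (flp_d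 L146277) q3986, e3 q5158 (flp_d L150227) q6436, e3 q5159 (flp_d L103318) q3063, e3 q5160 (flp_d L143537) q8527, e3 q5161 (flp_d L143431) q3964, e3 q5162 (flp_d L130318) q8412, e3 q5163 L103340 q3066, e3 q5164 (flp_d L143575) q8532, e3 q5165 (flp_d L147960) q8001, e3 q5166 (flp_d L143233) q8488, e3 q5167 L143605 q8537, e3 q5168 (flp_d L147247) q8120, e3 q5169 (flp_d L143247) q8490, e3 q5170 (flp_d L143251) q8491, e3 q5171 L120601 q4645, e3 q5172 (flp_d L147233) q4877, e3 q5173 (flp_d L103378) q3070, e3 q5174 (flp_d L143685) q8550, e3 q5175 (flp_d L143291) q8494, e3 q5176 L119663 q3837, e3 q5177 (flp_d L120283) q4560, e3 q5178 (flp_d L104566) q5360, e3 q5179 (flp_d L103538) q5199, e3 q5180 (flp_d L143717) q8554, e3 q5181 L103427 q3322, e3 q5182 (flp_d L130404) q8426, e3 q5183 L103437 q3077, trivial⟩ (by decide +kernel)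

theorem ce_d_81 : ∀ r, r < 64 → sm gd (Qf (5184 + r)) = Qf (tab Gen.d (5184 + r)) :=
  edges_tab (sm gd) Qf (tab Gen.d) 5184 [(5184, 8558), (5185, 7852), (5186, 8430), (5187, 3864), (5188, 4664), (5189, 5370), (5190, 5207), (5191, 8563), (5192, 3344), (5193, 8431), (5194, 3084), (5195, 8567), (5196, 7688), (5197, 8435), (5198, 3087), (5199, 5179), (5200, 5950), (5201, 5852), (5202, 3093), (5203, 8573), (5204, 5574), (5205, 8579), (5206, 3097), (5207, 5190), (5208, 5951), (5209, 5860), (5210, 3103), (5211, 8582), (5212, 5530), (5213, 8588), (5214, 3106), (5215, 8589), (5216, 8590), (5217, 3108), (5218, 3109), (5219, 8593), (5220, 8594), (5221, 8595), (5222, 8596), (5223, 3112), (5224, 3113), (5225, 8605), (5226, 6139), (5227, 8607), (5228, 8608), (5229, 6152), (5230, 8610), (5231, 4127), (5232, 4128), (5233, 3120), (5234, 4276), (5235, 3122), (5236, 3123), (5237, 3124), (5238, 4328), (5239, 3126), (5240, 3127), (5241, 8627), (5242, 8641), (5243, 3121), (5244, 8643), (5245, 8628), (5246, 8629), (5247, 6327)]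
    ⟨e3 q5184 (flp_d L143743) q8558, e3 q5185 (flp_d L123804) q7852, e3 q5186 (flp_d L130430) q8430, e3 q5187 L150395 q3864, e3 q5188 (flp_d L149970) q4664, e3 q5189 (flp_d L104649) q5370, e3 q5190 (flp_d L103634) q5207, e3 q5191 (flp_d L143815) q8563, e3 q5192 L103486 q3344, e3 q5193 (flp_d L130436) q8431, e3 q5194 L103498 q3084, e3 q5195 (flp_d L143845) q8567, e3 q5196 (flp_d L151333) q7688, e3 q5197 (flp_d L130468) q8435, e3 q5198 L139260 q3087, e3 q5199 L103538 q5179, e3 q5200 L119513 q5950, e3 q5201 L120259 q5852, e3 q5202 L103586 q3093, e3 q5203 (flp_d L143891) q8573, e3 q5204 (flp_d L105686) q5574, e3 q5205 L143931 q8579, e3 q5206 L139735 q3097, e3 q5207 L103634 q5190, e3 q5208 (flp_d L148096) q5951, e3 q5209 (flp_d L148062) q5860, e3 q5210 L103682 q3103, e3 q5211 (flp_d L144041) q8582, e3 q5212 (flp_d L105499) q5530, e3 q5213 L144079 q8588, e3 q5214 (flp_d L103728) q3106, e3 q5215 (flp_d L144095) q8589, e3 q5216 (flp_d L144103) q8590, e3 q5217 L103754 q3108, e3 q5218 L103760 q3109, e3 q5219 (flp_d L144115)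 q8593, e3 q5220 (flp_d L144123) q8594, e3 q5221 (flp_d L144129) q8595, e3 q5222 (flp_d L144139) q8596, e3 q5223 L103792 q3112, e3 q5224 L103796 q3113, e3 q5225 (flp_d L144193) q8605, e3 q5226 L119763 q6139, e3 q5227 (flp_d L144201) q8607, e3 q5228 (flp_d L144205) q8608, e3 q5229 (flp_d L148884) q6152, e3 q5230 (flp_d L144213) q8610, e3 q5231 L103824 q4127, e3 q5232 L103828 q4128, e3 q5233 L103832 q3120, e3 q5234 (flp_d L103853) q4276, e3 q5235 L103857 q3122, e3 q5236 L103861 q3123, e3 q5237 L103865 q3124, e3 q5238 (flp_d L103877) q4328, e3 q5239 L103881 q3126, e3 q5240 L103885 q3127, e3 q5241 (flp_d L144335) q8627, e3 q5242 L144401 q8641, e3 q5243 (flp_d L103899) q3121, e3 q5244 (flp_d L144417) q8643, e3 q5245 (flp_d L144339) q8628, e3 q5246 (flp_d L144345) q8629, e3 q5247 (flp_d L163787) q6327, trivial⟩ (by decide +kernel)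

theorem ce_d_82 : ∀ r, r < 64 → sm gd (Qf (5248 + r)) = Qf (tab Gen.d (5248 + r)) :=
  edges_tab (sm gd) Qf (tab Gen.d) 5248 [(5248, 8631), (5249, 8632), (5250, 8657), (5251, 3125), (5252, 8659), (5253, 8633), (5254, 8634), (5255, 6300), (5256, 8636), (5257, 3136), (5258, 3138), (5259, 4277), (5260, 3141), (5261, 3142), (5262, 3143), (5263, 4365), (5264, 3145), (5265, 3146), (5266, 3148), (5267, 4327), (5268, 3151), (5269, 3152), (5270, 3153), (5271, 4314), (5272, 3155), (5273, 8669), (5274, 8697), (5275, 7208), (5276, 8670), (5277, 8703), (5278, 3137), (5279, 8707), (5280, 8671), (5281, 3228), (5282, 3140), (5283, 8713), (5284, 8714), (5285, 8673), (5286, 8721), (5287, 8675), (5288, 8676), (5289, 8677), (5290, 8732), (5291, 8678), (5292, 3144), (5293, 8736), (5294, 8680), (5295, 8681), (5296, 8742), (5297, 8682), (5298, 7308), (5299, 8748), (5300, 3147), (5301, 8752), (5302, 8683), (5303, 3250), (5304, 3150), (5305, 8758), (5306, 8759), (5307, 8685), (5308, 8766), (5309, 8687), (5310, 8688), (5311, 8689)]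
    ⟨e3 q5248 (flp_d L144351) q8631, e3 q5249 (flp_d L144357) q8632, e3 q5250 L144495 q8657, e3 q5251 (flp_d L103941) q3125, e3 q5252 (flp_d L144509) q8659, e3 q5253 (flp_d L144361) q8633, e3 q5254 (flp_d L144367) q8634, e3 q5255 (flp_d L163623) q6300, e3 q5256 (flp_d L144373) q8636, e3 q5257 L103973 q3136, e3 q5258 L103983 q3138, e3 q5259 L103993 q4277, e3 q5260 L103997 q3141, e3 q5261 L104005 q3142, e3 q5262 L104011 q3143, e3 q5263 L156834 q4365, e3 q5264 L104017 q3145, e3 q5265 L104023 q3146, e3 q5266 L104033 q3148, e3 q5267 L104043 q4327, e3 q5268 L104047 q3151, e3 q5269 L104057 q3152, e3 q5270 L104063 q3153, e3 q5271 (flp_d L156826) q4314, e3 q5272 L104075 q3155, e3 q5273 (flp_d L144569) q8669, e3 q5274 L144761 q8697, e3 q5275 (flp_d L117161) q7208, e3 q5276 (flp_d L144581) q8670, e3 q5277 L144795 q8703, e3 q5278 (flp_d L104101) q3137, e3 q5279 (flp_d L144817) q8707, e3 q5280 (flp_d L144585) q8671, e3 q5281 L104123 q3228, e3 q5282 L104127 q3140, e3 q5283 (flp_d L144847) q8713, e3 q5284 (flp_d L144855) q8714,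 e3 q5285 (flp_d L144593) q8673, e3 q5286 L144893 q8721, e3 q5287 (flp_d L144603) q8675, e3 q5288 (flp_d L144607) q8676, e3 q5289 (flp_d L144611) q8677, e3 q5290 L144953 q8732, e3 q5291 (flp_d L144621) q8678, e3 q5292 (flp_d L104183) q3144, e3 q5293 (flp_d L144981) q8736, e3 q5294 (flp_d L144635) q8680, e3 q5295 (flp_d L144643) q8681, e3 q5296 L145028 q8742, e3 q5297 (flp_d L144649) q8682, e3 q5298 (flp_d L149697) q7308, e3 q5299 L145062 q8748, e3 q5300 (flp_d L104222) q3147, e3 q5301 (flp_d L145084) q8752, e3 q5302 (flp_d L144659) q8683, e3 q5303 L104244 q3250, e3 q5304 L104248 q3150, e3 q5305 (flp_d L145114) q8758, e3 q5306 (flp_d L145122) q8759, e3 q5307 (flp_d L144667) q8685, e3 q5308 L145160 q8766, e3 q5309 (flp_d L144681) q8687, e3 q5310 (flp_d L144687) q8688, e3 q5311 (flp_d L144691) q8689, trivial⟩ (by decide +kernel)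

theorem ce_d_83 : ∀ r, r < 64 → sm gd (Qf (5312 + r)) = Qf (tab Gen.d (5312 + r)) :=
  edges_tab (sm gd) Qf (tab Gen.d) 5312 [(5312, 8777), (5313, 8690), (5314, 3154), (5315, 8781), (5316, 8692), (5317, 7033), (5318, 3156), (5319, 8785), (5320, 3157), (5321, 8790), (5322, 8791), (5323, 3270), (5324, 3274), (5325, 3161), (5326, 3162), (5327, 8796), (5328, 8803), (5329, 8798), (5330, 8799), (5331, 8810), (5332, 3164), (5333, 8814), (5334, 3165), (5335, 5364), (5336, 3286), (5337, 7061), (5338, 3167), (5339, 8822), (5340, 3168), (5341, 8827), (5342, 8828), (5343, 3293), (5344, 3297), (5345, 3172), (5346, 3173), (5347, 8833), (5348, 8840), (5349, 8835), (5350, 8836), (5351, 8847), (5352, 3175), (5353, 8851), (5354, 3176), (5355, 5374), (5356, 3309), (5357, 8857), (5358, 3178), (5359, 8859), (5360, 5178), (5361, 8861), (5362, 3180), (5363, 8864), (5364, 5335), (5365, 8867), (5366, 3183), (5367, 8871), (5368, 3184), (5369, 8873), (5370, 5189), (5371, 8875), (5372, 3186), (5373, 8878), (5374, 5355), (5375, 8881)]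
    ⟨e3 q5312 L145212 q8777, e3 q5313 (flp_d L144705) q8690, e3 q5314 (flp_d L104304) q3154, e3 q5315 (flp_d L145240) q8781, e3 q5316 (flp_d L144725) q8692, e3 q5317 (flp_d L116080) q7033, e3 q5318 (flp_d L104329) q3156, e3 q5319 L145274 q8785, e3 q5320 (flp_d L104341) q3157, e3 q5321 (flp_d L145316) q8790, e3 q5322 (flp_d L145324) q8791, e3 q5323 L104357 q3270, e3 q5324 L104361 q3274, e3 q5325 L104367 q3161, e3 q5326 L104375 q3162, e3 q5327 (flp_d L145360) q8796, e3 q5328 L145394 q8803, e3 q5329 (flp_d L145366) q8798, e3 q5330 (flp_d L145370) q8799, e3 q5331 L145432 q8810, e3 q5332 (flp_d L104407) q3164, e3 q5333 L145454 q8814, e3 q5334 (flp_d L104415) q3165, e3 q5335 L104596 q5364, e3 q5336 L104426 q3286, e3 q5337 (flp_d L150817) q7061, e3 q5338 (flp_d L104434) q3167, e3 q5339 L145516 q8822, e3 q5340 (flp_d L104446) q3168, e3 q5341 (flp_d L145542) q8827, e3 q5342 (flp_d L145546) q8828, e3 q5343 L104462 q3293, e3 q5344 L104466 q3297, e3 q5345 L104472 q3172, e3 q5346 L104480 q3173, e3 q5347 (flp_d L145582) q8833,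 e3 q5348 L145612 q8840, e3 q5349 (flp_d L145588) q8835, e3 q5350 (flp_d L145592) q8836, e3 q5351 L145658 q8847, e3 q5352 (flp_d L104514) q3175, e3 q5353 L145682 q8851, e3 q5354 (flp_d L104524) q3176, e3 q5355 L104687 q5374, e3 q5356 L104535 q3309, e3 q5357 L145717 q8857, e3 q5358 (flp_d L104542) q3178, e3 q5359 (flp_d L145732) q8859, e3 q5360 L104566 q5178, e3 q5361 L145743 q8861, e3 q5362 (flp_d L104573) q3180, e3 q5363 L145766 q8864, e3 q5364 (flp_d L104596) q5335, e3 q5365 L145783 q8867, e3 q5366 (flp_d L104608) q3183, e3 q5367 L145805 q8871, e3 q5368 (flp_d L104625) q3184, e3 q5369 (flp_d L145835) q8873, e3 q5370 L104649 q5189, e3 q5371 L145859 q8875, e3 q5372 (flp_d L104662) q3186, e3 q5373 L145888 q8878, e3 q5374 (flp_d L104687) q5355, e3 q5375 L145907 q8881, trivial⟩ (by decide +kernel)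

theorem ce_d_84 : ∀ r, r < 64 → sm gd (Qf (5376 + r)) = Qf (tab Gen.d (5376 + r)) :=
  edges_tab (sm gd) Qf (tab Gen.d) 5376 [(5376, 3189), (5377, 6630), (5378, 6678), (5379, 6047), (5380, 3569), (5381, 6055), (5382, 8252), (5383, 6085), (5384, 3579), (5385, 6093), (5386, 8253), (5387, 8254), (5388, 3529), (5389, 8255), (5390, 6015), (5391, 8256), (5392, 8257), (5393, 3533), (5394, 8258), (5395, 6031), (5396, 8259), (5397, 8260), (5398, 8888), (5399, 7205), (5400, 8261), (5401, 8642), (5402, 3207), (5403, 8918), (5404, 8262), (5405, 6798), (5406, 8264), (5407, 8265), (5408, 6800), (5409, 8267), (5410, 3210), (5411, 4076), (5412, 8270), (5413, 8271), (5414, 8894), (5415, 8272), (5416, 7305), (5417, 8658), (5418, 3215), (5419, 8934), (5420, 8273), (5421, 6726), (5422, 8275), (5423, 8276), (5424, 6728), (5425, 8278), (5426, 3218), (5427, 4030), (5428, 8281), (5429, 8946), (5430, 7191), (5431, 8282), (5432, 5794), (5433, 3221), (5434, 7442), (5435, 8954), (5436, 7210), (5437, 8283), (5438, 8284), (5439, 3224)]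
    ⟨e3 q5376 (flp_d L104701) q3189, e3 q5377 L120355 q6630, e3 q5378 (flp_d L146193) q6678, e3 q5379 L119014 q6047, e3 q5380 L119361 q3569, e3 q5381 L119425 q6055, e3 q5382 (flp_d L129004) q8252, e3 q5383 (flp_d L148193) q6085, e3 q5384 (flp_d L147731) q3579, e3 q5385 (flp_d L147703) q6093, e3 q5386 (flp_d L129022) q8253, e3 q5387 (flp_d L129026) q8254, e3 q5388 L119417 q3529, e3 q5389 (flp_d L129034) q8255, e3 q5390 L119761 q6015, e3 q5391 (flp_d L129044) q8256, e3 q5392 (flp_d L129050) q8257, e3 q5393 L148116 q3533, e3 q5394 (flp_d L129060) q8258, e3 q5395 (flp_d L148886) q6031, e3 q5396 (flp_d L129074) q8259, e3 q5397 (flp_d L129080) q8260, e3 q5398 (flp_d L145945) q8888, e3 q5399 L117137 q7205, e3 q5400 (flp_d L129084) q8261, e3 q5401 (flp_d L144413) q8642, e3 q5402 L104913 q3207, e3 q5403 (flp_d L151618) q8918, e3 q5404 (flp_d L129088) q8262, e3 q5405 (flp_d L153004) q6798, e3 q5406 (flp_d L129099) q8264, e3 q5407 (flp_d L129103) q8265, e3 q5408 (flp_d L153012) q6800, e3 q5409 (flp_d L129113) q8267, e3 q5410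 (flp_d L104939) q3210, e3 q5411 (flp_d L152988) q4076, e3 q5412 (flp_d L129131) q8270, e3 q5413 (flp_d L129137) q8271, e3 q5414 (flp_d L149546) q8894, e3 q5415 (flp_d L129144) q8272, e3 q5416 (flp_d L148942) q7305, e3 q5417 (flp_d L144505) q8658, e3 q5418 L104977 q3215, e3 q5419 (flp_d L151726) q8934, e3 q5420 (flp_d L129154) q8273, e3 q5421 (flp_d L153447) q6726, e3 q5422 (flp_d L129165) q8275, e3 q5423 (flp_d L129169) q8276, e3 q5424 (flp_d L153455) q6728, e3 q5425 (flp_d L129179) q8278, e3 q5426 (flp_d L105003) q3218, e3 q5427 (flp_d L153431) q4030, e3 q5428 (flp_d L129197) q8281, e3 q5429 L151804 q8946, e3 q5430 L117051 q7191, e3 q5431 (flp_d L129207) q8282, e3 q5432 L120519 q5794, e3 q5433 (flp_d L105031) q3221, e3 q5434 L120352 q7442, e3 q5435 (flp_d L151886) q8954, e3 q5436 (flp_d L117175) q7210, e3 q5437 (flp_d L129215) q8283, e3 q5438 (flp_d L129225) q8284, e3 q5439 (flp_d L105057) q3224, trivial⟩ (by decide +kernel)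

theorem ce_d_85 : ∀ r, r < 64 → sm gd (Qf (5440 + r)) = Qf (tab Gen.d (5440 + r)) :=
  edges_tab (sm gd) Qf (tab Gen.d) 5440 [(5440, 5963), (5441, 8964), (5442, 8706), (5443, 3226), (5444, 8969), (5445, 8285), (5446, 8976), (5447, 8287), (5448, 8712), (5449, 3230), (5450, 3231), (5451, 8980), (5452, 8985), (5453, 8981), (5454, 8982), (5455, 5510), (5456, 3255), (5457, 3233), (5458, 3259), (5459, 5512), (5460, 8288), (5461, 6065), (5462, 8290), (5463, 5504), (5464, 3897), (5465, 5506), (5466, 5507), (5467, 9009), (5468, 3237), (5469, 5509), (5470, 5499), (5471, 8735), (5472, 5500), (5473, 9013), (5474, 8291), (5475, 7292), (5476, 5796), (5477, 3243), (5478, 9021), (5479, 7444), (5480, 8292), (5481, 8293), (5482, 7310), (5483, 3246), (5484, 9030), (5485, 5978), (5486, 8751), (5487, 3248), (5488, 9035), (5489, 8294), (5490, 9041), (5491, 8296), (5492, 8757), (5493, 3252), (5494, 3253), (5495, 9045), (5496, 8995), (5497, 9046), (5498, 9047), (5499, 5470), (5500, 5472), (5501, 8297), (5502, 6103), (5503, 8299)]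
    ⟨e3 q5440 L120394 q5963, e3 q5441 (flp_d L151950) q8964, e3 q5442 (flp_d L144811) q8706, e3 q5443 L105085 q3226, e3 q5444 (flp_d L151980) q8969, e3 q5445 (flp_d L129233) q8285, e3 q5446 L152012 q8976, e3 q5447 (flp_d L129240) q8287, e3 q5448 (flp_d L144841) q8712, e3 q5449 L105105 q3230, e3 q5450 L105115 q3231, e3 q5451 (flp_d L152036) q8980, e3 q5452 L152068 q8985, e3 q5453 L152044 q8981, e3 q5454 (flp_d L152050) q8982, e3 q5455 (flp_d L105390) q5510, e3 q5456 L151480 q3255, e3 q5457 (flp_d L105141) q3233, e3 q5458 L151496 q3259, e3 q5459 (flp_d L105413) q5512, e3 q5460 (flp_d L129248) q8288, e3 q5461 (flp_d L153739) q6065, e3 q5462 (flp_d L129255) q8290, e3 q5463 (flp_d L105360) q5504, e3 q5464 L143439 q3897, e3 q5465 (flp_d L105368) q5506, e3 q5466 (flp_d L105372) q5507, e3 q5467 L152226 q9009, e3 q5468 (flp_d L105171) q3237, e3 q5469 L151417 q5509, e3 q5470 (flp_d L105328) q5499, e3 q5471 (flp_d L144977) q8735, e3 q5472 (flp_d L105346) q5500, e3 q5473 L152262 q9013, e3 q5474 (flp_d L129269) q8291, e3 q5475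 (flp_d L148946) q7292, e3 q5476 (flp_d L150868) q5796, e3 q5477 (flp_d L105224) q3243, e3 q5478 (flp_d L152330) q9021, e3 q5479 L149164 q7444, e3 q5480 (flp_d L129290) q8292, e3 q5481 (flp_d L129296) q8293, e3 q5482 (flp_d L148935) q7310, e3 q5483 (flp_d L105250) q3246, e3 q5484 (flp_d L152394) q9030, e3 q5485 L150748 q5978, e3 q5486 (flp_d L145078) q8751, e3 q5487 L105278 q3248, e3 q5488 (flp_d L152424) q9035, e3 q5489 (flp_d L129310) q8294, e3 q5490 L152450 q9041, e3 q5491 (flp_d L129317) q8296, e3 q5492 (flp_d L145108) q8757, e3 q5493 L105298 q3252, e3 q5494 L105308 q3253, e3 q5495 (flp_d L152474) q9045, e3 q5496 (flp_d L152116) q8995, e3 q5497 L152482 q9046, e3 q5498 (flp_d L152488) q9047, e3 q5499 L105328 q5470, e3 q5500 L105346 q5472, e3 q5501 (flp_d L129325) q8297, e3 q5502 (flp_d L154011) q6103, e3 q5503 (flp_d L129332) q8299, trivial⟩ (by decide +kernel)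

theorem ce_d_86 : ∀ r, r < 64 → sm gd (Qf (5504 + r)) = Qf (tab Gen.d (5504 + r)) :=
  edges_tab (sm gd) Qf (tab Gen.d) 5504 [(5504, 5463), (5505, 3926), (5506, 5465), (5507, 5466), (5508, 8996), (5509, 5469), (5510, 5455), (5511, 8780), (5512, 5459), (5513, 7533), (5514, 3264), (5515, 9077), (5516, 9078), (5517, 7528), (5518, 3266), (5519, 3883), (5520, 7618), (5521, 8789), (5522, 3269), (5523, 4557), (5524, 6535), (5525, 9086), (5526, 5602), (5527, 5603), (5528, 3272), (5529, 9091), (5530, 5212), (5531, 8794), (5532, 8795), (5533, 3277), (5534, 5539), (5535, 3279), (5536, 3280), (5537, 3910), (5538, 9100), (5539, 5534), (5540, 3278), (5541, 9103), (5542, 9097), (5543, 9098), (5544, 7974), (5545, 7622), (5546, 9113), (5547, 3281), (5548, 4838), (5549, 8812), (5550, 9119), (5551, 3283), (5552, 8286), (5553, 8940), (5554, 8817), (5555, 5631), (5556, 6148), (5557, 7578), (5558, 3287), (5559, 9131), (5560, 9132), (5561, 7573), (5562, 3289), (5563, 7784), (5564, 3912), (5565, 8826), (5566, 3291), (5567, 6574)]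
    ⟨e3 q5504 L105360 q5463, e3 q5505 L151368 q3926, e3 q5506 L105368 q5465, e3 q5507 L105372 q5466, e3 q5508 (flp_d L152122) q8996, e3 q5509 (flp_d L151417) q5469, e3 q5510 L105390 q5455, e3 q5511 (flp_d L145236) q8780, e3 q5512 L105413 q5459, e3 q5513 (flp_d L121107) q7533, e3 q5514 (flp_d L105421) q3264, e3 q5515 (flp_d L152675) q9077, e3 q5516 (flp_d L152682) q9078, e3 q5517 L121064 q7528, e3 q5518 (flp_d L105443) q3266, e3 q5519 L119660 q3883, e3 q5520 (flp_d L121669) q7618, e3 q5521 (flp_d L145308) q8789, e3 q5522 L105467 q3269, e3 q5523 L120293 q4557, e3 q5524 (flp_d L120301) q6535, e3 q5525 L152728 q9086, e3 q5526 (flp_d L120437) q5602, e3 q5527 (flp_d L105823) q5603, e3 q5528 (flp_d L105489) q3272, e3 q5529 (flp_d L152760) q9091, e3 q5530 L105499 q5212, e3 q5531 (flp_d L145342) q8794, e3 q5532 (flp_d L145352) q8795, e3 q5533 L105515 q3277, e3 q5534 L120597 q5539, e3 q5535 L105521 q3279, e3 q5536 L105525 q3280, e3 q5537 L120587 q3910, e3 q5538 L152816 q9100, e3 q5539 (flp_d L120597) q5534, e3 q5540 (flp_d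 L105539) q3278, e3 q5541 (flp_d L152838) q9103, e3 q5542 (flp_d L152794) q9097, e3 q5543 (flp_d L152806) q9098, e3 q5544 L146090 q7974, e3 q5545 (flp_d L121695) q7622, e3 q5546 L152880 q9113, e3 q5547 (flp_d L105565) q3281, e3 q5548 L141783 q4838, e3 q5549 (flp_d L145448) q8812, e3 q5550 L152910 q9119, e3 q5551 (flp_d L105583) q3283, e3 q5552 (flp_d L153057) q8286, e3 q5553 (flp_d L153063) q8940, e3 q5554 (flp_d L145472) q8817, e3 q5555 (flp_d L106082) q5631, e3 q5556 (flp_d L142794) q6148, e3 q5557 L149721 q7578, e3 q5558 (flp_d L105608) q3287, e3 q5559 (flp_d L153088) q9131, e3 q5560 (flp_d L153096) q9132, e3 q5561 (flp_d L151148) q7573, e3 q5562 (flp_d L105630) q3289, e3 q5563 (flp_d L150892) q7784, e3 q5564 L150424 q3912, e3 q5565 (flp_d L145538) q8826, e3 q5566 L105650 q3291, e3 q5567 (flp_d L150890) q6574, trivial⟩ (by decide +kernel)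

theorem ce_d_87 : ∀ r, r < 64 → sm gd (Qf (5568 + r)) = Qf (tab Gen.d (5568 + r)) :=
  edges_tab (sm gd) Qf (tab Gen.d) 5568 [(5568, 4659), (5569, 9140), (5570, 5640), (5571, 5639), (5572, 3295), (5573, 9145), (5574, 5204), (5575, 8831), (5576, 8832), (5577, 3300), (5578, 5583), (5579, 3302), (5580, 3303), (5581, 3938), (5582, 9154), (5583, 5578), (5584, 3301), (5585, 9157), (5586, 9151), (5587, 9152), (5588, 8033), (5589, 7792), (5590, 9167), (5591, 3304), (5592, 4867), (5593, 8849), (5594, 9173), (5595, 3306), (5596, 8924), (5597, 8295), (5598, 8854), (5599, 5664), (5600, 6161), (5601, 3436), (5602, 5526), (5603, 5527), (5604, 3311), (5605, 3448), (5606, 3312), (5607, 6042), (5608, 7525), (5609, 9188), (5610, 5892), (5611, 3316), (5612, 6044), (5613, 7526), (5614, 6084), (5615, 9193), (5616, 3317), (5617, 9196), (5618, 3321), (5619, 3320), (5620, 9198), (5621, 8555), (5622, 3612), (5623, 8448), (5624, 3610), (5625, 7999), (5626, 6891), (5627, 9203), (5628, 3326), (5629, 9206), (5630, 3327), (5631, 5555)]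
    ⟨e3 q5568 L149898 q4659, e3 q5569 L153143 q9140, e3 q5570 (flp_d L106137) q5640, e3 q5571 (flp_d L129642) q5639, e3 q5572 (flp_d L105676) q3295, e3 q5573 (flp_d L153175) q9145, e3 q5574 L105686 q5204, e3 q5575 (flp_d L145564) q8831, e3 q5576 (flp_d L145574) q8832, e3 q5577 L105702 q3300, e3 q5578 L151441 q5583, e3 q5579 L105708 q3302, e3 q5580 L105712 q3303, e3 q5581 L151411 q3938, e3 q5582 L153231 q9154, e3 q5583 (flp_d L151441) q5578, e3 q5584 (flp_d L105726) q3301, e3 q5585 (flp_d L153253) q9157, e3 q5586 (flp_d L153209) q9151, e3 q5587 (flp_d L153221) q9152, e3 q5588 L151548 q8033, e3 q5589 L150896 q7792, e3 q5590 L153307 q9167, e3 q5591 (flp_d L105760) q3304, e3 q5592 (flp_d L141147) q4867, e3 q5593 (flp_d L145674) q8849, e3 q5594 L153339 q9173, e3 q5595 (flp_d L105780) q3306, e3 q5596 (flp_d L153493) q8924, e3 q5597 (flp_d L153500) q8295, e3 q5598 (flp_d L145704) q8854, e3 q5599 (flp_d L106405) q5664, e3 q5600 (flp_d L142700) q6161, e3 q5601 L120390 q3436, e3 q5602 L120437 q5526, e3 q5603 L105823 q5527,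 e3 q5604 (flp_d L105825) q3311, e3 q5605 L120491 q3448, e3 q5606 (flp_d L105835) q3312, e3 q5607 L120235 q6042, e3 q5608 (flp_d L121044) q7525, e3 q5609 (flp_d L153564) q9188, e3 q5610 (flp_d L120269) q5892, e3 q5611 L105871 q3316, e3 q5612 (flp_d L120267) q6044, e3 q5613 (flp_d L121054) q7526, e3 q5614 L120465 q6084, e3 q5615 (flp_d L153602) q9193, e3 q5616 (flp_d L105907) q3317, e3 q5617 (flp_d L153626) q9196, e3 q5618 L105923 q3321, e3 q5619 L105935 q3320, e3 q5620 (flp_d L153640) q9198, e3 q5621 (flp_d L143725) q8555, e3 q5622 L120469 q3612, e3 q5623 L149269 q8448, e3 q5624 L120477 q3610, e3 q5625 (flp_d L123796) q7999, e3 q5626 L149257 q6891, e3 q5627 L153678 q9203, e3 q5628 (flp_d L106001) q3326, e3 q5629 L153696 q9206, e3 q5630 (flp_d L106047) q3327, e3 q5631 L106082 q5555, trivial⟩ (by decide +kernel)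

theorem ce_d_88 : ∀ r, r < 64 → sm gd (Qf (5632 + r)) = Qf (tab Gen.d (5632 + r)) :=
  edges_tab (sm gd) Qf (tab Gen.d) 5632 [(5632, 9213), (5633, 3329), (5634, 6125), (5635, 8263), (5636, 9218), (5637, 6126), (5638, 3437), (5639, 5571), (5640, 5570), (5641, 3333), (5642, 3451), (5643, 3334), (5644, 6080), (5645, 9228), (5646, 7570), (5647, 5915), (5648, 3337), (5649, 7571), (5650, 3339), (5651, 9233), (5652, 3343), (5653, 3342), (5654, 8564), (5655, 3591), (5656, 8445), (5657, 3588), (5658, 7941), (5659, 6871), (5660, 9239), (5661, 3348), (5662, 9242), (5663, 3349), (5664, 5599), (5665, 9249), (5666, 3351), (5667, 6134), (5668, 9254), (5669, 8274), (5670, 6135), (5671, 6867), (5672, 3457), (5673, 6868), (5674, 5095), (5675, 5125), (5676, 6869), (5677, 3360), (5678, 6709), (5679, 9267), (5680, 6870), (5681, 6759), (5682, 9275), (5683, 6760), (5684, 3365), (5685, 9276), (5686, 6834), (5687, 9278), (5688, 6757), (5689, 9280), (5690, 6754), (5691, 3367), (5692, 9284), (5693, 6756), (5694, 3369), (5695, 9289)]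
    ⟨e3 q5632 L153749 q9213, e3 q5633 (flp_d L106095) q3329, e3 q5634 L141750 q6125, e3 q5635 L153040 q8263, e3 q5636 (flp_d L153789) q9218, e3 q5637 L142792 q6126, e3 q5638 (flp_d L151077) q3437, e3 q5639 L129642 q5571, e3 q5640 L106137 q5570, e3 q5641 (flp_d L106144) q3333, e3 q5642 L150604 q3451, e3 q5643 (flp_d L106154) q3334, e3 q5644 (flp_d L148077) q6080, e3 q5645 (flp_d L153876) q9228, e3 q5646 (flp_d L149823) q7570, e3 q5647 (flp_d L147925) q5915, e3 q5648 L106186 q3337, e3 q5649 (flp_d L150980) q7571, e3 q5650 (flp_d L106226) q3339, e3 q5651 (flp_d L153906) q9233, e3 q5652 L106242 q3343, e3 q5653 L106254 q3342, e3 q5654 (flp_d L143823) q8564, e3 q5655 L150532 q3591, e3 q5656 L150520 q8445, e3 q5657 L150546 q3588, e3 q5658 (flp_d L151012) q7941, e3 q5659 L149636 q6871, e3 q5660 L153950 q9239, e3 q5661 (flp_d L106320) q3348, e3 q5662 L153968 q9242, e3 q5663 (flp_d L106368) q3349, e3 q5664 L106405 q5599, e3 q5665 L154015 q9249, e3 q5666 (flp_d L106418) q3351, e3 q5667 L133429 q6134, e3 q5668 (flp_d L154057)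 q9254, e3 q5669 (flp_d L153467) q8274, e3 q5670 L142698 q6135, e3 q5671 (flp_d L114953) q6867, e3 q5672 L120233 q3457, e3 q5673 (flp_d L114965) q6868, e3 q5674 (flp_d L120241) q5095, e3 q5675 (flp_d L120418) q5125, e3 q5676 (flp_d L114973) q6869, e3 q5677 L106659 q3360, e3 q5678 (flp_d L120443) q6709, e3 q5679 (flp_d L154142) q9267, e3 q5680 (flp_d L114977) q6870, e3 q5681 (flp_d L114085) q6759, e3 q5682 L154200 q9275, e3 q5683 (flp_d L114101) q6760, e3 q5684 L106699 q3365, e3 q5685 (flp_d L154210) q9276, e3 q5686 L150556 q6834, e3 q5687 (flp_d L154218) q9278, e3 q5688 (flp_d L114075) q6757, e3 q5689 L154222 q9280, e3 q5690 (flp_d L114059) q6754, e3 q5691 (flp_d L106727) q3367, e3 q5692 (flp_d L154238) q9284, e3 q5693 (flp_d L114069) q6756, e3 q5694 (flp_d L106759) q3369, e3 q5695 L154272 q9289, trivial⟩ (by decide +kernel)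

theorem ce_d_89 : ∀ r, r < 64 → sm gd (Qf (5696 + r)) = Qf (tab Gen.d (5696 + r)) :=
  edges_tab (sm gd) Qf (tab Gen.d) 5696 [(5696, 3370), (5697, 3394), (5698, 9287), (5699, 3372), (5700, 9296), (5701, 4072), (5702, 9301), (5703, 4061), (5704, 4074), (5705, 3374), (5706, 4064), (5707, 9307), (5708, 4063), (5709, 4078), (5710, 6888), (5711, 3460), (5712, 6889), (5713, 5132), (5714, 5099), (5715, 6890), (5716, 3383), (5717, 6785), (5718, 6833), (5719, 6892), (5720, 3389), (5721, 9310), (5722, 9326), (5723, 6831), (5724, 9328), (5725, 6828), (5726, 3391), (5727, 9331), (5728, 6830), (5729, 3393), (5730, 9293), (5731, 9334), (5732, 3396), (5733, 9338), (5734, 4026), (5735, 9343), (5736, 4028), (5737, 4016), (5738, 3398), (5739, 9349), (5740, 4019), (5741, 4032), (5742, 4018), (5743, 4928), (5744, 4929), (5745, 4930), (5746, 4931), (5747, 3406), (5748, 3407), (5749, 7538), (5750, 7583), (5751, 3408), (5752, 9356), (5753, 9357), (5754, 3411), (5755, 3412), (5756, 9360), (5757, 9361), (5758, 3414), (5759, 3415)]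
    ⟨e3 q5696 (flp_d L106769) q3370, e3 q5697 L106787 q3394, e3 q5698 (flp_d L154268) q9287, e3 q5699 L106793 q3372, e3 q5700 (flp_d L154312) q9296, e3 q5701 L106801 q4072, e3 q5702 L154346 q9301, e3 q5703 L106811 q4061, e3 q5704 L106817 q4074, e3 q5705 (flp_d L106819) q3374, e3 q5706 L146401 q4064, e3 q5707 (flp_d L154384) q9307, e3 q5708 L106837 q4063, e3 q5709 L106845 q4078, e3 q5710 (flp_d L115126) q6888, e3 q5711 L129557 q3460, e3 q5712 (flp_d L115134) q6889, e3 q5713 (flp_d L129588) q5132, e3 q5714 (flp_d L129590) q5099, e3 q5715 (flp_d L115142) q6890, e3 q5716 L106885 q3383, e3 q5717 (flp_d L148432) q6785, e3 q5718 (flp_d L114646) q6833, e3 q5719 (flp_d L115154) q6892, e3 q5720 L106931 q3389, e3 q5721 (flp_d L154408) q9310, e3 q5722 (flp_d L154586) q9326, e3 q5723 (flp_d L114636) q6831, e3 q5724 L154596 q9328, e3 q5725 (flp_d L114620) q6828, e3 q5726 (flp_d L106961) q3391, e3 q5727 (flp_d L154614) q9331, e3 q5728 (flp_d L114630) q6830, e3 q5729 (flp_d L106993) q3393, e3 q5730 (flp_d L154294) q9293, e3 q5731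 (flp_d L154648) q9334, e3 q5732 L107015 q3396, e3 q5733 (flp_d L154668) q9338, e3 q5734 L107023 q4026, e3 q5735 L154710 q9343, e3 q5736 L107033 q4028, e3 q5737 L107039 q4016, e3 q5738 (flp_d L107041) q3398, e3 q5739 (flp_d L154752) q9349, e3 q5740 L120140 q4019, e3 q5741 L107061 q4032, e3 q5742 L107069 q4018, e3 q5743 L107091 q4928, e3 q5744 L107101 q4929, e3 q5745 L107109 q4930, e3 q5746 L107121 q4931, e3 q5747 L107131 q3406, e3 q5748 L107139 q3407, e3 q5749 (flp_d L121145) q7538, e3 q5750 (flp_d L149162) q7583, e3 q5751 (flp_d L107151) q3408, e3 q5752 (flp_d L154812) q9356, e3 q5753 (flp_d L154820) q9357, e3 q5754 L107168 q3411, e3 q5755 L107178 q3412, e3 q5756 (flp_d L154846) q9360, e3 q5757 (flp_d L154855) q9361, e3 q5758 L107196 q3414, e3 q5759 L107206 q3415, trivial⟩ (by decide +kernel)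

theorem ce_d_90 : ∀ r, r < 64 → sm gd (Qf (5760 + r)) = Qf (tab Gen.d (5760 + r)) :=
  edges_tab (sm gd) Qf (tab Gen.d) 5760 [(5760, 9368), (5761, 9369), (5762, 3418), (5763, 3419), (5764, 3420), (5765, 3421), (5766, 9374), (5767, 9375), (5768, 9376), (5769, 9377), (5770, 9378), (5771, 9379), (5772, 3454), (5773, 3455), (5774, 3426), (5775, 9392), (5776, 3427), (5777, 3428), (5778, 9397), (5779, 3429), (5780, 9390), (5781, 9391), (5782, 9394), (5783, 9395), (5784, 9396), (5785, 9399), (5786, 3431), (5787, 3432), (5788, 9182), (5789, 9222), (5790, 9410), (5791, 3433), (5792, 9411), (5793, 9412), (5794, 5432), (5795, 9183), (5796, 5476), (5797, 9223), (5798, 5082), (5799, 7439), (5800, 3440), (5801, 3441), (5802, 7440), (5803, 7441), (5804, 9419), (5805, 9420), (5806, 3779), (5807, 3780), (5808, 3781), (5809, 3782), (5810, 3449), (5811, 3450), (5812, 3452), (5813, 3453), (5814, 9429), (5815, 9430), (5816, 9443), (5817, 9432), (5818, 9433), (5819, 9434), (5820, 9452), (5821, 9436), (5822, 4462), (5823, 6864)]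
    ⟨e3 q5760 (flp_d L154896) q9368, e3 q5761 (flp_d L154906) q9369, e3 q5762 L107220 q3418, e3 q5763 L107230 q3419, e3 q5764 L107238 q3420, e3 q5765 L107250 q3421, e3 q5766 (flp_d L154946) q9374, e3 q5767 (flp_d L154954) q9375, e3 q5768 (flp_d L154960) q9376, e3 q5769 (flp_d L154968) q9377, e3 q5770 (flp_d L154976) q9378, e3 q5771 (flp_d L154982) q9379, e3 q5772 L107290 q3454, e3 q5773 L107302 q3455, e3 q5774 L107310 q3426, e3 q5775 L155076 q9392, e3 q5776 L107326 q3427, e3 q5777 L107330 q3428, e3 q5778 L155130 q9397, e3 q5779 L107338 q3429, e3 q5780 (flp_d L155056) q9390, e3 q5781 (flp_d L155070) q9391, e3 q5782 (flp_d L155102) q9394, e3 q5783 (flp_d L155110) q9395, e3 q5784 (flp_d L155124) q9396, e3 q5785 (flp_d L155156) q9399, e3 q5786 L107388 q3431, e3 q5787 L107396 q3432, e3 q5788 L153511 q9182, e3 q5789 L153823 q9222, e3 q5790 L155226 q9410, e3 q5791 (flp_d L107411) q3433, e3 q5792 (flp_d L155240) q9411, e3 q5793 (flp_d L155249) q9412, e3 q5794 (flp_d L120519) q5432, e3 q5795 (flp_d L153520) q9183, e3 q5796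 L150868 q5476, e3 q5797 (flp_d L153832) q9223, e3 q5798 L107453 q5082, e3 q5799 (flp_d L118695) q7439, e3 q5800 L107465 q3440, e3 q5801 L107469 q3441, e3 q5802 (flp_d L118703) q7440, e3 q5803 (flp_d L118711) q7441, e3 q5804 (flp_d L155314) q9419, e3 q5805 (flp_d L155322) q9420, e3 q5806 L107507 q3779, e3 q5807 L107515 q3780, e3 q5808 L107523 q3781, e3 q5809 L107533 q3782, e3 q5810 L107551 q3449, e3 q5811 L107555 q3450, e3 q5812 L107569 q3452, e3 q5813 L107573 q3453, e3 q5814 (flp_d L155380) q9429, e3 q5815 (flp_d L155386) q9430, e3 q5816 L155447 q9443, e3 q5817 (flp_d L155392) q9432, e3 q5818 (flp_d L155398) q9433, e3 q5819 (flp_d L155404) q9434, e3 q5820 L155530 q9452, e3 q5821 (flp_d L155410) q9436, e3 q5822 L107605 q4462, e3 q5823 (flp_d L120461) q6864, trivial⟩ (by decide +kernel)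

theorem ce_d_91 : ∀ r, r < 64 → sm gd (Qf (5824 + r)) = Qf (tab Gen.d (5824 + r)) :=
  edges_tab (sm gd) Qf (tab Gen.d) 5824 [(5824, 9388), (5825, 4474), (5826, 6885), (5827, 9389), (5828, 3462), (5829, 9258), (5830, 3463), (5831, 9260), (5832, 3464), (5833, 3465), (5834, 9311), (5835, 3466), (5836, 9313), (5837, 3467), (5838, 9190), (5839, 9237), (5840, 9466), (5841, 9469), (5842, 9201), (5843, 9230), (5844, 9471), (5845, 9474), (5846, 3470), (5847, 9491), (5848, 3472), (5849, 3474), (5850, 9492), (5851, 3476), (5852, 5201), (5853, 9495), (5854, 3471), (5855, 9498), (5856, 5867), (5857, 5865), (5858, 9506), (5859, 5864), (5860, 5209), (5861, 9511), (5862, 3475), (5863, 9514), (5864, 5859), (5865, 5857), (5866, 9522), (5867, 5856), (5868, 3562), (5869, 3563), (5870, 3566), (5871, 3567), (5872, 3490), (5873, 3492), (5874, 3483), (5875, 9532), (5876, 3495), (5877, 3496), (5878, 3497), (5879, 9539), (5880, 3499), (5881, 3500), (5882, 3502), (5883, 3487), (5884, 9545), (5885, 3505), (5886, 3506), (5887, 3507)]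
    ⟨e3 q5824 (flp_d L155032) q9388, e3 q5825 L150794 q4474, e3 q5826 (flp_d L129586) q6885, e3 q5827 (flp_d L155046) q9389, e3 q5828 L107635 q3462, e3 q5829 L154090 q9258, e3 q5830 L107645 q3463, e3 q5831 (flp_d L154102) q9260, e3 q5832 L107661 q3464, e3 q5833 L107667 q3465, e3 q5834 L154420 q9311, e3 q5835 L107677 q3466, e3 q5836 (flp_d L154432) q9313, e3 q5837 L107693 q3467, e3 q5838 (flp_d L153582) q9190, e3 q5839 (flp_d L153940) q9237, e3 q5840 (flp_d L155646) q9466, e3 q5841 (flp_d L155666) q9469, e3 q5842 (flp_d L153668) q9201, e3 q5843 (flp_d L153884) q9230, e3 q5844 (flp_d L155682) q9471, e3 q5845 (flp_d L155702) q9474, e3 q5846 L107729 q3470, e3 q5847 L155798 q9491, e3 q5848 L107749 q3472, e3 q5849 L107755 q3474, e3 q5850 L155806 q9492, e3 q5851 L107771 q3476, e3 q5852 (flp_d L120259) q5201, e3 q5853 L155832 q9495, e3 q5854 (flp_d L107787) q3471, e3 q5855 (flp_d L155852) q9498, e3 q5856 (flp_d L107867) q5867, e3 q5857 (flp_d L107855) q5865, e3 q5858 L155894 q9506, e3 q5859 (flp_d L107847) q5864, e3 q5860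 L148062 q5209, e3 q5861 L155930 q9511, e3 q5862 (flp_d L107833) q3475, e3 q5863 (flp_d L155950) q9514, e3 q5864 L107847 q5859, e3 q5865 L107855 q5857, e3 q5866 L156000 q9522, e3 q5867 L107867 q5856, e3 q5868 L107879 q3562, e3 q5869 L107885 q3563, e3 q5870 L107905 q3566, e3 q5871 L107911 q3567, e3 q5872 L107917 q3490, e3 q5873 L107929 q3492, e3 q5874 (flp_d L107935) q3483, e3 q5875 (flp_d L156104) q9532, e3 q5876 L107949 q3495, e3 q5877 L107957 q3496, e3 q5878 L107963 q3497, e3 q5879 L156166 q9539, e3 q5880 L107969 q3499, e3 q5881 L107975 q3500, e3 q5882 L107985 q3502, e3 q5883 (flp_d L107989) q3487, e3 q5884 (flp_d L156214) q9545, e3 q5885 L107997 q3505, e3 q5886 L108005 q3506, e3 q5887 L108011 q3507, trivial⟩ (by decide +kernel)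

theorem ce_d_92 : ∀ r, r < 64 → sm gd (Qf (5888 + r)) = Qf (tab Gen.d (5888 + r)) :=
  edges_tab (sm gd) Qf (tab Gen.d) 5888 [(5888, 9552), (5889, 3509), (5890, 9527), (5891, 8788), (5892, 5610), (5893, 9528), (5894, 9558), (5895, 3491), (5896, 9561), (5897, 9529), (5898, 6999), (5899, 3597), (5900, 3494), (5901, 9569), (5902, 9533), (5903, 9573), (5904, 9535), (5905, 9536), (5906, 9537), (5907, 9584), (5908, 9538), (5909, 3498), (5910, 9588), (5911, 6288), (5912, 9540), (5913, 8825), (5914, 9541), (5915, 5647), (5916, 9596), (5917, 3501), (5918, 9599), (5919, 9542), (5920, 7015), (5921, 3619), (5922, 3504), (5923, 9607), (5924, 9546), (5925, 9611), (5926, 9548), (5927, 9549), (5928, 9550), (5929, 9622), (5930, 9551), (5931, 3508), (5932, 9626), (5933, 6315), (5934, 9630), (5935, 3511), (5936, 5942), (5937, 3637), (5938, 9637), (5939, 3514), (5940, 5945), (5941, 3643), (5942, 5936), (5943, 9645), (5944, 3517), (5945, 5940), (5946, 9651), (5947, 3519), (5948, 3524), (5949, 3527), (5950, 5200), (5951, 5208)]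
    ⟨e3 q5888 L156276 q9552, e3 q5889 L108019 q3509, e3 q5890 (flp_d L156064) q9527, e3 q5891 L145296 q8788, e3 q5892 L120269 q5610, e3 q5893 (flp_d L156076) q9528, e3 q5894 L156326 q9558, e3 q5895 (flp_d L108043) q3491, e3 q5896 (flp_d L156356) q9561, e3 q5897 (flp_d L156082) q9529, e3 q5898 L115814 q6999, e3 q5899 L108069 q3597, e3 q5900 L108073 q3494, e3 q5901 (flp_d L156402) q9569, e3 q5902 (flp_d L156108) q9533, e3 q5903 L156422 q9573, e3 q5904 (flp_d L156136) q9535, e3 q5905 (flp_d L156142) q9536, e3 q5906 (flp_d L156146) q9537, e3 q5907 L156486 q9584, e3 q5908 (flp_d L156158) q9538, e3 q5909 (flp_d L108123) q3498, e3 q5910 (flp_d L156510) q9588, e3 q5911 (flp_d L151435) q6288, e3 q5912 (flp_d L156174) q9540, e3 q5913 L150462 q8825, e3 q5914 (flp_d L156186) q9541, e3 q5915 L147925 q5647, e3 q5916 L156573 q9596, e3 q5917 (flp_d L108162) q3501, e3 q5918 (flp_d L156603) q9599, e3 q5919 (flp_d L156192) q9542, e3 q5920 (flp_d L149206) q7015, e3 q5921 L108188 q3619, e3 q5922 L108192 q3504, e3 q5923 (flp_d L156649)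 q9607, e3 q5924 (flp_d L156218) q9546, e3 q5925 L156669 q9611, e3 q5926 (flp_d L156246) q9548, e3 q5927 (flp_d L156252) q9549, e3 q5928 (flp_d L156256) q9550, e3 q5929 L156739 q9622, e3 q5930 (flp_d L156268) q9551, e3 q5931 (flp_d L108242) q3508, e3 q5932 (flp_d L156763) q9626, e3 q5933 (flp_d L151379) q6315, e3 q5934 L156788 q9630, e3 q5935 (flp_d L108267) q3511, e3 q5936 L108304 q5942, e3 q5937 L108278 q3637, e3 q5938 L156910 q9637, e3 q5939 (flp_d L108286) q3514, e3 q5940 L108335 q5945, e3 q5941 L108297 q3643, e3 q5942 (flp_d L108304) q5936, e3 q5943 L156956 q9645, e3 q5944 (flp_d L108318) q3517, e3 q5945 (flp_d L108335) q5940, e3 q5946 L156993 q9651, e3 q5947 (flp_d L108349) q3519, e3 q5948 L108419 q3524, e3 q5949 L108441 q3527, e3 q5950 (flp_d L119513) q5200, e3 q5951 L148096 q5208, trivial⟩ (by decide +kernel)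

theorem ce_d_93 : ∀ r, r < 64 → sm gd (Qf (5952 + r)) = Qf (tab Gen.d (5952 + r)) :=
  edges_tab (sm gd) Qf (tab Gen.d) 5952 [(5952, 8904), (5953, 3540), (5954, 3541), (5955, 9660), (5956, 3543), (5957, 8911), (5958, 3548), (5959, 3549), (5960, 9667), (5961, 3551), (5962, 4904), (5963, 5440), (5964, 3537), (5965, 9497), (5966, 3539), (5967, 9673), (5968, 9656), (5969, 9679), (5970, 9658), (5971, 8149), (5972, 9685), (5973, 9659), (5974, 3542), (5975, 9689), (5976, 9662), (5977, 4923), (5978, 5485), (5979, 3545), (5980, 9513), (5981, 3547), (5982, 9695), (5983, 9663), (5984, 9701), (5985, 9665), (5986, 8181), (5987, 9707), (5988, 9666), (5989, 3550), (5990, 9711), (5991, 9669), (5992, 5011), (5993, 5014), (5994, 5017), (5995, 5020), (5996, 5023), (5997, 5026), (5998, 4487), (5999, 8332), (6000, 9525), (6001, 4544), (6002, 6429), (6003, 6468), (6004, 4522), (6005, 8340), (6006, 9526), (6007, 4509), (6008, 6460), (6009, 6503), (6010, 8889), (6011, 3595), (6012, 8306), (6013, 3572), (6014, 9733), (6015, 5390)]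
    ⟨e3 q5952 (flp_d L146126) q8904, e3 q5953 L108509 q3540, e3 q5954 L108515 q3541, e3 q5955 L157091 q9660, e3 q5956 L108521 q3543, e3 q5957 L149055 q8911, e3 q5958 L108545 q3548, e3 q5959 L108553 q3549, e3 q5960 L157135 q9667, e3 q5961 L108565 q3551, e3 q5962 L139049 q4904, e3 q5963 (flp_d L120394) q5440, e3 q5964 (flp_d L108589) q3537, e3 q5965 (flp_d L155848) q9497, e3 q5966 L108607 q3539, e3 q5967 (flp_d L157181) q9673, e3 q5968 (flp_d L157043) q9656, e3 q5969 L157205 q9679, e3 q5970 (flp_d L157053) q9658, e3 q5971 (flp_d L157085) q8149, e3 q5972 L157229 q9685, e3 q5973 (flp_d L157067) q9659, e3 q5974 (flp_d L108635) q3542, e3 q5975 (flp_d L157249) q9689, e3 q5976 (flp_d L157101) q9662, e3 q5977 L148054 q4923, e3 q5978 (flp_d L150748) q5485, e3 q5979 (flp_d L108661) q3545, e3 q5980 (flp_d L155946) q9513, e3 q5981 L108679 q3547, e3 q5982 (flp_d L157291) q9695, e3 q5983 (flp_d L157107) q9663, e3 q5984 L157315 q9701, e3 q5985 (flp_d L157121) q9665, e3 q5986 L157089 q8181, e3 q5987 L157341 q9707, e3 q5988 (flp_d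 L157129) q9666, e3 q5989 (flp_d L108707) q3550, e3 q5990 (flp_d L157361) q9711, e3 q5991 (flp_d L157149) q9669, e3 q5992 L108739 q5011, e3 q5993 L108761 q5014, e3 q5994 L108777 q5017, e3 q5995 L118992 q5020, e3 q5996 L108811 q5023, e3 q5997 L148163 q5026, e3 q5998 L108849 q4487, e3 q5999 (flp_d L129733) q8332, e3 q6000 (flp_d L156022) q9525, e3 q6001 L151315 q4544, e3 q6002 (flp_d L163192) q6429, e3 q6003 (flp_d L151317) q6468, e3 q6004 (flp_d L150353) q4522, e3 q6005 L149535 q8340, e3 q6006 (flp_d L156042) q9526, e3 q6007 L151195 q4509, e3 q6008 L163299 q6460, e3 q6009 (flp_d L151228) q6503, e3 q6010 (flp_d L145961) q8889, e3 q6011 L108981 q3595, e3 q6012 (flp_d L129388) q8306, e3 q6013 L108989 q3572, e3 q6014 (flp_d L157569) q9733, e3 q6015 (flp_d L119761) q5390, trivial⟩ (by decide +kernel)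

theorem ce_d_94 : ∀ r, r < 64 → sm gd (Qf (6016 + r)) = Qf (tab Gen.d (6016 + r)) :=
  edges_tab (sm gd) Qf (tab Gen.d) 6016 [(6016, 3600), (6017, 9738), (6018, 3602), (6019, 3603), (6020, 3604), (6021, 9744), (6022, 3606), (6023, 3576), (6024, 9748), (6025, 3609), (6026, 8895), (6027, 3617), (6028, 8312), (6029, 3582), (6030, 9753), (6031, 5395), (6032, 3622), (6033, 9758), (6034, 3624), (6035, 3625), (6036, 3626), (6037, 9764), (6038, 3628), (6039, 3586), (6040, 9768), (6041, 3631), (6042, 5607), (6043, 5104), (6044, 5612), (6045, 9236), (6046, 9189), (6047, 5379), (6048, 9560), (6049, 3594), (6050, 8990), (6051, 9730), (6052, 9779), (6053, 9731), (6054, 9781), (6055, 5381), (6056, 9568), (6057, 3599), (6058, 9785), (6059, 9736), (6060, 9794), (6061, 3601), (6062, 9797), (6063, 9740), (6064, 9741), (6065, 5461), (6066, 8166), (6067, 8584), (6068, 9805), (6069, 8585), (6070, 8583), (6071, 9809), (6072, 3605), (6073, 9814), (6074, 9728), (6075, 9817), (6076, 9587), (6077, 3608), (6078, 9820), (6079, 6819)]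
    ⟨e3 q6016 L109003 q3600, e3 q6017 L157599 q9738, e3 q6018 L109013 q3602, e3 q6019 L109017 q3603, e3 q6020 L109021 q3604, e3 q6021 L157645 q9744, e3 q6022 L109031 q3606, e3 q6023 (flp_d L109035) q3576, e3 q6024 (flp_d L157663) q9748, e3 q6025 L109045 q3609, e3 q6026 L148122 q8895, e3 q6027 L109079 q3617, e3 q6028 L149537 q8312, e3 q6029 L109087 q3582, e3 q6030 (flp_d L157701) q9753, e3 q6031 L148886 q5395, e3 q6032 L109101 q3622, e3 q6033 L157733 q9758, e3 q6034 L109111 q3624, e3 q6035 L109115 q3625, e3 q6036 L109119 q3626, e3 q6037 L157779 q9764, e3 q6038 L109129 q3628, e3 q6039 (flp_d L109133) q3586, e3 q6040 (flp_d L157797) q9768, e3 q6041 L109143 q3631, e3 q6042 (flp_d L120235) q5607, e3 q6043 L120239 q5104, e3 q6044 L120267 q5612, e3 q6045 (flp_d L153930) q9236, e3 q6046 (flp_d L153574) q9189, e3 q6047 (flp_d L119014) q5379, e3 q6048 (flp_d L156350) q9560, e3 q6049 L109211 q3594, e3 q6050 (flp_d L152090) q8990, e3 q6051 (flp_d L157545) q9730, e3 q6052 L157859 q9779, e3 q6053 (flp_d L157555) q9731, e3 q6054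 L157867 q9781, e3 q6055 (flp_d L119425) q5381, e3 q6056 (flp_d L156394) q9568, e3 q6057 L109251 q3599, e3 q6058 (flp_d L157901) q9785, e3 q6059 (flp_d L157589) q9736, e3 q6060 L157935 q9794, e3 q6061 (flp_d L109265) q3601, e3 q6062 (flp_d L157951) q9797, e3 q6063 (flp_d L157611) q9740, e3 q6064 (flp_d L157627) q9741, e3 q6065 L153739 q5461, e3 q6066 (flp_d L142750) q8166, e3 q6067 (flp_d L149233) q8584, e3 q6068 L158005 q9805, e3 q6069 (flp_d L144053) q8585, e3 q6070 (flp_d L150998) q8583, e3 q6071 L158025 q9809, e3 q6072 (flp_d L109295) q3605, e3 q6073 (flp_d L158047) q9814, e3 q6074 (flp_d L157525) q9728, e3 q6075 L158067 q9817, e3 q6076 (flp_d L156506) q9587, e3 q6077 L109321 q3608, e3 q6078 (flp_d L158090) q9820, e3 q6079 L157393 q6819, trivial⟩ (by decide +kernel)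

theorem ce_d_95 : ∀ r, r < 64 → sm gd (Qf (6080 + r)) = Qf (tab Gen.d (6080 + r)) :=
  edges_tab (sm gd) Qf (tab Gen.d) 6080 [(6080, 5644), (6081, 5111), (6082, 9200), (6083, 9195), (6084, 5614), (6085, 5383), (6086, 9598), (6087, 3616), (6088, 9054), (6089, 9750), (6090, 9832), (6091, 9751), (6092, 9834), (6093, 5385), (6094, 9606), (6095, 3621), (6096, 9838), (6097, 9756), (6098, 9847), (6099, 3623), (6100, 9850), (6101, 9760), (6102, 9761), (6103, 5502), (6104, 8196), (6105, 8575), (6106, 9858), (6107, 8574), (6108, 8576), (6109, 9862), (6110, 3627), (6111, 9867), (6112, 9720), (6113, 9870), (6114, 9625), (6115, 3630), (6116, 9873), (6117, 6745), (6118, 5029), (6119, 3633), (6120, 9879), (6121, 3634), (6122, 6132), (6123, 9883), (6124, 9633), (6125, 5634), (6126, 5637), (6127, 5030), (6128, 3639), (6129, 9884), (6130, 3640), (6131, 9881), (6132, 6122), (6133, 9640), (6134, 5667), (6135, 5670), (6136, 3644), (6137, 9898), (6138, 7479), (6139, 5226), (6140, 3647), (6141, 3648), (6142, 9904), (6143, 3649)]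
    ⟨e3 q6080 L148077 q5644, e3 q6081 L147956 q5111, e3 q6082 (flp_d L153660) q9200, e3 q6083 (flp_d L153614) q9195, e3 q6084 (flp_d L120465) q5614, e3 q6085 L148193 q5383, e3 q6086 (flp_d L156597) q9598, e3 q6087 L109400 q3616, e3 q6088 (flp_d L152522) q9054, e3 q6089 (flp_d L157677) q9750, e3 q6090 L158157 q9832, e3 q6091 (flp_d L157687) q9751, e3 q6092 L158165 q9834, e3 q6093 L147703 q5385, e3 q6094 (flp_d L156641) q9606, e3 q6095 L109440 q3621, e3 q6096 (flp_d L158199) q9838, e3 q6097 (flp_d L157723) q9756, e3 q6098 L158233 q9847, e3 q6099 (flp_d L109454) q3623, e3 q6100 (flp_d L158249) q9850, e3 q6101 (flp_d L157745) q9760, e3 q6102 (flp_d L157761) q9761, e3 q6103 L154011 q5502, e3 q6104 (flp_d L149492) q8196, e3 q6105 (flp_d L143909) q8575, e3 q6106 L158305 q9858, e3 q6107 (flp_d L143901) q8574, e3 q6108 L150992 q8576, e3 q6109 L158325 q9862, e3 q6110 (flp_d L109486) q3627, e3 q6111 (flp_d L158347) q9867, e3 q6112 (flp_d L157443) q9720, e3 q6113 L158367 q9870, e3 q6114 (flp_d L156759) q9625, e3 q6115 L109508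 q3630, e3 q6116 (flp_d L158390) q9873, e3 q6117 L157475 q6745, e3 q6118 (flp_d L119811) q5029, e3 q6119 (flp_d L109543) q3633, e3 q6120 L158417 q9879, e3 q6121 (flp_d L109557) q3634, e3 q6122 (flp_d L152204) q6132, e3 q6123 (flp_d L158453) q9883, e3 q6124 (flp_d L156893) q9633, e3 q6125 (flp_d L141750) q5634, e3 q6126 (flp_d L142792) q5637, e3 q6127 L147519 q5030, e3 q6128 (flp_d L109602) q3639, e3 q6129 (flp_d L158463) q9884, e3 q6130 (flp_d L109616) q3640, e3 q6131 (flp_d L158437) q9881, e3 q6132 L152204 q6122, e3 q6133 (flp_d L156932) q9640, e3 q6134 (flp_d L133429) q5667, e3 q6135 (flp_d L142698) q5670, e3 q6136 (flp_d L109643) q3644, e3 q6137 (flp_d L158547) q9898, e3 q6138 L120726 q7479, e3 q6139 (flp_d L119763) q5226, e3 q6140 L109669 q3647, e3 q6141 L109675 q3648, e3 q6142 (flp_d L158595) q9904, e3 q6143 (flp_d L109703) q3649, trivial⟩ (by decide +kernel)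

theorem ce_d_96 : ∀ r, r < 64 → sm gd (Qf (6144 + r)) = Qf (tab Gen.d (6144 + r)) :=
  edges_tab (sm gd) Qf (tab Gen.d) 6144 [(6144, 9906), (6145, 3651), (6146, 9910), (6147, 9911), (6148, 5556), (6149, 3653), (6150, 9915), (6151, 7488), (6152, 5229), (6153, 3656), (6154, 3657), (6155, 9921), (6156, 3658), (6157, 9923), (6158, 3660), (6159, 9927), (6160, 9928), (6161, 5600), (6162, 8224), (6163, 8225), (6164, 3666), (6165, 3667), (6166, 3668), (6167, 3669), (6168, 9935), (6169, 9936), (6170, 9938), (6171, 9939), (6172, 6172), (6173, 6173), (6174, 6174), (6175, 6175), (6176, 6176), (6177, 3675), (6178, 9960), (6179, 3677), (6180, 3678), (6181, 9966), (6182, 3680), (6183, 9957), (6184, 9959), (6185, 3676), (6186, 9962), (6187, 9963), (6188, 9965), (6189, 3679), (6190, 9968), (6191, 9973), (6192, 6192), (6193, 6193), (6194, 9977), (6195, 6195), (6196, 6196), (6197, 3693), (6198, 9985), (6199, 3686), (6200, 9988), (6201, 3697), (6202, 3698), (6203, 9995), (6204, 3700), (6205, 3701), (6206, 10002), (6207, 3690)]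
    ⟨e3 q6144 L158601 q9906, e3 q6145 (flp_d L109749) q3651, e3 q6146 (flp_d L158633) q9910, e3 q6147 (flp_d L158638) q9911, e3 q6148 L142794 q5556, e3 q6149 (flp_d L109774) q3653, e3 q6150 (flp_d L158674) q9915, e3 q6151 L150616 q7488, e3 q6152 L148884 q5229, e3 q6153 L109800 q3656, e3 q6154 L109806 q3657, e3 q6155 (flp_d L158722) q9921, e3 q6156 (flp_d L109834) q3658, e3 q6157 L158728 q9923, e3 q6158 (flp_d L109880) q3660, e3 q6159 (flp_d L158758) q9927, e3 q6160 (flp_d L158764) q9928, e3 q6161 L142700 q5600, e3 q6162 (flp_d L128765) q8224, e3 q6163 (flp_d L128773) q8225, e3 q6164 L110063 q3666, e3 q6165 L110073 q3667, e3 q6166 L110081 q3668, e3 q6167 L110093 q3669, e3 q6168 (flp_d L158813) q9935, e3 q6169 (flp_d L158819) q9936, e3 q6170 (flp_d L158831) q9938, e3 q6171 (flp_d L158837) q9939, e3 q6172 L110129 q6172, e3 q6173 L110134 q6173, e3 q6174 L110139 q6174, e3 q6175 L110144 q6175, e3 q6176 L110149 q6176, e3 q6177 L110154 q3675, e3 q6178 L158989 q9960, e3 q6179 L110164 q3677, e3 q6180 L110170 q3678, e3 q6181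 L159033 q9966, e3 q6182 L110180 q3680, e3 q6183 (flp_d L158967) q9957, e3 q6184 (flp_d L158983) q9959, e3 q6185 (flp_d L110202) q3676, e3 q6186 (flp_d L159001) q9962, e3 q6187 (flp_d L159011) q9963, e3 q6188 (flp_d L159027) q9965, e3 q6189 (flp_d L110238) q3679, e3 q6190 (flp_d L159045) q9968, e3 q6191 L159089 q9973, e3 q6192 L110267 q6192, e3 q6193 L110273 q6193, e3 q6194 L159127 q9977, e3 q6195 L110291 q6195, e3 q6196 L110296 q6196, e3 q6197 L110301 q3693, e3 q6198 L159193 q9985, e3 q6199 (flp_d L110313) q3686, e3 q6200 (flp_d L159231) q9988, e3 q6201 L110325 q3697, e3 q6202 L110333 q3698, e3 q6203 L159283 q9995, e3 q6204 L110343 q3700, e3 q6205 L110351 q3701, e3 q6206 L159329 q10002, e3 q6207 (flp_d L110363) q3690, trivial⟩ (by decide +kernel)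

theorem ce_d_97 : ∀ r, r < 64 → sm gd (Qf (6208 + r)) = Qf (tab Gen.d (6208 + r)) :=
  edges_tab (sm gd) Qf (tab Gen.d) 6208 [(6208, 10005), (6209, 3705), (6210, 3706), (6211, 10012), (6212, 3708), (6213, 9531), (6214, 10017), (6215, 9982), (6216, 9983), (6217, 10023), (6218, 3694), (6219, 10029), (6220, 3800), (6221, 3696), (6222, 10033), (6223, 9989), (6224, 10039), (6225, 9991), (6226, 9992), (6227, 10043), (6228, 9994), (6229, 3699), (6230, 10047), (6231, 9997), (6232, 9544), (6233, 10051), (6234, 9999), (6235, 10000), (6236, 10057), (6237, 3702), (6238, 10063), (6239, 3819), (6240, 3704), (6241, 10067), (6242, 10006), (6243, 10073), (6244, 10008), (6245, 10009), (6246, 10077), (6247, 10011), (6248, 3707), (6249, 10081), (6250, 10014), (6251, 3722), (6252, 3723), (6253, 4185), (6254, 3710), (6255, 10086), (6256, 3727), (6257, 6283), (6258, 4241), (6259, 3713), (6260, 10095), (6261, 10096), (6262, 3733), (6263, 3735), (6264, 3736), (6265, 4193), (6266, 3716), (6267, 10105), (6268, 3740), (6269, 6310), (6270,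 4262), (6271, 3719)]
    ⟨e3 q6208 (flp_d L159353) q10005, e3 q6209 L110375 q3705, e3 q6210 L110383 q3706, e3 q6211 L159405 q10012, e3 q6212 L110393 q3708, e3 q6213 (flp_d L156098) q9531, e3 q6214 L159437 q10017, e3 q6215 (flp_d L159171) q9982, e3 q6216 (flp_d L159179) q9983, e3 q6217 L159475 q10023, e3 q6218 (flp_d L110421) q3694, e3 q6219 L159511 q10029, e3 q6220 L110435 q3800, e3 q6221 L110439 q3696, e3 q6222 (flp_d L159537) q10033, e3 q6223 (flp_d L159239) q9989, e3 q6224 L159569 q10039, e3 q6225 (flp_d L159253) q9991, e3 q6226 (flp_d L159259) q9992, e3 q6227 L159589 q10043, e3 q6228 (flp_d L159275) q9994, e3 q6229 (flp_d L110483) q3699, e3 q6230 (flp_d L159611) q10047, e3 q6231 (flp_d L159295) q9997, e3 q6232 (flp_d L156208) q9544, e3 q6233 L159637 q10051, e3 q6234 (flp_d L159307) q9999, e3 q6235 (flp_d L159313) q10000, e3 q6236 L159675 q10057, e3 q6237 (flp_d L110521) q3702, e3 q6238 L159711 q10063, e3 q6239 L110535 q3819, e3 q6240 L110539 q3704, e3 q6241 (flp_d L159737) q10067, e3 q6242 (flp_d L159361) q10006,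 e3 q6243 L159769 q10073, e3 q6244 (flp_d L159375) q10008, e3 q6245 (flp_d L159381) q10009, e3 q6246 L159789 q10077, e3 q6247 (flp_d L159397) q10011, e3 q6248 (flp_d L110583) q3707, e3 q6249 (flp_d L159811) q10081, e3 q6250 (flp_d L159417) q10014, e3 q6251 L110601 q3722, e3 q6252 L110607 q3723, e3 q6253 (flp_d L115820) q4185, e3 q6254 (flp_d L110615) q3710, e3 q6255 (flp_d L159861) q10086, e3 q6256 L110631 q3727, e3 q6257 L110801 q6283, e3 q6258 L110640 q4241, e3 q6259 L110644 q3713, e3 q6260 (flp_d L159908) q10095, e3 q6261 (flp_d L159915) q10096, e3 q6262 L110663 q3733, e3 q6263 L110669 q3735, e3 q6264 L110675 q3736, e3 q6265 L148992 q4193, e3 q6266 (flp_d L110683) q3716, e3 q6267 (flp_d L159990) q10105, e3 q6268 L110699 q3740, e3 q6269 L110969 q6310, e3 q6270 L110708 q4262, e3 q6271 L110712 q3719, trivial⟩ (by decide +kernel)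

theorem ce_d_98 : ∀ r, r < 64 → sm gd (Qf (6272 + r)) = Qf (tab Gen.d (6272 + r)) :=
  edges_tab (sm gd) Qf (tab Gen.d) 6272 [(6272, 10114), (6273, 10115), (6274, 3746), (6275, 8227), (6276, 8243), (6277, 10083), (6278, 10084), (6279, 10085), (6280, 3724), (6281, 10122), (6282, 10123), (6283, 6257), (6284, 3839), (6285, 3726), (6286, 10129), (6287, 10088), (6288, 5911), (6289, 10090), (6290, 3728), (6291, 10136), (6292, 10135), (6293, 3848), (6294, 3731), (6295, 3732), (6296, 10142), (6297, 10144), (6298, 10145), (6299, 10099), (6300, 5255), (6301, 10101), (6302, 8246), (6303, 8231), (6304, 10102), (6305, 10103), (6306, 10104), (6307, 3737), (6308, 10155), (6309, 10156), (6310, 6269), (6311, 3865), (6312, 3739), (6313, 10162), (6314, 10107), (6315, 5933), (6316, 10109), (6317, 3741), (6318, 10169), (6319, 10168), (6320, 3874), (6321, 3744), (6322, 3745), (6323, 10175), (6324, 10177), (6325, 10178), (6326, 10118), (6327, 5247), (6328, 10120), (6329, 10187), (6330, 3747), (6331, 10191), (6332, 10192), (6333, 10195),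 (6334, 3888), (6335, 3749)]
    ⟨e3 q6272 (flp_d L160037) q10114, e3 q6273 (flp_d L160046) q10115, e3 q6274 L110731 q3746, e3 q6275 (flp_d L128797) q8227, e3 q6276 (flp_d L128905) q8243, e3 q6277 (flp_d L159827) q10083, e3 q6278 (flp_d L159837) q10084, e3 q6279 (flp_d L159851) q10085, e3 q6280 (flp_d L110773) q3724, e3 q6281 (flp_d L160100) q10122, e3 q6282 (flp_d L160110) q10123, e3 q6283 (flp_d L110801) q6257, e3 q6284 L110807 q3839, e3 q6285 L110813 q3726, e3 q6286 (flp_d L160156) q10129, e3 q6287 (flp_d L159871) q10088, e3 q6288 L151435 q5911, e3 q6289 (flp_d L159881) q10090, e3 q6290 (flp_d L110837) q3728, e3 q6291 L160210 q10136, e3 q6292 (flp_d L160208) q10135, e3 q6293 L110853 q3848, e3 q6294 L110859 q3731, e3 q6295 L110867 q3732, e3 q6296 (flp_d L160248) q10142, e3 q6297 (flp_d L160258) q10144, e3 q6298 (flp_d L160262) q10145, e3 q6299 (flp_d L159934) q10099, e3 q6300 L163623 q5255, e3 q6301 (flp_d L159946) q10101, e3 q6302 (flp_d L128945) q8246, e3 q6303 (flp_d L128829) q8231, e3 q6304 (flp_d L159954)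 q10102, e3 q6305 (flp_d L159966) q10103, e3 q6306 (flp_d L159978) q10104, e3 q6307 (flp_d L110941) q3737, e3 q6308 (flp_d L160330) q10155, e3 q6309 (flp_d L160338) q10156, e3 q6310 (flp_d L110969) q6269, e3 q6311 L110975 q3865, e3 q6312 L110981 q3739, e3 q6313 (flp_d L160386) q10162, e3 q6314 (flp_d L160000) q10107, e3 q6315 L151379 q5933, e3 q6316 (flp_d L160010) q10109, e3 q6317 (flp_d L111005) q3741, e3 q6318 L160440 q10169, e3 q6319 (flp_d L160438) q10168, e3 q6320 L111021 q3874, e3 q6321 L111027 q3744, e3 q6322 L111035 q3745, e3 q6323 (flp_d L160478) q10175, e3 q6324 (flp_d L160488) q10177, e3 q6325 (flp_d L160492) q10178, e3 q6326 (flp_d L160064) q10118, e3 q6327 L163787 q5247, e3 q6328 (flp_d L160076) q10120, e3 q6329 L160544 q10187, e3 q6330 (flp_d L111077) q3747, e3 q6331 (flp_d L160576) q10191, e3 q6332 (flp_d L160582) q10192, e3 q6333 L160594 q10195, e3 q6334 L111101 q3888, e3 q6335 L111105 q3749, trivial⟩ (by decide +kernel)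

theorem ce_d_99 : ∀ r, r < 64 → sm gd (Qf (6336 + r)) = Qf (tab Gen.d (6336 + r)) :=
  edges_tab (sm gd) Qf (tab Gen.d) 6336 [(6336, 3750), (6337, 10201), (6338, 7399), (6339, 10202), (6340, 7396), (6341, 7398), (6342, 3905), (6343, 3755), (6344, 10216), (6345, 3756), (6346, 10213), (6347, 10215), (6348, 10218), (6349, 10222), (6350, 3757), (6351, 10226), (6352, 10227), (6353, 10230), (6354, 3917), (6355, 3759), (6356, 3760), (6357, 7429), (6358, 10236), (6359, 10237), (6360, 7427), (6361, 7430), (6362, 3933), (6363, 3765), (6364, 10251), (6365, 3766), (6366, 10248), (6367, 10250), (6368, 10253), (6369, 10257), (6370, 3767), (6371, 10261), (6372, 10262), (6373, 10265), (6374, 4766), (6375, 3769), (6376, 3770), (6377, 10271), (6378, 10272), (6379, 10275), (6380, 3772), (6381, 10279), (6382, 10280), (6383, 10283), (6384, 4804), (6385, 3774), (6386, 3775), (6387, 10289), (6388, 10290), (6389, 10293), (6390, 4424), (6391, 10295), (6392, 4427), (6393, 9186), (6394, 9425), (6395, 9426), (6396, 9226), (6397, 9427), (6398,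 9428), (6399, 4449)]
    ⟨e3 q6336 L111109 q3750, e3 q6337 (flp_d L160622) q10201, e3 q6338 (flp_d L118348) q7399, e3 q6339 (flp_d L160630) q10202, e3 q6340 (flp_d L118332) q7396, e3 q6341 (flp_d L118342) q7398, e3 q6342 L111145 q3905, e3 q6343 L111151 q3755, e3 q6344 L160708 q10216, e3 q6345 L111157 q3756, e3 q6346 (flp_d L160694) q10213, e3 q6347 (flp_d L160704) q10215, e3 q6348 (flp_d L160718) q10218, e3 q6349 L160740 q10222, e3 q6350 (flp_d L111193) q3757, e3 q6351 (flp_d L160772) q10226, e3 q6352 (flp_d L160778) q10227, e3 q6353 L160790 q10230, e3 q6354 L111217 q3917, e3 q6355 L111221 q3759, e3 q6356 L111225 q3760, e3 q6357 (flp_d L118531) q7429, e3 q6358 (flp_d L160818) q10236, e3 q6359 (flp_d L160826) q10237, e3 q6360 (flp_d L118521) q7427, e3 q6361 (flp_d L118537) q7430, e3 q6362 L111261 q3933, e3 q6363 L111267 q3765, e3 q6364 L160904 q10251, e3 q6365 L111273 q3766, e3 q6366 (flp_d L160890) q10248, e3 q6367 (flp_d L160900) q10250, e3 q6368 (flp_d L160914) q10253, e3 q6369 L160936 q10257, e3 q6370 (flp_d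 L111305) q3767, e3 q6371 (flp_d L160968) q10261, e3 q6372 (flp_d L160974) q10262, e3 q6373 L160990 q10265, e3 q6374 L111333 q4766, e3 q6375 L111337 q3769, e3 q6376 L111343 q3770, e3 q6377 (flp_d L161026) q10271, e3 q6378 (flp_d L161034) q10272, e3 q6379 L161050 q10275, e3 q6380 (flp_d L111369) q3772, e3 q6381 (flp_d L161082) q10279, e3 q6382 (flp_d L161088) q10280, e3 q6383 L161104 q10283, e3 q6384 L111397 q4804, e3 q6385 L111401 q3774, e3 q6386 L111407 q3775, e3 q6387 (flp_d L161140) q10289, e3 q6388 (flp_d L161148) q10290, e3 q6389 L161164 q10293, e3 q6390 L111437 q4424, e3 q6391 L161178 q10295, e3 q6392 L111449 q4427, e3 q6393 L153550 q9186, e3 q6394 (flp_d L155356) q9425, e3 q6395 (flp_d L155362) q9426, e3 q6396 L153862 q9226, e3 q6397 (flp_d L155368) q9427, e3 q6398 (flp_d L155374) q9428, e3 q6399 L111475 q4449, trivial⟩ (by decide +kernel)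

theorem ce_d_100 : ∀ r, r < 64 → sm gd (Qf (6400 + r)) = Qf (tab Gen.d (6400 + r)) :=
  edges_tab (sm gd) Qf (tab Gen.d) 6400 [(6400, 7900), (6401, 4457), (6402, 7738), (6403, 4464), (6404, 4475), (6405, 5139), (6406, 10301), (6407, 3794), (6408, 9896), (6409, 10304), (6410, 4488), (6411, 4489), (6412, 10308), (6413, 3797), (6414, 8553), (6415, 10312), (6416, 10027), (6417, 9352), (6418, 4596), (6419, 10032), (6420, 3802), (6421, 10316), (6422, 8154), (6423, 8190), (6424, 4504), (6425, 10324), (6426, 3804), (6427, 10325), (6428, 10328), (6429, 6002), (6430, 3807), (6431, 10332), (6432, 7559), (6433, 10046), (6434, 3810), (6435, 10336), (6436, 5158), (6437, 10338), (6438, 3813), (6439, 10341), (6440, 9913), (6441, 4523), (6442, 4524), (6443, 10345), (6444, 3816), (6445, 10349), (6446, 8562), (6447, 10061), (6448, 9353), (6449, 4696), (6450, 10066), (6451, 3821), (6452, 10353), (6453, 8133), (6454, 8160), (6455, 4539), (6456, 10361), (6457, 3823), (6458, 10362), (6459, 10327), (6460, 6008), (6461, 3826), (6462, 10367),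 (6463, 7604)]
    ⟨e3 q6400 (flp_d L163973) q7900, e3 q6401 L111501 q4457, e3 q6402 (flp_d L163987) q7738, e3 q6403 L111517 q4464, e3 q6404 L111529 q4475, e3 q6405 (flp_d L120416) q5139, e3 q6406 L161240 q10301, e3 q6407 (flp_d L111575) q3794, e3 q6408 (flp_d L158531) q9896, e3 q6409 (flp_d L161274) q10304, e3 q6410 L111589 q4488, e3 q6411 L111599 q4489, e3 q6412 L161296 q10308, e3 q6413 (flp_d L111609) q3797, e3 q6414 (flp_d L143703) q8553, e3 q6415 (flp_d L161326) q10312, e3 q6416 (flp_d L159507) q10027, e3 q6417 (flp_d L154778) q9352, e3 q6418 L111641 q4596, e3 q6419 (flp_d L159531) q10032, e3 q6420 L111651 q3802, e3 q6421 (flp_d L161350) q10316, e3 q6422 (flp_d L163256) q8154, e3 q6423 (flp_d L163511) q8190, e3 q6424 L111663 q4504, e3 q6425 L161404 q10324, e3 q6426 (flp_d L111675) q3804, e3 q6427 (flp_d L161420) q10325, e3 q6428 L161434 q10328, e3 q6429 L163192 q6002, e3 q6430 (flp_d L111689) q3807, e3 q6431 (flp_d L161458) q10332, e3 q6432 L121248 q7559, e3 q6433 (flp_d L159607) q10046, e3 q6434 L111707 q3810,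 e3 q6435 (flp_d L161484) q10336, e3 q6436 L150227 q5158, e3 q6437 L161491 q10338, e3 q6438 (flp_d L111729) q3813, e3 q6439 (flp_d L161525) q10341, e3 q6440 (flp_d L158658) q9913, e3 q6441 L111741 q4523, e3 q6442 L111751 q4524, e3 q6443 L161547 q10345, e3 q6444 (flp_d L111759) q3816, e3 q6445 (flp_d L161577) q10349, e3 q6446 L150974 q8562, e3 q6447 (flp_d L159707) q10061, e3 q6448 (flp_d L154788) q9353, e3 q6449 L111787 q4696, e3 q6450 (flp_d L159731) q10066, e3 q6451 L111797 q3821, e3 q6452 (flp_d L161601) q10353, e3 q6453 (flp_d L163465) q8133, e3 q6454 (flp_d L163645) q8160, e3 q6455 L111809 q4539, e3 q6456 L161655 q10361, e3 q6457 (flp_d L111821) q3823, e3 q6458 (flp_d L161671) q10362, e3 q6459 (flp_d L163194) q10327, e3 q6460 (flp_d L163299) q6008, e3 q6461 (flp_d L111835) q3826, e3 q6462 (flp_d L161709) q10367, e3 q6463 L121579 q7604, trivial⟩ (by decide +kernel)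

theorem ce_d_101 : ∀ r, r < 64 → sm gd (Qf (6464 + r)) = Qf (tab Gen.d (6464 + r)) :=
  edges_tab (sm gd) Qf (tab Gen.d) 6464 [(6464, 10080), (6465, 3829), (6466, 10371), (6467, 4556), (6468, 6003), (6469, 4567), (6470, 10121), (6471, 3838), (6472, 10373), (6473, 10128), (6474, 3841), (6475, 10376), (6476, 10381), (6477, 10378), (6478, 4586), (6479, 9717), (6480, 4588), (6481, 3843), (6482, 9715), (6483, 4433), (6484, 4125), (6485, 7464), (6486, 3846), (6487, 10386), (6488, 4499), (6489, 10140), (6490, 10141), (6491, 3851), (6492, 3853), (6493, 10390), (6494, 6602), (6495, 10391), (6496, 10401), (6497, 10392), (6498, 10405), (6499, 3855), (6500, 6740), (6501, 4628), (6502, 4657), (6503, 6009), (6504, 10154), (6505, 3863), (6506, 10407), (6507, 10161), (6508, 3867), (6509, 10410), (6510, 10415), (6511, 10412), (6512, 4687), (6513, 9725), (6514, 3869), (6515, 9723), (6516, 4434), (6517, 4126), (6518, 7462), (6519, 3872), (6520, 10420), (6521, 4534), (6522, 10173), (6523, 10174), (6524, 3877), (6525, 3879), (6526,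 10424), (6527, 6563)]
    ⟨e3 q6464 (flp_d L159807) q10080, e3 q6465 L111853 q3829, e3 q6466 (flp_d L161735) q10371, e3 q6467 L111865 q4556, e3 q6468 L151317 q6003, e3 q6469 L111879 q4567, e3 q6470 (flp_d L160090) q10121, e3 q6471 L111906 q3838, e3 q6472 (flp_d L161744) q10373, e3 q6473 (flp_d L160148) q10128, e3 q6474 L111922 q3841, e3 q6475 (flp_d L161762) q10376, e3 q6476 L161786 q10381, e3 q6477 (flp_d L161770) q10378, e3 q6478 L111936 q4586, e3 q6479 (flp_d L157421) q9717, e3 q6480 L111952 q4588, e3 q6481 (flp_d L111958) q3843, e3 q6482 (flp_d L157403) q9715, e3 q6483 L119214 q4433, e3 q6484 L119183 q4125, e3 q6485 (flp_d L119747) q7464, e3 q6486 (flp_d L111984) q3846, e3 q6487 (flp_d L161838) q10386, e3 q6488 L112000 q4499, e3 q6489 (flp_d L160230) q10140, e3 q6490 (flp_d L160240) q10141, e3 q6491 L112020 q3851, e3 q6492 L112034 q3853, e3 q6493 (flp_d L161872) q10390, e3 q6494 (flp_d L149792) q6602, e3 q6495 (flp_d L161880) q10391, e3 q6496 L161928 q10401, e3 q6497 (flp_d L161884) q10392, e3 q6498 L161948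 q10405, e3 q6499 (flp_d L112056) q3855, e3 q6500 (flp_d L163536) q6740, e3 q6501 L112066 q4628, e3 q6502 L112072 q4657, e3 q6503 L151228 q6009, e3 q6504 (flp_d L160320) q10154, e3 q6505 L112098 q3863, e3 q6506 (flp_d L161974) q10407, e3 q6507 (flp_d L160378) q10161, e3 q6508 L112121 q3867, e3 q6509 (flp_d L161992) q10410, e3 q6510 L162016 q10415, e3 q6511 (flp_d L162000) q10412, e3 q6512 L112172 q4687, e3 q6513 (flp_d L157503) q9725, e3 q6514 (flp_d L112188) q3869, e3 q6515 (flp_d L157485) q9723, e3 q6516 L148325 q4434, e3 q6517 L148287 q4126, e3 q6518 L148303 q7462, e3 q6519 (flp_d L112214) q3872, e3 q6520 (flp_d L162068) q10420, e3 q6521 L112230 q4534, e3 q6522 (flp_d L160460) q10173, e3 q6523 (flp_d L160470) q10174, e3 q6524 L112250 q3877, e3 q6525 L112264 q3879, e3 q6526 (flp_d L162106) q10424, e3 q6527 (flp_d L149798) q6563, trivial⟩ (by decide +kernel)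

theorem ce_d_102 : ∀ r, r < 64 → sm gd (Qf (6528 + r)) = Qf (tab Gen.d (6528 + r)) :=
  edges_tab (sm gd) Qf (tab Gen.d) 6528 [(6528, 10425), (6529, 10435), (6530, 10426), (6531, 10439), (6532, 3881), (6533, 6814), (6534, 4728), (6535, 5524), (6536, 6617), (6537, 10190), (6538, 3885), (6539, 3886), (6540, 8947), (6541, 10446), (6542, 10449), (6543, 6620), (6544, 10199), (6545, 10200), (6546, 3891), (6547, 3892), (6548, 3893), (6549, 10455), (6550, 10456), (6551, 10457), (6552, 10458), (6553, 7397), (6554, 3896), (6555, 10464), (6556, 8559), (6557, 9006), (6558, 5092), (6559, 6614), (6560, 3903), (6561, 8373), (6562, 6615), (6563, 6527), (6564, 6616), (6565, 10210), (6566, 10480), (6567, 10212), (6568, 3909), (6569, 3939), (6570, 3911), (6571, 9102), (6572, 10483), (6573, 10485), (6574, 5567), (6575, 6665), (6576, 10225), (6577, 3914), (6578, 3915), (6579, 10496), (6580, 9015), (6581, 10499), (6582, 6667), (6583, 10234), (6584, 10235), (6585, 3920), (6586, 3921), (6587, 3922), (6588, 10505), (6589, 10506), (6590,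 10507), (6591, 10508)]
    ⟨e3 q6528 (flp_d L162114) q10425, e3 q6529 L162156 q10435, e3 q6530 (flp_d L162118) q10426, e3 q6531 L162176 q10439, e3 q6532 (flp_d L112286) q3881, e3 q6533 (flp_d L163710) q6814, e3 q6534 L112296 q4728, e3 q6535 L120301 q5524, e3 q6536 (flp_d L112938) q6617, e3 q6537 (flp_d L160570) q10190, e3 q6538 L112332 q3885, e3 q6539 L112338 q3886, e3 q6540 (flp_d L151840) q8947, e3 q6541 (flp_d L162238) q10446, e3 q6542 L162257 q10449, e3 q6543 (flp_d L112958) q6620, e3 q6544 (flp_d L160610) q10199, e3 q6545 (flp_d L160616) q10200, e3 q6546 L112366 q3891, e3 q6547 L112372 q3892, e3 q6548 L112380 q3893, e3 q6549 (flp_d L162307) q10455, e3 q6550 (flp_d L162313) q10456, e3 q6551 (flp_d L162325) q10457, e3 q6552 (flp_d L162331) q10458, e3 q6553 (flp_d L118338) q7397, e3 q6554 L112400 q3896, e3 q6555 (flp_d L162356) q10464, e3 q6556 L146080 q8559, e3 q6557 (flp_d L152198) q9006, e3 q6558 (flp_d L119314) q5092, e3 q6559 (flp_d L112896) q6614, e3 q6560 L112468 q3903, e3 q6561 (flp_d L130038) q8373, e3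 q6562 (flp_d L112910) q6615, e3 q6563 L149798 q6527, e3 q6564 (flp_d L112918) q6616, e3 q6565 (flp_d L160676) q10210, e3 q6566 L162446 q10480, e3 q6567 (flp_d L160686) q10212, e3 q6568 L112504 q3909, e3 q6569 L149130 q3939, e3 q6570 L112528 q3911, e3 q6571 (flp_d L152832) q9102, e3 q6572 (flp_d L162466) q10483, e3 q6573 (flp_d L162476) q10485, e3 q6574 L150890 q5567, e3 q6575 (flp_d L113366) q6665, e3 q6576 (flp_d L160766) q10225, e3 q6577 L112576 q3914, e3 q6578 L112582 q3915, e3 q6579 (flp_d L162556) q10496, e3 q6580 (flp_d L152290) q9015, e3 q6581 L162575 q10499, e3 q6582 (flp_d L113382) q6667, e3 q6583 (flp_d L160806) q10234, e3 q6584 (flp_d L160812) q10235, e3 q6585 L112610 q3920, e3 q6586 L112616 q3921, e3 q6587 L112624 q3922, e3 q6588 (flp_d L162627) q10505, e3 q6589 (flp_d L162639) q10506, e3 q6590 (flp_d L162645) q10507, e3 q6591 (flp_d L162649) q10508, trivial⟩ (by decide +kernel)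

theorem ce_d_103 : ∀ r, r < 64 → sm gd (Qf (6592 + r)) = Qf (tab Gen.d (6592 + r)) :=
  edges_tab (sm gd) Qf (tab Gen.d) 6592 [(6592, 7428), (6593, 3925), (6594, 10514), (6595, 8568), (6596, 9068), (6597, 5093), (6598, 6662), (6599, 3931), (6600, 8365), (6601, 6663), (6602, 6494), (6603, 6664), (6604, 10245), (6605, 10529), (6606, 10247), (6607, 3937), (6608, 10531), (6609, 9156), (6610, 10484), (6611, 3940), (6612, 10538), (6613, 6863), (6614, 6559), (6615, 6562), (6616, 6564), (6617, 6536), (6618, 8451), (6619, 5102), (6620, 6543), (6621, 10545), (6622, 3948), (6623, 3946), (6624, 10547), (6625, 3949), (6626, 10549), (6627, 10550), (6628, 3955), (6629, 3956), (6630, 5377), (6631, 3953), (6632, 3954), (6633, 10555), (6634, 10556), (6635, 10557), (6636, 10553), (6637, 8530), (6638, 10564), (6639, 8898), (6640, 8495), (6641, 3959), (6642, 10567), (6643, 9057), (6644, 3966), (6645, 3963), (6646, 10571), (6647, 10575), (6648, 8546), (6649, 10578), (6650, 8524), (6651, 3965), (6652, 10582), (6653, 10570), (6654, 3967),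 (6655, 10586)]
    ⟨e3 q6592 (flp_d L118527) q7428, e3 q6593 L112644 q3925, e3 q6594 (flp_d L162674) q10514, e3 q6595 L151431 q8568, e3 q6596 (flp_d L152614) q9068, e3 q6597 L146515 q5093, e3 q6598 (flp_d L113318) q6662, e3 q6599 L112712 q3931, e3 q6600 (flp_d L149011) q8365, e3 q6601 (flp_d L113338) q6663, e3 q6602 L149792 q6494, e3 q6603 (flp_d L113346) q6664, e3 q6604 (flp_d L160872) q10245, e3 q6605 L162758 q10529, e3 q6606 (flp_d L160882) q10247, e3 q6607 L112748 q3937, e3 q6608 (flp_d L162768) q10531, e3 q6609 (flp_d L153247) q9156, e3 q6610 (flp_d L162470) q10484, e3 q6611 (flp_d L112796) q3940, e3 q6612 (flp_d L162827) q10538, e3 q6613 L142814 q6863, e3 q6614 L112896 q6559, e3 q6615 L112910 q6562, e3 q6616 L112918 q6564, e3 q6617 L112938 q6536, e3 q6618 (flp_d L142913) q8451, e3 q6619 (flp_d L120400) q5102, e3 q6620 L112958 q6543, e3 q6621 L162905 q10545, e3 q6622 L112982 q3948, e3 q6623 (flp_d L112984) q3946, e3 q6624 (flp_d L162929) q10547, e3 q6625 (flp_d L113008) q3949, e3 q6626 (flp_d L162947) q10549,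 e3 q6627 (flp_d L162955) q10550, e3 q6628 L113024 q3955, e3 q6629 L113030 q3956, e3 q6630 (flp_d L120355) q5377, e3 q6631 L113048 q3953, e3 q6632 L113052 q3954, e3 q6633 (flp_d L162997) q10555, e3 q6634 (flp_d L163005) q10556, e3 q6635 (flp_d L163017) q10557, e3 q6636 (flp_d L162977) q10553, e3 q6637 (flp_d L143551) q8530, e3 q6638 L163077 q10564, e3 q6639 L146056 q8898, e3 q6640 (flp_d L143297) q8495, e3 q6641 L113100 q3959, e3 q6642 (flp_d L163097) q10567, e3 q6643 (flp_d L152536) q9057, e3 q6644 L113120 q3966, e3 q6645 L113130 q3963, e3 q6646 (flp_d L164011) q10571, e3 q6647 L164035 q10575, e3 q6648 (flp_d L143645) q8546, e3 q6649 L164063 q10578, e3 q6650 (flp_d L143497) q8524, e3 q6651 (flp_d L113160) q3965, e3 q6652 (flp_d L164087) q10582, e3 q6653 (flp_d L163123) q10570, e3 q6654 (flp_d L113186) q3967, e3 q6655 L164117 q10586, trivial⟩ (by decide +kernel)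

theorem ce_d_104 : ∀ r, r < 64 → sm gd (Qf (6656 + r)) = Qf (tab Gen.d (6656 + r)) :=
  edges_tab (sm gd) Qf (tab Gen.d) 6656 [(6656, 3968), (6657, 3998), (6658, 10584), (6659, 3970), (6660, 10593), (6661, 6884), (6662, 6598), (6663, 6601), (6664, 6603), (6665, 6575), (6666, 8462), (6667, 6582), (6668, 5109), (6669, 10600), (6670, 3977), (6671, 3976), (6672, 10602), (6673, 3979), (6674, 10604), (6675, 10605), (6676, 3985), (6677, 3987), (6678, 5378), (6679, 3983), (6680, 3984), (6681, 10609), (6682, 10610), (6683, 8501), (6684, 10616), (6685, 8892), (6686, 3989), (6687, 10618), (6688, 8994), (6689, 3996), (6690, 3993), (6691, 10622), (6692, 10625), (6693, 8516), (6694, 10628), (6695, 3995), (6696, 10631), (6697, 10621), (6698, 3997), (6699, 10590), (6700, 10633), (6701, 4004), (6702, 10637), (6703, 4008), (6704, 4010), (6705, 4015), (6706, 6866), (6707, 4005), (6708, 10647), (6709, 5678), (6710, 4102), (6711, 10639), (6712, 6865), (6713, 6718), (6714, 10640), (6715, 10642), (6716, 4011), (6717, 4014), (6718, 6713),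 (6719, 10655)]
    ⟨e3 q6656 (flp_d L113194) q3968, e3 q6657 L113212 q3998, e3 q6658 (flp_d L164109) q10584, e3 q6659 (flp_d L113224) q3970, e3 q6660 (flp_d L164174) q10593, e3 q6661 L142734 q6884, e3 q6662 L113318 q6598, e3 q6663 L113338 q6601, e3 q6664 L113346 q6603, e3 q6665 L113366 q6575, e3 q6666 (flp_d L149582) q8462, e3 q6667 L113382 q6582, e3 q6668 L148492 q5109, e3 q6669 L164236 q10600, e3 q6670 L113402 q3977, e3 q6671 (flp_d L113412) q3976, e3 q6672 (flp_d L164260) q10602, e3 q6673 (flp_d L113436) q3979, e3 q6674 (flp_d L164276) q10604, e3 q6675 (flp_d L164286) q10605, e3 q6676 L113452 q3985, e3 q6677 L113468 q3987, e3 q6678 L146193 q5378, e3 q6679 L113476 q3983, e3 q6680 L113480 q3984, e3 q6681 (flp_d L164320) q10609, e3 q6682 (flp_d L164332) q10610, e3 q6683 (flp_d L150780) q8501, e3 q6684 L164388 q10616, e3 q6685 (flp_d L149598) q8892, e3 q6686 L113528 q3989, e3 q6687 (flp_d L164402) q10618, e3 q6688 (flp_d L152110) q8994, e3 q6689 L113548 q3996, e3 q6690 L113558 q3993, e3 q6691 (flp_d L164436) q10622,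 e3 q6692 L164450 q10625, e3 q6693 L147439 q8516, e3 q6694 L164474 q10628, e3 q6695 (flp_d L113588) q3995, e3 q6696 (flp_d L164490) q10631, e3 q6697 (flp_d L164428) q10621, e3 q6698 (flp_d L113614) q3997, e3 q6699 (flp_d L164147) q10590, e3 q6700 (flp_d L164512) q10633, e3 q6701 L113630 q4004, e3 q6702 L164534 q10637, e3 q6703 L113647 q4008, e3 q6704 L113675 q4010, e3 q6705 L113713 q4015, e3 q6706 (flp_d L120441) q6866, e3 q6707 (flp_d L113731) q4005, e3 q6708 (flp_d L164609) q10647, e3 q6709 L120443 q5678, e3 q6710 L119915 q4102, e3 q6711 (flp_d L164547) q10639, e3 q6712 L120375 q6865, e3 q6713 (flp_d L120445) q6718, e3 q6714 (flp_d L164555) q10640, e3 q6715 (flp_d L164562) q10642, e3 q6716 (flp_d L113827) q4011, e3 q6717 L113845 q4014, e3 q6718 L120445 q6713, e3 q6719 (flp_d L164675) q10655, trivial⟩ (by decide +kernel)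

theorem ce_d_105 : ∀ r, r < 64 → sm gd (Qf (6720 + r)) = Qf (tab Gen.d (6720 + r)) :=
  edges_tab (sm gd) Qf (tab Gen.d) 6720 [(6720, 7932), (6721, 7728), (6722, 10643), (6723, 6789), (6724, 10645), (6725, 9347), (6726, 5421), (6727, 4017), (6728, 5424), (6729, 9351), (6730, 9345), (6731, 10668), (6732, 4025), (6733, 4022), (6734, 7725), (6735, 4024), (6736, 10672), (6737, 7934), (6738, 10674), (6739, 4023), (6740, 6500), (6741, 10671), (6742, 10669), (6743, 10650), (6744, 9323), (6745, 6117), (6746, 9341), (6747, 9342), (6748, 10686), (6749, 4027), (6750, 8943), (6751, 9346), (6752, 10678), (6753, 8944), (6754, 5690), (6755, 8472), (6756, 5693), (6757, 5688), (6758, 8469), (6759, 5681), (6760, 5683), (6761, 10697), (6762, 4036), (6763, 4042), (6764, 10702), (6765, 4038), (6766, 10707), (6767, 4039), (6768, 10377), (6769, 10711), (6770, 10700), (6771, 4924), (6772, 10717), (6773, 8064), (6774, 4044), (6775, 10719), (6776, 10721), (6777, 4050), (6778, 10724), (6779, 4053), (6780, 4056), (6781, 4065), (6782, 6887),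 (6783, 4051)]
    ⟨e3 q6720 L163499 q7932, e3 q6721 L163544 q7728, e3 q6722 (flp_d L164572) q10643, e3 q6723 L149756 q6789, e3 q6724 (flp_d L164585) q10645, e3 q6725 (flp_d L154740) q9347, e3 q6726 L153447 q5421, e3 q6727 (flp_d L113897) q4017, e3 q6728 L153455 q5424, e3 q6729 (flp_d L154768) q9351, e3 q6730 (flp_d L154728) q9345, e3 q6731 L164761 q10668, e3 q6732 L113939 q4025, e3 q6733 L113945 q4022, e3 q6734 (flp_d L163582) q7725, e3 q6735 L113951 q4024, e3 q6736 (flp_d L164789) q10672, e3 q6737 (flp_d L163659) q7934, e3 q6738 (flp_d L164809) q10674, e3 q6739 (flp_d L113971) q4023, e3 q6740 L163536 q6500, e3 q6741 (flp_d L164781) q10671, e3 q6742 (flp_d L164765) q10669, e3 q6743 (flp_d L164641) q10650, e3 q6744 (flp_d L154550) q9323, e3 q6745 (flp_d L157475) q6117, e3 q6746 (flp_d L154698) q9341, e3 q6747 (flp_d L154704) q9342, e3 q6748 L164919 q10686, e3 q6749 (flp_d L114021) q4027, e3 q6750 (flp_d L153473) q8943, e3 q6751 (flp_d L154734) q9346, e3 q6752 (flp_d L164851) q10678, e3 q6753 (flp_d L153475) q8944,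 e3 q6754 L114059 q5690, e3 q6755 (flp_d L143037) q8472, e3 q6756 L114069 q5693, e3 q6757 L114075 q5688, e3 q6758 (flp_d L143021) q8469, e3 q6759 L114085 q5681, e3 q6760 L114101 q5683, e3 q6761 L164995 q10697, e3 q6762 (flp_d L114109) q4036, e3 q6763 L114115 q4042, e3 q6764 L165017 q10702, e3 q6765 (flp_d L114141) q4038, e3 q6766 L165043 q10707, e3 q6767 (flp_d L114147) q4039, e3 q6768 (flp_d L163750) q10377, e3 q6769 (flp_d L165061) q10711, e3 q6770 (flp_d L165011) q10700, e3 q6771 L114163 q4924, e3 q6772 L165098 q10717, e3 q6773 L142778 q8064, e3 q6774 L114177 q4044, e3 q6775 (flp_d L165114) q10719, e3 q6776 (flp_d L165128) q10721, e3 q6777 L114197 q4050, e3 q6778 L165144 q10724, e3 q6779 L114210 q4053, e3 q6780 L114238 q4056, e3 q6781 L114284 q4065, e3 q6782 (flp_d L148556) q6887, e3 q6783 (flp_d L114298) q4051, trivial⟩ (by decide +kernel)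

theorem ce_d_106 : ∀ r, r < 64 → sm gd (Qf (6784 + r)) = Qf (tab Gen.d (6784 + r)) :=
  edges_tab (sm gd) Qf (tab Gen.d) 6784 [(6784, 10732), (6785, 5717), (6786, 10726), (6787, 6886), (6788, 4118), (6789, 6723), (6790, 10727), (6791, 10703), (6792, 4057), (6793, 4059), (6794, 10739), (6795, 7778), (6796, 7890), (6797, 9304), (6798, 5405), (6799, 4062), (6800, 5408), (6801, 9308), (6802, 9302), (6803, 10750), (6804, 10728), (6805, 10730), (6806, 4071), (6807, 4068), (6808, 7887), (6809, 4070), (6810, 10756), (6811, 7780), (6812, 10758), (6813, 4069), (6814, 6533), (6815, 10755), (6816, 10753), (6817, 10737), (6818, 9271), (6819, 6079), (6820, 9299), (6821, 9300), (6822, 10770), (6823, 4073), (6824, 8927), (6825, 9305), (6826, 10762), (6827, 8928), (6828, 5725), (6829, 8461), (6830, 5728), (6831, 5723), (6832, 8458), (6833, 5718), (6834, 5686), (6835, 10781), (6836, 4082), (6837, 4088), (6838, 10654), (6839, 4084), (6840, 10789), (6841, 4085), (6842, 10793), (6843, 10411), (6844, 10784), (6845, 4905), (6846, 10798),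 (6847, 8108)]
    ⟨e3 q6784 (flp_d L165220) q10732, e3 q6785 L148432 q5717, e3 q6786 (flp_d L165157) q10726, e3 q6787 L146460 q6886, e3 q6788 L146454 q4118, e3 q6789 (flp_d L149756) q6723, e3 q6790 (flp_d L165173) q10727, e3 q6791 (flp_d L165027) q10703, e3 q6792 (flp_d L114388) q4057, e3 q6793 L114400 q4059, e3 q6794 (flp_d L165284) q10739, e3 q6795 (flp_d L163746) q7778, e3 q6796 L163718 q7890, e3 q6797 (flp_d L154370) q9304, e3 q6798 L153004 q5405, e3 q6799 (flp_d L114450) q4062, e3 q6800 L153012 q5408, e3 q6801 (flp_d L154390) q9308, e3 q6802 (flp_d L154358) q9302, e3 q6803 L165356 q10750, e3 q6804 (flp_d L165179) q10728, e3 q6805 (flp_d L165196) q10730, e3 q6806 L114500 q4071, e3 q6807 L114506 q4068, e3 q6808 (flp_d L163744) q7887, e3 q6809 L114512 q4070, e3 q6810 (flp_d L165398) q10756, e3 q6811 (flp_d L163742) q7780, e3 q6812 (flp_d L165422) q10758, e3 q6813 (flp_d L114532) q4069, e3 q6814 L163710 q6533, e3 q6815 (flp_d L165390) q10755, e3 q6816 (flp_d L165374) q10753, e3 q6817 (flp_d L165270) q10737, e3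 q6818 (flp_d L154500) q9271, e3 q6819 (flp_d L157393) q6079, e3 q6820 (flp_d L154340) q9299, e3 q6821 (flp_d L154344) q9300, e3 q6822 L165540 q10770, e3 q6823 (flp_d L114582) q4073, e3 q6824 (flp_d L153034) q8927, e3 q6825 (flp_d L154374) q9305, e3 q6826 (flp_d L165464) q10762, e3 q6827 (flp_d L153036) q8928, e3 q6828 L114620 q5725, e3 q6829 L149021 q8461, e3 q6830 L114630 q5728, e3 q6831 L114636 q5723, e3 q6832 L149019 q8458, e3 q6833 L114646 q5718, e3 q6834 (flp_d L150556) q5686, e3 q6835 L165616 q10781, e3 q6836 (flp_d L114670) q4082, e3 q6837 L114680 q4088, e3 q6838 (flp_d L164667) q10654, e3 q6839 (flp_d L114706) q4084, e3 q6840 L165672 q10789, e3 q6841 (flp_d L114714) q4085, e3 q6842 (flp_d L165696) q10793, e3 q6843 (flp_d L163832) q10411, e3 q6844 (flp_d L165638) q10784, e3 q6845 L114730 q4905, e3 q6846 L165730 q10798, e3 q6847 (flp_d L142802) q8108, trivial⟩ (by decide +kernel)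

theorem ce_d_107 : ∀ r, r < 64 → sm gd (Qf (6848 + r)) = Qf (tab Gen.d (6848 + r)) :=
  edges_tab (sm gd) Qf (tab Gen.d) 6848 [(6848, 4090), (6849, 10800), (6850, 10802), (6851, 7639), (6852, 4092), (6853, 10806), (6854, 4098), (6855, 4094), (6856, 10808), (6857, 7530), (6858, 7632), (6859, 4096), (6860, 4097), (6861, 10812), (6862, 10813), (6863, 6613), (6864, 5823), (6865, 6712), (6866, 6706), (6867, 5671), (6868, 5673), (6869, 5676), (6870, 5680), (6871, 5659), (6872, 7804), (6873, 4108), (6874, 10827), (6875, 4114), (6876, 4110), (6877, 10829), (6878, 7576), (6879, 7797), (6880, 4112), (6881, 4113), (6882, 10833), (6883, 10834), (6884, 6661), (6885, 5826), (6886, 6787), (6887, 6782), (6888, 5710), (6889, 5712), (6890, 5715), (6891, 5626), (6892, 5719), (6893, 8621), (6894, 10848), (6895, 8623), (6896, 8624), (6897, 10851), (6898, 8626), (6899, 4132), (6900, 4133), (6901, 4134), (6902, 4135), (6903, 10857), (6904, 10854), (6905, 10387), (6906, 10862), (6907, 10856), (6908, 10421), (6909, 4140), (6910, 10869),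 (6911, 4142)]
    ⟨e3 q6848 L114750 q4090, e3 q6849 (flp_d L165746) q10800, e3 q6850 (flp_d L165762) q10802, e3 q6851 (flp_d L121795) q7639, e3 q6852 (flp_d L114818) q4092, e3 q6853 (flp_d L165792) q10806, e3 q6854 L114840 q4098, e3 q6855 (flp_d L114855) q4094, e3 q6856 (flp_d L165810) q10808, e3 q6857 (flp_d L121084) q7530, e3 q6858 L121745 q7632, e3 q6859 L114880 q4096, e3 q6860 L114885 q4097, e3 q6861 (flp_d L165832) q10812, e3 q6862 (flp_d L165842) q10813, e3 q6863 (flp_d L142814) q6613, e3 q6864 L120461 q5823, e3 q6865 (flp_d L120375) q6712, e3 q6866 L120441 q6706, e3 q6867 L114953 q5671, e3 q6868 L114965 q5673, e3 q6869 L114973 q5676, e3 q6870 L114977 q5680, e3 q6871 (flp_d L149636) q5659, e3 q6872 (flp_d L122694) q7804, e3 q6873 (flp_d L114991) q4108, e3 q6874 (flp_d L165961) q10827, e3 q6875 L115013 q4114, e3 q6876 (flp_d L115028) q4110, e3 q6877 (flp_d L165981) q10829, e3 q6878 L150882 q7576, e3 q6879 L122647 q7797, e3 q6880 L115053 q4112, e3 q6881 L115057 q4113, e3 q6882 (flp_d L166005) q10833, e3 q6883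 (flp_d L166025) q10834, e3 q6884 (flp_d L142734) q6661, e3 q6885 L129586 q5826, e3 q6886 (flp_d L146460) q6787, e3 q6887 L148556 q6782, e3 q6888 L115126 q5710, e3 q6889 L115134 q5712, e3 q6890 L115142 q5715, e3 q6891 (flp_d L149257) q5626, e3 q6892 L115154 q5719, e3 q6893 (flp_d L144285) q8621, e3 q6894 L166142 q10848, e3 q6895 (flp_d L144307) q8623, e3 q6896 (flp_d L144311) q8624, e3 q6897 L166158 q10851, e3 q6898 (flp_d L144331) q8626, e3 q6899 L115236 q4132, e3 q6900 L115244 q4133, e3 q6901 L115250 q4134, e3 q6902 L115259 q4135, e3 q6903 L166198 q10857, e3 q6904 (flp_d L166175) q10854, e3 q6905 (flp_d L161850) q10387, e3 q6906 L166246 q10862, e3 q6907 (flp_d L166191) q10856, e3 q6908 (flp_d L162082) q10421, e3 q6909 L115303 q4140, e3 q6910 L166312 q10869, e3 q6911 L115315 q4142, trivial⟩ (by decide +kernel)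

theorem ce_d_108 : ∀ r, r < 64 → sm gd (Qf (6912 + r)) = Qf (tab Gen.d (6912 + r)) :=
  edges_tab (sm gd) Qf (tab Gen.d) 6912 [(6912, 4143), (6913, 4144), (6914, 10877), (6915, 4146), (6916, 4147), (6917, 10867), (6918, 10883), (6919, 4141), (6920, 10884), (6921, 10871), (6922, 10872), (6923, 10887), (6924, 10874), (6925, 10875), (6926, 10890), (6927, 4145), (6928, 10891), (6929, 10879), (6930, 10880), (6931, 10894), (6932, 10882), (6933, 10897), (6934, 4148), (6935, 10898), (6936, 10899), (6937, 4150), (6938, 4151), (6939, 10900), (6940, 10901), (6941, 10902), (6942, 10903), (6943, 4154), (6944, 4155), (6945, 10908), (6946, 10916), (6947, 10910), (6948, 10911), (6949, 10920), (6950, 10913), (6951, 4162), (6952, 10924), (6953, 4164), (6954, 4157), (6955, 10929), (6956, 4167), (6957, 4168), (6958, 10934), (6959, 4170), (6960, 4160), (6961, 10939), (6962, 4173), (6963, 10922), (6964, 10923), (6965, 8307), (6966, 4163), (6967, 10944), (6968, 10926), (6969, 10947), (6970, 4469), (6971, 4166), (6972, 10950), (6973,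 10951), (6974, 10932), (6975, 10933)]
    ⟨e3 q6912 L115319 q4143, e3 q6913 L115323 q4144, e3 q6914 L166362 q10877, e3 q6915 L115333 q4146, e3 q6916 L115337 q4147, e3 q6917 (flp_d L166296) q10867, e3 q6918 L166394 q10883, e3 q6919 (flp_d L115357) q4141, e3 q6920 (flp_d L166404) q10884, e3 q6921 (flp_d L166322) q10871, e3 q6922 (flp_d L166328) q10872, e3 q6923 L166420 q10887, e3 q6924 (flp_d L166340) q10874, e3 q6925 (flp_d L166346) q10875, e3 q6926 L166440 q10890, e3 q6927 (flp_d L115407) q4145, e3 q6928 (flp_d L166450) q10891, e3 q6929 (flp_d L166372) q10879, e3 q6930 (flp_d L166378) q10880, e3 q6931 L166466 q10894, e3 q6932 (flp_d L166390) q10882, e3 q6933 L166486 q10897, e3 q6934 (flp_d L115444) q4148, e3 q6935 (flp_d L166499) q10898, e3 q6936 (flp_d L166508) q10899, e3 q6937 L115461 q4150, e3 q6938 L115467 q4151, e3 q6939 (flp_d L166514) q10900, e3 q6940 (flp_d L166522) q10901, e3 q6941 (flp_d L166529) q10902, e3 q6942 (flp_d L166539) q10903, e3 q6943 L115490 q4154, e3 q6944 L115495 q4155, e3 q6945 (flp_d L166560)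 q10908, e3 q6946 L166648 q10916, e3 q6947 (flp_d L166592) q10910, e3 q6948 (flp_d L166599) q10911, e3 q6949 L166668 q10920, e3 q6950 (flp_d L166610) q10913, e3 q6951 L115517 q4162, e3 q6952 L166698 q10924, e3 q6953 L115527 q4164, e3 q6954 (flp_d L115531) q4157, e3 q6955 (flp_d L166728) q10929, e3 q6956 L115541 q4167, e3 q6957 L115547 q4168, e3 q6958 L166760 q10934, e3 q6959 L115557 q4170, e3 q6960 (flp_d L115561) q4160, e3 q6961 (flp_d L166790) q10939, e3 q6962 L115571 q4173, e3 q6963 (flp_d L166684) q10922, e3 q6964 (flp_d L166694) q10923, e3 q6965 L129400 q8307, e3 q6966 (flp_d L115593) q4163, e3 q6967 (flp_d L166820) q10944, e3 q6968 (flp_d L166714) q10926, e3 q6969 L166838 q10947, e3 q6970 L115618 q4469, e3 q6971 L115622 q4166, e3 q6972 (flp_d L166858) q10950, e3 q6973 (flp_d L166867) q10951, e3 q6974 (flp_d L166742) q10932, e3 q6975 (flp_d L166752) q10933, trivial⟩ (by decide +kernel)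

theorem ce_d_109 : ∀ r, r < 64 → sm gd (Qf (6976 + r)) = Qf (tab Gen.d (6976 + r)) :=
  edges_tab (sm gd) Qf (tab Gen.d) 6976 [(6976, 8313), (6977, 4169), (6978, 10956), (6979, 10936), (6980, 10959), (6981, 4481), (6982, 4172), (6983, 10962), (6984, 10963), (6985, 4179), (6986, 4180), (6987, 4182), (6988, 4183), (6989, 4178), (6990, 10968), (6991, 10909), (6992, 10966), (6993, 10972), (6994, 4181), (6995, 10973), (6996, 10912), (6997, 10967), (6998, 10977), (6999, 5898), (7000, 4200), (7001, 4201), (7002, 7037), (7003, 9987), (7004, 4187), (7005, 10983), (7006, 4208), (7007, 10989), (7008, 4210), (7009, 4211), (7010, 10994), (7011, 4213), (7012, 4190), (7013, 10998), (7014, 4216), (7015, 5920), (7016, 4217), (7017, 4218), (7018, 7065), (7019, 10004), (7020, 4195), (7021, 11007), (7022, 4225), (7023, 11013), (7024, 4227), (7025, 4228), (7026, 11018), (7027, 4230), (7028, 4198), (7029, 11022), (7030, 4233), (7031, 10980), (7032, 10981), (7033, 5317), (7034, 4202), (7035, 11028), (7036, 11029), (7037, 7002), (7038,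 4495), (7039, 4204)]
    ⟨e3 q6976 (flp_d L151089) q8313, e3 q6977 (flp_d L115667) q4169, e3 q6978 (flp_d L166903) q10956, e3 q6979 (flp_d L166776) q10936, e3 q6980 L166921 q10959, e3 q6981 L115692 q4481, e3 q6982 L115696 q4172, e3 q6983 (flp_d L166941) q10962, e3 q6984 (flp_d L166950) q10963, e3 q6985 L166580 q4179, e3 q6986 L115727 q4180, e3 q6987 L166630 q4182, e3 q6988 L115747 q4183, e3 q6989 (flp_d L115750) q4178, e3 q6990 L166988 q10968, e3 q6991 L166575 q10909, e3 q6992 (flp_d L166970) q10966, e3 q6993 L167012 q10972, e3 q6994 (flp_d L115789) q4181, e3 q6995 L167022 q10973, e3 q6996 L166621 q10912, e3 q6997 (flp_d L166977) q10967, e3 q6998 L167066 q10977, e3 q6999 (flp_d L115814) q5898, e3 q7000 L115828 q4200, e3 q7001 L115834 q4201, e3 q7002 L116020 q7037, e3 q7003 (flp_d L159225) q9987, e3 q7004 L115848 q4187, e3 q7005 (flp_d L167108) q10983, e3 q7006 L115854 q4208, e3 q7007 L167146 q10989, e3 q7008 L115864 q4210, e3 q7009 L115868 q4211, e3 q7010 L167168 q10994, e3 q7011 L115878 q4213, e3 q7012 (flp_d L115882)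 q4190, e3 q7013 (flp_d L167186) q10998, e3 q7014 L115892 q4216, e3 q7015 L149206 q5920, e3 q7016 L115904 q4217, e3 q7017 L115908 q4218, e3 q7018 L116293 q7065, e3 q7019 (flp_d L159349) q10004, e3 q7020 L115930 q4195, e3 q7021 (flp_d L167246) q11007, e3 q7022 L115936 q4225, e3 q7023 L167284 q11013, e3 q7024 L115946 q4227, e3 q7025 L115950 q4228, e3 q7026 L167306 q11018, e3 q7027 L115960 q4230, e3 q7028 (flp_d L115964) q4198, e3 q7029 (flp_d L167324) q11022, e3 q7030 L115974 q4233, e3 q7031 (flp_d L167084) q10980, e3 q7032 (flp_d L167092) q10981, e3 q7033 L116080 q5317, e3 q7034 (flp_d L116000) q4202, e3 q7035 (flp_d L167371) q11028, e3 q7036 (flp_d L167383) q11029, e3 q7037 (flp_d L116020) q7002, e3 q7038 L116028 q4495, e3 q7039 (flp_d L116033) q4204, trivial⟩ (by decide +kernel)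

theorem ce_d_110 : ∀ r, r < 64 → sm gd (Qf (7040 + r)) = Qf (tab Gen.d (7040 + r)) :=
  edges_tab (sm gd) Qf (tab Gen.d) 7040 [(7040, 11032), (7041, 4500), (7042, 4207), (7043, 11037), (7044, 11036), (7045, 10987), (7046, 11042), (7047, 4209), (7048, 11045), (7049, 10992), (7050, 11048), (7051, 4212), (7052, 11053), (7053, 11055), (7054, 4515), (7055, 4215), (7056, 11059), (7057, 11060), (7058, 11001), (7059, 11004), (7060, 11005), (7061, 5337), (7062, 4219), (7063, 11066), (7064, 11067), (7065, 7018), (7066, 4530), (7067, 4221), (7068, 11070), (7069, 4535), (7070, 4224), (7071, 11075), (7072, 11074), (7073, 11011), (7074, 11080), (7075, 4226), (7076, 11083), (7077, 11016), (7078, 11086), (7079, 4229), (7080, 11091), (7081, 11093), (7082, 4550), (7083, 4232), (7084, 11097), (7085, 11098), (7086, 11025), (7087, 4282), (7088, 4283), (7089, 4284), (7090, 4236), (7091, 9984), (7092, 10984), (7093, 4238), (7094, 11110), (7095, 4293), (7096, 11117), (7097, 4295), (7098, 7190), (7099, 8694), (7100, 7192), (7101, 10094),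 (7102, 4243), (7103, 4244)]
    ⟨e3 q7040 (flp_d L167409) q11032, e3 q7041 L116094 q4500, e3 q7042 L116100 q4207, e3 q7043 L167435 q11037, e3 q7044 (flp_d L167433) q11036, e3 q7045 (flp_d L167138) q10987, e3 q7046 L167464 q11042, e3 q7047 (flp_d L116131) q4209, e3 q7048 (flp_d L167482) q11045, e3 q7049 (flp_d L167162) q10992, e3 q7050 L167492 q11048, e3 q7051 (flp_d L116163) q4212, e3 q7052 (flp_d L167524) q11053, e3 q7053 L167535 q11055, e3 q7054 L116182 q4515, e3 q7055 L116186 q4215, e3 q7056 (flp_d L167557) q11059, e3 q7057 (flp_d L167564) q11060, e3 q7058 (flp_d L167202) q11001, e3 q7059 (flp_d L167222) q11004, e3 q7060 (flp_d L167230) q11005, e3 q7061 L150817 q5337, e3 q7062 (flp_d L116273) q4219, e3 q7063 (flp_d L167611) q11066, e3 q7064 (flp_d L167621) q11067, e3 q7065 (flp_d L116293) q7018, e3 q7066 L116301 q4530, e3 q7067 (flp_d L116306) q4221, e3 q7068 (flp_d L167649) q11070, e3 q7069 L116326 q4535, e3 q7070 L116332 q4224, e3 q7071 L167675 q11075, e3 q7072 (flp_d L167673) q11074, e3 q7073 (flp_d L167276)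 q11011, e3 q7074 L167710 q11080, e3 q7075 (flp_d L116363) q4226, e3 q7076 (flp_d L167728) q11083, e3 q7077 (flp_d L167300) q11016, e3 q7078 L167738 q11086, e3 q7079 (flp_d L116397) q4229, e3 q7080 (flp_d L167770) q11091, e3 q7081 L167781 q11093, e3 q7082 L116416 q4550, e3 q7083 L116420 q4232, e3 q7084 (flp_d L167803) q11097, e3 q7085 (flp_d L167812) q11098, e3 q7086 (flp_d L167340) q11025, e3 q7087 L116451 q4282, e3 q7088 L116457 q4283, e3 q7089 L116467 q4284, e3 q7090 (flp_d L116471) q4236, e3 q7091 L159191 q9984, e3 q7092 (flp_d L167116) q10984, e3 q7093 L116487 q4238, e3 q7094 (flp_d L167900) q11110, e3 q7095 L116495 q4293, e3 q7096 L167938 q11117, e3 q7097 L116501 q4295, e3 q7098 (flp_d L117041) q7190, e3 q7099 (flp_d L144743) q8694, e3 q7100 (flp_d L117059) q7192, e3 q7101 (flp_d L159902) q10094, e3 q7102 L116524 q4243, e3 q7103 L116531 q4244, trivial⟩ (by decide +kernel)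

theorem ce_d_111 : ∀ r, r < 64 → sm gd (Qf (7104 + r)) = Qf (tab Gen.d (7104 + r)) :=
  edges_tab (sm gd) Qf (tab Gen.d) 7104 [(7104, 11128), (7105, 11126), (7106, 11127), (7107, 4306), (7108, 11139), (7109, 4246), (7110, 11142), (7111, 4310), (7112, 4311), (7113, 11149), (7114, 4313), (7115, 4316), (7116, 4317), (7117, 11155), (7118, 4250), (7119, 11159), (7120, 4321), (7121, 7254), (7122, 7162), (7123, 4253), (7124, 11166), (7125, 11167), (7126, 4326), (7127, 4333), (7128, 4334), (7129, 4335), (7130, 4257), (7131, 11008), (7132, 10001), (7133, 4259), (7134, 11180), (7135, 4344), (7136, 11186), (7137, 4346), (7138, 7291), (7139, 8740), (7140, 7293), (7141, 10113), (7142, 4264), (7143, 4265), (7144, 11197), (7145, 11195), (7146, 11196), (7147, 4357), (7148, 11208), (7149, 4267), (7150, 11211), (7151, 4361), (7152, 4362), (7153, 11218), (7154, 4364), (7155, 4367), (7156, 4368), (7157, 11224), (7158, 4271), (7159, 11228), (7160, 4372), (7161, 7354), (7162, 7122), (7163, 4274), (7164, 11235), (7165, 11236), (7166,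 4377), (7167, 8622)]
    ⟨e3 q7104 L168011 q11128, e3 q7105 (flp_d L167988) q11126, e3 q7106 (flp_d L167992) q11127, e3 q7107 L116551 q4306, e3 q7108 L168108 q11139, e3 q7109 (flp_d L116559) q4246, e3 q7110 (flp_d L168124) q11142, e3 q7111 L116569 q4310, e3 q7112 L116575 q4311, e3 q7113 L168162 q11149, e3 q7114 L116581 q4313, e3 q7115 L116593 q4316, e3 q7116 L116597 q4317, e3 q7117 L168200 q11155, e3 q7118 (flp_d L116601) q4250, e3 q7119 (flp_d L168216) q11159, e3 q7120 L116615 q4321, e3 q7121 L117431 q7254, e3 q7122 (flp_d L116844) q7162, e3 q7123 L116624 q4253, e3 q7124 (flp_d L168241) q11166, e3 q7125 (flp_d L168248) q11167, e3 q7126 L116641 q4326, e3 q7127 L116647 q4333, e3 q7128 L116655 q4334, e3 q7129 L116665 q4335, e3 q7130 (flp_d L116671) q4257, e3 q7131 (flp_d L167254) q11008, e3 q7132 L159327 q10001, e3 q7133 L116687 q4259, e3 q7134 (flp_d L168334) q11180, e3 q7135 L116695 q4344, e3 q7136 L168362 q11186, e3 q7137 L116701 q4346, e3 q7138 (flp_d L117675) q7291, e3 q7139 (flp_d L149719) q8740, e3 q7140 (flp_d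 L117689) q7293, e3 q7141 (flp_d L160031) q10113, e3 q7142 L116722 q4264, e3 q7143 L116729 q4265, e3 q7144 L168417 q11197, e3 q7145 (flp_d L168407) q11195, e3 q7146 (flp_d L168411) q11196, e3 q7147 L116749 q4357, e3 q7148 L168496 q11208, e3 q7149 (flp_d L116761) q4267, e3 q7150 (flp_d L168514) q11211, e3 q7151 L116773 q4361, e3 q7152 L116781 q4362, e3 q7153 L168560 q11218, e3 q7154 L116787 q4364, e3 q7155 L116805 q4367, e3 q7156 L116811 q4368, e3 q7157 L168604 q11224, e3 q7158 (flp_d L116819) q4271, e3 q7159 (flp_d L168626) q11228, e3 q7160 L116835 q4372, e3 q7161 L118045 q7354, e3 q7162 L116844 q7122, e3 q7163 L116848 q4274, e3 q7164 (flp_d L168657) q11235, e3 q7165 (flp_d L168666) q11236, e3 q7166 L116869 q4377, e3 q7167 L144302 q8622, trivial⟩ (by decide +kernel)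

theorem ce_d_112 : ∀ r, r < 64 → sm gd (Qf (7168 + r)) = Qf (tab Gen.d (7168 + r)) :=
  edges_tab (sm gd) Qf (tab Gen.d) 7168 [(7168, 8672), (7169, 4278), (7170, 11243), (7171, 4558), (7172, 4280), (7173, 4281), (7174, 11247), (7175, 11248), (7176, 11249), (7177, 11102), (7178, 11103), (7179, 11257), (7180, 11105), (7181, 11106), (7182, 8351), (7183, 8376), (7184, 4572), (7185, 4287), (7186, 4288), (7187, 11262), (7188, 11263), (7189, 11264), (7190, 7098), (7191, 5430), (7192, 7100), (7193, 4581), (7194, 4292), (7195, 11272), (7196, 11278), (7197, 11274), (7198, 11114), (7199, 11283), (7200, 11116), (7201, 4294), (7202, 11287), (7203, 11289), (7204, 4296), (7205, 5399), (7206, 11294), (7207, 11295), (7208, 5275), (7209, 4299), (7210, 5436), (7211, 11301), (7212, 10982), (7213, 4597), (7214, 4598), (7215, 4303), (7216, 4304), (7217, 4305), (7218, 11306), (7219, 11307), (7220, 11308), (7221, 11319), (7222, 11310), (7223, 11134), (7224, 11324), (7225, 11136), (7226, 11137), (7227, 11328), (7228, 4307), (7229, 11334),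 (7230, 4618), (7231, 4309)]
    ⟨e3 q7168 (flp_d L144589) q8672, e3 q7169 (flp_d L116889) q4278, e3 q7170 (flp_d L168722) q11243, e3 q7171 L116917 q4558, e3 q7172 L116923 q4280, e3 q7173 L116929 q4281, e3 q7174 (flp_d L168754) q11247, e3 q7175 (flp_d L168762) q11248, e3 q7176 (flp_d L168770) q11249, e3 q7177 (flp_d L167840) q11102, e3 q7178 (flp_d L167850) q11103, e3 q7179 L168816 q11257, e3 q7180 (flp_d L167866) q11105, e3 q7181 (flp_d L167872) q11106, e3 q7182 L129906 q8351, e3 q7183 (flp_d L130068) q8376, e3 q7184 L117009 q4572, e3 q7185 L117013 q4287, e3 q7186 L117017 q4288, e3 q7187 (flp_d L168851) q11262, e3 q7188 (flp_d L168857) q11263, e3 q7189 (flp_d L168867) q11264, e3 q7190 L117041 q7098, e3 q7191 (flp_d L117051) q5430, e3 q7192 L117059 q7100, e3 q7193 L117067 q4581, e3 q7194 L117075 q4292, e3 q7195 (flp_d L168917) q11272, e3 q7196 L168947 q11278, e3 q7197 (flp_d L168923) q11274, e3 q7198 (flp_d L167916) q11114, e3 q7199 L168977 q11283, e3 q7200 (flp_d L167932) q11116, e3 q7201 (flp_d L117115) q4294,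 e3 q7202 (flp_d L168999) q11287, e3 q7203 L169007 q11289, e3 q7204 (flp_d L117127) q4296, e3 q7205 (flp_d L117137) q5399, e3 q7206 (flp_d L169045) q11294, e3 q7207 (flp_d L169053) q11295, e3 q7208 L117161 q5275, e3 q7209 L117169 q4299, e3 q7210 L117175 q5436, e3 q7211 (flp_d L169109) q11301, e3 q7212 (flp_d L167100) q10982, e3 q7213 L117191 q4597, e3 q7214 L117201 q4598, e3 q7215 L117209 q4303, e3 q7216 L117215 q4304, e3 q7217 L117219 q4305, e3 q7218 (flp_d L169137) q11306, e3 q7219 (flp_d L169141) q11307, e3 q7220 (flp_d L169147) q11308, e3 q7221 L169209 q11319, e3 q7222 (flp_d L169153) q11310, e3 q7223 (flp_d L168082) q11134, e3 q7224 L169241 q11324, e3 q7225 (flp_d L168094) q11136, e3 q7226 (flp_d L168102) q11137, e3 q7227 L169267 q11328, e3 q7228 (flp_d L117275) q4307, e3 q7229 L169301 q11334, e3 q7230 L117289 q4618, e3 q7231 L117293 q4309, trivial⟩ (by decide +kernel)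

theorem ce_d_113 : ∀ r, r < 64 → sm gd (Qf (7232 + r)) = Qf (tab Gen.d (7232 + r)) :=
  edges_tab (sm gd) Qf (tab Gen.d) 7232 [(7232, 11338), (7233, 11144), (7234, 11343), (7235, 11146), (7236, 11345), (7237, 11148), (7238, 4312), (7239, 11349), (7240, 11151), (7241, 11353), (7242, 8686), (7243, 8691), (7244, 11357), (7245, 4315), (7246, 11361), (7247, 11362), (7248, 11152), (7249, 11153), (7250, 11367), (7251, 4318), (7252, 11372), (7253, 11373), (7254, 7121), (7255, 4643), (7256, 4320), (7257, 11381), (7258, 11384), (7259, 11386), (7260, 4322), (7261, 11392), (7262, 11391), (7263, 4651), (7264, 4325), (7265, 11397), (7266, 11170), (7267, 8646), (7268, 11172), (7269, 8684), (7270, 8625), (7271, 4329), (7272, 11404), (7273, 4660), (7274, 4331), (7275, 4332), (7276, 11408), (7277, 11409), (7278, 11410), (7279, 11173), (7280, 11417), (7281, 11175), (7282, 11176), (7283, 8383), (7284, 8355), (7285, 4673), (7286, 4338), (7287, 4339), (7288, 11422), (7289, 11423), (7290, 11424), (7291, 7138), (7292, 5475), (7293, 7140),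 (7294, 4682), (7295, 4343)]
    ⟨e3 q7232 (flp_d L169327) q11338, e3 q7233 (flp_d L168130) q11144, e3 q7234 L169353 q11343, e3 q7235 (flp_d L168142) q11146, e3 q7236 L169365 q11345, e3 q7237 (flp_d L168154) q11148, e3 q7238 (flp_d L117335) q4312, e3 q7239 (flp_d L169391) q11349, e3 q7240 (flp_d L168172) q11151, e3 q7241 L169415 q11353, e3 q7242 (flp_d L156857) q8686, e3 q7243 (flp_d L156859) q8691, e3 q7244 L169449 q11357, e3 q7245 (flp_d L117379) q4315, e3 q7246 (flp_d L169477) q11361, e3 q7247 (flp_d L169483) q11362, e3 q7248 (flp_d L168178) q11152, e3 q7249 (flp_d L168190) q11153, e3 q7250 L169509 q11367, e3 q7251 (flp_d L117415) q4318, e3 q7252 (flp_d L169535) q11372, e3 q7253 (flp_d L169539) q11373, e3 q7254 (flp_d L117431) q7121, e3 q7255 L117437 q4643, e3 q7256 L117443 q4320, e3 q7257 (flp_d L169593) q11381, e3 q7258 L169607 q11384, e3 q7259 L169613 q11386, e3 q7260 (flp_d L117459) q4322, e3 q7261 L169645 q11392, e3 q7262 (flp_d L169643) q11391, e3 q7263 L117475 q4651, e3 q7264 L117483 q4325, e3 q7265 (flp_d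 L169675) q11397, e3 q7266 (flp_d L168260) q11170, e3 q7267 (flp_d L163838) q8646, e3 q7268 (flp_d L168270) q11172, e3 q7269 (flp_d L144663) q8684, e3 q7270 L144327 q8625, e3 q7271 (flp_d L117527) q4329, e3 q7272 (flp_d L169733) q11404, e3 q7273 L117555 q4660, e3 q7274 L117561 q4331, e3 q7275 L117567 q4332, e3 q7276 (flp_d L169763) q11408, e3 q7277 (flp_d L169769) q11409, e3 q7278 (flp_d L169779) q11410, e3 q7279 (flp_d L168278) q11173, e3 q7280 L169819 q11417, e3 q7281 (flp_d L168294) q11175, e3 q7282 (flp_d L168304) q11176, e3 q7283 (flp_d L130129) q8383, e3 q7284 L129930 q8355, e3 q7285 L117643 q4673, e3 q7286 L117647 q4338, e3 q7287 L117651 q4339, e3 q7288 (flp_d L169854) q11422, e3 q7289 (flp_d L169862) q11423, e3 q7290 (flp_d L169874) q11424, e3 q7291 L117675 q7138, e3 q7292 L148946 q5475, e3 q7293 L117689 q7140, e3 q7294 L117697 q4682, e3 q7295 L117705 q4343, trivial⟩ (by decide +kernel)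

theorem ce_d_114 : ∀ r, r < 64 → sm gd (Qf (7296 + r)) = Qf (tab Gen.d (7296 + r)) :=
  edges_tab (sm gd) Qf (tab Gen.d) 7296 [(7296, 11432), (7297, 11438), (7298, 11434), (7299, 11184), (7300, 11443), (7301, 4345), (7302, 11446), (7303, 11448), (7304, 4347), (7305, 5416), (7306, 11453), (7307, 11454), (7308, 5298), (7309, 4350), (7310, 5482), (7311, 11460), (7312, 11006), (7313, 4697), (7314, 4698), (7315, 4354), (7316, 4355), (7317, 4356), (7318, 11465), (7319, 11466), (7320, 11467), (7321, 11478), (7322, 11469), (7323, 11203), (7324, 11483), (7325, 11205), (7326, 11206), (7327, 11487), (7328, 4358), (7329, 11493), (7330, 4718), (7331, 4360), (7332, 11497), (7333, 11213), (7334, 11502), (7335, 11215), (7336, 11504), (7337, 11217), (7338, 4363), (7339, 11508), (7340, 11220), (7341, 11512), (7342, 8679), (7343, 8674), (7344, 11516), (7345, 4366), (7346, 11520), (7347, 11521), (7348, 11221), (7349, 11222), (7350, 11526), (7351, 4369), (7352, 11531), (7353, 11532), (7354, 7161), (7355, 4742), (7356, 4371), (7357,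 11540), (7358, 11543), (7359, 11545)]
    ⟨e3 q7296 (flp_d L169922) q11432, e3 q7297 L169952 q11438, e3 q7298 (flp_d L169928) q11434, e3 q7299 (flp_d L168350) q11184, e3 q7300 L169992 q11443, e3 q7301 (flp_d L117737) q4345, e3 q7302 (flp_d L170004) q11446, e3 q7303 L170012 q11448, e3 q7304 (flp_d L117749) q4347, e3 q7305 L148942 q5416, e3 q7306 (flp_d L170050) q11453, e3 q7307 (flp_d L170054) q11454, e3 q7308 L149697 q5298, e3 q7309 L117779 q4350, e3 q7310 L148935 q5482, e3 q7311 (flp_d L170114) q11460, e3 q7312 (flp_d L167238) q11006, e3 q7313 L117801 q4697, e3 q7314 L117811 q4698, e3 q7315 L117819 q4354, e3 q7316 L117825 q4355, e3 q7317 L117829 q4356, e3 q7318 (flp_d L170142) q11465, e3 q7319 (flp_d L170146) q11466, e3 q7320 (flp_d L170152) q11467, e3 q7321 L170214 q11478, e3 q7322 (flp_d L170158) q11469, e3 q7323 (flp_d L168464) q11203, e3 q7324 L170246 q11483, e3 q7325 (flp_d L168476) q11205, e3 q7326 (flp_d L168486) q11206, e3 q7327 L170268 q11487, e3 q7328 (flp_d L117885) q4358, e3 q7329 L170300 q11493, e3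 q7330 L117899 q4718, e3 q7331 L117903 q4360, e3 q7332 (flp_d L170326) q11497, e3 q7333 (flp_d L168522) q11213, e3 q7334 L170352 q11502, e3 q7335 (flp_d L168538) q11215, e3 q7336 L170364 q11504, e3 q7337 (flp_d L168552) q11217, e3 q7338 (flp_d L117947) q4363, e3 q7339 (flp_d L170390) q11508, e3 q7340 (flp_d L168570) q11220, e3 q7341 L170416 q11512, e3 q7342 L156871 q8679, e3 q7343 L156873 q8674, e3 q7344 L170452 q11516, e3 q7345 (flp_d L117993) q4366, e3 q7346 (flp_d L170484) q11520, e3 q7347 (flp_d L170494) q11521, e3 q7348 (flp_d L168582) q11221, e3 q7349 (flp_d L168592) q11222, e3 q7350 L170520 q11526, e3 q7351 (flp_d L118029) q4369, e3 q7352 (flp_d L170550) q11531, e3 q7353 (flp_d L170554) q11532, e3 q7354 (flp_d L118045) q7161, e3 q7355 L118051 q4742, e3 q7356 L118057 q4371, e3 q7357 (flp_d L170608) q11540, e3 q7358 L170622 q11543, e3 q7359 L170628 q11545, trivial⟩ (by decide +kernel)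

theorem ce_d_115 : ∀ r, r < 64 → sm gd (Qf (7360 + r)) = Qf (tab Gen.d (7360 + r)) :=
  edges_tab (sm gd) Qf (tab Gen.d) 7360 [(7360, 4373), (7361, 11551), (7362, 11550), (7363, 4749), (7364, 4376), (7365, 11556), (7366, 11239), (7367, 8662), (7368, 11241), (7369, 4381), (7370, 4755), (7371, 4382), (7372, 4756), (7373, 4383), (7374, 8301), (7375, 9400), (7376, 11562), (7377, 11565), (7378, 11572), (7379, 4384), (7380, 11576), (7381, 4385), (7382, 11581), (7383, 11582), (7384, 7432), (7385, 4777), (7386, 11587), (7387, 4387), (7388, 11592), (7389, 11593), (7390, 11596), (7391, 4783), (7392, 4389), (7393, 4390), (7394, 11602), (7395, 11603), (7396, 6340), (7397, 6553), (7398, 6341), (7399, 6338), (7400, 4397), (7401, 4793), (7402, 4398), (7403, 4794), (7404, 4399), (7405, 8304), (7406, 9405), (7407, 11614), (7408, 11617), (7409, 11624), (7410, 4400), (7411, 11628), (7412, 4401), (7413, 11633), (7414, 11634), (7415, 7436), (7416, 4815), (7417, 11639), (7418, 4403), (7419, 11644), (7420, 11645), (7421, 11648), (7422,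 4821), (7423, 4405)]
    ⟨e3 q7360 (flp_d L118073) q4373, e3 q7361 L170660 q11551, e3 q7362 (flp_d L170658) q11550, e3 q7363 L118089 q4749, e3 q7364 L118097 q4376, e3 q7365 (flp_d L170690) q11556, e3 q7366 (flp_d L168686) q11239, e3 q7367 (flp_d L163661) q8662, e3 q7368 (flp_d L168700) q11241, e3 q7369 L118127 q4381, e3 q7370 L118133 q4755, e3 q7371 L118139 q4382, e3 q7372 (flp_d L118155) q4756, e3 q7373 L118208 q4383, e3 q7374 L129357 q8301, e3 q7375 (flp_d L155168) q9400, e3 q7376 (flp_d L170736) q11562, e3 q7377 (flp_d L170768) q11565, e3 q7378 L170819 q11572, e3 q7379 (flp_d L118234) q4384, e3 q7380 L170845 q11576, e3 q7381 (flp_d L118248) q4385, e3 q7382 (flp_d L170877) q11581, e3 q7383 (flp_d L170881) q11582, e3 q7384 L118554 q7432, e3 q7385 L118274 q4777, e3 q7386 L170911 q11587, e3 q7387 (flp_d L118280) q4387, e3 q7388 (flp_d L170939) q11592, e3 q7389 (flp_d L170945) q11593, e3 q7390 L170963 q11596, e3 q7391 L118304 q4783, e3 q7392 L118308 q4389, e3 q7393 L118312 q4390, e3 q7394 (flp_d L170997) q11602, e3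 q7395 (flp_d L171005) q11603, e3 q7396 L118332 q6340, e3 q7397 L118338 q6553, e3 q7398 L118342 q6341, e3 q7399 L118348 q6338, e3 q7400 L118354 q4397, e3 q7401 L118360 q4793, e3 q7402 L118366 q4398, e3 q7403 L149425 q4794, e3 q7404 L118381 q4399, e3 q7405 L151119 q8304, e3 q7406 (flp_d L155194) q9405, e3 q7407 (flp_d L171075) q11614, e3 q7408 (flp_d L171107) q11617, e3 q7409 L171158 q11624, e3 q7410 (flp_d L118423) q4400, e3 q7411 L171188 q11628, e3 q7412 (flp_d L118437) q4401, e3 q7413 (flp_d L171220) q11633, e3 q7414 (flp_d L171226) q11634, e3 q7415 L118601 q7436, e3 q7416 L118463 q4815, e3 q7417 L171254 q11639, e3 q7418 (flp_d L118469) q4403, e3 q7419 (flp_d L171282) q11644, e3 q7420 (flp_d L171288) q11645, e3 q7421 L171306 q11648, e3 q7422 L118493 q4821, e3 q7423 L118497 q4405, trivial⟩ (by decide +kernel)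

theorem ce_d_116 : ∀ r, r < 64 → sm gd (Qf (7424 + r)) = Qf (tab Gen.d (7424 + r)) :=
  edges_tab (sm gd) Qf (tab Gen.d) 7424 [(7424, 4406), (7425, 11654), (7426, 11655), (7427, 6360), (7428, 6592), (7429, 6357), (7430, 6361), (7431, 4410), (7432, 7384), (7433, 11669), (7434, 4412), (7435, 4413), (7436, 7415), (7437, 11676), (7438, 4415), (7439, 5799), (7440, 5802), (7441, 5803), (7442, 5434), (7443, 7650), (7444, 5479), (7445, 7815), (7446, 8901), (7447, 4423), (7448, 11683), (7449, 8908), (7450, 4426), (7451, 11686), (7452, 4428), (7453, 11688), (7454, 4431), (7455, 4432), (7456, 4430), (7457, 10537), (7458, 10592), (7459, 9422), (7460, 9421), (7461, 10384), (7462, 6518), (7463, 10418), (7464, 6485), (7465, 4440), (7466, 4441), (7467, 4443), (7468, 4444), (7469, 4439), (7470, 11694), (7471, 4498), (7472, 7673), (7473, 8948), (7474, 4442), (7475, 11696), (7476, 4533), (7477, 7837), (7478, 9014), (7479, 6138), (7480, 4446), (7481, 10310), (7482, 4448), (7483, 9082), (7484, 11699), (7485, 4451), (7486, 11702), (7487,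 7592)]
    ⟨e3 q7424 L118503 q4406, e3 q7425 (flp_d L171340) q11654, e3 q7426 (flp_d L171348) q11655, e3 q7427 L118521 q6360, e3 q7428 L118527 q6592, e3 q7429 L118531 q6357, e3 q7430 L118537 q6361, e3 q7431 (flp_d L118541) q4410, e3 q7432 (flp_d L118554) q7384, e3 q7433 L171423 q11669, e3 q7434 (flp_d L118568) q4412, e3 q7435 (flp_d L118584) q4413, e3 q7436 (flp_d L118601) q7415, e3 q7437 L171456 q11676, e3 q7438 (flp_d L118615) q4415, e3 q7439 L118695 q5799, e3 q7440 L118703 q5802, e3 q7441 L118711 q5803, e3 q7442 (flp_d L120352) q5434, e3 q7443 (flp_d L121851) q7650, e3 q7444 (flp_d L149164) q5479, e3 q7445 (flp_d L149160) q7815, e3 q7446 L146108 q8901, e3 q7447 (flp_d L118766) q4423, e3 q7448 (flp_d L171502) q11683, e3 q7449 L151282 q8908, e3 q7450 (flp_d L118778) q4426, e3 q7451 (flp_d L171518) q11686, e3 q7452 (flp_d L118787) q4428, e3 q7453 L171528 q11688, e3 q7454 L118820 q4431, e3 q7455 L118830 q4432, e3 q7456 (flp_d L118834) q4430, e3 q7457 (flp_d L162823) q10537, e3 q7458 (flp_d L164168) q10592, e3 q7459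 (flp_d L155342) q9422, e3 q7460 (flp_d L155330) q9421, e3 q7461 (flp_d L161818) q10384, e3 q7462 (flp_d L148303) q6518, e3 q7463 (flp_d L162048) q10418, e3 q7464 L119747 q6485, e3 q7465 L118902 q4440, e3 q7466 L118907 q4441, e3 q7467 L118919 q4443, e3 q7468 L118923 q4444, e3 q7469 (flp_d L118925) q4439, e3 q7470 (flp_d L171585) q11694, e3 q7471 L120617 q4498, e3 q7472 (flp_d L121976) q7673, e3 q7473 (flp_d L151850) q8948, e3 q7474 (flp_d L120654) q4442, e3 q7475 (flp_d L171601) q11696, e3 q7476 L147679 q4533, e3 q7477 (flp_d L149813) q7837, e3 q7478 (flp_d L152280) q9014, e3 q7479 (flp_d L120726) q6138, e3 q7480 (flp_d L120728) q4446, e3 q7481 L161312 q10310, e3 q7482 L120748 q4448, e3 q7483 (flp_d L152710) q9082, e3 q7484 L171622 q11699, e3 q7485 (flp_d L120762) q4451, e3 q7486 (flp_d L171648) q11702, e3 q7487 (flp_d L121517) q7592, trivial⟩ (by decide +kernel)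

theorem ce_d_117 : ∀ r, r < 64 → sm gd (Qf (7488 + r)) = Qf (tab Gen.d (7488 + r)) :=
  edges_tab (sm gd) Qf (tab Gen.d) 7488 [(7488, 6151), (7489, 4454), (7490, 10347), (7491, 4456), (7492, 9136), (7493, 11705), (7494, 4459), (7495, 11708), (7496, 7547), (7497, 9455), (7498, 9457), (7499, 8336), (7500, 4465), (7501, 11709), (7502, 8333), (7503, 4467), (7504, 11711), (7505, 4629), (7506, 10949), (7507, 4471), (7508, 4472), (7509, 11716), (7510, 11717), (7511, 9460), (7512, 9462), (7513, 8344), (7514, 4477), (7515, 11718), (7516, 8341), (7517, 4479), (7518, 11720), (7519, 4729), (7520, 10961), (7521, 4483), (7522, 4484), (7523, 11725), (7524, 11726), (7525, 5608), (7526, 5613), (7527, 9714), (7528, 5517), (7529, 4490), (7530, 6857), (7531, 11727), (7532, 5088), (7533, 5513), (7534, 4492), (7535, 4493), (7536, 11731), (7537, 10810), (7538, 5749), (7539, 4496), (7540, 10859), (7541, 11034), (7542, 11735), (7543, 4503), (7544, 4502), (7545, 11739), (7546, 7736), (7547, 7496), (7548, 11741), (7549, 4505), (7550, 8478),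 (7551, 11044)]
    ⟨e3 q7488 (flp_d L150616) q6151, e3 q7489 (flp_d L120786) q4454, e3 q7490 L161563 q10347, e3 q7491 L120802 q4456, e3 q7492 (flp_d L153125) q9136, e3 q7493 L171666 q11705, e3 q7494 (flp_d L120816) q4459, e3 q7495 (flp_d L171692) q11708, e3 q7496 (flp_d L121188) q7547, e3 q7497 (flp_d L155544) q9455, e3 q7498 (flp_d L155566) q9457, e3 q7499 (flp_d L129777) q8336, e3 q7500 (flp_d L120852) q4465, e3 q7501 (flp_d L171698) q11709, e3 q7502 L129743 q8333, e3 q7503 L120870 q4467, e3 q7504 (flp_d L171710) q11711, e3 q7505 L163943 q4629, e3 q7506 (flp_d L166852) q10949, e3 q7507 L120896 q4471, e3 q7508 L120905 q4472, e3 q7509 (flp_d L171750) q11716, e3 q7510 (flp_d L171756) q11717, e3 q7511 (flp_d L155590) q9460, e3 q7512 (flp_d L155612) q9462, e3 q7513 L151266 q8344, e3 q7514 (flp_d L120967) q4477, e3 q7515 (flp_d L171768) q11718, e3 q7516 L151268 q8341, e3 q7517 L120989 q4479, e3 q7518 (flp_d L171780) q11720, e3 q7519 L163949 q4729, e3 q7520 (flp_d L166935) q10961, e3 q7521 L121022 q4483, e3 q7522 L121029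 q4484, e3 q7523 (flp_d L171820) q11725, e3 q7524 (flp_d L171826) q11726, e3 q7525 L121044 q5608, e3 q7526 L121054 q5613, e3 q7527 (flp_d L157379) q9714, e3 q7528 (flp_d L121064) q5517, e3 q7529 (flp_d L121066) q4490, e3 q7530 L121084 q6857, e3 q7531 (flp_d L171840) q11727, e3 q7532 L121097 q5088, e3 q7533 L121107 q5513, e3 q7534 L121115 q4492, e3 q7535 L121121 q4493, e3 q7536 (flp_d L171882) q11731, e3 q7537 (flp_d L165820) q10810, e3 q7538 L121145 q5749, e3 q7539 (flp_d L121147) q4496, e3 q7540 (flp_d L166222) q10859, e3 q7541 (flp_d L167423) q11034, e3 q7542 L171919 q11735, e3 q7543 L121171 q4503, e3 q7544 (flp_d L121173) q4502, e3 q7545 (flp_d L171940) q11739, e3 q7546 L163868 q7736, e3 q7547 L121188 q7496, e3 q7548 L171950 q11741, e3 q7549 (flp_d L121196) q4505, e3 q7550 L163225 q8478, e3 q7551 (flp_d L167478) q11044, trivial⟩ (by decide +kernel)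

theorem ce_d_118 : ∀ r, r < 64 → sm gd (Qf (7552 + r)) = Qf (tab Gen.d (7552 + r)) :=
  edges_tab (sm gd) Qf (tab Gen.d) 7552 [(7552, 4507), (7553, 11748), (7554, 9726), (7555, 11751), (7556, 4511), (7557, 11754), (7558, 8998), (7559, 6432), (7560, 11052), (7561, 4513), (7562, 11758), (7563, 8477), (7564, 11058), (7565, 4517), (7566, 4518), (7567, 11765), (7568, 11766), (7569, 10676), (7570, 5646), (7571, 5649), (7572, 9722), (7573, 5561), (7574, 4525), (7575, 11770), (7576, 6878), (7577, 5090), (7578, 5557), (7579, 4527), (7580, 4528), (7581, 10831), (7582, 11774), (7583, 5750), (7584, 4531), (7585, 10864), (7586, 11072), (7587, 11778), (7588, 4538), (7589, 4537), (7590, 11782), (7591, 7897), (7592, 7487), (7593, 11784), (7594, 4540), (7595, 8475), (7596, 11082), (7597, 4542), (7598, 11791), (7599, 9718), (7600, 11794), (7601, 4546), (7602, 9060), (7603, 11797), (7604, 6463), (7605, 11090), (7606, 4548), (7607, 11801), (7608, 8474), (7609, 11096), (7610, 4552), (7611, 4553), (7612, 11808), (7613, 11809), (7614,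 10760), (7615, 11813)]
    ⟨e3 q7552 L121212 q4507, e3 q7553 (flp_d L171996) q11748, e3 q7554 (flp_d L157511) q9726, e3 q7555 L172005 q11751, e3 q7556 (flp_d L121232) q4511, e3 q7557 (flp_d L172033) q11754, e3 q7558 (flp_d L153741) q8998, e3 q7559 (flp_d L121248) q6432, e3 q7560 (flp_d L167518) q11052, e3 q7561 L121258 q4513, e3 q7562 (flp_d L172063) q11758, e3 q7563 L163231 q8477, e3 q7564 (flp_d L167551) q11058, e3 q7565 L121287 q4517, e3 q7566 L121294 q4518, e3 q7567 (flp_d L172103) q11765, e3 q7568 (flp_d L172107) q11766, e3 q7569 (flp_d L164831) q10676, e3 q7570 L149823 q5646, e3 q7571 L150980 q5649, e3 q7572 (flp_d L157461) q9722, e3 q7573 L151148 q5561, e3 q7574 (flp_d L121384) q4525, e3 q7575 (flp_d L172131) q11770, e3 q7576 (flp_d L150882) q6878, e3 q7577 L149192 q5090, e3 q7578 (flp_d L149721) q5557, e3 q7579 L121404 q4527, e3 q7580 L121408 q4528, e3 q7581 (flp_d L165991) q10831, e3 q7582 (flp_d L172173) q11774, e3 q7583 L149162 q5750, e3 q7584 (flp_d L121438) q4531, e3 q7585 (flp_d L166270) q10864, e3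 q7586 (flp_d L167663) q11072, e3 q7587 L172210 q11778, e3 q7588 L121487 q4538, e3 q7589 (flp_d L121502) q4537, e3 q7590 (flp_d L172237) q11782, e3 q7591 (flp_d L163866) q7897, e3 q7592 L121517 q7487, e3 q7593 L172249 q11784, e3 q7594 (flp_d L121525) q4540, e3 q7595 L163378 q8475, e3 q7596 (flp_d L167724) q11082, e3 q7597 L121541 q4542, e3 q7598 (flp_d L172295) q11791, e3 q7599 (flp_d L157429) q9718, e3 q7600 L172310 q11794, e3 q7601 (flp_d L121567) q4546, e3 q7602 (flp_d L155524) q9060, e3 q7603 (flp_d L172338) q11797, e3 q7604 (flp_d L121579) q6463, e3 q7605 (flp_d L167764) q11090, e3 q7606 L121589 q4548, e3 q7607 (flp_d L172368) q11801, e3 q7608 L163372 q8474, e3 q7609 (flp_d L167797) q11096, e3 q7610 L121618 q4552, e3 q7611 L121627 q4553, e3 q7612 (flp_d L172414) q11808, e3 q7613 (flp_d L172420) q11809, e3 q7614 (flp_d L165444) q10760, e3 q7615 L172438 q11813, trivial⟩ (by decide +kernel)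

theorem ce_d_119 : ∀ r, r < 64 → sm gd (Qf (7616 + r)) = Qf (tab Gen.d (7616 + r)) :=
  edges_tab (sm gd) Qf (tab Gen.d) 7616 [(7616, 9464), (7617, 9084), (7618, 5520), (7619, 11246), (7620, 4561), (7621, 4562), (7622, 5545), (7623, 11818), (7624, 11828), (7625, 11820), (7626, 11821), (7627, 8525), (7628, 11833), (7629, 4565), (7630, 11836), (7631, 11838), (7632, 6858), (7633, 8321), (7634, 4569), (7635, 4570), (7636, 11843), (7637, 9417), (7638, 4571), (7639, 6851), (7640, 11728), (7641, 11847), (7642, 10646), (7643, 11261), (7644, 4575), (7645, 4576), (7646, 4577), (7647, 11855), (7648, 11856), (7649, 11860), (7650, 7443), (7651, 11271), (7652, 4583), (7653, 4585), (7654, 11863), (7655, 11868), (7656, 11864), (7657, 4584), (7658, 8012), (7659, 11865), (7660, 11872), (7661, 7706), (7662, 4587), (7663, 11875), (7664, 11878), (7665, 11286), (7666, 4590), (7667, 8022), (7668, 4591), (7669, 11883), (7670, 4595), (7671, 4594), (7672, 9362), (7673, 7472), (7674, 4938), (7675, 4769), (7676, 11886), (7677, 8210), (7678,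 11303), (7679, 11564)]
    ⟨e3 q7616 (flp_d L155628) q9464, e3 q7617 (flp_d L152722) q9084, e3 q7618 L121669 q5520, e3 q7619 (flp_d L168746) q11246, e3 q7620 L121682 q4561, e3 q7621 L121689 q4562, e3 q7622 L121695 q5545, e3 q7623 (flp_d L172474) q11818, e3 q7624 L172529 q11828, e3 q7625 (flp_d L172481) q11820, e3 q7626 (flp_d L172485) q11821, e3 q7627 (flp_d L150934) q8525, e3 q7628 L172555 q11833, e3 q7629 (flp_d L121723) q4565, e3 q7630 (flp_d L172587) q11836, e3 q7631 L172591 q11838, e3 q7632 (flp_d L121745) q6858, e3 q7633 (flp_d L129521) q8321, e3 q7634 L121760 q4569, e3 q7635 L121766 q4570, e3 q7636 (flp_d L172638) q11843, e3 q7637 (flp_d L155296) q9417, e3 q7638 (flp_d L121781) q4571, e3 q7639 L121795 q6851, e3 q7640 (flp_d L171854) q11728, e3 q7641 (flp_d L172663) q11847, e3 q7642 L164603 q10646, e3 q7643 (flp_d L168843) q11261, e3 q7644 L121815 q4575, e3 q7645 L121821 q4576, e3 q7646 L121829 q4577, e3 q7647 (flp_d L172729) q11855, e3 q7648 (flp_d L172733) q11856, e3 q7649 L172765 q11860, e3 q7650 L121851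 q7443, e3 q7651 (flp_d L168911) q11271, e3 q7652 L121867 q4583, e3 q7653 L121873 q4585, e3 q7654 (flp_d L172785) q11863, e3 q7655 L172815 q11868, e3 q7656 (flp_d L172791) q11864, e3 q7657 (flp_d L121891) q4584, e3 q7658 L163574 q8012, e3 q7659 (flp_d L172803) q11865, e3 q7660 L172845 q11872, e3 q7661 (flp_d L163951) q7706, e3 q7662 (flp_d L121913) q4587, e3 q7663 (flp_d L172873) q11875, e3 q7664 L172885 q11878, e3 q7665 (flp_d L168995) q11286, e3 q7666 L121931 q4590, e3 q7667 (flp_d L163485) q8022, e3 q7668 (flp_d L121937) q4591, e3 q7669 (flp_d L172931) q11883, e3 q7670 L121954 q4595, e3 q7671 L121961 q4594, e3 q7672 (flp_d L154864) q9362, e3 q7673 L121976 q7472, e3 q7674 L149808 q4938, e3 q7675 (flp_d L121990) q4769, e3 q7676 (flp_d L172961) q11886, e3 q7677 (flp_d L128655) q8210, e3 q7678 (flp_d L169115) q11303, e3 q7679 (flp_d L170760) q11564, trivial⟩ (by decide +kernel)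

theorem ce_d_120 : ∀ r, r < 64 → sm gd (Qf (7680 + r)) = Qf (tab Gen.d (7680 + r)) :=
  edges_tab (sm gd) Qf (tab Gen.d) 7680 [(7680, 11304), (7681, 11305), (7682, 4603), (7683, 4607), (7684, 4608), (7685, 7866), (7686, 4610), (7687, 11898), (7688, 5196), (7689, 11900), (7690, 11901), (7691, 11908), (7692, 4604), (7693, 4606), (7694, 10270), (7695, 11911), (7696, 11902), (7697, 11917), (7698, 4865), (7699, 11904), (7700, 4609), (7701, 11921), (7702, 7849), (7703, 11925), (7704, 11927), (7705, 4612), (7706, 7661), (7707, 7899), (7708, 11932), (7709, 4615), (7710, 11936), (7711, 11937), (7712, 4748), (7713, 11332), (7714, 8515), (7715, 4617), (7716, 11945), (7717, 7879), (7718, 11337), (7719, 4620), (7720, 11949), (7721, 11954), (7722, 11950), (7723, 11957), (7724, 4622), (7725, 6734), (7726, 4624), (7727, 10675), (7728, 6721), (7729, 11348), (7730, 4627), (7731, 11962), (7732, 10673), (7733, 11712), (7734, 4735), (7735, 7896), (7736, 7546), (7737, 4632), (7738, 6402), (7739, 7870), (7740, 11360), (7741, 4634), (7742,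 11973), (7743, 7902)]
    ⟨e3 q7680 (flp_d L169125) q11304, e3 q7681 (flp_d L169131) q11305, e3 q7682 L122050 q4603, e3 q7683 L122054 q4607, e3 q7684 L122060 q4608, e3 q7685 (flp_d L166019) q7866, e3 q7686 L122066 q4610, e3 q7687 (flp_d L173036) q11898, e3 q7688 L151333 q5196, e3 q7689 (flp_d L173046) q11900, e3 q7690 (flp_d L173052) q11901, e3 q7691 L173116 q11908, e3 q7692 (flp_d L122082) q4604, e3 q7693 L122092 q4606, e3 q7694 (flp_d L161018) q10270, e3 q7695 (flp_d L173134) q11911, e3 q7696 (flp_d L173058) q11902, e3 q7697 L173174 q11917, e3 q7698 L163816 q4865, e3 q7699 (flp_d L173082) q11904, e3 q7700 (flp_d L122126) q4609, e3 q7701 (flp_d L173218) q11921, e3 q7702 (flp_d L166017) q7849, e3 q7703 L173258 q11925, e3 q7704 L173274 q11927, e3 q7705 (flp_d L122150) q4612, e3 q7706 L163951 q7661, e3 q7707 L163969 q7899, e3 q7708 L173313 q11932, e3 q7709 (flp_d L122166) q4615, e3 q7710 (flp_d L173335) q11936, e3 q7711 (flp_d L173339) q11937, e3 q7712 (flp_d L122182) q4748, e3 q7713 (flp_d L169297) q11332, e3 q7714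 L151445 q8515, e3 q7715 (flp_d L122192) q4617, e3 q7716 L173379 q11945, e3 q7717 (flp_d L123097) q7879, e3 q7718 (flp_d L169321) q11337, e3 q7719 L122216 q4620, e3 q7720 (flp_d L173397) q11949, e3 q7721 L173421 q11954, e3 q7722 (flp_d L173401) q11950, e3 q7723 L173457 q11957, e3 q7724 (flp_d L122232) q4622, e3 q7725 L163582 q6734, e3 q7726 (flp_d L122242) q4624, e3 q7727 (flp_d L164821) q10675, e3 q7728 (flp_d L163544) q6721, e3 q7729 (flp_d L169387) q11348, e3 q7730 L122260 q4627, e3 q7731 (flp_d L173508) q11962, e3 q7732 (flp_d L164799) q10673, e3 q7733 L171722 q11712, e3 q7734 L163897 q4735, e3 q7735 L163975 q7896, e3 q7736 (flp_d L163868) q7546, e3 q7737 (flp_d L122298) q4632, e3 q7738 L163987 q6402, e3 q7739 (flp_d L163989) q7870, e3 q7740 (flp_d L169471) q11360, e3 q7741 L122316 q4634, e3 q7742 (flp_d L173593) q11973, e3 q7743 L163979 q7902, trivial⟩ (by decide +kernel)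

theorem ce_d_121 : ∀ r, r < 64 → sm gd (Qf (7744 + r)) = Qf (tab Gen.d (7744 + r)) :=
  edges_tab (sm gd) Qf (tab Gen.d) 7744 [(7744, 11977), (7745, 11978), (7746, 4638), (7747, 11706), (7748, 11981), (7749, 10322), (7750, 11371), (7751, 4640), (7752, 4641), (7753, 8536), (7754, 11988), (7755, 11989), (7756, 4746), (7757, 11996), (7758, 4717), (7759, 11380), (7760, 11998), (7761, 8547), (7762, 4646), (7763, 12002), (7764, 4647), (7765, 12010), (7766, 12008), (7767, 12009), (7768, 12015), (7769, 4650), (7770, 4649), (7771, 12018), (7772, 7926), (7773, 11396), (7774, 4653), (7775, 12022), (7776, 12026), (7777, 12023), (7778, 6795), (7779, 4655), (7780, 6811), (7781, 9459), (7782, 12030), (7783, 9139), (7784, 5563), (7785, 11407), (7786, 4662), (7787, 4663), (7788, 12033), (7789, 12040), (7790, 12035), (7791, 12036), (7792, 5589), (7793, 12047), (7794, 4666), (7795, 12050), (7796, 8496), (7797, 6879), (7798, 8324), (7799, 4670), (7800, 4671), (7801, 12056), (7802, 9418), (7803, 4672), (7804, 6872), (7805, 12060),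 (7806, 11771), (7807, 11421)]
    ⟨e3 q7744 L173619 q11977, e3 q7745 L173625 q11978, e3 q7746 (flp_d L122344) q4638, e3 q7747 (flp_d L171684) q11706, e3 q7748 (flp_d L173647) q11981, e3 q7749 L163961 q10322, e3 q7750 (flp_d L169531) q11371, e3 q7751 L122364 q4640, e3 q7752 L122368 q4641, e3 q7753 L143601 q8536, e3 q7754 (flp_d L173683) q11988, e3 q7755 (flp_d L173693) q11989, e3 q7756 L122386 q4746, e3 q7757 L173727 q11996, e3 q7758 L122400 q4717, e3 q7759 (flp_d L169585) q11380, e3 q7760 L173743 q11998, e3 q7761 (flp_d L143657) q8547, e3 q7762 (flp_d L122420) q4646, e3 q7763 L173771 q12002, e3 q7764 (flp_d L122426) q4647, e3 q7765 L173809 q12010, e3 q7766 (flp_d L173803) q12008, e3 q7767 (flp_d L173807) q12009, e3 q7768 L173839 q12015, e3 q7769 L122456 q4650, e3 q7770 (flp_d L122458) q4649, e3 q7771 (flp_d L173857) q12018, e3 q7772 (flp_d L123337) q7926, e3 q7773 (flp_d L169667) q11396, e3 q7774 L122486 q4653, e3 q7775 (flp_d L173877) q12022, e3 q7776 L173903 q12026, e3 q7777 (flp_d L183411) q12023, e3 q7778 L163746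 q6795, e3 q7779 (flp_d L122504) q4655, e3 q7780 L163742 q6811, e3 q7781 (flp_d L155582) q9459, e3 q7782 L173929 q12030, e3 q7783 (flp_d L153139) q9139, e3 q7784 L150892 q5563, e3 q7785 (flp_d L169757) q11407, e3 q7786 L122579 q4662, e3 q7787 L122584 q4663, e3 q7788 (flp_d L173953) q12033, e3 q7789 L174002 q12040, e3 q7790 (flp_d L173960) q12035, e3 q7791 (flp_d L173964) q12036, e3 q7792 (flp_d L150896) q5589, e3 q7793 L174056 q12047, e3 q7794 (flp_d L122625) q4666, e3 q7795 (flp_d L174090) q12050, e3 q7796 (flp_d L143303) q8496, e3 q7797 (flp_d L122647) q6879, e3 q7798 (flp_d L129653) q8324, e3 q7799 L122664 q4670, e3 q7800 L122670 q4671, e3 q7801 (flp_d L174139) q12056, e3 q7802 (flp_d L155306) q9418, e3 q7803 (flp_d L122682) q4672, e3 q7804 L122694 q6872, e3 q7805 (flp_d L174168) q12060, e3 q7806 (flp_d L172145) q11771, e3 q7807 (flp_d L169848) q11421, trivial⟩ (by decide +kernel)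

theorem ce_d_122 : ∀ r, r < 64 → sm gd (Qf (7808 + r)) = Qf (tab Gen.d (7808 + r)) :=
  edges_tab (sm gd) Qf (tab Gen.d) 7808 [(7808, 10731), (7809, 4676), (7810, 4677), (7811, 4678), (7812, 12068), (7813, 12072), (7814, 12069), (7815, 7445), (7816, 11431), (7817, 4684), (7818, 4686), (7819, 12076), (7820, 11870), (7821, 12077), (7822, 4685), (7823, 7953), (7824, 12078), (7825, 12083), (7826, 7871), (7827, 4688), (7828, 12087), (7829, 11445), (7830, 4690), (7831, 7963), (7832, 4691), (7833, 12092), (7834, 4695), (7835, 4694), (7836, 9365), (7837, 7477), (7838, 4939), (7839, 4807), (7840, 12095), (7841, 8208), (7842, 11462), (7843, 11616), (7844, 11463), (7845, 11464), (7846, 4703), (7847, 4707), (7848, 4708), (7849, 7702), (7850, 4710), (7851, 12107), (7852, 5185), (7853, 12109), (7854, 12110), (7855, 12114), (7856, 4704), (7857, 4706), (7858, 10287), (7859, 12117), (7860, 11903), (7861, 12123), (7862, 4836), (7863, 12111), (7864, 4709), (7865, 12127), (7866, 7685), (7867, 11971), (7868, 12132), (7869, 4712), (7870,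 7739), (7871, 7826)]
    ⟨e3 q7808 L165214 q10731, e3 q7809 L122714 q4676, e3 q7810 L122720 q4677, e3 q7811 L122728 q4678, e3 q7812 (flp_d L174240) q12068, e3 q7813 L174270 q12072, e3 q7814 (flp_d L174246) q12069, e3 q7815 L149160 q7445, e3 q7816 (flp_d L169916) q11431, e3 q7817 L122788 q4684, e3 q7818 L122794 q4686, e3 q7819 (flp_d L174304) q12076, e3 q7820 (flp_d L172837) q11870, e3 q7821 (flp_d L174312) q12077, e3 q7822 (flp_d L122810) q4685, e3 q7823 (flp_d L163627) q7953, e3 q7824 (flp_d L174324) q12078, e3 q7825 L174350 q12083, e3 q7826 L163959 q7871, e3 q7827 (flp_d L122840) q4688, e3 q7828 L174380 q12087, e3 q7829 (flp_d L170000) q11445, e3 q7830 L122850 q4690, e3 q7831 L163546 q7963, e3 q7832 (flp_d L122856) q4691, e3 q7833 (flp_d L174428) q12092, e3 q7834 L122873 q4695, e3 q7835 L122880 q4694, e3 q7836 (flp_d L154880) q9365, e3 q7837 L149813 q7477, e3 q7838 L150856 q4939, e3 q7839 L149449 q4807, e3 q7840 (flp_d L174458) q12095, e3 q7841 (flp_d L149184) q8208, e3 q7842 (flp_d L170120) q11462, e3 q7843 (flp_d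 L171099) q11616, e3 q7844 (flp_d L170130) q11463, e3 q7845 (flp_d L170136) q11464, e3 q7846 L122931 q4703, e3 q7847 L122949 q4707, e3 q7848 L122955 q4708, e3 q7849 L166017 q7702, e3 q7850 L122961 q4710, e3 q7851 (flp_d L174565) q12107, e3 q7852 L123804 q5185, e3 q7853 (flp_d L174579) q12109, e3 q7854 (flp_d L174589) q12110, e3 q7855 L174629 q12114, e3 q7856 (flp_d L122977) q4704, e3 q7857 L149337 q4706, e3 q7858 (flp_d L161124) q10287, e3 q7859 (flp_d L174649) q12117, e3 q7860 L173076 q11903, e3 q7861 L174687 q12123, e3 q7862 L163830 q4836, e3 q7863 (flp_d L174601) q12111, e3 q7864 (flp_d L123029) q4709, e3 q7865 (flp_d L174737) q12127, e3 q7866 L166019 q7685, e3 q7867 (flp_d L173582) q11971, e3 q7868 L174785 q12132, e3 q7869 (flp_d L123053) q4712, e3 q7870 L163989 q7739, e3 q7871 (flp_d L163959) q7826, trivial⟩ (by decide +kernel)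

theorem ce_d_123 : ∀ r, r < 64 → sm gd (Qf (7872 + r)) = Qf (tab Gen.d (7872 + r)) :=
  edges_tab (sm gd) Qf (tab Gen.d) 7872 [(7872, 12137), (7873, 4715), (7874, 12141), (7875, 12142), (7876, 11491), (7877, 8544), (7878, 12148), (7879, 7717), (7880, 11496), (7881, 4720), (7882, 12152), (7883, 12157), (7884, 12153), (7885, 12160), (7886, 4722), (7887, 6808), (7888, 4724), (7889, 10759), (7890, 6796), (7891, 11507), (7892, 4727), (7893, 12165), (7894, 10757), (7895, 11721), (7896, 7735), (7897, 7591), (7898, 4732), (7899, 7707), (7900, 6400), (7901, 11519), (7902, 7743), (7903, 11966), (7904, 12175), (7905, 12176), (7906, 4738), (7907, 12179), (7908, 11700), (7909, 10359), (7910, 11530), (7911, 4740), (7912, 4741), (7913, 12185), (7914, 8507), (7915, 12186), (7916, 11539), (7917, 12188), (7918, 8518), (7919, 4745), (7920, 11992), (7921, 12195), (7922, 11994), (7923, 11995), (7924, 4747), (7925, 12201), (7926, 7772), (7927, 11555), (7928, 4751), (7929, 12205), (7930, 12209), (7931, 12206), (7932, 6720), (7933, 4753),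 (7934, 6737), (7935, 8326)]
    ⟨e3 q7872 L174830 q12137, e3 q7873 (flp_d L123069) q4715, e3 q7874 (flp_d L174850) q12141, e3 q7875 (flp_d L174858) q12142, e3 q7876 (flp_d L170296) q11491, e3 q7877 L143639 q8544, e3 q7878 L174880 q12148, e3 q7879 L123097 q7717, e3 q7880 (flp_d L170320) q11496, e3 q7881 L123107 q4720, e3 q7882 (flp_d L174902) q12152, e3 q7883 L174928 q12157, e3 q7884 (flp_d L174906) q12153, e3 q7885 L174964 q12160, e3 q7886 (flp_d L123125) q4722, e3 q7887 L163744 q6808, e3 q7888 (flp_d L123133) q4724, e3 q7889 (flp_d L165434) q10759, e3 q7890 (flp_d L163718) q6796, e3 q7891 (flp_d L170386) q11507, e3 q7892 L123153 q4727, e3 q7893 (flp_d L175015) q12165, e3 q7894 (flp_d L165412) q10757, e3 q7895 L171792 q11721, e3 q7896 (flp_d L163975) q7735, e3 q7897 L163866 q7591, e3 q7898 (flp_d L123193) q4732, e3 q7899 (flp_d L163969) q7707, e3 q7900 L163973 q6400, e3 q7901 (flp_d L170476) q11519, e3 q7902 (flp_d L163979) q7743, e3 q7903 (flp_d L173534) q11966, e3 q7904 L175104 q12175, e3 q7905 L175110 q12176,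 e3 q7906 (flp_d L123239) q4738, e3 q7907 (flp_d L175132) q12179, e3 q7908 (flp_d L171640) q11700, e3 q7909 L163955 q10359, e3 q7910 (flp_d L170546) q11530, e3 q7911 L123259 q4740, e3 q7912 L123263 q4741, e3 q7913 (flp_d L175170) q12185, e3 q7914 L151397 q8507, e3 q7915 (flp_d L175180) q12186, e3 q7916 (flp_d L170600) q11539, e3 q7917 L175192 q12188, e3 q7918 L151339 q8518, e3 q7919 (flp_d L123301) q4745, e3 q7920 (flp_d L173713) q11992, e3 q7921 L175234 q12195, e3 q7922 (flp_d L173721) q11994, e3 q7923 (flp_d L173725) q11995, e3 q7924 (flp_d L123321) q4747, e3 q7925 (flp_d L175268) q12201, e3 q7926 L123337 q7772, e3 q7927 (flp_d L170682) q11555, e3 q7928 L123351 q4751, e3 q7929 (flp_d L175290) q12205, e3 q7930 L175316 q12209, e3 q7931 (flp_d L183435) q12206, e3 q7932 (flp_d L163499) q6720, e3 q7933 (flp_d L123369) q4753, e3 q7934 L163659 q6737, e3 q7935 L129671 q8326, trivial⟩ (by decide +kernel)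

theorem ce_d_124 : ∀ r, r < 64 → sm gd (Qf (7936 + r)) = Qf (tab Gen.d (7936 + r)) :=
  edges_tab (sm gd) Qf (tab Gen.d) 7936 [(7936, 11563), (7937, 4759), (7938, 4761), (7939, 12214), (7940, 4760), (7941, 5658), (7942, 12215), (7943, 5146), (7944, 10260), (7945, 12216), (7946, 10269), (7947, 4768), (7948, 12218), (7949, 11890), (7950, 12223), (7951, 11891), (7952, 4770), (7953, 7823), (7954, 12071), (7955, 11575), (7956, 4772), (7957, 9851), (7958, 12091), (7959, 12227), (7960, 11580), (7961, 4774), (7962, 4775), (7963, 7831), (7964, 12090), (7965, 8051), (7966, 9209), (7967, 4778), (7968, 12237), (7969, 12238), (7970, 12243), (7971, 11591), (7972, 4780), (7973, 4781), (7974, 5544), (7975, 12182), (7976, 4782), (7977, 12251), (7978, 12250), (7979, 11600), (7980, 11601), (7981, 4786), (7982, 4787), (7983, 12257), (7984, 12258), (7985, 12264), (7986, 8068), (7987, 8069), (7988, 4789), (7989, 12268), (7990, 12269), (7991, 8073), (7992, 8074), (7993, 8329), (7994, 11615), (7995, 4797), (7996, 4799), (7997, 12273),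 (7998, 4798), (7999, 5625)]
    ⟨e3 q7936 (flp_d L170748) q11563, e3 q7937 L123395 q4759, e3 q7938 L123400 q4761, e3 q7939 (flp_d L175354) q12214, e3 q7940 (flp_d L123410) q4760, e3 q7941 L151012 q5658, e3 q7942 (flp_d L175364) q12215, e3 q7943 L123436 q5146, e3 q7944 (flp_d L160962) q10260, e3 q7945 L175372 q12216, e3 q7946 (flp_d L161010) q10269, e3 q7947 L123466 q4768, e3 q7948 (flp_d L175392) q12218, e3 q7949 L172991 q11890, e3 q7950 L175415 q12223, e3 q7951 (flp_d L173004) q11891, e3 q7952 (flp_d L123486) q4770, e3 q7953 L163627 q7823, e3 q7954 L174268 q12071, e3 q7955 (flp_d L170843) q11575, e3 q7956 (flp_d L123508) q4772, e3 q7957 (flp_d L163720) q9851, e3 q7958 (flp_d L174418) q12091, e3 q7959 L175440 q12227, e3 q7960 (flp_d L170873) q11580, e3 q7961 L123532 q4774, e3 q7962 L123536 q4775, e3 q7963 (flp_d L163546) q7831, e3 q7964 (flp_d L174404) q12090, e3 q7965 (flp_d L124169) q8051, e3 q7966 (flp_d L153716) q9209, e3 q7967 (flp_d L123564) q4778, e3 q7968 (flp_d L175537) q12237, e3 q7969 (flp_d L175543)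 q12238, e3 q7970 L175575 q12243, e3 q7971 (flp_d L170933) q11591, e3 q7972 L123584 q4780, e3 q7973 L123590 q4781, e3 q7974 (flp_d L146090) q5544, e3 q7975 (flp_d L175152) q12182, e3 q7976 (flp_d L123596) q4782, e3 q7977 L175625 q12251, e3 q7978 (flp_d L175623) q12250, e3 q7979 (flp_d L170983) q11600, e3 q7980 (flp_d L170989) q11601, e3 q7981 L123622 q4786, e3 q7982 L123630 q4787, e3 q7983 (flp_d L175661) q12257, e3 q7984 (flp_d L175671) q12258, e3 q7985 L175715 q12264, e3 q7986 (flp_d L124361) q8068, e3 q7987 (flp_d L124367) q8069, e3 q7988 (flp_d L123654) q4789, e3 q7989 (flp_d L175739) q12268, e3 q7990 (flp_d L175743) q12269, e3 q7991 (flp_d L124387) q8073, e3 q7992 (flp_d L124395) q8074, e3 q7993 L149243 q8329, e3 q7994 (flp_d L171087) q11615, e3 q7995 L123713 q4797, e3 q7996 L123720 q4799, e3 q7997 (flp_d L175777) q12273, e3 q7998 (flp_d L123782) q4798, e3 q7999 L123796 q5625, trivial⟩ (by decide +kernel)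

theorem ce_d_125 : ∀ r, r < 64 → sm gd (Qf (8000 + r)) = Qf (tab Gen.d (8000 + r)) :=
  edges_tab (sm gd) Qf (tab Gen.d) 8000 [(8000, 12274), (8001, 5165), (8002, 10278), (8003, 12275), (8004, 10288), (8005, 4806), (8006, 12277), (8007, 12099), (8008, 12282), (8009, 12100), (8010, 4808), (8011, 11859), (8012, 7658), (8013, 11627), (8014, 4810), (8015, 11882), (8016, 9798), (8017, 12286), (8018, 11632), (8019, 4812), (8020, 4813), (8021, 11881), (8022, 7667), (8023, 8095), (8024, 9245), (8025, 4816), (8026, 12296), (8027, 12297), (8028, 12302), (8029, 11643), (8030, 4818), (8031, 4819), (8032, 11985), (8033, 5588), (8034, 4820), (8035, 12310), (8036, 12309), (8037, 11652), (8038, 11653), (8039, 4824), (8040, 4825), (8041, 12316), (8042, 12317), (8043, 12323), (8044, 8112), (8045, 8113), (8046, 4827), (8047, 12327), (8048, 12328), (8049, 8117), (8050, 8118), (8051, 7965), (8052, 11923), (8053, 4835), (8054, 9116), (8055, 12124), (8056, 12122), (8057, 9117), (8058, 12337), (8059, 4839), (8060, 10360), (8061, 4840),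 (8062, 10406), (8063, 12344)]
    ⟨e3 q8000 (flp_d L175787) q12274, e3 q8001 L147960 q5165, e3 q8002 (flp_d L161076) q10278, e3 q8003 L175795 q12275, e3 q8004 (flp_d L161132) q10288, e3 q8005 L123898 q4806, e3 q8006 (flp_d L175815) q12277, e3 q8007 L174502 q12099, e3 q8008 L175846 q12282, e3 q8009 (flp_d L174517) q12100, e3 q8010 (flp_d L123920) q4808, e3 q8011 L172763 q11859, e3 q8012 (flp_d L163574) q7658, e3 q8013 (flp_d L171186) q11627, e3 q8014 (flp_d L123946) q4810, e3 q8015 (flp_d L172923) q11882, e3 q8016 L163752 q9798, e3 q8017 L175871 q12286, e3 q8018 (flp_d L171216) q11632, e3 q8019 L123995 q4812, e3 q8020 L124001 q4813, e3 q8021 (flp_d L172909) q11881, e3 q8022 L163485 q7667, e3 q8023 (flp_d L124586) q8095, e3 q8024 (flp_d L153988) q9245, e3 q8025 (flp_d L124025) q4816, e3 q8026 (flp_d L175927) q12296, e3 q8027 (flp_d L175933) q12297, e3 q8028 L175969 q12302, e3 q8029 (flp_d L171276) q11643, e3 q8030 L124045 q4818, e3 q8031 L124051 q4819, e3 q8032 (flp_d L173665) q11985, e3 q8033 (flp_d L151548) q5588,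 e3 q8034 (flp_d L124065) q4820, e3 q8035 L176019 q12310, e3 q8036 (flp_d L176017) q12309, e3 q8037 (flp_d L171326) q11652, e3 q8038 (flp_d L171334) q11653, e3 q8039 L124091 q4824, e3 q8040 L124099 q4825, e3 q8041 (flp_d L176055) q12316, e3 q8042 (flp_d L176061) q12317, e3 q8043 L176107 q12323, e3 q8044 (flp_d L124754) q8112, e3 q8045 (flp_d L124760) q8113, e3 q8046 (flp_d L124123) q4827, e3 q8047 (flp_d L176131) q12327, e3 q8048 (flp_d L176139) q12328, e3 q8049 (flp_d L124780) q8117, e3 q8050 (flp_d L124788) q8118, e3 q8051 L124169 q7965, e3 q8052 (flp_d L173244) q11923, e3 q8053 (flp_d L124187) q4835, e3 q8054 (flp_d L152898) q9116, e3 q8055 (flp_d L174703) q12124, e3 q8056 L174683 q12122, e3 q8057 (flp_d L152906) q9117, e3 q8058 L176225 q12337, e3 q8059 (flp_d L124247) q4839, e3 q8060 (flp_d L163629) q10360, e3 q8061 (flp_d L124287) q4840, e3 q8062 (flp_d L163610) q10406, e3 q8063 (flp_d L176298) q12344, trivial⟩ (by decide +kernel)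

theorem ce_d_126 : ∀ r, r < 64 → sm gd (Qf (8064 + r)) = Qf (tab Gen.d (8064 + r)) :=
  edges_tab (sm gd) Qf (tab Gen.d) 8064 [(8064, 6773), (8065, 4842), (8066, 12347), (8067, 8347), (8068, 7986), (8069, 7987), (8070, 4844), (8071, 12351), (8072, 8906), (8073, 7991), (8074, 7992), (8075, 12353), (8076, 11787), (8077, 5149), (8078, 8092), (8079, 12361), (8080, 4851), (8081, 4852), (8082, 4850), (8083, 12364), (8084, 4853), (8085, 12368), (8086, 8128), (8087, 12367), (8088, 4854), (8089, 12373), (8090, 8130), (8091, 4859), (8092, 8078), (8093, 4858), (8094, 11744), (8095, 8023), (8096, 12129), (8097, 4864), (8098, 9170), (8099, 11916), (8100, 11918), (8101, 9171), (8102, 12383), (8103, 4868), (8104, 10323), (8105, 4869), (8106, 12390), (8107, 10440), (8108, 6847), (8109, 4871), (8110, 12393), (8111, 8339), (8112, 8044), (8113, 8045), (8114, 4873), (8115, 8913), (8116, 12397), (8117, 8049), (8118, 8050), (8119, 12399), (8120, 5168), (8121, 8132), (8122, 12374), (8123, 4879), (8124, 12405), (8125, 4880), (8126, 12408),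 (8127, 12360)]
    ⟨e3 q8064 (flp_d L142778) q6773, e3 q8065 L124325 q4842, e3 q8066 (flp_d L176320) q12347, e3 q8067 (flp_d L130516) q8347, e3 q8068 L124361 q7986, e3 q8069 L124367 q7987, e3 q8070 (flp_d L124369) q4844, e3 q8071 (flp_d L176362) q12351, e3 q8072 (flp_d L146134) q8906, e3 q8073 L124387 q7991, e3 q8074 L124395 q7992, e3 q8075 L176380 q12353, e3 q8076 (flp_d L172275) q11787, e3 q8077 (flp_d L130480) q5149, e3 q8078 (flp_d L142451) q8092, e3 q8079 L176452 q12361, e3 q8080 L124429 q4851, e3 q8081 L124435 q4852, e3 q8082 (flp_d L124437) q4850, e3 q8083 (flp_d L176478) q12364, e3 q8084 (flp_d L124461) q4853, e3 q8085 L176508 q12368, e3 q8086 L148840 q8128, e3 q8087 (flp_d L176504) q12367, e3 q8088 (flp_d L124479) q4854, e3 q8089 (flp_d L176542) q12373, e3 q8090 L149045 q8130, e3 q8091 L124495 q4859, e3 q8092 L142451 q8078, e3 q8093 L124511 q4858, e3 q8094 (flp_d L171976) q11744, e3 q8095 L124586 q8023, e3 q8096 (flp_d L174763) q12129, e3 q8097 (flp_d L124604) q4864, e3 q8098 (flp_d L153327) q9170, e3 q8099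 L173170 q11916, e3 q8100 (flp_d L173186) q11918, e3 q8101 (flp_d L153335) q9171, e3 q8102 L176646 q12383, e3 q8103 (flp_d L124648) q4868, e3 q8104 (flp_d L163501) q10323, e3 q8105 (flp_d L124668) q4869, e3 q8106 (flp_d L176719) q12390, e3 q8107 (flp_d L163766) q10440, e3 q8108 L142802 q6847, e3 q8109 L124704 q4871, e3 q8110 (flp_d L176741) q12393, e3 q8111 L149748 q8339, e3 q8112 L124754 q8044, e3 q8113 L124760 q8045, e3 q8114 (flp_d L124762) q4873, e3 q8115 (flp_d L151578) q8913, e3 q8116 (flp_d L176785) q12397, e3 q8117 L124780 q8049, e3 q8118 L124788 q8050, e3 q8119 L176803 q12399, e3 q8120 L147247 q5168, e3 q8121 (flp_d L136990) q8132, e3 q8122 (flp_d L176552) q12374, e3 q8123 L124822 q4879, e3 q8124 (flp_d L176859) q12405, e3 q8125 (flp_d L124854) q4880, e3 q8126 L176885 q12408, e3 q8127 (flp_d L176448) q12360, trivial⟩ (by decide +kernel)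

theorem ce_d_127 : ∀ r, r < 64 → sm gd (Qf (8128 + r)) = Qf (tab Gen.d (8128 + r)) :=
  edges_tab (sm gd) Qf (tab Gen.d) 8128 [(8128, 8086), (8129, 4881), (8130, 8090), (8131, 12362), (8132, 8121), (8133, 6453), (8134, 4893), (8135, 4896), (8136, 12416), (8137, 4899), (8138, 10357), (8139, 4889), (8140, 10355), (8141, 4903), (8142, 4906), (8143, 4892), (8144, 12425), (8145, 4914), (8146, 4916), (8147, 12430), (8148, 8180), (8149, 5971), (8150, 4918), (8151, 12414), (8152, 12441), (8153, 4897), (8154, 6422), (8155, 12417), (8156, 9683), (8157, 12419), (8158, 12448), (8159, 4900), (8160, 6454), (8161, 12421), (8162, 4902), (8163, 12455), (8164, 12456), (8165, 12423), (8166, 6066), (8167, 10795), (8168, 9127), (8169, 10797), (8170, 12339), (8171, 4908), (8172, 11885), (8173, 10320), (8174, 4910), (8175, 10318), (8176, 4922), (8177, 4925), (8178, 4913), (8179, 12470), (8180, 8148), (8181, 5986), (8182, 12428), (8183, 12477), (8184, 4917), (8185, 12433), (8186, 9705), (8187, 12435), (8188, 12484), (8189, 4919), (8190,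 6423), (8191, 12466)]
    ⟨e3 q8128 (flp_d L148840) q8086, e3 q8129 (flp_d L124872) q4881, e3 q8130 (flp_d L149045) q8090, e3 q8131 (flp_d L176464) q12362, e3 q8132 L136990 q8121, e3 q8133 L163465 q6453, e3 q8134 L125412 q4893, e3 q8135 L125483 q4896, e3 q8136 L176947 q12416, e3 q8137 L125528 q4899, e3 q8138 (flp_d L163562) q10357, e3 q8139 (flp_d L125542) q4889, e3 q8140 (flp_d L163560) q10355, e3 q8141 L125554 q4903, e3 q8142 L141046 q4906, e3 q8143 (flp_d L125578) q4892, e3 q8144 (flp_d L177031) q12425, e3 q8145 L148811 q4914, e3 q8146 L147055 q4916, e3 q8147 L177071 q12430, e3 q8148 L148842 q8180, e3 q8149 L157085 q5971, e3 q8150 L148750 q4918, e3 q8151 (flp_d L176935) q12414, e3 q8152 L177150 q12441, e3 q8153 (flp_d L125725) q4897, e3 q8154 L163256 q6422, e3 q8155 (flp_d L176959) q12417, e3 q8156 (flp_d L157223) q9683, e3 q8157 (flp_d L176985) q12419, e3 q8158 L177198 q12448, e3 q8159 (flp_d L125828) q4900, e3 q8160 L163645 q6454, e3 q8161 (flp_d L177003) q12421, e3 q8162 L125850 q4902, e3 q8163 (flp_d L177238)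 q12455, e3 q8164 (flp_d L177254) q12456, e3 q8165 (flp_d L177017) q12423, e3 q8166 L142750 q6066, e3 q8167 (flp_d L165710) q10795, e3 q8168 (flp_d L152961) q9127, e3 q8169 (flp_d L165724) q10797, e3 q8170 (flp_d L176260) q12339, e3 q8171 L125930 q4908, e3 q8172 L172951 q11885, e3 q8173 (flp_d L163421) q10320, e3 q8174 (flp_d L126354) q4910, e3 q8175 (flp_d L163419) q10318, e3 q8176 L126366 q4922, e3 q8177 L141038 q4925, e3 q8178 (flp_d L126390) q4913, e3 q8179 (flp_d L177370) q12470, e3 q8180 (flp_d L148842) q8148, e3 q8181 (flp_d L157089) q5986, e3 q8182 (flp_d L177059) q12428, e3 q8183 L177425 q12477, e3 q8184 (flp_d L126547) q4917, e3 q8185 (flp_d L177094) q12433, e3 q8186 (flp_d L157335) q9705, e3 q8187 (flp_d L177118) q12435, e3 q8188 L177473 q12484, e3 q8189 (flp_d L126640) q4919, e3 q8190 L163511 q6423, e3 q8191 (flp_d L177340) q12466, trivial⟩ (by decide +kernel)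

theorem ce_d_128 : ∀ r, r < 64 → sm gd (Qf (8192 + r)) = Qf (tab Gen.d (8192 + r)) :=
  edges_tab (sm gd) Qf (tab Gen.d) 8192 [(8192, 4921), (8193, 12491), (8194, 12492), (8195, 12468), (8196, 6104), (8197, 10714), (8198, 10716), (8199, 9181), (8200, 12385), (8201, 4927), (8202, 12094), (8203, 9354), (8204, 9355), (8205, 5091), (8206, 5089), (8207, 12457), (8208, 7841), (8209, 12493), (8210, 7677), (8211, 4940), (8212, 12503), (8213, 12504), (8214, 4943), (8215, 4944), (8216, 12505), (8217, 12506), (8218, 4947), (8219, 4948), (8220, 12509), (8221, 12511), (8222, 12512), (8223, 12514), (8224, 6162), (8225, 6163), (8226, 4955), (8227, 6275), (8228, 4956), (8229, 4957), (8230, 4958), (8231, 6303), (8232, 4959), (8233, 4960), (8234, 12523), (8235, 12524), (8236, 12537), (8237, 12526), (8238, 12527), (8239, 12528), (8240, 12546), (8241, 12530), (8242, 4967), (8243, 6276), (8244, 4968), (8245, 4969), (8246, 6302), (8247, 4970), (8248, 12549), (8249, 12551), (8250, 12552), (8251, 12554), (8252, 5382), (8253, 5386), (8254,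 5387), (8255, 5389)]
    ⟨e3 q8192 L126662 q4921, e3 q8193 (flp_d L177513) q12491, e3 q8194 (flp_d L177529) q12492, e3 q8195 (flp_d L177354) q12468, e3 q8196 L149492 q6104, e3 q8197 (flp_d L165080) q10714, e3 q8198 (flp_d L165094) q10716, e3 q8199 (flp_d L153398) q9181, e3 q8200 (flp_d L176681) q12385, e3 q8201 L126728 q4927, e3 q8202 L174448 q12094, e3 q8203 (flp_d L154798) q9354, e3 q8204 (flp_d L154805) q9355, e3 q8205 L128603 q5091, e3 q8206 L128617 q5089, e3 q8207 (flp_d L177266) q12457, e3 q8208 L149184 q7841, e3 q8209 (flp_d L177541) q12493, e3 q8210 L128655 q7677, e3 q8211 (flp_d L128659) q4940, e3 q8212 (flp_d L177627) q12503, e3 q8213 (flp_d L177637) q12504, e3 q8214 L128699 q4943, e3 q8215 L128707 q4944, e3 q8216 (flp_d L177645) q12505, e3 q8217 (flp_d L177657) q12506, e3 q8218 L128733 q4947, e3 q8219 L128739 q4948, e3 q8220 (flp_d L177673) q12509, e3 q8221 (flp_d L177685) q12511, e3 q8222 (flp_d L177691) q12512, e3 q8223 (flp_d L177703) q12514, e3 q8224 L128765 q6162, e3 q8225 L128773 q6163, e3 q8226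 L128781 q4955, e3 q8227 L128797 q6275, e3 q8228 L128801 q4956, e3 q8229 L128807 q4957, e3 q8230 L128813 q4958, e3 q8231 L128829 q6303, e3 q8232 L128833 q4959, e3 q8233 L128839 q4960, e3 q8234 (flp_d L177781) q12523, e3 q8235 (flp_d L177789) q12524, e3 q8236 L177874 q12537, e3 q8237 (flp_d L177799) q12526, e3 q8238 (flp_d L177807) q12527, e3 q8239 (flp_d L177815) q12528, e3 q8240 L177939 q12546, e3 q8241 (flp_d L177825) q12530, e3 q8242 L128893 q4967, e3 q8243 L128905 q6276, e3 q8244 L128913 q4968, e3 q8245 L128933 q4969, e3 q8246 L128945 q6302, e3 q8247 L128953 q4970, e3 q8248 (flp_d L177963) q12549, e3 q8249 (flp_d L177983) q12551, e3 q8250 (flp_d L177989) q12552, e3 q8251 (flp_d L178009) q12554, e3 q8252 L129004 q5382, e3 q8253 L129022 q5386, e3 q8254 L129026 q5387, e3 q8255 L129034 q5389, trivial⟩ (by decide +kernel)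

theorem ce_d_129 : ∀ r, r < 64 → sm gd (Qf (8256 + r)) = Qf (tab Gen.d (8256 + r)) :=
  edges_tab (sm gd) Qf (tab Gen.d) 8256 [(8256, 5391), (8257, 5392), (8258, 5394), (8259, 5396), (8260, 5397), (8261, 5400), (8262, 5404), (8263, 5635), (8264, 5406), (8265, 5407), (8266, 9221), (8267, 5409), (8268, 4982), (8269, 9216), (8270, 5412), (8271, 5413), (8272, 5415), (8273, 5420), (8274, 5669), (8275, 5422), (8276, 5423), (8277, 9257), (8278, 5425), (8279, 4987), (8280, 9251), (8281, 5428), (8282, 5431), (8283, 5437), (8284, 5438), (8285, 5445), (8286, 5552), (8287, 5447), (8288, 5460), (8289, 9211), (8290, 5462), (8291, 5474), (8292, 5480), (8293, 5481), (8294, 5489), (8295, 5597), (8296, 5491), (8297, 5501), (8298, 9247), (8299, 5503), (8300, 4999), (8301, 7374), (8302, 5001), (8303, 5002), (8304, 7405), (8305, 5004), (8306, 6012), (8307, 6965), (8308, 8311), (8309, 5000), (8310, 11568), (8311, 8308), (8312, 6028), (8313, 6976), (8314, 8317), (8315, 5003), (8316, 11620), (8317, 8314), (8318, 5027), (8319, 5028)]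
    ⟨e3 q8256 L129044 q5391, e3 q8257 L129050 q5392, e3 q8258 L129060 q5394, e3 q8259 L129074 q5396, e3 q8260 L129080 q5397, e3 q8261 L129084 q5400, e3 q8262 L129088 q5404, e3 q8263 (flp_d L153040) q5635, e3 q8264 L129099 q5406, e3 q8265 L129103 q5407, e3 q8266 (flp_d L153812) q9221, e3 q8267 L129113 q5409, e3 q8268 (flp_d L129121) q4982, e3 q8269 (flp_d L153775) q9216, e3 q8270 L129131 q5412, e3 q8271 L129137 q5413, e3 q8272 L129144 q5415, e3 q8273 L129154 q5420, e3 q8274 L153467 q5669, e3 q8275 L129165 q5422, e3 q8276 L129169 q5423, e3 q8277 (flp_d L154080) q9257, e3 q8278 L129179 q5425, e3 q8279 (flp_d L129187) q4987, e3 q8280 (flp_d L154035) q9251, e3 q8281 L129197 q5428, e3 q8282 L129207 q5431, e3 q8283 L129215 q5437, e3 q8284 L129225 q5438, e3 q8285 L129233 q5445, e3 q8286 L153057 q5552, e3 q8287 L129240 q5447, e3 q8288 L129248 q5460, e3 q8289 (flp_d L153730) q9211, e3 q8290 L129255 q5462, e3 q8291 L129269 q5474, e3 q8292 L129290 q5480, e3 q8293 L129296 q5481, e3 q8294 L129310 q5489, e3 q8295 L153500 q5597,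 e3 q8296 L129317 q5491, e3 q8297 L129325 q5501, e3 q8298 (flp_d L154002) q9247, e3 q8299 L129332 q5503, e3 q8300 L129338 q4999, e3 q8301 (flp_d L129357) q7374, e3 q8302 L129361 q5001, e3 q8303 L129367 q5002, e3 q8304 (flp_d L151119) q7405, e3 q8305 L129382 q5004, e3 q8306 L129388 q6012, e3 q8307 (flp_d L129400) q6965, e3 q8308 (flp_d L129432) q8311, e3 q8309 (flp_d L129412) q5000, e3 q8310 (flp_d L170795) q11568, e3 q8311 L129432 q8308, e3 q8312 (flp_d L149537) q6028, e3 q8313 L151089 q6976, e3 q8314 (flp_d L129470) q8317, e3 q8315 (flp_d L129456) q5003, e3 q8316 (flp_d L171134) q11620, e3 q8317 L129470 q8314, e3 q8318 L129486 q5027, e3 q8319 L129492 q5028, trivial⟩ (by decide +kernel)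

theorem ce_d_130 : ∀ r, r < 64 → sm gd (Qf (8320 + r)) = Qf (tab Gen.d (8320 + r)) :=
  edges_tab (sm gd) Qf (tab Gen.d) 8320 [(8320, 5116), (8321, 7633), (8322, 5118), (8323, 5120), (8324, 7798), (8325, 5122), (8326, 7935), (8327, 5010), (8328, 12603), (8329, 7993), (8330, 5013), (8331, 12604), (8332, 5999), (8333, 7502), (8334, 5016), (8335, 12607), (8336, 7499), (8337, 5019), (8338, 12213), (8339, 8111), (8340, 6005), (8341, 7516), (8342, 5022), (8343, 12613), (8344, 7513), (8345, 5025), (8346, 12272), (8347, 8067), (8348, 8349), (8349, 8348), (8350, 5035), (8351, 7182), (8352, 5037), (8353, 5038), (8354, 5039), (8355, 7284), (8356, 5041), (8357, 5042), (8358, 10442), (8359, 12622), (8360, 5036), (8361, 12623), (8362, 12617), (8363, 12618), (8364, 10182), (8365, 6600), (8366, 10492), (8367, 12633), (8368, 5040), (8369, 12634), (8370, 12619), (8371, 12620), (8372, 10149), (8373, 6561), (8374, 5051), (8375, 5053), (8376, 7183), (8377, 5056), (8378, 5057), (8379, 5058), (8380, 5060), (8381, 5061), (8382, 5063),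 (8383, 7283)]
    ⟨e3 q8320 L129504 q5116, e3 q8321 L129521 q7633, e3 q8322 L129525 q5118, e3 q8323 L129531 q5120, e3 q8324 L129653 q7798, e3 q8325 L129657 q5122, e3 q8326 (flp_d L129671) q7935, e3 q8327 (flp_d L129673) q5010, e3 q8328 (flp_d L178493) q12603, e3 q8329 (flp_d L149243) q7993, e3 q8330 (flp_d L129709) q5013, e3 q8331 (flp_d L178503) q12604, e3 q8332 L129733 q5999, e3 q8333 (flp_d L129743) q7502, e3 q8334 (flp_d L129745) q5016, e3 q8335 (flp_d L178533) q12607, e3 q8336 L129777 q7499, e3 q8337 L129781 q5019, e3 q8338 (flp_d L175344) q12213, e3 q8339 (flp_d L149748) q8111, e3 q8340 (flp_d L149535) q6005, e3 q8341 (flp_d L151268) q7516, e3 q8342 (flp_d L129809) q5022, e3 q8343 (flp_d L178579) q12613, e3 q8344 (flp_d L151266) q7513, e3 q8345 L129832 q5025, e3 q8346 (flp_d L175767) q12272, e3 q8347 L130516 q8067, e3 q8348 (flp_d L129864) q8349, e3 q8349 L129864 q8348, e3 q8350 L129892 q5035, e3 q8351 (flp_d L129906) q7182, e3 q8352 L129910 q5037, e3 q8353 L129914 q5038, e3 q8354 L129918 q5039, e3 q8355 (flp_d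 L129930) q7284, e3 q8356 L129934 q5041, e3 q8357 L129938 q5042, e3 q8358 (flp_d L162214) q10442, e3 q8359 L178637 q12622, e3 q8360 (flp_d L129962) q5036, e3 q8361 (flp_d L178649) q12623, e3 q8362 (flp_d L178601) q12617, e3 q8363 (flp_d L178609) q12618, e3 q8364 L163836 q10182, e3 q8365 L149011 q6600, e3 q8366 (flp_d L162532) q10492, e3 q8367 L178715 q12633, e3 q8368 (flp_d L130008) q5040, e3 q8369 (flp_d L178727) q12634, e3 q8370 (flp_d L178617) q12619, e3 q8371 (flp_d L178625) q12620, e3 q8372 L163679 q10149, e3 q8373 L130038 q6561, e3 q8374 L130046 q5051, e3 q8375 L130058 q5053, e3 q8376 L130068 q7183, e3 q8377 L130072 q5056, e3 q8378 L130082 q5057, e3 q8379 L130088 q5058, e3 q8380 L130099 q5060, e3 q8381 L130107 q5061, e3 q8382 L130119 q5063, e3 q8383 L130129 q7283, trivial⟩ (by decide +kernel)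

theorem ce_d_131 : ∀ r, r < 64 → sm gd (Qf (8384 + r)) = Qf (tab Gen.d (8384 + r)) :=
  edges_tab (sm gd) Qf (tab Gen.d) 8384 [(8384, 5066), (8385, 5067), (8386, 5068), (8387, 5070), (8388, 12643), (8389, 12662), (8390, 5052), (8391, 12665), (8392, 12644), (8393, 5143), (8394, 5055), (8395, 12670), (8396, 12671), (8397, 12646), (8398, 12675), (8399, 12647), (8400, 12648), (8401, 12649), (8402, 12683), (8403, 12650), (8404, 5059), (8405, 12687), (8406, 12651), (8407, 12652), (8408, 12691), (8409, 5062), (8410, 12694), (8411, 12653), (8412, 5162), (8413, 5065), (8414, 12699), (8415, 12700), (8416, 12655), (8417, 12704), (8418, 12656), (8419, 12657), (8420, 12658), (8421, 12712), (8422, 12659), (8423, 5069), (8424, 12716), (8425, 12660), (8426, 5182), (8427, 5073), (8428, 12720), (8429, 12722), (8430, 5186), (8431, 5193), (8432, 5077), (8433, 12727), (8434, 12729), (8435, 5197), (8436, 5081), (8437, 9415), (8438, 9416), (8439, 5086), (8440, 5087), (8441, 11848), (8442, 12062), (8443, 10469), (8444, 10519), (8445,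 5656), (8446, 5105), (8447, 5106)]
    ⟨e3 q8384 L130133 q5066, e3 q8385 L130143 q5067, e3 q8386 L130149 q5068, e3 q8387 L130160 q5070, e3 q8388 (flp_d L178791) q12643, e3 q8389 L178977 q12662, e3 q8390 (flp_d L130176) q5052, e3 q8391 (flp_d L178997) q12665, e3 q8392 (flp_d L178799) q12644, e3 q8393 L130198 q5143, e3 q8394 L130202 q5055, e3 q8395 (flp_d L179029) q12670, e3 q8396 (flp_d L179037) q12671, e3 q8397 (flp_d L178818) q12646, e3 q8398 L179061 q12675, e3 q8399 (flp_d L178830) q12647, e3 q8400 (flp_d L178836) q12648, e3 q8401 (flp_d L178844) q12649, e3 q8402 L179111 q12683, e3 q8403 (flp_d L178856) q12650, e3 q8404 (flp_d L130258) q5059, e3 q8405 (flp_d L179141) q12687, e3 q8406 (flp_d L178870) q12651, e3 q8407 (flp_d L178882) q12652, e3 q8408 L179173 q12691, e3 q8409 (flp_d L130296) q5062, e3 q8410 (flp_d L179193) q12694, e3 q8411 (flp_d L178890) q12653, e3 q8412 L130318 q5162, e3 q8413 L130322 q5065, e3 q8414 (flp_d L179225) q12699, e3 q8415 (flp_d L179233) q12700, e3 q8416 (flp_d L178909) q12655, e3 q8417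 L179257 q12704, e3 q8418 (flp_d L178921) q12656, e3 q8419 (flp_d L178927) q12657, e3 q8420 (flp_d L178935) q12658, e3 q8421 L179309 q12712, e3 q8422 (flp_d L178947) q12659, e3 q8423 (flp_d L130380) q5069, e3 q8424 (flp_d L179339) q12716, e3 q8425 (flp_d L178961) q12660, e3 q8426 L130404 q5182, e3 q8427 L130410 q5073, e3 q8428 (flp_d L179371) q12720, e3 q8429 (flp_d L179379) q12722, e3 q8430 L130430 q5186, e3 q8431 L130436 q5193, e3 q8432 L130444 q5077, e3 q8433 (flp_d L179421) q12727, e3 q8434 (flp_d L179429) q12729, e3 q8435 L130468 q5197, e3 q8436 (flp_d L130534) q5081, e3 q8437 (flp_d L155274) q9415, e3 q8438 (flp_d L155286) q9416, e3 q8439 L130622 q5086, e3 q8440 L130626 q5087, e3 q8441 (flp_d L172673) q11848, e3 q8442 (flp_d L174188) q12062, e3 q8443 (flp_d L162374) q10469, e3 q8444 (flp_d L162692) q10519, e3 q8445 (flp_d L150520) q5656, e3 q8446 L142865 q5105, e3 q8447 L142871 q5106, trivial⟩ (by decide +kernel)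

theorem ce_d_132 : ∀ r, r < 64 → sm gd (Qf (8448 + r)) = Qf (tab Gen.d (8448 + r)) :=
  edges_tab (sm gd) Qf (tab Gen.d) 8448 [(8448, 5623), (8449, 5112), (8450, 5113), (8451, 6618), (8452, 10544), (8453, 9770), (8454, 10778), (8455, 12737), (8456, 10614), (8457, 10627), (8458, 6832), (8459, 5107), (8460, 12740), (8461, 6829), (8462, 6666), (8463, 10599), (8464, 9825), (8465, 10694), (8466, 12746), (8467, 10562), (8468, 10577), (8469, 6758), (8470, 5114), (8471, 12749), (8472, 6755), (8473, 12599), (8474, 7608), (8475, 7595), (8476, 12601), (8477, 7563), (8478, 7550), (8479, 9263), (8480, 5147), (8481, 12751), (8482, 5150), (8483, 5151), (8484, 5129), (8485, 12753), (8486, 5156), (8487, 9316), (8488, 5166), (8489, 12755), (8490, 5169), (8491, 5170), (8492, 5136), (8493, 12757), (8494, 5175), (8495, 6640), (8496, 7796), (8497, 12664), (8498, 5141), (8499, 12761), (8500, 12762), (8501, 6683), (8502, 12669), (8503, 5145), (8504, 12764), (8505, 12073), (8506, 8519), (8507, 7914), (8508, 5148), (8509, 12189), (8510,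 12356), (8511, 10733)]
    ⟨e3 q8448 (flp_d L149269) q5623, e3 q8449 L142895 q5112, e3 q8450 L142905 q5113, e3 q8451 L142913 q6618, e3 q8452 (flp_d L162881) q10544, e3 q8453 (flp_d L157809) q9770, e3 q8454 (flp_d L165592) q10778, e3 q8455 L179489 q12737, e3 q8456 (flp_d L164370) q10614, e3 q8457 (flp_d L164472) q10627, e3 q8458 (flp_d L149019) q6832, e3 q8459 (flp_d L142949) q5107, e3 q8460 (flp_d L179519) q12740, e3 q8461 (flp_d L149021) q6829, e3 q8462 L149582 q6666, e3 q8463 (flp_d L164228) q10599, e3 q8464 (flp_d L158117) q9825, e3 q8465 (flp_d L164971) q10694, e3 q8466 L179557 q12746, e3 q8467 (flp_d L163059) q10562, e3 q8468 (flp_d L164059) q10577, e3 q8469 L143021 q6758, e3 q8470 (flp_d L143025) q5114, e3 q8471 (flp_d L179587) q12749, e3 q8472 L143037 q6755, e3 q8473 (flp_d L178441) q12599, e3 q8474 (flp_d L163372) q7608, e3 q8475 (flp_d L163378) q7595, e3 q8476 (flp_d L178467) q12601, e3 q8477 (flp_d L163231) q7563, e3 q8478 (flp_d L163225) q7550, e3 q8479 (flp_d L154124) q9263, e3 q8480 L143149 q5147, e3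 q8481 L179599 q12751, e3 q8482 L143159 q5150, e3 q8483 L143163 q5151, e3 q8484 (flp_d L143173) q5129, e3 q8485 (flp_d L179613) q12753, e3 q8486 L143187 q5156, e3 q8487 (flp_d L154454) q9316, e3 q8488 L143233 q5166, e3 q8489 L179627 q12755, e3 q8490 L143247 q5169, e3 q8491 L143251 q5170, e3 q8492 (flp_d L143279) q5136, e3 q8493 (flp_d L179641) q12757, e3 q8494 L143291 q5175, e3 q8495 L143297 q6640, e3 q8496 L143303 q7796, e3 q8497 (flp_d L178991) q12664, e3 q8498 L143317 q5141, e3 q8499 (flp_d L179677) q12761, e3 q8500 L179687 q12762, e3 q8501 L150780 q6683, e3 q8502 (flp_d L179023) q12669, e3 q8503 L143343 q5145, e3 q8504 (flp_d L179707) q12764, e3 q8505 (flp_d L174286) q12073, e3 q8506 (flp_d L151238) q8519, e3 q8507 (flp_d L151397) q7914, e3 q8508 (flp_d L143363) q5148, e3 q8509 (flp_d L175206) q12189, e3 q8510 (flp_d L176410) q12356, e3 q8511 (flp_d L165230) q10733, trivial⟩ (by decide +kernel)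

theorem ce_d_133 : ∀ r, r < 64 → sm gd (Qf (8512 + r)) = Qf (tab Gen.d (8512 + r)) :=
  edges_tab (sm gd) Qf (tab Gen.d) 8512 [(8512, 9710), (8513, 9661), (8514, 10613), (8515, 7714), (8516, 6693), (8517, 10611), (8518, 7918), (8519, 8506), (8520, 12686), (8521, 5155), (8522, 12187), (8523, 12348), (8524, 6650), (8525, 7627), (8526, 12693), (8527, 5160), (8528, 12786), (8529, 12787), (8530, 6637), (8531, 12698), (8532, 5164), (8533, 12789), (8534, 11857), (8535, 8548), (8536, 7753), (8537, 5167), (8538, 11999), (8539, 12401), (8540, 10648), (8541, 9688), (8542, 9668), (8543, 10560), (8544, 7877), (8545, 10558), (8546, 6648), (8547, 7761), (8548, 8535), (8549, 12715), (8550, 5174), (8551, 11991), (8552, 12394), (8553, 6414), (8554, 5180), (8555, 5621), (8556, 12810), (8557, 12719), (8558, 5184), (8559, 6556), (8560, 12112), (8561, 10317), (8562, 6446), (8563, 5191), (8564, 5654), (8565, 12814), (8566, 12726), (8567, 5195), (8568, 6595), (8569, 11905), (8570, 10354), (8571, 9654), (8572, 9493), (8573, 5203), (8574,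 6107), (8575, 6105)]
    ⟨e3 q8512 L163633 q9710, e3 q8513 L162889 q9661, e3 q8514 (flp_d L164360) q10613, e3 q8515 (flp_d L151445) q7714, e3 q8516 (flp_d L147439) q6693, e3 q8517 (flp_d L164338) q10611, e3 q8518 (flp_d L151339) q7918, e3 q8519 L151238 q8506, e3 q8520 (flp_d L179137) q12686, e3 q8521 L143467 q5155, e3 q8522 (flp_d L175188) q12187, e3 q8523 (flp_d L176330) q12348, e3 q8524 L143497 q6650, e3 q8525 L150934 q7627, e3 q8526 (flp_d L179187) q12693, e3 q8527 L143537 q5160, e3 q8528 (flp_d L179895) q12786, e3 q8529 L179905 q12787, e3 q8530 L143551 q6637, e3 q8531 (flp_d L179219) q12698, e3 q8532 L143575 q5164, e3 q8533 (flp_d L179925) q12789, e3 q8534 L172743 q11857, e3 q8535 L149305 q8548, e3 q8536 (flp_d L143601) q7753, e3 q8537 (flp_d L143605) q5167, e3 q8538 (flp_d L173761) q11999, e3 q8539 (flp_d L176821) q12401, e3 q8540 (flp_d L164619) q10648, e3 q8541 (flp_d L163517) q9688, e3 q8542 L162903 q9668, e3 q8543 (flp_d L163045) q10560, e3 q8544 (flp_d L143639) q7877, e3 q8545 (flp_d L163023) q10558, e3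 q8546 L143645 q6648, e3 q8547 L143657 q7761, e3 q8548 (flp_d L149305) q8535, e3 q8549 (flp_d L179335) q12715, e3 q8550 L143685 q5174, e3 q8551 (flp_d L173705) q11991, e3 q8552 (flp_d L176751) q12394, e3 q8553 L143703 q6414, e3 q8554 L143717 q5180, e3 q8555 L143725 q5621, e3 q8556 (flp_d L180105) q12810, e3 q8557 (flp_d L179365) q12719, e3 q8558 L143743 q5184, e3 q8559 (flp_d L146080) q6556, e3 q8560 L174615 q12112, e3 q8561 L161374 q10317, e3 q8562 (flp_d L150974) q6446, e3 q8563 L143815 q5191, e3 q8564 L143823 q5654, e3 q8565 (flp_d L180137) q12814, e3 q8566 (flp_d L179415) q12726, e3 q8567 L143845 q5195, e3 q8568 (flp_d L151431) q6595, e3 q8569 L173096 q11905, e3 q8570 (flp_d L161625) q10354, e3 q8571 (flp_d L157019) q9654, e3 q8572 (flp_d L155818) q9493, e3 q8573 L143891 q5203, e3 q8574 L143901 q6107, e3 q8575 L143909 q6105, trivial⟩ (by decide +kernel)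

theorem ce_d_134 : ∀ r, r < 64 → sm gd (Qf (8576 + r)) = Qf (tab Gen.d (8576 + r)) :=
  edges_tab (sm gd) Qf (tab Gen.d) 8576 [(8576, 6108), (8577, 9799), (8578, 9142), (8579, 5205), (8580, 9655), (8581, 9509), (8582, 5211), (8583, 6070), (8584, 6067), (8585, 6069), (8586, 9852), (8587, 9089), (8588, 5213), (8589, 5215), (8590, 5216), (8591, 11119), (8592, 11188), (8593, 5219), (8594, 5220), (8595, 5221), (8596, 5222), (8597, 12823), (8598, 9902), (8599, 12825), (8600, 12826), (8601, 12827), (8602, 9920), (8603, 12829), (8604, 12830), (8605, 5225), (8606, 12844), (8607, 5227), (8608, 5228), (8609, 12850), (8610, 5230), (8611, 12841), (8612, 9897), (8613, 12843), (8614, 9903), (8615, 12846), (8616, 12847), (8617, 9914), (8618, 12849), (8619, 9919), (8620, 12852), (8621, 6893), (8622, 7167), (8623, 6895), (8624, 6896), (8625, 7270), (8626, 6898), (8627, 5241), (8628, 5245), (8629, 5246), (8630, 12876), (8631, 5248), (8632, 5249), (8633, 5253), (8634, 5254), (8635, 12888), (8636, 5256), (8637, 12867), (8638, 12891),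 (8639, 11293)]
    ⟨e3 q8576 (flp_d L150992) q6108, e3 q8577 (flp_d L157957) q9799, e3 q8578 (flp_d L153157) q9142, e3 q8579 (flp_d L143931) q5205, e3 q8580 (flp_d L157031) q9655, e3 q8581 (flp_d L155916) q9509, e3 q8582 L144041 q5211, e3 q8583 L150998 q6070, e3 q8584 L149233 q6067, e3 q8585 L144053 q6069, e3 q8586 (flp_d L158255) q9852, e3 q8587 (flp_d L152746) q9089, e3 q8588 (flp_d L144079) q5213, e3 q8589 L144095 q5215, e3 q8590 L144103 q5216, e3 q8591 (flp_d L167947) q11119, e3 q8592 (flp_d L168371) q11188, e3 q8593 L144115 q5219, e3 q8594 L144123 q5220, e3 q8595 L144129 q5221, e3 q8596 L144139 q5222, e3 q8597 (flp_d L180217) q12823, e3 q8598 (flp_d L158575) q9902, e3 q8599 (flp_d L180231) q12825, e3 q8600 (flp_d L180235) q12826, e3 q8601 (flp_d L180239) q12827, e3 q8602 (flp_d L158710) q9920, e3 q8603 (flp_d L180253) q12829, e3 q8604 (flp_d L180257) q12830, e3 q8605 L144193 q5225, e3 q8606 L180381 q12844, e3 q8607 L144201 q5227, e3 q8608 L144205 q5228, e3 q8609 L180413 q12850, e3 q8610 L144213 q5230, e3 q8611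 (flp_d L180367) q12841, e3 q8612 (flp_d L158541) q9897, e3 q8613 (flp_d L180377) q12843, e3 q8614 (flp_d L158583) q9903, e3 q8615 (flp_d L180393) q12846, e3 q8616 (flp_d L180399) q12847, e3 q8617 (flp_d L158668) q9914, e3 q8618 (flp_d L180409) q12849, e3 q8619 (flp_d L158698) q9919, e3 q8620 (flp_d L180425) q12852, e3 q8621 L144285 q6893, e3 q8622 (flp_d L144302) q7167, e3 q8623 L144307 q6895, e3 q8624 L144311 q6896, e3 q8625 (flp_d L144327) q7270, e3 q8626 L144331 q6898, e3 q8627 L144335 q5241, e3 q8628 L144339 q5245, e3 q8629 L144345 q5246, e3 q8630 L180609 q12876, e3 q8631 L144351 q5248, e3 q8632 L144357 q5249, e3 q8633 L144361 q5253, e3 q8634 L144367 q5254, e3 q8635 L180677 q12888, e3 q8636 L144373 q5256, e3 q8637 (flp_d L180563) q12867, e3 q8638 L180697 q12891, e3 q8639 (flp_d L169039) q11293, trivial⟩ (by decide +kernel)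

theorem ce_d_135 : ∀ r, r < 64 → sm gd (Qf (8640 + r)) = Qf (tab Gen.d (8640 + r)) :=
  edges_tab (sm gd) Qf (tab Gen.d) 8640 [(8640, 12869), (8641, 5242), (8642, 5401), (8643, 5244), (8644, 12894), (8645, 12870), (8646, 7267), (8647, 12872), (8648, 12873), (8649, 10184), (8650, 12875), (8651, 10185), (8652, 12878), (8653, 12879), (8654, 12906), (8655, 12881), (8656, 11452), (8657, 5250), (8658, 5417), (8659, 5252), (8660, 12909), (8661, 12882), (8662, 7367), (8663, 12884), (8664, 12885), (8665, 10151), (8666, 12887), (8667, 10152), (8668, 12890), (8669, 5273), (8670, 5276), (8671, 5280), (8672, 7168), (8673, 5285), (8674, 7343), (8675, 5287), (8676, 5288), (8677, 5289), (8678, 5291), (8679, 7342), (8680, 5294), (8681, 5295), (8682, 5297), (8683, 5302), (8684, 7269), (8685, 5307), (8686, 7242), (8687, 5309), (8688, 5310), (8689, 5311), (8690, 5313), (8691, 7243), (8692, 5316), (8693, 12953), (8694, 7099), (8695, 12921), (8696, 12957), (8697, 5274), (8698, 12962), (8699, 12963), (8700, 11300), (8701, 12922), (8702,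 11122), (8703, 5277)]
    ⟨e3 q8640 (flp_d L180575) q12869, e3 q8641 (flp_d L144401) q5242, e3 q8642 L144413 q5401, e3 q8643 L144417 q5244, e3 q8644 (flp_d L180725) q12894, e3 q8645 (flp_d L180579) q12870, e3 q8646 L163838 q7267, e3 q8647 (flp_d L180589) q12872, e3 q8648 (flp_d L180593) q12873, e3 q8649 L163834 q10184, e3 q8650 (flp_d L180605) q12875, e3 q8651 (flp_d L163768) q10185, e3 q8652 (flp_d L180625) q12878, e3 q8653 (flp_d L180631) q12879, e3 q8654 L180805 q12906, e3 q8655 (flp_d L180643) q12881, e3 q8656 (flp_d L170044) q11452, e3 q8657 (flp_d L144495) q5250, e3 q8658 L144505 q5417, e3 q8659 L144509 q5252, e3 q8660 (flp_d L180833) q12909, e3 q8661 (flp_d L180647) q12882, e3 q8662 L163661 q7367, e3 q8663 (flp_d L180657) q12884, e3 q8664 (flp_d L180661) q12885, e3 q8665 L163677 q10151, e3 q8666 (flp_d L180673) q12887, e3 q8667 (flp_d L163612) q10152, e3 q8668 (flp_d L180693) q12890, e3 q8669 L144569 q5273, e3 q8670 L144581 q5276, e3 q8671 L144585 q5280, e3 q8672 L144589 q7168, e3 q8673 L144593 q5285, e3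 q8674 (flp_d L156873) q7343, e3 q8675 L144603 q5287, e3 q8676 L144607 q5288, e3 q8677 L144611 q5289, e3 q8678 L144621 q5291, e3 q8679 (flp_d L156871) q7342, e3 q8680 L144635 q5294, e3 q8681 L144643 q5295, e3 q8682 L144649 q5297, e3 q8683 L144659 q5302, e3 q8684 L144663 q7269, e3 q8685 L144667 q5307, e3 q8686 L156857 q7242, e3 q8687 L144681 q5309, e3 q8688 L144687 q5310, e3 q8689 L144691 q5311, e3 q8690 L144705 q5313, e3 q8691 L156859 q7243, e3 q8692 L144725 q5316, e3 q8693 L181123 q12953, e3 q8694 L144743 q7099, e3 q8695 (flp_d L180921) q12921, e3 q8696 L181157 q12957, e3 q8697 (flp_d L144761) q5274, e3 q8698 (flp_d L181187) q12962, e3 q8699 (flp_d L181191) q12963, e3 q8700 (flp_d L169103) q11300, e3 q8701 (flp_d L180929) q12922, e3 q8702 (flp_d L167965) q11122, e3 q8703 (flp_d L144795) q5277, trivial⟩ (by decide +kernel)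

theorem ce_d_136 : ∀ r, r < 64 → sm gd (Qf (8704 + r)) = Qf (tab Gen.d (8704 + r)) :=
  edges_tab (sm gd) Qf (tab Gen.d) 8704 [(8704, 12972), (8705, 12973), (8706, 5442), (8707, 5279), (8708, 12978), (8709, 12923), (8710, 12985), (8711, 12925), (8712, 5448), (8713, 5283), (8714, 5284), (8715, 12989), (8716, 12995), (8717, 12991), (8718, 12992), (8719, 12927), (8720, 13006), (8721, 5286), (8722, 13008), (8723, 12928), (8724, 12929), (8725, 13015), (8726, 12931), (8727, 12932), (8728, 11610), (8729, 12933), (8730, 12934), (8731, 13023), (8732, 5290), (8733, 13026), (8734, 12935), (8735, 5471), (8736, 5293), (8737, 12936), (8738, 13029), (8739, 12937), (8740, 7139), (8741, 13033), (8742, 5296), (8743, 13038), (8744, 13039), (8745, 12938), (8746, 11191), (8747, 11459), (8748, 5299), (8749, 13047), (8750, 13048), (8751, 5486), (8752, 5301), (8753, 13053), (8754, 12939), (8755, 13059), (8756, 12941), (8757, 5492), (8758, 5305), (8759, 5306), (8760, 13063), (8761, 13069), (8762, 13065), (8763, 13066), (8764, 12943), (8765,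 13007), (8766, 5308), (8767, 13025)]
    ⟨e3 q8704 (flp_d L181257) q12972, e3 q8705 (flp_d L181261) q12973, e3 q8706 L144811 q5442, e3 q8707 L144817 q5279, e3 q8708 (flp_d L181297) q12978, e3 q8709 (flp_d L180935) q12923, e3 q8710 L181343 q12985, e3 q8711 (flp_d L180943) q12925, e3 q8712 L144841 q5448, e3 q8713 L144847 q5283, e3 q8714 L144855 q5284, e3 q8715 (flp_d L181371) q12989, e3 q8716 L181405 q12995, e3 q8717 (flp_d L181381) q12991, e3 q8718 (flp_d L181385) q12992, e3 q8719 (flp_d L180963) q12927, e3 q8720 L181469 q13006, e3 q8721 (flp_d L144893) q5286, e3 q8722 (flp_d L181493) q13008, e3 q8723 (flp_d L180967) q12928, e3 q8724 (flp_d L180973) q12929, e3 q8725 L181543 q13015, e3 q8726 (flp_d L180979) q12931, e3 q8727 (flp_d L180987) q12932, e3 q8728 (flp_d L171043) q11610, e3 q8729 (flp_d L180993) q12933, e3 q8730 (flp_d L180999) q12934, e3 q8731 L181601 q13023, e3 q8732 (flp_d L144953) q5290, e3 q8733 (flp_d L181625) q13026, e3 q8734 (flp_d L181003) q12935, e3 q8735 L144977 q5471, e3 q8736 L144981 q5293, e3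 q8737 (flp_d L181007) q12936, e3 q8738 L181645 q13029, e3 q8739 (flp_d L181017) q12937, e3 q8740 L149719 q7139, e3 q8741 L181679 q13033, e3 q8742 (flp_d L145028) q5296, e3 q8743 (flp_d L181709) q13038, e3 q8744 (flp_d L181713) q13039, e3 q8745 (flp_d L181025) q12938, e3 q8746 (flp_d L168389) q11191, e3 q8747 (flp_d L170108) q11459, e3 q8748 (flp_d L145062) q5299, e3 q8749 (flp_d L181775) q13047, e3 q8750 (flp_d L181779) q13048, e3 q8751 L145078 q5486, e3 q8752 L145084 q5301, e3 q8753 (flp_d L181815) q13053, e3 q8754 (flp_d L181031) q12939, e3 q8755 L181851 q13059, e3 q8756 (flp_d L181039) q12941, e3 q8757 L145108 q5492, e3 q8758 L145114 q5305, e3 q8759 L145122 q5306, e3 q8760 (flp_d L181879) q13063, e3 q8761 L181913 q13069, e3 q8762 (flp_d L181889) q13065, e3 q8763 (flp_d L181893) q13066, e3 q8764 (flp_d L181059) q12943, e3 q8765 (flp_d L181485) q13007, e3 q8766 (flp_d L145160) q5308, e3 q8767 (flp_d L181619) q13025, trivial⟩ (by decide +kernel)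

theorem ce_d_137 : ∀ r, r < 64 → sm gd (Qf (8768 + r)) = Qf (tab Gen.d (8768 + r)) :=
  edges_tab (sm gd) Qf (tab Gen.d) 8768 [(8768, 12944), (8769, 12945), (8770, 13086), (8771, 12947), (8772, 12948), (8773, 11663), (8774, 12949), (8775, 12950), (8776, 13094), (8777, 5312), (8778, 13096), (8779, 12951), (8780, 5511), (8781, 5315), (8782, 12952), (8783, 11026), (8784, 11027), (8785, 5319), (8786, 13102), (8787, 13103), (8788, 5891), (8789, 5521), (8790, 5321), (8791, 5322), (8792, 13107), (8793, 13108), (8794, 5531), (8795, 5532), (8796, 5327), (8797, 13118), (8798, 5329), (8799, 5330), (8800, 13115), (8801, 13125), (8802, 13117), (8803, 5328), (8804, 13130), (8805, 13120), (8806, 13121), (8807, 13122), (8808, 13124), (8809, 13139), (8810, 5331), (8811, 8862), (8812, 5549), (8813, 13145), (8814, 5333), (8815, 13150), (8816, 13151), (8817, 5554), (8818, 8865), (8819, 9635), (8820, 11064), (8821, 11065), (8822, 5339), (8823, 13161), (8824, 13162), (8825, 5913), (8826, 5565), (8827, 5341), (8828, 5342), (8829, 13166),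 (8830, 13167), (8831, 5575)]
    ⟨e3 q8768 (flp_d L181065) q12944, e3 q8769 (flp_d L181073) q12945, e3 q8770 L182023 q13086, e3 q8771 (flp_d L181079) q12947, e3 q8772 (flp_d L181087) q12948, e3 q8773 (flp_d L171394) q11663, e3 q8774 (flp_d L181097) q12949, e3 q8775 (flp_d L181105) q12950, e3 q8776 L182083 q13094, e3 q8777 (flp_d L145212) q5312, e3 q8778 (flp_d L182099) q13096, e3 q8779 (flp_d L181111) q12951, e3 q8780 L145236 q5511, e3 q8781 L145240 q5315, e3 q8782 (flp_d L181117) q12952, e3 q8783 (flp_d L167352) q11026, e3 q8784 (flp_d L167361) q11027, e3 q8785 (flp_d L145274) q5319, e3 q8786 (flp_d L182159) q13102, e3 q8787 (flp_d L182169) q13103, e3 q8788 (flp_d L145296) q5891, e3 q8789 L145308 q5521, e3 q8790 L145316 q5321, e3 q8791 L145324 q5322, e3 q8792 (flp_d L182201) q13107, e3 q8793 (flp_d L182211) q13108, e3 q8794 L145342 q5531, e3 q8795 L145352 q5532, e3 q8796 L145360 q5327, e3 q8797 L182273 q13118, e3 q8798 L145366 q5329, e3 q8799 L145370 q5330, e3 q8800 (flp_d L182251) q13115, e3 q8801 L182307 q13125,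 e3 q8802 (flp_d L182269) q13117, e3 q8803 (flp_d L145394) q5328, e3 q8804 (flp_d L182339) q13130, e3 q8805 (flp_d L182281) q13120, e3 q8806 (flp_d L182289) q13121, e3 q8807 (flp_d L182295) q13122, e3 q8808 (flp_d L182303) q13124, e3 q8809 L182391 q13139, e3 q8810 (flp_d L145432) q5331, e3 q8811 L145760 q8862, e3 q8812 L145448 q5549, e3 q8813 L182425 q13145, e3 q8814 (flp_d L145454) q5333, e3 q8815 (flp_d L182451) q13150, e3 q8816 (flp_d L182456) q13151, e3 q8817 L145472 q5554, e3 q8818 (flp_d L145778) q8865, e3 q8819 (flp_d L156902) q9635, e3 q8820 (flp_d L167590) q11064, e3 q8821 (flp_d L167600) q11065, e3 q8822 (flp_d L145516) q5339, e3 q8823 (flp_d L182519) q13161, e3 q8824 (flp_d L182527) q13162, e3 q8825 (flp_d L150462) q5913, e3 q8826 L145538 q5565, e3 q8827 L145542 q5341, e3 q8828 L145546 q5342, e3 q8829 (flp_d L182561) q13166, e3 q8830 (flp_d L182571) q13167, e3 q8831 L145564 q5575, trivial⟩ (by decide +kernel)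

theorem ce_d_138 : ∀ r, r < 64 → sm gd (Qf (8832 + r)) = Qf (tab Gen.d (8832 + r)) :=
  edges_tab (sm gd) Qf (tab Gen.d) 8832 [(8832, 5576), (8833, 5347), (8834, 13177), (8835, 5349), (8836, 5350), (8837, 13174), (8838, 13184), (8839, 13176), (8840, 5348), (8841, 13189), (8842, 13179), (8843, 13180), (8844, 13181), (8845, 13183), (8846, 13198), (8847, 5351), (8848, 8876), (8849, 5593), (8850, 13204), (8851, 5353), (8852, 13209), (8853, 13210), (8854, 5598), (8855, 8879), (8856, 9642), (8857, 5357), (8858, 13217), (8859, 5359), (8860, 13219), (8861, 5361), (8862, 8811), (8863, 13224), (8864, 5363), (8865, 8818), (8866, 13231), (8867, 5365), (8868, 13235), (8869, 13236), (8870, 9648), (8871, 5367), (8872, 13237), (8873, 5369), (8874, 13239), (8875, 5371), (8876, 8848), (8877, 13244), (8878, 5373), (8879, 8855), (8880, 13251), (8881, 5375), (8882, 13254), (8883, 9653), (8884, 8949), (8885, 10554), (8886, 9017), (8887, 10608), (8888, 5398), (8889, 6010), (8890, 9783), (8891, 8993), (8892, 6685), (8893, 8991), (8894,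 5414), (8895, 6026)]
    ⟨e3 q8832 L145574 q5576, e3 q8833 L145582 q5347, e3 q8834 L182635 q13177, e3 q8835 L145588 q5349, e3 q8836 L145592 q5350, e3 q8837 (flp_d L182613) q13174, e3 q8838 L182669 q13184, e3 q8839 (flp_d L182631) q13176, e3 q8840 (flp_d L145612) q5348, e3 q8841 (flp_d L182701) q13189, e3 q8842 (flp_d L182643) q13179, e3 q8843 (flp_d L182651) q13180, e3 q8844 (flp_d L182657) q13181, e3 q8845 (flp_d L182665) q13183, e3 q8846 L182771 q13198, e3 q8847 (flp_d L145658) q5351, e3 q8848 L145880 q8876, e3 q8849 L145674 q5593, e3 q8850 L182807 q13204, e3 q8851 (flp_d L145682) q5353, e3 q8852 (flp_d L182837) q13209, e3 q8853 (flp_d L182841) q13210, e3 q8854 L145704 q5598, e3 q8855 (flp_d L145900) q8879, e3 q8856 (flp_d L156941) q9642, e3 q8857 (flp_d L145717) q5357, e3 q8858 (flp_d L182879) q13217, e3 q8859 L145732 q5359, e3 q8860 (flp_d L182895) q13219, e3 q8861 (flp_d L145743) q5361, e3 q8862 (flp_d L145760) q8811, e3 q8863 L182924 q13224, e3 q8864 (flp_d L145766) q5363, e3 q8865 L145778 q8818, e3 q8866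 L182969 q13231, e3 q8867 (flp_d L145783) q5365, e3 q8868 (flp_d L182993) q13235, e3 q8869 (flp_d L182998) q13236, e3 q8870 (flp_d L156978) q9648, e3 q8871 (flp_d L145805) q5367, e3 q8872 (flp_d L183018) q13237, e3 q8873 L145835 q5369, e3 q8874 (flp_d L183034) q13239, e3 q8875 (flp_d L145859) q5371, e3 q8876 (flp_d L145880) q8848, e3 q8877 L183069 q13244, e3 q8878 (flp_d L145888) q5373, e3 q8879 L145900 q8855, e3 q8880 L183124 q13251, e3 q8881 (flp_d L145907) q5375, e3 q8882 (flp_d L183148) q13254, e3 q8883 (flp_d L157015) q9653, e3 q8884 (flp_d L151856) q8949, e3 q8885 (flp_d L162989) q10554, e3 q8886 (flp_d L152298) q9017, e3 q8887 (flp_d L164314) q10608, e3 q8888 L145945 q5398, e3 q8889 L145961 q6010, e3 q8890 (flp_d L157883) q9783, e3 q8891 (flp_d L152106) q8993, e3 q8892 L149598 q6685, e3 q8893 (flp_d L152096) q8991, e3 q8894 L149546 q5414, e3 q8895 (flp_d L148122) q6026, trivial⟩ (by decide +kernel)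

theorem ce_d_139 : ∀ r, r < 64 → sm gd (Qf (8896 + r)) = Qf (tab Gen.d (8896 + r)) :=
  edges_tab (sm gd) Qf (tab Gen.d) 8896 [(8896, 9836), (8897, 9058), (8898, 6639), (8899, 9055), (8900, 8902), (8901, 7446), (8902, 8900), (8903, 12567), (8904, 5952), (8905, 9007), (8906, 8072), (8907, 8910), (8908, 7449), (8909, 12568), (8910, 8907), (8911, 5957), (8912, 9069), (8913, 8115), (8914, 9028), (8915, 12569), (8916, 11296), (8917, 12893), (8918, 5403), (8919, 11982), (8920, 10744), (8921, 13258), (8922, 12570), (8923, 9027), (8924, 5596), (8925, 9025), (8926, 10634), (8927, 6824), (8928, 6827), (8929, 9001), (8930, 8958), (8931, 12575), (8932, 11455), (8933, 12908), (8934, 5419), (8935, 12180), (8936, 10662), (8937, 13271), (8938, 12576), (8939, 8961), (8940, 5553), (8941, 8959), (8942, 10585), (8943, 6750), (8944, 6753), (8945, 9063), (8946, 5429), (8947, 6540), (8948, 7473), (8949, 8884), (8950, 12581), (8951, 9408), (8952, 9413), (8953, 12961), (8954, 5435), (8955, 11680), (8956, 10488), (8957, 10447), (8958, 8930),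 (8959, 8941)]
    ⟨e3 q8896 (flp_d L158181) q9836, e3 q8897 (flp_d L152544) q9058, e3 q8898 (flp_d L146056) q6639, e3 q8899 (flp_d L152528) q9055, e3 q8900 (flp_d L146114) q8902, e3 q8901 (flp_d L146108) q7446, e3 q8902 L146114 q8900, e3 q8903 (flp_d L178097) q12567, e3 q8904 L146126 q5952, e3 q8905 (flp_d L152214) q9007, e3 q8906 L146134 q8072, e3 q8907 L151137 q8910, e3 q8908 (flp_d L151282) q7449, e3 q8909 (flp_d L178107) q12568, e3 q8910 (flp_d L151137) q8907, e3 q8911 (flp_d L149055) q5957, e3 q8912 (flp_d L152620) q9069, e3 q8913 L151578 q8115, e3 q8914 (flp_d L152378) q9028, e3 q8915 (flp_d L178119) q12569, e3 q8916 (flp_d L169059) q11296, e3 q8917 (flp_d L180719) q12893, e3 q8918 L151618 q5403, e3 q8919 (flp_d L183219) q11982, e3 q8920 (flp_d L165318) q10744, e3 q8921 L183197 q13258, e3 q8922 (flp_d L178129) q12570, e3 q8923 (flp_d L152370) q9027, e3 q8924 L153493 q5596, e3 q8925 (flp_d L152350) q9025, e3 q8926 (flp_d L164516) q10634, e3 q8927 L153034 q6824, e3 q8928 L153036 q6827, e3 q8929 L152152 q9001,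 e3 q8930 (flp_d L151906) q8958, e3 q8931 (flp_d L178177) q12575, e3 q8932 (flp_d L170064) q11455, e3 q8933 (flp_d L180827) q12908, e3 q8934 L151726 q5419, e3 q8935 L175138 q12180, e3 q8936 (flp_d L164723) q10662, e3 q8937 (flp_d L183291) q13271, e3 q8938 (flp_d L178187) q12576, e3 q8939 (flp_d L151936) q8961, e3 q8940 L153063 q5553, e3 q8941 (flp_d L151916) q8959, e3 q8942 L164115 q10585, e3 q8943 L153473 q6750, e3 q8944 L153475 q6753, e3 q8945 (flp_d L152572) q9063, e3 q8946 (flp_d L151804) q5429, e3 q8947 L151840 q6540, e3 q8948 L151850 q7473, e3 q8949 L151856 q8884, e3 q8950 (flp_d L178231) q12581, e3 q8951 (flp_d L155214) q9408, e3 q8952 (flp_d L155258) q9413, e3 q8953 (flp_d L181183) q12961, e3 q8954 L151886 q5435, e3 q8955 (flp_d L171482) q11680, e3 q8956 L162504 q10488, e3 q8957 (flp_d L162246) q10447, e3 q8958 L151906 q8930, e3 q8959 L151916 q8941, trivial⟩ (by decide +kernel)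

theorem ce_d_140 : ∀ r, r < 64 → sm gd (Qf (8960 + r)) = Qf (tab Gen.d (8960 + r)) :=
  edges_tab (sm gd) Qf (tab Gen.d) 8960 [(8960, 10394), (8961, 8939), (8962, 12583), (8963, 12971), (8964, 5441), (8965, 9670), (8966, 13291), (8967, 13292), (8968, 12977), (8969, 5444), (8970, 13299), (8971, 12261), (8972, 13301), (8973, 12584), (8974, 12045), (8975, 12586), (8976, 5446), (8977, 12307), (8978, 12987), (8979, 12988), (8980, 5451), (8981, 5453), (8982, 5454), (8983, 10397), (8984, 13315), (8985, 5452), (8986, 13317), (8987, 13300), (8988, 13312), (8989, 9787), (8990, 6050), (8991, 8893), (8992, 13329), (8993, 8891), (8994, 6688), (8995, 5496), (8996, 5508), (8997, 9072), (8998, 7558), (8999, 9073), (9000, 9800), (9001, 8929), (9002, 9802), (9003, 12587), (9004, 9066), (9005, 9067), (9006, 6557), (9007, 8905), (9008, 13341), (9009, 5467), (9010, 13343), (9011, 9059), (9012, 9061), (9013, 5473), (9014, 7478), (9015, 6580), (9016, 12588), (9017, 8886), (9018, 9414), (9019, 9409), (9020, 13037), (9021, 5478), (9022,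 10534), (9023, 10498)]
    ⟨e3 q8960 (flp_d L161892) q10394, e3 q8961 L151936 q8939, e3 q8962 (flp_d L178251) q12583, e3 q8963 (flp_d L181253) q12971, e3 q8964 L151950 q5441, e3 q8965 (flp_d L157159) q9670, e3 q8966 (flp_d L183469) q13291, e3 q8967 (flp_d L183481) q13292, e3 q8968 (flp_d L181289) q12977, e3 q8969 L151980 q5444, e3 q8970 (flp_d L183517) q13299, e3 q8971 L175697 q12261, e3 q8972 (flp_d L183537) q13301, e3 q8973 (flp_d L178271) q12584, e3 q8974 (flp_d L174048) q12045, e3 q8975 (flp_d L178303) q12586, e3 q8976 (flp_d L152012) q5446, e3 q8977 L176011 q12307, e3 q8978 (flp_d L181353) q12987, e3 q8979 (flp_d L181363) q12988, e3 q8980 L152036 q5451, e3 q8981 (flp_d L152044) q5453, e3 q8982 L152050 q5454, e3 q8983 (flp_d L161908) q10397, e3 q8984 L183659 q13315, e3 q8985 (flp_d L152068) q5452, e3 q8986 (flp_d L183683) q13317, e3 q8987 L183527 q13300, e3 q8988 (flp_d L183633) q13312, e3 q8989 L157909 q9787, e3 q8990 L152090 q6050, e3 q8991 L152096 q8893, e3 q8992 L183753 q13329, e3 q8993 L152106 q8891, e3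 q8994 L152110 q6688, e3 q8995 L152116 q5496, e3 q8996 L152122 q5508, e3 q8997 (flp_d L152638) q9072, e3 q8998 L153741 q7558, e3 q8999 (flp_d L152644) q9073, e3 q9000 (flp_d L157967) q9800, e3 q9001 (flp_d L152152) q8929, e3 q9002 (flp_d L157987) q9802, e3 q9003 (flp_d L178315) q12587, e3 q9004 (flp_d L152596) q9066, e3 q9005 (flp_d L152608) q9067, e3 q9006 L152198 q6557, e3 q9007 L152214 q8905, e3 q9008 L183849 q13341, e3 q9009 (flp_d L152226) q5467, e3 q9010 (flp_d L183865) q13343, e3 q9011 (flp_d L152548) q9059, e3 q9012 (flp_d L152560) q9061, e3 q9013 (flp_d L152262) q5473, e3 q9014 L152280 q7478, e3 q9015 L152290 q6580, e3 q9016 (flp_d L178321) q12588, e3 q9017 L152298 q8886, e3 q9018 (flp_d L155266) q9414, e3 q9019 (flp_d L155224) q9409, e3 q9020 (flp_d L181705) q13037, e3 q9021 L152330 q5478, e3 q9022 (flp_d L162796) q10534, e3 q9023 (flp_d L162571) q10498, trivial⟩ (by decide +kernel)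

theorem ce_d_141 : ∀ r, r < 64 → sm gd (Qf (9024 + r)) = Qf (tab Gen.d (9024 + r)) :=
  edges_tab (sm gd) Qf (tab Gen.d) 9024 [(9024, 11681), (9025, 8925), (9026, 10428), (9027, 8923), (9028, 8914), (9029, 13046), (9030, 5484), (9031, 13351), (9032, 13352), (9033, 9692), (9034, 13052), (9035, 5488), (9036, 13359), (9037, 12318), (9038, 13361), (9039, 12590), (9040, 11823), (9041, 5490), (9042, 12248), (9043, 13061), (9044, 13062), (9045, 5495), (9046, 5497), (9047, 5498), (9048, 10431), (9049, 13332), (9050, 13333), (9051, 13360), (9052, 13371), (9053, 9840), (9054, 6088), (9055, 8899), (9056, 13382), (9057, 6643), (9058, 8897), (9059, 9011), (9060, 7602), (9061, 9012), (9062, 9853), (9063, 8945), (9064, 9855), (9065, 12592), (9066, 9004), (9067, 9005), (9068, 6596), (9069, 8912), (9070, 13334), (9071, 13318), (9072, 8997), (9073, 8999), (9074, 11729), (9075, 11730), (9076, 11839), (9077, 5515), (9078, 5516), (9079, 13389), (9080, 13390), (9081, 13101), (9082, 7483), (9083, 13106), (9084, 7617), (9085, 10441),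 (9086, 5525), (9087, 13397)]
    ⟨e3 q9024 (flp_d L171492) q11681, e3 q9025 L152350 q8925, e3 q9026 (flp_d L162126) q10428, e3 q9027 L152370 q8923, e3 q9028 L152378 q8914, e3 q9029 (flp_d L181771) q13046, e3 q9030 L152394 q5484, e3 q9031 (flp_d L183937) q13351, e3 q9032 (flp_d L183949) q13352, e3 q9033 (flp_d L157269) q9692, e3 q9034 (flp_d L181807) q13052, e3 q9035 L152424 q5488, e3 q9036 (flp_d L183985) q13359, e3 q9037 L176075 q12318, e3 q9038 (flp_d L184005) q13361, e3 q9039 (flp_d L178341) q12590, e3 q9040 (flp_d L172503) q11823, e3 q9041 (flp_d L152450) q5490, e3 q9042 L175617 q12248, e3 q9043 (flp_d L181861) q13061, e3 q9044 (flp_d L181871) q13062, e3 q9045 L152474 q5495, e3 q9046 (flp_d L152482) q5497, e3 q9047 L152488 q5498, e3 q9048 (flp_d L162140) q10431, e3 q9049 (flp_d L183773) q13332, e3 q9050 (flp_d L183787) q13333, e3 q9051 L183995 q13360, e3 q9052 (flp_d L184075) q13371, e3 q9053 L158207 q9840, e3 q9054 L152522 q6088, e3 q9055 L152528 q8899, e3 q9056 L184147 q13382, e3 q9057 L152536 q6643, e3 q9058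 L152544 q8897, e3 q9059 L152548 q9011, e3 q9060 L155524 q7602, e3 q9061 L152560 q9012, e3 q9062 (flp_d L158265) q9853, e3 q9063 L152572 q8945, e3 q9064 (flp_d L158285) q9855, e3 q9065 (flp_d L178365) q12592, e3 q9066 L152596 q9004, e3 q9067 L152608 q9005, e3 q9068 L152614 q6596, e3 q9069 L152620 q8912, e3 q9070 (flp_d L183793) q13334, e3 q9071 (flp_d L183689) q13318, e3 q9072 L152638 q8997, e3 q9073 L152644 q8999, e3 q9074 (flp_d L171862) q11729, e3 q9075 (flp_d L171872) q11730, e3 q9076 (flp_d L172603) q11839, e3 q9077 L152675 q5515, e3 q9078 L152682 q5516, e3 q9079 (flp_d L184205) q13389, e3 q9080 (flp_d L184217) q13390, e3 q9081 (flp_d L182149) q13101, e3 q9082 L152710 q7483, e3 q9083 (flp_d L182193) q13106, e3 q9084 L152722 q7617, e3 q9085 (flp_d L162202) q10441, e3 q9086 (flp_d L152728) q5525, e3 q9087 (flp_d L184256) q13397, trivial⟩ (by decide +kernel)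

theorem ce_d_142 : ∀ r, r < 64 → sm gd (Qf (9088 + r)) = Qf (tab Gen.d (9088 + r)) :=
  edges_tab (sm gd) Qf (tab Gen.d) 9088 [(9088, 9184), (9089, 8587), (9090, 9185), (9091, 5529), (9092, 13400), (9093, 13111), (9094, 13401), (9095, 13113), (9096, 13114), (9097, 5542), (9098, 5543), (9099, 13289), (9100, 5538), (9101, 13406), (9102, 6571), (9103, 5541), (9104, 13129), (9105, 13412), (9106, 13316), (9107, 12239), (9108, 13405), (9109, 10459), (9110, 11822), (9111, 11824), (9112, 13420), (9113, 5546), (9114, 13278), (9115, 13141), (9116, 8054), (9117, 8057), (9118, 13427), (9119, 5550), (9120, 12585), (9121, 13277), (9122, 13149), (9123, 12582), (9124, 13279), (9125, 9210), (9126, 9909), (9127, 8168), (9128, 11772), (9129, 11773), (9130, 12053), (9131, 5559), (9132, 5560), (9133, 13441), (9134, 13442), (9135, 13160), (9136, 7492), (9137, 13165), (9138, 10491), (9139, 7783), (9140, 5569), (9141, 13449), (9142, 8578), (9143, 9225), (9144, 9224), (9145, 5573), (9146, 13452), (9147, 13170), (9148, 13453), (9149, 13172),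 (9150, 13173), (9151, 5586)]
    ⟨e3 q9088 (flp_d L153525) q9184, e3 q9089 L152746 q8587, e3 q9090 (flp_d L153536) q9185, e3 q9091 L152760 q5529, e3 q9092 (flp_d L184288) q13400, e3 q9093 (flp_d L182227) q13111, e3 q9094 L184296 q13401, e3 q9095 (flp_d L182239) q13113, e3 q9096 (flp_d L182245) q13114, e3 q9097 L152794 q5542, e3 q9098 L152806 q5543, e3 q9099 (flp_d L183459) q13289, e3 q9100 (flp_d L152816) q5538, e3 q9101 (flp_d L184350) q13406, e3 q9102 L152832 q6571, e3 q9103 L152838 q5541, e3 q9104 (flp_d L182335) q13129, e3 q9105 (flp_d L184386) q13412, e3 q9106 (flp_d L183673) q13316, e3 q9107 (flp_d L175549) q12239, e3 q9108 (flp_d L184336) q13405, e3 q9109 (flp_d L183545) q10459, e3 q9110 (flp_d L172489) q11822, e3 q9111 (flp_d L172507) q11824, e3 q9112 L184438 q13420, e3 q9113 (flp_d L152880) q5546, e3 q9114 (flp_d L183333) q13278, e3 q9115 (flp_d L182409) q13141, e3 q9116 L152898 q8054, e3 q9117 L152906 q8057, e3 q9118 L184488 q13427, e3 q9119 (flp_d L152910) q5550, e3 q9120 (flp_d L178293) q12585, e3 q9121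 (flp_d L183329) q13277, e3 q9122 (flp_d L182447) q13149, e3 q9123 L178247 q12582, e3 q9124 (flp_d L183345) q13279, e3 q9125 (flp_d L153720) q9210, e3 q9126 (flp_d L158627) q9909, e3 q9127 L152961 q8168, e3 q9128 (flp_d L172151) q11772, e3 q9129 (flp_d L172161) q11773, e3 q9130 (flp_d L174114) q12053, e3 q9131 L153088 q5559, e3 q9132 L153096 q5560, e3 q9133 (flp_d L184575) q13441, e3 q9134 (flp_d L184587) q13442, e3 q9135 (flp_d L182511) q13160, e3 q9136 L153125 q7492, e3 q9137 (flp_d L182555) q13165, e3 q9138 (flp_d L162520) q10491, e3 q9139 L153139 q7783, e3 q9140 (flp_d L153143) q5569, e3 q9141 (flp_d L184632) q13449, e3 q9142 L153157 q8578, e3 q9143 (flp_d L153848) q9225, e3 q9144 (flp_d L153837) q9224, e3 q9145 L153175 q5573, e3 q9146 (flp_d L184664) q13452, e3 q9147 (flp_d L182589) q13170, e3 q9148 L184672 q13453, e3 q9149 (flp_d L182601) q13172, e3 q9150 (flp_d L182607) q13173, e3 q9151 L153209 q5586, trivial⟩ (by decide +kernel)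

theorem ce_d_143 : ∀ r, r < 64 → sm gd (Qf (9152 + r)) = Qf (tab Gen.d (9152 + r)) :=
  edges_tab (sm gd) Qf (tab Gen.d) 9152 [(9152, 5587), (9153, 13306), (9154, 5582), (9155, 13458), (9156, 6609), (9157, 5585), (9158, 13188), (9159, 13464), (9160, 13328), (9161, 12299), (9162, 13457), (9163, 10512), (9164, 12044), (9165, 12046), (9166, 13472), (9167, 5590), (9168, 13265), (9169, 13200), (9170, 8098), (9171, 8101), (9172, 13479), (9173, 5594), (9174, 13264), (9175, 12591), (9176, 13208), (9177, 13266), (9178, 12589), (9179, 9246), (9180, 9926), (9181, 8199), (9182, 5788), (9183, 5795), (9184, 9088), (9185, 9090), (9186, 6393), (9187, 9553), (9188, 5609), (9189, 6046), (9190, 5838), (9191, 9482), (9192, 9555), (9193, 5615), (9194, 9822), (9195, 6083), (9196, 5617), (9197, 13499), (9198, 5620), (9199, 9485), (9200, 6082), (9201, 5842), (9202, 10752), (9203, 5627), (9204, 10839), (9205, 13503), (9206, 5629), (9207, 13505), (9208, 13507), (9209, 7966), (9210, 9125), (9211, 8289), (9212, 13511), (9213, 5632), (9214,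 9885), (9215, 12571)]
    ⟨e3 q9152 L153221 q5587, e3 q9153 (flp_d L183595) q13306, e3 q9154 (flp_d L153231) q5582, e3 q9155 (flp_d L184726) q13458, e3 q9156 L153247 q6609, e3 q9157 L153253 q5585, e3 q9158 (flp_d L182697) q13188, e3 q9159 (flp_d L184762) q13464, e3 q9160 L183751 q13328, e3 q9161 (flp_d L175947) q12299, e3 q9162 (flp_d L184712) q13457, e3 q9163 (flp_d L175840) q10512, e3 q9164 (flp_d L174034) q12044, e3 q9165 (flp_d L174052) q12046, e3 q9166 L184816 q13472, e3 q9167 (flp_d L153307) q5590, e3 q9168 (flp_d L183251) q13265, e3 q9169 (flp_d L182791) q13200, e3 q9170 L153327 q8098, e3 q9171 L153335 q8101, e3 q9172 L184880 q13479, e3 q9173 (flp_d L153339) q5594, e3 q9174 (flp_d L183247) q13264, e3 q9175 (flp_d L178359) q12591, e3 q9176 (flp_d L182833) q13208, e3 q9177 (flp_d L183263) q13266, e3 q9178 L178337 q12589, e3 q9179 (flp_d L153992) q9246, e3 q9180 (flp_d L158754) q9926, e3 q9181 L153398 q8199, e3 q9182 (flp_d L153511) q5788, e3 q9183 L153520 q5795, e3 q9184 L153525 q9088, e3 q9185 L153536 q9090,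 e3 q9186 (flp_d L153550) q6393, e3 q9187 (flp_d L156288) q9553, e3 q9188 L153564 q5609, e3 q9189 L153574 q6046, e3 q9190 L153582 q5838, e3 q9191 (flp_d L155748) q9482, e3 q9192 (flp_d L156304) q9555, e3 q9193 L153602 q5615, e3 q9194 (flp_d L158099) q9822, e3 q9195 L153614 q6083, e3 q9196 L153626 q5617, e3 q9197 (flp_d L185043) q13499, e3 q9198 L153640 q5620, e3 q9199 (flp_d L155768) q9485, e3 q9200 L153660 q6082, e3 q9201 L153668 q5842, e3 q9202 (flp_d L165366) q10752, e3 q9203 (flp_d L153678) q5627, e3 q9204 (flp_d L166062) q10839, e3 q9205 L185089 q13503, e3 q9206 (flp_d L153696) q5629, e3 q9207 L185107 q13505, e3 q9208 (flp_d L185123) q13507, e3 q9209 L153716 q7966, e3 q9210 L153720 q9125, e3 q9211 L153730 q8289, e3 q9212 L185143 q13511, e3 q9213 (flp_d L153749) q5632, e3 q9214 (flp_d L158469) q9885, e3 q9215 (flp_d L178147) q12571, trivial⟩ (by decide +kernel)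

theorem ce_d_144 : ∀ r, r < 64 → sm gd (Qf (9216 + r)) = Qf (tab Gen.d (9216 + r)) :=
  edges_tab (sm gd) Qf (tab Gen.d) 9216 [(9216, 8269), (9217, 9886), (9218, 5636), (9219, 9887), (9220, 9888), (9221, 8266), (9222, 5789), (9223, 5797), (9224, 9144), (9225, 9143), (9226, 6396), (9227, 9591), (9228, 5645), (9229, 9490), (9230, 5843), (9231, 9595), (9232, 9875), (9233, 5651), (9234, 13496), (9235, 9475), (9236, 6045), (9237, 5839), (9238, 10658), (9239, 5660), (9240, 10818), (9241, 13527), (9242, 5662), (9243, 13531), (9244, 13529), (9245, 8024), (9246, 9179), (9247, 8298), (9248, 13535), (9249, 5665), (9250, 9892), (9251, 8280), (9252, 12577), (9253, 9893), (9254, 5668), (9255, 9894), (9256, 9895), (9257, 8277), (9258, 5829), (9259, 9468), (9260, 5831), (9261, 10819), (9262, 9465), (9263, 8479), (9264, 10820), (9265, 13552), (9266, 10822), (9267, 5679), (9268, 10649), (9269, 9286), (9270, 10823), (9271, 6818), (9272, 10825), (9273, 10695), (9274, 9333), (9275, 5682), (9276, 5685), (9277, 12736), (9278, 5687),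 (9279, 10764)]
    ⟨e3 q9216 L153775 q8269, e3 q9217 (flp_d L158475) q9886, e3 q9218 L153789 q5636, e3 q9219 (flp_d L158479) q9887, e3 q9220 (flp_d L158484) q9888, e3 q9221 L153812 q8266, e3 q9222 (flp_d L153823) q5789, e3 q9223 L153832 q5797, e3 q9224 L153837 q9144, e3 q9225 L153848 q9143, e3 q9226 (flp_d L153862) q6396, e3 q9227 (flp_d L156535) q9591, e3 q9228 L153876 q5645, e3 q9229 (flp_d L155794) q9490, e3 q9230 L153884 q5843, e3 q9231 (flp_d L156565) q9595, e3 q9232 (flp_d L158399) q9875, e3 q9233 L153906 q5651, e3 q9234 (flp_d L185011) q13496, e3 q9235 (flp_d L155710) q9475, e3 q9236 L153930 q6045, e3 q9237 L153940 q5839, e3 q9238 (flp_d L164697) q10658, e3 q9239 (flp_d L153950) q5660, e3 q9240 (flp_d L165879) q10818, e3 q9241 L185291 q13527, e3 q9242 (flp_d L153968) q5662, e3 q9243 (flp_d L185325) q13531, e3 q9244 L185309 q13529, e3 q9245 L153988 q8024, e3 q9246 L153992 q9179, e3 q9247 L154002 q8298, e3 q9248 L185345 q13535, e3 q9249 (flp_d L154015) q5665, e3 q9250 (flp_d L158506) q9892, e3 q9251 L154035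 q8280, e3 q9252 (flp_d L178205) q12577, e3 q9253 (flp_d L158512) q9893, e3 q9254 L154057 q5668, e3 q9255 (flp_d L158516) q9894, e3 q9256 (flp_d L158520) q9895, e3 q9257 L154080 q8277, e3 q9258 (flp_d L154090) q5829, e3 q9259 (flp_d L155660) q9468, e3 q9260 L154102 q5831, e3 q9261 (flp_d L165891) q10819, e3 q9262 (flp_d L155640) q9465, e3 q9263 L154124 q8479, e3 q9264 (flp_d L165897) q10820, e3 q9265 L185469 q13552, e3 q9266 (flp_d L165907) q10822, e3 q9267 L154142 q5679, e3 q9268 (flp_d L164631) q10649, e3 q9269 (flp_d L154250) q9286, e3 q9270 (flp_d L165913) q10823, e3 q9271 L154500 q6818, e3 q9272 (flp_d L165943) q10825, e3 q9273 (flp_d L164981) q10695, e3 q9274 (flp_d L154630) q9333, e3 q9275 (flp_d L154200) q5682, e3 q9276 L154210 q5685, e3 q9277 L179487 q12736, e3 q9278 L154218 q5687, e3 q9279 (flp_d L165480) q10764, trivial⟩ (by decide +kernel)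

theorem ce_d_145 : ∀ r, r < 64 → sm gd (Qf (9280 + r)) = Qf (tab Gen.d (9280 + r)) :=
  edges_tab (sm gd) Qf (tab Gen.d) 9280 [(9280, 5689), (9281, 10693), (9282, 12748), (9283, 10765), (9284, 5692), (9285, 13560), (9286, 9269), (9287, 5698), (9288, 10838), (9289, 5695), (9290, 10777), (9291, 13534), (9292, 9295), (9293, 5730), (9294, 9337), (9295, 9292), (9296, 5700), (9297, 13565), (9298, 13566), (9299, 6820), (9300, 6821), (9301, 5702), (9302, 6802), (9303, 10747), (9304, 6797), (9305, 6825), (9306, 13574), (9307, 5707), (9308, 6801), (9309, 10746), (9310, 5721), (9311, 5834), (9312, 9473), (9313, 5836), (9314, 10840), (9315, 9470), (9316, 8487), (9317, 10841), (9318, 13581), (9319, 10843), (9320, 10734), (9321, 10779), (9322, 10844), (9323, 6744), (9324, 10846), (9325, 12745), (9326, 5722), (9327, 10680), (9328, 5724), (9329, 12739), (9330, 10681), (9331, 5727), (9332, 13586), (9333, 9274), (9334, 5731), (9335, 10817), (9336, 13510), (9337, 9294), (9338, 5733), (9339, 13550), (9340, 13589), (9341, 6746), (9342,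 6747), (9343, 5735)]
    ⟨e3 q9280 (flp_d L154222) q5689, e3 q9281 (flp_d L164961) q10693, e3 q9282 (flp_d L179577) q12748, e3 q9283 (flp_d L165494) q10765, e3 q9284 L154238 q5692, e3 q9285 (flp_d L185551) q13560, e3 q9286 L154250 q9269, e3 q9287 L154268 q5698, e3 q9288 (flp_d L166054) q10838, e3 q9289 (flp_d L154272) q5695, e3 q9290 (flp_d L165582) q10777, e3 q9291 L185341 q13534, e3 q9292 (flp_d L154306) q9295, e3 q9293 L154294 q5730, e3 q9294 (flp_d L154662) q9337, e3 q9295 L154306 q9292, e3 q9296 L154312 q5700, e3 q9297 (flp_d L185603) q13565, e3 q9298 L185609 q13566, e3 q9299 L154340 q6820, e3 q9300 L154344 q6821, e3 q9301 (flp_d L154346) q5702, e3 q9302 L154358 q6802, e3 q9303 (flp_d L165346) q10747, e3 q9304 L154370 q6797, e3 q9305 L154374 q6825, e3 q9306 L185697 q13574, e3 q9307 L154384 q5707, e3 q9308 L154390 q6801, e3 q9309 (flp_d L165332) q10746, e3 q9310 L154408 q5721, e3 q9311 (flp_d L154420) q5834, e3 q9312 (flp_d L155696) q9473, e3 q9313 L154432 q5836, e3 q9314 (flp_d L166076) q10840, e3 q9315 (flp_d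 L155676) q9470, e3 q9316 L154454 q8487, e3 q9317 (flp_d L166082) q10841, e3 q9318 L185761 q13581, e3 q9319 (flp_d L166092) q10843, e3 q9320 (flp_d L165242) q10734, e3 q9321 (flp_d L165602) q10779, e3 q9322 (flp_d L166098) q10844, e3 q9323 L154550 q6744, e3 q9324 (flp_d L166128) q10846, e3 q9325 L179555 q12745, e3 q9326 L154586 q5722, e3 q9327 (flp_d L164867) q10680, e3 q9328 (flp_d L154596) q5724, e3 q9329 (flp_d L179509) q12739, e3 q9330 (flp_d L164881) q10681, e3 q9331 L154614 q5727, e3 q9332 (flp_d L185815) q13586, e3 q9333 L154630 q9274, e3 q9334 L154648 q5731, e3 q9335 (flp_d L165871) q10817, e3 q9336 L185141 q13510, e3 q9337 L154662 q9294, e3 q9338 L154668 q5733, e3 q9339 L185451 q13550, e3 q9340 L185849 q13589, e3 q9341 L154698 q6746, e3 q9342 L154704 q6747, e3 q9343 (flp_d L154710) q5735, trivial⟩ (by decide +kernel)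

theorem ce_d_146 : ∀ r, r < 64 → sm gd (Qf (9344 + r)) = Qf (tab Gen.d (9344 + r)) :=
  edges_tab (sm gd) Qf (tab Gen.d) 9344 [(9344, 10665), (9345, 6730), (9346, 6751), (9347, 6725), (9348, 13595), (9349, 5739), (9350, 10664), (9351, 6729), (9352, 6417), (9353, 6448), (9354, 8203), (9355, 8204), (9356, 5752), (9357, 5753), (9358, 13603), (9359, 13604), (9360, 5756), (9361, 5757), (9362, 7672), (9363, 13609), (9364, 12098), (9365, 7836), (9366, 13613), (9367, 11889), (9368, 5760), (9369, 5761), (9370, 13617), (9371, 13399), (9372, 13619), (9373, 13451), (9374, 5766), (9375, 5767), (9376, 5768), (9377, 5769), (9378, 5770), (9379, 5771), (9380, 13621), (9381, 13622), (9382, 13635), (9383, 13624), (9384, 13625), (9385, 13626), (9386, 13644), (9387, 13628), (9388, 5824), (9389, 5827), (9390, 5780), (9391, 5781), (9392, 5775), (9393, 12553), (9394, 5782), (9395, 5783), (9396, 5784), (9397, 5778), (9398, 12550), (9399, 5785), (9400, 7375), (9401, 13647), (9402, 13648), (9403, 9601), (9404, 13649), (9405, 7406), (9406,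 13650), (9407, 9563)]
    ⟨e3 q9344 (flp_d L164751) q10665, e3 q9345 L154728 q6730, e3 q9346 L154734 q6751, e3 q9347 L154740 q6725, e3 q9348 L185915 q13595, e3 q9349 L154752 q5739, e3 q9350 (flp_d L164737) q10664, e3 q9351 L154768 q6729, e3 q9352 L154778 q6417, e3 q9353 L154788 q6448, e3 q9354 L154798 q8203, e3 q9355 L154805 q8204, e3 q9356 L154812 q5752, e3 q9357 L154820 q5753, e3 q9358 (flp_d L185985) q13603, e3 q9359 (flp_d L185999) q13604, e3 q9360 L154846 q5756, e3 q9361 L154855 q5757, e3 q9362 L154864 q7672, e3 q9363 L186042 q13609, e3 q9364 (flp_d L174483) q12098, e3 q9365 L154880 q7836, e3 q9366 L186068 q13613, e3 q9367 (flp_d L172978) q11889, e3 q9368 L154896 q5760, e3 q9369 L154906 q5761, e3 q9370 L186099 q13617, e3 q9371 (flp_d L184280) q13399, e3 q9372 L186117 q13619, e3 q9373 (flp_d L184656) q13451, e3 q9374 L154946 q5766, e3 q9375 L154954 q5767, e3 q9376 L154960 q5768, e3 q9377 L154968 q5769, e3 q9378 L154976 q5770, e3 q9379 L154982 q5771, e3 q9380 (flp_d L186137) q13621, e3 q9381 (flp_d L186147) q13622,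 e3 q9382 L186246 q13635, e3 q9383 (flp_d L186161) q13624, e3 q9384 (flp_d L186169) q13625, e3 q9385 (flp_d L186179) q13626, e3 q9386 L186309 q13644, e3 q9387 (flp_d L186193) q13628, e3 q9388 L155032 q5824, e3 q9389 L155046 q5827, e3 q9390 L155056 q5780, e3 q9391 L155070 q5781, e3 q9392 (flp_d L155076) q5775, e3 q9393 (flp_d L177995) q12553, e3 q9394 L155102 q5782, e3 q9395 L155110 q5783, e3 q9396 L155124 q5784, e3 q9397 (flp_d L155130) q5778, e3 q9398 (flp_d L177969) q12550, e3 q9399 L155156 q5785, e3 q9400 L155168 q7375, e3 q9401 (flp_d L186333) q13647, e3 q9402 (flp_d L186341) q13648, e3 q9403 (flp_d L156613) q9601, e3 q9404 (flp_d L186351) q13649, e3 q9405 L155194 q7406, e3 q9406 (flp_d L186359) q13650, e3 q9407 (flp_d L156366) q9563, trivial⟩ (by decide +kernel)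

theorem ce_d_147 : ∀ r, r < 64 → sm gd (Qf (9408 + r)) = Qf (tab Gen.d (9408 + r)) :=
  edges_tab (sm gd) Qf (tab Gen.d) 9408 [(9408, 8951), (9409, 9019), (9410, 5790), (9411, 5792), (9412, 5793), (9413, 8952), (9414, 9018), (9415, 8437), (9416, 8438), (9417, 7637), (9418, 7802), (9419, 5804), (9420, 5805), (9421, 7460), (9422, 7459), (9423, 13665), (9424, 13666), (9425, 6394), (9426, 6395), (9427, 6397), (9428, 6398), (9429, 5814), (9430, 5815), (9431, 13683), (9432, 5817), (9433, 5818), (9434, 5819), (9435, 13692), (9436, 5821), (9437, 13677), (9438, 13684), (9439, 13679), (9440, 13680), (9441, 12420), (9442, 13682), (9443, 5816), (9444, 13696), (9445, 13685), (9446, 13686), (9447, 13693), (9448, 13688), (9449, 13689), (9450, 12465), (9451, 13691), (9452, 5820), (9453, 13699), (9454, 13694), (9455, 7497), (9456, 10815), (9457, 7498), (9458, 10816), (9459, 7781), (9460, 7511), (9461, 10836), (9462, 7512), (9463, 10837), (9464, 7616), (9465, 9262), (9466, 5840), (9467, 13546), (9468, 9259), (9469, 5841), (9470,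 9315), (9471, 5844)]
    ⟨e3 q9408 L155214 q8951, e3 q9409 L155224 q9019, e3 q9410 (flp_d L155226) q5790, e3 q9411 L155240 q5792, e3 q9412 L155249 q5793, e3 q9413 L155258 q8952, e3 q9414 L155266 q9018, e3 q9415 L155274 q8437, e3 q9416 L155286 q8438, e3 q9417 L155296 q7637, e3 q9418 L155306 q7802, e3 q9419 L155314 q5804, e3 q9420 L155322 q5805, e3 q9421 L155330 q7460, e3 q9422 L155342 q7459, e3 q9423 (flp_d L186485) q13665, e3 q9424 (flp_d L186494) q13666, e3 q9425 L155356 q6394, e3 q9426 L155362 q6395, e3 q9427 L155368 q6397, e3 q9428 L155374 q6398, e3 q9429 L155380 q5814, e3 q9430 L155386 q5815, e3 q9431 L186647 q13683, e3 q9432 L155392 q5817, e3 q9433 L155398 q5818, e3 q9434 L155404 q5819, e3 q9435 L186732 q13692, e3 q9436 L155410 q5821, e3 q9437 (flp_d L186593) q13677, e3 q9438 (flp_d L186657) q13684, e3 q9439 (flp_d L186613) q13679, e3 q9440 (flp_d L186621) q13680, e3 q9441 (flp_d L176993) q12420, e3 q9442 (flp_d L186641) q13682, e3 q9443 (flp_d L155447) q5816, e3 q9444 (flp_d L186777) q13696, e3 q9445 (flp_d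 L186668) q13685, e3 q9446 (flp_d L186678) q13686, e3 q9447 (flp_d L186742) q13693, e3 q9448 (flp_d L186698) q13688, e3 q9449 (flp_d L186706) q13689, e3 q9450 (flp_d L177330) q12465, e3 q9451 (flp_d L186726) q13691, e3 q9452 (flp_d L155530) q5820, e3 q9453 (flp_d L186807) q13699, e3 q9454 (flp_d L186753) q13694, e3 q9455 L155544 q7497, e3 q9456 (flp_d L165853) q10815, e3 q9457 L155566 q7498, e3 q9458 (flp_d L165865) q10816, e3 q9459 L155582 q7781, e3 q9460 L155590 q7511, e3 q9461 (flp_d L166036) q10836, e3 q9462 L155612 q7512, e3 q9463 (flp_d L166048) q10837, e3 q9464 L155628 q7616, e3 q9465 L155640 q9262, e3 q9466 L155646 q5840, e3 q9467 (flp_d L185425) q13546, e3 q9468 L155660 q9259, e3 q9469 L155666 q5841, e3 q9470 L155676 q9315, e3 q9471 L155682 q5844, trivial⟩ (by decide +kernel)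

theorem ce_d_148 : ∀ r, r < 64 → sm gd (Qf (9472 + r)) = Qf (tab Gen.d (9472 + r)) :=
  edges_tab (sm gd) Qf (tab Gen.d) 9472 [(9472, 13577), (9473, 9312), (9474, 5845), (9475, 9235), (9476, 12480), (9477, 13524), (9478, 12482), (9479, 9487), (9480, 12418), (9481, 10729), (9482, 9191), (9483, 12444), (9484, 13500), (9485, 9199), (9486, 12446), (9487, 9479), (9488, 12434), (9489, 10644), (9490, 9229), (9491, 5847), (9492, 5850), (9493, 8572), (9494, 13721), (9495, 5853), (9496, 10978), (9497, 5965), (9498, 5855), (9499, 13729), (9500, 9521), (9501, 13735), (9502, 9524), (9503, 9519), (9504, 13741), (9505, 9516), (9506, 5858), (9507, 13743), (9508, 9518), (9509, 8581), (9510, 13746), (9511, 5861), (9512, 11003), (9513, 5980), (9514, 5863), (9515, 13754), (9516, 9505), (9517, 13760), (9518, 9508), (9519, 9503), (9520, 13766), (9521, 9500), (9522, 5866), (9523, 13768), (9524, 9502), (9525, 6000), (9526, 6006), (9527, 5890), (9528, 5893), (9529, 5897), (9530, 9559), (9531, 6213), (9532, 5875), (9533, 5902), (9534, 13774),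 (9535, 5904)]
    ⟨e3 q9472 (flp_d L185719) q13577, e3 q9473 L155696 q9312, e3 q9474 L155702 q5845, e3 q9475 L155710 q9235, e3 q9476 L177451 q12480, e3 q9477 (flp_d L185259) q13524, e3 q9478 (flp_d L177463) q12482, e3 q9479 L175051 q9487, e3 q9480 L176975 q12418, e3 q9481 (flp_d L165188) q10729, e3 q9482 L155748 q9191, e3 q9483 L177174 q12444, e3 q9484 (flp_d L185059) q13500, e3 q9485 L155768 q9199, e3 q9486 (flp_d L177188) q12446, e3 q9487 (flp_d L175051) q9479, e3 q9488 (flp_d L177106) q12434, e3 q9489 (flp_d L164581) q10644, e3 q9490 L155794 q9229, e3 q9491 (flp_d L155798) q5847, e3 q9492 (flp_d L155806) q5850, e3 q9493 L155818 q8572, e3 q9494 L187019 q13721, e3 q9495 (flp_d L155832) q5853, e3 q9496 (flp_d L167074) q10978, e3 q9497 L155848 q5965, e3 q9498 L155852 q5855, e3 q9499 (flp_d L187079) q13729, e3 q9500 (flp_d L155994) q9521, e3 q9501 L187119 q13735, e3 q9502 (flp_d L156014) q9524, e3 q9503 (flp_d L155980) q9519, e3 q9504 L187157 q13741, e3 q9505 (flp_d L155960) q9516, e3 q9506 (flp_d L155894) q5858,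 e3 q9507 (flp_d L187179) q13743, e3 q9508 (flp_d L155974) q9518, e3 q9509 L155916 q8581, e3 q9510 L187203 q13746, e3 q9511 (flp_d L155930) q5861, e3 q9512 (flp_d L167218) q11003, e3 q9513 L155946 q5980, e3 q9514 L155950 q5863, e3 q9515 (flp_d L187263) q13754, e3 q9516 L155960 q9505, e3 q9517 L187303 q13760, e3 q9518 L155974 q9508, e3 q9519 L155980 q9503, e3 q9520 L187345 q13766, e3 q9521 L155994 q9500, e3 q9522 (flp_d L156000) q5866, e3 q9523 (flp_d L187367) q13768, e3 q9524 L156014 q9502, e3 q9525 L156022 q6000, e3 q9526 L156042 q6006, e3 q9527 L156064 q5890, e3 q9528 L156076 q5893, e3 q9529 L156082 q5897, e3 q9530 (flp_d L156342) q9559, e3 q9531 L156098 q6213, e3 q9532 L156104 q5875, e3 q9533 L156108 q5902, e3 q9534 L187415 q13774, e3 q9535 L156136 q5904, trivial⟩ (by decide +kernel)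

theorem ce_d_149 : ∀ r, r < 64 → sm gd (Qf (9536 + r)) = Qf (tab Gen.d (9536 + r)) :=
  edges_tab (sm gd) Qf (tab Gen.d) 9536 [(9536, 5905), (9537, 5906), (9538, 5908), (9539, 5879), (9540, 5912), (9541, 5914), (9542, 5919), (9543, 9597), (9544, 6232), (9545, 5884), (9546, 5924), (9547, 13782), (9548, 5926), (9549, 5927), (9550, 5928), (9551, 5930), (9552, 5888), (9553, 9187), (9554, 13105), (9555, 9192), (9556, 13771), (9557, 13492), (9558, 5894), (9559, 9530), (9560, 6048), (9561, 5896), (9562, 13793), (9563, 9407), (9564, 13798), (9565, 13770), (9566, 13800), (9567, 10979), (9568, 6056), (9569, 5901), (9570, 13805), (9571, 13638), (9572, 13812), (9573, 5903), (9574, 13815), (9575, 9620), (9576, 13450), (9577, 13818), (9578, 12817), (9579, 13776), (9580, 13821), (9581, 9613), (9582, 13777), (9583, 13116), (9584, 5907), (9585, 13828), (9586, 11015), (9587, 6076), (9588, 5910), (9589, 13834), (9590, 10131), (9591, 9227), (9592, 13164), (9593, 13779), (9594, 13522), (9595, 9231), (9596, 5916), (9597, 9543), (9598,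 6086), (9599, 5918)]
    ⟨e3 q9536 L156142 q5905, e3 q9537 L156146 q5906, e3 q9538 L156158 q5908, e3 q9539 (flp_d L156166) q5879, e3 q9540 L156174 q5912, e3 q9541 L156186 q5914, e3 q9542 L156192 q5919, e3 q9543 (flp_d L156589) q9597, e3 q9544 L156208 q6232, e3 q9545 L156214 q5884, e3 q9546 L156218 q5924, e3 q9547 L187487 q13782, e3 q9548 L156246 q5926, e3 q9549 L156252 q5927, e3 q9550 L156256 q5928, e3 q9551 L156268 q5930, e3 q9552 (flp_d L156276) q5888, e3 q9553 L156288 q9187, e3 q9554 (flp_d L182185) q13105, e3 q9555 L156304 q9192, e3 q9556 (flp_d L187393) q13771, e3 q9557 (flp_d L184965) q13492, e3 q9558 (flp_d L156326) q5894, e3 q9559 L156342 q9530, e3 q9560 L156350 q6048, e3 q9561 L156356 q5896, e3 q9562 (flp_d L187587) q13793, e3 q9563 L156366 q9407, e3 q9564 L187617 q13798, e3 q9565 (flp_d L187383) q13770, e3 q9566 L187627 q13800, e3 q9567 (flp_d L167080) q10979, e3 q9568 L156394 q6056, e3 q9569 L156402 q5901, e3 q9570 (flp_d L187661) q13805, e3 q9571 (flp_d L186264) q13638, e3 q9572 L187697 q13812, e3 q9573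 (flp_d L156422) q5903, e3 q9574 (flp_d L187715) q13815, e3 q9575 (flp_d L156727) q9620, e3 q9576 (flp_d L184642) q13450, e3 q9577 L187733 q13818, e3 q9578 (flp_d L180157) q12817, e3 q9579 (flp_d L187437) q13776, e3 q9580 L187755 q13821, e3 q9581 (flp_d L156681) q9613, e3 q9582 (flp_d L187451) q13777, e3 q9583 (flp_d L187813) q13116, e3 q9584 (flp_d L156486) q5907, e3 q9585 (flp_d L187837) q13828, e3 q9586 L167294 q11015, e3 q9587 L156506 q6076, e3 q9588 L156510 q5910, e3 q9589 (flp_d L187876) q13834, e3 q9590 L160176 q10131, e3 q9591 L156535 q9227, e3 q9592 (flp_d L182547) q13164, e3 q9593 (flp_d L187465) q13779, e3 q9594 (flp_d L185235) q13522, e3 q9595 L156565 q9231, e3 q9596 (flp_d L156573) q5916, e3 q9597 L156589 q9543, e3 q9598 L156597 q6086, e3 q9599 L156603 q5918, trivial⟩ (by decide +kernel)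

theorem ce_d_150 : ∀ r, r < 64 → sm gd (Qf (9600 + r)) = Qf (tab Gen.d (9600 + r)) :=
  edges_tab (sm gd) Qf (tab Gen.d) 9600 [(9600, 13843), (9601, 9403), (9602, 13847), (9603, 13745), (9604, 13849), (9605, 11002), (9606, 6094), (9607, 5923), (9608, 13854), (9609, 13629), (9610, 13861), (9611, 5925), (9612, 13864), (9613, 9581), (9614, 13398), (9615, 13867), (9616, 12819), (9617, 13784), (9618, 13870), (9619, 13785), (9620, 9575), (9621, 13175), (9622, 5929), (9623, 13877), (9624, 10991), (9625, 6114), (9626, 5932), (9627, 13883), (9628, 10164), (9629, 13888), (9630, 5934), (9631, 13893), (9632, 13894), (9633, 6124), (9634, 9643), (9635, 8819), (9636, 13901), (9637, 5938), (9638, 13906), (9639, 13907), (9640, 6133), (9641, 9649), (9642, 8856), (9643, 9634), (9644, 13916), (9645, 5943), (9646, 13920), (9647, 13921), (9648, 8870), (9649, 9641), (9650, 13925), (9651, 5946), (9652, 13928), (9653, 8883), (9654, 8571), (9655, 8580), (9656, 5968), (9657, 12769), (9658, 5970), (9659, 5973), (9660, 5955), (9661, 8513),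 (9662, 5976), (9663, 5983)]
    ⟨e3 q9600 (flp_d L187945) q13843, e3 q9601 L156613 q9403, e3 q9602 L187963 q13847, e3 q9603 (flp_d L187195) q13745, e3 q9604 L187973 q13849, e3 q9605 (flp_d L167212) q11002, e3 q9606 L156641 q6094, e3 q9607 L156649 q5923, e3 q9608 (flp_d L188007) q13854, e3 q9609 (flp_d L186201) q13629, e3 q9610 L188043 q13861, e3 q9611 (flp_d L156669) q5925, e3 q9612 (flp_d L188061) q13864, e3 q9613 L156681 q9581, e3 q9614 (flp_d L184266) q13398, e3 q9615 L188079 q13867, e3 q9616 (flp_d L180181) q12819, e3 q9617 (flp_d L187509) q13784, e3 q9618 L188101 q13870, e3 q9619 (flp_d L187525) q13785, e3 q9620 L156727 q9575, e3 q9621 (flp_d L188159) q13175, e3 q9622 (flp_d L156739) q5929, e3 q9623 (flp_d L188183) q13877, e3 q9624 L167156 q10991, e3 q9625 L156759 q6114, e3 q9626 L156763 q5932, e3 q9627 (flp_d L188222) q13883, e3 q9628 L160406 q10164, e3 q9629 L188251 q13888, e3 q9630 (flp_d L156788) q5934, e3 q9631 (flp_d L188283) q13893, e3 q9632 (flp_d L188288) q13894, e3 q9633 L156893 q6124, e3 q9634 (flp_d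 L156945) q9643, e3 q9635 L156902 q8819, e3 q9636 L188317 q13901, e3 q9637 (flp_d L156910) q5938, e3 q9638 (flp_d L188351) q13906, e3 q9639 (flp_d L188355) q13907, e3 q9640 L156932 q6133, e3 q9641 (flp_d L156982) q9649, e3 q9642 L156941 q8856, e3 q9643 L156945 q9634, e3 q9644 L188414 q13916, e3 q9645 (flp_d L156956) q5943, e3 q9646 (flp_d L188444) q13920, e3 q9647 (flp_d L188449) q13921, e3 q9648 L156978 q8870, e3 q9649 L156982 q9641, e3 q9650 L188496 q13925, e3 q9651 (flp_d L156993) q5946, e3 q9652 (flp_d L188526) q13928, e3 q9653 L157015 q8883, e3 q9654 L157019 q8571, e3 q9655 L157031 q8580, e3 q9656 L157043 q5968, e3 q9657 (flp_d L179745) q12769, e3 q9658 L157053 q5970, e3 q9659 L157067 q5973, e3 q9660 (flp_d L157091) q5955, e3 q9661 (flp_d L162889) q8513, e3 q9662 L157101 q5976, e3 q9663 L157107 q5983, trivial⟩ (by decide +kernel)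

theorem ce_d_151 : ∀ r, r < 64 → sm gd (Qf (9664 + r)) = Qf (tab Gen.d (9664 + r)) :=
  edges_tab (sm gd) Qf (tab Gen.d) 9664 [(9664, 12794), (9665, 5985), (9666, 5988), (9667, 5960), (9668, 8542), (9669, 5991), (9670, 8965), (9671, 13724), (9672, 13728), (9673, 5967), (9674, 12793), (9675, 12427), (9676, 13936), (9677, 13929), (9678, 13939), (9679, 5969), (9680, 13940), (9681, 12432), (9682, 13944), (9683, 8156), (9684, 13947), (9685, 5972), (9686, 13951), (9687, 13953), (9688, 8541), (9689, 5975), (9690, 13957), (9691, 13494), (9692, 9033), (9693, 13749), (9694, 13753), (9695, 5982), (9696, 12768), (9697, 12413), (9698, 13960), (9699, 13932), (9700, 13963), (9701, 5984), (9702, 13954), (9703, 12473), (9704, 13942), (9705, 8186), (9706, 13968), (9707, 5987), (9708, 13972), (9709, 13974), (9710, 8512), (9711, 5990), (9712, 13977), (9713, 13523), (9714, 7527), (9715, 6482), (9716, 10331), (9717, 6479), (9718, 7599), (9719, 10329), (9720, 6112), (9721, 10330), (9722, 7572), (9723, 6515), (9724, 10365), (9725, 6513),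 (9726, 7554), (9727, 10364)]
    ⟨e3 q9664 (flp_d L179963) q12794, e3 q9665 L157121 q5985, e3 q9666 L157129 q5988, e3 q9667 (flp_d L157135) q5960, e3 q9668 (flp_d L162903) q8542, e3 q9669 L157149 q5991, e3 q9670 L157159 q8965, e3 q9671 (flp_d L187051) q13724, e3 q9672 (flp_d L187073) q13728, e3 q9673 L157181 q5967, e3 q9674 (flp_d L179951) q12793, e3 q9675 L177055 q12427, e3 q9676 (flp_d L188609) q13936, e3 q9677 (flp_d L188551) q13929, e3 q9678 L188633 q13939, e3 q9679 (flp_d L157205) q5969, e3 q9680 (flp_d L188643) q13940, e3 q9681 L177088 q12432, e3 q9682 L188671 q13944, e3 q9683 L157223 q8156, e3 q9684 L188691 q13947, e3 q9685 (flp_d L157229) q5972, e3 q9686 (flp_d L188713) q13951, e3 q9687 L188719 q13953, e3 q9688 L163517 q8541, e3 q9689 L157249 q5975, e3 q9690 (flp_d L188753) q13957, e3 q9691 (flp_d L184987) q13494, e3 q9692 L157269 q9033, e3 q9693 (flp_d L187235) q13749, e3 q9694 (flp_d L187257) q13753, e3 q9695 L157291 q5982, e3 q9696 (flp_d L179733) q12768, e3 q9697 (flp_d L176925) q12413, e3 q9698 (flp_d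 L188773) q13960, e3 q9699 (flp_d L188573) q13932, e3 q9700 L188797 q13963, e3 q9701 (flp_d L157315) q5984, e3 q9702 (flp_d L188735) q13954, e3 q9703 L177405 q12473, e3 q9704 L188665 q13942, e3 q9705 L157335 q8186, e3 q9706 L188829 q13968, e3 q9707 (flp_d L157341) q5987, e3 q9708 (flp_d L188861) q13972, e3 q9709 L188869 q13974, e3 q9710 (flp_d L163633) q8512, e3 q9711 L157361 q5990, e3 q9712 (flp_d L188907) q13977, e3 q9713 (flp_d L185245) q13523, e3 q9714 L157379 q7527, e3 q9715 L157403 q6482, e3 q9716 L163280 q10331, e3 q9717 L157421 q6479, e3 q9718 L157429 q7599, e3 q9719 L163276 q10329, e3 q9720 L157443 q6112, e3 q9721 L163278 q10330, e3 q9722 L157461 q7572, e3 q9723 L157485 q6515, e3 q9724 (flp_d L163443) q10365, e3 q9725 L157503 q6513, e3 q9726 L157511 q7554, e3 q9727 L163441 q10364, trivial⟩ (by decide +kernel)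

theorem ce_d_152 : ∀ r, r < 64 → sm gd (Qf (9728 + r)) = Qf (tab Gen.d (9728 + r)) :=
  edges_tab (sm gd) Qf (tab Gen.d) 9728 [(9728, 6074), (9729, 10366), (9730, 6051), (9731, 6053), (9732, 12595), (9733, 6014), (9734, 12807), (9735, 10801), (9736, 6059), (9737, 13990), (9738, 6017), (9739, 13396), (9740, 6063), (9741, 6064), (9742, 13994), (9743, 13996), (9744, 6021), (9745, 14000), (9746, 9812), (9747, 10042), (9748, 6024), (9749, 14005), (9750, 6089), (9751, 6091), (9752, 12597), (9753, 6030), (9754, 12782), (9755, 10720), (9756, 6097), (9757, 14009), (9758, 6033), (9759, 13445), (9760, 6101), (9761, 6102), (9762, 14013), (9763, 14015), (9764, 6037), (9765, 14019), (9766, 9865), (9767, 10076), (9768, 6040), (9769, 14024), (9770, 8453), (9771, 13525), (9772, 13493), (9773, 14027), (9774, 13792), (9775, 13324), (9776, 13305), (9777, 13326), (9778, 13498), (9779, 6052), (9780, 14033), (9781, 6054), (9782, 14035), (9783, 8890), (9784, 13804), (9785, 6058), (9786, 13304), (9787, 8989), (9788, 13293), (9789, 13674),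 (9790, 11974), (9791, 13675)]
    ⟨e3 q9728 L157525 q6074, e3 q9729 (flp_d L163445) q10366, e3 q9730 L157545 q6051, e3 q9731 L157555 q6053, e3 q9732 (flp_d L178393) q12595, e3 q9733 L157569 q6014, e3 q9734 (flp_d L180075) q12807, e3 q9735 L165754 q10801, e3 q9736 L157589 q6059, e3 q9737 L189017 q13990, e3 q9738 (flp_d L157599) q6017, e3 q9739 (flp_d L184252) q13396, e3 q9740 L157611 q6063, e3 q9741 L157627 q6064, e3 q9742 L189041 q13994, e3 q9743 L189049 q13996, e3 q9744 (flp_d L157645) q6021, e3 q9745 (flp_d L189067) q14000, e3 q9746 L158037 q9812, e3 q9747 L163282 q10042, e3 q9748 L157663 q6024, e3 q9749 (flp_d L189107) q14005, e3 q9750 L157677 q6089, e3 q9751 L157687 q6091, e3 q9752 (flp_d L178415) q12597, e3 q9753 L157701 q6030, e3 q9754 (flp_d L179857) q12782, e3 q9755 L165120 q10720, e3 q9756 L157723 q6097, e3 q9757 L189139 q14009, e3 q9758 (flp_d L157733) q6033, e3 q9759 (flp_d L184606) q13445, e3 q9760 L157745 q6101, e3 q9761 L157761 q6102, e3 q9762 L189163 q14013, e3 q9763 L189171 q14015, e3 q9764 (flp_d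 L157779) q6037, e3 q9765 (flp_d L189189) q14019, e3 q9766 L158337 q9865, e3 q9767 (flp_d L163447) q10076, e3 q9768 L157797 q6040, e3 q9769 (flp_d L189229) q14024, e3 q9770 L157809 q8453, e3 q9771 (flp_d L185271) q13525, e3 q9772 (flp_d L184973) q13493, e3 q9773 L189257 q14027, e3 q9774 (flp_d L187579) q13792, e3 q9775 (flp_d L183721) q13324, e3 q9776 (flp_d L183583) q13305, e3 q9777 (flp_d L183735) q13326, e3 q9778 (flp_d L185031) q13498, e3 q9779 (flp_d L157859) q6052, e3 q9780 (flp_d L189319) q14033, e3 q9781 (flp_d L157867) q6054, e3 q9782 (flp_d L189331) q14035, e3 q9783 L157883 q8890, e3 q9784 (flp_d L187653) q13804, e3 q9785 L157901 q6058, e3 q9786 (flp_d L183577) q13304, e3 q9787 (flp_d L157909) q8989, e3 q9788 (flp_d L183487) q13293, e3 q9789 (flp_d L186563) q13674, e3 q9790 (flp_d L173603) q11974, e3 q9791 (flp_d L186577) q13675, trivial⟩ (by decide +kernel)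

theorem ce_d_153 : ∀ r, r < 64 → sm gd (Qf (9792 + r)) = Qf (tab Gen.d (9792 + r)) :=
  edges_tab (sm gd) Qf (tab Gen.d) 9792 [(9792, 12820), (9793, 14046), (9794, 6060), (9795, 14051), (9796, 13814), (9797, 6062), (9798, 8016), (9799, 8577), (9800, 9000), (9801, 12460), (9802, 9002), (9803, 12461), (9804, 14056), (9805, 6068), (9806, 13409), (9807, 14059), (9808, 14061), (9809, 6071), (9810, 14064), (9811, 14066), (9812, 9746), (9813, 13827), (9814, 6073), (9815, 11968), (9816, 14072), (9817, 6075), (9818, 14076), (9819, 13833), (9820, 6078), (9821, 11845), (9822, 9194), (9823, 10824), (9824, 10767), (9825, 8464), (9826, 13501), (9827, 14084), (9828, 13842), (9829, 13379), (9830, 13365), (9831, 13380), (9832, 6090), (9833, 14090), (9834, 6092), (9835, 14092), (9836, 8896), (9837, 13853), (9838, 6096), (9839, 13364), (9840, 9053), (9841, 13357), (9842, 13671), (9843, 12174), (9844, 12818), (9845, 13672), (9846, 14068), (9847, 6098), (9848, 14105), (9849, 13863), (9850, 6100), (9851, 7957), (9852, 8586), (9853,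 9062), (9854, 12494), (9855, 9064)]
    ⟨e3 q9792 (flp_d L180195) q12820, e3 q9793 L189403 q14046, e3 q9794 (flp_d L157935) q6060, e3 q9795 L189443 q14051, e3 q9796 (flp_d L187711) q13814, e3 q9797 L157951 q6062, e3 q9798 (flp_d L163752) q8016, e3 q9799 L157957 q8577, e3 q9800 L157967 q9000, e3 q9801 (flp_d L177291) q12460, e3 q9802 L157987 q9002, e3 q9803 (flp_d L177305) q12461, e3 q9804 L189489 q14056, e3 q9805 (flp_d L158005) q6068, e3 q9806 (flp_d L184368) q13409, e3 q9807 (flp_d L189513) q14059, e3 q9808 L189525 q14061, e3 q9809 (flp_d L158025) q6071, e3 q9810 (flp_d L189547) q14064, e3 q9811 (flp_d L189557) q14066, e3 q9812 (flp_d L158037) q9746, e3 q9813 (flp_d L187831) q13827, e3 q9814 L158047 q6073, e3 q9815 (flp_d L173554) q11968, e3 q9816 L189605 q14072, e3 q9817 (flp_d L158067) q6075, e3 q9818 L189637 q14076, e3 q9819 (flp_d L187867) q13833, e3 q9820 L158090 q6078, e3 q9821 L175497 q11845, e3 q9822 L158099 q9194, e3 q9823 L165933 q10824, e3 q9824 (flp_d L165514) q10767, e3 q9825 L158117 q8464, e3 q9826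 (flp_d L185071) q13501, e3 q9827 L189689 q14084, e3 q9828 (flp_d L187937) q13842, e3 q9829 (flp_d L184129) q13379, e3 q9830 (flp_d L184037) q13365, e3 q9831 (flp_d L184137) q13380, e3 q9832 (flp_d L158157) q6090, e3 q9833 (flp_d L189751) q14090, e3 q9834 (flp_d L158165) q6092, e3 q9835 (flp_d L189763) q14092, e3 q9836 L158181 q8896, e3 q9837 (flp_d L187999) q13853, e3 q9838 L158199 q6096, e3 q9839 (flp_d L184031) q13364, e3 q9840 (flp_d L158207) q9053, e3 q9841 (flp_d L183971) q13357, e3 q9842 (flp_d L186533) q13671, e3 q9843 (flp_d L175100) q12174, e3 q9844 (flp_d L180171) q12818, e3 q9845 (flp_d L186547) q13672, e3 q9846 (flp_d L189571) q14068, e3 q9847 (flp_d L158233) q6098, e3 q9848 L189875 q14105, e3 q9849 (flp_d L188057) q13863, e3 q9850 L158249 q6100, e3 q9851 L163720 q7957, e3 q9852 L158255 q8586, e3 q9853 L158265 q9062, e3 q9854 (flp_d L177552) q12494, e3 q9855 L158285 q9064, trivial⟩ (by decide +kernel)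

theorem ce_d_154 : ∀ r, r < 64 → sm gd (Qf (9856 + r)) = Qf (tab Gen.d (9856 + r)) :=
  edges_tab (sm gd) Qf (tab Gen.d) 9856 [(9856, 12495), (9857, 14109), (9858, 6106), (9859, 14112), (9860, 13461), (9861, 14114), (9862, 6109), (9863, 14048), (9864, 14117), (9865, 9766), (9866, 13876), (9867, 6111), (9868, 12170), (9869, 14123), (9870, 6113), (9871, 14127), (9872, 13882), (9873, 6116), (9874, 12058), (9875, 9232), (9876, 10845), (9877, 10683), (9878, 14133), (9879, 6120), (9880, 9890), (9881, 6131), (9882, 13892), (9883, 6123), (9884, 6129), (9885, 9214), (9886, 9217), (9887, 9219), (9888, 9220), (9889, 14136), (9890, 9880), (9891, 13905), (9892, 9250), (9893, 9253), (9894, 9255), (9895, 9256), (9896, 6408), (9897, 8612), (9898, 6137), (9899, 10501), (9900, 14155), (9901, 10307), (9902, 8598), (9903, 8614), (9904, 6142), (9905, 14161), (9906, 6144), (9907, 14166), (9908, 14167), (9909, 9126), (9910, 6146), (9911, 6147), (9912, 14172), (9913, 6440), (9914, 8617), (9915, 6150), (9916, 10451), (9917, 14176), (9918,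 10343), (9919, 8619)]
    ⟨e3 q9856 (flp_d L177566) q12495, e3 q9857 L189913 q14109, e3 q9858 (flp_d L158305) q6106, e3 q9859 (flp_d L189937) q14112, e3 q9860 (flp_d L184744) q13461, e3 q9861 L189949 q14114, e3 q9862 (flp_d L158325) q6109, e3 q9863 (flp_d L189413) q14048, e3 q9864 (flp_d L189987) q14117, e3 q9865 (flp_d L158337) q9766, e3 q9866 (flp_d L188177) q13876, e3 q9867 L158347 q6111, e3 q9868 (flp_d L175059) q12170, e3 q9869 L190031 q14123, e3 q9870 (flp_d L158367) q6113, e3 q9871 L190063 q14127, e3 q9872 (flp_d L188213) q13882, e3 q9873 L158390 q6116, e3 q9874 L174150 q12058, e3 q9875 L158399 q9232, e3 q9876 L166118 q10845, e3 q9877 (flp_d L164899) q10683, e3 q9878 L190097 q14133, e3 q9879 (flp_d L158417) q6120, e3 q9880 (flp_d L158494) q9890, e3 q9881 L158437 q6131, e3 q9882 (flp_d L188279) q13892, e3 q9883 L158453 q6123, e3 q9884 L158463 q6129, e3 q9885 L158469 q9214, e3 q9886 L158475 q9217, e3 q9887 L158479 q9219, e3 q9888 L158484 q9220, e3 q9889 (flp_d L190117) q14136, e3 q9890 L158494 q9880, e3 q9891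 (flp_d L188345) q13905, e3 q9892 L158506 q9250, e3 q9893 L158512 q9253, e3 q9894 L158516 q9255, e3 q9895 L158520 q9256, e3 q9896 L158531 q6408, e3 q9897 L158541 q8612, e3 q9898 L158547 q6137, e3 q9899 (flp_d L162597) q10501, e3 q9900 L190267 q14155, e3 q9901 (flp_d L161292) q10307, e3 q9902 L158575 q8598, e3 q9903 L158583 q8614, e3 q9904 L158595 q6142, e3 q9905 L190311 q14161, e3 q9906 (flp_d L158601) q6144, e3 q9907 (flp_d L190345) q14166, e3 q9908 L190351 q14167, e3 q9909 L158627 q9126, e3 q9910 L158633 q6146, e3 q9911 L158638 q6147, e3 q9912 (flp_d L190400) q14172, e3 q9913 L158658 q6440, e3 q9914 L158668 q8617, e3 q9915 L158674 q6150, e3 q9916 (flp_d L162279) q10451, e3 q9917 L190433 q14176, e3 q9918 (flp_d L161535) q10343, e3 q9919 L158698 q8619, trivial⟩ (by decide +kernel)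

theorem ce_d_155 : ∀ r, r < 64 → sm gd (Qf (9920 + r)) = Qf (tab Gen.d (9920 + r)) :=
  edges_tab (sm gd) Qf (tab Gen.d) 9920 [(9920, 8602), (9921, 6155), (9922, 14182), (9923, 6157), (9924, 14187), (9925, 14188), (9926, 9180), (9927, 6159), (9928, 6160), (9929, 14193), (9930, 14195), (9931, 12521), (9932, 14197), (9933, 12522), (9934, 14199), (9935, 6168), (9936, 6169), (9937, 14203), (9938, 6170), (9939, 6171), (9940, 14201), (9941, 14207), (9942, 14205), (9943, 14208), (9944, 9944), (9945, 9945), (9946, 9946), (9947, 9947), (9948, 9948), (9949, 9949), (9950, 9950), (9951, 9951), (9952, 14215), (9953, 9953), (9954, 9954), (9955, 14219), (9956, 9956), (9957, 6183), (9958, 14221), (9959, 6184), (9960, 6178), (9961, 14224), (9962, 6186), (9963, 6187), (9964, 14227), (9965, 6188), (9966, 6181), (9967, 14230), (9968, 6190), (9969, 12942), (9970, 14234), (9971, 12926), (9972, 14236), (9973, 6191), (9974, 9974), (9975, 9975), (9976, 14240), (9977, 6194), (9978, 9978), (9979, 9979), (9980, 14244), (9981, 14245), (9982,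 6215), (9983, 6216)]
    ⟨e3 q9920 L158710 q8602, e3 q9921 L158722 q6155, e3 q9922 L190491 q14182, e3 q9923 (flp_d L158728) q6157, e3 q9924 (flp_d L190541) q14187, e3 q9925 L190547 q14188, e3 q9926 L158754 q9180, e3 q9927 L158758 q6159, e3 q9928 L158764 q6160, e3 q9929 (flp_d L190596) q14193, e3 q9930 L190611 q14195, e3 q9931 (flp_d L177763) q12521, e3 q9932 L190625 q14197, e3 q9933 (flp_d L177773) q12522, e3 q9934 L190639 q14199, e3 q9935 L158813 q6168, e3 q9936 L158819 q6169, e3 q9937 L190669 q14203, e3 q9938 L158831 q6170, e3 q9939 L158837 q6171, e3 q9940 (flp_d L190653) q14201, e3 q9941 L190699 q14207, e3 q9942 (flp_d L190683) q14205, e3 q9943 L190701 q14208, e3 q9944 L158871 q9944, e3 q9945 L158883 q9945, e3 q9946 L158891 q9946, e3 q9947 L158897 q9947, e3 q9948 L158904 q9948, e3 q9949 L158911 q9949, e3 q9950 L158920 q9950, e3 q9951 L158927 q9951, e3 q9952 L190746 q14215, e3 q9953 L158939 q9953, e3 q9954 L158946 q9954, e3 q9955 L190773 q14219, e3 q9956 L158958 q9956, e3 q9957 L158967 q6183, e3 q9958 L190785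 q14221, e3 q9959 L158983 q6184, e3 q9960 (flp_d L158989) q6178, e3 q9961 (flp_d L190805) q14224, e3 q9962 L159001 q6186, e3 q9963 L159011 q6187, e3 q9964 L190821 q14227, e3 q9965 L159027 q6188, e3 q9966 (flp_d L159033) q6181, e3 q9967 (flp_d L190841) q14230, e3 q9968 L159045 q6190, e3 q9969 (flp_d L181045) q12942, e3 q9970 L190859 q14234, e3 q9971 (flp_d L180949) q12926, e3 q9972 L190869 q14236, e3 q9973 (flp_d L159089) q6191, e3 q9974 L159105 q9974, e3 q9975 L159116 q9975, e3 q9976 L190904 q14240, e3 q9977 (flp_d L159127) q6194, e3 q9978 L159143 q9978, e3 q9979 L159154 q9979, e3 q9980 L190935 q14244, e3 q9981 L190939 q14245, e3 q9982 L159171 q6215, e3 q9983 L159179 q6216, trivial⟩ (by decide +kernel)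

theorem ce_d_156 : ∀ r, r < 64 → sm gd (Qf (9984 + r)) = Qf (tab Gen.d (9984 + r)) :=
  edges_tab (sm gd) Qf (tab Gen.d) 9984 [(9984, 7091), (9985, 6198), (9986, 10026), (9987, 7003), (9988, 6200), (9989, 6223), (9990, 14254), (9991, 6225), (9992, 6226), (9993, 14258), (9994, 6228), (9995, 6203), (9996, 14262), (9997, 6231), (9998, 14265), (9999, 6234), (10000, 6235), (10001, 7132), (10002, 6206), (10003, 10060), (10004, 7019), (10005, 6208), (10006, 6242), (10007, 14274), (10008, 6244), (10009, 6245), (10010, 14278), (10011, 6247), (10012, 6211), (10013, 14282), (10014, 6250), (10015, 14285), (10016, 14286), (10017, 6214), (10018, 14290), (10019, 14291), (10020, 14248), (10021, 14249), (10022, 14295), (10023, 6217), (10024, 14299), (10025, 14300), (10026, 9986), (10027, 6416), (10028, 14305), (10029, 6219), (10030, 14309), (10031, 14308), (10032, 6419), (10033, 6222), (10034, 14313), (10035, 12469), (10036, 14315), (10037, 14252), (10038, 14323), (10039, 6224), (10040, 14325), (10041, 14328), (10042, 9747), (10043,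 6227), (10044, 14333), (10045, 14335), (10046, 6433), (10047, 6230)]
    ⟨e3 q9984 (flp_d L159191) q7091, e3 q9985 (flp_d L159193) q6198, e3 q9986 L159499 q10026, e3 q9987 L159225 q7003, e3 q9988 L159231 q6200, e3 q9989 L159239 q6223, e3 q9990 L191021 q14254, e3 q9991 L159253 q6225, e3 q9992 L159259 q6226, e3 q9993 L191043 q14258, e3 q9994 L159275 q6228, e3 q9995 (flp_d L159283) q6203, e3 q9996 (flp_d L191065) q14262, e3 q9997 L159295 q6231, e3 q9998 L191083 q14265, e3 q9999 L159307 q6234, e3 q10000 L159313 q6235, e3 q10001 (flp_d L159327) q7132, e3 q10002 (flp_d L159329) q6206, e3 q10003 L159699 q10060, e3 q10004 L159349 q7019, e3 q10005 L159353 q6208, e3 q10006 L159361 q6242, e3 q10007 L191165 q14274, e3 q10008 L159375 q6244, e3 q10009 L159381 q6245, e3 q10010 L191187 q14278, e3 q10011 L159397 q6247, e3 q10012 (flp_d L159405) q6211, e3 q10013 (flp_d L191209) q14282, e3 q10014 L159417 q6250, e3 q10015 L191227 q14285, e3 q10016 L191235 q14286, e3 q10017 (flp_d L159437) q6214, e3 q10018 (flp_d L191263) q14290, e3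 q10019 (flp_d L191267) q14291, e3 q10020 (flp_d L190957) q14248, e3 q10021 (flp_d L190969) q14249, e3 q10022 L191295 q14295, e3 q10023 (flp_d L159475) q6217, e3 q10024 (flp_d L191323) q14299, e3 q10025 (flp_d L191331) q14300, e3 q10026 (flp_d L159499) q9986, e3 q10027 L159507 q6416, e3 q10028 L191361 q14305, e3 q10029 (flp_d L159511) q6219, e3 q10030 L191387 q14309, e3 q10031 (flp_d L191383) q14308, e3 q10032 L159531 q6419, e3 q10033 L159537 q6222, e3 q10034 (flp_d L191407) q14313, e3 q10035 (flp_d L177366) q12469, e3 q10036 (flp_d L191413) q14315, e3 q10037 (flp_d L191005) q14252, e3 q10038 L191479 q14323, e3 q10039 (flp_d L159569) q6224, e3 q10040 (flp_d L191497) q14325, e3 q10041 L191517 q14328, e3 q10042 (flp_d L163282) q9747, e3 q10043 (flp_d L159589) q6227, e3 q10044 (flp_d L191557) q14333, e3 q10045 L191571 q14335, e3 q10046 L159607 q6433, e3 q10047 L159611 q6230, trivial⟩ (by decide +kernel)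

theorem ce_d_157 : ∀ r, r < 64 → sm gd (Qf (10048 + r)) = Qf (tab Gen.d (10048 + r)) :=
  edges_tab (sm gd) Qf (tab Gen.d) 10048 [(10048, 14338), (10049, 14340), (10050, 14341), (10051, 6233), (10052, 14345), (10053, 14346), (10054, 14268), (10055, 14269), (10056, 14350), (10057, 6236), (10058, 14354), (10059, 14355), (10060, 10003), (10061, 6447), (10062, 14360), (10063, 6238), (10064, 14364), (10065, 14363), (10066, 6450), (10067, 6241), (10068, 14368), (10069, 12424), (10070, 14370), (10071, 14272), (10072, 14378), (10073, 6243), (10074, 14380), (10075, 14383), (10076, 9767), (10077, 6246), (10078, 14388), (10079, 14390), (10080, 6464), (10081, 6249), (10082, 14393), (10083, 6277), (10084, 6278), (10085, 6279), (10086, 6255), (10087, 11133), (10088, 6287), (10089, 14399), (10090, 6289), (10091, 10125), (10092, 14405), (10093, 10127), (10094, 7101), (10095, 6260), (10096, 6261), (10097, 14410), (10098, 14411), (10099, 6299), (10100, 12886), (10101, 6301), (10102, 6304), (10103, 6305), (10104, 6306), (10105, 6267),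 (10106, 11202), (10107, 6314), (10108, 14421), (10109, 6316), (10110, 10158), (10111, 14427)]
    ⟨e3 q10048 (flp_d L191601) q14338, e3 q10049 L191610 q14340, e3 q10050 L191618 q14341, e3 q10051 (flp_d L159637) q6233, e3 q10052 (flp_d L191646) q14345, e3 q10053 (flp_d L191650) q14346, e3 q10054 (flp_d L191101) q14268, e3 q10055 (flp_d L191113) q14269, e3 q10056 L191678 q14350, e3 q10057 (flp_d L159675) q6236, e3 q10058 (flp_d L191704) q14354, e3 q10059 (flp_d L191710) q14355, e3 q10060 (flp_d L159699) q10003, e3 q10061 L159707 q6447, e3 q10062 L191742 q14360, e3 q10063 (flp_d L159711) q6238, e3 q10064 L191768 q14364, e3 q10065 (flp_d L191764) q14363, e3 q10066 L159731 q6450, e3 q10067 L159737 q6241, e3 q10068 (flp_d L191788) q14368, e3 q10069 (flp_d L177027) q12424, e3 q10070 (flp_d L191794) q14370, e3 q10071 (flp_d L191149) q14272, e3 q10072 L191860 q14378, e3 q10073 (flp_d L159769) q6243, e3 q10074 (flp_d L191878) q14380, e3 q10075 L191898 q14383, e3 q10076 L163447 q9767, e3 q10077 (flp_d L159789) q6246, e3 q10078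 (flp_d L191938) q14388, e3 q10079 L191952 q14390, e3 q10080 L159807 q6464, e3 q10081 L159811 q6249, e3 q10082 (flp_d L191982) q14393, e3 q10083 L159827 q6277, e3 q10084 L159837 q6278, e3 q10085 L159851 q6279, e3 q10086 L159861 q6255, e3 q10087 (flp_d L168032) q11133, e3 q10088 L159871 q6287, e3 q10089 L192019 q14399, e3 q10090 L159881 q6289, e3 q10091 (flp_d L160124) q10125, e3 q10092 L192059 q14405, e3 q10093 (flp_d L160140) q10127, e3 q10094 L159902 q7101, e3 q10095 L159908 q6260, e3 q10096 L159915 q6261, e3 q10097 (flp_d L192091) q14410, e3 q10098 (flp_d L192097) q14411, e3 q10099 L159934 q6299, e3 q10100 L180667 q12886, e3 q10101 L159946 q6301, e3 q10102 L159954 q6304, e3 q10103 L159966 q6305, e3 q10104 L159978 q6306, e3 q10105 L159990 q6267, e3 q10106 (flp_d L168446) q11202, e3 q10107 L160000 q6314, e3 q10108 L192165 q14421, e3 q10109 L160010 q6316, e3 q10110 (flp_d L160354) q10158, e3 q10111 L192205 q14427, trivial⟩ (by decide +kernel)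

theorem ce_d_158 : ∀ r, r < 64 → sm gd (Qf (10112 + r)) = Qf (tab Gen.d (10112 + r)) :=
  edges_tab (sm gd) Qf (tab Gen.d) 10112 [(10112, 10160), (10113, 7141), (10114, 6272), (10115, 6273), (10116, 14432), (10117, 14433), (10118, 6326), (10119, 12874), (10120, 6328), (10121, 6470), (10122, 6281), (10123, 6282), (10124, 14439), (10125, 10091), (10126, 14445), (10127, 10093), (10128, 6473), (10129, 6286), (10130, 14449), (10131, 9590), (10132, 14451), (10133, 12866), (10134, 14455), (10135, 6292), (10136, 6291), (10137, 14459), (10138, 14457), (10139, 14251), (10140, 6489), (10141, 6490), (10142, 6296), (10143, 14470), (10144, 6297), (10145, 6298), (10146, 14468), (10147, 14472), (10148, 14473), (10149, 8372), (10150, 14475), (10151, 8665), (10152, 8667), (10153, 14416), (10154, 6504), (10155, 6308), (10156, 6309), (10157, 14488), (10158, 10110), (10159, 14494), (10160, 10112), (10161, 6507), (10162, 6313), (10163, 14498), (10164, 9628), (10165, 14500), (10166, 12865), (10167, 14504), (10168, 6319), (10169, 6318),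 (10170, 14508), (10171, 14506), (10172, 14271), (10173, 6522), (10174, 6523), (10175, 6323)]
    ⟨e3 q10112 (flp_d L160370) q10160, e3 q10113 L160031 q7141, e3 q10114 L160037 q6272, e3 q10115 L160046 q6273, e3 q10116 (flp_d L192237) q14432, e3 q10117 (flp_d L192243) q14433, e3 q10118 L160064 q6326, e3 q10119 L180599 q12874, e3 q10120 L160076 q6328, e3 q10121 L160090 q6470, e3 q10122 L160100 q6281, e3 q10123 L160110 q6282, e3 q10124 (flp_d L192287) q14439, e3 q10125 L160124 q10091, e3 q10126 L192325 q14445, e3 q10127 L160140 q10093, e3 q10128 L160148 q6473, e3 q10129 L160156 q6286, e3 q10130 (flp_d L192353) q14449, e3 q10131 (flp_d L160176) q9590, e3 q10132 (flp_d L192361) q14451, e3 q10133 (flp_d L180553) q12866, e3 q10134 L192393 q14455, e3 q10135 L160208 q6292, e3 q10136 (flp_d L160210) q6291, e3 q10137 (flp_d L192423) q14459, e3 q10138 (flp_d L192413) q14457, e3 q10139 (flp_d L190995) q14251, e3 q10140 L160230 q6489, e3 q10141 L160240 q6490, e3 q10142 L160248 q6296, e3 q10143 L192477 q14470, e3 q10144 L160258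 q6297, e3 q10145 L160262 q6298, e3 q10146 (flp_d L192469) q14468, e3 q10147 (flp_d L192487) q14472, e3 q10148 (flp_d L192493) q14473, e3 q10149 (flp_d L163679) q8372, e3 q10150 (flp_d L192499) q14475, e3 q10151 (flp_d L163677) q8665, e3 q10152 L163612 q8667, e3 q10153 (flp_d L192131) q14416, e3 q10154 L160320 q6504, e3 q10155 L160330 q6308, e3 q10156 L160338 q6309, e3 q10157 (flp_d L192597) q14488, e3 q10158 L160354 q10110, e3 q10159 L192635 q14494, e3 q10160 L160370 q10112, e3 q10161 L160378 q6507, e3 q10162 L160386 q6313, e3 q10163 (flp_d L192663) q14498, e3 q10164 (flp_d L160406) q9628, e3 q10165 (flp_d L192671) q14500, e3 q10166 (flp_d L180539) q12865, e3 q10167 L192703 q14504, e3 q10168 L160438 q6319, e3 q10169 (flp_d L160440) q6318, e3 q10170 (flp_d L192733) q14508, e3 q10171 (flp_d L192723) q14506, e3 q10172 (flp_d L191139) q14271, e3 q10173 L160460 q6522, e3 q10174 L160470 q6523, e3 q10175 L160478 q6323, trivial⟩ (by decide +kernel)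

theorem ce_d_159 : ∀ r, r < 64 → sm gd (Qf (10176 + r)) = Qf (tab Gen.d (10176 + r)) :=
  edges_tab (sm gd) Qf (tab Gen.d) 10176 [(10176, 14519), (10177, 6324), (10178, 6325), (10179, 14517), (10180, 14521), (10181, 14522), (10182, 8364), (10183, 14524), (10184, 8649), (10185, 8651), (10186, 14438), (10187, 6329), (10188, 14537), (10189, 14540), (10190, 6537), (10191, 6331), (10192, 6332), (10193, 14458), (10194, 14546), (10195, 6333), (10196, 14551), (10197, 14549), (10198, 14550), (10199, 6544), (10200, 6545), (10201, 6337), (10202, 6339), (10203, 14558), (10204, 11609), (10205, 11613), (10206, 14559), (10207, 11606), (10208, 11608), (10209, 11612), (10210, 6565), (10211, 14569), (10212, 6567), (10213, 6346), (10214, 14576), (10215, 6347), (10216, 6344), (10217, 14580), (10218, 6348), (10219, 14573), (10220, 14574), (10221, 14583), (10222, 6349), (10223, 14588), (10224, 14591), (10225, 6576), (10226, 6351), (10227, 6352), (10228, 14597), (10229, 14507), (10230, 6353), (10231, 14602), (10232, 14601), (10233, 14600),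 (10234, 6583), (10235, 6584), (10236, 6358), (10237, 6359), (10238, 11660), (10239, 11664)]
    ⟨e3 q10176 L192791 q14519, e3 q10177 L160488 q6324, e3 q10178 L160492 q6325, e3 q10179 (flp_d L192783) q14517, e3 q10180 (flp_d L192801) q14521, e3 q10181 (flp_d L192807) q14522, e3 q10182 (flp_d L163836) q8364, e3 q10183 (flp_d L192821) q14524, e3 q10184 (flp_d L163834) q8649, e3 q10185 L163768 q8651, e3 q10186 (flp_d L192277) q14438, e3 q10187 (flp_d L160544) q6329, e3 q10188 (flp_d L192923) q14537, e3 q10189 L192941 q14540, e3 q10190 L160570 q6537, e3 q10191 L160576 q6331, e3 q10192 L160582 q6332, e3 q10193 (flp_d L192417) q14458, e3 q10194 (flp_d L192983) q14546, e3 q10195 (flp_d L160594) q6333, e3 q10196 L193013 q14551, e3 q10197 (flp_d L193023) q14549, e3 q10198 (flp_d L193011) q14550, e3 q10199 L160610 q6544, e3 q10200 L160616 q6545, e3 q10201 L160622 q6337, e3 q10202 L160630 q6339, e3 q10203 (flp_d L193069) q14558, e3 q10204 (flp_d L171039) q11609, e3 q10205 (flp_d L171067) q11613, e3 q10206 (flp_d L193073) q14559,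 e3 q10207 (flp_d L171021) q11606, e3 q10208 (flp_d L171033) q11608, e3 q10209 (flp_d L171059) q11612, e3 q10210 L160676 q6565, e3 q10211 L193121 q14569, e3 q10212 L160686 q6567, e3 q10213 L160694 q6346, e3 q10214 L193155 q14576, e3 q10215 L160704 q6347, e3 q10216 (flp_d L160708) q6344, e3 q10217 (flp_d L193179) q14580, e3 q10218 L160718 q6348, e3 q10219 (flp_d L193145) q14573, e3 q10220 (flp_d L193151) q14574, e3 q10221 (flp_d L193195) q14583, e3 q10222 (flp_d L160740) q6349, e3 q10223 (flp_d L193237) q14588, e3 q10224 L193255 q14591, e3 q10225 L160766 q6576, e3 q10226 L160772 q6351, e3 q10227 L160778 q6352, e3 q10228 (flp_d L193297) q14597, e3 q10229 (flp_d L192727) q14507, e3 q10230 (flp_d L160790) q6353, e3 q10231 L193327 q14602, e3 q10232 (flp_d L193321) q14601, e3 q10233 (flp_d L193337) q14600, e3 q10234 L160806 q6583, e3 q10235 L160812 q6584, e3 q10236 L160818 q6358, e3 q10237 L160826 q6359, e3 q10238 (flp_d L171376) q11660, e3 q10239 (flp_d L171402) q11664, trivial⟩ (by decide +kernel)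

theorem ce_d_160 : ∀ r, r < 64 → sm gd (Qf (10240 + r)) = Qf (tab Gen.d (10240 + r)) :=
  edges_tab (sm gd) Qf (tab Gen.d) 10240 [(10240, 14609), (10241, 14610), (10242, 11658), (10243, 11661), (10244, 11665), (10245, 6604), (10246, 14620), (10247, 6606), (10248, 6366), (10249, 14578), (10250, 6367), (10251, 6364), (10252, 14629), (10253, 6368), (10254, 14624), (10255, 14625), (10256, 14632), (10257, 6369), (10258, 14637), (10259, 11292), (10260, 7944), (10261, 6371), (10262, 6372), (10263, 14643), (10264, 14644), (10265, 6373), (10266, 14650), (10267, 14648), (10268, 14649), (10269, 7946), (10270, 7694), (10271, 6377), (10272, 6378), (10273, 14659), (10274, 14660), (10275, 6379), (10276, 14666), (10277, 11451), (10278, 8002), (10279, 6381), (10280, 6382), (10281, 14672), (10282, 14673), (10283, 6383), (10284, 14679), (10285, 14677), (10286, 14678), (10287, 7858), (10288, 8004), (10289, 6387), (10290, 6388), (10291, 14688), (10292, 14689), (10293, 6389), (10294, 14696), (10295, 6391), (10296, 14698), (10297, 12173),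 (10298, 13521), (10299, 11970), (10300, 13491), (10301, 6406), (10302, 14701), (10303, 14289)]
    ⟨e3 q10240 (flp_d L193385) q14609, e3 q10241 (flp_d L193389) q14610, e3 q10242 (flp_d L171364) q11658, e3 q10243 (flp_d L171382) q11661, e3 q10244 (flp_d L171410) q11665, e3 q10245 L160872 q6604, e3 q10246 L193437 q14620, e3 q10247 L160882 q6606, e3 q10248 L160890 q6366, e3 q10249 (flp_d L193173) q14578, e3 q10250 L160900 q6367, e3 q10251 (flp_d L160904) q6364, e3 q10252 (flp_d L193483) q14629, e3 q10253 L160914 q6368, e3 q10254 (flp_d L193461) q14624, e3 q10255 (flp_d L193465) q14625, e3 q10256 (flp_d L193499) q14632, e3 q10257 (flp_d L160936) q6369, e3 q10258 (flp_d L193541) q14637, e3 q10259 (flp_d L169033) q11292, e3 q10260 L160962 q7944, e3 q10261 L160968 q6371, e3 q10262 L160974 q6372, e3 q10263 (flp_d L193591) q14643, e3 q10264 (flp_d L193601) q14644, e3 q10265 (flp_d L160990) q6373, e3 q10266 L193635 q14650, e3 q10267 (flp_d L193629) q14648, e3 q10268 (flp_d L193633) q14649, e3 q10269 L161010 q7946, e3 q10270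 L161018 q7694, e3 q10271 L161026 q6377, e3 q10272 L161034 q6378, e3 q10273 (flp_d L193703) q14659, e3 q10274 (flp_d L193709) q14660, e3 q10275 (flp_d L161050) q6379, e3 q10276 (flp_d L193753) q14666, e3 q10277 (flp_d L170038) q11451, e3 q10278 L161076 q8002, e3 q10279 L161082 q6381, e3 q10280 L161088 q6382, e3 q10281 (flp_d L193803) q14672, e3 q10282 (flp_d L193807) q14673, e3 q10283 (flp_d L161104) q6383, e3 q10284 L193851 q14679, e3 q10285 (flp_d L193845) q14677, e3 q10286 (flp_d L193849) q14678, e3 q10287 L161124 q7858, e3 q10288 L161132 q8004, e3 q10289 L161140 q6387, e3 q10290 L161148 q6388, e3 q10291 (flp_d L193919) q14688, e3 q10292 (flp_d L193925) q14689, e3 q10293 (flp_d L161164) q6389, e3 q10294 (flp_d L193977) q14696, e3 q10295 (flp_d L161178) q6391, e3 q10296 (flp_d L193995) q14698, e3 q10297 (flp_d L175086) q12173, e3 q10298 (flp_d L185221) q13521, e3 q10299 (flp_d L173572) q11970, e3 q10300 (flp_d L184951) q13491, e3 q10301 (flp_d L161240) q6406, e3 q10302 (flp_d L194029) q14701, e3 q10303 (flp_d L191259)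 q14289, trivial⟩ (by decide +kernel)

theorem ce_d_161 : ∀ r, r < 64 → sm gd (Qf (10304 + r)) = Qf (tab Gen.d (10304 + r)) :=
  edges_tab (sm gd) Qf (tab Gen.d) 10304 [(10304, 6409), (10305, 12759), (10306, 14704), (10307, 9901), (10308, 6412), (10309, 14706), (10310, 7481), (10311, 14298), (10312, 6415), (10313, 12809), (10314, 10860), (10315, 14312), (10316, 6421), (10317, 8561), (10318, 8175), (10319, 12487), (10320, 8173), (10321, 12478), (10322, 7749), (10323, 8104), (10324, 6425), (10325, 6427), (10326, 14713), (10327, 6459), (10328, 6428), (10329, 9719), (10330, 9721), (10331, 9716), (10332, 6431), (10333, 12377), (10334, 11756), (10335, 14337), (10336, 6435), (10337, 14718), (10338, 6437), (10339, 14720), (10340, 14344), (10341, 6439), (10342, 14723), (10343, 9918), (10344, 12784), (10345, 6443), (10346, 14725), (10347, 7490), (10348, 14353), (10349, 6445), (10350, 12813), (10351, 10865), (10352, 14367), (10353, 6452), (10354, 8570), (10355, 8140), (10356, 12451), (10357, 8138), (10358, 12442), (10359, 7909),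 (10360, 8060), (10361, 6456), (10362, 6458), (10363, 14732), (10364, 9727), (10365, 9724), (10366, 9729), (10367, 6462)]
    ⟨e3 q10304 L161274 q6409, e3 q10305 (flp_d L179661) q12759, e3 q10306 (flp_d L194051) q14704, e3 q10307 L161292 q9901, e3 q10308 (flp_d L161296) q6412, e3 q10309 (flp_d L194067) q14706, e3 q10310 (flp_d L161312) q7481, e3 q10311 (flp_d L191315) q14298, e3 q10312 L161326 q6415, e3 q10313 (flp_d L180095) q12809, e3 q10314 (flp_d L166234) q10860, e3 q10315 (flp_d L191401) q14312, e3 q10316 L161350 q6421, e3 q10317 (flp_d L161374) q8561, e3 q10318 L163419 q8175, e3 q10319 (flp_d L177489) q12487, e3 q10320 L163421 q8173, e3 q10321 (flp_d L177435) q12478, e3 q10322 (flp_d L163961) q7749, e3 q10323 L163501 q8104, e3 q10324 (flp_d L161404) q6425, e3 q10325 L161420 q6427, e3 q10326 (flp_d L194125) q14713, e3 q10327 L163194 q6459, e3 q10328 (flp_d L161434) q6428, e3 q10329 (flp_d L163276) q9719, e3 q10330 (flp_d L163278) q9721, e3 q10331 (flp_d L163280) q9716, e3 q10332 L161458 q6431, e3 q10333 (flp_d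 L176584) q12377, e3 q10334 (flp_d L172047) q11756, e3 q10335 (flp_d L191593) q14337, e3 q10336 L161484 q6435, e3 q10337 (flp_d L194177) q14718, e3 q10338 (flp_d L161491) q6437, e3 q10339 (flp_d L194191) q14720, e3 q10340 (flp_d L191642) q14344, e3 q10341 L161525 q6439, e3 q10342 (flp_d L194213) q14723, e3 q10343 L161535 q9918, e3 q10344 (flp_d L179879) q12784, e3 q10345 (flp_d L161547) q6443, e3 q10346 (flp_d L194229) q14725, e3 q10347 (flp_d L161563) q7490, e3 q10348 (flp_d L191698) q14353, e3 q10349 L161577 q6445, e3 q10350 (flp_d L180127) q12813, e3 q10351 (flp_d L166282) q10865, e3 q10352 (flp_d L191782) q14367, e3 q10353 L161601 q6452, e3 q10354 L161625 q8570, e3 q10355 L163560 q8140, e3 q10356 (flp_d L177214) q12451, e3 q10357 L163562 q8138, e3 q10358 (flp_d L177160) q12442, e3 q10359 (flp_d L163955) q7909, e3 q10360 L163629 q8060, e3 q10361 (flp_d L161655) q6456, e3 q10362 L161671 q6458, e3 q10363 (flp_d L194287) q14732, e3 q10364 (flp_d L163441) q9727, e3 q10365 L163443 q9724, e3 q10366 L163445 q9729, e3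 q10367 L161709 q6462, trivial⟩ (by decide +kernel)

theorem ce_d_162 : ∀ r, r < 64 → sm gd (Qf (10368 + r)) = Qf (tab Gen.d (10368 + r)) :=
  edges_tab (sm gd) Qf (tab Gen.d) 10368 [(10368, 12331), (10369, 11799), (10370, 14392), (10371, 6466), (10372, 14737), (10373, 6472), (10374, 13419), (10375, 14448), (10376, 6475), (10377, 6768), (10378, 6477), (10379, 13262), (10380, 14744), (10381, 6476), (10382, 13256), (10383, 11873), (10384, 7461), (10385, 14746), (10386, 6487), (10387, 6905), (10388, 14465), (10389, 14467), (10390, 6493), (10391, 6495), (10392, 6497), (10393, 12578), (10394, 8960), (10395, 10525), (10396, 14752), (10397, 8983), (10398, 14751), (10399, 14754), (10400, 13314), (10401, 6496), (10402, 14756), (10403, 13313), (10404, 11919), (10405, 6498), (10406, 8062), (10407, 6506), (10408, 13471), (10409, 14497), (10410, 6509), (10411, 6843), (10412, 6511), (10413, 13275), (10414, 14765), (10415, 6510), (10416, 13255), (10417, 12084), (10418, 7463), (10419, 14767), (10420, 6520), (10421, 6908), (10422,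 14514), (10423, 14516), (10424, 6526), (10425, 6528), (10426, 6530), (10427, 12572), (10428, 9026), (10429, 10475), (10430, 14773), (10431, 9048)]
    ⟨e3 q10368 (flp_d L176163) q12331, e3 q10369 (flp_d L172352) q11799, e3 q10370 (flp_d L191974) q14392, e3 q10371 L161735 q6466, e3 q10372 (flp_d L194349) q14737, e3 q10373 L161744 q6472, e3 q10374 (flp_d L184434) q13419, e3 q10375 (flp_d L192347) q14448, e3 q10376 L161762 q6475, e3 q10377 L163750 q6768, e3 q10378 L161770 q6477, e3 q10379 (flp_d L183229) q13262, e3 q10380 (flp_d L194402) q14744, e3 q10381 (flp_d L161786) q6476, e3 q10382 (flp_d L183181) q13256, e3 q10383 L172861 q11873, e3 q10384 L161818 q7461, e3 q10385 L194416 q14746, e3 q10386 L161838 q6487, e3 q10387 L161850 q6905, e3 q10388 (flp_d L192449) q14465, e3 q10389 (flp_d L192463) q14467, e3 q10390 L161872 q6493, e3 q10391 L161880 q6495, e3 q10392 L161884 q6497, e3 q10393 (flp_d L178215) q12578, e3 q10394 L161892 q8960, e3 q10395 L162736 q10525, e3 q10396 L194472 q14752, e3 q10397 L161908 q8983, e3 q10398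 (flp_d L194464) q14751, e3 q10399 L194488 q14754, e3 q10400 (flp_d L183655) q13314, e3 q10401 (flp_d L161928) q6496, e3 q10402 (flp_d L194518) q14756, e3 q10403 (flp_d L183643) q13313, e3 q10404 L173196 q11919, e3 q10405 (flp_d L161948) q6498, e3 q10406 L163610 q8062, e3 q10407 L161974 q6506, e3 q10408 (flp_d L184812) q13471, e3 q10409 (flp_d L192657) q14497, e3 q10410 L161992 q6509, e3 q10411 L163832 q6843, e3 q10412 L162000 q6511, e3 q10413 (flp_d L183311) q13275, e3 q10414 (flp_d L194595) q14765, e3 q10415 (flp_d L162016) q6510, e3 q10416 (flp_d L183173) q13255, e3 q10417 L174368 q12084, e3 q10418 L162048 q7463, e3 q10419 L194609 q14767, e3 q10420 L162068 q6520, e3 q10421 L162082 q6908, e3 q10422 (flp_d L192759) q14514, e3 q10423 (flp_d L192773) q14516, e3 q10424 L162106 q6526, e3 q10425 L162114 q6528, e3 q10426 L162118 q6530, e3 q10427 (flp_d L178157) q12572, e3 q10428 L162126 q9026, e3 q10429 L162414 q10475, e3 q10430 L194665 q14773, e3 q10431 L162140 q9048, trivial⟩ (by decide +kernel)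

theorem ce_d_163 : ∀ r, r < 64 → sm gd (Qf (10432 + r)) = Qf (tab Gen.d (10432 + r)) :=
  edges_tab (sm gd) Qf (tab Gen.d) 10432 [(10432, 14772), (10433, 14775), (10434, 13373), (10435, 6529), (10436, 14777), (10437, 13372), (10438, 12125), (10439, 6531), (10440, 8107), (10441, 9085), (10442, 8358), (10443, 10543), (10444, 14544), (10445, 14545), (10446, 6541), (10447, 8957), (10448, 14003), (10449, 6542), (10450, 14784), (10451, 9916), (10452, 14556), (10453, 11611), (10454, 14557), (10455, 6549), (10456, 6550), (10457, 6551), (10458, 6552), (10459, 9109), (10460, 13303), (10461, 14790), (10462, 13288), (10463, 11607), (10464, 6555), (10465, 12812), (10466, 14795), (10467, 13339), (10468, 11841), (10469, 8443), (10470, 10539), (10471, 10540), (10472, 12640), (10473, 14803), (10474, 12642), (10475, 10429), (10476, 10541), (10477, 10542), (10478, 14567), (10479, 14622), (10480, 6566), (10481, 14571), (10482, 14810), (10483, 6572), (10484, 6610), (10485, 6573), (10486, 13411), (10487, 14811), (10488, 8956), (10489,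 14813), (10490, 13286), (10491, 9138), (10492, 8366), (10493, 10598), (10494, 14595), (10495, 14596)]
    ⟨e3 q10432 (flp_d L194657) q14772, e3 q10433 L194681 q14775, e3 q10434 (flp_d L184097) q13373, e3 q10435 (flp_d L162156) q6529, e3 q10436 (flp_d L194711) q14777, e3 q10437 (flp_d L184085) q13372, e3 q10438 (flp_d L174715) q12125, e3 q10439 (flp_d L162176) q6531, e3 q10440 L163766 q8107, e3 q10441 L162202 q9085, e3 q10442 L162214 q8358, e3 q10443 (flp_d L162871) q10543, e3 q10444 (flp_d L192969) q14544, e3 q10445 (flp_d L192977) q14545, e3 q10446 L162238 q6541, e3 q10447 L162246 q8957, e3 q10448 (flp_d L189095) q14003, e3 q10449 (flp_d L162257) q6542, e3 q10450 (flp_d L194781) q14784, e3 q10451 L162279 q9916, e3 q10452 (flp_d L193051) q14556, e3 q10453 (flp_d L171051) q11611, e3 q10454 (flp_d L193061) q14557, e3 q10455 L162307 q6549, e3 q10456 L162313 q6550, e3 q10457 L162325 q6551, e3 q10458 L162331 q6552, e3 q10459 L183545 q9109, e3 q10460 (flp_d L183565) q13303, e3 q10461 (flp_d L194829) q14790, e3 q10462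 (flp_d L183441) q13288, e3 q10463 (flp_d L171027) q11607, e3 q10464 L162356 q6555, e3 q10465 (flp_d L180119) q12812, e3 q10466 (flp_d L194881) q14795, e3 q10467 (flp_d L183837) q13339, e3 q10468 (flp_d L172624) q11841, e3 q10469 L162374 q8443, e3 q10470 (flp_d L162833) q10539, e3 q10471 (flp_d L162841) q10540, e3 q10472 (flp_d L178761) q12640, e3 q10473 L194959 q14803, e3 q10474 (flp_d L178779) q12642, e3 q10475 (flp_d L162414) q10429, e3 q10476 (flp_d L162851) q10541, e3 q10477 (flp_d L162861) q10542, e3 q10478 (flp_d L193111) q14567, e3 q10479 (flp_d L193449) q14622, e3 q10480 (flp_d L162446) q6566, e3 q10481 (flp_d L193133) q14571, e3 q10482 L195009 q14810, e3 q10483 L162466 q6572, e3 q10484 L162470 q6610, e3 q10485 L162476 q6573, e3 q10486 (flp_d L184380) q13411, e3 q10487 (flp_d L195027) q14811, e3 q10488 (flp_d L162504) q8956, e3 q10489 L195041 q14813, e3 q10490 L183395 q13286, e3 q10491 L162520 q9138, e3 q10492 L162532 q8366, e3 q10493 (flp_d L164218) q10598, e3 q10494 (flp_d L193283) q14595, e3 q10495 (flp_d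 L193291) q14596, trivial⟩ (by decide +kernel)

theorem ce_d_164 : ∀ r, r < 64 → sm gd (Qf (10496 + r)) = Qf (tab Gen.d (10496 + r)) :=
  edges_tab (sm gd) Qf (tab Gen.d) 10496 [(10496, 6579), (10497, 14022), (10498, 9023), (10499, 6581), (10500, 14818), (10501, 9899), (10502, 11662), (10503, 14607), (10504, 14608), (10505, 6588), (10506, 6589), (10507, 6590), (10508, 6591), (10509, 13363), (10510, 14823), (10511, 13348), (10512, 9163), (10513, 11659), (10514, 6594), (10515, 14827), (10516, 12816), (10517, 13385), (10518, 12055), (10519, 8444), (10520, 10594), (10521, 10595), (10522, 12629), (10523, 14835), (10524, 12631), (10525, 10395), (10526, 10596), (10527, 10597), (10528, 14618), (10529, 6605), (10530, 14792), (10531, 6608), (10532, 14791), (10533, 13463), (10534, 9022), (10535, 14841), (10536, 13346), (10537, 7457), (10538, 6612), (10539, 10470), (10540, 10471), (10541, 10476), (10542, 10477), (10543, 10443), (10544, 8452), (10545, 6621), (10546, 14843), (10547, 6624), (10548, 14844), (10549, 6626), (10550,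 6627), (10551, 14846), (10552, 14847), (10553, 6636), (10554, 8885), (10555, 6633), (10556, 6634), (10557, 6635), (10558, 8545), (10559, 12212)]
    ⟨e3 q10496 L162556 q6579, e3 q10497 (flp_d L189217) q14022, e3 q10498 L162571 q9023, e3 q10499 (flp_d L162575) q6581, e3 q10500 (flp_d L195091) q14818, e3 q10501 L162597 q9899, e3 q10502 (flp_d L171386) q11662, e3 q10503 (flp_d L193367) q14607, e3 q10504 (flp_d L193377) q14608, e3 q10505 L162627 q6588, e3 q10506 L162639 q6589, e3 q10507 L162645 q6590, e3 q10508 L162649 q6591, e3 q10509 (flp_d L184019) q13363, e3 q10510 (flp_d L195133) q14823, e3 q10511 (flp_d L183915) q13348, e3 q10512 L175840 q9163, e3 q10513 (flp_d L171370) q11659, e3 q10514 L162674 q6594, e3 q10515 (flp_d L195167) q14827, e3 q10516 (flp_d L180151) q12816, e3 q10517 (flp_d L184167) q13385, e3 q10518 (flp_d L174133) q12055, e3 q10519 L162692 q8444, e3 q10520 (flp_d L164180) q10594, e3 q10521 (flp_d L164188) q10595, e3 q10522 (flp_d L178683) q12629, e3 q10523 L195245 q14835, e3 q10524 (flp_d L178701)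 q12631, e3 q10525 (flp_d L162736) q10395, e3 q10526 (flp_d L164198) q10596, e3 q10527 (flp_d L164208) q10597, e3 q10528 (flp_d L193427) q14618, e3 q10529 (flp_d L162758) q6605, e3 q10530 (flp_d L194855) q14792, e3 q10531 L162768 q6608, e3 q10532 (flp_d L194847) q14791, e3 q10533 (flp_d L184756) q13463, e3 q10534 L162796 q9022, e3 q10535 L195287 q14841, e3 q10536 L183893 q13346, e3 q10537 L162823 q7457, e3 q10538 L162827 q6612, e3 q10539 L162833 q10470, e3 q10540 L162841 q10471, e3 q10541 L162851 q10476, e3 q10542 L162861 q10477, e3 q10543 L162871 q10443, e3 q10544 L162881 q8452, e3 q10545 (flp_d L162905) q6621, e3 q10546 (flp_d L195305) q14843, e3 q10547 L162929 q6624, e3 q10548 L195311 q14844, e3 q10549 L162947 q6626, e3 q10550 L162955 q6627, e3 q10551 (flp_d L195340) q14846, e3 q10552 (flp_d L195350) q14847, e3 q10553 L162977 q6636, e3 q10554 L162989 q8885, e3 q10555 L162997 q6633, e3 q10556 L163005 q6634, e3 q10557 L163017 q6635, e3 q10558 L163023 q8545, e3 q10559 (flp_d L175334) q12212, trivial⟩ (by decide +kernel)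

theorem ce_d_165 : ∀ r, r < 64 → sm gd (Qf (10560 + r)) = Qf (tab Gen.d (10560 + r)) :=
  edges_tab (sm gd) Qf (tab Gen.d) 10560 [(10560, 8543), (10561, 12775), (10562, 8467), (10563, 14853), (10564, 6638), (10565, 14856), (10566, 14858), (10567, 6642), (10568, 14860), (10569, 12711), (10570, 6653), (10571, 6646), (10572, 12357), (10573, 12158), (10574, 12800), (10575, 6647), (10576, 12155), (10577, 8468), (10578, 6649), (10579, 14865), (10580, 14867), (10581, 14862), (10582, 6652), (10583, 14871), (10584, 6658), (10585, 8942), (10586, 6655), (10587, 13426), (10588, 14874), (10589, 12380), (10590, 6699), (10591, 12334), (10592, 7458), (10593, 6660), (10594, 10520), (10595, 10521), (10596, 10526), (10597, 10527), (10598, 10493), (10599, 8463), (10600, 6669), (10601, 14877), (10602, 6672), (10603, 14878), (10604, 6674), (10605, 6675), (10606, 14880), (10607, 14848), (10608, 8887), (10609, 6681), (10610, 6682), (10611, 8517), (10612, 12029), (10613, 8514), (10614, 8456), (10615, 14885), (10616, 6684), (10617, 14888),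 (10618, 6687), (10619, 14891), (10620, 12681), (10621, 6697), (10622, 6691), (10623, 12402)]
    ⟨e3 q10560 L163045 q8543, e3 q10561 (flp_d L179791) q12775, e3 q10562 L163059 q8467, e3 q10563 L195412 q14853, e3 q10564 (flp_d L163077) q6638, e3 q10565 (flp_d L195434) q14856, e3 q10566 L195450 q14858, e3 q10567 L163097 q6642, e3 q10568 L195466 q14860, e3 q10569 (flp_d L179301) q12711, e3 q10570 L163123 q6653, e3 q10571 L164011 q6646, e3 q10572 (flp_d L176422) q12357, e3 q10573 (flp_d L174946) q12158, e3 q10574 (flp_d L180009) q12800, e3 q10575 (flp_d L164035) q6647, e3 q10576 L174926 q12155, e3 q10577 L164059 q8468, e3 q10578 (flp_d L164063) q6649, e3 q10579 (flp_d L195506) q14865, e3 q10580 L195522 q14867, e3 q10581 (flp_d L195482) q14862, e3 q10582 L164087 q6652, e3 q10583 (flp_d L195556) q14871, e3 q10584 L164109 q6658, e3 q10585 (flp_d L164115) q8942, e3 q10586 (flp_d L164117) q6655, e3 q10587 (flp_d L184482) q13426, e3 q10588 (flp_d L195584) q14874, e3 q10589 (flp_d L176618) q12380, e3 q10590 L164147 q6699, e3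 q10591 (flp_d L176197) q12334, e3 q10592 L164168 q7458, e3 q10593 L164174 q6660, e3 q10594 L164180 q10520, e3 q10595 L164188 q10521, e3 q10596 L164198 q10526, e3 q10597 L164208 q10527, e3 q10598 L164218 q10493, e3 q10599 L164228 q8463, e3 q10600 (flp_d L164236) q6669, e3 q10601 (flp_d L195614) q14877, e3 q10602 L164260 q6672, e3 q10603 L195622 q14878, e3 q10604 L164276 q6674, e3 q10605 L164286 q6675, e3 q10606 (flp_d L195647) q14880, e3 q10607 (flp_d L195362) q14848, e3 q10608 L164314 q8887, e3 q10609 L164320 q6681, e3 q10610 L164332 q6682, e3 q10611 L164338 q8517, e3 q10612 (flp_d L173921) q12029, e3 q10613 L164360 q8514, e3 q10614 L164370 q8456, e3 q10615 L195697 q14885, e3 q10616 (flp_d L164388) q6684, e3 q10617 (flp_d L195719) q14888, e3 q10618 L164402 q6687, e3 q10619 L195745 q14891, e3 q10620 (flp_d L179095) q12681, e3 q10621 L164428 q6697, e3 q10622 L164436 q6691, e3 q10623 (flp_d L176835) q12402, trivial⟩ (by decide +kernel)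

theorem ce_d_166 : ∀ r, r < 64 → sm gd (Qf (10624 + r)) = Qf (tab Gen.d (10624 + r)) :=
  edges_tab (sm gd) Qf (tab Gen.d) 10624 [(10624, 11955), (10625, 6692), (10626, 11952), (10627, 8457), (10628, 6694), (10629, 14896), (10630, 14893), (10631, 6696), (10632, 14900), (10633, 6700), (10634, 8926), (10635, 14876), (10636, 13478), (10637, 6702), (10638, 14901), (10639, 6711), (10640, 6714), (10641, 14760), (10642, 6715), (10643, 6722), (10644, 9489), (10645, 6724), (10646, 7642), (10647, 6708), (10648, 8540), (10649, 9268), (10650, 6743), (10651, 10786), (10652, 10785), (10653, 14903), (10654, 6838), (10655, 6719), (10656, 14907), (10657, 14904), (10658, 9238), (10659, 13594), (10660, 14911), (10661, 13551), (10662, 8936), (10663, 11560), (10664, 9350), (10665, 9344), (10666, 13553), (10667, 14824), (10668, 6731), (10669, 6742), (10670, 11958), (10671, 6741), (10672, 6736), (10673, 7732), (10674, 6738), (10675, 7727), (10676, 7569), (10677, 14919), (10678, 6752), (10679, 13585), (10680, 9327), (10681, 9330), (10682,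 13582), (10683, 9877), (10684, 13590), (10685, 13554), (10686, 6748), (10687, 11561)]
    ⟨e3 q10624 (flp_d L173445) q11955, e3 q10625 (flp_d L164450) q6692, e3 q10626 L173433 q11952, e3 q10627 L164472 q8457, e3 q10628 (flp_d L164474) q6694, e3 q10629 L195779 q14896, e3 q10630 (flp_d L195761) q14893, e3 q10631 L164490 q6696, e3 q10632 (flp_d L195813) q14900, e3 q10633 L164512 q6700, e3 q10634 L164516 q8926, e3 q10635 (flp_d L195602) q14876, e3 q10636 (flp_d L184874) q13478, e3 q10637 (flp_d L164534) q6702, e3 q10638 (flp_d L195823) q14901, e3 q10639 L164547 q6711, e3 q10640 L164555 q6714, e3 q10641 (flp_d L194557) q14760, e3 q10642 L164562 q6715, e3 q10643 L164572 q6722, e3 q10644 L164581 q9489, e3 q10645 L164585 q6724, e3 q10646 (flp_d L164603) q7642, e3 q10647 L164609 q6708, e3 q10648 L164619 q8540, e3 q10649 L164631 q9268, e3 q10650 L164641 q6743, e3 q10651 (flp_d L165656) q10786, e3 q10652 (flp_d L165644) q10785, e3 q10653 (flp_d L195838) q14903, e3 q10654 L164667 q6838, e3 q10655 L164675 q6719, e3 q10656 (flp_d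 L195878) q14907, e3 q10657 (flp_d L195846) q14904, e3 q10658 L164697 q9238, e3 q10659 (flp_d L185907) q13594, e3 q10660 L195908 q14911, e3 q10661 (flp_d L185461) q13551, e3 q10662 L164723 q8936, e3 q10663 L170718 q11560, e3 q10664 L164737 q9350, e3 q10665 L164751 q9344, e3 q10666 (flp_d L185485) q13553, e3 q10667 (flp_d L195145) q14824, e3 q10668 (flp_d L164761) q6731, e3 q10669 L164765 q6742, e3 q10670 (flp_d L173473) q11958, e3 q10671 L164781 q6741, e3 q10672 L164789 q6736, e3 q10673 L164799 q7732, e3 q10674 L164809 q6738, e3 q10675 L164821 q7727, e3 q10676 L164831 q7569, e3 q10677 (flp_d L195982) q14919, e3 q10678 L164851 q6752, e3 q10679 (flp_d L185805) q13585, e3 q10680 L164867 q9327, e3 q10681 L164881 q9330, e3 q10682 (flp_d L185779) q13582, e3 q10683 L164899 q9877, e3 q10684 (flp_d L185863) q13590, e3 q10685 (flp_d L185497) q13554, e3 q10686 (flp_d L164919) q6748, e3 q10687 (flp_d L170726) q11561, trivial⟩ (by decide +kernel)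

theorem ce_d_167 : ∀ r, r < 64 → sm gd (Qf (10688 + r)) = Qf (tab Gen.d (10688 + r)) :=
  edges_tab (sm gd) Qf (tab Gen.d) 10688 [(10688, 13282), (10689, 13593), (10690, 14906), (10691, 13592), (10692, 12350), (10693, 9281), (10694, 8465), (10695, 9273), (10696, 14132), (10697, 6761), (10698, 13713), (10699, 12128), (10700, 6770), (10701, 10736), (10702, 6764), (10703, 6791), (10704, 10735), (10705, 13502), (10706, 14931), (10707, 6766), (10708, 14743), (10709, 14935), (10710, 14928), (10711, 6769), (10712, 14739), (10713, 14031), (10714, 8197), (10715, 14941), (10716, 8198), (10717, 6772), (10718, 12343), (10719, 6775), (10720, 9755), (10721, 6776), (10722, 14946), (10723, 12616), (10724, 6778), (10725, 14949), (10726, 6786), (10727, 6790), (10728, 6804), (10729, 9481), (10730, 6805), (10731, 7808), (10732, 6784), (10733, 8511), (10734, 9320), (10735, 10704), (10736, 10701), (10737, 6817), (10738, 14951), (10739, 6794), (10740, 14955), (10741, 13572), (10742, 14958), (10743, 13564), (10744, 8920), (10745, 11401),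 (10746, 9309), (10747, 9303), (10748, 13570), (10749, 14789), (10750, 6803), (10751, 14952)]
    ⟨e3 q10688 (flp_d L183361) q13282, e3 q10689 (flp_d L185899) q13593, e3 q10690 (flp_d L195870) q14906, e3 q10691 (flp_d L185885) q13592, e3 q10692 (flp_d L176356) q12350, e3 q10693 L164961 q9281, e3 q10694 L164971 q8465, e3 q10695 L164981 q9273, e3 q10696 (flp_d L190093) q14132, e3 q10697 (flp_d L164995) q6761, e3 q10698 (flp_d L186953) q13713, e3 q10699 (flp_d L174747) q12128, e3 q10700 L165011 q6770, e3 q10701 (flp_d L165262) q10736, e3 q10702 (flp_d L165017) q6764, e3 q10703 L165027 q6791, e3 q10704 (flp_d L165252) q10735, e3 q10705 (flp_d L185087) q13502, e3 q10706 L196107 q14931, e3 q10707 (flp_d L165043) q6766, e3 q10708 (flp_d L194392) q14743, e3 q10709 (flp_d L196129) q14935, e3 q10710 (flp_d L196085) q14928, e3 q10711 L165061 q6769, e3 q10712 (flp_d L194364) q14739, e3 q10713 (flp_d L189305) q14031, e3 q10714 L165080 q8197, e3 q10715 L196161 q14941, e3 q10716 L165094 q8198, e3 q10717 (flp_d L165098) q6772, e3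 q10718 (flp_d L176294) q12343, e3 q10719 L165114 q6775, e3 q10720 (flp_d L165120) q9755, e3 q10721 L165128 q6776, e3 q10722 (flp_d L196209) q14946, e3 q10723 L178597 q12616, e3 q10724 (flp_d L165144) q6778, e3 q10725 (flp_d L196230) q14949, e3 q10726 L165157 q6786, e3 q10727 L165173 q6790, e3 q10728 L165179 q6804, e3 q10729 L165188 q9481, e3 q10730 L165196 q6805, e3 q10731 (flp_d L165214) q7808, e3 q10732 L165220 q6784, e3 q10733 L165230 q8511, e3 q10734 L165242 q9320, e3 q10735 L165252 q10704, e3 q10736 L165262 q10701, e3 q10737 L165270 q6817, e3 q10738 (flp_d L196247) q14951, e3 q10739 L165284 q6794, e3 q10740 (flp_d L196287) q14955, e3 q10741 (flp_d L185685) q13572, e3 q10742 L196309 q14958, e3 q10743 (flp_d L185593) q13564, e3 q10744 L165318 q8920, e3 q10745 L169703 q11401, e3 q10746 L165332 q9309, e3 q10747 L165346 q9303, e3 q10748 (flp_d L185665) q13570, e3 q10749 (flp_d L194825) q14789, e3 q10750 (flp_d L165356) q6803, e3 q10751 (flp_d L196255) q14952, trivial⟩ (by decide +kernel)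

theorem ce_d_168 : ∀ r, r < 64 → sm gd (Qf (10752 + r)) = Qf (tab Gen.d (10752 + r)) :=
  edges_tab (sm gd) Qf (tab Gen.d) 10752 [(10752, 9202), (10753, 6816), (10754, 12161), (10755, 6815), (10756, 6810), (10757, 7894), (10758, 6812), (10759, 7889), (10760, 7614), (10761, 14967), (10762, 6826), (10763, 13559), (10764, 9279), (10765, 9283), (10766, 13555), (10767, 9824), (10768, 13567), (10769, 13568), (10770, 6822), (10771, 11402), (10772, 13269), (10773, 13573), (10774, 14954), (10775, 13571), (10776, 12396), (10777, 9290), (10778, 8454), (10779, 9321), (10780, 14081), (10781, 6835), (10782, 11922), (10783, 13717), (10784, 6844), (10785, 10652), (10786, 10651), (10787, 13526), (10788, 14979), (10789, 6840), (10790, 14983), (10791, 14764), (10792, 14976), (10793, 6842), (10794, 14088), (10795, 8167), (10796, 14989), (10797, 8169), (10798, 6846), (10799, 12389), (10800, 6849), (10801, 9735), (10802, 6850), (10803, 14994), (10804, 12610), (10805, 11849), (10806, 6853), (10807, 14998), (10808, 6856), (10809, 14999),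 (10810, 7537), (10811, 11840), (10812, 6861), (10813, 6862), (10814, 15003), (10815, 9456)]
    ⟨e3 q10752 L165366 q9202, e3 q10753 L165374 q6816, e3 q10754 (flp_d L174980) q12161, e3 q10755 L165390 q6815, e3 q10756 L165398 q6810, e3 q10757 L165412 q7894, e3 q10758 L165422 q6812, e3 q10759 L165434 q7889, e3 q10760 L165444 q7614, e3 q10761 (flp_d L196395) q14967, e3 q10762 L165464 q6826, e3 q10763 (flp_d L185543) q13559, e3 q10764 L165480 q9279, e3 q10765 L165494 q9283, e3 q10766 (flp_d L185511) q13555, e3 q10767 L165514 q9824, e3 q10768 (flp_d L185623) q13567, e3 q10769 (flp_d L185647) q13568, e3 q10770 (flp_d L165540) q6822, e3 q10771 (flp_d L169711) q11402, e3 q10772 (flp_d L183279) q13269, e3 q10773 (flp_d L185693) q13573, e3 q10774 (flp_d L196279) q14954, e3 q10775 (flp_d L185673) q13571, e3 q10776 (flp_d L176779) q12396, e3 q10777 L165582 q9290, e3 q10778 L165592 q8454, e3 q10779 L165602 q9321, e3 q10780 (flp_d L189665) q14081, e3 q10781 (flp_d L165616) q6835, e3 q10782 (flp_d L173228) q11922, e3 q10783 (flp_d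 L186989) q13717, e3 q10784 L165638 q6844, e3 q10785 L165644 q10652, e3 q10786 L165656 q10651, e3 q10787 (flp_d L185289) q13526, e3 q10788 L196524 q14979, e3 q10789 (flp_d L165672) q6840, e3 q10790 (flp_d L196550) q14983, e3 q10791 (flp_d L194585) q14764, e3 q10792 (flp_d L196498) q14976, e3 q10793 L165696 q6842, e3 q10794 (flp_d L189737) q14088, e3 q10795 L165710 q8167, e3 q10796 L196580 q14989, e3 q10797 L165724 q8169, e3 q10798 (flp_d L165730) q6846, e3 q10799 (flp_d L176715) q12389, e3 q10800 L165746 q6849, e3 q10801 (flp_d L165754) q9735, e3 q10802 L165762 q6850, e3 q10803 (flp_d L196634) q14994, e3 q10804 L178551 q12610, e3 q10805 (flp_d L172685) q11849, e3 q10806 L165792 q6853, e3 q10807 (flp_d L196665) q14998, e3 q10808 L165810 q6856, e3 q10809 (flp_d L196673) q14999, e3 q10810 L165820 q7537, e3 q10811 (flp_d L172614) q11840, e3 q10812 L165832 q6861, e3 q10813 L165842 q6862, e3 q10814 (flp_d L196703) q15003, e3 q10815 L165853 q9456, trivial⟩ (by decide +kernel)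

theorem ce_d_169 : ∀ r, r < 64 → sm gd (Qf (10816 + r)) = Qf (tab Gen.d (10816 + r)) :=
  edges_tab (sm gd) Qf (tab Gen.d) 10816 [(10816, 9458), (10817, 9335), (10818, 9240), (10819, 9261), (10820, 9264), (10821, 15009), (10822, 9266), (10823, 9270), (10824, 9823), (10825, 9272), (10826, 12061), (10827, 6874), (10828, 15012), (10829, 6877), (10830, 15013), (10831, 7581), (10832, 12052), (10833, 6882), (10834, 6883), (10835, 15016), (10836, 9461), (10837, 9463), (10838, 9288), (10839, 9204), (10840, 9314), (10841, 9317), (10842, 15021), (10843, 9319), (10844, 9322), (10845, 9876), (10846, 9324), (10847, 15023), (10848, 6894), (10849, 15025), (10850, 15027), (10851, 6897), (10852, 15029), (10853, 10858), (10854, 6904), (10855, 10863), (10856, 6907), (10857, 6903), (10858, 10853), (10859, 7540), (10860, 10314), (10861, 15031), (10862, 6906), (10863, 10855), (10864, 7585), (10865, 10351), (10866, 15032), (10867, 6917), (10868, 15035), (10869, 6910), (10870, 15038), (10871, 6921), (10872, 6922), (10873, 15042), (10874,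 6924), (10875, 6925), (10876, 15047), (10877, 6914), (10878, 15050), (10879, 6929)]
    ⟨e3 q10816 L165865 q9458, e3 q10817 L165871 q9335, e3 q10818 L165879 q9240, e3 q10819 L165891 q9261, e3 q10820 L165897 q9264, e3 q10821 L196751 q15009, e3 q10822 L165907 q9266, e3 q10823 L165913 q9270, e3 q10824 (flp_d L165933) q9823, e3 q10825 L165943 q9272, e3 q10826 (flp_d L174178) q12061, e3 q10827 L165961 q6874, e3 q10828 (flp_d L196777) q15012, e3 q10829 L165981 q6877, e3 q10830 (flp_d L196787) q15013, e3 q10831 L165991 q7581, e3 q10832 (flp_d L174104) q12052, e3 q10833 L166005 q6882, e3 q10834 L166025 q6883, e3 q10835 (flp_d L196813) q15016, e3 q10836 L166036 q9461, e3 q10837 L166048 q9463, e3 q10838 L166054 q9288, e3 q10839 L166062 q9204, e3 q10840 L166076 q9314, e3 q10841 L166082 q9317, e3 q10842 L196853 q15021, e3 q10843 L166092 q9319, e3 q10844 L166098 q9322, e3 q10845 (flp_d L166118) q9876, e3 q10846 L166128 q9324, e3 q10847 L196867 q15023, e3 q10848 (flp_d L166142) q6894, e3 q10849 (flp_d L196881) q15025, e3 q10850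 L196893 q15027, e3 q10851 (flp_d L166158) q6897, e3 q10852 (flp_d L196907) q15029, e3 q10853 (flp_d L166213) q10858, e3 q10854 L166175 q6904, e3 q10855 (flp_d L166261) q10863, e3 q10856 L166191 q6907, e3 q10857 (flp_d L166198) q6903, e3 q10858 L166213 q10853, e3 q10859 L166222 q7540, e3 q10860 L166234 q10314, e3 q10861 L196919 q15031, e3 q10862 (flp_d L166246) q6906, e3 q10863 L166261 q10855, e3 q10864 L166270 q7585, e3 q10865 L166282 q10351, e3 q10866 L196923 q15032, e3 q10867 L166296 q6917, e3 q10868 L196939 q15035, e3 q10869 (flp_d L166312) q6910, e3 q10870 (flp_d L196969) q15038, e3 q10871 L166322 q6921, e3 q10872 L166328 q6922, e3 q10873 L196983 q15042, e3 q10874 L166340 q6924, e3 q10875 L166346 q6925, e3 q10876 L197017 q15047, e3 q10877 (flp_d L166362) q6914, e3 q10878 (flp_d L197047) q15050, e3 q10879 L166372 q6929, trivial⟩ (by decide +kernel)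

theorem ce_d_170 : ∀ r, r < 64 → sm gd (Qf (10880 + r)) = Qf (tab Gen.d (10880 + r)) :=
  edges_tab (sm gd) Qf (tab Gen.d) 10880 [(10880, 6930), (10881, 15054), (10882, 6932), (10883, 6918), (10884, 6920), (10885, 15057), (10886, 15058), (10887, 6923), (10888, 15061), (10889, 15044), (10890, 6926), (10891, 6928), (10892, 15062), (10893, 15063), (10894, 6931), (10895, 15066), (10896, 15056), (10897, 6933), (10898, 6935), (10899, 6936), (10900, 6939), (10901, 6940), (10902, 6941), (10903, 6942), (10904, 15070), (10905, 15068), (10906, 15073), (10907, 15069), (10908, 6945), (10909, 6991), (10910, 6947), (10911, 6948), (10912, 6996), (10913, 6950), (10914, 15078), (10915, 15076), (10916, 6946), (10917, 15081), (10918, 15083), (10919, 15077), (10920, 6949), (10921, 15086), (10922, 6963), (10923, 6964), (10924, 6952), (10925, 15089), (10926, 6968), (10927, 10943), (10928, 14223), (10929, 6955), (10930, 15093), (10931, 15094), (10932, 6974), (10933, 6975), (10934, 6958), (10935, 15099), (10936, 6979), (10937, 10955),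 (10938, 14229), (10939, 6961), (10940, 15103), (10941, 15104), (10942, 12596), (10943, 10927)]
    ⟨e3 q10880 L166378 q6930, e3 q10881 L197061 q15054, e3 q10882 L166390 q6932, e3 q10883 (flp_d L166394) q6918, e3 q10884 L166404 q6920, e3 q10885 L197083 q15057, e3 q10886 L197087 q15058, e3 q10887 (flp_d L166420) q6923, e3 q10888 (flp_d L197103) q15061, e3 q10889 (flp_d L196999) q15044, e3 q10890 (flp_d L166440) q6926, e3 q10891 L166450 q6928, e3 q10892 L197105 q15062, e3 q10893 L197109 q15063, e3 q10894 (flp_d L166466) q6931, e3 q10895 (flp_d L197125) q15066, e3 q10896 (flp_d L197077) q15056, e3 q10897 (flp_d L166486) q6933, e3 q10898 L166499 q6935, e3 q10899 L166508 q6936, e3 q10900 L166514 q6939, e3 q10901 L166522 q6940, e3 q10902 L166529 q6941, e3 q10903 L166539 q6942, e3 q10904 L197147 q15070, e3 q10905 (flp_d L197137) q15068, e3 q10906 L197159 q15073, e3 q10907 (flp_d L197143) q15069, e3 q10908 L166560 q6945, e3 q10909 (flp_d L166575) q6991, e3 q10910 L166592 q6947, e3 q10911 L166599 q6948, e3 q10912 (flp_d L166621)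 q6996, e3 q10913 L166610 q6950, e3 q10914 L197193 q15078, e3 q10915 (flp_d L197177) q15076, e3 q10916 (flp_d L166648) q6946, e3 q10917 (flp_d L197216) q15081, e3 q10918 L197226 q15083, e3 q10919 (flp_d L197188) q15077, e3 q10920 (flp_d L166668) q6949, e3 q10921 (flp_d L197249) q15086, e3 q10922 L166684 q6963, e3 q10923 L166694 q6964, e3 q10924 (flp_d L166698) q6952, e3 q10925 (flp_d L197275) q15089, e3 q10926 L166714 q6968, e3 q10927 L166814 q10943, e3 q10928 (flp_d L190801) q14223, e3 q10929 L166728 q6955, e3 q10930 (flp_d L197293) q15093, e3 q10931 (flp_d L197299) q15094, e3 q10932 L166742 q6974, e3 q10933 L166752 q6975, e3 q10934 (flp_d L166760) q6958, e3 q10935 (flp_d L197325) q15099, e3 q10936 L166776 q6979, e3 q10937 L166897 q10955, e3 q10938 (flp_d L190837) q14229, e3 q10939 L166790 q6961, e3 q10940 (flp_d L197343) q15103, e3 q10941 (flp_d L197349) q15104, e3 q10942 (flp_d L178407) q12596, e3 q10943 (flp_d L166814) q10927, trivial⟩ (by decide +kernel)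

theorem ce_d_171 : ∀ r, r < 64 → sm gd (Qf (10944 + r)) = Qf (tab Gen.d (10944 + r)) :=
  edges_tab (sm gd) Qf (tab Gen.d) 10944 [(10944, 6967), (10945, 15109), (10946, 15111), (10947, 6969), (10948, 15112), (10949, 7506), (10950, 6972), (10951, 6973), (10952, 15118), (10953, 15119), (10954, 12598), (10955, 10937), (10956, 6978), (10957, 15121), (10958, 15123), (10959, 6980), (10960, 15124), (10961, 7520), (10962, 6983), (10963, 6984), (10964, 15130), (10965, 15131), (10966, 6992), (10967, 6997), (10968, 6990), (10969, 15134), (10970, 15132), (10971, 15138), (10972, 6993), (10973, 6995), (10974, 15141), (10975, 15133), (10976, 15145), (10977, 6998), (10978, 9496), (10979, 9567), (10980, 7031), (10981, 7032), (10982, 7212), (10983, 7005), (10984, 7092), (10985, 15154), (10986, 11108), (10987, 7045), (10988, 15158), (10989, 7007), (10990, 15161), (10991, 9624), (10992, 7049), (10993, 15166), (10994, 7010), (10995, 15170), (10996, 11051), (10997, 14261), (10998, 7013), (10999, 15176), (11000, 15177), (11001, 7058),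 (11002, 9605), (11003, 9512), (11004, 7059), (11005, 7060), (11006, 7312), (11007, 7021)]
    ⟨e3 q10944 L166820 q6967, e3 q10945 (flp_d L197375) q15109, e3 q10946 L197389 q15111, e3 q10947 (flp_d L166838) q6969, e3 q10948 (flp_d L197405) q15112, e3 q10949 L166852 q7506, e3 q10950 L166858 q6972, e3 q10951 L166867 q6973, e3 q10952 (flp_d L197451) q15118, e3 q10953 (flp_d L197457) q15119, e3 q10954 (flp_d L178429) q12598, e3 q10955 (flp_d L166897) q10937, e3 q10956 L166903 q6978, e3 q10957 (flp_d L197475) q15121, e3 q10958 L197489 q15123, e3 q10959 (flp_d L166921) q6980, e3 q10960 (flp_d L197505) q15124, e3 q10961 L166935 q7520, e3 q10962 L166941 q6983, e3 q10963 L166950 q6984, e3 q10964 (flp_d L197551) q15130, e3 q10965 (flp_d L197557) q15131, e3 q10966 L166970 q6992, e3 q10967 L166977 q6997, e3 q10968 (flp_d L166988) q6990, e3 q10969 L197575 q15134, e3 q10970 (flp_d L197563) q15132, e3 q10971 L197609 q15138, e3 q10972 (flp_d L167012) q6993, e3 q10973 (flp_d L167022) q6995, e3 q10974 L197631 q15141, e3 q10975 (flp_d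 L197570) q15133, e3 q10976 L197657 q15145, e3 q10977 (flp_d L167066) q6998, e3 q10978 L167074 q9496, e3 q10979 L167080 q9567, e3 q10980 L167084 q7031, e3 q10981 L167092 q7032, e3 q10982 L167100 q7212, e3 q10983 L167108 q7005, e3 q10984 L167116 q7092, e3 q10985 L197725 q15154, e3 q10986 (flp_d L167888) q11108, e3 q10987 L167138 q7045, e3 q10988 L197749 q15158, e3 q10989 (flp_d L167146) q7007, e3 q10990 (flp_d L197765) q15161, e3 q10991 (flp_d L167156) q9624, e3 q10992 L167162 q7049, e3 q10993 L197787 q15166, e3 q10994 (flp_d L167168) q7010, e3 q10995 (flp_d L197803) q15170, e3 q10996 L167512 q11051, e3 q10997 (flp_d L191061) q14261, e3 q10998 L167186 q7013, e3 q10999 (flp_d L197825) q15176, e3 q11000 (flp_d L197831) q15177, e3 q11001 L167202 q7058, e3 q11002 L167212 q9605, e3 q11003 L167218 q9512, e3 q11004 L167222 q7059, e3 q11005 L167230 q7060, e3 q11006 L167238 q7312, e3 q11007 L167246 q7021, trivial⟩ (by decide +kernel)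

theorem ce_d_172 : ∀ r, r < 64 → sm gd (Qf (11008 + r)) = Qf (tab Gen.d (11008 + r)) :=
  edges_tab (sm gd) Qf (tab Gen.d) 11008 [(11008, 7131), (11009, 15188), (11010, 11179), (11011, 7073), (11012, 15192), (11013, 7023), (11014, 15195), (11015, 9586), (11016, 7077), (11017, 15200), (11018, 7026), (11019, 15204), (11020, 11089), (11021, 14281), (11022, 7029), (11023, 15210), (11024, 15211), (11025, 7086), (11026, 8783), (11027, 8784), (11028, 7035), (11029, 7036), (11030, 13100), (11031, 13099), (11032, 7040), (11033, 15217), (11034, 7541), (11035, 15221), (11036, 7044), (11037, 7043), (11038, 15225), (11039, 15227), (11040, 15156), (11041, 15228), (11042, 7046), (11043, 15234), (11044, 7551), (11045, 7048), (11046, 15238), (11047, 15241), (11048, 7050), (11049, 15245), (11050, 15246), (11051, 10996), (11052, 7560), (11053, 7052), (11054, 15252), (11055, 7053), (11056, 15257), (11057, 15256), (11058, 7564), (11059, 7056), (11060, 7057), (11061, 15264), (11062, 15265), (11063, 12918), (11064, 8820), (11065, 8821),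 (11066, 7063), (11067, 7064), (11068, 13159), (11069, 13158), (11070, 7068), (11071, 15270)]
    ⟨e3 q11008 L167254 q7131, e3 q11009 L197905 q15188, e3 q11010 (flp_d L168326) q11179, e3 q11011 L167276 q7073, e3 q11012 L197929 q15192, e3 q11013 (flp_d L167284) q7023, e3 q11014 (flp_d L197945) q15195, e3 q11015 (flp_d L167294) q9586, e3 q11016 L167300 q7077, e3 q11017 L197967 q15200, e3 q11018 (flp_d L167306) q7026, e3 q11019 (flp_d L197983) q15204, e3 q11020 L167758 q11089, e3 q11021 (flp_d L191205) q14281, e3 q11022 L167324 q7029, e3 q11023 (flp_d L198005) q15210, e3 q11024 (flp_d L198011) q15211, e3 q11025 L167340 q7086, e3 q11026 L167352 q8783, e3 q11027 L167361 q8784, e3 q11028 L167371 q7035, e3 q11029 L167383 q7036, e3 q11030 (flp_d L182137) q13100, e3 q11031 (flp_d L182125) q13099, e3 q11032 L167409 q7040, e3 q11033 (flp_d L198051) q15217, e3 q11034 L167423 q7541, e3 q11035 L198080 q15221, e3 q11036 L167433 q7044, e3 q11037 (flp_d L167435) q7043, e3 q11038 (flp_d L198099) q15225, e3 q11039 L198111 q15227, e3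 q11040 (flp_d L197739) q15156, e3 q11041 L198113 q15228, e3 q11042 (flp_d L167464) q7046, e3 q11043 L198151 q15234, e3 q11044 L167478 q7551, e3 q11045 L167482 q7048, e3 q11046 (flp_d L198177) q15238, e3 q11047 L198192 q15241, e3 q11048 (flp_d L167492) q7050, e3 q11049 (flp_d L198226) q15245, e3 q11050 (flp_d L198230) q15246, e3 q11051 (flp_d L167512) q10996, e3 q11052 L167518 q7560, e3 q11053 L167524 q7052, e3 q11054 (flp_d L198274) q15252, e3 q11055 (flp_d L167535) q7053, e3 q11056 L198324 q15257, e3 q11057 (flp_d L198322) q15256, e3 q11058 L167551 q7564, e3 q11059 L167557 q7056, e3 q11060 L167564 q7057, e3 q11061 (flp_d L198368) q15264, e3 q11062 (flp_d L198372) q15265, e3 q11063 (flp_d L180889) q12918, e3 q11064 L167590 q8820, e3 q11065 L167600 q8821, e3 q11066 L167611 q7063, e3 q11067 L167621 q7064, e3 q11068 (flp_d L182499) q13159, e3 q11069 (flp_d L182487) q13158, e3 q11070 L167649 q7068, e3 q11071 (flp_d L198408) q15270, trivial⟩ (by decide +kernel)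

theorem ce_d_173 : ∀ r, r < 64 → sm gd (Qf (11072 + r)) = Qf (tab Gen.d (11072 + r)) :=
  edges_tab (sm gd) Qf (tab Gen.d) 11072 [(11072, 7586), (11073, 15274), (11074, 7072), (11075, 7071), (11076, 15278), (11077, 15280), (11078, 15190), (11079, 15281), (11080, 7074), (11081, 15287), (11082, 7596), (11083, 7076), (11084, 15291), (11085, 15294), (11086, 7078), (11087, 15298), (11088, 15299), (11089, 11020), (11090, 7605), (11091, 7080), (11092, 15305), (11093, 7081), (11094, 15310), (11095, 15309), (11096, 7609), (11097, 7084), (11098, 7085), (11099, 15317), (11100, 15318), (11101, 12903), (11102, 7177), (11103, 7178), (11104, 15324), (11105, 7180), (11106, 7181), (11107, 14638), (11108, 10986), (11109, 15152), (11110, 7094), (11111, 15329), (11112, 15333), (11113, 15327), (11114, 7198), (11115, 15335), (11116, 7200), (11117, 7096), (11118, 15339), (11119, 8591), (11120, 11268), (11121, 11269), (11122, 8702), (11123, 11270), (11124, 14408), (11125, 15351), (11126, 7105), (11127, 7106), (11128, 7104), (11129, 15356),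 (11130, 11131), (11131, 11130), (11132, 15361), (11133, 10087), (11134, 7223), (11135, 15365)]
    ⟨e3 q11072 L167663 q7586, e3 q11073 L198437 q15274, e3 q11074 L167673 q7072, e3 q11075 (flp_d L167675) q7071, e3 q11076 (flp_d L198462) q15278, e3 q11077 L198476 q15280, e3 q11078 (flp_d L197919) q15190, e3 q11079 L198478 q15281, e3 q11080 (flp_d L167710) q7074, e3 q11081 L198516 q15287, e3 q11082 L167724 q7596, e3 q11083 L167728 q7076, e3 q11084 (flp_d L198542) q15291, e3 q11085 L198563 q15294, e3 q11086 (flp_d L167738) q7078, e3 q11087 (flp_d L198597) q15298, e3 q11088 (flp_d L198603) q15299, e3 q11089 (flp_d L167758) q11020, e3 q11090 L167764 q7605, e3 q11091 L167770 q7080, e3 q11092 (flp_d L198645) q15305, e3 q11093 (flp_d L167781) q7081, e3 q11094 L198695 q15310, e3 q11095 (flp_d L198693) q15309, e3 q11096 L167797 q7609, e3 q11097 L167803 q7084, e3 q11098 L167812 q7085, e3 q11099 (flp_d L198745) q15317, e3 q11100 (flp_d L198751) q15318, e3 q11101 (flp_d L180779) q12903, e3 q11102 L167840 q7177, e3 q11103 L167850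 q7178, e3 q11104 L198795 q15324, e3 q11105 L167866 q7180, e3 q11106 L167872 q7181, e3 q11107 (flp_d L193549) q14638, e3 q11108 L167888 q10986, e3 q11109 (flp_d L197709) q15152, e3 q11110 L167900 q7094, e3 q11111 (flp_d L198831) q15329, e3 q11112 L198845 q15333, e3 q11113 (flp_d L198817) q15327, e3 q11114 L167916 q7198, e3 q11115 L198855 q15335, e3 q11116 L167932 q7200, e3 q11117 (flp_d L167938) q7096, e3 q11118 (flp_d L198875) q15339, e3 q11119 L167947 q8591, e3 q11120 (flp_d L168895) q11268, e3 q11121 (flp_d L168903) q11269, e3 q11122 L167965 q8702, e3 q11123 (flp_d L168907) q11270, e3 q11124 (flp_d L192075) q14408, e3 q11125 L198963 q15351, e3 q11126 L167988 q7105, e3 q11127 L167992 q7106, e3 q11128 (flp_d L168011) q7104, e3 q11129 (flp_d L198986) q15356, e3 q11130 L168076 q11131, e3 q11131 (flp_d L168076) q11130, e3 q11132 L199016 q15361, e3 q11133 L168032 q10087, e3 q11134 L168082 q7223, e3 q11135 L199042 q15365, trivial⟩ (by decide +kernel)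

theorem ce_d_174 : ∀ r, r < 64 → sm gd (Qf (11136 + r)) = Qf (tab Gen.d (11136 + r)) :=
  edges_tab (sm gd) Qf (tab Gen.d) 11136 [(11136, 7225), (11137, 7226), (11138, 15369), (11139, 7108), (11140, 11331), (11141, 11234), (11142, 7110), (11143, 15377), (11144, 7233), (11145, 15381), (11146, 7235), (11147, 15384), (11148, 7237), (11149, 7113), (11150, 15388), (11151, 7240), (11152, 7248), (11153, 7249), (11154, 15393), (11155, 7117), (11156, 15398), (11157, 15399), (11158, 11227), (11159, 7119), (11160, 15404), (11161, 15408), (11162, 11377), (11163, 15413), (11164, 11379), (11165, 11210), (11166, 7124), (11167, 7125), (11168, 15420), (11169, 15421), (11170, 7266), (11171, 15426), (11172, 7268), (11173, 7279), (11174, 15429), (11175, 7281), (11176, 7282), (11177, 14667), (11178, 15186), (11179, 11010), (11180, 7134), (11181, 15434), (11182, 15438), (11183, 15433), (11184, 7299), (11185, 15440), (11186, 7136), (11187, 15443), (11188, 8592), (11189, 11429), (11190, 11428), (11191, 8746), (11192, 11430), (11193, 14430),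 (11194, 15455), (11195, 7145), (11196, 7146), (11197, 7144), (11198, 15460), (11199, 11200)]
    ⟨e3 q11136 L168094 q7225, e3 q11137 L168102 q7226, e3 q11138 L199060 q15369, e3 q11139 (flp_d L168108) q7108, e3 q11140 L169289 q11331, e3 q11141 (flp_d L168651) q11234, e3 q11142 L168124 q7110, e3 q11143 (flp_d L199098) q15377, e3 q11144 L168130 q7233, e3 q11145 L199114 q15381, e3 q11146 L168142 q7235, e3 q11147 L199126 q15384, e3 q11148 L168154 q7237, e3 q11149 (flp_d L168162) q7113, e3 q11150 (flp_d L199146) q15388, e3 q11151 L168172 q7240, e3 q11152 L168178 q7248, e3 q11153 L168190 q7249, e3 q11154 L199169 q15393, e3 q11155 (flp_d L168200) q7117, e3 q11156 (flp_d L199189) q15398, e3 q11157 (flp_d L199193) q15399, e3 q11158 (flp_d L168620) q11227, e3 q11159 L168216 q7119, e3 q11160 (flp_d L199219) q15404, e3 q11161 L199231 q15408, e3 q11162 (flp_d L169563) q11377, e3 q11163 L199247 q15413, e3 q11164 (flp_d L169577) q11379, e3 q11165 (flp_d L168510) q11210, e3 q11166 L168241 q7124, e3 q11167 L168248 q7125, e3 q11168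 (flp_d L199285) q15420, e3 q11169 (flp_d L199289) q15421, e3 q11170 L168260 q7266, e3 q11171 L199329 q15426, e3 q11172 L168270 q7268, e3 q11173 L168278 q7279, e3 q11174 L199353 q15429, e3 q11175 L168294 q7281, e3 q11176 L168304 q7282, e3 q11177 (flp_d L193761) q14667, e3 q11178 (flp_d L197889) q15186, e3 q11179 L168326 q11010, e3 q11180 L168334 q7134, e3 q11181 (flp_d L199393) q15434, e3 q11182 L199407 q15438, e3 q11183 (flp_d L199383) q15433, e3 q11184 L168350 q7299, e3 q11185 L199417 q15440, e3 q11186 (flp_d L168362) q7136, e3 q11187 (flp_d L199427) q15443, e3 q11188 L168371 q8592, e3 q11189 (flp_d L169904) q11429, e3 q11190 (flp_d L169896) q11428, e3 q11191 L168389 q8746, e3 q11192 (flp_d L169912) q11430, e3 q11193 (flp_d L192221) q14430, e3 q11194 L199517 q15455, e3 q11195 L168407 q7145, e3 q11196 L168411 q7146, e3 q11197 (flp_d L168417) q7144, e3 q11198 (flp_d L199548) q15460, e3 q11199 (flp_d L168458) q11200, trivial⟩ (by decide +kernel)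

theorem ce_d_175 : ∀ r, r < 64 → sm gd (Qf (11200 + r)) = Qf (tab Gen.d (11200 + r)) :=
  edges_tab (sm gd) Qf (tab Gen.d) 11200 [(11200, 11199), (11201, 15465), (11202, 10106), (11203, 7323), (11204, 15469), (11205, 7325), (11206, 7326), (11207, 15473), (11208, 7148), (11209, 11490), (11210, 11165), (11211, 7150), (11212, 15481), (11213, 7333), (11214, 15485), (11215, 7335), (11216, 15488), (11217, 7337), (11218, 7153), (11219, 15492), (11220, 7340), (11221, 7348), (11222, 7349), (11223, 15497), (11224, 7157), (11225, 15502), (11226, 15503), (11227, 11158), (11228, 7159), (11229, 15508), (11230, 15512), (11231, 11536), (11232, 15516), (11233, 11538), (11234, 11141), (11235, 7164), (11236, 7165), (11237, 15523), (11238, 15524), (11239, 7366), (11240, 15529), (11241, 7368), (11242, 15531), (11243, 7170), (11244, 15532), (11245, 15533), (11246, 7619), (11247, 7174), (11248, 7175), (11249, 7176), (11250, 15538), (11251, 15539), (11252, 15549), (11253, 15541), (11254, 15542), (11255, 15554), (11256, 15555), (11257,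 7179), (11258, 15558), (11259, 15560), (11260, 12645), (11261, 7643), (11262, 7187), (11263, 7188)]
    ⟨e3 q11200 L168458 q11199, e3 q11201 L199582 q15465, e3 q11202 L168446 q10106, e3 q11203 L168464 q7323, e3 q11204 L199610 q15469, e3 q11205 L168476 q7325, e3 q11206 L168486 q7326, e3 q11207 L199636 q15473, e3 q11208 (flp_d L168496) q7148, e3 q11209 L170288 q11490, e3 q11210 L168510 q11165, e3 q11211 L168514 q7150, e3 q11212 (flp_d L199686) q15481, e3 q11213 L168522 q7333, e3 q11214 L199708 q15485, e3 q11215 L168538 q7335, e3 q11216 L199722 q15488, e3 q11217 L168552 q7337, e3 q11218 (flp_d L168560) q7153, e3 q11219 (flp_d L199742) q15492, e3 q11220 L168570 q7340, e3 q11221 L168582 q7348, e3 q11222 L168592 q7349, e3 q11223 L199771 q15497, e3 q11224 (flp_d L168604) q7157, e3 q11225 (flp_d L199805) q15502, e3 q11226 (flp_d L199809) q15503, e3 q11227 L168620 q11158, e3 q11228 L168626 q7159, e3 q11229 (flp_d L199843) q15508, e3 q11230 L199865 q15512, e3 q11231 (flp_d L170578) q11536, e3 q11232 L199881 q15516, e3 q11233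 (flp_d L170592) q11538, e3 q11234 L168651 q11141, e3 q11235 L168657 q7164, e3 q11236 L168666 q7165, e3 q11237 (flp_d L199929) q15523, e3 q11238 (flp_d L199935) q15524, e3 q11239 L168686 q7366, e3 q11240 L199969 q15529, e3 q11241 L168700 q7368, e3 q11242 L199985 q15531, e3 q11243 L168722 q7170, e3 q11244 (flp_d L199997) q15532, e3 q11245 (flp_d L200007) q15533, e3 q11246 L168746 q7619, e3 q11247 L168754 q7174, e3 q11248 L168762 q7175, e3 q11249 L168770 q7176, e3 q11250 (flp_d L200049) q15538, e3 q11251 (flp_d L200057) q15539, e3 q11252 L200121 q15549, e3 q11253 (flp_d L200065) q15541, e3 q11254 (flp_d L200069) q15542, e3 q11255 L200155 q15554, e3 q11256 L200161 q15555, e3 q11257 (flp_d L168816) q7179, e3 q11258 (flp_d L200183) q15558, e3 q11259 L200189 q15560, e3 q11260 (flp_d L178807) q12645, e3 q11261 L168843 q7643, e3 q11262 L168851 q7187, e3 q11263 L168857 q7188, trivial⟩ (by decide +kernel)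

theorem ce_d_176 : ∀ r, r < 64 → sm gd (Qf (11264 + r)) = Qf (tab Gen.d (11264 + r)) :=
  edges_tab (sm gd) Qf (tab Gen.d) 11264 [(11264, 7189), (11265, 15565), (11266, 15566), (11267, 15571), (11268, 11120), (11269, 11121), (11270, 11123), (11271, 7651), (11272, 7195), (11273, 15577), (11274, 7197), (11275, 15574), (11276, 15582), (11277, 15576), (11278, 7196), (11279, 15586), (11280, 15579), (11281, 15587), (11282, 15588), (11283, 7199), (11284, 15591), (11285, 15594), (11286, 7665), (11287, 7202), (11288, 15598), (11289, 7203), (11290, 15601), (11291, 15602), (11292, 10259), (11293, 8639), (11294, 7206), (11295, 7207), (11296, 8916), (11297, 15606), (11298, 15607), (11299, 15608), (11300, 8700), (11301, 7211), (11302, 15151), (11303, 7678), (11304, 7680), (11305, 7681), (11306, 7218), (11307, 7219), (11308, 7220), (11309, 15624), (11310, 7222), (11311, 15616), (11312, 15628), (11313, 15618), (11314, 15619), (11315, 15620), (11316, 15631), (11317, 13477), (11318, 15623), (11319, 7221), (11320, 15634), (11321,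 15626), (11322, 15638), (11323, 15640), (11324, 7224), (11325, 15645), (11326, 15646), (11327, 15648)]
    ⟨e3 q11264 L168867 q7189, e3 q11265 (flp_d L200231) q15565, e3 q11266 (flp_d L200235) q15566, e3 q11267 L200273 q15571, e3 q11268 L168895 q11120, e3 q11269 L168903 q11121, e3 q11270 L168907 q11123, e3 q11271 L168911 q7651, e3 q11272 L168917 q7195, e3 q11273 L200315 q15577, e3 q11274 L168923 q7197, e3 q11275 (flp_d L200297) q15574, e3 q11276 L200341 q15582, e3 q11277 (flp_d L200307) q15576, e3 q11278 (flp_d L168947) q7196, e3 q11279 (flp_d L200365) q15586, e3 q11280 (flp_d L200325) q15579, e3 q11281 L200367 q15587, e3 q11282 L200371 q15588, e3 q11283 (flp_d L168977) q7199, e3 q11284 (flp_d L200391) q15591, e3 q11285 L200403 q15594, e3 q11286 L168995 q7665, e3 q11287 L168999 q7202, e3 q11288 (flp_d L200425) q15598, e3 q11289 (flp_d L169007) q7203, e3 q11290 (flp_d L200455) q15601, e3 q11291 (flp_d L200465) q15602, e3 q11292 L169033 q10259, e3 q11293 L169039 q8639, e3 q11294 L169045 q7206, e3 q11295 L169053 q7207,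 e3 q11296 L169059 q8916, e3 q11297 (flp_d L200499) q15606, e3 q11298 (flp_d L200507) q15607, e3 q11299 (flp_d L200519) q15608, e3 q11300 L169103 q8700, e3 q11301 L169109 q7211, e3 q11302 (flp_d L197705) q15151, e3 q11303 L169115 q7678, e3 q11304 L169125 q7680, e3 q11305 L169131 q7681, e3 q11306 L169137 q7218, e3 q11307 L169141 q7219, e3 q11308 L169147 q7220, e3 q11309 L200655 q15624, e3 q11310 L169153 q7222, e3 q11311 (flp_d L200593) q15616, e3 q11312 L200687 q15628, e3 q11313 (flp_d L200607) q15618, e3 q11314 (flp_d L200611) q15619, e3 q11315 (flp_d L200619) q15620, e3 q11316 L200713 q15631, e3 q11317 (flp_d L184868) q13477, e3 q11318 (flp_d L200647) q15623, e3 q11319 (flp_d L169209) q7221, e3 q11320 (flp_d L200739) q15634, e3 q11321 (flp_d L200671) q15626, e3 q11322 L200785 q15638, e3 q11323 L200799 q15640, e3 q11324 (flp_d L169241) q7224, e3 q11325 (flp_d L200829) q15645, e3 q11326 (flp_d L200839) q15646, e3 q11327 L200850 q15648, trivial⟩ (by decide +kernel)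

theorem ce_d_177 : ∀ r, r < 64 → sm gd (Qf (11328 + r)) = Qf (tab Gen.d (11328 + r)) :=
  edges_tab (sm gd) Qf (tab Gen.d) 11328 [(11328, 7227), (11329, 15652), (11330, 15653), (11331, 11140), (11332, 7713), (11333, 15658), (11334, 7229), (11335, 15663), (11336, 15416), (11337, 7718), (11338, 7232), (11339, 15667), (11340, 15673), (11341, 15669), (11342, 15676), (11343, 7234), (11344, 15677), (11345, 7236), (11346, 15681), (11347, 15683), (11348, 7729), (11349, 7239), (11350, 15686), (11351, 15687), (11352, 15690), (11353, 7241), (11354, 15693), (11355, 15694), (11356, 15697), (11357, 7244), (11358, 15700), (11359, 15701), (11360, 7740), (11361, 7246), (11362, 7247), (11363, 15706), (11364, 15707), (11365, 15711), (11366, 15712), (11367, 7250), (11368, 15715), (11369, 15716), (11370, 13223), (11371, 7750), (11372, 7252), (11373, 7253), (11374, 15724), (11375, 15725), (11376, 15726), (11377, 11162), (11378, 15732), (11379, 11164), (11380, 7759), (11381, 7257), (11382, 15737), (11383, 15736), (11384, 7258), (11385,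 15742), (11386, 7259), (11387, 15750), (11388, 15748), (11389, 15749), (11390, 15756), (11391, 7262)]
    ⟨e3 q11328 (flp_d L169267) q7227, e3 q11329 (flp_d L200876) q15652, e3 q11330 (flp_d L200880) q15653, e3 q11331 (flp_d L169289) q11140, e3 q11332 L169297 q7713, e3 q11333 L200906 q15658, e3 q11334 (flp_d L169301) q7229, e3 q11335 L200930 q15663, e3 q11336 (flp_d L199263) q15416, e3 q11337 L169321 q7718, e3 q11338 L169327 q7232, e3 q11339 (flp_d L200950) q15667, e3 q11340 L200986 q15673, e3 q11341 (flp_d L200956) q15669, e3 q11342 L201018 q15676, e3 q11343 (flp_d L169353) q7234, e3 q11344 (flp_d L201032) q15677, e3 q11345 (flp_d L169365) q7236, e3 q11346 (flp_d L201080) q15681, e3 q11347 L201093 q15683, e3 q11348 L169387 q7729, e3 q11349 L169391 q7239, e3 q11350 (flp_d L201113) q15686, e3 q11351 (flp_d L201125) q15687, e3 q11352 L201139 q15690, e3 q11353 (flp_d L169415) q7241, e3 q11354 (flp_d L201165) q15693, e3 q11355 (flp_d L201177) q15694, e3 q11356 L201199 q15697, e3 q11357 (flp_d L169449) q7244, e3 q11358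 (flp_d L201235) q15700, e3 q11359 (flp_d L201243) q15701, e3 q11360 L169471 q7740, e3 q11361 L169477 q7246, e3 q11362 L169483 q7247, e3 q11363 (flp_d L201282) q15706, e3 q11364 (flp_d L201286) q15707, e3 q11365 L201312 q15711, e3 q11366 L201318 q15712, e3 q11367 (flp_d L169509) q7250, e3 q11368 (flp_d L201344) q15715, e3 q11369 (flp_d L201350) q15716, e3 q11370 L182922 q13223, e3 q11371 L169531 q7750, e3 q11372 L169535 q7252, e3 q11373 L169539 q7253, e3 q11374 (flp_d L201388) q15724, e3 q11375 (flp_d L201394) q15725, e3 q11376 (flp_d L201402) q15726, e3 q11377 L169563 q11162, e3 q11378 L201428 q15732, e3 q11379 L169577 q11164, e3 q11380 L169585 q7759, e3 q11381 L169593 q7257, e3 q11382 L201460 q15737, e3 q11383 (flp_d L201456) q15736, e3 q11384 (flp_d L169607) q7258, e3 q11385 L201494 q15742, e3 q11386 (flp_d L169613) q7259, e3 q11387 L201532 q15750, e3 q11388 (flp_d L201526) q15748, e3 q11389 (flp_d L201530) q15749, e3 q11390 L201566 q15756, e3 q11391 L169643 q7262, trivial⟩ (by decide +kernel)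

theorem ce_d_178 : ∀ r, r < 64 → sm gd (Qf (11392 + r)) = Qf (tab Gen.d (11392 + r)) :=
  edges_tab (sm gd) Qf (tab Gen.d) 11392 [(11392, 7261), (11393, 15760), (11394, 15758), (11395, 15375), (11396, 7773), (11397, 7265), (11398, 15766), (11399, 12896), (11400, 15768), (11401, 10745), (11402, 10771), (11403, 15775), (11404, 7272), (11405, 15776), (11406, 15777), (11407, 7785), (11408, 7276), (11409, 7277), (11410, 7278), (11411, 15780), (11412, 15788), (11413, 15782), (11414, 15783), (11415, 15784), (11416, 15795), (11417, 7280), (11418, 15798), (11419, 15800), (11420, 12654), (11421, 7807), (11422, 7288), (11423, 7289), (11424, 7290), (11425, 15805), (11426, 15810), (11427, 15807), (11428, 11190), (11429, 11189), (11430, 11192), (11431, 7816), (11432, 7296), (11433, 15817), (11434, 7298), (11435, 15814), (11436, 15822), (11437, 15816), (11438, 7297), (11439, 15826), (11440, 15819), (11441, 15827), (11442, 15828), (11443, 7300), (11444, 15832), (11445, 7829), (11446, 7302), (11447, 15836), (11448, 7303), (11449,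 15839), (11450, 15840), (11451, 10277), (11452, 8656), (11453, 7306), (11454, 7307), (11455, 8932)]
    ⟨e3 q11392 (flp_d L169645) q7261, e3 q11393 (flp_d L201588) q15760, e3 q11394 (flp_d L201582) q15758, e3 q11395 (flp_d L199088) q15375, e3 q11396 L169667 q7773, e3 q11397 L169675 q7265, e3 q11398 (flp_d L201618) q15766, e3 q11399 L180737 q12896, e3 q11400 (flp_d L201624) q15768, e3 q11401 (flp_d L169703) q10745, e3 q11402 L169711 q10771, e3 q11403 L201682 q15775, e3 q11404 L169733 q7272, e3 q11405 (flp_d L201696) q15776, e3 q11406 (flp_d L201706) q15777, e3 q11407 L169757 q7785, e3 q11408 L169763 q7276, e3 q11409 L169769 q7277, e3 q11410 L169779 q7278, e3 q11411 (flp_d L201730) q15780, e3 q11412 L201782 q15788, e3 q11413 (flp_d L201738) q15782, e3 q11414 (flp_d L201742) q15783, e3 q11415 (flp_d L201746) q15784, e3 q11416 L201840 q15795, e3 q11417 (flp_d L169819) q7280, e3 q11418 (flp_d L201862) q15798, e3 q11419 L201872 q15800, e3 q11420 (flp_d L178898) q12654, e3 q11421 L169848 q7807, e3 q11422 L169854 q7288,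 e3 q11423 L169862 q7289, e3 q11424 L169874 q7290, e3 q11425 (flp_d L201914) q15805, e3 q11426 L201948 q15810, e3 q11427 (flp_d L201924) q15807, e3 q11428 L169896 q11190, e3 q11429 L169904 q11189, e3 q11430 L169912 q11192, e3 q11431 L169916 q7816, e3 q11432 L169922 q7296, e3 q11433 L201998 q15817, e3 q11434 L169928 q7298, e3 q11435 (flp_d L201976) q15814, e3 q11436 L202024 q15822, e3 q11437 (flp_d L201986) q15816, e3 q11438 (flp_d L169952) q7297, e3 q11439 (flp_d L202048) q15826, e3 q11440 (flp_d L202008) q15819, e3 q11441 L202050 q15827, e3 q11442 L202058 q15828, e3 q11443 (flp_d L169992) q7300, e3 q11444 L202080 q15832, e3 q11445 L170000 q7829, e3 q11446 L170004 q7302, e3 q11447 (flp_d L202102) q15836, e3 q11448 (flp_d L170012) q7303, e3 q11449 (flp_d L202132) q15839, e3 q11450 (flp_d L202140) q15840, e3 q11451 L170038 q10277, e3 q11452 L170044 q8656, e3 q11453 L170050 q7306, e3 q11454 L170054 q7307, e3 q11455 L170064 q8932, trivial⟩ (by decide +kernel)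

theorem ce_d_179 : ∀ r, r < 64 → sm gd (Qf (11456 + r)) = Qf (tab Gen.d (11456 + r)) :=
  edges_tab (sm gd) Qf (tab Gen.d) 11456 [(11456, 15605), (11457, 15609), (11458, 15843), (11459, 8747), (11460, 7311), (11461, 15185), (11462, 7842), (11463, 7844), (11464, 7845), (11465, 7318), (11466, 7319), (11467, 7320), (11468, 15858), (11469, 7322), (11470, 15850), (11471, 15862), (11472, 15852), (11473, 15853), (11474, 15854), (11475, 15865), (11476, 13425), (11477, 15857), (11478, 7321), (11479, 15868), (11480, 15860), (11481, 15872), (11482, 15874), (11483, 7324), (11484, 15879), (11485, 15880), (11486, 15882), (11487, 7327), (11488, 15884), (11489, 15885), (11490, 11209), (11491, 7876), (11492, 15888), (11493, 7329), (11494, 15893), (11495, 15519), (11496, 7880), (11497, 7332), (11498, 15897), (11499, 15903), (11500, 15899), (11501, 15906), (11502, 7334), (11503, 15907), (11504, 7336), (11505, 15911), (11506, 15913), (11507, 7891), (11508, 7339), (11509, 15916), (11510, 15917), (11511, 15920), (11512, 7341), (11513,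 15923), (11514, 15705), (11515, 15926), (11516, 7344), (11517, 15929), (11518, 15930), (11519, 7901)]
    ⟨e3 q11456 (flp_d L200489) q15605, e3 q11457 (flp_d L200529) q15609, e3 q11458 (flp_d L202170) q15843, e3 q11459 L170108 q8747, e3 q11460 L170114 q7311, e3 q11461 (flp_d L197885) q15185, e3 q11462 L170120 q7842, e3 q11463 L170130 q7844, e3 q11464 L170136 q7845, e3 q11465 L170142 q7318, e3 q11466 L170146 q7319, e3 q11467 L170152 q7320, e3 q11468 L202296 q15858, e3 q11469 L170158 q7322, e3 q11470 (flp_d L202234) q15850, e3 q11471 L202328 q15862, e3 q11472 (flp_d L202246) q15852, e3 q11473 (flp_d L202256) q15853, e3 q11474 (flp_d L202260) q15854, e3 q11475 L202354 q15865, e3 q11476 (flp_d L184476) q13425, e3 q11477 (flp_d L202288) q15857, e3 q11478 (flp_d L170214) q7321, e3 q11479 (flp_d L202380) q15868, e3 q11480 (flp_d L202312) q15860, e3 q11481 L202426 q15872, e3 q11482 L202440 q15874, e3 q11483 (flp_d L170246) q7324, e3 q11484 (flp_d L202470) q15879, e3 q11485 (flp_d L202480) q15880, e3 q11486 L202497 q15882,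 e3 q11487 (flp_d L170268) q7327, e3 q11488 (flp_d L202521) q15884, e3 q11489 (flp_d L202529) q15885, e3 q11490 (flp_d L170288) q11209, e3 q11491 L170296 q7876, e3 q11492 L202553 q15888, e3 q11493 (flp_d L170300) q7329, e3 q11494 L202577 q15893, e3 q11495 (flp_d L199897) q15519, e3 q11496 L170320 q7880, e3 q11497 L170326 q7332, e3 q11498 (flp_d L202597) q15897, e3 q11499 L202633 q15903, e3 q11500 (flp_d L202603) q15899, e3 q11501 L202665 q15906, e3 q11502 (flp_d L170352) q7334, e3 q11503 (flp_d L202679) q15907, e3 q11504 (flp_d L170364) q7336, e3 q11505 (flp_d L202727) q15911, e3 q11506 L202740 q15913, e3 q11507 L170386 q7891, e3 q11508 L170390 q7339, e3 q11509 (flp_d L202760) q15916, e3 q11510 (flp_d L202772) q15917, e3 q11511 L202788 q15920, e3 q11512 (flp_d L170416) q7341, e3 q11513 (flp_d L202818) q15923, e3 q11514 (flp_d L201274) q15705, e3 q11515 L202842 q15926, e3 q11516 (flp_d L170452) q7344, e3 q11517 (flp_d L202882) q15929, e3 q11518 (flp_d L202894) q15930, e3 q11519 L170476 q7901, trivial⟩ (by decide +kernel)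

theorem ce_d_180 : ∀ r, r < 64 → sm gd (Qf (11520 + r)) = Qf (tab Gen.d (11520 + r)) :=
  edges_tab (sm gd) Qf (tab Gen.d) 11520 [(11520, 7346), (11521, 7347), (11522, 15934), (11523, 15935), (11524, 15937), (11525, 15938), (11526, 7350), (11527, 15941), (11528, 15942), (11529, 13243), (11530, 7910), (11531, 7352), (11532, 7353), (11533, 15950), (11534, 15951), (11535, 15952), (11536, 11231), (11537, 15957), (11538, 11233), (11539, 7916), (11540, 7357), (11541, 15962), (11542, 15961), (11543, 7358), (11544, 15967), (11545, 7359), (11546, 15975), (11547, 15973), (11548, 15974), (11549, 15981), (11550, 7362), (11551, 7361), (11552, 15985), (11553, 15983), (11554, 15479), (11555, 7927), (11556, 7365), (11557, 15991), (11558, 12911), (11559, 15993), (11560, 10663), (11561, 10687), (11562, 7376), (11563, 7936), (11564, 7679), (11565, 7377), (11566, 12593), (11567, 13651), (11568, 8310), (11569, 16001), (11570, 12499), (11571, 16003), (11572, 7378), (11573, 16008), (11574, 16009), (11575, 7955), (11576, 7380), (11577,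 16013), (11578, 16014), (11579, 16016), (11580, 7960), (11581, 7382), (11582, 7383), (11583, 16022)]
    ⟨e3 q11520 L170484 q7346, e3 q11521 L170494 q7347, e3 q11522 (flp_d L202929) q15934, e3 q11523 (flp_d L202937) q15935, e3 q11524 L202947 q15937, e3 q11525 L202953 q15938, e3 q11526 (flp_d L170520) q7350, e3 q11527 (flp_d L202979) q15941, e3 q11528 (flp_d L202985) q15942, e3 q11529 L183067 q13243, e3 q11530 L170546 q7910, e3 q11531 L170550 q7352, e3 q11532 L170554 q7353, e3 q11533 (flp_d L203025) q15950, e3 q11534 (flp_d L203031) q15951, e3 q11535 (flp_d L203039) q15952, e3 q11536 L170578 q11231, e3 q11537 L203065 q15957, e3 q11538 L170592 q11233, e3 q11539 L170600 q7916, e3 q11540 L170608 q7357, e3 q11541 L203097 q15962, e3 q11542 (flp_d L203093) q15961, e3 q11543 (flp_d L170622) q7358, e3 q11544 L203131 q15967, e3 q11545 (flp_d L170628) q7359, e3 q11546 L203169 q15975, e3 q11547 (flp_d L203163) q15973, e3 q11548 (flp_d L203167) q15974, e3 q11549 L203203 q15981, e3 q11550 L170658 q7362, e3 q11551 (flp_d L170660)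 q7361, e3 q11552 (flp_d L203225) q15985, e3 q11553 (flp_d L203219) q15983, e3 q11554 (flp_d L199674) q15479, e3 q11555 L170682 q7927, e3 q11556 L170690 q7365, e3 q11557 (flp_d L203255) q15991, e3 q11558 L180845 q12911, e3 q11559 (flp_d L203261) q15993, e3 q11560 (flp_d L170718) q10663, e3 q11561 L170726 q10687, e3 q11562 L170736 q7376, e3 q11563 L170748 q7936, e3 q11564 L170760 q7679, e3 q11565 L170768 q7377, e3 q11566 (flp_d L178377) q12593, e3 q11567 (flp_d L186371) q13651, e3 q11568 L170795 q8310, e3 q11569 (flp_d L203332) q16001, e3 q11570 L177598 q12499, e3 q11571 (flp_d L203348) q16003, e3 q11572 (flp_d L170819) q7378, e3 q11573 (flp_d L203379) q16008, e3 q11574 (flp_d L203389) q16009, e3 q11575 L170843 q7955, e3 q11576 (flp_d L170845) q7380, e3 q11577 (flp_d L203419) q16013, e3 q11578 (flp_d L203425) q16014, e3 q11579 L203433 q16016, e3 q11580 L170873 q7960, e3 q11581 L170877 q7382, e3 q11582 L170881 q7383, e3 q11583 (flp_d L203467) q16022, trivial⟩ (by decide +kernel)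

theorem ce_d_181 : ∀ r, r < 64 → sm gd (Qf (11584 + r)) = Qf (tab Gen.d (11584 + r)) :=
  edges_tab (sm gd) Qf (tab Gen.d) 11584 [(11584, 16023), (11585, 11667), (11586, 13143), (11587, 7386), (11588, 16030), (11589, 16031), (11590, 16036), (11591, 7971), (11592, 7388), (11593, 7389), (11594, 16042), (11595, 16043), (11596, 7390), (11597, 16049), (11598, 16047), (11599, 16048), (11600, 7979), (11601, 7980), (11602, 7394), (11603, 7395), (11604, 16058), (11605, 16059), (11606, 10207), (11607, 10463), (11608, 10208), (11609, 10204), (11610, 8728), (11611, 10453), (11612, 10209), (11613, 10205), (11614, 7407), (11615, 7994), (11616, 7843), (11617, 7408), (11618, 12594), (11619, 13658), (11620, 8316), (11621, 16077), (11622, 12501), (11623, 16079), (11624, 7409), (11625, 16084), (11626, 16085), (11627, 8013), (11628, 7411), (11629, 16089), (11630, 16090), (11631, 16092), (11632, 8018), (11633, 7413), (11634, 7414), (11635, 16098), (11636, 16099), (11637, 11674), (11638, 13202), (11639, 7417), (11640, 16106), (11641,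 16107), (11642, 16112), (11643, 8029), (11644, 7419), (11645, 7420), (11646, 16118), (11647, 16119)]
    ⟨e3 q11584 (flp_d L203479) q16023, e3 q11585 (flp_d L171419) q11667, e3 q11586 (flp_d L182419) q13143, e3 q11587 (flp_d L170911) q7386, e3 q11588 (flp_d L203509) q16030, e3 q11589 (flp_d L203513) q16031, e3 q11590 L203549 q16036, e3 q11591 L170933 q7971, e3 q11592 L170939 q7388, e3 q11593 L170945 q7389, e3 q11594 (flp_d L203593) q16042, e3 q11595 (flp_d L203601) q16043, e3 q11596 (flp_d L170963) q7390, e3 q11597 L203635 q16049, e3 q11598 (flp_d L203629) q16047, e3 q11599 (flp_d L203633) q16048, e3 q11600 L170983 q7979, e3 q11601 L170989 q7980, e3 q11602 L170997 q7394, e3 q11603 L171005 q7395, e3 q11604 (flp_d L203697) q16058, e3 q11605 (flp_d L203701) q16059, e3 q11606 L171021 q10207, e3 q11607 L171027 q10463, e3 q11608 L171033 q10208, e3 q11609 L171039 q10204, e3 q11610 L171043 q8728, e3 q11611 L171051 q10453, e3 q11612 L171059 q10209, e3 q11613 L171067 q10205, e3 q11614 L171075 q7407, e3 q11615 L171087 q7994,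 e3 q11616 L171099 q7843, e3 q11617 L171107 q7408, e3 q11618 (flp_d L178387) q12594, e3 q11619 (flp_d L186423) q13658, e3 q11620 L171134 q8316, e3 q11621 (flp_d L203832) q16077, e3 q11622 L177613 q12501, e3 q11623 (flp_d L203848) q16079, e3 q11624 (flp_d L171158) q7409, e3 q11625 (flp_d L203879) q16084, e3 q11626 (flp_d L203885) q16085, e3 q11627 L171186 q8013, e3 q11628 (flp_d L171188) q7411, e3 q11629 (flp_d L203919) q16089, e3 q11630 (flp_d L203927) q16090, e3 q11631 L203933 q16092, e3 q11632 L171216 q8018, e3 q11633 L171220 q7413, e3 q11634 L171226 q7414, e3 q11635 (flp_d L203967) q16098, e3 q11636 (flp_d L203975) q16099, e3 q11637 (flp_d L171452) q11674, e3 q11638 (flp_d L182801) q13202, e3 q11639 (flp_d L171254) q7417, e3 q11640 (flp_d L204009) q16106, e3 q11641 (flp_d L204015) q16107, e3 q11642 L204053 q16112, e3 q11643 L171276 q8029, e3 q11644 L171282 q7419, e3 q11645 L171288 q7420, e3 q11646 (flp_d L204097) q16118, e3 q11647 (flp_d L204105) q16119, trivial⟩ (by decide +kernel)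

theorem ce_d_182 : ∀ r, r < 64 → sm gd (Qf (11648 + r)) = Qf (tab Gen.d (11648 + r)) :=
  edges_tab (sm gd) Qf (tab Gen.d) 11648 [(11648, 7421), (11649, 16125), (11650, 16123), (11651, 16124), (11652, 8037), (11653, 8038), (11654, 7425), (11655, 7426), (11656, 16134), (11657, 16135), (11658, 10242), (11659, 10513), (11660, 10238), (11661, 10243), (11662, 10502), (11663, 8773), (11664, 10239), (11665, 10244), (11666, 16153), (11667, 11585), (11668, 16158), (11669, 7433), (11670, 16163), (11671, 16164), (11672, 13227), (11673, 16168), (11674, 11637), (11675, 16173), (11676, 7437), (11677, 16178), (11678, 16179), (11679, 13247), (11680, 8955), (11681, 9024), (11682, 15024), (11683, 7448), (11684, 15849), (11685, 15028), (11686, 7451), (11687, 15615), (11688, 7453), (11689, 13664), (11690, 13663), (11691, 13668), (11692, 13667), (11693, 11733), (11694, 7470), (11695, 11776), (11696, 7475), (11697, 12605), (11698, 14707), (11699, 7484), (11700, 7908), (11701, 15060), (11702, 7486), (11703, 12612), (11704, 14726), (11705,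 7493), (11706, 7747), (11707, 15065), (11708, 7495), (11709, 7501), (11710, 12606), (11711, 7504)]
    ⟨e3 q11648 (flp_d L171306) q7421, e3 q11649 L204139 q16125, e3 q11650 (flp_d L204133) q16123, e3 q11651 (flp_d L204137) q16124, e3 q11652 L171326 q8037, e3 q11653 L171334 q8038, e3 q11654 L171340 q7425, e3 q11655 L171348 q7426, e3 q11656 (flp_d L204201) q16134, e3 q11657 (flp_d L204207) q16135, e3 q11658 L171364 q10242, e3 q11659 L171370 q10513, e3 q11660 L171376 q10238, e3 q11661 L171382 q10243, e3 q11662 L171386 q10502, e3 q11663 L171394 q8773, e3 q11664 L171402 q10239, e3 q11665 L171410 q10244, e3 q11666 L204331 q16153, e3 q11667 L171419 q11585, e3 q11668 L204356 q16158, e3 q11669 (flp_d L171423) q7433, e3 q11670 (flp_d L204384) q16163, e3 q11671 (flp_d L204390) q16164, e3 q11672 (flp_d L182952) q13227, e3 q11673 L204412 q16168, e3 q11674 L171452 q11637, e3 q11675 L204443 q16173, e3 q11676 (flp_d L171456) q7437, e3 q11677 (flp_d L204471) q16178, e3 q11678 (flp_d L204477) q16179, e3 q11679 (flp_d L183101) q13247,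 e3 q11680 L171482 q8955, e3 q11681 L171492 q9024, e3 q11682 (flp_d L196877) q15024, e3 q11683 L171502 q7448, e3 q11684 (flp_d L202230) q15849, e3 q11685 (flp_d L196903) q15028, e3 q11686 L171518 q7451, e3 q11687 (flp_d L200589) q15615, e3 q11688 (flp_d L171528) q7453, e3 q11689 (flp_d L186475) q13664, e3 q11690 (flp_d L186461) q13663, e3 q11691 (flp_d L186510) q13668, e3 q11692 (flp_d L186503) q13667, e3 q11693 (flp_d L171913) q11733, e3 q11694 L171585 q7470, e3 q11695 (flp_d L172204) q11776, e3 q11696 L171601 q7475, e3 q11697 (flp_d L178513) q12605, e3 q11698 (flp_d L194077) q14707, e3 q11699 (flp_d L171622) q7484, e3 q11700 L171640 q7908, e3 q11701 (flp_d L197097) q15060, e3 q11702 L171648 q7486, e3 q11703 (flp_d L178567) q12612, e3 q11704 (flp_d L194239) q14726, e3 q11705 (flp_d L171666) q7493, e3 q11706 L171684 q7747, e3 q11707 (flp_d L197119) q15065, e3 q11708 L171692 q7495, e3 q11709 L171698 q7501, e3 q11710 (flp_d L178523) q12606, e3 q11711 L171710 q7504, trivial⟩ (by decide +kernel)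

theorem ce_d_183 : ∀ r, r < 64 → sm gd (Qf (11712 + r)) = Qf (tab Gen.d (11712 + r)) :=
  edges_tab (sm gd) Qf (tab Gen.d) 11712 [(11712, 7733), (11713, 15115), (11714, 15116), (11715, 16197), (11716, 7509), (11717, 7510), (11718, 7515), (11719, 12611), (11720, 7518), (11721, 7895), (11722, 15127), (11723, 15128), (11724, 16202), (11725, 7523), (11726, 7524), (11727, 7531), (11728, 7640), (11729, 9074), (11730, 9075), (11731, 7536), (11732, 16204), (11733, 11693), (11734, 15220), (11735, 7542), (11736, 16206), (11737, 16207), (11738, 15224), (11739, 7545), (11740, 16211), (11741, 7548), (11742, 16213), (11743, 13335), (11744, 8094), (11745, 15232), (11746, 12395), (11747, 15237), (11748, 7553), (11749, 16215), (11750, 16217), (11751, 7555), (11752, 13336), (11753, 15244), (11754, 7557), (11755, 16220), (11756, 10334), (11757, 15251), (11758, 7562), (11759, 16222), (11760, 16224), (11761, 12376), (11762, 15261), (11763, 15262), (11764, 16228), (11765, 7567), (11766, 7568), (11767, 16230), (11768, 16231), (11769,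 14921), (11770, 7575), (11771, 7806), (11772, 9128), (11773, 9129), (11774, 7582), (11775, 16235)]
    ⟨e3 q11712 (flp_d L171722) q7733, e3 q11713 (flp_d L197423) q15115, e3 q11714 (flp_d L197436) q15116, e3 q11715 L204631 q16197, e3 q11716 L171750 q7509, e3 q11717 L171756 q7510, e3 q11718 L171768 q7515, e3 q11719 (flp_d L178557) q12611, e3 q11720 L171780 q7518, e3 q11721 (flp_d L171792) q7895, e3 q11722 (flp_d L197523) q15127, e3 q11723 (flp_d L197536) q15128, e3 q11724 L204672 q16202, e3 q11725 L171820 q7523, e3 q11726 L171826 q7524, e3 q11727 L171840 q7531, e3 q11728 L171854 q7640, e3 q11729 L171862 q9074, e3 q11730 L171872 q9075, e3 q11731 L171882 q7536, e3 q11732 (flp_d L204693) q16204, e3 q11733 L171913 q11693, e3 q11734 (flp_d L198076) q15220, e3 q11735 (flp_d L171919) q7542, e3 q11736 (flp_d L204714) q16206, e3 q11737 L204720 q16207, e3 q11738 (flp_d L198095) q15224, e3 q11739 L171940 q7545, e3 q11740 (flp_d L204758) q16211, e3 q11741 (flp_d L171950) q7548, e3 q11742 (flp_d L204778) q16213, e3 q11743 (flp_d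 L183803) q13335, e3 q11744 L171976 q8094, e3 q11745 (flp_d L198147) q15232, e3 q11746 (flp_d L176759) q12395, e3 q11747 (flp_d L198171) q15237, e3 q11748 L171996 q7553, e3 q11749 (flp_d L204788) q16215, e3 q11750 L204808 q16217, e3 q11751 (flp_d L172005) q7555, e3 q11752 (flp_d L183815) q13336, e3 q11753 (flp_d L198222) q15244, e3 q11754 L172033 q7557, e3 q11755 (flp_d L204839) q16220, e3 q11756 L172047 q10334, e3 q11757 (flp_d L198266) q15251, e3 q11758 L172063 q7562, e3 q11759 (flp_d L204851) q16222, e3 q11760 (flp_d L204865) q16224, e3 q11761 (flp_d L176572) q12376, e3 q11762 (flp_d L198348) q15261, e3 q11763 (flp_d L198357) q15262, e3 q11764 L204887 q16228, e3 q11765 L172103 q7567, e3 q11766 L172107 q7568, e3 q11767 (flp_d L204902) q16230, e3 q11768 (flp_d L204912) q16231, e3 q11769 (flp_d L196003) q14921, e3 q11770 L172131 q7575, e3 q11771 L172145 q7806, e3 q11772 L172151 q9128, e3 q11773 L172161 q9129, e3 q11774 L172173 q7582, e3 q11775 (flp_d L204936) q16235, trivial⟩ (by decide +kernel)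

theorem ce_d_184 : ∀ r, r < 64 → sm gd (Qf (11776 + r)) = Qf (tab Gen.d (11776 + r)) :=
  edges_tab (sm gd) Qf (tab Gen.d) 11776 [(11776, 11695), (11777, 15273), (11778, 7587), (11779, 16236), (11780, 16237), (11781, 15277), (11782, 7590), (11783, 16241), (11784, 7593), (11785, 13342), (11786, 16243), (11787, 8076), (11788, 15285), (11789, 12349), (11790, 15290), (11791, 7598), (11792, 16245), (11793, 16247), (11794, 7600), (11795, 13338), (11796, 15297), (11797, 7603), (11798, 16250), (11799, 10369), (11800, 15304), (11801, 7607), (11802, 16252), (11803, 16254), (11804, 12355), (11805, 15314), (11806, 15315), (11807, 16205), (11808, 7612), (11809, 7613), (11810, 16259), (11811, 16260), (11812, 14969), (11813, 7615), (11814, 13393), (11815, 16266), (11816, 13395), (11817, 15537), (11818, 7623), (11819, 16273), (11820, 7625), (11821, 7626), (11822, 9110), (11823, 9040), (11824, 9111), (11825, 16270), (11826, 14699), (11827, 16272), (11828, 7624), (11829, 14100), (11830, 16275), (11831, 12134), (11832, 16277), (11833,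 7628), (11834, 13981), (11835, 15557), (11836, 7630), (11837, 16283), (11838, 7631), (11839, 9076)]
    ⟨e3 q11776 L172204 q11695, e3 q11777 (flp_d L198433) q15273, e3 q11778 (flp_d L172210) q7587, e3 q11779 (flp_d L204948) q16236, e3 q11780 L204954 q16237, e3 q11781 (flp_d L198456) q15277, e3 q11782 L172237 q7590, e3 q11783 (flp_d L205000) q16241, e3 q11784 (flp_d L172249) q7593, e3 q11785 (flp_d L183861) q13342, e3 q11786 (flp_d L205020) q16243, e3 q11787 L172275 q8076, e3 q11788 (flp_d L198512) q15285, e3 q11789 (flp_d L176338) q12349, e3 q11790 (flp_d L198536) q15290, e3 q11791 L172295 q7598, e3 q11792 (flp_d L205030) q16245, e3 q11793 L205050 q16247, e3 q11794 (flp_d L172310) q7600, e3 q11795 (flp_d L183825) q13338, e3 q11796 (flp_d L198593) q15297, e3 q11797 L172338 q7603, e3 q11798 (flp_d L205087) q16250, e3 q11799 L172352 q10369, e3 q11800 (flp_d L198637) q15304, e3 q11801 L172368 q7607, e3 q11802 (flp_d L205099) q16252, e3 q11803 (flp_d L205113) q16254, e3 q11804 (flp_d L176402) q12355, e3 q11805 (flp_d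 L198719) q15314, e3 q11806 (flp_d L198730) q15315, e3 q11807 (flp_d L204710) q16205, e3 q11808 L172414 q7612, e3 q11809 L172420 q7613, e3 q11810 (flp_d L205149) q16259, e3 q11811 (flp_d L205159) q16260, e3 q11812 (flp_d L196416) q14969, e3 q11813 (flp_d L172438) q7615, e3 q11814 (flp_d L184232) q13393, e3 q11815 L205213 q16266, e3 q11816 (flp_d L184242) q13395, e3 q11817 (flp_d L200043) q15537, e3 q11818 L172474 q7623, e3 q11819 L205266 q16273, e3 q11820 L172481 q7625, e3 q11821 L172485 q7626, e3 q11822 L172489 q9110, e3 q11823 L172503 q9040, e3 q11824 L172507 q9111, e3 q11825 (flp_d L205244) q16270, e3 q11826 (flp_d L194005) q14699, e3 q11827 (flp_d L205262) q16272, e3 q11828 (flp_d L172529) q7624, e3 q11829 (flp_d L189831) q14100, e3 q11830 (flp_d L205289) q16275, e3 q11831 (flp_d L174809) q12134, e3 q11832 (flp_d L205304) q16277, e3 q11833 (flp_d L172555) q7628, e3 q11834 (flp_d L188937) q13981, e3 q11835 (flp_d L200177) q15557, e3 q11836 L172587 q7630, e3 q11837 (flp_d L205362) q16283, e3 q11838 (flp_d L172591)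 q7631, e3 q11839 L172603 q9076, trivial⟩ (by decide +kernel)

theorem ce_d_185 : ∀ r, r < 64 → sm gd (Qf (11840 + r)) = Qf (tab Gen.d (11840 + r)) :=
  edges_tab (sm gd) Qf (tab Gen.d) 11840 [(11840, 10811), (11841, 10468), (11842, 12600), (11843, 7636), (11844, 16286), (11845, 9821), (11846, 16287), (11847, 7641), (11848, 8441), (11849, 10805), (11850, 15002), (11851, 13388), (11852, 14905), (11853, 15564), (11854, 14800), (11855, 7647), (11856, 7648), (11857, 8534), (11858, 16292), (11859, 8011), (11860, 7649), (11861, 15572), (11862, 15573), (11863, 7654), (11864, 7656), (11865, 7659), (11866, 16298), (11867, 16299), (11868, 7655), (11869, 11965), (11870, 7820), (11871, 15585), (11872, 7660), (11873, 10383), (11874, 15590), (11875, 7663), (11876, 11928), (11877, 14160), (11878, 7664), (11879, 16307), (11880, 15597), (11881, 8021), (11882, 8015), (11883, 7669), (11884, 13597), (11885, 8172), (11886, 7676), (11887, 16000), (11888, 13608), (11889, 9367), (11890, 7949), (11891, 7951), (11892, 12130), (11893, 15612),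 (11894, 15613), (11895, 15614), (11896, 16319), (11897, 13387), (11898, 7687), (11899, 12113), (11900, 7689), (11901, 7690), (11902, 7696), (11903, 7860)]
    ⟨e3 q11840 L172614 q10811, e3 q11841 L172624 q10468, e3 q11842 (flp_d L178455) q12600, e3 q11843 L172638 q7636, e3 q11844 (flp_d L205388) q16286, e3 q11845 (flp_d L175497) q9821, e3 q11846 (flp_d L205403) q16287, e3 q11847 L172663 q7641, e3 q11848 L172673 q8441, e3 q11849 L172685 q10805, e3 q11850 (flp_d L196695) q15002, e3 q11851 (flp_d L184195) q13388, e3 q11852 (flp_d L195858) q14905, e3 q11853 (flp_d L200223) q15564, e3 q11854 (flp_d L194931) q14800, e3 q11855 L172729 q7647, e3 q11856 L172733 q7648, e3 q11857 (flp_d L172743) q8534, e3 q11858 (flp_d L205446) q16292, e3 q11859 (flp_d L172763) q8011, e3 q11860 (flp_d L172765) q7649, e3 q11861 (flp_d L200279) q15572, e3 q11862 (flp_d L200289) q15573, e3 q11863 L172785 q7654, e3 q11864 L172791 q7656, e3 q11865 L172803 q7659, e3 q11866 L205506 q16298, e3 q11867 L205514 q16299, e3 q11868 (flp_d L172815) q7655,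 e3 q11869 (flp_d L173528) q11965, e3 q11870 L172837 q7820, e3 q11871 (flp_d L200361) q15585, e3 q11872 (flp_d L172845) q7660, e3 q11873 (flp_d L172861) q10383, e3 q11874 (flp_d L200385) q15590, e3 q11875 L172873 q7663, e3 q11876 (flp_d L173286) q11928, e3 q11877 L190307 q14160, e3 q11878 (flp_d L172885) q7664, e3 q11879 L205588 q16307, e3 q11880 (flp_d L200419) q15597, e3 q11881 L172909 q8021, e3 q11882 L172923 q8015, e3 q11883 L172931 q7669, e3 q11884 (flp_d L185935) q13597, e3 q11885 (flp_d L172951) q8172, e3 q11886 L172961 q7676, e3 q11887 (flp_d L203321) q16000, e3 q11888 (flp_d L186038) q13608, e3 q11889 L172978 q9367, e3 q11890 (flp_d L172991) q7949, e3 q11891 L173004 q7951, e3 q11892 (flp_d L174771) q12130, e3 q11893 (flp_d L200549) q15612, e3 q11894 (flp_d L200559) q15613, e3 q11895 (flp_d L200569) q15614, e3 q11896 L205695 q16319, e3 q11897 (flp_d L184181) q13387, e3 q11898 L173036 q7687, e3 q11899 (flp_d L174623) q12113, e3 q11900 L173046 q7689, e3 q11901 L173052 q7690, e3 q11902 L173058 q7696, e3 q11903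 (flp_d L173076) q7860, trivial⟩ (by decide +kernel)

theorem ce_d_186 : ∀ r, r < 64 → sm gd (Qf (11904 + r)) = Qf (tab Gen.d (11904 + r)) :=
  edges_tab (sm gd) Qf (tab Gen.d) 11904 [(11904, 7699), (11905, 8569), (11906, 12108), (11907, 16321), (11908, 7691), (11909, 16323), (11910, 14642), (11911, 7695), (11912, 14658), (11913, 16324), (11914, 14883), (11915, 14157), (11916, 8099), (11917, 7697), (11918, 8100), (11919, 10404), (11920, 13476), (11921, 7701), (11922, 10782), (11923, 8052), (11924, 12101), (11925, 7703), (11926, 16326), (11927, 7704), (11928, 11876), (11929, 12133), (11930, 15644), (11931, 12172), (11932, 7708), (11933, 13322), (11934, 13408), (11935, 15651), (11936, 7710), (11937, 7711), (11938, 16336), (11939, 16337), (11940, 12774), (11941, 16340), (11942, 12776), (11943, 12777), (11944, 16345), (11945, 7716), (11946, 16347), (11947, 12150), (11948, 15666), (11949, 7720), (11950, 7722), (11951, 13294), (11952, 10626), (11953, 16352), (11954, 7721), (11955, 10624), (11956, 16353), (11957, 7723),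 (11958, 10670), (11959, 15680), (11960, 14920), (11961, 15685), (11962, 7731), (11963, 14975), (11964, 14918), (11965, 11869), (11966, 7903), (11967, 12169)]
    ⟨e3 q11904 L173082 q7699, e3 q11905 (flp_d L173096) q8569, e3 q11906 (flp_d L174573) q12108, e3 q11907 L205713 q16321, e3 q11908 (flp_d L173116) q7691, e3 q11909 (flp_d L205735) q16323, e3 q11910 (flp_d L193585) q14642, e3 q11911 L173134 q7695, e3 q11912 (flp_d L193695) q14658, e3 q11913 (flp_d L205743) q16324, e3 q11914 (flp_d L195683) q14883, e3 q11915 (flp_d L190281) q14157, e3 q11916 (flp_d L173170) q8099, e3 q11917 (flp_d L173174) q7697, e3 q11918 L173186 q8100, e3 q11919 (flp_d L173196) q10404, e3 q11920 (flp_d L184854) q13476, e3 q11921 L173218 q7701, e3 q11922 L173228 q10782, e3 q11923 L173244 q8052, e3 q11924 L174531 q12101, e3 q11925 (flp_d L173258) q7703, e3 q11926 L205757 q16326, e3 q11927 (flp_d L173274) q7704, e3 q11928 L173286 q11876, e3 q11929 (flp_d L174799) q12133, e3 q11930 (flp_d L200821) q15644, e3 q11931 (flp_d L175079) q12172, e3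 q11932 (flp_d L173313) q7708, e3 q11933 (flp_d L183707) q13322, e3 q11934 (flp_d L184362) q13408, e3 q11935 (flp_d L200870) q15651, e3 q11936 L173335 q7710, e3 q11937 L173339 q7711, e3 q11938 (flp_d L205840) q16336, e3 q11939 L205846 q16337, e3 q11940 L179783 q12774, e3 q11941 L205868 q16340, e3 q11942 (flp_d L179801) q12776, e3 q11943 (flp_d L179809) q12777, e3 q11944 L205901 q16345, e3 q11945 (flp_d L173379) q7716, e3 q11946 (flp_d L205915) q16347, e3 q11947 (flp_d L174894) q12150, e3 q11948 (flp_d L200944) q15666, e3 q11949 L173397 q7720, e3 q11950 L173401 q7722, e3 q11951 (flp_d L183493) q13294, e3 q11952 (flp_d L173433) q10626, e3 q11953 (flp_d L205943) q16352, e3 q11954 (flp_d L173421) q7721, e3 q11955 L173445 q10624, e3 q11956 (flp_d L205953) q16353, e3 q11957 (flp_d L173457) q7723, e3 q11958 L173473 q10670, e3 q11959 (flp_d L201074) q15680, e3 q11960 (flp_d L195996) q14920, e3 q11961 (flp_d L201105) q15685, e3 q11962 L173508 q7731, e3 q11963 (flp_d L196488) q14975, e3 q11964 (flp_d L195978) q14918, e3 q11965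 L173528 q11869, e3 q11966 L173534 q7903, e3 q11967 (flp_d L175045) q12169, trivial⟩ (by decide +kernel)

theorem ce_d_187 : ∀ r, r < 64 → sm gd (Qf (11968 + r)) = Qf (tab Gen.d (11968 + r)) :=
  edges_tab (sm gd) Qf (tab Gen.d) 11968 [(11968, 9815), (11969, 15699), (11970, 10299), (11971, 7867), (11972, 12136), (11973, 7742), (11974, 9790), (11975, 13448), (11976, 16359), (11977, 7744), (11978, 7745), (11979, 16362), (11980, 15714), (11981, 7748), (11982, 8919), (11983, 12322), (11984, 16367), (11985, 8032), (11986, 15722), (11987, 15723), (11988, 7754), (11989, 7755), (11990, 16371), (11991, 8551), (11992, 7920), (11993, 16377), (11994, 7922), (11995, 7923), (11996, 7757), (11997, 16383), (11998, 7760), (11999, 8538), (12000, 15740), (12001, 16385), (12002, 7763), (12003, 16393), (12004, 16391), (12005, 16392), (12006, 12260), (12007, 16398), (12008, 7766), (12009, 7767), (12010, 7765), (12011, 16403), (12012, 16404), (12013, 16401), (12014, 16402), (12015, 7768), (12016, 16409), (12017, 16410), (12018, 7771),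 (12019, 16411), (12020, 12203), (12021, 15765), (12022, 7775), (12023, 7777), (12024, 16416), (12025, 16415), (12026, 7776), (12027, 16419), (12028, 13287), (12029, 10612), (12030, 7782), (12031, 13446)]
    ⟨e3 q11968 L173554 q9815, e3 q11969 (flp_d L201227) q15699, e3 q11970 L173572 q10299, e3 q11971 L173582 q7867, e3 q11972 (flp_d L174823) q12136, e3 q11973 L173593 q7742, e3 q11974 L173603 q9790, e3 q11975 (flp_d L184626) q13448, e3 q11976 (flp_d L206004) q16359, e3 q11977 (flp_d L173619) q7744, e3 q11978 (flp_d L173625) q7745, e3 q11979 (flp_d L206034) q16362, e3 q11980 (flp_d L201338) q15714, e3 q11981 L173647 q7748, e3 q11982 L183219 q8919, e3 q11983 (flp_d L176103) q12322, e3 q11984 L206074 q16367, e3 q11985 L173665 q8032, e3 q11986 (flp_d L201376) q15722, e3 q11987 (flp_d L201382) q15723, e3 q11988 L173683 q7754, e3 q11989 L173693 q7755, e3 q11990 L206110 q16371, e3 q11991 L173705 q8551, e3 q11992 L173713 q7920, e3 q11993 L206162 q16377, e3 q11994 L173721 q7922, e3 q11995 L173725 q7923, e3 q11996 (flp_d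 L173727) q7757, e3 q11997 (flp_d L206206) q16383, e3 q11998 (flp_d L173743) q7760, e3 q11999 L173761 q8538, e3 q12000 (flp_d L201486) q15740, e3 q12001 L206226 q16385, e3 q12002 (flp_d L173771) q7763, e3 q12003 L206300 q16393, e3 q12004 (flp_d L206286) q16391, e3 q12005 (flp_d L206296) q16392, e3 q12006 (flp_d L175687) q12260, e3 q12007 L206336 q16398, e3 q12008 L173803 q7766, e3 q12009 L173807 q7767, e3 q12010 (flp_d L173809) q7765, e3 q12011 (flp_d L206372) q16403, e3 q12012 (flp_d L206376) q16404, e3 q12013 (flp_d L206354) q16401, e3 q12014 (flp_d L206364) q16402, e3 q12015 (flp_d L173839) q7768, e3 q12016 (flp_d L206430) q16409, e3 q12017 L206434 q16410, e3 q12018 L173857 q7771, e3 q12019 (flp_d L206444) q16411, e3 q12020 (flp_d L175282) q12203, e3 q12021 (flp_d L201612) q15765, e3 q12022 L173877 q7775, e3 q12023 L183411 q7777, e3 q12024 L206484 q16416, e3 q12025 L206480 q16415, e3 q12026 (flp_d L173903) q7776, e3 q12027 (flp_d L206518) q16419, e3 q12028 (flp_d L183403) q13287, e3 q12029 L173921 q10612, e3 q12030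 (flp_d L173929) q7782, e3 q12031 (flp_d L184610) q13446, trivial⟩ (by decide +kernel)

theorem ce_d_188 : ∀ r, r < 64 → sm gd (Qf (12032 + r)) = Qf (tab Gen.d (12032 + r)) :=
  edges_tab (sm gd) Qf (tab Gen.d) 12032 [(12032, 15779), (12033, 7788), (12034, 16428), (12035, 7790), (12036, 7791), (12037, 16425), (12038, 14700), (12039, 16427), (12040, 7789), (12041, 14043), (12042, 16430), (12043, 16432), (12044, 9164), (12045, 8974), (12046, 9165), (12047, 7793), (12048, 13985), (12049, 15797), (12050, 7795), (12051, 16438), (12052, 10832), (12053, 9130), (12054, 12602), (12055, 10518), (12056, 7801), (12057, 16440), (12058, 9874), (12059, 16441), (12060, 7805), (12061, 10826), (12062, 8442), (12063, 13440), (12064, 15015), (12065, 15804), (12066, 14832), (12067, 14953), (12068, 7812), (12069, 7814), (12070, 16320), (12071, 7954), (12072, 7813), (12073, 8505), (12074, 15812), (12075, 15813), (12076, 7819), (12077, 7821), (12078, 7824), (12079, 16451), (12080, 16301), (12081, 12168), (12082, 15825), (12083, 7825), (12084,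 10417), (12085, 15830), (12086, 14181), (12087, 7828), (12088, 16456), (12089, 15835), (12090, 7964), (12091, 7958), (12092, 7833), (12093, 13600), (12094, 8202), (12095, 7840)]
    ⟨e3 q12032 (flp_d L201724) q15779, e3 q12033 L173953 q7788, e3 q12034 L206587 q16428, e3 q12035 L173960 q7790, e3 q12036 L173964 q7791, e3 q12037 (flp_d L206563) q16425, e3 q12038 (flp_d L194017) q14700, e3 q12039 (flp_d L206581) q16427, e3 q12040 (flp_d L174002) q7789, e3 q12041 (flp_d L189391) q14043, e3 q12042 (flp_d L206610) q16430, e3 q12043 (flp_d L206625) q16432, e3 q12044 L174034 q9164, e3 q12045 L174048 q8974, e3 q12046 L174052 q9165, e3 q12047 (flp_d L174056) q7793, e3 q12048 (flp_d L188975) q13985, e3 q12049 (flp_d L201856) q15797, e3 q12050 L174090 q7795, e3 q12051 (flp_d L206685) q16438, e3 q12052 L174104 q10832, e3 q12053 L174114 q9130, e3 q12054 (flp_d L178481) q12602, e3 q12055 L174133 q10518, e3 q12056 L174139 q7801, e3 q12057 (flp_d L206707) q16440, e3 q12058 (flp_d L174150) q9874, e3 q12059 (flp_d L206722) q16441,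 e3 q12060 L174168 q7805, e3 q12061 L174178 q10826, e3 q12062 L174188 q8442, e3 q12063 (flp_d L184565) q13440, e3 q12064 (flp_d L196803) q15015, e3 q12065 (flp_d L201906) q15804, e3 q12066 (flp_d L195217) q14832, e3 q12067 (flp_d L196267) q14953, e3 q12068 L174240 q7812, e3 q12069 L174246 q7814, e3 q12070 (flp_d L205707) q16320, e3 q12071 (flp_d L174268) q7954, e3 q12072 (flp_d L174270) q7813, e3 q12073 L174286 q8505, e3 q12074 (flp_d L201962) q15812, e3 q12075 (flp_d L201968) q15813, e3 q12076 L174304 q7819, e3 q12077 L174312 q7821, e3 q12078 L174324 q7824, e3 q12079 L206821 q16451, e3 q12080 (flp_d L205538) q16301, e3 q12081 (flp_d L175039) q12168, e3 q12082 (flp_d L202044) q15825, e3 q12083 (flp_d L174350) q7825, e3 q12084 (flp_d L174368) q10417, e3 q12085 (flp_d L202076) q15830, e3 q12086 L190473 q14181, e3 q12087 (flp_d L174380) q7828, e3 q12088 L206863 q16456, e3 q12089 (flp_d L202096) q15835, e3 q12090 L174404 q7964, e3 q12091 L174418 q7958, e3 q12092 L174428 q7833, e3 q12093 (flp_d L185959) q13600, e3 q12094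 (flp_d L174448) q8202, e3 q12095 L174458 q7840, trivial⟩ (by decide +kernel)

theorem ce_d_189 : ∀ r, r < 64 → sm gd (Qf (12096 + r)) = Qf (tab Gen.d (12096 + r)) :=
  edges_tab (sm gd) Qf (tab Gen.d) 12096 [(12096, 16076), (12097, 13612), (12098, 9364), (12099, 8007), (12100, 8009), (12101, 11924), (12102, 15846), (12103, 15847), (12104, 15848), (12105, 16466), (12106, 13439), (12107, 7851), (12108, 11906), (12109, 7853), (12110, 7854), (12111, 7863), (12112, 8560), (12113, 11899), (12114, 7855), (12115, 16467), (12116, 14671), (12117, 7859), (12118, 14686), (12119, 16468), (12120, 14851), (12121, 14178), (12122, 8056), (12123, 7861), (12124, 8055), (12125, 10438), (12126, 13424), (12127, 7865), (12128, 10699), (12129, 8096), (12130, 11892), (12131, 16328), (12132, 7868), (12133, 11929), (12134, 11831), (12135, 15878), (12136, 11972), (12137, 7872), (12138, 13377), (12139, 13460), (12140, 15650), (12141, 7874), (12142, 7875), (12143, 16478), (12144, 12799), (12145, 16481), (12146, 12801), (12147, 12802), (12148,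 7878), (12149, 16487), (12150, 11947), (12151, 15896), (12152, 7882), (12153, 7884), (12154, 13353), (12155, 10576), (12156, 16492), (12157, 7883), (12158, 10573), (12159, 16493)]
    ⟨e3 q12096 (flp_d L203821) q16076, e3 q12097 (flp_d L186062) q13612, e3 q12098 L174483 q9364, e3 q12099 (flp_d L174502) q8007, e3 q12100 L174517 q8009, e3 q12101 (flp_d L174531) q11924, e3 q12102 (flp_d L202190) q15846, e3 q12103 (flp_d L202200) q15847, e3 q12104 (flp_d L202210) q15848, e3 q12105 L206968 q16466, e3 q12106 (flp_d L184551) q13439, e3 q12107 L174565 q7851, e3 q12108 L174573 q11906, e3 q12109 L174579 q7853, e3 q12110 L174589 q7854, e3 q12111 L174601 q7863, e3 q12112 (flp_d L174615) q8560, e3 q12113 L174623 q11899, e3 q12114 (flp_d L174629) q7855, e3 q12115 (flp_d L206976) q16467, e3 q12116 (flp_d L193797) q14671, e3 q12117 L174649 q7859, e3 q12118 (flp_d L193901) q14686, e3 q12119 (flp_d L206984) q16468, e3 q12120 (flp_d L195398) q14851, e3 q12121 (flp_d L190447) q14178, e3 q12122 (flp_d L174683) q8056, e3 q12123 (flp_d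 L174687) q7861, e3 q12124 L174703 q8055, e3 q12125 L174715 q10438, e3 q12126 (flp_d L184462) q13424, e3 q12127 L174737 q7865, e3 q12128 L174747 q10699, e3 q12129 L174763 q8096, e3 q12130 L174771 q11892, e3 q12131 (flp_d L205783) q16328, e3 q12132 (flp_d L174785) q7868, e3 q12133 L174799 q11929, e3 q12134 L174809 q11831, e3 q12135 (flp_d L202462) q15878, e3 q12136 L174823 q11972, e3 q12137 (flp_d L174830) q7872, e3 q12138 (flp_d L184115) q13377, e3 q12139 (flp_d L184738) q13460, e3 q12140 (flp_d L223811) q15650, e3 q12141 L174850 q7874, e3 q12142 L174858 q7875, e3 q12143 (flp_d L207063) q16478, e3 q12144 L180003 q12799, e3 q12145 L207083 q16481, e3 q12146 (flp_d L180019) q12801, e3 q12147 (flp_d L180027) q12802, e3 q12148 (flp_d L174880) q7878, e3 q12149 (flp_d L207124) q16487, e3 q12150 L174894 q11947, e3 q12151 (flp_d L202591) q15896, e3 q12152 L174902 q7882, e3 q12153 L174906 q7884, e3 q12154 (flp_d L183955) q13353, e3 q12155 (flp_d L174926) q10576, e3 q12156 (flp_d L207158) q16492, e3 q12157 (flp_d L174928) q7883,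 e3 q12158 L174946 q10573, e3 q12159 (flp_d L207170) q16493, trivial⟩ (by decide +kernel)

theorem ce_d_190 : ∀ r, r < 64 → sm gd (Qf (12160 + r)) = Qf (tab Gen.d (12160 + r)) :=
  edges_tab (sm gd) Qf (tab Gen.d) 12160 [(12160, 7885), (12161, 10754), (12162, 15910), (12163, 14968), (12164, 15915), (12165, 7893), (12166, 14927), (12167, 14966), (12168, 12081), (12169, 11967), (12170, 9868), (12171, 15928), (12172, 11931), (12173, 10297), (12174, 9843), (12175, 7904), (12176, 7905), (12177, 16499), (12178, 15940), (12179, 7907), (12180, 8935), (12181, 16501), (12182, 7975), (12183, 15948), (12184, 15949), (12185, 7913), (12186, 7915), (12187, 8522), (12188, 7917), (12189, 8509), (12190, 15965), (12191, 16373), (12192, 16509), (12193, 16375), (12194, 16376), (12195, 7921), (12196, 16512), (12197, 16513), (12198, 16380), (12199, 16381), (12200, 16517), (12201, 7925), (12202, 16518), (12203, 12020), (12204, 15990), (12205, 7929), (12206, 7931), (12207, 16523), (12208, 16522), (12209, 7930), (12210, 16526), (12211, 13347),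 (12212, 10559), (12213, 8338), (12214, 7939), (12215, 7942), (12216, 7945), (12217, 14657), (12218, 7948), (12219, 13416), (12220, 12574), (12221, 16529), (12222, 12338), (12223, 7950)]
    ⟨e3 q12160 (flp_d L174964) q7885, e3 q12161 L174980 q10754, e3 q12162 (flp_d L202721) q15910, e3 q12163 (flp_d L196409) q14968, e3 q12164 (flp_d L202752) q15915, e3 q12165 L175015 q7893, e3 q12166 (flp_d L196075) q14927, e3 q12167 (flp_d L196389) q14966, e3 q12168 L175039 q12081, e3 q12169 L175045 q11967, e3 q12170 L175059 q9868, e3 q12171 (flp_d L202872) q15928, e3 q12172 L175079 q11931, e3 q12173 L175086 q10297, e3 q12174 L175100 q9843, e3 q12175 (flp_d L175104) q7904, e3 q12176 (flp_d L175110) q7905, e3 q12177 (flp_d L207217) q16499, e3 q12178 (flp_d L202973) q15940, e3 q12179 L175132 q7907, e3 q12180 (flp_d L175138) q8935, e3 q12181 L207231 q16501, e3 q12182 L175152 q7975, e3 q12183 (flp_d L203013) q15948, e3 q12184 (flp_d L203019) q15949, e3 q12185 L175170 q7913, e3 q12186 L175180 q7915, e3 q12187 L175188 q8522, e3 q12188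 (flp_d L175192) q7917, e3 q12189 L175206 q8509, e3 q12190 (flp_d L203123) q15965, e3 q12191 (flp_d L206130) q16373, e3 q12192 L207311 q16509, e3 q12193 (flp_d L206148) q16375, e3 q12194 (flp_d L206158) q16376, e3 q12195 (flp_d L175234) q7921, e3 q12196 (flp_d L207335) q16512, e3 q12197 (flp_d L207339) q16513, e3 q12198 (flp_d L206178) q16380, e3 q12199 (flp_d L206188) q16381, e3 q12200 L207369 q16517, e3 q12201 L175268 q7925, e3 q12202 (flp_d L207379) q16518, e3 q12203 L175282 q12020, e3 q12204 (flp_d L203249) q15990, e3 q12205 L175290 q7929, e3 q12206 L183435 q7931, e3 q12207 L207421 q16523, e3 q12208 L207417 q16522, e3 q12209 (flp_d L175316) q7930, e3 q12210 (flp_d L207455) q16526, e3 q12211 (flp_d L183903) q13347, e3 q12212 L175334 q10559, e3 q12213 L175344 q8338, e3 q12214 L175354 q7939, e3 q12215 L175364 q7942, e3 q12216 (flp_d L175372) q7945, e3 q12217 (flp_d L193685) q14657, e3 q12218 L175392 q7948, e3 q12219 (flp_d L184408) q13416, e3 q12220 (flp_d L178169) q12574, e3 q12221 (flp_d L207479) q16529, e3 q12222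 (flp_d L176243) q12338, e3 q12223 (flp_d L175415) q7950, trivial⟩ (by decide +kernel)

theorem ce_d_191 : ∀ r, r < 64 → sm gd (Qf (12224 + r)) = Qf (tab Gen.d (12224 + r)) :=
  edges_tab (sm gd) Qf (tab Gen.d) 12224 [(12224, 12336), (12225, 16007), (12226, 16012), (12227, 7959), (12228, 16532), (12229, 16531), (12230, 16020), (12231, 16021), (12232, 13506), (12233, 12332), (12234, 12333), (12235, 16465), (12236, 16029), (12237, 7968), (12238, 7969), (12239, 9107), (12240, 16539), (12241, 13285), (12242, 16541), (12243, 7970), (12244, 16546), (12245, 16545), (12246, 16040), (12247, 16041), (12248, 9042), (12249, 16548), (12250, 7978), (12251, 7977), (12252, 16552), (12253, 16550), (12254, 16246), (12255, 16056), (12256, 16057), (12257, 7983), (12258, 7984), (12259, 12340), (12260, 12006), (12261, 8971), (12262, 13320), (12263, 13418), (12264, 7985), (12265, 14006), (12266, 12689), (12267, 16560), (12268, 7989), (12269, 7990), (12270, 16562), (12271, 14944), (12272, 8346), (12273, 7997), (12274, 8000), (12275, 8003),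 (12276, 14687), (12277, 8006), (12278, 13468), (12279, 12580), (12280, 16564), (12281, 12384), (12282, 8008), (12283, 12382), (12284, 16083), (12285, 16088), (12286, 8017), (12287, 16567)]
    ⟨e3 q12224 L176217 q12336, e3 q12225 (flp_d L203373) q16007, e3 q12226 (flp_d L203413) q16012, e3 q12227 (flp_d L175440) q7959, e3 q12228 L207499 q16532, e3 q12229 (flp_d L207493) q16531, e3 q12230 (flp_d L203449) q16020, e3 q12231 (flp_d L203459) q16021, e3 q12232 (flp_d L185117) q13506, e3 q12233 (flp_d L176173) q12332, e3 q12234 (flp_d L176183) q12333, e3 q12235 (flp_d L206960) q16465, e3 q12236 (flp_d L203505) q16029, e3 q12237 L175537 q7968, e3 q12238 L175543 q7969, e3 q12239 L175549 q9107, e3 q12240 (flp_d L207571) q16539, e3 q12241 (flp_d L183385) q13285, e3 q12242 L207587 q16541, e3 q12243 (flp_d L175575) q7970, e3 q12244 L207628 q16546, e3 q12245 (flp_d L207624) q16545, e3 q12246 (flp_d L203577) q16040, e3 q12247 (flp_d L203587) q16041, e3 q12248 (flp_d L175617) q9042, e3 q12249 L207642 q16548, e3 q12250 L175623 q7978,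 e3 q12251 (flp_d L175625) q7977, e3 q12252 (flp_d L207664) q16552, e3 q12253 (flp_d L207652) q16550, e3 q12254 (flp_d L205048) q16246, e3 q12255 (flp_d L203679) q16056, e3 q12256 (flp_d L203689) q16057, e3 q12257 L175661 q7983, e3 q12258 L175671 q7984, e3 q12259 (flp_d L176268) q12340, e3 q12260 L175687 q12006, e3 q12261 (flp_d L175697) q8971, e3 q12262 L183701 q13320, e3 q12263 (flp_d L184424) q13418, e3 q12264 (flp_d L175715) q7985, e3 q12265 (flp_d L189117) q14006, e3 q12266 (flp_d L179157) q12689, e3 q12267 L207722 q16560, e3 q12268 L175739 q7989, e3 q12269 L175743 q7990, e3 q12270 (flp_d L207746) q16562, e3 q12271 L196195 q14944, e3 q12272 L175767 q8346, e3 q12273 L175777 q7997, e3 q12274 L175787 q8000, e3 q12275 (flp_d L175795) q8003, e3 q12276 (flp_d L193911) q14687, e3 q12277 L175815 q8006, e3 q12278 (flp_d L184786) q13468, e3 q12279 (flp_d L178227) q12580, e3 q12280 (flp_d L207764) q16564, e3 q12281 (flp_d L176664) q12384, e3 q12282 (flp_d L175846) q8008, e3 q12283 L176638 q12382, e3 q12284 (flp_d L203873)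 q16083, e3 q12285 (flp_d L203913) q16088, e3 q12286 (flp_d L175871) q8017, e3 q12287 L207784 q16567, trivial⟩ (by decide +kernel)

theorem ce_d_192 : ∀ r, r < 64 → sm gd (Qf (12288 + r)) = Qf (tab Gen.d (12288 + r)) :=
  edges_tab (sm gd) Qf (tab Gen.d) 12288 [(12288, 16566), (12289, 16096), (12290, 16097), (12291, 13530), (12292, 12378), (12293, 12379), (12294, 16318), (12295, 16105), (12296, 8026), (12297, 8027), (12298, 13349), (12299, 9161), (12300, 16574), (12301, 16576), (12302, 8028), (12303, 16581), (12304, 16580), (12305, 16116), (12306, 16117), (12307, 8977), (12308, 16583), (12309, 8036), (12310, 8035), (12311, 16587), (12312, 16585), (12313, 16216), (12314, 16132), (12315, 16133), (12316, 8041), (12317, 8042), (12318, 9037), (12319, 13375), (12320, 13470), (12321, 12387), (12322, 11983), (12323, 8043), (12324, 12718), (12325, 13987), (12326, 16595), (12327, 8047), (12328, 8048), (12329, 14992), (12330, 16597), (12331, 10368), (12332, 12233), (12333, 12234), (12334, 10591), (12335, 13281), (12336, 12224),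 (12337, 8058), (12338, 12222), (12339, 8170), (12340, 12259), (12341, 14731), (12342, 16389), (12343, 10718), (12344, 8063), (12345, 14757), (12346, 14798), (12347, 8066), (12348, 8523), (12349, 11789), (12350, 10692), (12351, 8071)]
    ⟨e3 q12288 (flp_d L207778) q16566, e3 q12289 (flp_d L203949) q16096, e3 q12290 (flp_d L203957) q16097, e3 q12291 (flp_d L185319) q13530, e3 q12292 (flp_d L176594) q12378, e3 q12293 (flp_d L176604) q12379, e3 q12294 (flp_d L205687) q16318, e3 q12295 (flp_d L204005) q16105, e3 q12296 L175927 q8026, e3 q12297 L175933 q8027, e3 q12298 (flp_d L183925) q13349, e3 q12299 L175947 q9161, e3 q12300 (flp_d L207856) q16574, e3 q12301 L207872 q16576, e3 q12302 (flp_d L175969) q8028, e3 q12303 L207913 q16581, e3 q12304 (flp_d L207909) q16580, e3 q12305 (flp_d L204081) q16116, e3 q12306 (flp_d L204089) q16117, e3 q12307 (flp_d L176011) q8977, e3 q12308 L207927 q16583, e3 q12309 L176017 q8036, e3 q12310 (flp_d L176019) q8035, e3 q12311 (flp_d L207949) q16587, e3 q12312 (flp_d L207937) q16585, e3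 q12313 (flp_d L204806) q16216, e3 q12314 (flp_d L204183) q16132, e3 q12315 (flp_d L204193) q16133, e3 q12316 L176055 q8041, e3 q12317 L176061 q8042, e3 q12318 (flp_d L176075) q9037, e3 q12319 L184109 q13375, e3 q12320 (flp_d L184802) q13470, e3 q12321 (flp_d L176697) q12387, e3 q12322 L176103 q11983, e3 q12323 (flp_d L176107) q8043, e3 q12324 (flp_d L179355) q12718, e3 q12325 (flp_d L188995) q13987, e3 q12326 L208011 q16595, e3 q12327 L176131 q8047, e3 q12328 L176139 q8048, e3 q12329 L196618 q14992, e3 q12330 (flp_d L208035) q16597, e3 q12331 L176163 q10368, e3 q12332 L176173 q12233, e3 q12333 L176183 q12234, e3 q12334 L176197 q10591, e3 q12335 (flp_d L183355) q13281, e3 q12336 (flp_d L176217) q12224, e3 q12337 (flp_d L176225) q8058, e3 q12338 L176243 q12222, e3 q12339 L176260 q8170, e3 q12340 L176268 q12259, e3 q12341 (flp_d L194283) q14731, e3 q12342 (flp_d L206270) q16389, e3 q12343 L176294 q10718, e3 q12344 L176298 q8063, e3 q12345 (flp_d L194526) q14757, e3 q12346 L194911 q14798, e3 q12347 L176320 q8066, e3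 q12348 L176330 q8523, e3 q12349 L176338 q11789, e3 q12350 L176356 q10692, e3 q12351 L176362 q8071, trivial⟩ (by decide +kernel)

theorem ce_d_193 : ∀ r, r < 64 → sm gd (Qf (12352 + r)) = Qf (tab Gen.d (12352 + r)) :=
  edges_tab (sm gd) Qf (tab Gen.d) 12352 [(12352, 12783), (12353, 8075), (12354, 16603), (12355, 11804), (12356, 8510), (12357, 10572), (12358, 16605), (12359, 12375), (12360, 8127), (12361, 8079), (12362, 8131), (12363, 12404), (12364, 8083), (12365, 12772), (12366, 16611), (12367, 8087), (12368, 8085), (12369, 16615), (12370, 16616), (12371, 16613), (12372, 16618), (12373, 8089), (12374, 8122), (12375, 12359), (12376, 11761), (12377, 10333), (12378, 12292), (12379, 12293), (12380, 10589), (12381, 13267), (12382, 12283), (12383, 8102), (12384, 12281), (12385, 8200), (12386, 14712), (12387, 12321), (12388, 16364), (12389, 10799), (12390, 8106), (12391, 14830), (12392, 14778), (12393, 8110), (12394, 8552), (12395, 11746), (12396, 10776), (12397, 8116), (12398, 12808), (12399, 8119), (12400, 16626), (12401,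 8539), (12402, 10623), (12403, 16628), (12404, 12363), (12405, 8124), (12406, 12797), (12407, 16630), (12408, 8126), (12409, 16632), (12410, 16633), (12411, 16609), (12412, 16635), (12413, 9697), (12414, 8151), (12415, 14730)]
    ⟨e3 q12352 (flp_d L179867) q12783, e3 q12353 (flp_d L176380) q8075, e3 q12354 (flp_d L208100) q16603, e3 q12355 L176402 q11804, e3 q12356 L176410 q8510, e3 q12357 L176422 q10572, e3 q12358 L208116 q16605, e3 q12359 (flp_d L176564) q12375, e3 q12360 L176448 q8127, e3 q12361 (flp_d L176452) q8079, e3 q12362 L176464 q8131, e3 q12363 (flp_d L176851) q12404, e3 q12364 L176478 q8083, e3 q12365 (flp_d L179769) q12772, e3 q12366 L208167 q16611, e3 q12367 L176504 q8087, e3 q12368 (flp_d L176508) q8085, e3 q12369 (flp_d L208197) q16615, e3 q12370 (flp_d L208203) q16616, e3 q12371 (flp_d L208185) q16613, e3 q12372 L208213 q16618, e3 q12373 L176542 q8089, e3 q12374 L176552 q8122, e3 q12375 L176564 q12359, e3 q12376 L176572 q11761, e3 q12377 L176584 q10333, e3 q12378 L176594 q12292, e3 q12379 L176604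 q12293, e3 q12380 L176618 q10589, e3 q12381 (flp_d L183271) q13267, e3 q12382 (flp_d L176638) q12283, e3 q12383 (flp_d L176646) q8102, e3 q12384 L176664 q12281, e3 q12385 L176681 q8200, e3 q12386 (flp_d L194121) q14712, e3 q12387 L176697 q12321, e3 q12388 (flp_d L206052) q16364, e3 q12389 L176715 q10799, e3 q12390 L176719 q8106, e3 q12391 L195197 q14830, e3 q12392 (flp_d L194719) q14778, e3 q12393 L176741 q8110, e3 q12394 L176751 q8552, e3 q12395 L176759 q11746, e3 q12396 L176779 q10776, e3 q12397 L176785 q8116, e3 q12398 (flp_d L180085) q12808, e3 q12399 (flp_d L176803) q8119, e3 q12400 (flp_d L208297) q16626, e3 q12401 L176821 q8539, e3 q12402 L176835 q10623, e3 q12403 L208313 q16628, e3 q12404 L176851 q12363, e3 q12405 L176859 q8124, e3 q12406 (flp_d L179987) q12797, e3 q12407 L208327 q16630, e3 q12408 (flp_d L176885) q8126, e3 q12409 (flp_d L208339) q16632, e3 q12410 (flp_d L208345) q16633, e3 q12411 (flp_d L208151) q16609, e3 q12412 L208361 q16635, e3 q12413 L176925 q9697, e3 q12414 L176935 q8151, e3 q12415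 (flp_d L194275) q14730, trivial⟩ (by decide +kernel)

theorem ce_d_194 : ∀ r, r < 64 → sm gd (Qf (12416 + r)) = Qf (tab Gen.d (12416 + r)) :=
  edges_tab (sm gd) Qf (tab Gen.d) 12416 [(12416, 8136), (12417, 8155), (12418, 9480), (12419, 8157), (12420, 9441), (12421, 8161), (12422, 13961), (12423, 8165), (12424, 10069), (12425, 8144), (12426, 12770), (12427, 9675), (12428, 8182), (12429, 14711), (12430, 8147), (12431, 12472), (12432, 9681), (12433, 8185), (12434, 9488), (12435, 8187), (12436, 12439), (12437, 14922), (12438, 16636), (12439, 12436), (12440, 16647), (12441, 8152), (12442, 10358), (12443, 16638), (12444, 9483), (12445, 13938), (12446, 9486), (12447, 13394), (12448, 8158), (12449, 16653), (12450, 16271), (12451, 10356), (12452, 14374), (12453, 16657), (12454, 14372), (12455, 8163), (12456, 8164), (12457, 8207), (12458, 16640), (12459, 12475), (12460, 9801), (12461, 9803), (12462, 14987), (12463, 13437), (12464, 16599), (12465, 9450), (12466, 8191), (12467, 13937), (12468, 8195), (12469, 10035), (12470,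 8179), (12471, 12795), (12472, 12431), (12473, 9703), (12474, 14970), (12475, 12459), (12476, 16665), (12477, 8183), (12478, 10321), (12479, 16643)]
    ⟨e3 q12416 (flp_d L176947) q8136, e3 q12417 L176959 q8155, e3 q12418 (flp_d L176975) q9480, e3 q12419 L176985 q8157, e3 q12420 L176993 q9441, e3 q12421 L177003 q8161, e3 q12422 (flp_d L188785) q13961, e3 q12423 L177017 q8165, e3 q12424 L177027 q10069, e3 q12425 L177031 q8144, e3 q12426 (flp_d L179759) q12770, e3 q12427 (flp_d L177055) q9675, e3 q12428 L177059 q8182, e3 q12429 (flp_d L194113) q14711, e3 q12430 (flp_d L177071) q8147, e3 q12431 (flp_d L177386) q12472, e3 q12432 (flp_d L177088) q9681, e3 q12433 L177094 q8185, e3 q12434 L177106 q9488, e3 q12435 L177118 q8187, e3 q12436 (flp_d L177142) q12439, e3 q12437 (flp_d L196027) q14922, e3 q12438 (flp_d L208375) q16636, e3 q12439 L177142 q12436, e3 q12440 L208511 q16647, e3 q12441 (flp_d L177150) q8152, e3 q12442 L177160 q10358, e3 q12443 (flp_d L208405) q16638, e3 q12444 (flp_d L177174) q9483, e3 q12445 (flp_d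 L188627) q13938, e3 q12446 L177188 q9486, e3 q12447 (flp_d L205203) q13394, e3 q12448 (flp_d L177198) q8158, e3 q12449 (flp_d L208566) q16653, e3 q12450 L205256 q16271, e3 q12451 L177214 q10356, e3 q12452 (flp_d L191830) q14374, e3 q12453 L208602 q16657, e3 q12454 L191810 q14372, e3 q12455 L177238 q8163, e3 q12456 L177254 q8164, e3 q12457 L177266 q8207, e3 q12458 (flp_d L208425) q16640, e3 q12459 (flp_d L177413) q12475, e3 q12460 L177291 q9801, e3 q12461 L177305 q9803, e3 q12462 (flp_d L196569) q14987, e3 q12463 (flp_d L184537) q13437, e3 q12464 (flp_d L208069) q16599, e3 q12465 L177330 q9450, e3 q12466 L177340 q8191, e3 q12467 (flp_d L188621) q13937, e3 q12468 L177354 q8195, e3 q12469 L177366 q10035, e3 q12470 L177370 q8179, e3 q12471 (flp_d L179977) q12795, e3 q12472 L177386 q12431, e3 q12473 (flp_d L177405) q9703, e3 q12474 (flp_d L196440) q14970, e3 q12475 L177413 q12459, e3 q12476 L208684 q16665, e3 q12477 (flp_d L177425) q8183, e3 q12478 L177435 q10321, e3 q12479 (flp_d L208467) q16643, trivial⟩ (by decide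 +kernel)

theorem ce_d_195 : ∀ r, r < 64 → sm gd (Qf (12480 + r)) = Qf (tab Gen.d (12480 + r)) :=
  edges_tab (sm gd) Qf (tab Gen.d) 12480 [(12480, 9476), (12481, 13962), (12482, 9478), (12483, 13447), (12484, 8188), (12485, 16426), (12486, 16671), (12487, 10319), (12488, 14319), (12489, 16675), (12490, 14317), (12491, 8193), (12492, 8194), (12493, 8209), (12494, 9854), (12495, 9856), (12496, 14939), (12497, 13489), (12498, 16622), (12499, 11570), (12500, 13599), (12501, 11622), (12502, 13602), (12503, 8212), (12504, 8213), (12505, 8216), (12506, 8217), (12507, 16680), (12508, 16681), (12509, 8220), (12510, 16685), (12511, 8221), (12512, 8222), (12513, 16691), (12514, 8223), (12515, 16682), (12516, 16684), (12517, 16687), (12518, 16688), (12519, 16690), (12520, 16693), (12521, 9931), (12522, 9933), (12523, 8234), (12524, 8235), (12525, 16702), (12526, 8237), (12527, 8238), (12528, 8239), (12529, 16711), (12530, 8241), (12531, 16696), (12532, 14141), (12533, 16698), (12534, 16699), (12535, 16718), (12536, 16701),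 (12537, 8236), (12538, 16719), (12539, 16704), (12540, 16705), (12541, 14151), (12542, 16707), (12543, 16708)]
    ⟨e3 q12480 (flp_d L177451) q9476, e3 q12481 (flp_d L188791) q13962, e3 q12482 L177463 q9478, e3 q12483 L184622 q13447, e3 q12484 (flp_d L177473) q8188, e3 q12485 L206575 q16426, e3 q12486 (flp_d L208739) q16671, e3 q12487 L177489 q10319, e3 q12488 (flp_d L191449) q14319, e3 q12489 L208775 q16675, e3 q12490 L191429 q14317, e3 q12491 L177513 q8193, e3 q12492 L177529 q8194, e3 q12493 L177541 q8209, e3 q12494 L177552 q9854, e3 q12495 L177566 q9856, e3 q12496 (flp_d L196150) q14939, e3 q12497 (flp_d L184937) q13489, e3 q12498 (flp_d L208266) q16622, e3 q12499 (flp_d L177598) q11570, e3 q12500 (flp_d L185951) q13599, e3 q12501 (flp_d L177613) q11622, e3 q12502 (flp_d L185975) q13602, e3 q12503 L177627 q8212, e3 q12504 L177637 q8213, e3 q12505 L177645 q8216, e3 q12506 L177657 q8217, e3 q12507 (flp_d L208827) q16680, e3 q12508 (flp_d L208833) q16681, e3 q12509 L177673 q8220, e3 q12510 L208865 q16685, e3 q12511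 L177685 q8221, e3 q12512 L177691 q8222, e3 q12513 L208909 q16691, e3 q12514 L177703 q8223, e3 q12515 (flp_d L208839) q16682, e3 q12516 (flp_d L208859) q16684, e3 q12517 (flp_d L208879) q16687, e3 q12518 (flp_d L208889) q16688, e3 q12519 (flp_d L208903) q16690, e3 q12520 (flp_d L208923) q16693, e3 q12521 L177763 q9931, e3 q12522 L177773 q9933, e3 q12523 L177781 q8234, e3 q12524 L177789 q8235, e3 q12525 L209001 q16702, e3 q12526 L177799 q8237, e3 q12527 L177807 q8238, e3 q12528 L177815 q8239, e3 q12529 L209073 q16711, e3 q12530 L177825 q8241, e3 q12531 (flp_d L208953) q16696, e3 q12532 (flp_d L190153) q14141, e3 q12533 (flp_d L208967) q16698, e3 q12534 (flp_d L208975) q16699, e3 q12535 L209131 q16718, e3 q12536 (flp_d L208993) q16701, e3 q12537 (flp_d L177874) q8236, e3 q12538 (flp_d L209147) q16719, e3 q12539 (flp_d L209017) q16704, e3 q12540 (flp_d L209025) q16705, e3 q12541 (flp_d L190232) q14151, e3 q12542 (flp_d L209039) q16707, e3 q12543 (flp_d L209047) q16708, trivial⟩ (by decide +kernel)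

theorem ce_d_196 : ∀ r, r < 64 → sm gd (Qf (12544 + r)) = Qf (tab Gen.d (12544 + r)) :=
  edges_tab (sm gd) Qf (tab Gen.d) 12544 [(12544, 16724), (12545, 16710), (12546, 8240), (12547, 16725), (12548, 16713), (12549, 8248), (12550, 9398), (12551, 8249), (12552, 8250), (12553, 9393), (12554, 8251), (12555, 15447), (12556, 16735), (12557, 15450), (12558, 16727), (12559, 14170), (12560, 16729), (12561, 15343), (12562, 16738), (12563, 15346), (12564, 16731), (12565, 14192), (12566, 16733), (12567, 8903), (12568, 8909), (12569, 8915), (12570, 8922), (12571, 9215), (12572, 10427), (12573, 13520), (12574, 12220), (12575, 8931), (12576, 8938), (12577, 9252), (12578, 10393), (12579, 13544), (12580, 12279), (12581, 8950), (12582, 9123), (12583, 8962), (12584, 8973), (12585, 9120), (12586, 8975), (12587, 9003), (12588, 9016), (12589, 9178), (12590, 9039), (12591, 9175), (12592, 9065), (12593, 11566), (12594, 11618), (12595, 9732), (12596, 10942), (12597, 9752), (12598, 10954), (12599, 8473), (12600, 11842), (12601, 8476),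 (12602, 12054), (12603, 8328), (12604, 8331), (12605, 11697), (12606, 11710), (12607, 8335)]
    ⟨e3 q12544 L209189 q16724, e3 q12545 (flp_d L209065) q16710, e3 q12546 (flp_d L177939) q8240, e3 q12547 (flp_d L209205) q16725, e3 q12548 (flp_d L209089) q16713, e3 q12549 L177963 q8248, e3 q12550 L177969 q9398, e3 q12551 L177983 q8249, e3 q12552 L177989 q8250, e3 q12553 L177995 q9393, e3 q12554 L178009 q8251, e3 q12555 (flp_d L199453) q15447, e3 q12556 L209279 q16735, e3 q12557 (flp_d L199484) q15450, e3 q12558 (flp_d L209219) q16727, e3 q12559 (flp_d L190383) q14170, e3 q12560 (flp_d L209235) q16729, e3 q12561 (flp_d L198901) q15343, e3 q12562 L209302 q16738, e3 q12563 (flp_d L198932) q15346, e3 q12564 (flp_d L209249) q16731, e3 q12565 (flp_d L190585) q14192, e3 q12566 (flp_d L209265) q16733, e3 q12567 L178097 q8903, e3 q12568 L178107 q8909, e3 q12569 L178119 q8915, e3 q12570 L178129 q8922, e3 q12571 L178147 q9215, e3 q12572 L178157 q10427, e3 q12573 (flp_d L185217) q13520, e3 q12574 L178169 q12220, e3 q12575 L178177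 q8931, e3 q12576 L178187 q8938, e3 q12577 L178205 q9252, e3 q12578 L178215 q10393, e3 q12579 (flp_d L185419) q13544, e3 q12580 L178227 q12279, e3 q12581 L178231 q8950, e3 q12582 (flp_d L178247) q9123, e3 q12583 L178251 q8962, e3 q12584 L178271 q8973, e3 q12585 L178293 q9120, e3 q12586 L178303 q8975, e3 q12587 L178315 q9003, e3 q12588 L178321 q9016, e3 q12589 (flp_d L178337) q9178, e3 q12590 L178341 q9039, e3 q12591 L178359 q9175, e3 q12592 L178365 q9065, e3 q12593 L178377 q11566, e3 q12594 L178387 q11618, e3 q12595 L178393 q9732, e3 q12596 L178407 q10942, e3 q12597 L178415 q9752, e3 q12598 L178429 q10954, e3 q12599 L178441 q8473, e3 q12600 L178455 q11842, e3 q12601 L178467 q8476, e3 q12602 L178481 q12054, e3 q12603 L178493 q8328, e3 q12604 L178503 q8331, e3 q12605 L178513 q11697, e3 q12606 L178523 q11710, e3 q12607 L178533 q8335, trivial⟩ (by decide +kernel)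

theorem ce_d_197 : ∀ r, r < 64 → sm gd (Qf (12608 + r)) = Qf (tab Gen.d (12608 + r)) :=
  edges_tab (sm gd) Qf (tab Gen.d) 12608 [(12608, 16294), (12609, 16315), (12610, 10804), (12611, 11719), (12612, 11703), (12613, 8343), (12614, 16447), (12615, 16463), (12616, 10723), (12617, 8362), (12618, 8363), (12619, 8370), (12620, 8371), (12621, 14781), (12622, 8359), (12623, 8361), (12624, 16752), (12625, 14836), (12626, 14528), (12627, 14834), (12628, 14531), (12629, 10522), (12630, 14533), (12631, 10524), (12632, 14815), (12633, 8367), (12634, 8369), (12635, 16760), (12636, 14804), (12637, 14479), (12638, 14802), (12639, 14482), (12640, 10472), (12641, 14484), (12642, 10474), (12643, 8388), (12644, 8392), (12645, 11260), (12646, 8397), (12647, 8399), (12648, 8400), (12649, 8401), (12650, 8403), (12651, 8406), (12652, 8407), (12653, 8411), (12654, 11420), (12655, 8416), (12656, 8418), (12657, 8419), (12658, 8420), (12659, 8422), (12660, 8425), (12661, 16768), (12662, 8389), (12663, 16778), (12664, 8497), (12665, 8391),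 (12666, 16781), (12667, 16782), (12668, 12682), (12669, 8502), (12670, 8395), (12671, 8396)]
    ⟨e3 q12608 (flp_d L205468) q16294, e3 q12609 (flp_d L205655) q16315, e3 q12610 (flp_d L178551) q10804, e3 q12611 L178557 q11719, e3 q12612 L178567 q11703, e3 q12613 L178579 q8343, e3 q12614 (flp_d L206779) q16447, e3 q12615 (flp_d L206936) q16463, e3 q12616 (flp_d L178597) q10723, e3 q12617 L178601 q8362, e3 q12618 L178609 q8363, e3 q12619 L178617 q8370, e3 q12620 L178625 q8371, e3 q12621 (flp_d L194749) q14781, e3 q12622 (flp_d L178637) q8359, e3 q12623 L178649 q8361, e3 q12624 (flp_d L209425) q16752, e3 q12625 (flp_d L195257) q14836, e3 q12626 L192849 q14528, e3 q12627 (flp_d L195237) q14834, e3 q12628 (flp_d L192871) q14531, e3 q12629 L178683 q10522, e3 q12630 (flp_d L192885) q14533, e3 q12631 L178701 q10524, e3 q12632 (flp_d L195059) q14815, e3 q12633 (flp_d L178715) q8367, e3 q12634 L178727 q8369, e3 q12635 (flp_d L209497) q16760, e3 q12636 (flp_d L194971) q14804, e3 q12637 L192527 q14479, e3 q12638 (flp_d L194951)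 q14802, e3 q12639 L192549 q14482, e3 q12640 L178761 q10472, e3 q12641 (flp_d L192563) q14484, e3 q12642 L178779 q10474, e3 q12643 L178791 q8388, e3 q12644 L178799 q8392, e3 q12645 L178807 q11260, e3 q12646 L178818 q8397, e3 q12647 L178830 q8399, e3 q12648 L178836 q8400, e3 q12649 L178844 q8401, e3 q12650 L178856 q8403, e3 q12651 L178870 q8406, e3 q12652 L178882 q8407, e3 q12653 L178890 q8411, e3 q12654 L178898 q11420, e3 q12655 L178909 q8416, e3 q12656 L178921 q8418, e3 q12657 L178927 q8419, e3 q12658 L178935 q8420, e3 q12659 L178947 q8422, e3 q12660 L178961 q8425, e3 q12661 (flp_d L209569) q16768, e3 q12662 (flp_d L178977) q8389, e3 q12663 (flp_d L209685) q16778, e3 q12664 L178991 q8497, e3 q12665 L178997 q8391, e3 q12666 (flp_d L209713) q16781, e3 q12667 L209715 q16782, e3 q12668 (flp_d L179105) q12682, e3 q12669 L179023 q8502, e3 q12670 L179029 q8395, e3 q12671 L179037 q8396, trivial⟩ (by decide +kernel)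

theorem ce_d_198 : ∀ r, r < 64 → sm gd (Qf (12672 + r)) = Qf (tab Gen.d (12672 + r)) :=
  edges_tab (sm gd) Qf (tab Gen.d) 12672 [(12672, 16784), (12673, 16786), (12674, 16788), (12675, 8398), (12676, 16791), (12677, 16771), (12678, 16772), (12679, 12834), (12680, 16794), (12681, 10620), (12682, 12668), (12683, 8402), (12684, 16797), (12685, 15302), (12686, 8520), (12687, 8405), (12688, 16801), (12689, 12266), (12690, 16773), (12691, 8408), (12692, 16804), (12693, 8526), (12694, 8410), (12695, 16807), (12696, 16808), (12697, 12710), (12698, 8531), (12699, 8414), (12700, 8415), (12701, 16810), (12702, 16812), (12703, 16814), (12704, 8417), (12705, 16817), (12706, 16776), (12707, 16777), (12708, 12839), (12709, 16820), (12710, 12697), (12711, 10569), (12712, 8421), (12713, 16823), (12714, 15249), (12715, 8549), (12716, 8424), (12717, 16827), (12718, 12324), (12719, 8557), (12720, 8428), (12721, 16833), (12722, 8429), (12723, 16068), (12724, 16832), (12725, 16835), (12726, 8566), (12727, 8433), (12728, 16840), (12729,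 8434), (12730, 16145), (12731, 16839), (12732, 16842), (12733, 14025), (12734, 14960), (12735, 14026)]
    ⟨e3 q12672 (flp_d L209729) q16784, e3 q12673 (flp_d L209739) q16786, e3 q12674 L209749 q16788, e3 q12675 (flp_d L179061) q8398, e3 q12676 (flp_d L209775) q16791, e3 q12677 (flp_d L209603) q16771, e3 q12678 (flp_d L209617) q16772, e3 q12679 L180295 q12834, e3 q12680 L209797 q16794, e3 q12681 L179095 q10620, e3 q12682 L179105 q12668, e3 q12683 (flp_d L179111) q8402, e3 q12684 (flp_d L209825) q16797, e3 q12685 L198621 q15302, e3 q12686 L179137 q8520, e3 q12687 L179141 q8405, e3 q12688 (flp_d L209857) q16801, e3 q12689 L179157 q12266, e3 q12690 (flp_d L209627) q16773, e3 q12691 (flp_d L179173) q8408, e3 q12692 (flp_d L209887) q16804, e3 q12693 L179187 q8526, e3 q12694 L179193 q8410, e3 q12695 (flp_d L209915) q16807, e3 q12696 L209917 q16808, e3 q12697 (flp_d L179293) q12710, e3 q12698 L179219 q8531, e3 q12699 L179225 q8414, e3 q12700 L179233 q8415, e3 q12701 (flp_d L209931) q16810, e3 q12702 (flp_d L209941) q16812,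 e3 q12703 L209951 q16814, e3 q12704 (flp_d L179257) q8417, e3 q12705 (flp_d L209977) q16817, e3 q12706 (flp_d L209661) q16776, e3 q12707 (flp_d L209675) q16777, e3 q12708 L180349 q12839, e3 q12709 L209999 q16820, e3 q12710 L179293 q12697, e3 q12711 L179301 q10569, e3 q12712 (flp_d L179309) q8421, e3 q12713 (flp_d L210027) q16823, e3 q12714 L198250 q15249, e3 q12715 L179335 q8549, e3 q12716 L179339 q8424, e3 q12717 (flp_d L210059) q16827, e3 q12718 L179355 q12324, e3 q12719 L179365 q8557, e3 q12720 L179371 q8428, e3 q12721 L210109 q16833, e3 q12722 L179379 q8429, e3 q12723 (flp_d L203763) q16068, e3 q12724 (flp_d L210105) q16832, e3 q12725 (flp_d L210127) q16835, e3 q12726 L179415 q8566, e3 q12727 L179421 q8433, e3 q12728 L210159 q16840, e3 q12729 L179429 q8434, e3 q12730 (flp_d L204275) q16145, e3 q12731 (flp_d L210155) q16839, e3 q12732 (flp_d L210177) q16842, e3 q12733 (flp_d L189239) q14025, e3 q12734 (flp_d L196331) q14960, e3 q12735 (flp_d L189253) q14026, trivial⟩ (by decide +kernel)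

theorem ce_d_199 : ∀ r, r < 64 → sm gd (Qf (12736 + r)) = Qf (tab Gen.d (12736 + r)) :=
  edges_tab (sm gd) Qf (tab Gen.d) 12736 [(12736, 9277), (12737, 8455), (12738, 13541), (12739, 9329), (12740, 8460), (12741, 13556), (12742, 14082), (12743, 14913), (12744, 14083), (12745, 9325), (12746, 8466), (12747, 13517), (12748, 9282), (12749, 8471), (12750, 13583), (12751, 8481), (12752, 13941), (12753, 8485), (12754, 16848), (12755, 8489), (12756, 13964), (12757, 8493), (12758, 16850), (12759, 10305), (12760, 16780), (12761, 8499), (12762, 8500), (12763, 16783), (12764, 8504), (12765, 14169), (12766, 12779), (12767, 16790), (12768, 9696), (12769, 9657), (12770, 12426), (12771, 13971), (12772, 12365), (12773, 13976), (12774, 11940), (12775, 10561), (12776, 11942), (12777, 11943), (12778, 16859), (12779, 12766), (12780, 16800), (12781, 14103), (12782, 9754), (12783, 12352), (12784, 10344), (12785, 16806), (12786, 8528), (12787, 8529), (12788, 16809), (12789, 8533), (12790, 14190), (12791, 12804), (12792, 16816), (12793,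 9674), (12794, 9664), (12795, 12471), (12796, 13950), (12797, 12406), (12798, 13956), (12799, 12144)]
    ⟨e3 q12736 (flp_d L179487) q9277, e3 q12737 (flp_d L179489) q8455, e3 q12738 (flp_d L185389) q13541, e3 q12739 L179509 q9329, e3 q12740 L179519 q8460, e3 q12741 (flp_d L185523) q13556, e3 q12742 (flp_d L189671) q14082, e3 q12743 (flp_d L195930) q14913, e3 q12744 (flp_d L189685) q14083, e3 q12745 (flp_d L179555) q9325, e3 q12746 (flp_d L179557) q8466, e3 q12747 (flp_d L185187) q13517, e3 q12748 L179577 q9282, e3 q12749 L179587 q8471, e3 q12750 (flp_d L185793) q13583, e3 q12751 (flp_d L179599) q8481, e3 q12752 (flp_d L188651) q13941, e3 q12753 L179613 q8485, e3 q12754 (flp_d L210215) q16848, e3 q12755 (flp_d L179627) q8489, e3 q12756 (flp_d L188805) q13964, e3 q12757 L179641 q8493, e3 q12758 (flp_d L210236) q16850, e3 q12759 L179661 q10305, e3 q12760 (flp_d L209705) q16780, e3 q12761 L179677 q8499, e3 q12762 (flp_d L179687) q8500, e3 q12763 (flp_d L209721) q16783, e3 q12764 L179707 q8504, e3 q12765 (flp_d L190375)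 q14169, e3 q12766 (flp_d L179829) q12779, e3 q12767 (flp_d L209771) q16790, e3 q12768 L179733 q9696, e3 q12769 L179745 q9657, e3 q12770 L179759 q12426, e3 q12771 (flp_d L188851) q13971, e3 q12772 L179769 q12365, e3 q12773 (flp_d L188893) q13976, e3 q12774 (flp_d L179783) q11940, e3 q12775 L179791 q10561, e3 q12776 L179801 q11942, e3 q12777 L179809 q11943, e3 q12778 L210319 q16859, e3 q12779 L179829 q12766, e3 q12780 (flp_d L209847) q16800, e3 q12781 L189865 q14103, e3 q12782 L179857 q9754, e3 q12783 L179867 q12352, e3 q12784 L179879 q10344, e3 q12785 (flp_d L209907) q16806, e3 q12786 L179895 q8528, e3 q12787 (flp_d L179905) q8529, e3 q12788 (flp_d L209923) q16809, e3 q12789 L179925 q8533, e3 q12790 (flp_d L190571) q14190, e3 q12791 (flp_d L180047) q12804, e3 q12792 (flp_d L209973) q16816, e3 q12793 L179951 q9674, e3 q12794 L179963 q9664, e3 q12795 L179977 q12471, e3 q12796 (flp_d L188707) q13950, e3 q12797 L179987 q12406, e3 q12798 (flp_d L188743) q13956, e3 q12799 (flp_d L180003) q12144, trivial⟩ (by decide +kernel)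

theorem ce_d_200 : ∀ r, r < 64 → sm gd (Qf (12800 + r)) = Qf (tab Gen.d (12800 + r)) :=
  edges_tab (sm gd) Qf (tab Gen.d) 12800 [(12800, 10574), (12801, 12146), (12802, 12147), (12803, 16868), (12804, 12791), (12805, 16826), (12806, 14049), (12807, 9734), (12808, 12398), (12809, 10313), (12810, 8556), (12811, 16070), (12812, 10465), (12813, 10350), (12814, 8565), (12815, 16147), (12816, 10516), (12817, 9578), (12818, 9844), (12819, 9616), (12820, 9792), (12821, 15341), (12822, 15445), (12823, 8597), (12824, 16873), (12825, 8599), (12826, 8600), (12827, 8601), (12828, 16880), (12829, 8603), (12830, 8604), (12831, 14158), (12832, 16875), (12833, 16876), (12834, 12679), (12835, 16878), (12836, 14179), (12837, 16882), (12838, 16883), (12839, 12708), (12840, 16885), (12841, 8611), (12842, 16889), (12843, 8613), (12844, 8606), (12845, 16894), (12846, 8615), (12847, 8616), (12848, 16900), (12849, 8618), (12850, 8609), (12851, 16905), (12852, 8620), (12853, 16886), (12854, 16908), (12855, 16887), (12856, 16888), (12857,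 14154), (12858, 16891), (12859, 16897), (12860, 16910), (12861, 16898), (12862, 16899), (12863, 14175)]
    ⟨e3 q12800 L180009 q10574, e3 q12801 L180019 q12146, e3 q12802 L180027 q12147, e3 q12803 L210407 q16868, e3 q12804 L180047 q12791, e3 q12805 (flp_d L210049) q16826, e3 q12806 L189433 q14049, e3 q12807 L180075 q9734, e3 q12808 L180085 q12398, e3 q12809 L180095 q10313, e3 q12810 L180105 q8556, e3 q12811 (flp_d L203779) q16070, e3 q12812 L180119 q10465, e3 q12813 L180127 q10350, e3 q12814 L180137 q8565, e3 q12815 (flp_d L204287) q16147, e3 q12816 L180151 q10516, e3 q12817 L180157 q9578, e3 q12818 L180171 q9844, e3 q12819 L180181 q9616, e3 q12820 L180195 q9792, e3 q12821 (flp_d L198886) q15341, e3 q12822 (flp_d L199438) q15445, e3 q12823 L180217 q8597, e3 q12824 L210461 q16873, e3 q12825 L180231 q8599, e3 q12826 L180235 q8600, e3 q12827 L180239 q8601, e3 q12828 L210515 q16880, e3 q12829 L180253 q8603, e3 q12830 L180257 q8604, e3 q12831 (flp_d L190293) q14158, e3 q12832 (flp_d L210479) q16875, e3 q12833 (flp_d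 L210487) q16876, e3 q12834 (flp_d L180295) q12679, e3 q12835 (flp_d L210499) q16878, e3 q12836 (flp_d L190459) q14179, e3 q12837 (flp_d L210533) q16882, e3 q12838 (flp_d L210541) q16883, e3 q12839 (flp_d L180349) q12708, e3 q12840 (flp_d L210553) q16885, e3 q12841 L180367 q8611, e3 q12842 L210587 q16889, e3 q12843 L180377 q8613, e3 q12844 (flp_d L180381) q8606, e3 q12845 (flp_d L210631) q16894, e3 q12846 L180393 q8615, e3 q12847 L180399 q8616, e3 q12848 L210683 q16900, e3 q12849 L180409 q8618, e3 q12850 (flp_d L180413) q8609, e3 q12851 (flp_d L210727) q16905, e3 q12852 L180425 q8620, e3 q12853 (flp_d L210561) q16886, e3 q12854 L210741 q16908, e3 q12855 (flp_d L210575) q16887, e3 q12856 (flp_d L210585) q16888, e3 q12857 (flp_d L190263) q14154, e3 q12858 (flp_d L210605) q16891, e3 q12859 (flp_d L210647) q16897, e3 q12860 L210757 q16910, e3 q12861 (flp_d L210661) q16898, e3 q12862 (flp_d L210667) q16899, e3 q12863 (flp_d L190429) q14175, trivial⟩ (by decide +kernel)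

theorem ce_d_201 : ∀ r, r < 64 → sm gd (Qf (12864 + r)) = Qf (tab Gen.d (12864 + r)) :=
  edges_tab (sm gd) Qf (tab Gen.d) 12864 [(12864, 16902), (12865, 10166), (12866, 10133), (12867, 8637), (12868, 13725), (12869, 8640), (12870, 8645), (12871, 15425), (12872, 8647), (12873, 8648), (12874, 10119), (12875, 8650), (12876, 8630), (12877, 15215), (12878, 8652), (12879, 8653), (12880, 13750), (12881, 8655), (12882, 8661), (12883, 15528), (12884, 8663), (12885, 8664), (12886, 10100), (12887, 8666), (12888, 8635), (12889, 15181), (12890, 8668), (12891, 8638), (12892, 16914), (12893, 8917), (12894, 8644), (12895, 16937), (12896, 11399), (12897, 16939), (12898, 16915), (12899, 15348), (12900, 16947), (12901, 16918), (12902, 14535), (12903, 11101), (12904, 14536), (12905, 16923), (12906, 8654), (12907, 16926), (12908, 8933), (12909, 8660), (12910, 16952), (12911, 11558), (12912, 16954), (12913, 16927), (12914, 15452), (12915, 16962), (12916, 16930), (12917, 14486), (12918, 11063), (12919, 14487), (12920, 16935), (12921,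 8695), (12922, 8701), (12923, 8709), (12924, 16971), (12925, 8711), (12926, 9971), (12927, 8719)]
    ⟨e3 q12864 (flp_d L210701) q16902, e3 q12865 L180539 q10166, e3 q12866 L180553 q10133, e3 q12867 L180563 q8637, e3 q12868 (flp_d L187055) q13725, e3 q12869 L180575 q8640, e3 q12870 L180579 q8645, e3 q12871 L199327 q15425, e3 q12872 L180589 q8647, e3 q12873 L180593 q8648, e3 q12874 (flp_d L180599) q10119, e3 q12875 L180605 q8650, e3 q12876 (flp_d L180609) q8630, e3 q12877 L198037 q15215, e3 q12878 L180625 q8652, e3 q12879 L180631 q8653, e3 q12880 (flp_d L187239) q13750, e3 q12881 L180643 q8655, e3 q12882 L180647 q8661, e3 q12883 L199967 q15528, e3 q12884 L180657 q8663, e3 q12885 L180661 q8664, e3 q12886 (flp_d L180667) q10100, e3 q12887 L180673 q8666, e3 q12888 (flp_d L180677) q8635, e3 q12889 L197857 q15181, e3 q12890 L180693 q8668, e3 q12891 (flp_d L180697) q8638, e3 q12892 (flp_d L210797) q16914, e3 q12893 L180719 q8917, e3 q12894 L180725 q8644, e3 q12895 (flp_d L210949) q16937, e3 q12896 (flp_d L180737) q11399,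 e3 q12897 (flp_d L210955) q16939, e3 q12898 (flp_d L210805) q16915, e3 q12899 (flp_d L198948) q15348, e3 q12900 L211015 q16947, e3 q12901 (flp_d L210817) q16918, e3 q12902 (flp_d L192899) q14535, e3 q12903 L180779 q11101, e3 q12904 (flp_d L192909) q14536, e3 q12905 (flp_d L210851) q16923, e3 q12906 (flp_d L180805) q8654, e3 q12907 (flp_d L210881) q16926, e3 q12908 L180827 q8933, e3 q12909 L180833 q8660, e3 q12910 (flp_d L211057) q16952, e3 q12911 (flp_d L180845) q11558, e3 q12912 (flp_d L211063) q16954, e3 q12913 (flp_d L210889) q16927, e3 q12914 (flp_d L199500) q15452, e3 q12915 L211123 q16962, e3 q12916 (flp_d L210901) q16930, e3 q12917 (flp_d L192577) q14486, e3 q12918 L180889 q11063, e3 q12919 (flp_d L192587) q14487, e3 q12920 (flp_d L210935) q16935, e3 q12921 L180921 q8695, e3 q12922 L180929 q8701, e3 q12923 L180935 q8709, e3 q12924 L211202 q16971, e3 q12925 L180943 q8711, e3 q12926 L180949 q9971, e3 q12927 L180963 q8719, trivial⟩ (by decide +kernel)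

theorem ce_d_202 : ∀ r, r < 64 → sm gd (Qf (12928 + r)) = Qf (tab Gen.d (12928 + r)) :=
  edges_tab (sm gd) Qf (tab Gen.d) 12928 [(12928, 8723), (12929, 8724), (12930, 16982), (12931, 8726), (12932, 8727), (12933, 8729), (12934, 8730), (12935, 8734), (12936, 8737), (12937, 8739), (12938, 8745), (12939, 8754), (12940, 16996), (12941, 8756), (12942, 9969), (12943, 8764), (12944, 8768), (12945, 8769), (12946, 17007), (12947, 8771), (12948, 8772), (12949, 8774), (12950, 8775), (12951, 8779), (12952, 8782), (12953, 8693), (12954, 17017), (12955, 17018), (12956, 16966), (12957, 8696), (12958, 17019), (12959, 17020), (12960, 14250), (12961, 8953), (12962, 8698), (12963, 8699), (12964, 17023), (12965, 17024), (12966, 17025), (12967, 16967), (12968, 17029), (12969, 16969), (12970, 15345), (12971, 8963), (12972, 8704), (12973, 8705), (12974, 17032), (12975, 17033), (12976, 17034), (12977, 8968), (12978, 8708), (12979, 17041), (12980, 17046), (12981, 17043), (12982, 15446), (12983, 17049), (12984, 15449), (12985, 8710), (12986,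 17053), (12987, 8978), (12988, 8979), (12989, 8715), (12990, 17061), (12991, 8717)]
    ⟨e3 q12928 L180967 q8723, e3 q12929 L180973 q8724, e3 q12930 L211280 q16982, e3 q12931 L180979 q8726, e3 q12932 L180987 q8727, e3 q12933 L180993 q8729, e3 q12934 L180999 q8730, e3 q12935 L181003 q8734, e3 q12936 L181007 q8737, e3 q12937 L181017 q8739, e3 q12938 L181025 q8745, e3 q12939 L181031 q8754, e3 q12940 L211395 q16996, e3 q12941 L181039 q8756, e3 q12942 L181045 q9969, e3 q12943 L181059 q8764, e3 q12944 L181065 q8768, e3 q12945 L181073 q8769, e3 q12946 L211479 q17007, e3 q12947 L181079 q8771, e3 q12948 L181087 q8772, e3 q12949 L181097 q8774, e3 q12950 L181105 q8775, e3 q12951 L181111 q8779, e3 q12952 L181117 q8782, e3 q12953 (flp_d L181123) q8693, e3 q12954 (flp_d L211579) q17017, e3 q12955 (flp_d L211589) q17018, e3 q12956 (flp_d L211159) q16966, e3 q12957 (flp_d L181157) q8696, e3 q12958 (flp_d L211599) q17019, e3 q12959 (flp_d L211605) q17020, e3 q12960 L190987 q14250, e3 q12961 L181183 q8953, e3 q12962 L181187 q8698,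 e3 q12963 L181191 q8699, e3 q12964 (flp_d L211627) q17023, e3 q12965 (flp_d L211633) q17024, e3 q12966 (flp_d L211639) q17025, e3 q12967 (flp_d L211171) q16967, e3 q12968 L211673 q17029, e3 q12969 (flp_d L211191) q16969, e3 q12970 (flp_d L198922) q15345, e3 q12971 L181253 q8963, e3 q12972 L181257 q8704, e3 q12973 L181261 q8705, e3 q12974 (flp_d L211699) q17032, e3 q12975 (flp_d L211705) q17033, e3 q12976 (flp_d L211713) q17034, e3 q12977 L181289 q8968, e3 q12978 L181297 q8708, e3 q12979 (flp_d L211757) q17041, e3 q12980 L211783 q17046, e3 q12981 (flp_d L211763) q17043, e3 q12982 (flp_d L199443) q15446, e3 q12983 L211805 q17049, e3 q12984 (flp_d L199474) q15449, e3 q12985 (flp_d L181343) q8710, e3 q12986 (flp_d L211833) q17053, e3 q12987 L181353 q8978, e3 q12988 L181363 q8979, e3 q12989 L181371 q8715, e3 q12990 L211887 q17061, e3 q12991 L181381 q8717, trivial⟩ (by decide +kernel)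

theorem ce_d_203 : ∀ r, r < 64 → sm gd (Qf (12992 + r)) = Qf (tab Gen.d (12992 + r)) :=
  edges_tab (sm gd) Qf (tab Gen.d) 12992 [(12992, 8718), (12993, 17059), (12994, 17069), (12995, 8716), (12996, 17072), (12997, 17063), (12998, 17064), (12999, 17080), (13000, 17066), (13001, 16973), (13002, 17085), (13003, 16975), (13004, 16976), (13005, 17089), (13006, 8720), (13007, 8765), (13008, 8722), (13009, 17091), (13010, 16977), (13011, 17095), (13012, 16979), (13013, 17097), (13014, 16981), (13015, 8725), (13016, 17099), (13017, 16984), (13018, 16985), (13019, 16986), (13020, 16072), (13021, 16987), (13022, 17103), (13023, 8731), (13024, 17106), (13025, 8767), (13026, 8733), (13027, 16989), (13028, 16990), (13029, 8738), (13030, 17108), (13031, 17109), (13032, 16991), (13033, 8741), (13034, 17110), (13035, 17111), (13036, 14270), (13037, 9020), (13038, 8743), (13039, 8744), (13040, 17114), (13041, 17115), (13042, 17116), (13043, 16992), (13044, 17120), (13045, 16994), (13046, 9029), (13047, 8749), (13048, 8750), (13049,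 17122), (13050, 17123), (13051, 17124), (13052, 9034), (13053, 8753), (13054, 17131), (13055, 17136)]
    ⟨e3 q12992 L181385 q8718, e3 q12993 (flp_d L211875) q17059, e3 q12994 L211949 q17069, e3 q12995 (flp_d L181405) q8716, e3 q12996 (flp_d L211979) q17072, e3 q12997 (flp_d L211911) q17063, e3 q12998 (flp_d L211917) q17064, e3 q12999 L212025 q17080, e3 q13000 (flp_d L211923) q17066, e3 q13001 (flp_d L211212) q16973, e3 q13002 L212061 q17085, e3 q13003 (flp_d L211228) q16975, e3 q13004 (flp_d L211236) q16976, e3 q13005 L212091 q17089, e3 q13006 (flp_d L181469) q8720, e3 q13007 L181485 q8765, e3 q13008 L181493 q8722, e3 q13009 (flp_d L212111) q17091, e3 q13010 (flp_d L211244) q16977, e3 q13011 L212145 q17095, e3 q13012 (flp_d L211260) q16979, e3 q13013 L212161 q17097, e3 q13014 (flp_d L211272) q16981, e3 q13015 (flp_d L181543) q8725, e3 q13016 (flp_d L212169) q17099, e3 q13017 (flp_d L211290) q16984, e3 q13018 (flp_d L211300) q16985, e3 q13019 (flp_d L211308) q16986, e3 q13020 (flp_d L203791) q16072, e3 q13021 (flp_d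 L211320) q16987, e3 q13022 L212205 q17103, e3 q13023 (flp_d L181601) q8731, e3 q13024 (flp_d L212225) q17106, e3 q13025 L181619 q8767, e3 q13026 L181625 q8733, e3 q13027 (flp_d L211334) q16989, e3 q13028 (flp_d L211342) q16990, e3 q13029 (flp_d L181645) q8738, e3 q13030 (flp_d L212245) q17108, e3 q13031 (flp_d L212257) q17109, e3 q13032 (flp_d L211350) q16991, e3 q13033 (flp_d L181679) q8741, e3 q13034 (flp_d L212267) q17110, e3 q13035 (flp_d L212273) q17111, e3 q13036 L191131 q14270, e3 q13037 L181705 q9020, e3 q13038 L181709 q8743, e3 q13039 L181713 q8744, e3 q13040 (flp_d L212295) q17114, e3 q13041 (flp_d L212299) q17115, e3 q13042 (flp_d L212307) q17116, e3 q13043 (flp_d L211362) q16992, e3 q13044 L212341 q17120, e3 q13045 (flp_d L211382) q16994, e3 q13046 L181771 q9029, e3 q13047 L181775 q8749, e3 q13048 L181779 q8750, e3 q13049 (flp_d L212355) q17122, e3 q13050 (flp_d L212361) q17123, e3 q13051 (flp_d L212369) q17124, e3 q13052 L181807 q9034, e3 q13053 L181815 q8753, e3 q13054 (flp_d L212413) q17131, e3 q13055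 L212439 q17136, trivial⟩ (by decide +kernel)

theorem ce_d_204 : ∀ r, r < 64 → sm gd (Qf (13056 + r)) = Qf (tab Gen.d (13056 + r)) :=
  edges_tab (sm gd) Qf (tab Gen.d) 13056 [(13056, 17133), (13057, 15342), (13058, 17139), (13059, 8755), (13060, 17142), (13061, 9043), (13062, 9044), (13063, 8760), (13064, 17150), (13065, 8762), (13066, 8763), (13067, 17148), (13068, 17156), (13069, 8761), (13070, 17158), (13071, 17152), (13072, 17065), (13073, 17166), (13074, 17153), (13075, 16998), (13076, 17170), (13077, 17000), (13078, 17001), (13079, 17071), (13080, 17105), (13081, 17002), (13082, 17177), (13083, 17004), (13084, 17178), (13085, 17006), (13086, 8770), (13087, 17180), (13088, 17009), (13089, 17010), (13090, 17011), (13091, 16149), (13092, 17012), (13093, 17183), (13094, 8776), (13095, 17185), (13096, 8778), (13097, 17014), (13098, 17015), (13099, 11031), (13100, 11030), (13101, 9081), (13102, 8786), (13103, 8787), (13104, 17187), (13105, 9554), (13106, 9083), (13107, 8792), (13108, 8793), (13109, 17189), (13110,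 17190), (13111, 9093), (13112, 17194), (13113, 9095), (13114, 9096), (13115, 8800), (13116, 9583), (13117, 8802), (13118, 8797), (13119, 17202)]
    ⟨e3 q13056 (flp_d L212419) q17133, e3 q13057 (flp_d L198891) q15342, e3 q13058 L212461 q17139, e3 q13059 (flp_d L181851) q8755, e3 q13060 (flp_d L212477) q17142, e3 q13061 L181861 q9043, e3 q13062 L181871 q9044, e3 q13063 L181879 q8760, e3 q13064 L212531 q17150, e3 q13065 L181889 q8762, e3 q13066 L181893 q8763, e3 q13067 (flp_d L212519) q17148, e3 q13068 L212593 q17156, e3 q13069 (flp_d L181913) q8761, e3 q13070 (flp_d L212615) q17158, e3 q13071 (flp_d L212555) q17152, e3 q13072 (flp_d L222549) q17065, e3 q13073 L212661 q17166, e3 q13074 (flp_d L212567) q17153, e3 q13075 (flp_d L211405) q16998, e3 q13076 L212689 q17170, e3 q13077 (flp_d L211421) q17000, e3 q13078 (flp_d L211431) q17001, e3 q13079 (flp_d L211975) q17071, e3 q13080 (flp_d L212221) q17105, e3 q13081 (flp_d L211439) q17002, e3 q13082 L212745 q17177, e3 q13083 (flp_d L211457) q17004, e3 q13084 L212753 q17178,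 e3 q13085 (flp_d L211471) q17006, e3 q13086 (flp_d L182023) q8770, e3 q13087 (flp_d L212761) q17180, e3 q13088 (flp_d L211489) q17009, e3 q13089 (flp_d L211501) q17010, e3 q13090 (flp_d L211515) q17011, e3 q13091 (flp_d L204305) q16149, e3 q13092 (flp_d L211525) q17012, e3 q13093 L212785 q17183, e3 q13094 (flp_d L182083) q8776, e3 q13095 (flp_d L212797) q17185, e3 q13096 L182099 q8778, e3 q13097 (flp_d L211541) q17014, e3 q13098 (flp_d L211551) q17015, e3 q13099 L182125 q11031, e3 q13100 L182137 q11030, e3 q13101 L182149 q9081, e3 q13102 L182159 q8786, e3 q13103 L182169 q8787, e3 q13104 (flp_d L212811) q17187, e3 q13105 L182185 q9554, e3 q13106 L182193 q9083, e3 q13107 L182201 q8792, e3 q13108 L182211 q8793, e3 q13109 (flp_d L212829) q17189, e3 q13110 (flp_d L212837) q17190, e3 q13111 L182227 q9093, e3 q13112 L212863 q17194, e3 q13113 L182239 q9095, e3 q13114 L182245 q9096, e3 q13115 L182251 q8800, e3 q13116 L187813 q9583, e3 q13117 L182269 q8802, e3 q13118 (flp_d L182273) q8797, e3 q13119 (flp_d L212937) q17202,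 trivial⟩ (by decide +kernel)

theorem ce_d_205 : ∀ r, r < 64 → sm gd (Qf (13120 + r)) = Qf (tab Gen.d (13120 + r)) :=
  edges_tab (sm gd) Qf (tab Gen.d) 13120 [(13120, 8805), (13121, 8806), (13122, 8807), (13123, 17211), (13124, 8808), (13125, 8801), (13126, 17215), (13127, 17201), (13128, 13820), (13129, 9104), (13130, 8804), (13131, 17223), (13132, 17224), (13133, 17205), (13134, 17207), (13135, 17208), (13136, 17210), (13137, 17213), (13138, 16028), (13139, 8809), (13140, 17233), (13141, 9115), (13142, 13222), (13143, 11586), (13144, 17238), (13145, 8813), (13146, 17243), (13147, 17244), (13148, 17247), (13149, 9122), (13150, 8815), (13151, 8816), (13152, 17251), (13153, 17252), (13154, 13228), (13155, 13897), (13156, 13229), (13157, 13230), (13158, 11069), (13159, 11068), (13160, 9135), (13161, 8823), (13162, 8824), (13163, 17263), (13164, 9592), (13165, 9137), (13166, 8829), (13167, 8830), (13168, 17265), (13169, 17266), (13170, 9147), (13171, 17270), (13172, 9149), (13173, 9150), (13174, 8837), (13175, 9621),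 (13176, 8839), (13177, 8834), (13178, 17278), (13179, 8842), (13180, 8843), (13181, 8844), (13182, 17287), (13183, 8845)]
    ⟨e3 q13120 L182281 q8805, e3 q13121 L182289 q8806, e3 q13122 L182295 q8807, e3 q13123 L212985 q17211, e3 q13124 L182303 q8808, e3 q13125 (flp_d L182307) q8801, e3 q13126 (flp_d L213019) q17215, e3 q13127 (flp_d L212925) q17201, e3 q13128 (flp_d L187803) q13820, e3 q13129 L182335 q9104, e3 q13130 L182339 q8804, e3 q13131 (flp_d L213069) q17223, e3 q13132 (flp_d L213077) q17224, e3 q13133 (flp_d L212953) q17205, e3 q13134 (flp_d L212963) q17207, e3 q13135 (flp_d L212969) q17208, e3 q13136 (flp_d L212981) q17210, e3 q13137 (flp_d L212999) q17213, e3 q13138 (flp_d L203499) q16028, e3 q13139 (flp_d L182391) q8809, e3 q13140 (flp_d L213139) q17233, e3 q13141 L182409 q9115, e3 q13142 (flp_d L182914) q13222, e3 q13143 L182419 q11586, e3 q13144 L213163 q17238, e3 q13145 (flp_d L182425) q8813, e3 q13146 (flp_d L213195) q17243, e3 q13147 (flp_d L213201) q17244, e3 q13148 L213221 q17247, e3 q13149 L182447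 q9122, e3 q13150 L182451 q8815, e3 q13151 L182456 q8816, e3 q13152 (flp_d L213237) q17251, e3 q13153 (flp_d L213245) q17252, e3 q13154 (flp_d L182956) q13228, e3 q13155 (flp_d L188306) q13897, e3 q13156 (flp_d L182960) q13229, e3 q13157 (flp_d L182965) q13230, e3 q13158 L182487 q11069, e3 q13159 L182499 q11068, e3 q13160 L182511 q9135, e3 q13161 L182519 q8823, e3 q13162 L182527 q8824, e3 q13163 (flp_d L213313) q17263, e3 q13164 L182547 q9592, e3 q13165 L182555 q9137, e3 q13166 L182561 q8829, e3 q13167 L182571 q8830, e3 q13168 (flp_d L213331) q17265, e3 q13169 (flp_d L213335) q17266, e3 q13170 L182589 q9147, e3 q13171 L213365 q17270, e3 q13172 L182601 q9149, e3 q13173 L182607 q9150, e3 q13174 L182613 q8837, e3 q13175 L188159 q9621, e3 q13176 L182631 q8839, e3 q13177 (flp_d L182635) q8834, e3 q13178 (flp_d L213439) q17278, e3 q13179 L182643 q8842, e3 q13180 L182651 q8843, e3 q13181 L182657 q8844, e3 q13182 L213487 q17287, e3 q13183 L182665 q8845, trivial⟩ (by decide +kernel)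

theorem ce_d_206 : ∀ r, r < 64 → sm gd (Qf (13184 + r)) = Qf (tab Gen.d (13184 + r)) :=
  edges_tab (sm gd) Qf (tab Gen.d) 13184 [(13184, 8838), (13185, 17291), (13186, 17277), (13187, 13869), (13188, 9158), (13189, 8841), (13190, 17299), (13191, 17300), (13192, 17281), (13193, 17283), (13194, 17284), (13195, 17286), (13196, 17289), (13197, 16104), (13198, 8846), (13199, 17309), (13200, 9169), (13201, 13242), (13202, 11638), (13203, 17314), (13204, 8850), (13205, 17319), (13206, 17320), (13207, 17323), (13208, 9176), (13209, 8852), (13210, 8853), (13211, 17327), (13212, 17328), (13213, 13248), (13214, 13910), (13215, 13249), (13216, 13250), (13217, 8858), (13218, 17338), (13219, 8860), (13220, 17340), (13221, 15293), (13222, 13142), (13223, 11370), (13224, 8863), (13225, 17348), (13226, 17349), (13227, 11672), (13228, 13154), (13229, 13156), (13230, 13157), (13231, 8866), (13232, 17358), (13233, 17360), (13234, 13919), (13235, 8868), (13236, 8869), (13237, 8872), (13238, 17366), (13239, 8874), (13240, 17368), (13241,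 15240), (13242, 13201), (13243, 11529), (13244, 8877), (13245, 17376), (13246, 17377), (13247, 11679)]
    ⟨e3 q13184 (flp_d L182669) q8838, e3 q13185 (flp_d L213521) q17291, e3 q13186 (flp_d L213427) q17277, e3 q13187 (flp_d L188149) q13869, e3 q13188 L182697 q9158, e3 q13189 L182701 q8841, e3 q13190 (flp_d L213571) q17299, e3 q13191 (flp_d L213579) q17300, e3 q13192 (flp_d L213455) q17281, e3 q13193 (flp_d L213465) q17283, e3 q13194 (flp_d L213471) q17284, e3 q13195 (flp_d L213483) q17286, e3 q13196 (flp_d L213501) q17289, e3 q13197 (flp_d L203999) q16104, e3 q13198 (flp_d L182771) q8846, e3 q13199 (flp_d L213647) q17309, e3 q13200 L182791 q9169, e3 q13201 (flp_d L183057) q13242, e3 q13202 L182801 q11638, e3 q13203 L213673 q17314, e3 q13204 (flp_d L182807) q8850, e3 q13205 (flp_d L213705) q17319, e3 q13206 (flp_d L213711) q17320, e3 q13207 L213731 q17323, e3 q13208 L182833 q9176, e3 q13209 L182837 q8852, e3 q13210 L182841 q8853, e3 q13211 (flp_d L213747) q17327, e3 q13212 (flp_d L213755) q17328, e3 q13213 (flp_d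 L183107) q13248, e3 q13214 (flp_d L188378) q13910, e3 q13215 (flp_d L183113) q13249, e3 q13216 (flp_d L183119) q13250, e3 q13217 L182879 q8858, e3 q13218 (flp_d L213813) q17338, e3 q13219 L182895 q8860, e3 q13220 (flp_d L213826) q17340, e3 q13221 (flp_d L198561) q15293, e3 q13222 L182914 q13142, e3 q13223 (flp_d L182922) q11370, e3 q13224 (flp_d L182924) q8863, e3 q13225 (flp_d L213899) q17348, e3 q13226 (flp_d L213909) q17349, e3 q13227 L182952 q11672, e3 q13228 L182956 q13154, e3 q13229 L182960 q13156, e3 q13230 L182965 q13157, e3 q13231 (flp_d L182969) q8866, e3 q13232 (flp_d L213982) q17358, e3 q13233 L213994 q17360, e3 q13234 (flp_d L188440) q13919, e3 q13235 L182993 q8868, e3 q13236 L182998 q8869, e3 q13237 L183018 q8872, e3 q13238 (flp_d L214118) q17366, e3 q13239 L183034 q8874, e3 q13240 (flp_d L214131) q17368, e3 q13241 (flp_d L198190) q15240, e3 q13242 L183057 q13201, e3 q13243 (flp_d L183067) q11529, e3 q13244 (flp_d L183069) q8877, e3 q13245 (flp_d L214208) q17376, e3 q13246 (flp_d L214218) q17377, e3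 q13247 L183101 q11679, trivial⟩ (by decide +kernel)

theorem ce_d_207 : ∀ r, r < 64 → sm gd (Qf (13248 + r)) = Qf (tab Gen.d (13248 + r)) :=
  edges_tab (sm gd) Qf (tab Gen.d) 13248 [(13248, 13213), (13249, 13215), (13250, 13216), (13251, 8880), (13252, 17386), (13253, 13927), (13254, 8882), (13255, 10416), (13256, 10382), (13257, 16936), (13258, 8921), (13259, 14959), (13260, 14783), (13261, 13989), (13262, 10379), (13263, 14854), (13264, 9174), (13265, 9168), (13266, 9177), (13267, 12381), (13268, 14889), (13269, 10772), (13270, 16951), (13271, 8937), (13272, 14912), (13273, 14817), (13274, 14008), (13275, 10413), (13276, 14886), (13277, 9121), (13278, 9114), (13279, 9124), (13280, 14857), (13281, 12335), (13282, 10688), (13283, 17016), (13284, 17022), (13285, 12241), (13286, 10490), (13287, 12028), (13288, 10462), (13289, 9099), (13290, 17031), (13291, 8966), (13292, 8967), (13293, 9788), (13294, 11951), (13295, 14041), (13296, 14028), (13297, 14797), (13298, 17040), (13299, 8970), (13300, 8987), (13301, 8972),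 (13302, 14799), (13303, 10460), (13304, 9786), (13305, 9776), (13306, 9153), (13307, 17052), (13308, 14053), (13309, 17055), (13310, 17057), (13311, 17058)]
    ⟨e3 q13248 L183107 q13213, e3 q13249 L183113 q13215, e3 q13250 L183119 q13216, e3 q13251 (flp_d L183124) q8880, e3 q13252 L214315 q17386, e3 q13253 (flp_d L188522) q13927, e3 q13254 L183148 q8882, e3 q13255 L183173 q10416, e3 q13256 L183181 q10382, e3 q13257 (flp_d L210943) q16936, e3 q13258 (flp_d L183197) q8921, e3 q13259 (flp_d L196321) q14959, e3 q13260 (flp_d L194765) q14783, e3 q13261 L189015 q13989, e3 q13262 L183229 q10379, e3 q13263 (flp_d L195424) q14854, e3 q13264 L183247 q9174, e3 q13265 L183251 q9168, e3 q13266 L183263 q9177, e3 q13267 L183271 q12381, e3 q13268 (flp_d L195727) q14889, e3 q13269 L183279 q10772, e3 q13270 (flp_d L211051) q16951, e3 q13271 L183291 q8937, e3 q13272 (flp_d L195920) q14912, e3 q13273 (flp_d L195075) q14817, e3 q13274 L189137 q14008, e3 q13275 L183311 q10413, e3 q13276 (flp_d L195709) q14886, e3 q13277 L183329 q9121,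 e3 q13278 L183333 q9114, e3 q13279 L183345 q9124, e3 q13280 (flp_d L195440) q14857, e3 q13281 L183355 q12335, e3 q13282 L183361 q10688, e3 q13283 (flp_d L211567) q17016, e3 q13284 (flp_d L211621) q17022, e3 q13285 L183385 q12241, e3 q13286 (flp_d L183395) q10490, e3 q13287 L183403 q12028, e3 q13288 L183441 q10462, e3 q13289 L183459 q9099, e3 q13290 (flp_d L211693) q17031, e3 q13291 L183469 q8966, e3 q13292 L183481 q8967, e3 q13293 L183487 q9788, e3 q13294 L183493 q11951, e3 q13295 (flp_d L189375) q14041, e3 q13296 L189275 q14028, e3 q13297 (flp_d L194899) q14797, e3 q13298 (flp_d L211751) q17040, e3 q13299 L183517 q8970, e3 q13300 (flp_d L183527) q8987, e3 q13301 L183537 q8972, e3 q13302 (flp_d L194921) q14799, e3 q13303 L183565 q10460, e3 q13304 L183577 q9786, e3 q13305 L183583 q9776, e3 q13306 L183595 q9153, e3 q13307 (flp_d L211829) q17052, e3 q13308 (flp_d L189469) q14053, e3 q13309 (flp_d L211845) q17055, e3 q13310 (flp_d L211859) q17057, e3 q13311 (flp_d L211867) q17058, trivial⟩ (by decide +kernel)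

theorem ce_d_208 : ∀ r, r < 64 → sm gd (Qf (13312 + r)) = Qf (tab Gen.d (13312 + r)) :=
  edges_tab (sm gd) Qf (tab Gen.d) 13312 [(13312, 8988), (13313, 10403), (13314, 10400), (13315, 8984), (13316, 9106), (13317, 8986), (13318, 9071), (13319, 14030), (13320, 12262), (13321, 14029), (13322, 11933), (13323, 14038), (13324, 9775), (13325, 14040), (13326, 9777), (13327, 14898), (13328, 9160), (13329, 8992), (13330, 17410), (13331, 14894), (13332, 9049), (13333, 9050), (13334, 9070), (13335, 11743), (13336, 11752), (13337, 14055), (13338, 11795), (13339, 10467), (13340, 16388), (13341, 9008), (13342, 11785), (13343, 9010), (13344, 17107), (13345, 17113), (13346, 10536), (13347, 12211), (13348, 10511), (13349, 12298), (13350, 17121), (13351, 9031), (13352, 9032), (13353, 12154), (13354, 14097), (13355, 14085), (13356, 14828), (13357, 9841), (13358, 17130), (13359, 9036), (13360, 9051), (13361, 9038), (13362, 14831), (13363, 10509), (13364, 9839), (13365, 9830), (13366, 17141), (13367, 14107), (13368, 17144), (13369,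 17146), (13370, 17147), (13371, 9052), (13372, 10437), (13373, 10434), (13374, 14087), (13375, 12319)]
    ⟨e3 q13312 L183633 q8988, e3 q13313 L183643 q10403, e3 q13314 L183655 q10400, e3 q13315 (flp_d L183659) q8984, e3 q13316 L183673 q9106, e3 q13317 L183683 q8986, e3 q13318 L183689 q9071, e3 q13319 (flp_d L189297) q14030, e3 q13320 (flp_d L183701) q12262, e3 q13321 (flp_d L189285) q14029, e3 q13322 L183707 q11933, e3 q13323 (flp_d L189355) q14038, e3 q13324 L183721 q9775, e3 q13325 (flp_d L189367) q14040, e3 q13326 L183735 q9777, e3 q13327 (flp_d L195801) q14898, e3 q13328 (flp_d L183751) q9160, e3 q13329 (flp_d L183753) q8992, e3 q13330 (flp_d L214629) q17410, e3 q13331 L195771 q14894, e3 q13332 L183773 q9049, e3 q13333 L183787 q9050, e3 q13334 L183793 q9070, e3 q13335 L183803 q11743, e3 q13336 L183815 q11752, e3 q13337 (flp_d L189483) q14055, e3 q13338 L183825 q11795, e3 q13339 L183837 q10467, e3 q13340 (flp_d L206258) q16388, e3 q13341 (flp_d L183849) q9008, e3 q13342 L183861 q11785, e3 q13343 L183865 q9010,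 e3 q13344 (flp_d L212235) q17107, e3 q13345 (flp_d L212289) q17113, e3 q13346 (flp_d L183893) q10536, e3 q13347 L183903 q12211, e3 q13348 L183915 q10511, e3 q13349 L183925 q12298, e3 q13350 (flp_d L212349) q17121, e3 q13351 L183937 q9031, e3 q13352 L183949 q9032, e3 q13353 L183955 q12154, e3 q13354 (flp_d L189805) q14097, e3 q13355 L189705 q14085, e3 q13356 (flp_d L195177) q14828, e3 q13357 L183971 q9841, e3 q13358 (flp_d L212407) q17130, e3 q13359 L183985 q9036, e3 q13360 (flp_d L183995) q9051, e3 q13361 L184005 q9038, e3 q13362 (flp_d L195207) q14831, e3 q13363 L184019 q10509, e3 q13364 L184031 q9839, e3 q13365 L184037 q9830, e3 q13366 (flp_d L212473) q17141, e3 q13367 (flp_d L189901) q14107, e3 q13368 (flp_d L212489) q17144, e3 q13369 (flp_d L212503) q17146, e3 q13370 (flp_d L212511) q17147, e3 q13371 L184075 q9052, e3 q13372 L184085 q10437, e3 q13373 L184097 q10434, e3 q13374 (flp_d L189729) q14087, e3 q13375 (flp_d L184109) q12319, trivial⟩ (by decide +kernel)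

theorem ce_d_209 : ∀ r, r < 64 → sm gd (Qf (13376 + r)) = Qf (tab Gen.d (13376 + r)) :=
  edges_tab (sm gd) Qf (tab Gen.d) 13376 [(13376, 14086), (13377, 12138), (13378, 14095), (13379, 9829), (13380, 9831), (13381, 14869), (13382, 9056), (13383, 14863), (13384, 17426), (13385, 10517), (13386, 16507), (13387, 11897), (13388, 11851), (13389, 9079), (13390, 9080), (13391, 13605), (13392, 17430), (13393, 11814), (13394, 12447), (13395, 11816), (13396, 9739), (13397, 9087), (13398, 9614), (13399, 9371), (13400, 9092), (13401, 9094), (13402, 17196), (13403, 17197), (13404, 17438), (13405, 9108), (13406, 9101), (13407, 17214), (13408, 11934), (13409, 9806), (13410, 14185), (13411, 10486), (13412, 9105), (13413, 17222), (13414, 13485), (13415, 17427), (13416, 12219), (13417, 14071), (13418, 12263), (13419, 10374), (13420, 9112), (13421, 14872), (13422, 17232), (13423, 17397), (13424, 12126), (13425, 11476), (13426, 10587), (13427, 9118), (13428, 17445), (13429, 16384), (13430, 17242), (13431, 16744), (13432, 17396), (13433,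 15219), (13434, 13466), (13435, 13508), (13436, 14165), (13437, 12463), (13438, 14171), (13439, 12106)]
    ⟨e3 q13376 (flp_d L189717) q14086, e3 q13377 L184115 q12138, e3 q13378 (flp_d L189787) q14095, e3 q13379 L184129 q9829, e3 q13380 L184137 q9831, e3 q13381 (flp_d L195544) q14869, e3 q13382 (flp_d L184147) q9056, e3 q13383 L195490 q14863, e3 q13384 (flp_d L214791) q17426, e3 q13385 L184167 q10517, e3 q13386 (flp_d L207297) q16507, e3 q13387 L184181 q11897, e3 q13388 L184195 q11851, e3 q13389 L184205 q9079, e3 q13390 L184217 q9080, e3 q13391 L186016 q13605, e3 q13392 (flp_d L214833) q17430, e3 q13393 L184232 q11814, e3 q13394 L205203 q12447, e3 q13395 L184242 q11816, e3 q13396 L184252 q9739, e3 q13397 L184256 q9087, e3 q13398 L184266 q9614, e3 q13399 L184280 q9371, e3 q13400 L184288 q9092, e3 q13401 (flp_d L184296) q9094, e3 q13402 (flp_d L212877) q17196, e3 q13403 (flp_d L212887) q17197, e3 q13404 L214910 q17438, e3 q13405 L184336 q9108, e3 q13406 L184350 q9101, e3 q13407 (flp_d L213011) q17214, e3 q13408 L184362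 q11934, e3 q13409 L184368 q9806, e3 q13410 L190523 q14185, e3 q13411 L184380 q10486, e3 q13412 L184386 q9105, e3 q13413 (flp_d L213063) q17222, e3 q13414 (flp_d L184912) q13485, e3 q13415 (flp_d L214799) q17427, e3 q13416 L184408 q12219, e3 q13417 L189601 q14071, e3 q13418 L184424 q12263, e3 q13419 L184434 q10374, e3 q13420 (flp_d L184438) q9112, e3 q13421 (flp_d L195568) q14872, e3 q13422 (flp_d L213135) q17232, e3 q13423 (flp_d L214505) q17397, e3 q13424 L184462 q12126, e3 q13425 L184476 q11476, e3 q13426 L184482 q10587, e3 q13427 (flp_d L184488) q9118, e3 q13428 (flp_d L214990) q17445, e3 q13429 (flp_d L206224) q16384, e3 q13430 (flp_d L213189) q17242, e3 q13431 (flp_d L209357) q16744, e3 q13432 (flp_d L214493) q17396, e3 q13433 L198072 q15219, e3 q13434 (flp_d L184826) q13466, e3 q13435 (flp_d L185129) q13508, e3 q13436 (flp_d L190337) q14165, e3 q13437 L184537 q12463, e3 q13438 (flp_d L190390) q14171, e3 q13439 L184551 q12106, trivial⟩ (by decide +kernel)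

theorem ce_d_210 : ∀ r, r < 64 → sm gd (Qf (13440 + r)) = Qf (tab Gen.d (13440 + r)) :=
  edges_tab (sm gd) Qf (tab Gen.d) 13440 [(13440, 12063), (13441, 9133), (13442, 9134), (13443, 17455), (13444, 13606), (13445, 9759), (13446, 12031), (13447, 12483), (13448, 11975), (13449, 9141), (13450, 9576), (13451, 9373), (13452, 9146), (13453, 9148), (13454, 17272), (13455, 17273), (13456, 17463), (13457, 9162), (13458, 9155), (13459, 17290), (13460, 12139), (13461, 9860), (13462, 14164), (13463, 10533), (13464, 9159), (13465, 17298), (13466, 13434), (13467, 17411), (13468, 12278), (13469, 14122), (13470, 12320), (13471, 10408), (13472, 9166), (13473, 14866), (13474, 17308), (13475, 17393), (13476, 11920), (13477, 11317), (13478, 10636), (13479, 9172), (13480, 16505), (13481, 17470), (13482, 17318), (13483, 17392), (13484, 16745), (13485, 13414), (13486, 15272), (13487, 13532), (13488, 14186), (13489, 12497), (13490, 14191), (13491, 10300), (13492, 9557), (13493, 9772), (13494, 9691), (13495, 13714), (13496, 9234), (13497,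 13718), (13498, 9778), (13499, 9197), (13500, 9484), (13501, 9826), (13502, 10705), (13503, 9205)]
    ⟨e3 q13440 L184565 q12063, e3 q13441 L184575 q9133, e3 q13442 L184587 q9134, e3 q13443 (flp_d L215068) q17455, e3 q13444 L186027 q13606, e3 q13445 L184606 q9759, e3 q13446 L184610 q12031, e3 q13447 (flp_d L184622) q12483, e3 q13448 L184626 q11975, e3 q13449 L184632 q9141, e3 q13450 L184642 q9576, e3 q13451 L184656 q9373, e3 q13452 L184664 q9146, e3 q13453 (flp_d L184672) q9148, e3 q13454 (flp_d L213379) q17272, e3 q13455 (flp_d L213389) q17273, e3 q13456 L215149 q17463, e3 q13457 L184712 q9162, e3 q13458 L184726 q9155, e3 q13459 (flp_d L213513) q17290, e3 q13460 L184738 q12139, e3 q13461 L184744 q9860, e3 q13462 L190327 q14164, e3 q13463 L184756 q10533, e3 q13464 L184762 q9159, e3 q13465 (flp_d L213565) q17298, e3 q13466 L184826 q13434, e3 q13467 (flp_d L214637) q17411, e3 q13468 L184786 q12278, e3 q13469 L190027 q14122, e3 q13470 L184802 q12320, e3 q13471 L184812 q10408, e3 q13472 (flp_d L184816) q9166, e3 q13473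 (flp_d L195516) q14866, e3 q13474 (flp_d L213643) q17308, e3 q13475 (flp_d L214467) q17393, e3 q13476 L184854 q11920, e3 q13477 L184868 q11317, e3 q13478 L184874 q10636, e3 q13479 (flp_d L184880) q9172, e3 q13480 (flp_d L207271) q16505, e3 q13481 (flp_d L215231) q17470, e3 q13482 (flp_d L213699) q17318, e3 q13483 (flp_d L214457) q17392, e3 q13484 (flp_d L209369) q16745, e3 q13485 L184912 q13414, e3 q13486 L198429 q15272, e3 q13487 (flp_d L185331) q13532, e3 q13488 (flp_d L190533) q14186, e3 q13489 L184937 q12497, e3 q13490 (flp_d L190577) q14191, e3 q13491 L184951 q10300, e3 q13492 L184965 q9557, e3 q13493 L184973 q9772, e3 q13494 L184987 q9691, e3 q13495 (flp_d L186965) q13714, e3 q13496 L185011 q9234, e3 q13497 (flp_d L187001) q13718, e3 q13498 L185031 q9778, e3 q13499 L185043 q9197, e3 q13500 L185059 q9484, e3 q13501 L185071 q9826, e3 q13502 L185087 q10705, e3 q13503 (flp_d L185089) q9205, trivial⟩ (by decide +kernel)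

theorem ce_d_211 : ∀ r, r < 64 → sm gd (Qf (13504 + r)) = Qf (tab Gen.d (13504 + r)) :=
  edges_tab (sm gd) Qf (tab Gen.d) 13504 [(13504, 17480), (13505, 9207), (13506, 12232), (13507, 9208), (13508, 13435), (13509, 17484), (13510, 9336), (13511, 9212), (13512, 14137), (13513, 16223), (13514, 14138), (13515, 14139), (13516, 14140), (13517, 12747), (13518, 14142), (13519, 14143), (13520, 12573), (13521, 10298), (13522, 9594), (13523, 9713), (13524, 9477), (13525, 9771), (13526, 10787), (13527, 9241), (13528, 17489), (13529, 9244), (13530, 12291), (13531, 9243), (13532, 13487), (13533, 17493), (13534, 9291), (13535, 9248), (13536, 14146), (13537, 16253), (13538, 14147), (13539, 14148), (13540, 14149), (13541, 12738), (13542, 14150), (13543, 14152), (13544, 12579), (13545, 13706), (13546, 9467), (13547, 14916), (13548, 14914), (13549, 13705), (13550, 9339), (13551, 10661), (13552, 9265), (13553, 10666), (13554, 10685), (13555, 10766), (13556, 12741), (13557, 14925), (13558, 14755), (13559, 10763), (13560, 9285), (13561,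 14973), (13562, 14929), (13563, 16663), (13564, 10743), (13565, 9297), (13566, 9298), (13567, 10768)]
    ⟨e3 q13504 (flp_d L215321) q17480, e3 q13505 (flp_d L185107) q9207, e3 q13506 L185117 q12232, e3 q13507 L185123 q9208, e3 q13508 L185129 q13435, e3 q13509 L215355 q17484, e3 q13510 (flp_d L185141) q9336, e3 q13511 (flp_d L185143) q9212, e3 q13512 (flp_d L190121) q14137, e3 q13513 (flp_d L204861) q16223, e3 q13514 (flp_d L190127) q14138, e3 q13515 (flp_d L190135) q14139, e3 q13516 (flp_d L190143) q14140, e3 q13517 L185187 q12747, e3 q13518 (flp_d L190162) q14142, e3 q13519 (flp_d L190172) q14143, e3 q13520 L185217 q12573, e3 q13521 L185221 q10298, e3 q13522 L185235 q9594, e3 q13523 L185245 q9713, e3 q13524 L185259 q9477, e3 q13525 L185271 q9771, e3 q13526 L185289 q10787, e3 q13527 (flp_d L185291) q9241, e3 q13528 (flp_d L215409) q17489, e3 q13529 (flp_d L185309) q9244, e3 q13530 L185319 q12291, e3 q13531 L185325 q9243, e3 q13532 L185331 q13487, e3 q13533 L215443 q17493, e3 q13534 (flp_d L185341) q9291, e3 q13535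 (flp_d L185345) q9248, e3 q13536 (flp_d L190194) q14146, e3 q13537 (flp_d L205109) q16253, e3 q13538 (flp_d L190200) q14147, e3 q13539 (flp_d L190208) q14148, e3 q13540 (flp_d L190220) q14149, e3 q13541 L185389 q12738, e3 q13542 (flp_d L190224) q14150, e3 q13543 (flp_d L190245) q14152, e3 q13544 L185419 q12579, e3 q13545 (flp_d L186885) q13706, e3 q13546 L185425 q9467, e3 q13547 (flp_d L195958) q14916, e3 q13548 (flp_d L195940) q14914, e3 q13549 (flp_d L186875) q13705, e3 q13550 (flp_d L185451) q9339, e3 q13551 L185461 q10661, e3 q13552 (flp_d L185469) q9265, e3 q13553 L185485 q10666, e3 q13554 L185497 q10685, e3 q13555 L185511 q10766, e3 q13556 L185523 q12741, e3 q13557 (flp_d L196051) q14925, e3 q13558 (flp_d L194508) q14755, e3 q13559 L185543 q10763, e3 q13560 L185551 q9285, e3 q13561 (flp_d L196464) q14973, e3 q13562 (flp_d L196089) q14929, e3 q13563 (flp_d L208658) q16663, e3 q13564 L185593 q10743, e3 q13565 L185603 q9297, e3 q13566 (flp_d L185609) q9298, e3 q13567 L185623 q10768, trivial⟩ (by decide +kernel)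

theorem ce_d_212 : ∀ r, r < 64 → sm gd (Qf (13568 + r)) = Qf (tab Gen.d (13568 + r)) :=
  edges_tab (sm gd) Qf (tab Gen.d) 13568 [(13568, 10769), (13569, 17500), (13570, 10748), (13571, 10775), (13572, 10741), (13573, 10773), (13574, 9306), (13575, 17501), (13576, 13708), (13577, 9472), (13578, 14963), (13579, 14961), (13580, 13707), (13581, 9318), (13582, 10682), (13583, 12750), (13584, 14776), (13585, 10679), (13586, 9332), (13587, 14977), (13588, 16645), (13589, 9340), (13590, 10684), (13591, 17505), (13592, 10691), (13593, 10689), (13594, 10659), (13595, 9348), (13596, 17506), (13597, 11884), (13598, 17510), (13599, 12500), (13600, 12093), (13601, 17514), (13602, 12502), (13603, 9358), (13604, 9359), (13605, 13391), (13606, 13444), (13607, 14173), (13608, 11888), (13609, 9363), (13610, 17517), (13611, 14194), (13612, 12097), (13613, 9366), (13614, 17519), (13615, 17520), (13616, 17521), (13617, 9370), (13618, 17523), (13619, 9372), (13620, 17525), (13621, 9380), (13622, 9381), (13623, 17528), (13624, 9383),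 (13625, 9384), (13626, 9385), (13627, 17532), (13628, 9387), (13629, 9609), (13630, 16268), (13631, 17526)]
    ⟨e3 q13568 L185647 q10769, e3 q13569 L215506 q17500, e3 q13570 L185665 q10748, e3 q13571 L185673 q10775, e3 q13572 L185685 q10741, e3 q13573 L185693 q10773, e3 q13574 (flp_d L185697) q9306, e3 q13575 (flp_d L215524) q17501, e3 q13576 (flp_d L186909) q13708, e3 q13577 L185719 q9472, e3 q13578 (flp_d L196357) q14963, e3 q13579 (flp_d L196341) q14961, e3 q13580 (flp_d L186899) q13707, e3 q13581 (flp_d L185761) q9318, e3 q13582 L185779 q10682, e3 q13583 L185793 q12750, e3 q13584 (flp_d L194701) q14776, e3 q13585 L185805 q10679, e3 q13586 L185815 q9332, e3 q13587 (flp_d L196502) q14977, e3 q13588 (flp_d L208485) q16645, e3 q13589 (flp_d L185849) q9340, e3 q13590 L185863 q10684, e3 q13591 L215556 q17505, e3 q13592 L185885 q10691, e3 q13593 L185899 q10689, e3 q13594 L185907 q10659, e3 q13595 (flp_d L185915) q9348, e3 q13596 (flp_d L215574) q17506, e3 q13597 L185935 q11884, e3 q13598 L215610 q17510, e3 q13599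 L185951 q12500, e3 q13600 L185959 q12093, e3 q13601 L215648 q17514, e3 q13602 L185975 q12502, e3 q13603 L185985 q9358, e3 q13604 L185999 q9359, e3 q13605 (flp_d L186016) q13391, e3 q13606 (flp_d L186027) q13444, e3 q13607 (flp_d L190408) q14173, e3 q13608 L186038 q11888, e3 q13609 (flp_d L186042) q9363, e3 q13610 (flp_d L215679) q17517, e3 q13611 (flp_d L190604) q14194, e3 q13612 L186062 q12097, e3 q13613 (flp_d L186068) q9366, e3 q13614 (flp_d L215695) q17519, e3 q13615 L215697 q17520, e3 q13616 L215707 q17521, e3 q13617 (flp_d L186099) q9370, e3 q13618 (flp_d L215727) q17523, e3 q13619 (flp_d L186117) q9372, e3 q13620 (flp_d L215743) q17525, e3 q13621 L186137 q9380, e3 q13622 L186147 q9381, e3 q13623 L215771 q17528, e3 q13624 L186161 q9383, e3 q13625 L186169 q9384, e3 q13626 L186179 q9385, e3 q13627 L215805 q17532, e3 q13628 L186193 q9387, e3 q13629 L186201 q9609, e3 q13630 L205236 q16268, e3 q13631 (flp_d L215753) q17526, trivial⟩ (by decide +kernel)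

theorem ce_d_213 : ∀ r, r < 64 → sm gd (Qf (13632 + r)) = Qf (tab Gen.d (13632 + r)) :=
  edges_tab (sm gd) Qf (tab Gen.d) 13632 [(13632, 13886), (13633, 16652), (13634, 13733), (13635, 9382), (13636, 17536), (13637, 13859), (13638, 9571), (13639, 16423), (13640, 17530), (13641, 13837), (13642, 16670), (13643, 13758), (13644, 9386), (13645, 17540), (13646, 13810), (13647, 9401), (13648, 9402), (13649, 9404), (13650, 9406), (13651, 11567), (13652, 17542), (13653, 17545), (13654, 13739), (13655, 17341), (13656, 13789), (13657, 17543), (13658, 11619), (13659, 17550), (13660, 13764), (13661, 17369), (13662, 13797), (13663, 11690), (13664, 11689), (13665, 9423), (13666, 9424), (13667, 11692), (13668, 11691), (13669, 17556), (13670, 17557), (13671, 9842), (13672, 9845), (13673, 16274), (13674, 9789), (13675, 9791), (13676, 16429), (13677, 9437), (13678, 13695), (13679, 9439), (13680, 9440), (13681, 13697), (13682, 9442), (13683, 9431), (13684, 9438), (13685, 9445), (13686, 9446), (13687, 13698), (13688, 9448), (13689,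 9449), (13690, 13700), (13691, 9451), (13692, 9435), (13693, 9447), (13694, 9454), (13695, 13678)]
    ⟨e3 q13632 (flp_d L188239) q13886, e3 q13633 (flp_d L208560) q16652, e3 q13634 (flp_d L187103) q13733, e3 q13635 (flp_d L186246) q9382, e3 q13636 (flp_d L215837) q17536, e3 q13637 (flp_d L188031) q13859, e3 q13638 L186264 q9571, e3 q13639 L206555 q16423, e3 q13640 (flp_d L215787) q17530, e3 q13641 (flp_d L187893) q13837, e3 q13642 (flp_d L208733) q16670, e3 q13643 (flp_d L187287) q13758, e3 q13644 (flp_d L186309) q9386, e3 q13645 (flp_d L215873) q17540, e3 q13646 (flp_d L187685) q13810, e3 q13647 L186333 q9401, e3 q13648 L186341 q9402, e3 q13649 L186351 q9404, e3 q13650 L186359 q9406, e3 q13651 L186371 q11567, e3 q13652 (flp_d L215891) q17542, e3 q13653 L215919 q17545, e3 q13654 (flp_d L187147) q13739, e3 q13655 (flp_d L213843) q17341, e3 q13656 (flp_d L187551) q13789, e3 q13657 (flp_d L215903) q17543, e3 q13658 L186423 q11619, e3 q13659 L215962 q17550, e3 q13660 (flp_d L187335) q13764, e3 q13661 (flp_d L214148)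 q17369, e3 q13662 (flp_d L187609) q13797, e3 q13663 L186461 q11690, e3 q13664 L186475 q11689, e3 q13665 L186485 q9423, e3 q13666 L186494 q9424, e3 q13667 L186503 q11692, e3 q13668 L186510 q11691, e3 q13669 L216021 q17556, e3 q13670 L216030 q17557, e3 q13671 L186533 q9842, e3 q13672 L186547 q9845, e3 q13673 (flp_d L205283) q16274, e3 q13674 L186563 q9789, e3 q13675 L186577 q9791, e3 q13676 (flp_d L206604) q16429, e3 q13677 L186593 q9437, e3 q13678 (flp_d L186767) q13695, e3 q13679 L186613 q9439, e3 q13680 L186621 q9440, e3 q13681 (flp_d L186787) q13697, e3 q13682 L186641 q9442, e3 q13683 (flp_d L186647) q9431, e3 q13684 L186657 q9438, e3 q13685 L186668 q9445, e3 q13686 L186678 q9446, e3 q13687 (flp_d L186797) q13698, e3 q13688 L186698 q9448, e3 q13689 L186706 q9449, e3 q13690 (flp_d L186817) q13700, e3 q13691 L186726 q9451, e3 q13692 (flp_d L186732) q9435, e3 q13693 L186742 q9447, e3 q13694 L186753 q9454, e3 q13695 L186767 q13678, trivial⟩ (by decide +kernel)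

theorem ce_d_214 : ∀ r, r < 64 → sm gd (Qf (13696 + r)) = Qf (tab Gen.d (13696 + r)) :=
  edges_tab (sm gd) Qf (tab Gen.d) 13696 [(13696, 9444), (13697, 13681), (13698, 13687), (13699, 9453), (13700, 13690), (13701, 13702), (13702, 13701), (13703, 13704), (13704, 13703), (13705, 13549), (13706, 13545), (13707, 13580), (13708, 13576), (13709, 13716), (13710, 16644), (13711, 16639), (13712, 13715), (13713, 10698), (13714, 13495), (13715, 13712), (13716, 13709), (13717, 10783), (13718, 13497), (13719, 13723), (13720, 13748), (13721, 9494), (13722, 17563), (13723, 13719), (13724, 9671), (13725, 12868), (13726, 17568), (13727, 15148), (13728, 9672), (13729, 9499), (13730, 17572), (13731, 16662), (13732, 17574), (13733, 13634), (13734, 17576), (13735, 9501), (13736, 17577), (13737, 13762), (13738, 17581), (13739, 13654), (13740, 17584), (13741, 9504), (13742, 17586), (13743, 9507), (13744, 17588), (13745, 9603), (13746, 9510), (13747, 17591), (13748, 13720), (13749, 9693), (13750, 12880), (13751, 17596), (13752, 15184),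 (13753, 9694), (13754, 9515), (13755, 17600), (13756, 16641), (13757, 17602), (13758, 13643), (13759, 17604)]
    ⟨e3 q13696 L186777 q9444, e3 q13697 L186787 q13681, e3 q13698 L186797 q13687, e3 q13699 L186807 q9453, e3 q13700 L186817 q13690, e3 q13701 (flp_d L186839) q13702, e3 q13702 L186839 q13701, e3 q13703 (flp_d L186865) q13704, e3 q13704 L186865 q13703, e3 q13705 L186875 q13549, e3 q13706 L186885 q13545, e3 q13707 L186899 q13580, e3 q13708 L186909 q13576, e3 q13709 (flp_d L186979) q13716, e3 q13710 (flp_d L208475) q16644, e3 q13711 (flp_d L208419) q16639, e3 q13712 L186973 q13715, e3 q13713 L186953 q10698, e3 q13714 L186965 q13495, e3 q13715 (flp_d L186973) q13712, e3 q13716 L186979 q13709, e3 q13717 L186989 q10783, e3 q13718 L187001 q13497, e3 q13719 (flp_d L187041) q13723, e3 q13720 (flp_d L187225) q13748, e3 q13721 (flp_d L187019) q9494, e3 q13722 (flp_d L216077) q17563, e3 q13723 L187041 q13719, e3 q13724 L187051 q9671, e3 q13725 L187055 q12868, e3 q13726 L216111 q17568, e3 q13727 (flp_d L197683) q15148,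 e3 q13728 L187073 q9672, e3 q13729 L187079 q9499, e3 q13730 (flp_d L216135) q17572, e3 q13731 (flp_d L208648) q16662, e3 q13732 (flp_d L216145) q17574, e3 q13733 L187103 q13634, e3 q13734 L216159 q17576, e3 q13735 (flp_d L187119) q9501, e3 q13736 (flp_d L216173) q17577, e3 q13737 (flp_d L187319) q13762, e3 q13738 L216201 q17581, e3 q13739 L187147 q13654, e3 q13740 L216219 q17584, e3 q13741 (flp_d L187157) q9504, e3 q13742 (flp_d L216237) q17586, e3 q13743 L187179 q9507, e3 q13744 (flp_d L216253) q17588, e3 q13745 L187195 q9603, e3 q13746 (flp_d L187203) q9510, e3 q13747 (flp_d L216275) q17591, e3 q13748 L187225 q13720, e3 q13749 L187235 q9693, e3 q13750 L187239 q12880, e3 q13751 L216309 q17596, e3 q13752 (flp_d L197879) q15184, e3 q13753 L187257 q9694, e3 q13754 L187263 q9515, e3 q13755 (flp_d L216333) q17600, e3 q13756 (flp_d L208437) q16641, e3 q13757 (flp_d L216343) q17602, e3 q13758 L187287 q13643, e3 q13759 L216357 q17604, trivial⟩ (by decide +kernel)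

theorem ce_d_215 : ∀ r, r < 64 → sm gd (Qf (13760 + r)) = Qf (tab Gen.d (13760 + r)) :=
  edges_tab (sm gd) Qf (tab Gen.d) 13760 [(13760, 9517), (13761, 17605), (13762, 13737), (13763, 17609), (13764, 13660), (13765, 17612), (13766, 9520), (13767, 17614), (13768, 9523), (13769, 17616), (13770, 9565), (13771, 9556), (13772, 17618), (13773, 13791), (13774, 9534), (13775, 17620), (13776, 9579), (13777, 9582), (13778, 13826), (13779, 9593), (13780, 17622), (13781, 13841), (13782, 9547), (13783, 17624), (13784, 9617), (13785, 9619), (13786, 13875), (13787, 17188), (13788, 17553), (13789, 13656), (13790, 17628), (13791, 13773), (13792, 9774), (13793, 9562), (13794, 17631), (13795, 17636), (13796, 17633), (13797, 13662), (13798, 9564), (13799, 17639), (13800, 9566), (13801, 17641), (13802, 15149), (13803, 15150), (13804, 9784), (13805, 9570), (13806, 17648), (13807, 17653), (13808, 17650), (13809, 17657), (13810, 13646), (13811, 17660), (13812, 9572), (13813, 14400), (13814, 9796), (13815, 9574), (13816, 17668), (13817,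 17670), (13818, 9577), (13819, 17672), (13820, 13128), (13821, 9580), (13822, 17675), (13823, 17676)]
    ⟨e3 q13760 (flp_d L187303) q9517, e3 q13761 (flp_d L216371) q17605, e3 q13762 L187319 q13737, e3 q13763 L216399 q17609, e3 q13764 L187335 q13660, e3 q13765 L216417 q17612, e3 q13766 (flp_d L187345) q9520, e3 q13767 (flp_d L216435) q17614, e3 q13768 L187367 q9523, e3 q13769 (flp_d L216451) q17616, e3 q13770 L187383 q9565, e3 q13771 L187393 q9556, e3 q13772 L216463 q17618, e3 q13773 (flp_d L187571) q13791, e3 q13774 (flp_d L187415) q9534, e3 q13775 L216481 q17620, e3 q13776 L187437 q9579, e3 q13777 L187451 q9582, e3 q13778 (flp_d L187801) q13826, e3 q13779 L187465 q9593, e3 q13780 L216489 q17622, e3 q13781 (flp_d L187929) q13841, e3 q13782 (flp_d L187487) q9547, e3 q13783 L216507 q17624, e3 q13784 L187509 q9617, e3 q13785 L187525 q9619, e3 q13786 (flp_d L188147) q13875, e3 q13787 (flp_d L212821) q17188, e3 q13788 (flp_d L215995) q17553, e3 q13789 L187551 q13656, e3 q13790 L216537 q17628, e3 q13791 L187571 q13773,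 e3 q13792 L187579 q9774, e3 q13793 L187587 q9562, e3 q13794 (flp_d L216559) q17631, e3 q13795 L216593 q17636, e3 q13796 (flp_d L216565) q17633, e3 q13797 L187609 q13662, e3 q13798 (flp_d L187617) q9564, e3 q13799 (flp_d L216639) q17639, e3 q13800 (flp_d L187627) q9566, e3 q13801 (flp_d L216651) q17641, e3 q13802 (flp_d L197689) q15149, e3 q13803 (flp_d L197699) q15150, e3 q13804 L187653 q9784, e3 q13805 L187661 q9570, e3 q13806 (flp_d L216685) q17648, e3 q13807 L216711 q17653, e3 q13808 (flp_d L216691) q17650, e3 q13809 L216745 q17657, e3 q13810 L187685 q13646, e3 q13811 L216769 q17660, e3 q13812 (flp_d L187697) q9572, e3 q13813 (flp_d L192029) q14400, e3 q13814 L187711 q9796, e3 q13815 L187715 q9574, e3 q13816 (flp_d L216837) q17668, e3 q13817 L216853 q17670, e3 q13818 (flp_d L187733) q9577, e3 q13819 (flp_d L216873) q17672, e3 q13820 L187803 q13128, e3 q13821 (flp_d L187755) q9580, e3 q13822 (flp_d L216907) q17675, e3 q13823 (flp_d L216924) q17676, trivial⟩ (by decide +kernel)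

theorem ce_d_216 : ∀ r, r < 64 → sm gd (Qf (13824 + r)) = Qf (tab Gen.d (13824 + r)) :=
  edges_tab (sm gd) Qf (tab Gen.d) 13824 [(13824, 17200), (13825, 17060), (13826, 13778), (13827, 9813), (13828, 9585), (13829, 17682), (13830, 15197), (13831, 17687), (13832, 15198), (13833, 9819), (13834, 9589), (13835, 17692), (13836, 17696), (13837, 13641), (13838, 17264), (13839, 17548), (13840, 17700), (13841, 13781), (13842, 9828), (13843, 9600), (13844, 17703), (13845, 17708), (13846, 17705), (13847, 9602), (13848, 17711), (13849, 9604), (13850, 17713), (13851, 15182), (13852, 15183), (13853, 9837), (13854, 9608), (13855, 17649), (13856, 17723), (13857, 17720), (13858, 17726), (13859, 13637), (13860, 17729), (13861, 9610), (13862, 14422), (13863, 9849), (13864, 9612), (13865, 17737), (13866, 17738), (13867, 9615), (13868, 17740), (13869, 13187), (13870, 9618), (13871, 17743), (13872, 17744), (13873, 17149), (13874, 17276), (13875, 13786), (13876, 9866), (13877, 9623), (13878, 17750), (13879, 15163), (13880, 17755), (13881,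 15164), (13882, 9872), (13883, 9627), (13884, 17760), (13885, 17764), (13886, 13632), (13887, 16831)]
    ⟨e3 q13824 (flp_d L212917) q17200, e3 q13825 L211885 q17060, e3 q13826 L187801 q13778, e3 q13827 L187831 q9813, e3 q13828 L187837 q9585, e3 q13829 (flp_d L216978) q17682, e3 q13830 (flp_d L197951) q15197, e3 q13831 L217006 q17687, e3 q13832 (flp_d L197961) q15198, e3 q13833 L187867 q9819, e3 q13834 L187876 q9589, e3 q13835 (flp_d L217043) q17692, e3 q13836 L217066 q17696, e3 q13837 L187893 q13641, e3 q13838 (flp_d L213323) q17264, e3 q13839 (flp_d L215950) q17548, e3 q13840 L217110 q17700, e3 q13841 L187929 q13781, e3 q13842 L187937 q9828, e3 q13843 L187945 q9600, e3 q13844 (flp_d L217132) q17703, e3 q13845 L217166 q17708, e3 q13846 (flp_d L217138) q17705, e3 q13847 (flp_d L187963) q9602, e3 q13848 (flp_d L217212) q17711, e3 q13849 (flp_d L187973) q9604, e3 q13850 (flp_d L217224) q17713, e3 q13851 (flp_d L197861) q15182, e3 q13852 (flp_d L197869) q15183, e3 q13853 L187999 q9837, e3 q13854 L188007 q9608, e3 q13855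 (flp_d L222533) q17649, e3 q13856 L217284 q17723, e3 q13857 (flp_d L217264) q17720, e3 q13858 L217310 q17726, e3 q13859 L188031 q13637, e3 q13860 L217334 q17729, e3 q13861 (flp_d L188043) q9610, e3 q13862 (flp_d L192175) q14422, e3 q13863 L188057 q9849, e3 q13864 L188061 q9612, e3 q13865 (flp_d L217408) q17737, e3 q13866 L217416 q17738, e3 q13867 (flp_d L188079) q9615, e3 q13868 (flp_d L217436) q17740, e3 q13869 L188149 q13187, e3 q13870 (flp_d L188101) q9618, e3 q13871 (flp_d L217470) q17743, e3 q13872 (flp_d L217478) q17744, e3 q13873 L212529 q17149, e3 q13874 (flp_d L213419) q17276, e3 q13875 L188147 q13786, e3 q13876 L188177 q9866, e3 q13877 L188183 q9623, e3 q13878 (flp_d L217534) q17750, e3 q13879 (flp_d L197771) q15163, e3 q13880 L217562 q17755, e3 q13881 (flp_d L197781) q15164, e3 q13882 L188213 q9872, e3 q13883 L188222 q9627, e3 q13884 (flp_d L217599) q17760, e3 q13885 L217622 q17764, e3 q13886 L188239 q13632, e3 q13887 (flp_d L210099) q16831, trivial⟩ (by decide +kernel)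

theorem ce_d_217 : ∀ r, r < 64 → sm gd (Qf (13888 + r)) = Qf (tab Gen.d (13888 + r)) :=
  edges_tab (sm gd) Qf (tab Gen.d) 13888 [(13888, 9629), (13889, 17769), (13890, 17770), (13891, 17772), (13892, 9882), (13893, 9631), (13894, 9632), (13895, 17777), (13896, 13913), (13897, 13155), (13898, 13914), (13899, 13915), (13900, 16838), (13901, 9636), (13902, 17776), (13903, 17788), (13904, 17790), (13905, 9891), (13906, 9638), (13907, 9639), (13908, 17768), (13909, 13922), (13910, 13214), (13911, 13923), (13912, 13924), (13913, 13896), (13914, 13898), (13915, 13899), (13916, 9644), (13917, 17809), (13918, 17811), (13919, 13234), (13920, 9646), (13921, 9647), (13922, 13909), (13923, 13911), (13924, 13912), (13925, 9650), (13926, 17824), (13927, 13253), (13928, 9652), (13929, 9677), (13930, 13949), (13931, 13934), (13932, 9699), (13933, 13970), (13934, 13931), (13935, 17571), (13936, 9676), (13937, 12467), (13938, 12445), (13939, 9678), (13940, 9680), (13941, 12752), (13942, 9704), (13943, 16439), (13944, 9682), (13945,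 16358), (13946, 14183), (13947, 9684), (13948, 14180), (13949, 13930), (13950, 12796), (13951, 9686)]
    ⟨e3 q13888 (flp_d L188251) q9629, e3 q13889 (flp_d L217672) q17769, e3 q13890 (flp_d L217678) q17770, e3 q13891 L217694 q17772, e3 q13892 L188279 q9882, e3 q13893 L188283 q9631, e3 q13894 L188288 q9632, e3 q13895 (flp_d L217726) q17777, e3 q13896 (flp_d L188389) q13913, e3 q13897 L188306 q13155, e3 q13898 (flp_d L188397) q13914, e3 q13899 (flp_d L188406) q13915, e3 q13900 L210147 q16838, e3 q13901 (flp_d L188317) q9636, e3 q13902 (flp_d L217716) q17776, e3 q13903 (flp_d L217791) q17788, e3 q13904 L217807 q17790, e3 q13905 L188345 q9891, e3 q13906 L188351 q9638, e3 q13907 L188355 q9639, e3 q13908 (flp_d L217664) q17768, e3 q13909 (flp_d L188471) q13922, e3 q13910 L188378 q13214, e3 q13911 (flp_d L188479) q13923, e3 q13912 (flp_d L188487) q13924, e3 q13913 L188389 q13896, e3 q13914 L188397 q13898, e3 q13915 L188406 q13899, e3 q13916 (flp_d L188414) q9644, e3 q13917 (flp_d L217948) q17809, e3 q13918 L217964 q17811,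 e3 q13919 L188440 q13234, e3 q13920 L188444 q9646, e3 q13921 L188449 q9647, e3 q13922 L188471 q13909, e3 q13923 L188479 q13911, e3 q13924 L188487 q13912, e3 q13925 (flp_d L188496) q9650, e3 q13926 L218110 q17824, e3 q13927 L188522 q13253, e3 q13928 L188526 q9652, e3 q13929 L188551 q9677, e3 q13930 L188701 q13949, e3 q13931 (flp_d L188595) q13934, e3 q13932 L188573 q9699, e3 q13933 L188839 q13970, e3 q13934 L188595 q13931, e3 q13935 (flp_d L216127) q17571, e3 q13936 L188609 q9676, e3 q13937 L188621 q12467, e3 q13938 L188627 q12445, e3 q13939 (flp_d L188633) q9678, e3 q13940 L188643 q9680, e3 q13941 L188651 q12752, e3 q13942 (flp_d L188665) q9704, e3 q13943 (flp_d L206695) q16439, e3 q13944 (flp_d L188671) q9682, e3 q13945 (flp_d L205992) q16358, e3 q13946 (flp_d L190501) q14183, e3 q13947 (flp_d L188691) q9684, e3 q13948 L190507 q14180, e3 q13949 (flp_d L188701) q13930, e3 q13950 L188707 q12796, e3 q13951 L188713 q9686, trivial⟩ (by decide +kernel)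

theorem ce_d_218 : ∀ r, r < 64 → sm gd (Qf (13952 + r)) = Qf (tab Gen.d (13952 + r)) :=
  edges_tab (sm gd) Qf (tab Gen.d) 13952 [(13952, 14962), (13953, 9687), (13954, 9702), (13955, 16858), (13956, 12798), (13957, 9690), (13958, 17838), (13959, 17599), (13960, 9698), (13961, 12422), (13962, 12481), (13963, 9700), (13964, 12756), (13965, 16284), (13966, 16300), (13967, 14163), (13968, 9706), (13969, 14159), (13970, 13933), (13971, 12771), (13972, 9708), (13973, 14915), (13974, 9709), (13975, 16867), (13976, 12773), (13977, 9712), (13978, 17848), (13979, 14715), (13980, 14714), (13981, 11834), (13982, 14716), (13983, 14734), (13984, 14733), (13985, 12048), (13986, 14735), (13987, 12325), (13988, 17391), (13989, 13261), (13990, 9737), (13991, 14331), (13992, 17434), (13993, 17839), (13994, 9742), (13995, 17857), (13996, 9743), (13997, 17829), (13998, 17860), (13999, 14329), (14000, 9745), (14001, 16865), (14002, 17863), (14003, 10448), (14004, 14330), (14005, 9749), (14006, 12265), (14007, 17395), (14008, 13274),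 (14009, 9757), (14010, 14385), (14011, 17457), (14012, 17849), (14013, 9762), (14014, 17869), (14015, 9763)]
    ⟨e3 q13952 L196351 q14962, e3 q13953 (flp_d L188719) q9687, e3 q13954 L188735 q9702, e3 q13955 (flp_d L210313) q16858, e3 q13956 L188743 q12798, e3 q13957 L188753 q9690, e3 q13958 (flp_d L218264) q17838, e3 q13959 (flp_d L216325) q17599, e3 q13960 L188773 q9698, e3 q13961 L188785 q12422, e3 q13962 L188791 q12481, e3 q13963 (flp_d L188797) q9700, e3 q13964 L188805 q12756, e3 q13965 (flp_d L205370) q16284, e3 q13966 (flp_d L205526) q16300, e3 q13967 L190485 q14163, e3 q13968 (flp_d L188829) q9706, e3 q13969 (flp_d L190483) q14159, e3 q13970 (flp_d L188839) q13933, e3 q13971 L188851 q12771, e3 q13972 L188861 q9708, e3 q13973 L195952 q14915, e3 q13974 (flp_d L188869) q9709, e3 q13975 (flp_d L210401) q16867, e3 q13976 L188893 q12773, e3 q13977 L188907 q9712, e3 q13978 (flp_d L218366) q17848, e3 q13979 (flp_d L194149) q14715, e3 q13980 (flp_d L194139) q14714, e3 q13981 L188937 q11834, e3 q13982 (flp_d L194157)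 q14716, e3 q13983 (flp_d L194321) q14734, e3 q13984 (flp_d L194311) q14733, e3 q13985 L188975 q12048, e3 q13986 (flp_d L194329) q14735, e3 q13987 L188995 q12325, e3 q13988 (flp_d L214447) q17391, e3 q13989 (flp_d L189015) q13261, e3 q13990 (flp_d L189017) q9737, e3 q13991 (flp_d L191537) q14331, e3 q13992 (flp_d L214876) q17434, e3 q13993 (flp_d L218278) q17839, e3 q13994 (flp_d L189041) q9742, e3 q13995 L218448 q17857, e3 q13996 (flp_d L189049) q9743, e3 q13997 (flp_d L218176) q17829, e3 q13998 (flp_d L218470) q17860, e3 q13999 (flp_d L191523) q14329, e3 q14000 L189067 q9745, e3 q14001 (flp_d L210391) q16865, e3 q14002 L218500 q17863, e3 q14003 L189095 q10448, e3 q14004 (flp_d L191529) q14330, e3 q14005 L189107 q9749, e3 q14006 L189117 q12265, e3 q14007 (flp_d L214483) q17395, e3 q14008 (flp_d L189137) q13274, e3 q14009 (flp_d L189139) q9757, e3 q14010 (flp_d L191912) q14385, e3 q14011 (flp_d L215096) q17457, e3 q14012 (flp_d L218380) q17849, e3 q14013 (flp_d L189163) q9762, e3 q14014 L218552 q17869, e3 q14015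 (flp_d L189171) q9763, trivial⟩ (by decide +kernel)

theorem ce_d_219 : ∀ r, r < 64 → sm gd (Qf (14016 + r)) = Qf (tab Gen.d (14016 + r)) :=
  edges_tab (sm gd) Qf (tab Gen.d) 14016 [(14016, 17872), (14017, 17828), (14018, 14384), (14019, 9765), (14020, 16856), (14021, 17875), (14022, 10497), (14023, 14386), (14024, 9769), (14025, 12733), (14026, 12735), (14027, 9773), (14028, 13296), (14029, 13321), (14030, 13319), (14031, 10713), (14032, 17638), (14033, 9780), (14034, 17880), (14035, 9782), (14036, 17882), (14037, 17647), (14038, 13323), (14039, 17400), (14040, 13325), (14041, 13295), (14042, 14115), (14043, 12041), (14044, 16360), (14045, 14119), (14046, 9793), (14047, 14116), (14048, 9863), (14049, 12806), (14050, 17664), (14051, 9795), (14052, 17887), (14053, 13308), (14054, 17667), (14055, 13337), (14056, 9804), (14057, 14794), (14058, 17674), (14059, 9807), (14060, 17892), (14061, 9808), (14062, 14102), (14063, 14098), (14064, 9810), (14065, 17193), (14066, 9811), (14067, 14101), (14068, 9846), (14069, 17894),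 (14070, 17681), (14071, 13417), (14072, 9816), (14073, 17897), (14074, 17442), (14075, 17899), (14076, 9818), (14077, 17691), (14078, 16288), (14079, 15004)]
    ⟨e3 q14016 (flp_d L218574) q17872, e3 q14017 (flp_d L218168) q17828, e3 q14018 (flp_d L191904) q14384, e3 q14019 L189189 q9765, e3 q14020 (flp_d L210303) q16856, e3 q14021 L218604 q17875, e3 q14022 L189217 q10497, e3 q14023 (flp_d L191920) q14386, e3 q14024 L189229 q9769, e3 q14025 L189239 q12733, e3 q14026 L189253 q12735, e3 q14027 (flp_d L189257) q9773, e3 q14028 (flp_d L189275) q13296, e3 q14029 L189285 q13321, e3 q14030 L189297 q13319, e3 q14031 L189305 q10713, e3 q14032 (flp_d L216631) q17638, e3 q14033 L189319 q9780, e3 q14034 L218650 q17880, e3 q14035 L189331 q9782, e3 q14036 (flp_d L218666) q17882, e3 q14037 (flp_d L216679) q17647, e3 q14038 L189355 q13323, e3 q14039 (flp_d L214533) q17400, e3 q14040 L189367 q13325, e3 q14041 L189375 q13295, e3 q14042 (flp_d L189965) q14115, e3 q14043 L189391 q12041, e3 q14044 (flp_d L206016) q16360, e3 q14045 (flp_d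 L189999) q14119, e3 q14046 (flp_d L189403) q9793, e3 q14047 (flp_d L189975) q14116, e3 q14048 L189413 q9863, e3 q14049 (flp_d L189433) q12806, e3 q14050 (flp_d L216817) q17664, e3 q14051 (flp_d L189443) q9795, e3 q14052 L218722 q17887, e3 q14053 L189469 q13308, e3 q14054 (flp_d L216829) q17667, e3 q14055 L189483 q13337, e3 q14056 (flp_d L189489) q9804, e3 q14057 (flp_d L194873) q14794, e3 q14058 (flp_d L216899) q17674, e3 q14059 L189513 q9807, e3 q14060 L218772 q17892, e3 q14061 (flp_d L189525) q9808, e3 q14062 (flp_d L189853) q14102, e3 q14063 (flp_d L189813) q14098, e3 q14064 L189547 q9810, e3 q14065 L212861 q17193, e3 q14066 L189557 q9811, e3 q14067 (flp_d L189839) q14101, e3 q14068 L189571 q9846, e3 q14069 L218796 q17894, e3 q14070 (flp_d L216970) q17681, e3 q14071 (flp_d L189601) q13417, e3 q14072 (flp_d L189605) q9816, e3 q14073 L218828 q17897, e3 q14074 (flp_d L214956) q17442, e3 q14075 L218846 q17899, e3 q14076 (flp_d L189637) q9818, e3 q14077 (flp_d L217035) q17691, e3 q14078 (flp_d L205418) q16288, e3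 q14079 L196717 q15004, trivial⟩ (by decide +kernel)

theorem ce_d_220 : ∀ r, r < 64 → sm gd (Qf (14080 + r)) = Qf (tab Gen.d (14080 + r)) :=
  edges_tab (sm gd) Qf (tab Gen.d) 14080 [(14080, 16289), (14081, 10780), (14082, 12742), (14083, 12744), (14084, 9827), (14085, 13355), (14086, 13376), (14087, 13374), (14088, 10794), (14089, 17710), (14090, 9833), (14091, 17904), (14092, 9835), (14093, 17906), (14094, 17719), (14095, 13378), (14096, 17418), (14097, 13354), (14098, 14063), (14099, 16265), (14100, 11829), (14101, 14067), (14102, 14062), (14103, 12781), (14104, 17733), (14105, 9848), (14106, 17910), (14107, 13367), (14108, 17736), (14109, 9857), (14110, 14826), (14111, 17742), (14112, 9859), (14113, 17914), (14114, 9861), (14115, 14042), (14116, 14047), (14117, 9864), (14118, 17269), (14119, 14045), (14120, 17916), (14121, 17749), (14122, 13469), (14123, 9869), (14124, 17919), (14125, 17467), (14126, 17921), (14127, 9871), (14128, 17759), (14129, 16442), (14130, 15017), (14131, 16443), (14132, 10696), (14133,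 9878), (14134, 17924), (14135, 14145), (14136, 9889), (14137, 13512), (14138, 13514), (14139, 13515), (14140, 13516), (14141, 12532), (14142, 13518), (14143, 13519)]
    ⟨e3 q14080 (flp_d L205428) q16289, e3 q14081 L189665 q10780, e3 q14082 L189671 q12742, e3 q14083 L189685 q12744, e3 q14084 (flp_d L189689) q9827, e3 q14085 (flp_d L189705) q13355, e3 q14086 L189717 q13376, e3 q14087 L189729 q13374, e3 q14088 L189737 q10794, e3 q14089 (flp_d L217204) q17710, e3 q14090 L189751 q9833, e3 q14091 L218882 q17904, e3 q14092 L189763 q9835, e3 q14093 (flp_d L218898) q17906, e3 q14094 (flp_d L217252) q17719, e3 q14095 L189787 q13378, e3 q14096 (flp_d L214705) q17418, e3 q14097 L189805 q13354, e3 q14098 L189813 q14063, e3 q14099 L205201 q16265, e3 q14100 L189831 q11829, e3 q14101 L189839 q14067, e3 q14102 L189853 q14062, e3 q14103 (flp_d L189865) q12781, e3 q14104 (flp_d L217382) q17733, e3 q14105 (flp_d L189875) q9848, e3 q14106 L218944 q17910, e3 q14107 L189901 q13367, e3 q14108 (flp_d L217400) q17736, e3 q14109 (flp_d L189913)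 q9857, e3 q14110 (flp_d L195159) q14826, e3 q14111 (flp_d L217462) q17742, e3 q14112 L189937 q9859, e3 q14113 L218982 q17914, e3 q14114 (flp_d L189949) q9861, e3 q14115 L189965 q14042, e3 q14116 L189975 q14047, e3 q14117 L189987 q9864, e3 q14118 L213363 q17269, e3 q14119 L189999 q14045, e3 q14120 L219008 q17916, e3 q14121 (flp_d L217526) q17749, e3 q14122 (flp_d L190027) q13469, e3 q14123 (flp_d L190031) q9869, e3 q14124 L219040 q17919, e3 q14125 (flp_d L215195) q17467, e3 q14126 L219058 q17921, e3 q14127 (flp_d L190063) q9871, e3 q14128 (flp_d L217591) q17759, e3 q14129 (flp_d L206737) q16442, e3 q14130 L196827 q15017, e3 q14131 (flp_d L206745) q16443, e3 q14132 L190093 q10696, e3 q14133 (flp_d L190097) q9878, e3 q14134 (flp_d L219078) q17924, e3 q14135 (flp_d L190184) q14145, e3 q14136 L190117 q9889, e3 q14137 L190121 q13512, e3 q14138 L190127 q13514, e3 q14139 L190135 q13515, e3 q14140 L190143 q13516, e3 q14141 L190153 q12532, e3 q14142 L190162 q13518, e3 q14143 L190172 q13519, trivial⟩ (by decide +kernel)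

theorem ce_d_221 : ∀ r, r < 64 → sm gd (Qf (14144 + r)) = Qf (tab Gen.d (14144 + r)) :=
  edges_tab (sm gd) Qf (tab Gen.d) 14144 [(14144, 17925), (14145, 14135), (14146, 13536), (14147, 13538), (14148, 13539), (14149, 13540), (14150, 13542), (14151, 12541), (14152, 13543), (14153, 16892), (14154, 12857), (14155, 9900), (14156, 17932), (14157, 11915), (14158, 12831), (14159, 13969), (14160, 11877), (14161, 9905), (14162, 16455), (14163, 13967), (14164, 13462), (14165, 13436), (14166, 9907), (14167, 9908), (14168, 16075), (14169, 12765), (14170, 12559), (14171, 13438), (14172, 9912), (14173, 13607), (14174, 16903), (14175, 12863), (14176, 9917), (14177, 17942), (14178, 12121), (14179, 12836), (14180, 13948), (14181, 12086), (14182, 9922), (14183, 13946), (14184, 16306), (14185, 13410), (14186, 13488), (14187, 9924), (14188, 9925), (14189, 16150), (14190, 12790), (14191, 13490), (14192, 12565), (14193, 9929), (14194, 13611), (14195, 9930), (14196, 17953), (14197, 9932), (14198, 17955), (14199, 9934), (14200, 17957),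 (14201, 9940), (14202, 17960), (14203, 9937), (14204, 17962), (14205, 9942), (14206, 17965), (14207, 9941)]
    ⟨e3 q14144 (flp_d L219090) q17925, e3 q14145 L190184 q14135, e3 q14146 L190194 q13536, e3 q14147 L190200 q13538, e3 q14148 L190208 q13539, e3 q14149 L190220 q13540, e3 q14150 L190224 q13542, e3 q14151 L190232 q12541, e3 q14152 L190245 q13543, e3 q14153 (flp_d L210617) q16892, e3 q14154 L190263 q12857, e3 q14155 (flp_d L190267) q9900, e3 q14156 (flp_d L219158) q17932, e3 q14157 L190281 q11915, e3 q14158 L190293 q12831, e3 q14159 L190483 q13969, e3 q14160 (flp_d L190307) q11877, e3 q14161 (flp_d L190311) q9905, e3 q14162 (flp_d L206857) q16455, e3 q14163 (flp_d L190485) q13967, e3 q14164 (flp_d L190327) q13462, e3 q14165 L190337 q13436, e3 q14166 L190345 q9907, e3 q14167 (flp_d L190351) q9908, e3 q14168 (flp_d L203815) q16075, e3 q14169 L190375 q12765, e3 q14170 L190383 q12559, e3 q14171 L190390 q13438, e3 q14172 L190400 q9912, e3 q14173 L190408 q13607, e3 q14174 (flp_d L210713) q16903, e3 q14175 L190429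 q12863, e3 q14176 (flp_d L190433) q9917, e3 q14177 (flp_d L219260) q17942, e3 q14178 L190447 q12121, e3 q14179 L190459 q12836, e3 q14180 (flp_d L190507) q13948, e3 q14181 (flp_d L190473) q12086, e3 q14182 (flp_d L190491) q9922, e3 q14183 L190501 q13946, e3 q14184 (flp_d L205582) q16306, e3 q14185 (flp_d L190523) q13410, e3 q14186 L190533 q13488, e3 q14187 L190541 q9924, e3 q14188 (flp_d L190547) q9925, e3 q14189 (flp_d L204313) q16150, e3 q14190 L190571 q12790, e3 q14191 L190577 q13490, e3 q14192 L190585 q12565, e3 q14193 L190596 q9929, e3 q14194 L190604 q13611, e3 q14195 (flp_d L190611) q9930, e3 q14196 (flp_d L219378) q17953, e3 q14197 (flp_d L190625) q9932, e3 q14198 (flp_d L219398) q17955, e3 q14199 (flp_d L190639) q9934, e3 q14200 (flp_d L219414) q17957, e3 q14201 L190653 q9940, e3 q14202 L219430 q17960, e3 q14203 (flp_d L190669) q9937, e3 q14204 (flp_d L219446) q17962, e3 q14205 L190683 q9942, e3 q14206 L219462 q17965, e3 q14207 (flp_d L190699) q9941, trivial⟩ (by decide +kernel)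

theorem ce_d_222 : ∀ r, r < 64 → sm gd (Qf (14208 + r)) = Qf (tab Gen.d (14208 + r)) :=
  edges_tab (sm gd) Qf (tab Gen.d) 14208 [(14208, 9943), (14209, 17966), (14210, 14210), (14211, 17969), (14212, 14212), (14213, 17972), (14214, 14214), (14215, 9952), (14216, 17976), (14217, 17978), (14218, 14218), (14219, 9955), (14220, 17982), (14221, 9958), (14222, 17985), (14223, 10928), (14224, 9961), (14225, 17987), (14226, 17988), (14227, 9964), (14228, 17993), (14229, 10938), (14230, 9967), (14231, 17995), (14232, 17996), (14233, 18000), (14234, 9970), (14235, 18004), (14236, 9972), (14237, 14302), (14238, 14238), (14239, 18011), (14240, 9976), (14241, 14357), (14242, 14242), (14243, 18017), (14244, 9980), (14245, 9981), (14246, 18021), (14247, 18022), (14248, 10020), (14249, 10021), (14250, 12960), (14251, 10139), (14252, 10037), (14253, 18028), (14254, 9990), (14255, 18031), (14256, 18034), (14257, 18036), (14258, 9993), (14259, 18040), (14260, 14332), (14261, 10997), (14262, 9996), (14263, 18044), (14264, 18045),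 (14265, 9998), (14266, 18050), (14267, 18051), (14268, 10054), (14269, 10055), (14270, 13036), (14271, 10172)]
    ⟨e3 q14208 (flp_d L190701) q9943, e3 q14209 L219466 q17966, e3 q14210 L190713 q14210, e3 q14211 L219487 q17969, e3 q14212 L190727 q14212, e3 q14213 L219508 q17972, e3 q14214 L190741 q14214, e3 q14215 (flp_d L190746) q9952, e3 q14216 (flp_d L219536) q17976, e3 q14217 L219548 q17978, e3 q14218 L190768 q14218, e3 q14219 (flp_d L190773) q9955, e3 q14220 (flp_d L219576) q17982, e3 q14221 (flp_d L190785) q9958, e3 q14222 (flp_d L219602) q17985, e3 q14223 L190801 q10928, e3 q14224 L190805 q9961, e3 q14225 (flp_d L219614) q17987, e3 q14226 (flp_d L219622) q17988, e3 q14227 (flp_d L190821) q9964, e3 q14228 (flp_d L219670) q17993, e3 q14229 L190837 q10938, e3 q14230 L190841 q9967, e3 q14231 (flp_d L219682) q17995, e3 q14232 (flp_d L219690) q17996, e3 q14233 L219708 q18000, e3 q14234 (flp_d L190859) q9970, e3 q14235 L219734 q18004, e3 q14236 (flp_d L190869) q9972, e3 q14237 (flp_d L191345) q14302, e3 q14238 L190891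 q14238, e3 q14239 L219779 q18011, e3 q14240 (flp_d L190904) q9976, e3 q14241 (flp_d L191728) q14357, e3 q14242 L190922 q14242, e3 q14243 L219814 q18017, e3 q14244 (flp_d L190935) q9980, e3 q14245 (flp_d L190939) q9981, e3 q14246 (flp_d L219834) q18021, e3 q14247 (flp_d L219842) q18022, e3 q14248 L190957 q10020, e3 q14249 L190969 q10021, e3 q14250 (flp_d L190987) q12960, e3 q14251 L190995 q10139, e3 q14252 L191005 q10037, e3 q14253 L219880 q18028, e3 q14254 (flp_d L191021) q9990, e3 q14255 (flp_d L219902) q18031, e3 q14256 L219922 q18034, e3 q14257 L219940 q18036, e3 q14258 (flp_d L191043) q9993, e3 q14259 (flp_d L219972) q18040, e3 q14260 L191549 q14332, e3 q14261 L191061 q10997, e3 q14262 L191065 q9996, e3 q14263 (flp_d L219994) q18044, e3 q14264 (flp_d L220000) q18045, e3 q14265 (flp_d L191083) q9998, e3 q14266 (flp_d L220050) q18050, e3 q14267 (flp_d L220056) q18051, e3 q14268 L191101 q10054, e3 q14269 L191113 q10055, e3 q14270 (flp_d L191131) q13036, e3 q14271 L191139 q10172, trivial⟩ (by decide +kernel)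

theorem ce_d_223 : ∀ r, r < 64 → sm gd (Qf (14272 + r)) = Qf (tab Gen.d (14272 + r)) :=
  edges_tab (sm gd) Qf (tab Gen.d) 14272 [(14272, 10071), (14273, 18057), (14274, 10007), (14275, 18060), (14276, 18063), (14277, 18065), (14278, 10010), (14279, 18069), (14280, 14387), (14281, 11021), (14282, 10013), (14283, 18073), (14284, 18074), (14285, 10015), (14286, 10016), (14287, 18079), (14288, 18082), (14289, 10303), (14290, 10018), (14291, 10019), (14292, 18085), (14293, 18086), (14294, 18087), (14295, 10022), (14296, 18088), (14297, 18003), (14298, 10311), (14299, 10024), (14300, 10025), (14301, 18092), (14302, 14237), (14303, 17021), (14304, 14647), (14305, 10028), (14306, 14639), (14307, 18095), (14308, 10031), (14309, 10030), (14310, 18100), (14311, 18099), (14312, 10315), (14313, 10034), (14314, 18106), (14315, 10036), (14316, 18107), (14317, 12490), (14318, 18109), (14319, 12488), (14320, 18111), (14321, 18114), (14322, 14991), (14323, 10038), (14324, 18117), (14325, 10040), (14326, 18119), (14327, 18120),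 (14328, 10041), (14329, 13999), (14330, 14004), (14331, 13991), (14332, 14260), (14333, 10044), (14334, 17490), (14335, 10045)]
    ⟨e3 q14272 L191149 q10071, e3 q14273 L220096 q18057, e3 q14274 (flp_d L191165) q10007, e3 q14275 (flp_d L220118) q18060, e3 q14276 L220138 q18063, e3 q14277 L220156 q18065, e3 q14278 (flp_d L191187) q10010, e3 q14279 (flp_d L220188) q18069, e3 q14280 L191930 q14387, e3 q14281 L191205 q11021, e3 q14282 L191209 q10013, e3 q14283 (flp_d L220210) q18073, e3 q14284 (flp_d L220216) q18074, e3 q14285 (flp_d L191227) q10015, e3 q14286 (flp_d L191235) q10016, e3 q14287 (flp_d L220256) q18079, e3 q14288 L220280 q18082, e3 q14289 L191259 q10303, e3 q14290 L191263 q10018, e3 q14291 L191267 q10019, e3 q14292 (flp_d L220304) q18085, e3 q14293 (flp_d L220312) q18086, e3 q14294 (flp_d L220320) q18087, e3 q14295 (flp_d L191295) q10022, e3 q14296 (flp_d L220330) q18088, e3 q14297 (flp_d L219732) q18003, e3 q14298 L191315 q10311, e3 q14299 L191323 q10024, e3 q14300 L191331 q10025, e3 q14301 (flp_d L220362)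 q18092, e3 q14302 L191345 q14237, e3 q14303 (flp_d L211615) q17021, e3 q14304 L193625 q14647, e3 q14305 (flp_d L191361) q10028, e3 q14306 (flp_d L193567) q14639, e3 q14307 (flp_d L220384) q18095, e3 q14308 L191383 q10031, e3 q14309 (flp_d L191387) q10030, e3 q14310 (flp_d L220416) q18100, e3 q14311 (flp_d L220410) q18099, e3 q14312 L191401 q10315, e3 q14313 L191407 q10034, e3 q14314 L220442 q18106, e3 q14315 L191413 q10036, e3 q14316 (flp_d L220446) q18107, e3 q14317 (flp_d L191429) q12490, e3 q14318 (flp_d L220460) q18109, e3 q14319 L191449 q12488, e3 q14320 (flp_d L220472) q18111, e3 q14321 L220500 q18114, e3 q14322 (flp_d L196602) q14991, e3 q14323 (flp_d L191479) q10038, e3 q14324 L220532 q18117, e3 q14325 L191497 q10040, e3 q14326 (flp_d L220550) q18119, e3 q14327 L220560 q18120, e3 q14328 (flp_d L191517) q10041, e3 q14329 L191523 q13999, e3 q14330 L191529 q14004, e3 q14331 L191537 q13991, e3 q14332 (flp_d L191549) q14260, e3 q14333 L191557 q10044, e3 q14334 (flp_d L215419) q17490, e3 q14335 (flp_d L191571)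 q10045, trivial⟩ (by decide +kernel)

theorem ce_d_224 : ∀ r, r < 64 → sm gd (Qf (14336 + r)) = Qf (tab Gen.d (14336 + r)) :=
  edges_tab (sm gd) Qf (tab Gen.d) 14336 [(14336, 18128), (14337, 10335), (14338, 10048), (14339, 18130), (14340, 10049), (14341, 10050), (14342, 18133), (14343, 18136), (14344, 10340), (14345, 10052), (14346, 10053), (14347, 18139), (14348, 18140), (14349, 18141), (14350, 10056), (14351, 18142), (14352, 18007), (14353, 10348), (14354, 10058), (14355, 10059), (14356, 18146), (14357, 14241), (14358, 17112), (14359, 14676), (14360, 10062), (14361, 14668), (14362, 18149), (14363, 10065), (14364, 10064), (14365, 18154), (14366, 18153), (14367, 10352), (14368, 10068), (14369, 18160), (14370, 10070), (14371, 18161), (14372, 12454), (14373, 18163), (14374, 12452), (14375, 18165), (14376, 18168), (14377, 14943), (14378, 10072), (14379, 18171), (14380, 10074), (14381, 18173), (14382, 18122), (14383, 10075), (14384, 14018), (14385, 14010), (14386, 14023), (14387, 14280), (14388, 10078), (14389, 17481),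 (14390, 10079), (14391, 18180), (14392, 10370), (14393, 10082), (14394, 18182), (14395, 17680), (14396, 15360), (14397, 18185), (14398, 17690), (14399, 10089)]
    ⟨e3 q14336 (flp_d L220644) q18128, e3 q14337 L191593 q10335, e3 q14338 L191601 q10048, e3 q14339 (flp_d L220662) q18130, e3 q14340 (flp_d L191610) q10049, e3 q14341 (flp_d L191618) q10050, e3 q14342 (flp_d L220686) q18133, e3 q14343 L220710 q18136, e3 q14344 L191642 q10340, e3 q14345 L191646 q10052, e3 q14346 L191650 q10053, e3 q14347 (flp_d L220734) q18139, e3 q14348 (flp_d L220740) q18140, e3 q14349 (flp_d L220750) q18141, e3 q14350 (flp_d L191678) q10056, e3 q14351 (flp_d L220760) q18142, e3 q14352 (flp_d L219758) q18007, e3 q14353 L191698 q10348, e3 q14354 L191704 q10058, e3 q14355 L191710 q10059, e3 q14356 (flp_d L220792) q18146, e3 q14357 L191728 q14241, e3 q14358 (flp_d L212283) q17112, e3 q14359 L193837 q14676, e3 q14360 (flp_d L191742) q10062, e3 q14361 (flp_d L193779) q14668, e3 q14362 (flp_d L220814) q18149, e3 q14363 L191764 q10065, e3 q14364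 (flp_d L191768) q10064, e3 q14365 (flp_d L220846) q18154, e3 q14366 (flp_d L220840) q18153, e3 q14367 L191782 q10352, e3 q14368 L191788 q10068, e3 q14369 L220872 q18160, e3 q14370 L191794 q10070, e3 q14371 (flp_d L220876) q18161, e3 q14372 (flp_d L191810) q12454, e3 q14373 (flp_d L220890) q18163, e3 q14374 L191830 q12452, e3 q14375 (flp_d L220902) q18165, e3 q14376 L220930 q18168, e3 q14377 (flp_d L196181) q14943, e3 q14378 (flp_d L191860) q10072, e3 q14379 L220962 q18171, e3 q14380 L191878 q10074, e3 q14381 (flp_d L220980) q18173, e3 q14382 (flp_d L220578) q18122, e3 q14383 (flp_d L191898) q10075, e3 q14384 L191904 q14018, e3 q14385 L191912 q14010, e3 q14386 L191920 q14023, e3 q14387 (flp_d L191930) q14280, e3 q14388 L191938 q10078, e3 q14389 (flp_d L215331) q17481, e3 q14390 (flp_d L191952) q10079, e3 q14391 (flp_d L221058) q18180, e3 q14392 L191974 q10370, e3 q14393 L191982 q10082, e3 q14394 (flp_d L221076) q18182, e3 q14395 (flp_d L216962) q17680, e3 q14396 (flp_d L199008) q15360, e3 q14397 L221094 q18185, e3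 q14398 (flp_d L217027) q17690, e3 q14399 (flp_d L192019) q10089, trivial⟩ (by decide +kernel)

theorem ce_d_225 : ∀ r, r < 64 → sm gd (Qf (14400 + r)) = Qf (tab Gen.d (14400 + r)) :=
  edges_tab (sm gd) Qf (tab Gen.d) 14400 [(14400, 13813), (14401, 14441), (14402, 18189), (14403, 14443), (14404, 14444), (14405, 10092), (14406, 18193), (14407, 14447), (14408, 11124), (14409, 18200), (14410, 10097), (14411, 10098), (14412, 18202), (14413, 18203), (14414, 16931), (14415, 16932), (14416, 10153), (14417, 17748), (14418, 15464), (14419, 18210), (14420, 17758), (14421, 10108), (14422, 13862), (14423, 14490), (14424, 18214), (14425, 14492), (14426, 14493), (14427, 10111), (14428, 18218), (14429, 14496), (14430, 11193), (14431, 18225), (14432, 10116), (14433, 10117), (14434, 18227), (14435, 18228), (14436, 16919), (14437, 16920), (14438, 10186), (14439, 10124), (14440, 18234), (14441, 14401), (14442, 18236), (14443, 14403), (14444, 14404), (14445, 10126), (14446, 18241), (14447, 14407), (14448, 10375), (14449, 10130), (14450,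 17903), (14451, 10132), (14452, 18248), (14453, 18250), (14454, 18252), (14455, 10134), (14456, 18253), (14457, 10138), (14458, 10193), (14459, 10137), (14460, 18258), (14461, 18259), (14462, 18255), (14463, 18266)]
    ⟨e3 q14400 L192029 q13813, e3 q14401 (flp_d L192305) q14441, e3 q14402 L221119 q18189, e3 q14403 (flp_d L192317) q14443, e3 q14404 (flp_d L192323) q14444, e3 q14405 (flp_d L192059) q10092, e3 q14406 (flp_d L221153) q18193, e3 q14407 (flp_d L192343) q14447, e3 q14408 L192075 q11124, e3 q14409 L221184 q18200, e3 q14410 L192091 q10097, e3 q14411 L192097 q10098, e3 q14412 (flp_d L221199) q18202, e3 q14413 (flp_d L221209) q18203, e3 q14414 (flp_d L210907) q16931, e3 q14415 (flp_d L210915) q16932, e3 q14416 L192131 q10153, e3 q14417 (flp_d L217518) q17748, e3 q14418 (flp_d L199574) q15464, e3 q14419 L221263 q18210, e3 q14420 (flp_d L217583) q17758, e3 q14421 (flp_d L192165) q10108, e3 q14422 L192175 q13862, e3 q14423 (flp_d L192615) q14490, e3 q14424 L221288 q18214, e3 q14425 (flp_d L192627) q14492, e3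 q14426 (flp_d L192633) q14493, e3 q14427 (flp_d L192205) q10111, e3 q14428 (flp_d L221322) q18218, e3 q14429 (flp_d L192653) q14496, e3 q14430 L192221 q11193, e3 q14431 L221353 q18225, e3 q14432 L192237 q10116, e3 q14433 L192243 q10117, e3 q14434 (flp_d L221368) q18227, e3 q14435 (flp_d L221378) q18228, e3 q14436 (flp_d L210823) q16919, e3 q14437 (flp_d L210831) q16920, e3 q14438 L192277 q10186, e3 q14439 L192287 q10124, e3 q14440 (flp_d L221428) q18234, e3 q14441 L192305 q14401, e3 q14442 L221438 q18236, e3 q14443 L192317 q14403, e3 q14444 L192323 q14404, e3 q14445 (flp_d L192325) q10126, e3 q14446 (flp_d L221484) q18241, e3 q14447 L192343 q14407, e3 q14448 L192347 q10375, e3 q14449 L192353 q10130, e3 q14450 (flp_d L218876) q17903, e3 q14451 L192361 q10132, e3 q14452 (flp_d L221530) q18248, e3 q14453 (flp_d L221546) q18250, e3 q14454 L221562 q18252, e3 q14455 (flp_d L192393) q10134, e3 q14456 (flp_d L221580) q18253, e3 q14457 L192413 q10138, e3 q14458 L192417 q10193, e3 q14459 L192423 q10137, e3 q14460 (flp_d L221618)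 q18258, e3 q14461 (flp_d L221626) q18259, e3 q14462 (flp_d L221596) q18255, e3 q14463 L221660 q18266, trivial⟩ (by decide +kernel)

theorem ce_d_226 : ∀ r, r < 64 → sm gd (Qf (14464 + r)) = Qf (tab Gen.d (14464 + r)) :=
  edges_tab (sm gd) Qf (tab Gen.d) 14464 [(14464, 18032), (14465, 10388), (14466, 18271), (14467, 10389), (14468, 10146), (14469, 18277), (14470, 10143), (14471, 18280), (14472, 10147), (14473, 10148), (14474, 14770), (14475, 10150), (14476, 18273), (14477, 18275), (14478, 18282), (14479, 12637), (14480, 18284), (14481, 18285), (14482, 12639), (14483, 18286), (14484, 12641), (14485, 18288), (14486, 12917), (14487, 12919), (14488, 10157), (14489, 18293), (14490, 14423), (14491, 18295), (14492, 14425), (14493, 14426), (14494, 10159), (14495, 18300), (14496, 14429), (14497, 10409), (14498, 10163), (14499, 17879), (14500, 10165), (14501, 18306), (14502, 18308), (14503, 18309), (14504, 10167), (14505, 18310), (14506, 10171), (14507, 10229), (14508, 10170), (14509, 18315), (14510, 18316), (14511, 18312),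 (14512, 18323), (14513, 18061), (14514, 10422), (14515, 18328), (14516, 10423), (14517, 10179), (14518, 18334), (14519, 10176), (14520, 18337), (14521, 10180), (14522, 10181), (14523, 14749), (14524, 10183), (14525, 18330), (14526, 18332), (14527, 18339)]
    ⟨e3 q14464 (flp_d L219908) q18032, e3 q14465 L192449 q10388, e3 q14466 L221710 q18271, e3 q14467 L192463 q10389, e3 q14468 L192469 q10146, e3 q14469 L221738 q18277, e3 q14470 (flp_d L192477) q10143, e3 q14471 (flp_d L221760) q18280, e3 q14472 L192487 q10147, e3 q14473 L192493 q10148, e3 q14474 (flp_d L194643) q14770, e3 q14475 L192499 q10150, e3 q14476 (flp_d L221724) q18273, e3 q14477 (flp_d L221730) q18275, e3 q14478 (flp_d L221772) q18282, e3 q14479 (flp_d L192527) q12637, e3 q14480 (flp_d L221790) q18284, e3 q14481 (flp_d L221798) q18285, e3 q14482 (flp_d L192549) q12639, e3 q14483 (flp_d L221812) q18286, e3 q14484 L192563 q12641, e3 q14485 (flp_d L221828) q18288, e3 q14486 L192577 q12917, e3 q14487 L192587 q12919, e3 q14488 L192597 q10157, e3 q14489 (flp_d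 L221882) q18293, e3 q14490 L192615 q14423, e3 q14491 L221894 q18295, e3 q14492 L192627 q14425, e3 q14493 L192633 q14426, e3 q14494 (flp_d L192635) q10159, e3 q14495 (flp_d L221940) q18300, e3 q14496 L192653 q14429, e3 q14497 L192657 q10409, e3 q14498 L192663 q10163, e3 q14499 (flp_d L218644) q17879, e3 q14500 L192671 q10165, e3 q14501 (flp_d L221976) q18306, e3 q14502 (flp_d L221994) q18308, e3 q14503 L221998 q18309, e3 q14504 (flp_d L192703) q10167, e3 q14505 (flp_d L222016) q18310, e3 q14506 L192723 q10171, e3 q14507 L192727 q10229, e3 q14508 L192733 q10170, e3 q14509 (flp_d L222054) q18315, e3 q14510 (flp_d L222062) q18316, e3 q14511 (flp_d L222032) q18312, e3 q14512 L222104 q18323, e3 q14513 (flp_d L220124) q18061, e3 q14514 L192759 q10422, e3 q14515 L222140 q18328, e3 q14516 L192773 q10423, e3 q14517 L192783 q10179, e3 q14518 L222172 q18334, e3 q14519 (flp_d L192791) q10176, e3 q14520 (flp_d L222198) q18337, e3 q14521 L192801 q10180, e3 q14522 L192807 q10181, e3 q14523 (flp_d L194450) q14749, e3 q14524 L192821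 q10183, e3 q14525 (flp_d L222158) q18330, e3 q14526 (flp_d L222164) q18332, e3 q14527 (flp_d L222245) q18339, trivial⟩ (by decide +kernel)

theorem ce_d_227 : ∀ r, r < 64 → sm gd (Qf (14528 + r)) = Qf (tab Gen.d (14528 + r)) :=
  edges_tab (sm gd) Qf (tab Gen.d) 14528 [(14528, 12626), (14529, 18341), (14530, 18342), (14531, 12628), (14532, 18343), (14533, 12630), (14534, 18345), (14535, 12902), (14536, 12904), (14537, 10188), (14538, 18350), (14539, 16872), (14540, 10189), (14541, 18354), (14542, 18352), (14543, 18353), (14544, 10444), (14545, 10445), (14546, 10194), (14547, 18257), (14548, 18358), (14549, 10197), (14550, 10198), (14551, 10196), (14552, 18364), (14553, 18361), (14554, 18362), (14555, 18363), (14556, 10452), (14557, 10454), (14558, 10203), (14559, 10206), (14560, 18373), (14561, 16071), (14562, 18375), (14563, 18377), (14564, 16066), (14565, 16067), (14566, 16074), (14567, 10478), (14568, 18386), (14569, 10211), (14570, 18389), (14571, 10481), (14572, 15296), (14573, 10219), (14574, 10220), (14575,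 18398), (14576, 10214), (14577, 18335), (14578, 10249), (14579, 18388), (14580, 10217), (14581, 15456), (14582, 18405), (14583, 10221), (14584, 18396), (14585, 18407), (14586, 16754), (14587, 18409), (14588, 10223), (14589, 18412), (14590, 16879), (14591, 10224)]
    ⟨e3 q14528 (flp_d L192849) q12626, e3 q14529 (flp_d L222271) q18341, e3 q14530 (flp_d L222279) q18342, e3 q14531 L192871 q12628, e3 q14532 (flp_d L222293) q18343, e3 q14533 L192885 q12630, e3 q14534 (flp_d L222313) q18345, e3 q14535 L192899 q12902, e3 q14536 L192909 q12904, e3 q14537 L192923 q10188, e3 q14538 (flp_d L222363) q18350, e3 q14539 L210459 q16872, e3 q14540 (flp_d L192941) q10189, e3 q14541 L222397 q18354, e3 q14542 L222385 q18352, e3 q14543 (flp_d L222395) q18353, e3 q14544 L192969 q10444, e3 q14545 L192977 q10445, e3 q14546 L192983 q10194, e3 q14547 (flp_d L221610) q18257, e3 q14548 (flp_d L222431) q18358, e3 q14549 L193023 q10197, e3 q14550 L193011 q10198, e3 q14551 (flp_d L193013) q10196, e3 q14552 (flp_d L222479) q18364, e3 q14553 (flp_d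 L222453) q18361, e3 q14554 (flp_d L222461) q18362, e3 q14555 (flp_d L222469) q18363, e3 q14556 L193051 q10452, e3 q14557 L193061 q10454, e3 q14558 L193069 q10203, e3 q14559 L193073 q10206, e3 q14560 (flp_d L222916) q18373, e3 q14561 (flp_d L203787) q16071, e3 q14562 (flp_d L222930) q18375, e3 q14563 (flp_d L222942) q18377, e3 q14564 (flp_d L203753) q16066, e3 q14565 (flp_d L203757) q16067, e3 q14566 (flp_d L203809) q16074, e3 q14567 L193111 q10478, e3 q14568 L223018 q18386, e3 q14569 (flp_d L193121) q10211, e3 q14570 (flp_d L223034) q18389, e3 q14571 L193133 q10481, e3 q14572 (flp_d L198587) q15296, e3 q14573 L193145 q10219, e3 q14574 L193151 q10220, e3 q14575 L223088 q18398, e3 q14576 (flp_d L193155) q10214, e3 q14577 (flp_d L222186) q18335, e3 q14578 L193173 q10249, e3 q14579 (flp_d L223028) q18388, e3 q14580 L193179 q10217, e3 q14581 (flp_d L227415) q15456, e3 q14582 (flp_d L223124) q18405, e3 q14583 L193195 q10221, e3 q14584 (flp_d L223082) q18396, e3 q14585 (flp_d L223137) q18407, e3 q14586 L209445 q16754,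 e3 q14587 (flp_d L223151) q18409, e3 q14588 L193237 q10223, e3 q14589 (flp_d L223177) q18412, e3 q14590 L210513 q16879, e3 q14591 (flp_d L193255) q10224, trivial⟩ (by decide +kernel)

theorem ce_d_228 : ∀ r, r < 64 → sm gd (Qf (14592 + r)) = Qf (tab Gen.d (14592 + r)) :=
  edges_tab (sm gd) Qf (tab Gen.d) 14592 [(14592, 18416), (14593, 18415), (14594, 18414), (14595, 10494), (14596, 10495), (14597, 10228), (14598, 18420), (14599, 18314), (14600, 10233), (14601, 10232), (14602, 10231), (14603, 18426), (14604, 18424), (14605, 18425), (14606, 18423), (14607, 10503), (14608, 10504), (14609, 10240), (14610, 10241), (14611, 16146), (14612, 18435), (14613, 18437), (14614, 18438), (14615, 16142), (14616, 16143), (14617, 16151), (14618, 10528), (14619, 18448), (14620, 10246), (14621, 18451), (14622, 10479), (14623, 15243), (14624, 10254), (14625, 10255), (14626, 18402), (14627, 18278), (14628, 18450), (14629, 10252), (14630, 15352), (14631, 18463), (14632, 10256), (14633, 18458), (14634, 18465), (14635, 16762), (14636, 18467),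 (14637, 10258), (14638, 11107), (14639, 14306), (14640, 15603), (14641, 15604), (14642, 11910), (14643, 10263), (14644, 10264), (14645, 18474), (14646, 18476), (14647, 14304), (14648, 10267), (14649, 10268), (14650, 10266), (14651, 18482), (14652, 18483), (14653, 16912), (14654, 18479), (14655, 18480)]
    ⟨e3 q14592 L223211 q18416, e3 q14593 (flp_d L223209) q18415, e3 q14594 L223199 q18414, e3 q14595 L193283 q10494, e3 q14596 L193291 q10495, e3 q14597 L193297 q10228, e3 q14598 (flp_d L223245) q18420, e3 q14599 (flp_d L222046) q18314, e3 q14600 L193337 q10233, e3 q14601 L193321 q10232, e3 q14602 (flp_d L193327) q10231, e3 q14603 (flp_d L223293) q18426, e3 q14604 (flp_d L223275) q18424, e3 q14605 (flp_d L223283) q18425, e3 q14606 (flp_d L223267) q18423, e3 q14607 L193367 q10503, e3 q14608 L193377 q10504, e3 q14609 L193385 q10240, e3 q14610 L193389 q10241, e3 q14611 (flp_d L204283) q16146, e3 q14612 (flp_d L223343) q18435, e3 q14613 (flp_d L223355) q18437, e3 q14614 (flp_d L223361) q18438, e3 q14615 (flp_d L204257)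 q16142, e3 q14616 (flp_d L204261) q16143, e3 q14617 (flp_d L204319) q16151, e3 q14618 L193427 q10528, e3 q14619 L223445 q18448, e3 q14620 (flp_d L193437) q10246, e3 q14621 (flp_d L223467) q18451, e3 q14622 L193449 q10479, e3 q14623 (flp_d L198216) q15243, e3 q14624 L193461 q10254, e3 q14625 L193465 q10255, e3 q14626 (flp_d L223104) q18402, e3 q14627 (flp_d L221752) q18278, e3 q14628 (flp_d L223459) q18450, e3 q14629 L193483 q10252, e3 q14630 L222208 q15352, e3 q14631 (flp_d L223539) q18463, e3 q14632 L193499 q10256, e3 q14633 (flp_d L223519) q18458, e3 q14634 (flp_d L223547) q18465, e3 q14635 L209517 q16762, e3 q14636 (flp_d L223561) q18467, e3 q14637 L193541 q10258, e3 q14638 L193549 q11107, e3 q14639 L193567 q14306, e3 q14640 (flp_d L200473) q15603, e3 q14641 (flp_d L200485) q15604, e3 q14642 L193585 q11910, e3 q14643 L193591 q10263, e3 q14644 L193601 q10264, e3 q14645 (flp_d L223619) q18474, e3 q14646 (flp_d L223637) q18476, e3 q14647 (flp_d L193625) q14304, e3 q14648 L193629 q10267, e3 q14649 L193633 q10268,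 e3 q14650 (flp_d L193635) q10266, e3 q14651 (flp_d L223701) q18482, e3 q14652 (flp_d L223709) q18483, e3 q14653 (flp_d L210785) q16912, e3 q14654 (flp_d L223669) q18479, e3 q14655 (flp_d L223677) q18480, trivial⟩ (by decide +kernel)

theorem ce_d_229 : ∀ r, r < 64 → sm gd (Qf (14656 + r)) = Qf (tab Gen.d (14656 + r)) :=
  edges_tab (sm gd) Qf (tab Gen.d) 14656 [(14656, 18481), (14657, 12217), (14658, 11912), (14659, 10273), (14660, 10274), (14661, 18492), (14662, 18493), (14663, 18494), (14664, 18497), (14665, 18496), (14666, 10276), (14667, 11177), (14668, 14361), (14669, 15841), (14670, 15842), (14671, 12116), (14672, 10281), (14673, 10282), (14674, 18501), (14675, 18503), (14676, 14359), (14677, 10285), (14678, 10286), (14679, 10284), (14680, 18511), (14681, 18510), (14682, 18507), (14683, 18508), (14684, 16924), (14685, 18509), (14686, 12118), (14687, 12276), (14688, 10291), (14689, 10292), (14690, 18520), (14691, 18525), (14692, 18522), (14693, 18523), (14694, 18524), (14695, 17952), (14696, 10294), (14697,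 17954), (14698, 10296), (14699, 11826), (14700, 12038), (14701, 10302), (14702, 17414), (14703, 18084), (14704, 10306), (14705, 15036), (14706, 10309), (14707, 11698), (14708, 18091), (14709, 18105), (14710, 16673), (14711, 12429), (14712, 12386), (14713, 10326), (14714, 13980), (14715, 13979), (14716, 13982), (14717, 16621), (14718, 10337), (14719, 16623)]
    ⟨e3 q14656 (flp_d L223687) q18481, e3 q14657 L193685 q12217, e3 q14658 L193695 q11912, e3 q14659 L193703 q10273, e3 q14660 L193709 q10274, e3 q14661 (flp_d L223769) q18492, e3 q14662 (flp_d L223777) q18493, e3 q14663 (flp_d L223783) q18494, e3 q14664 L223857 q18497, e3 q14665 (flp_d L223853) q18496, e3 q14666 L193753 q10276, e3 q14667 L193761 q11177, e3 q14668 L193779 q14361, e3 q14669 (flp_d L202152) q15841, e3 q14670 (flp_d L202160) q15842, e3 q14671 L193797 q12116, e3 q14672 L193803 q10281, e3 q14673 L193807 q10282, e3 q14674 (flp_d L223893) q18501, e3 q14675 (flp_d L223911) q18503, e3 q14676 (flp_d L193837) q14359, e3 q14677 L193845 q10285, e3 q14678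 L193849 q10286, e3 q14679 (flp_d L193851) q10284, e3 q14680 (flp_d L223991) q18511, e3 q14681 (flp_d L223983) q18510, e3 q14682 (flp_d L223949) q18507, e3 q14683 (flp_d L223957) q18508, e3 q14684 (flp_d L210869) q16924, e3 q14685 (flp_d L223969) q18509, e3 q14686 L193901 q12118, e3 q14687 L193911 q12276, e3 q14688 L193919 q10291, e3 q14689 L193925 q10292, e3 q14690 (flp_d L224049) q18520, e3 q14691 L224089 q18525, e3 q14692 (flp_d L224069) q18522, e3 q14693 (flp_d L224077) q18523, e3 q14694 (flp_d L224085) q18524, e3 q14695 (flp_d L219370) q17952, e3 q14696 L193977 q10294, e3 q14697 (flp_d L219390) q17954, e3 q14698 L193995 q10296, e3 q14699 L194005 q11826, e3 q14700 L194017 q12038, e3 q14701 L194029 q10302, e3 q14702 (flp_d L214665) q17414, e3 q14703 (flp_d L220296) q18084, e3 q14704 L194051 q10306, e3 q14705 (flp_d L196955) q15036, e3 q14706 L194067 q10309, e3 q14707 L194077 q11698, e3 q14708 (flp_d L220352) q18091, e3 q14709 (flp_d L220432) q18105, e3 q14710 (flp_d L208757) q16673, e3 q14711 L194113 q12429, e3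 q14712 L194121 q12386, e3 q14713 L194125 q10326, e3 q14714 L194139 q13980, e3 q14715 L194149 q13979, e3 q14716 L194157 q13982, e3 q14717 (flp_d L208246) q16621, e3 q14718 L194177 q10337, e3 q14719 (flp_d L208270) q16623, trivial⟩ (by decide +kernel)

theorem ce_d_230 : ∀ r, r < 64 → sm gd (Qf (14720 + r)) = Qf (tab Gen.d (14720 + r)) :=
  edges_tab (sm gd) Qf (tab Gen.d) 14720 [(14720, 10339), (14721, 17428), (14722, 18138), (14723, 10342), (14724, 15048), (14725, 10346), (14726, 11704), (14727, 18145), (14728, 18159), (14729, 16655), (14730, 12415), (14731, 12341), (14732, 10363), (14733, 13984), (14734, 13983), (14735, 13986), (14736, 16598), (14737, 10372), (14738, 16600), (14739, 10712), (14740, 18246), (14741, 17547), (14742, 18247), (14743, 10708), (14744, 10380), (14745, 16186), (14746, 10385), (14747, 18535), (14748, 18269), (14749, 14523), (14750, 18272), (14751, 10398), (14752, 10396), (14753, 17486), (14754, 10399), (14755, 13558), (14756, 10402), (14757, 12345), (14758, 14965), (14759, 16397), (14760,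 10641), (14761, 18305), (14762, 17552), (14763, 18251), (14764, 10791), (14765, 10414), (14766, 16187), (14767, 10419), (14768, 18539), (14769, 18326), (14770, 14474), (14771, 18329), (14772, 10432), (14773, 10430), (14774, 17495), (14775, 10433), (14776, 13584), (14777, 10436), (14778, 12392), (14779, 14917), (14780, 16366), (14781, 12621), (14782, 18357), (14783, 13260)]
    ⟨e3 q14720 L194191 q10339, e3 q14721 (flp_d L214813) q17428, e3 q14722 (flp_d L220726) q18138, e3 q14723 L194213 q10342, e3 q14724 (flp_d L197033) q15048, e3 q14725 L194229 q10346, e3 q14726 L194239 q11704, e3 q14727 (flp_d L220782) q18145, e3 q14728 (flp_d L220862) q18159, e3 q14729 (flp_d L208584) q16655, e3 q14730 L194275 q12415, e3 q14731 L194283 q12341, e3 q14732 L194287 q10363, e3 q14733 L194311 q13984, e3 q14734 L194321 q13983, e3 q14735 L194329 q13986, e3 q14736 (flp_d L208049) q16598, e3 q14737 L194349 q10372, e3 q14738 (flp_d L208073) q16600, e3 q14739 L194364 q10712, e3 q14740 (flp_d L221510) q18246, e3 q14741 (flp_d L215936) q17547,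 e3 q14742 (flp_d L221520) q18247, e3 q14743 L194392 q10708, e3 q14744 L194402 q10380, e3 q14745 (flp_d L204537) q16186, e3 q14746 (flp_d L194416) q10385, e3 q14747 (flp_d L224195) q18535, e3 q14748 (flp_d L221696) q18269, e3 q14749 L194450 q14523, e3 q14750 (flp_d L221716) q18272, e3 q14751 L194464 q10398, e3 q14752 (flp_d L194472) q10396, e3 q14753 (flp_d L215371) q17486, e3 q14754 (flp_d L194488) q10399, e3 q14755 L194508 q13558, e3 q14756 L194518 q10402, e3 q14757 L194526 q12345, e3 q14758 (flp_d L196381) q14965, e3 q14759 (flp_d L206332) q16397, e3 q14760 L194557 q10641, e3 q14761 (flp_d L221968) q18305, e3 q14762 (flp_d L215981) q17552, e3 q14763 (flp_d L221554) q18251, e3 q14764 L194585 q10791, e3 q14765 L194595 q10414, e3 q14766 (flp_d L204548) q16187, e3 q14767 (flp_d L194609) q10419, e3 q14768 (flp_d L224241) q18539, e3 q14769 (flp_d L222126) q18326, e3 q14770 L194643 q14474, e3 q14771 (flp_d L222150) q18329, e3 q14772 L194657 q10432, e3 q14773 (flp_d L194665) q10430, e3 q14774 (flp_d L215459) q17495, e3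 q14775 (flp_d L194681) q10433, e3 q14776 L194701 q13584, e3 q14777 L194711 q10436, e3 q14778 L194719 q12392, e3 q14779 (flp_d L195970) q14917, e3 q14780 (flp_d L206070) q16366, e3 q14781 L194749 q12621, e3 q14782 (flp_d L222421) q18357, e3 q14783 L194765 q13260, trivial⟩ (by decide +kernel)

theorem ce_d_231 : ∀ r, r < 64 → sm gd (Qf (14784 + r)) = Qf (tab Gen.d (14784 + r)) :=
  edges_tab (sm gd) Qf (tab Gen.d) 14784 [(14784, 10450), (14785, 18371), (14786, 16069), (14787, 16073), (14788, 18372), (14789, 10749), (14790, 10461), (14791, 10532), (14792, 10530), (14793, 16065), (14794, 14057), (14795, 10466), (14796, 16870), (14797, 13297), (14798, 12346), (14799, 13302), (14800, 11854), (14801, 18287), (14802, 12638), (14803, 10473), (14804, 12636), (14805, 18544), (14806, 18384), (14807, 18454), (14808, 18547), (14809, 18392), (14810, 10482), (14811, 10487), (14812, 18548), (14813, 10489), (14814, 17496), (14815, 12632), (14816, 18419), (14817, 13273), (14818, 10500), (14819, 16144), (14820, 16148), (14821, 18433),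 (14822, 18434), (14823, 10510), (14824, 10667), (14825, 16141), (14826, 14110), (14827, 10515), (14828, 13356), (14829, 16871), (14830, 12391), (14831, 13362), (14832, 12066), (14833, 18344), (14834, 12627), (14835, 10523), (14836, 12625), (14837, 18552), (14838, 18446), (14839, 18554), (14840, 18555), (14841, 10535), (14842, 17487), (14843, 10546), (14844, 10548), (14845, 15344), (14846, 10551), (14847, 10552)]
    ⟨e3 q14784 L194781 q10450, e3 q14785 (flp_d L222511) q18371, e3 q14786 (flp_d L203773) q16069, e3 q14787 (flp_d L203801) q16073, e3 q14788 (flp_d L222910) q18372, e3 q14789 L194825 q10749, e3 q14790 L194829 q10461, e3 q14791 L194847 q10532, e3 q14792 L194855 q10530, e3 q14793 (flp_d L203749) q16065, e3 q14794 L194873 q14057, e3 q14795 L194881 q10466, e3 q14796 (flp_d L210433) q16870, e3 q14797 L194899 q13297, e3 q14798 (flp_d L194911) q12346, e3 q14799 L194921 q13302, e3 q14800 L194931 q11854, e3 q14801 (flp_d L221822) q18287, e3 q14802 L194951 q12638, e3 q14803 (flp_d L194959) q10473, e3 q14804 L194971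 q12636, e3 q14805 L224291 q18544, e3 q14806 (flp_d L223010) q18384, e3 q14807 (flp_d L223491) q18454, e3 q14808 L224309 q18547, e3 q14809 (flp_d L223054) q18392, e3 q14810 (flp_d L195009) q10482, e3 q14811 L195027 q10487, e3 q14812 L224319 q18548, e3 q14813 (flp_d L195041) q10489, e3 q14814 (flp_d L215473) q17496, e3 q14815 L195059 q12632, e3 q14816 (flp_d L223235) q18419, e3 q14817 L195075 q13273, e3 q14818 L195091 q10500, e3 q14819 (flp_d L204267) q16144, e3 q14820 (flp_d L204295) q16148, e3 q14821 (flp_d L223325) q18433, e3 q14822 (flp_d L223331) q18434, e3 q14823 L195133 q10510, e3 q14824 L195145 q10667, e3 q14825 (flp_d L204253) q16141, e3 q14826 L195159 q14110, e3 q14827 L195167 q10515, e3 q14828 L195177 q13356, e3 q14829 (flp_d L210445) q16871, e3 q14830 (flp_d L195197) q12391, e3 q14831 L195207 q13362, e3 q14832 L195217 q12066, e3 q14833 (flp_d L222305) q18344, e3 q14834 L195237 q12627, e3 q14835 (flp_d L195245) q10523, e3 q14836 L195257 q12625, e3 q14837 L224359 q18552, e3 q14838 (flp_d L223437) q18446,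 e3 q14839 L224365 q18554, e3 q14840 L224375 q18555, e3 q14841 (flp_d L195287) q10535, e3 q14842 (flp_d L215385) q17487, e3 q14843 L195305 q10546, e3 q14844 (flp_d L195311) q10548, e3 q14845 (flp_d L198914) q15344, e3 q14846 L195340 q10551, e3 q14847 L195350 q10552, trivial⟩ (by decide +kernel)

theorem ce_d_232 : ∀ r, r < 64 → sm gd (Qf (14848 + r)) = Qf (tab Gen.d (14848 + r)) :=
  edges_tab (sm gd) Qf (tab Gen.d) 14848 [(14848, 10607), (14849, 16480), (14850, 16494), (14851, 12120), (14852, 18558), (14853, 10563), (14854, 13263), (14855, 15998), (14856, 10565), (14857, 13280), (14858, 10566), (14859, 18561), (14860, 10568), (14861, 16484), (14862, 10581), (14863, 13383), (14864, 15904), (14865, 10579), (14866, 13473), (14867, 10580), (14868, 18566), (14869, 13381), (14870, 15901), (14871, 10583), (14872, 13421), (14873, 15870), (14874, 10588), (14875, 15636), (14876, 10635), (14877, 10601), (14878, 10603), (14879, 15448), (14880, 10606), (14881, 16339), (14882, 16354), (14883, 11914), (14884, 18572), (14885, 10615),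 (14886, 13276), (14887, 15773), (14888, 10617), (14889, 13268), (14890, 18575), (14891, 10619), (14892, 16344), (14893, 10630), (14894, 13331), (14895, 15674), (14896, 10629), (14897, 18579), (14898, 13327), (14899, 15671), (14900, 10632), (14901, 10638), (14902, 16182), (14903, 10653), (14904, 10657), (14905, 11852), (14906, 10690), (14907, 10656), (14908, 16234), (14909, 14923), (14910, 16741), (14911, 10660)]
    ⟨e3 q14848 L195362 q10607, e3 q14849 (flp_d L207077) q16480, e3 q14850 (flp_d L207182) q16494, e3 q14851 L195398 q12120, e3 q14852 L224409 q18558, e3 q14853 (flp_d L195412) q10563, e3 q14854 L195424 q13263, e3 q14855 (flp_d L203297) q15998, e3 q14856 L195434 q10565, e3 q14857 L195440 q13280, e3 q14858 (flp_d L195450) q10566, e3 q14859 L224433 q18561, e3 q14860 (flp_d L195466) q10568, e3 q14861 (flp_d L207103) q16484, e3 q14862 L195482 q10581, e3 q14863 (flp_d L195490) q13383, e3 q14864 (flp_d L202649) q15904, e3 q14865 L195506 q10579, e3 q14866 L195516 q13473, e3 q14867 (flp_d L195522) q10580, e3 q14868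 L224473 q18566, e3 q14869 L195544 q13381, e3 q14870 L202621 q15901, e3 q14871 L195556 q10583, e3 q14872 L195568 q13421, e3 q14873 (flp_d L202408) q15870, e3 q14874 L195584 q10588, e3 q14875 (flp_d L200767) q15636, e3 q14876 L195602 q10635, e3 q14877 L195614 q10601, e3 q14878 (flp_d L195622) q10603, e3 q14879 (flp_d L199466) q15448, e3 q14880 L195647 q10606, e3 q14881 (flp_d L205862) q16339, e3 q14882 (flp_d L205965) q16354, e3 q14883 L195683 q11914, e3 q14884 L224531 q18572, e3 q14885 (flp_d L195697) q10615, e3 q14886 L195709 q13276, e3 q14887 (flp_d L201660) q15773, e3 q14888 L195719 q10617, e3 q14889 L195727 q13268, e3 q14890 L224555 q18575, e3 q14891 (flp_d L195745) q10619, e3 q14892 (flp_d L205895) q16344, e3 q14893 L195761 q10630, e3 q14894 (flp_d L195771) q13331, e3 q14895 (flp_d L201002) q15674, e3 q14896 (flp_d L195779) q10629, e3 q14897 L224585 q18579, e3 q14898 L195801 q13327, e3 q14899 L200974 q15671, e3 q14900 L195813 q10632, e3 q14901 L195823 q10638, e3 q14902 (flp_d L204495) q16182, e3 q14903 L195838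 q10653, e3 q14904 L195846 q10657, e3 q14905 L195858 q11852, e3 q14906 L195870 q10690, e3 q14907 L195878 q10656, e3 q14908 L204932 q16234, e3 q14909 (flp_d L196035) q14923, e3 q14910 (flp_d L209331) q16741, e3 q14911 (flp_d L195908) q10660, trivial⟩ (by decide +kernel)

theorem ce_d_233 : ∀ r, r < 64 → sm gd (Qf (14912 + r)) = Qf (tab Gen.d (14912 + r)) :=
  edges_tab (sm gd) Qf (tab Gen.d) 14912 [(14912, 13272), (14913, 12743), (14914, 13548), (14915, 13973), (14916, 13547), (14917, 14779), (14918, 11964), (14919, 10677), (14920, 11960), (14921, 11769), (14922, 12437), (14923, 14909), (14924, 15999), (14925, 13557), (14926, 16453), (14927, 12166), (14928, 10710), (14929, 13562), (14930, 17476), (14931, 10706), (14932, 17452), (14933, 18589), (14934, 17765), (14935, 10709), (14936, 18534), (14937, 17474), (14938, 15869), (14939, 12496), (14940, 17950), (14941, 10715), (14942, 17947), (14943, 14377), (14944, 12271), (14945, 16602), (14946, 10722), (14947, 18592), (14948, 16751), (14949, 10725), (14950, 16184), (14951,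 10738), (14952, 10751), (14953, 12067), (14954, 10774), (14955, 10740), (14956, 16263), (14957, 16743), (14958, 10742), (14959, 13259), (14960, 12734), (14961, 13579), (14962, 13952), (14963, 13578), (14964, 14971), (14965, 14758), (14966, 12167), (14967, 10761), (14968, 12163), (14969, 11812), (14970, 12474), (14971, 14964), (14972, 15774), (14973, 13561), (14974, 16304), (14975, 11963)]
    ⟨e3 q14912 L195920 q13272, e3 q14913 L195930 q12743, e3 q14914 L195940 q13548, e3 q14915 (flp_d L195952) q13973, e3 q14916 L195958 q13547, e3 q14917 L195970 q14779, e3 q14918 L195978 q11964, e3 q14919 L195982 q10677, e3 q14920 L195996 q11960, e3 q14921 L196003 q11769, e3 q14922 L196027 q12437, e3 q14923 L196035 q14909, e3 q14924 (flp_d L203309) q15999, e3 q14925 L196051 q13557, e3 q14926 (flp_d L206841) q16453, e3 q14927 L196075 q12166, e3 q14928 L196085 q10710, e3 q14929 L196089 q13562, e3 q14930 (flp_d L215287) q17476, e3 q14931 (flp_d L196107) q10706, e3 q14932 (flp_d L215048) q17452, e3 q14933 (flp_d L224686) q18589, e3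 q14934 (flp_d L217640) q17765, e3 q14935 L196129 q10709, e3 q14936 (flp_d L224179) q18534, e3 q14937 L215273 q17474, e3 q14938 (flp_d L202390) q15869, e3 q14939 L196150 q12496, e3 q14940 (flp_d L219342) q17950, e3 q14941 (flp_d L196161) q10715, e3 q14942 (flp_d L219308) q17947, e3 q14943 L196181 q14377, e3 q14944 (flp_d L196195) q12271, e3 q14945 (flp_d L208094) q16602, e3 q14946 L196209 q10722, e3 q14947 (flp_d L224700) q18592, e3 q14948 (flp_d L209421) q16751, e3 q14949 L196230 q10725, e3 q14950 (flp_d L204516) q16184, e3 q14951 L196247 q10738, e3 q14952 L196255 q10751, e3 q14953 L196267 q12067, e3 q14954 L196279 q10774, e3 q14955 L196287 q10740, e3 q14956 L205179 q16263, e3 q14957 (flp_d L209349) q16743, e3 q14958 (flp_d L196309) q10742, e3 q14959 L196321 q13259, e3 q14960 L196331 q12734, e3 q14961 L196341 q13579, e3 q14962 (flp_d L196351) q13952, e3 q14963 L196357 q13578, e3 q14964 (flp_d L196448) q14971, e3 q14965 L196381 q14758, e3 q14966 L196389 q12167, e3 q14967 L196395 q10761, e3 q14968 L196409 q12163,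 e3 q14969 L196416 q11812, e3 q14970 L196440 q12474, e3 q14971 L196448 q14964, e3 q14972 (flp_d L201672) q15774, e3 q14973 L196464 q13561, e3 q14974 (flp_d L205566) q16304, e3 q14975 L196488 q11963, trivial⟩ (by decide +kernel)

theorem ce_d_234 : ∀ r, r < 64 → sm gd (Qf (14976 + r)) = Qf (tab Gen.d (14976 + r)) :=
  edges_tab (sm gd) Qf (tab Gen.d) 14976 [(14976, 10792), (14977, 13587), (14978, 17451), (14979, 10788), (14980, 18598), (14981, 17477), (14982, 17697), (14983, 10790), (14984, 17449), (14985, 18538), (14986, 15635), (14987, 12462), (14988, 17940), (14989, 10796), (14990, 17937), (14991, 14322), (14992, 12329), (14993, 16625), (14994, 10803), (14995, 18601), (14996, 16748), (14997, 16185), (14998, 10807), (14999, 10809), (15000, 16449), (15001, 18604), (15002, 11850), (15003, 10814), (15004, 14079), (15005, 16296), (15006, 18606), (15007, 17558), (15008, 17926), (15009, 10821), (15010, 17844), (15011, 16183), (15012, 10828), (15013, 10830), (15014, 18609), (15015, 12064), (15016, 10835), (15017, 14130),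 (15018, 18610), (15019, 17559), (15020, 17929), (15021, 10842), (15022, 17834), (15023, 10847), (15024, 11682), (15025, 10849), (15026, 18613), (15027, 10850), (15028, 11685), (15029, 10852), (15030, 18615), (15031, 10861), (15032, 10866), (15033, 18616), (15034, 18617), (15035, 10868), (15036, 14705), (15037, 17956), (15038, 10870), (15039, 18622)]
    ⟨e3 q14976 L196498 q10792, e3 q14977 L196502 q13587, e3 q14978 (flp_d L215044) q17451, e3 q14979 (flp_d L196524) q10788, e3 q14980 (flp_d L224762) q18598, e3 q14981 (flp_d L215295) q17477, e3 q14982 (flp_d L217084) q17697, e3 q14983 L196550 q10790, e3 q14984 L215030 q17449, e3 q14985 (flp_d L224225) q18538, e3 q14986 (flp_d L200749) q15635, e3 q14987 L196569 q12462, e3 q14988 (flp_d L219238) q17940, e3 q14989 (flp_d L196580) q10796, e3 q14990 (flp_d L219204) q17937, e3 q14991 L196602 q14322, e3 q14992 (flp_d L196618) q12329, e3 q14993 (flp_d L208291) q16625, e3 q14994 L196634 q10803, e3 q14995 (flp_d L224778) q18601, e3 q14996 (flp_d L209399) q16748, e3 q14997 (flp_d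 L204527) q16185, e3 q14998 L196665 q10807, e3 q14999 L196673 q10809, e3 q15000 L206809 q16449, e3 q15001 L224811 q18604, e3 q15002 L196695 q11850, e3 q15003 L196703 q10814, e3 q15004 (flp_d L196717) q14079, e3 q15005 L205496 q16296, e3 q15006 L224837 q18606, e3 q15007 (flp_d L216041) q17558, e3 q15008 (flp_d L219104) q17926, e3 q15009 (flp_d L196751) q10821, e3 q15010 (flp_d L218330) q17844, e3 q15011 (flp_d L204506) q16183, e3 q15012 L196777 q10828, e3 q15013 L196787 q10830, e3 q15014 L224859 q18609, e3 q15015 L196803 q12064, e3 q15016 L196813 q10835, e3 q15017 (flp_d L196827) q14130, e3 q15018 L224871 q18610, e3 q15019 (flp_d L216049) q17559, e3 q15020 (flp_d L219134) q17929, e3 q15021 (flp_d L196853) q10842, e3 q15022 (flp_d L218228) q17834, e3 q15023 (flp_d L196867) q10847, e3 q15024 L196877 q11682, e3 q15025 L196881 q10849, e3 q15026 (flp_d L224891) q18613, e3 q15027 (flp_d L196893) q10850, e3 q15028 L196903 q11685, e3 q15029 L196907 q10852, e3 q15030 (flp_d L224911) q18615, e3 q15031 (flp_d L196919) q10861,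 e3 q15032 (flp_d L196923) q10866, e3 q15033 L224921 q18616, e3 q15034 L224927 q18617, e3 q15035 (flp_d L196939) q10868, e3 q15036 L196955 q14705, e3 q15037 (flp_d L219408) q17956, e3 q15038 L196969 q10870, e3 q15039 (flp_d L224979) q18622, trivial⟩ (by decide +kernel)

theorem ce_d_235 : ∀ r, r < 64 → sm gd (Qf (15040 + r)) = Qf (tab Gen.d (15040 + r)) :=
  edges_tab (sm gd) Qf (tab Gen.d) 15040 [(15040, 18626), (15041, 18628), (15042, 10873), (15043, 18629), (15044, 10889), (15045, 18631), (15046, 18632), (15047, 10876), (15048, 14724), (15049, 17961), (15050, 10878), (15051, 18637), (15052, 18641), (15053, 18643), (15054, 10881), (15055, 18644), (15056, 10896), (15057, 10885), (15058, 10886), (15059, 18067), (15060, 11701), (15061, 10888), (15062, 10892), (15063, 10893), (15064, 18037), (15065, 11707), (15066, 10895), (15067, 15067), (15068, 10905), (15069, 10907), (15070, 10904), (15071, 18658), (15072, 18663), (15073, 10906), (15074, 18660), (15075, 18665), (15076, 10915), (15077, 10919), (15078, 10914), (15079,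 15139), (15080, 17975), (15081, 10917), (15082, 18669), (15083, 10918), (15084, 15146), (15085, 17981), (15086, 10921), (15087, 18674), (15088, 17984), (15089, 10925), (15090, 18677), (15091, 15108), (15092, 17986), (15093, 10930), (15094, 10931), (15095, 18682), (15096, 18684), (15097, 18652), (15098, 17992), (15099, 10935), (15100, 18688), (15101, 15120), (15102, 17994), (15103, 10940)]
    ⟨e3 q15040 L224993 q18626, e3 q15041 L225003 q18628, e3 q15042 (flp_d L196983) q10873, e3 q15043 (flp_d L225017) q18629, e3 q15044 L196999 q10889, e3 q15045 L225029 q18631, e3 q15046 L225035 q18632, e3 q15047 (flp_d L197017) q10876, e3 q15048 L197033 q14724, e3 q15049 (flp_d L219440) q17961, e3 q15050 L197047 q10878, e3 q15051 (flp_d L225087) q18637, e3 q15052 L225101 q18641, e3 q15053 L225111 q18643, e3 q15054 (flp_d L197061) q10881, e3 q15055 (flp_d L225125) q18644, e3 q15056 L197077 q10896, e3 q15057 (flp_d L197083) q10885, e3 q15058 (flp_d L197087) q10886, e3 q15059 (flp_d L220172) q18067, e3 q15060 L197097 q11701, e3 q15061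 L197103 q10888, e3 q15062 (flp_d L197105) q10892, e3 q15063 (flp_d L197109) q10893, e3 q15064 (flp_d L219952) q18037, e3 q15065 L197119 q11707, e3 q15066 L197125 q10895, e3 q15067 L197134 q15067, e3 q15068 L197137 q10905, e3 q15069 L197143 q10907, e3 q15070 (flp_d L197147) q10904, e3 q15071 (flp_d L225223) q18658, e3 q15072 L225252 q18663, e3 q15073 (flp_d L197159) q10906, e3 q15074 (flp_d L225236) q18660, e3 q15075 L225260 q18665, e3 q15076 L197177 q10915, e3 q15077 L197188 q10919, e3 q15078 (flp_d L197193) q10914, e3 q15079 (flp_d L197625) q15139, e3 q15080 (flp_d L219532) q17975, e3 q15081 L197216 q10917, e3 q15082 (flp_d L225279) q18669, e3 q15083 (flp_d L197226) q10918, e3 q15084 (flp_d L197673) q15146, e3 q15085 (flp_d L219572) q17981, e3 q15086 L197249 q10921, e3 q15087 (flp_d L225307) q18674, e3 q15088 (flp_d L219596) q17984, e3 q15089 L197275 q10925, e3 q15090 (flp_d L225333) q18677, e3 q15091 (flp_d L197367) q15108, e3 q15092 (flp_d L219608) q17986, e3 q15093 L197293 q10930, e3 q15094 L197299 q10931, e3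 q15095 (flp_d L225355) q18682, e3 q15096 (flp_d L225361) q18684, e3 q15097 (flp_d L225187) q18652, e3 q15098 (flp_d L219664) q17992, e3 q15099 L197325 q10935, e3 q15100 (flp_d L225387) q18688, e3 q15101 (flp_d L197467) q15120, e3 q15102 (flp_d L219676) q17994, e3 q15103 L197343 q10940, trivial⟩ (by decide +kernel)

theorem ce_d_236 : ∀ r, r < 64 → sm gd (Qf (15104 + r)) = Qf (tab Gen.d (15104 + r)) :=
  edges_tab (sm gd) Qf (tab Gen.d) 15104 [(15104, 10941), (15105, 18693), (15106, 18695), (15107, 18646), (15108, 15091), (15109, 10945), (15110, 18700), (15111, 10946), (15112, 10948), (15113, 18701), (15114, 18620), (15115, 11713), (15116, 11714), (15117, 18704), (15118, 10952), (15119, 10953), (15120, 15101), (15121, 10957), (15122, 18707), (15123, 10958), (15124, 10960), (15125, 18708), (15126, 18635), (15127, 11722), (15128, 11723), (15129, 18711), (15130, 10964), (15131, 10965), (15132, 10970), (15133, 10975), (15134, 10969), (15135, 18712), (15136, 18719), (15137, 18721), (15138, 10971), (15139, 15079), (15140,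 18013), (15141, 10974), (15142, 18714), (15143, 18730), (15144, 18732), (15145, 10976), (15146, 15084), (15147, 18019), (15148, 13727), (15149, 13802), (15150, 13803), (15151, 11302), (15152, 11109), (15153, 18470), (15154, 10985), (15155, 17752), (15156, 11040), (15157, 18746), (15158, 10988), (15159, 15231), (15160, 18030), (15161, 10990), (15162, 18754), (15163, 13879), (15164, 13881), (15165, 16161), (15166, 10993), (15167, 18763)]
    ⟨e3 q15104 L197349 q10941, e3 q15105 (flp_d L225409) q18693, e3 q15106 (flp_d L225415) q18695, e3 q15107 (flp_d L225145) q18646, e3 q15108 L197367 q15091, e3 q15109 L197375 q10945, e3 q15110 L225449 q18700, e3 q15111 (flp_d L197389) q10946, e3 q15112 L197405 q10948, e3 q15113 (flp_d L225461) q18701, e3 q15114 (flp_d L224963) q18620, e3 q15115 L197423 q11713, e3 q15116 L197436 q11714, e3 q15117 L225487 q18704, e3 q15118 L197451 q10952, e3 q15119 L197457 q10953, e3 q15120 L197467 q15101, e3 q15121 L197475 q10957, e3 q15122 L225512 q18707, e3 q15123 (flp_d L197489) q10958, e3 q15124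 L197505 q10960, e3 q15125 (flp_d L225524) q18708, e3 q15126 (flp_d L225071) q18635, e3 q15127 L197523 q11722, e3 q15128 L197536 q11723, e3 q15129 L225550 q18711, e3 q15130 L197551 q10964, e3 q15131 L197557 q10965, e3 q15132 L197563 q10970, e3 q15133 L197570 q10975, e3 q15134 (flp_d L197575) q10969, e3 q15135 (flp_d L225557) q18712, e3 q15136 L225611 q18719, e3 q15137 L225621 q18721, e3 q15138 (flp_d L197609) q10971, e3 q15139 L197625 q15079, e3 q15140 (flp_d L219791) q18013, e3 q15141 (flp_d L197631) q10974, e3 q15142 (flp_d L225571) q18714, e3 q15143 L225715 q18730, e3 q15144 L225739 q18732, e3 q15145 (flp_d L197657) q10976, e3 q15146 L197673 q15084, e3 q15147 (flp_d L219826) q18019, e3 q15148 L197683 q13727, e3 q15149 L197689 q13802, e3 q15150 L197699 q13803, e3 q15151 L197705 q11302, e3 q15152 L197709 q11109, e3 q15153 (flp_d L223591) q18470, e3 q15154 (flp_d L197725) q10985, e3 q15155 L217552 q17752, e3 q15156 L197739 q11040, e3 q15157 L225829 q18746, e3 q15158 (flp_d L197749) q10988, e3 q15159 L198139 q15231,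 e3 q15160 (flp_d L219898) q18030, e3 q15161 L197765 q10990, e3 q15162 (flp_d L225875) q18754, e3 q15163 L197771 q13879, e3 q15164 L197781 q13881, e3 q15165 (flp_d L204376) q16161, e3 q15166 (flp_d L197787) q10993, e3 q15167 (flp_d L225921) q18763, trivial⟩ (by decide +kernel)

theorem ce_d_237 : ∀ r, r < 64 → sm gd (Qf (15168 + r)) = Qf (tab Gen.d (15168 + r)) :=
  edges_tab (sm gd) Qf (tab Gen.d) 15168 [(15168, 18764), (15169, 18039), (15170, 10995), (15171, 18769), (15172, 15248), (15173, 16824), (15174, 15250), (15175, 18043), (15176, 10999), (15177, 11000), (15178, 18780), (15179, 18782), (15180, 18783), (15181, 12889), (15182, 13851), (15183, 13852), (15184, 13752), (15185, 11461), (15186, 11178), (15187, 18498), (15188, 11009), (15189, 17684), (15190, 11078), (15191, 18797), (15192, 11012), (15193, 15284), (15194, 18059), (15195, 11014), (15196, 18805), (15197, 13830), (15198, 13832), (15199, 16176), (15200, 11017), (15201, 18814), (15202, 18815), (15203, 18068), (15204, 11019), (15205, 18820), (15206, 15301),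 (15207, 16798), (15208, 15303), (15209, 18072), (15210, 11023), (15211, 11024), (15212, 18831), (15213, 18833), (15214, 18834), (15215, 12877), (15216, 17186), (15217, 11033), (15218, 18841), (15219, 13433), (15220, 11734), (15221, 11035), (15222, 18844), (15223, 18846), (15224, 11738), (15225, 11038), (15226, 18850), (15227, 11039), (15228, 11041), (15229, 18853), (15230, 18854), (15231, 15159)]
    ⟨e3 q15168 (flp_d L225925) q18764, e3 q15169 (flp_d L219966) q18039, e3 q15170 L197803 q10995, e3 q15171 (flp_d L225957) q18769, e3 q15172 (flp_d L198242) q15248, e3 q15173 (flp_d L210039) q16824, e3 q15174 (flp_d L198258) q15250, e3 q15175 (flp_d L219988) q18043, e3 q15176 L197825 q10999, e3 q15177 L197831 q11000, e3 q15178 (flp_d L226007) q18780, e3 q15179 (flp_d L226017) q18782, e3 q15180 (flp_d L226023) q18783, e3 q15181 (flp_d L197857) q12889, e3 q15182 L197861 q13851, e3 q15183 L197869 q13852, e3 q15184 L197879 q13752, e3 q15185 L197885 q11461, e3 q15186 L197889 q11178, e3 q15187 (flp_d L223873) q18498, e3 q15188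 (flp_d L197905) q11009, e3 q15189 L216996 q17684, e3 q15190 L197919 q11078, e3 q15191 L226101 q18797, e3 q15192 (flp_d L197929) q11012, e3 q15193 L198504 q15284, e3 q15194 (flp_d L220114) q18059, e3 q15195 L197945 q11014, e3 q15196 (flp_d L226147) q18805, e3 q15197 L197951 q13830, e3 q15198 L197961 q13832, e3 q15199 (flp_d L204463) q16176, e3 q15200 (flp_d L197967) q11017, e3 q15201 (flp_d L226193) q18814, e3 q15202 (flp_d L226197) q18815, e3 q15203 (flp_d L220182) q18068, e3 q15204 L197983 q11019, e3 q15205 (flp_d L226229) q18820, e3 q15206 (flp_d L198613) q15301, e3 q15207 (flp_d L209837) q16798, e3 q15208 (flp_d L198629) q15303, e3 q15209 (flp_d L220204) q18072, e3 q15210 L198005 q11023, e3 q15211 L198011 q11024, e3 q15212 (flp_d L226293) q18831, e3 q15213 (flp_d L226303) q18833, e3 q15214 (flp_d L226309) q18834, e3 q15215 (flp_d L198037) q12877, e3 q15216 (flp_d L212801) q17186, e3 q15217 L198051 q11033, e3 q15218 L226347 q18841, e3 q15219 (flp_d L198072) q13433, e3 q15220 L198076 q11734, e3 q15221 (flp_d L198080)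 q11035, e3 q15222 (flp_d L226369) q18844, e3 q15223 L226381 q18846, e3 q15224 L198095 q11738, e3 q15225 L198099 q11038, e3 q15226 (flp_d L226409) q18850, e3 q15227 (flp_d L198111) q11039, e3 q15228 (flp_d L198113) q11041, e3 q15229 (flp_d L226425) q18853, e3 q15230 (flp_d L226433) q18854, e3 q15231 (flp_d L198139) q15159, trivial⟩ (by decide +kernel)

theorem ce_d_238 : ∀ r, r < 64 → sm gd (Qf (15232 + r)) = Qf (tab Gen.d (15232 + r)) :=
  edges_tab (sm gd) Qf (tab Gen.d) 15232 [(15232, 11745), (15233, 18857), (15234, 11043), (15235, 18859), (15236, 18777), (15237, 11747), (15238, 11046), (15239, 18863), (15240, 13241), (15241, 11047), (15242, 18865), (15243, 14623), (15244, 11753), (15245, 11049), (15246, 11050), (15247, 18870), (15248, 15172), (15249, 12714), (15250, 15174), (15251, 11757), (15252, 11054), (15253, 18876), (15254, 18878), (15255, 15735), (15256, 11057), (15257, 11056), (15258, 18882), (15259, 18881), (15260, 18752), (15261, 11762), (15262, 11763), (15263, 18892), (15264, 11061), (15265, 11062),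 (15266, 18877), (15267, 18893), (15268, 16965), (15269, 17262), (15270, 11071), (15271, 18897), (15272, 13486), (15273, 11777), (15274, 11073), (15275, 18899), (15276, 18901), (15277, 11781), (15278, 11076), (15279, 18905), (15280, 11077), (15281, 11079), (15282, 18908), (15283, 18909), (15284, 15193), (15285, 11788), (15286, 18912), (15287, 11081), (15288, 18914), (15289, 18828), (15290, 11790), (15291, 11084), (15292, 18918), (15293, 13221), (15294, 11085), (15295, 18920)]
    ⟨e3 q15232 L198147 q11745, e3 q15233 L226451 q18857, e3 q15234 (flp_d L198151) q11043, e3 q15235 L226469 q18859, e3 q15236 (flp_d L225989) q18777, e3 q15237 L198171 q11747, e3 q15238 L198177 q11046, e3 q15239 (flp_d L226493) q18863, e3 q15240 L198190 q13241, e3 q15241 (flp_d L198192) q11047, e3 q15242 (flp_d L226505) q18865, e3 q15243 L198216 q14623, e3 q15244 L198222 q11753, e3 q15245 L198226 q11049, e3 q15246 L198230 q11050, e3 q15247 (flp_d L226551) q18870, e3 q15248 L198242 q15172, e3 q15249 (flp_d L198250) q12714, e3 q15250 L198258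 q15174, e3 q15251 L198266 q11757, e3 q15252 L198274 q11054, e3 q15253 (flp_d L226587) q18876, e3 q15254 (flp_d L226613) q18878, e3 q15255 L201452 q15735, e3 q15256 L198322 q11057, e3 q15257 (flp_d L198324) q11056, e3 q15258 (flp_d L226647) q18882, e3 q15259 (flp_d L226639) q18881, e3 q15260 (flp_d L225865) q18752, e3 q15261 L198348 q11762, e3 q15262 L198357 q11763, e3 q15263 L226704 q18892, e3 q15264 L198368 q11061, e3 q15265 L198372 q11062, e3 q15266 L226599 q18877, e3 q15267 (flp_d L226713) q18893, e3 q15268 (flp_d L211153) q16965, e3 q15269 (flp_d L213303) q17262, e3 q15270 L198408 q11071, e3 q15271 L226745 q18897, e3 q15272 (flp_d L198429) q13486, e3 q15273 L198433 q11777, e3 q15274 (flp_d L198437) q11073, e3 q15275 (flp_d L226764) q18899, e3 q15276 L226780 q18901, e3 q15277 L198456 q11781, e3 q15278 L198462 q11076, e3 q15279 (flp_d L226820) q18905, e3 q15280 (flp_d L198476) q11077, e3 q15281 (flp_d L198478) q11079, e3 q15282 (flp_d L226838) q18908, e3 q15283 (flp_d L226844) q18909, e3 q15284 (flp_d L198504)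 q15193, e3 q15285 L198512 q11788, e3 q15286 L226862 q18912, e3 q15287 (flp_d L198516) q11081, e3 q15288 L226880 q18914, e3 q15289 (flp_d L226275) q18828, e3 q15290 L198536 q11790, e3 q15291 L198542 q11084, e3 q15292 (flp_d L226904) q18918, e3 q15293 L198561 q13221, e3 q15294 (flp_d L198563) q11085, e3 q15295 (flp_d L226916) q18920, trivial⟩ (by decide +kernel)

theorem ce_d_239 : ∀ r, r < 64 → sm gd (Qf (15296 + r)) = Qf (tab Gen.d (15296 + r)) :=
  edges_tab (sm gd) Qf (tab Gen.d) 15296 [(15296, 14572), (15297, 11796), (15298, 11087), (15299, 11088), (15300, 18925), (15301, 15206), (15302, 12685), (15303, 15208), (15304, 11800), (15305, 11092), (15306, 18931), (15307, 18933), (15308, 15960), (15309, 11095), (15310, 11094), (15311, 18937), (15312, 18936), (15313, 18803), (15314, 11805), (15315, 11806), (15316, 18842), (15317, 11099), (15318, 11100), (15319, 18932), (15320, 18947), (15321, 16950), (15322, 18950), (15323, 18952), (15324, 11104), (15325, 18955), (15326, 18957), (15327, 11113), (15328, 18960), (15329,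 11111), (15330, 18962), (15331, 18964), (15332, 18958), (15333, 11112), (15334, 18968), (15335, 11115), (15336, 18971), (15337, 15589), (15338, 18186), (15339, 11118), (15340, 18976), (15341, 12821), (15342, 13057), (15343, 12561), (15344, 14845), (15345, 12970), (15346, 12563), (15347, 18982), (15348, 12899), (15349, 18984), (15350, 18199), (15351, 11125), (15352, 14630), (15353, 18987), (15354, 18989), (15355, 15520), (15356, 11129), (15357, 18993), (15358, 18995), (15359, 18276)]
    ⟨e3 q15296 L198587 q14572, e3 q15297 L198593 q11796, e3 q15298 L198597 q11087, e3 q15299 L198603 q11088, e3 q15300 (flp_d L226962) q18925, e3 q15301 L198613 q15206, e3 q15302 (flp_d L198621) q12685, e3 q15303 L198629 q15208, e3 q15304 L198637 q11800, e3 q15305 L198645 q11092, e3 q15306 (flp_d L227016) q18931, e3 q15307 (flp_d L227038) q18933, e3 q15308 L203089 q15960, e3 q15309 L198693 q11095, e3 q15310 (flp_d L198695) q11094, e3 q15311 (flp_d L227072) q18937, e3 q15312 (flp_d L227064) q18936, e3 q15313 (flp_d L226137) q18803, e3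 q15314 L198719 q11805, e3 q15315 L198730 q11806, e3 q15316 (flp_d L226358) q18842, e3 q15317 L198745 q11099, e3 q15318 L198751 q11100, e3 q15319 L227030 q18932, e3 q15320 (flp_d L227145) q18947, e3 q15321 (flp_d L211045) q16950, e3 q15322 L227169 q18950, e3 q15323 L227184 q18952, e3 q15324 (flp_d L198795) q11104, e3 q15325 (flp_d L227204) q18955, e3 q15326 L227210 q18957, e3 q15327 L198817 q11113, e3 q15328 L227242 q18960, e3 q15329 L198831 q11111, e3 q15330 L227250 q18962, e3 q15331 L227258 q18964, e3 q15332 (flp_d L227220) q18958, e3 q15333 (flp_d L198845) q11112, e3 q15334 (flp_d L227278) q18968, e3 q15335 (flp_d L198855) q11115, e3 q15336 (flp_d L227300) q18971, e3 q15337 L200379 q15589, e3 q15338 (flp_d L221104) q18186, e3 q15339 L198875 q11118, e3 q15340 (flp_d L227334) q18976, e3 q15341 L198886 q12821, e3 q15342 L198891 q13057, e3 q15343 L198901 q12561, e3 q15344 L198914 q14845, e3 q15345 L198922 q12970, e3 q15346 L198932 q12563, e3 q15347 L227385 q18982, e3 q15348 L198948 q12899, e3 q15349 L227442 q18984,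 e3 q15350 (flp_d L221178) q18199, e3 q15351 (flp_d L198963) q11125, e3 q15352 (flp_d L222208) q14630, e3 q15353 L227470 q18987, e3 q15354 L227484 q18989, e3 q15355 (flp_d L199903) q15520, e3 q15356 L198986 q11129, e3 q15357 (flp_d L227518) q18993, e3 q15358 L227528 q18995, e3 q15359 (flp_d L222212) q18276, trivial⟩ (by decide +kernel)

theorem ce_d_240 : ∀ r, r < 64 → sm gd (Qf (15360 + r)) = Qf (tab Gen.d (15360 + r)) :=
  edges_tab (sm gd) Qf (tab Gen.d) 15360 [(15360, 14396), (15361, 11132), (15362, 18999), (15363, 19000), (15364, 19002), (15365, 11135), (15366, 19007), (15367, 19008), (15368, 19010), (15369, 11138), (15370, 19014), (15371, 19015), (15372, 15507), (15373, 15655), (15374, 19018), (15375, 11395), (15376, 15521), (15377, 11143), (15378, 19022), (15379, 19026), (15380, 19028), (15381, 11145), (15382, 19029), (15383, 19031), (15384, 11147), (15385, 19033), (15386, 15679), (15387, 16709), (15388, 11150), (15389, 18267), (15390, 18281), (15391, 19038), (15392, 19039), (15393, 11154), (15394, 19042),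 (15395, 19043), (15396, 19044), (15397, 15501), (15398, 11156), (15399, 11157), (15400, 19050), (15401, 19051), (15402, 19052), (15403, 15476), (15404, 11160), (15405, 19057), (15406, 19062), (15407, 19059), (15408, 11161), (15409, 15728), (15410, 19069), (15411, 15730), (15412, 15731), (15413, 11163), (15414, 19074), (15415, 15734), (15416, 11336), (15417, 15459), (15418, 15480), (15419, 15763), (15420, 11168), (15421, 11169), (15422, 19058), (15423, 19084)]
    ⟨e3 q15360 L199008 q14396, e3 q15361 (flp_d L199016) q11132, e3 q15362 (flp_d L227558) q18999, e3 q15363 L227562 q19000, e3 q15364 L227576 q19002, e3 q15365 (flp_d L199042) q11135, e3 q15366 (flp_d L227602) q19007, e3 q15367 (flp_d L227620) q19008, e3 q15368 L227626 q19010, e3 q15369 (flp_d L199060) q11138, e3 q15370 (flp_d L227646) q19014, e3 q15371 (flp_d L227654) q19015, e3 q15372 (flp_d L199835) q15507, e3 q15373 (flp_d L200894) q15655, e3 q15374 L227674 q19018, e3 q15375 L199088 q11395, e3 q15376 (flp_d L199914) q15521, e3 q15377 L199098 q11143, e3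 q15378 (flp_d L227700) q19022, e3 q15379 L227714 q19026, e3 q15380 L227728 q19028, e3 q15381 (flp_d L199114) q11145, e3 q15382 (flp_d L227742) q19029, e3 q15383 L227748 q19031, e3 q15384 (flp_d L199126) q11147, e3 q15385 (flp_d L227774) q19033, e3 q15386 L201054 q15679, e3 q15387 (flp_d L209059) q16709, e3 q15388 L199146 q11150, e3 q15389 L221668 q18267, e3 q15390 (flp_d L221766) q18281, e3 q15391 L227802 q19038, e3 q15392 L227808 q19039, e3 q15393 (flp_d L199169) q11154, e3 q15394 (flp_d L227829) q19042, e3 q15395 (flp_d L227837) q19043, e3 q15396 L227839 q19044, e3 q15397 (flp_d L199801) q15501, e3 q15398 L199189 q11156, e3 q15399 L199193 q11157, e3 q15400 (flp_d L227877) q19050, e3 q15401 (flp_d L227883) q19051, e3 q15402 (flp_d L227891) q19052, e3 q15403 (flp_d L199660) q15476, e3 q15404 L199219 q11160, e3 q15405 (flp_d L227911) q19057, e3 q15406 L227947 q19062, e3 q15407 (flp_d L227931) q19059, e3 q15408 (flp_d L199231) q11161, e3 q15409 (flp_d L201414) q15728, e3 q15410 L227992 q19069, e3 q15411 (flp_d L201422)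 q15730, e3 q15412 (flp_d L201426) q15731, e3 q15413 (flp_d L199247) q11163, e3 q15414 (flp_d L228028) q19074, e3 q15415 (flp_d L201446) q15734, e3 q15416 L199263 q11336, e3 q15417 (flp_d L199542) q15459, e3 q15418 (flp_d L199680) q15480, e3 q15419 (flp_d L227434) q15763, e3 q15420 L199285 q11168, e3 q15421 L199289 q11169, e3 q15422 L227917 q19058, e3 q15423 (flp_d L228085) q19084, trivial⟩ (by decide +kernel)

theorem ce_d_241 : ∀ r, r < 64 → sm gd (Qf (15424 + r)) = Qf (tab Gen.d (15424 + r)) :=
  edges_tab (sm gd) Qf (tab Gen.d) 15424 [(15424, 19088), (15425, 12871), (15426, 11171), (15427, 16922), (15428, 19092), (15429, 11174), (15430, 19095), (15431, 19097), (15432, 19098), (15433, 11183), (15434, 11181), (15435, 19102), (15436, 19104), (15437, 19099), (15438, 11182), (15439, 19108), (15440, 11185), (15441, 15829), (15442, 18211), (15443, 11187), (15444, 19115), (15445, 12822), (15446, 12982), (15447, 12555), (15448, 14879), (15449, 12984), (15450, 12557), (15451, 19121), (15452, 12914), (15453, 19123), (15454,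 18224), (15455, 11194), (15456, 14581), (15457, 19126), (15458, 19128), (15459, 15417), (15460, 11198), (15461, 19132), (15462, 19134), (15463, 18333), (15464, 14418), (15465, 11201), (15466, 19138), (15467, 19139), (15468, 19141), (15469, 11204), (15470, 19146), (15471, 19147), (15472, 19149), (15473, 11207), (15474, 19153), (15475, 19154), (15476, 15403), (15477, 15656), (15478, 19016), (15479, 11554), (15480, 15418), (15481, 11212), (15482, 19159), (15483, 19163), (15484, 19165), (15485, 11214), (15486, 19166), (15487, 19168)]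
    ⟨e3 q15424 L228109 q19088, e3 q15425 (flp_d L199327) q12871, e3 q15426 (flp_d L199329) q11171, e3 q15427 (flp_d L210845) q16922, e3 q15428 L228132 q19092, e3 q15429 (flp_d L199353) q11174, e3 q15430 (flp_d L228152) q19095, e3 q15431 L228162 q19097, e3 q15432 L228170 q19098, e3 q15433 L199383 q11183, e3 q15434 L199393 q11181, e3 q15435 L228202 q19102, e3 q15436 L228210 q19104, e3 q15437 (flp_d L228176) q19099, e3 q15438 (flp_d L199407) q11182, e3 q15439 (flp_d L228230) q19108, e3 q15440 (flp_d L199417) q11185, e3 q15441 L202070 q15829, e3 q15442 (flp_d L221273) q18211, e3 q15443 L199427 q11187, e3 q15444 (flp_d L228276) q19115, e3 q15445 L199438 q12822, e3 q15446 L199443 q12982, e3 q15447 L199453 q12555, e3 q15448 L199466 q14879, e3 q15449 L199474 q12984, e3 q15450 L199484 q12557, e3 q15451 L228325 q19121, e3 q15452 L199500 q12914, e3 q15453 L228347 q19123, e3 q15454 (flp_d L221347) q18224, e3 q15455 (flp_d L199517) q11194, e3 q15456 L227415 q14581, e3 q15457 L228375 q19126, e3 q15458 L228389 q19128, e3 q15459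 L199542 q15417, e3 q15460 L199548 q11198, e3 q15461 (flp_d L228431) q19132, e3 q15462 L228443 q19134, e3 q15463 L227409 q18333, e3 q15464 L199574 q14418, e3 q15465 (flp_d L199582) q11201, e3 q15466 (flp_d L228473) q19138, e3 q15467 L228477 q19139, e3 q15468 L228493 q19141, e3 q15469 (flp_d L199610) q11204, e3 q15470 (flp_d L228531) q19146, e3 q15471 (flp_d L228539) q19147, e3 q15472 L228549 q19149, e3 q15473 (flp_d L199636) q11207, e3 q15474 (flp_d L228577) q19153, e3 q15475 (flp_d L228583) q19154, e3 q15476 L199660 q15403, e3 q15477 (flp_d L223819) q15656, e3 q15478 (flp_d L227664) q19016, e3 q15479 L199674 q11554, e3 q15480 L199680 q15418, e3 q15481 L199686 q11212, e3 q15482 (flp_d L228615) q19159, e3 q15483 L228633 q19163, e3 q15484 L228647 q19165, e3 q15485 (flp_d L199708) q11214, e3 q15486 (flp_d L228661) q19166, e3 q15487 L228669 q19168, trivial⟩ (by decide +kernel)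

theorem ce_d_242 : ∀ r, r < 64 → sm gd (Qf (15488 + r)) = Qf (tab Gen.d (15488 + r)) :=
  edges_tab (sm gd) Qf (tab Gen.d) 15488 [(15488, 11216), (15489, 19170), (15490, 15909), (15491, 16700), (15492, 11219), (15493, 18324), (15494, 18338), (15495, 19175), (15496, 19176), (15497, 11223), (15498, 19179), (15499, 19180), (15500, 19181), (15501, 15397), (15502, 11225), (15503, 11226), (15504, 19187), (15505, 19188), (15506, 19189), (15507, 15372), (15508, 11229), (15509, 19194), (15510, 19199), (15511, 19196), (15512, 11230), (15513, 15954), (15514, 19205), (15515, 15956), (15516, 11232), (15517, 19208), (15518, 15959), (15519, 11495), (15520, 15355), (15521, 15376), (15522, 15988), (15523, 11237), (15524, 11238), (15525, 19195), (15526, 19218), (15527, 19222), (15528, 12883), (15529, 11240), (15530, 16934), (15531, 11242), (15532, 11244), (15533, 11245), (15534, 19225), (15535, 19229), (15536, 19227), (15537, 11817), (15538, 11250), (15539, 11251), (15540, 15936), (15541, 11253), (15542, 11254), (15543, 19232),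 (15544, 19240), (15545, 19234), (15546, 17070), (15547, 19241), (15548, 19235), (15549, 11252), (15550, 19226), (15551, 19237)]
    ⟨e3 q15488 (flp_d L199722) q11216, e3 q15489 (flp_d L228697) q19170, e3 q15490 L202701 q15909, e3 q15491 (flp_d L208987) q16700, e3 q15492 L199742 q11219, e3 q15493 L222112 q18324, e3 q15494 (flp_d L222239) q18338, e3 q15495 L228725 q19175, e3 q15496 L228731 q19176, e3 q15497 (flp_d L199771) q11223, e3 q15498 (flp_d L228760) q19179, e3 q15499 (flp_d L228768) q19180, e3 q15500 L228772 q19181, e3 q15501 L199801 q15397, e3 q15502 L199805 q11225, e3 q15503 L199809 q11226, e3 q15504 (flp_d L228814) q19187, e3 q15505 (flp_d L228820) q19188, e3 q15506 (flp_d L228828) q19189, e3 q15507 L199835 q15372, e3 q15508 L199843 q11229, e3 q15509 (flp_d L228860) q19194, e3 q15510 L228902 q19199, e3 q15511 (flp_d L228882) q19196, e3 q15512 (flp_d L199865) q11230, e3 q15513 (flp_d L203051) q15954, e3 q15514 L228951 q19205, e3 q15515 (flp_d L203059) q15956, e3 q15516 (flp_d L199881) q11232, e3 q15517 (flp_d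 L228987) q19208, e3 q15518 (flp_d L203083) q15959, e3 q15519 L199897 q11495, e3 q15520 L199903 q15355, e3 q15521 L199914 q15376, e3 q15522 (flp_d L222235) q15988, e3 q15523 L199929 q11237, e3 q15524 L199935 q11238, e3 q15525 L228868 q19195, e3 q15526 (flp_d L229054) q19218, e3 q15527 L229084 q19222, e3 q15528 (flp_d L199967) q12883, e3 q15529 (flp_d L199969) q11240, e3 q15530 (flp_d L210929) q16934, e3 q15531 (flp_d L199985) q11242, e3 q15532 L199997 q11244, e3 q15533 L200007 q11245, e3 q15534 (flp_d L229106) q19225, e3 q15535 L229142 q19229, e3 q15536 (flp_d L229126) q19227, e3 q15537 L200043 q11817, e3 q15538 L200049 q11250, e3 q15539 L200057 q11251, e3 q15540 (flp_d L211899) q15936, e3 q15541 L200065 q11253, e3 q15542 L200069 q11254, e3 q15543 (flp_d L229164) q19232, e3 q15544 L229232 q19240, e3 q15545 (flp_d L229180) q19234, e3 q15546 (flp_d L211967) q17070, e3 q15547 L229242 q19241, e3 q15548 (flp_d L229192) q19235, e3 q15549 (flp_d L200121) q11252, e3 q15550 L229118 q19226, e3 q15551 (flp_d L229210) q19237,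 trivial⟩ (by decide +kernel)

theorem ce_d_243 : ∀ r, r < 64 → sm gd (Qf (15552 + r)) = Qf (tab Gen.d (15552 + r)) :=
  edges_tab (sm gd) Qf (tab Gen.d) 15552 [(15552, 19244), (15553, 19239), (15554, 11255), (15555, 11256), (15556, 19249), (15557, 11835), (15558, 11258), (15559, 19253), (15560, 11259), (15561, 16208), (15562, 19258), (15563, 16770), (15564, 11853), (15565, 11265), (15566, 11266), (15567, 19263), (15568, 19264), (15569, 19261), (15570, 19265), (15571, 11267), (15572, 11861), (15573, 11862), (15574, 11275), (15575, 19268), (15576, 11277), (15577, 11273), (15578, 19270), (15579, 11280), (15580, 19272), (15581, 19273), (15582, 11276), (15583, 19276), (15584, 19279), (15585, 11871), (15586, 11279), (15587, 11281), (15588, 11282), (15589, 15337), (15590, 11874), (15591, 11284), (15592, 19287), (15593, 19289), (15594, 11285), (15595, 19295), (15596, 19294), (15597, 11880), (15598, 11288), (15599, 19298), (15600, 19300), (15601, 11290), (15602, 11291), (15603, 14640), (15604, 14641), (15605, 11456), (15606,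 11297), (15607, 11298), (15608, 11299), (15609, 11457), (15610, 18152), (15611, 18614), (15612, 11893), (15613, 11894), (15614, 11895), (15615, 11687)]
    ⟨e3 q15552 L229270 q19244, e3 q15553 (flp_d L229224) q19239, e3 q15554 (flp_d L200155) q11255, e3 q15555 (flp_d L200161) q11256, e3 q15556 L229312 q19249, e3 q15557 L200177 q11835, e3 q15558 L200183 q11258, e3 q15559 (flp_d L229352) q19253, e3 q15560 (flp_d L200189) q11259, e3 q15561 L204738 q16208, e3 q15562 L229393 q19258, e3 q15563 (flp_d L209593) q16770, e3 q15564 L200223 q11853, e3 q15565 L200231 q11265, e3 q15566 L200235 q11266, e3 q15567 L229450 q19263, e3 q15568 L229454 q19264, e3 q15569 (flp_d L229432) q19261, e3 q15570 L229462 q19265, e3 q15571 (flp_d L200273) q11267, e3 q15572 L200279 q11861, e3 q15573 L200289 q11862, e3 q15574 L200297 q11275, e3 q15575 L229496 q19268, e3 q15576 L200307 q11277, e3 q15577 (flp_d L200315) q11273, e3 q15578 (flp_d L229504) q19270, e3 q15579 L200325 q11280, e3 q15580 L229518 q19272, e3 q15581 L229526 q19273, e3 q15582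 (flp_d L200341) q11276, e3 q15583 (flp_d L229554) q19276, e3 q15584 L229582 q19279, e3 q15585 L200361 q11871, e3 q15586 L200365 q11279, e3 q15587 (flp_d L200367) q11281, e3 q15588 (flp_d L200371) q11282, e3 q15589 (flp_d L200379) q15337, e3 q15590 L200385 q11874, e3 q15591 L200391 q11284, e3 q15592 (flp_d L229658) q19287, e3 q15593 L229662 q19289, e3 q15594 (flp_d L200403) q11285, e3 q15595 L229732 q19295, e3 q15596 (flp_d L229726) q19294, e3 q15597 L200419 q11880, e3 q15598 L200425 q11288, e3 q15599 (flp_d L229750) q19298, e3 q15600 (flp_d L229766) q19300, e3 q15601 L200455 q11290, e3 q15602 L200465 q11291, e3 q15603 L200473 q14640, e3 q15604 L200485 q14641, e3 q15605 L200489 q11456, e3 q15606 L200499 q11297, e3 q15607 L200507 q11298, e3 q15608 L200519 q11299, e3 q15609 L200529 q11457, e3 q15610 (flp_d L220834) q18152, e3 q15611 (flp_d L224903) q18614, e3 q15612 L200549 q11893, e3 q15613 L200559 q11894, e3 q15614 L200569 q11895, e3 q15615 L200589 q11687, trivial⟩ (by decide +kernel)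

theorem ce_d_244 : ∀ r, r < 64 → sm gd (Qf (15616 + r)) = Qf (tab Gen.d (15616 + r)) :=
  edges_tab (sm gd) Qf (tab Gen.d) 15616 [(15616, 11311), (15617, 17945), (15618, 11313), (15619, 11314), (15620, 11315), (15621, 19310), (15622, 19311), (15623, 11318), (15624, 11309), (15625, 19313), (15626, 11321), (15627, 19316), (15628, 11312), (15629, 19308), (15630, 17469), (15631, 11316), (15632, 16949), (15633, 19319), (15634, 11320), (15635, 14986), (15636, 14875), (15637, 19315), (15638, 11322), (15639, 19322), (15640, 11323), (15641, 19325), (15642, 19326), (15643, 19330), (15644, 11930), (15645, 11325), (15646, 11326), (15647, 19332), (15648, 11327), (15649, 19335), (15650, 12140), (15651, 11935), (15652, 11329), (15653, 11330), (15654, 19340), (15655, 15373), (15656, 15477), (15657, 19341), (15658, 11333), (15659, 19348), (15660, 19345), (15661, 19347), (15662, 19354), (15663, 11335), (15664, 19356), (15665, 19080), (15666, 11948), (15667, 11339), (15668, 19367), (15669, 11341), (15670, 19364), (15671, 14899),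 (15672, 19366), (15673, 11340), (15674, 14895), (15675, 19369), (15676, 11342), (15677, 11344), (15678, 16756), (15679, 15386)]
    ⟨e3 q15616 L200593 q11311, e3 q15617 (flp_d L219290) q17945, e3 q15618 L200607 q11313, e3 q15619 L200611 q11314, e3 q15620 L200619 q11315, e3 q15621 L229892 q19310, e3 q15622 L229898 q19311, e3 q15623 L200647 q11318, e3 q15624 (flp_d L200655) q11309, e3 q15625 (flp_d L229924) q19313, e3 q15626 L200671 q11321, e3 q15627 L229954 q19316, e3 q15628 (flp_d L200687) q11312, e3 q15629 (flp_d L229874) q19308, e3 q15630 (flp_d L215217) q17469, e3 q15631 (flp_d L200713) q11316, e3 q15632 (flp_d L211037) q16949, e3 q15633 L229982 q19319, e3 q15634 L200739 q11320, e3 q15635 L200749 q14986, e3 q15636 L200767 q14875, e3 q15637 (flp_d L229944) q19315, e3 q15638 (flp_d L200785) q11322, e3 q15639 L230012 q19322, e3 q15640 (flp_d L200799) q11323, e3 q15641 (flp_d L230032) q19325, e3 q15642 (flp_d L230040) q19326, e3 q15643 L230068 q19330, e3 q15644 L200821 q11930, e3 q15645 L200829 q11325, e3 q15646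 L200839 q11326, e3 q15647 (flp_d L230090) q19332, e3 q15648 (flp_d L200850) q11327, e3 q15649 (flp_d L230126) q19335, e3 q15650 L223811 q12140, e3 q15651 L200870 q11935, e3 q15652 L200876 q11329, e3 q15653 L200880 q11330, e3 q15654 (flp_d L230180) q19340, e3 q15655 L200894 q15373, e3 q15656 L223819 q15477, e3 q15657 L230186 q19341, e3 q15658 (flp_d L200906) q11333, e3 q15659 L230222 q19348, e3 q15660 (flp_d L230210) q19345, e3 q15661 (flp_d L230218) q19347, e3 q15662 L230258 q19354, e3 q15663 (flp_d L200930) q11335, e3 q15664 (flp_d L230276) q19356, e3 q15665 (flp_d L228062) q19080, e3 q15666 L200944 q11948, e3 q15667 L200950 q11339, e3 q15668 L230342 q19367, e3 q15669 L200956 q11341, e3 q15670 (flp_d L230320) q19364, e3 q15671 (flp_d L200974) q14899, e3 q15672 (flp_d L230338) q19366, e3 q15673 (flp_d L200986) q11340, e3 q15674 L201002 q14895, e3 q15675 (flp_d L230352) q19369, e3 q15676 (flp_d L201018) q11342, e3 q15677 L201032 q11344, e3 q15678 L209463 q16756, e3 q15679 (flp_d L201054) q15386, trivial⟩ (by decide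 +kernel)

theorem ce_d_245 : ∀ r, r < 64 → sm gd (Qf (15680 + r)) = Qf (tab Gen.d (15680 + r)) :=
  edges_tab (sm gd) Qf (tab Gen.d) 15680 [(15680, 11959), (15681, 11346), (15682, 19372), (15683, 11347), (15684, 19374), (15685, 11961), (15686, 11350), (15687, 11351), (15688, 18536), (15689, 19376), (15690, 11352), (15691, 19267), (15692, 19380), (15693, 11354), (15694, 11355), (15695, 19382), (15696, 19383), (15697, 11356), (15698, 19385), (15699, 11969), (15700, 11358), (15701, 11359), (15702, 19386), (15703, 19387), (15704, 19388), (15705, 11514), (15706, 11363), (15707, 11364), (15708, 15781), (15709, 19392), (15710, 19390), (15711, 11365), (15712, 11366), (15713, 19396), (15714, 11980), (15715, 11368), (15716, 11369), (15717, 19399), (15718, 17344), (15719, 19404), (15720, 17345), (15721, 17346), (15722, 11986), (15723, 11987), (15724, 11374), (15725, 11375), (15726, 11376), (15727, 19413), (15728, 15409), (15729, 19417), (15730, 15411), (15731, 15412), (15732, 11378), (15733, 19420), (15734, 15415), (15735,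 15255), (15736, 11383), (15737, 11382), (15738, 19423), (15739, 18686), (15740, 12000), (15741, 19427), (15742, 11385), (15743, 19183)]
    ⟨e3 q15680 L201074 q11959, e3 q15681 L201080 q11346, e3 q15682 (flp_d L230386) q19372, e3 q15683 (flp_d L201093) q11347, e3 q15684 (flp_d L230410) q19374, e3 q15685 L201105 q11961, e3 q15686 L201113 q11350, e3 q15687 L201125 q11351, e3 q15688 (flp_d L224209) q18536, e3 q15689 (flp_d L230426) q19376, e3 q15690 (flp_d L201139) q11352, e3 q15691 (flp_d L229494) q19267, e3 q15692 (flp_d L230458) q19380, e3 q15693 L201165 q11354, e3 q15694 L201177 q11355, e3 q15695 (flp_d L230478) q19382, e3 q15696 (flp_d L230490) q19383, e3 q15697 (flp_d L201199) q11356, e3 q15698 (flp_d L230512) q19385, e3 q15699 L201227 q11969, e3 q15700 L201235 q11358, e3 q15701 L201243 q11359, e3 q15702 (flp_d L230520) q19386, e3 q15703 (flp_d L230532) q19387, e3 q15704 (flp_d L230542) q19388, e3 q15705 L201274 q11514, e3 q15706 L201282 q11363, e3 q15707 L201286 q11364, e3 q15708 (flp_d L212543) q15781, e3 q15709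 L230578 q19392, e3 q15710 (flp_d L230560) q19390, e3 q15711 (flp_d L201312) q11365, e3 q15712 (flp_d L201318) q11366, e3 q15713 (flp_d L230622) q19396, e3 q15714 L201338 q11980, e3 q15715 L201344 q11368, e3 q15716 L201350 q11369, e3 q15717 (flp_d L230644) q19399, e3 q15718 (flp_d L213863) q17344, e3 q15719 L230668 q19404, e3 q15720 (flp_d L213871) q17345, e3 q15721 (flp_d L213879) q17346, e3 q15722 L201376 q11986, e3 q15723 L201382 q11987, e3 q15724 L201388 q11374, e3 q15725 L201394 q11375, e3 q15726 L201402 q11376, e3 q15727 (flp_d L230734) q19413, e3 q15728 L201414 q15409, e3 q15729 L230762 q19417, e3 q15730 L201422 q15411, e3 q15731 L201426 q15412, e3 q15732 (flp_d L201428) q11378, e3 q15733 (flp_d L230798) q19420, e3 q15734 L201446 q15415, e3 q15735 (flp_d L201452) q15255, e3 q15736 L201456 q11383, e3 q15737 (flp_d L201460) q11382, e3 q15738 (flp_d L230980) q19423, e3 q15739 (flp_d L225369) q18686, e3 q15740 L201486 q12000, e3 q15741 L231014 q19427, e3 q15742 (flp_d L201494) q11385, e3 q15743 (flp_d L228794)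 q19183, trivial⟩ (by decide +kernel)

theorem ce_d_246 : ∀ r, r < 64 → sm gd (Qf (15744 + r)) = Qf (tab Gen.d (15744 + r)) :=
  edges_tab (sm gd) Qf (tab Gen.d) 15744 [(15744, 19431), (15745, 19432), (15746, 17787), (15747, 19438), (15748, 11388), (15749, 11389), (15750, 11387), (15751, 19177), (15752, 19443), (15753, 19130), (15754, 19441), (15755, 19442), (15756, 11390), (15757, 19449), (15758, 11394), (15759, 16382), (15760, 11393), (15761, 19453), (15762, 19155), (15763, 15419), (15764, 19020), (15765, 12021), (15766, 11398), (15767, 19460), (15768, 11400), (15769, 16940), (15770, 19459), (15771, 16942), (15772, 19462), (15773, 14887), (15774, 14972), (15775, 11403), (15776, 11405), (15777, 11406), (15778, 19465), (15779, 12032), (15780, 11411), (15781, 15708), (15782, 11413), (15783, 11414), (15784, 11415), (15785, 17157), (15786, 19477), (15787, 19469), (15788, 11412), (15789, 19466), (15790, 19471), (15791, 19473), (15792, 19474), (15793, 19480), (15794, 19476), (15795, 11416), (15796, 19483), (15797, 12049),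 (15798, 11418), (15799, 19487), (15800, 11419), (15801, 16238), (15802, 19491), (15803, 16775), (15804, 12065), (15805, 11425), (15806, 19496), (15807, 11427)]
    ⟨e3 q15744 (flp_d L231044) q19431, e3 q15745 (flp_d L231050) q19432, e3 q15746 L217785 q17787, e3 q15747 L231084 q19438, e3 q15748 L201526 q11388, e3 q15749 L201530 q11389, e3 q15750 (flp_d L201532) q11387, e3 q15751 L228744 q19177, e3 q15752 (flp_d L231118) q19443, e3 q15753 (flp_d L228413) q19130, e3 q15754 (flp_d L231100) q19441, e3 q15755 (flp_d L231110) q19442, e3 q15756 (flp_d L201566) q11390, e3 q15757 (flp_d L231172) q19449, e3 q15758 L201582 q11394, e3 q15759 L206200 q16382, e3 q15760 L201588 q11393, e3 q15761 (flp_d L231198) q19453, e3 q15762 (flp_d L228589) q19155, e3 q15763 L227434 q15419, e3 q15764 (flp_d L227692) q19020, e3 q15765 L201612 q12021, e3 q15766 L201618 q11398, e3 q15767 L231242 q19460, e3 q15768 L201624 q11400, e3 q15769 L210963 q16940, e3 q15770 (flp_d L231238) q19459, e3 q15771 (flp_d L210977) q16942, e3 q15772 (flp_d L231256)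 q19462, e3 q15773 L201660 q14887, e3 q15774 L201672 q14972, e3 q15775 (flp_d L201682) q11403, e3 q15776 L201696 q11405, e3 q15777 L201706 q11406, e3 q15778 (flp_d L231284) q19465, e3 q15779 L201724 q12032, e3 q15780 L201730 q11411, e3 q15781 L212543 q15708, e3 q15782 L201738 q11413, e3 q15783 L201742 q11414, e3 q15784 L201746 q11415, e3 q15785 (flp_d L212611) q17157, e3 q15786 L231396 q19477, e3 q15787 (flp_d L231326) q19469, e3 q15788 (flp_d L201782) q11412, e3 q15789 L231302 q19466, e3 q15790 (flp_d L231344) q19471, e3 q15791 (flp_d L231364) q19473, e3 q15792 (flp_d L231374) q19474, e3 q15793 L231426 q19480, e3 q15794 (flp_d L231390) q19476, e3 q15795 (flp_d L201840) q11416, e3 q15796 L231458 q19483, e3 q15797 L201856 q12049, e3 q15798 L201862 q11418, e3 q15799 (flp_d L231502) q19487, e3 q15800 (flp_d L201872) q11419, e3 q15801 L204972 q16238, e3 q15802 L231539 q19491, e3 q15803 (flp_d L209651) q16775, e3 q15804 L201906 q12065, e3 q15805 L201914 q11425, e3 q15806 L231596 q19496, e3 q15807 L201924 q11427, trivial⟩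 (by decide +kernel)

theorem ce_d_247 : ∀ r, r < 64 → sm gd (Qf (15808 + r)) = Qf (tab Gen.d (15808 + r)) :=
  edges_tab (sm gd) Qf (tab Gen.d) 15808 [(15808, 19494), (15809, 19497), (15810, 11426), (15811, 19500), (15812, 12074), (15813, 12075), (15814, 11435), (15815, 19501), (15816, 11437), (15817, 11433), (15818, 19503), (15819, 11440), (15820, 19505), (15821, 19506), (15822, 11436), (15823, 19509), (15824, 19511), (15825, 12082), (15826, 11439), (15827, 11441), (15828, 11442), (15829, 15441), (15830, 12085), (15831, 19518), (15832, 11444), (15833, 19523), (15834, 19522), (15835, 12089), (15836, 11447), (15837, 19526), (15838, 19528), (15839, 11449), (15840, 11450), (15841, 14669), (15842, 14670), (15843, 11458), (15844, 18098), (15845, 18612), (15846, 12102), (15847, 12103), (15848, 12104), (15849, 11684), (15850, 11470), (15851, 17935), (15852, 11472), (15853, 11473), (15854, 11474), (15855, 19538), (15856, 19539), (15857, 11477), (15858, 11468), (15859, 19395), (15860, 11480), (15861, 19543), (15862, 11471),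 (15863, 19536), (15864, 17444), (15865, 11475), (15866, 16964), (15867, 19546), (15868, 11479), (15869, 14938), (15870, 14873), (15871, 19542)]
    ⟨e3 q15808 (flp_d L231578) q19494, e3 q15809 L231600 q19497, e3 q15810 (flp_d L201948) q11426, e3 q15811 L231634 q19500, e3 q15812 L201962 q12074, e3 q15813 L201968 q12075, e3 q15814 L201976 q11435, e3 q15815 L231642 q19501, e3 q15816 L201986 q11437, e3 q15817 (flp_d L201998) q11433, e3 q15818 (flp_d L231650) q19503, e3 q15819 L202008 q11440, e3 q15820 L231666 q19505, e3 q15821 L231674 q19506, e3 q15822 (flp_d L202024) q11436, e3 q15823 (flp_d L231702) q19509, e3 q15824 L231718 q19511, e3 q15825 L202044 q12082, e3 q15826 L202048 q11439, e3 q15827 (flp_d L202050) q11441, e3 q15828 (flp_d L202058) q11442, e3 q15829 (flp_d L202070) q15441, e3 q15830 L202076 q12085, e3 q15831 L231778 q19518, e3 q15832 (flp_d L202080) q11444, e3 q15833 L231834 q19523, e3 q15834 (flp_d L231828) q19522, e3 q15835 L202096 q12089, e3 q15836 L202102 q11447, e3 q15837 (flp_d L231852) q19526, e3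 q15838 (flp_d L231868) q19528, e3 q15839 L202132 q11449, e3 q15840 L202140 q11450, e3 q15841 L202152 q14669, e3 q15842 L202160 q14670, e3 q15843 L202170 q11458, e3 q15844 (flp_d L220404) q18098, e3 q15845 (flp_d L224883) q18612, e3 q15846 L202190 q12102, e3 q15847 L202200 q12103, e3 q15848 L202210 q12104, e3 q15849 L202230 q11684, e3 q15850 L202234 q11470, e3 q15851 (flp_d L219186) q17935, e3 q15852 L202246 q11472, e3 q15853 L202256 q11473, e3 q15854 L202260 q11474, e3 q15855 L231982 q19538, e3 q15856 L231988 q19539, e3 q15857 L202288 q11477, e3 q15858 (flp_d L202296) q11468, e3 q15859 (flp_d L230614) q19395, e3 q15860 L202312 q11480, e3 q15861 L232032 q19543, e3 q15862 (flp_d L202328) q11471, e3 q15863 (flp_d L231964) q19536, e3 q15864 (flp_d L214978) q17444, e3 q15865 (flp_d L202354) q11475, e3 q15866 (flp_d L211145) q16964, e3 q15867 L232060 q19546, e3 q15868 L202380 q11479, e3 q15869 L202390 q14938, e3 q15870 L202408 q14873, e3 q15871 (flp_d L232022) q19542, trivial⟩ (by decide +kernel)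

theorem ce_d_248 : ∀ r, r < 64 → sm gd (Qf (15872 + r)) = Qf (tab Gen.d (15872 + r)) :=
  edges_tab (sm gd) Qf (tab Gen.d) 15872 [(15872, 11481), (15873, 19548), (15874, 11482), (15875, 19551), (15876, 19552), (15877, 19556), (15878, 12135), (15879, 11484), (15880, 11485), (15881, 19558), (15882, 11486), (15883, 19559), (15884, 11488), (15885, 11489), (15886, 19560), (15887, 19561), (15888, 11492), (15889, 19567), (15890, 19566), (15891, 19564), (15892, 19570), (15893, 11494), (15894, 19572), (15895, 19214), (15896, 12151), (15897, 11498), (15898, 19582), (15899, 11500), (15900, 19579), (15901, 14870), (15902, 19581), (15903, 11499), (15904, 14864), (15905, 19584), (15906, 11501), (15907, 11503), (15908, 16764), (15909, 15490), (15910, 12162), (15911, 11505), (15912, 19587), (15913, 11506), (15914, 19589), (15915, 12164), (15916, 11509), (15917, 11510), (15918, 18532), (15919, 19591), (15920, 11511), (15921, 19595), (15922, 19499), (15923, 11513), (15924, 19597), (15925, 19389), (15926, 11515), (15927, 19598),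 (15928, 12171), (15929, 11517), (15930, 11518), (15931, 19599), (15932, 19600), (15933, 19321), (15934, 11522), (15935, 11523)]
    ⟨e3 q15872 (flp_d L202426) q11481, e3 q15873 L232078 q19548, e3 q15874 (flp_d L202440) q11482, e3 q15875 (flp_d L232098) q19551, e3 q15876 (flp_d L232108) q19552, e3 q15877 L232140 q19556, e3 q15878 L202462 q12135, e3 q15879 L202470 q11484, e3 q15880 L202480 q11485, e3 q15881 (flp_d L232162) q19558, e3 q15882 (flp_d L202497) q11486, e3 q15883 (flp_d L232176) q19559, e3 q15884 L202521 q11488, e3 q15885 L202529 q11489, e3 q15886 (flp_d L232186) q19560, e3 q15887 L232190 q19561, e3 q15888 (flp_d L202553) q11492, e3 q15889 L232230 q19567, e3 q15890 (flp_d L232226) q19566, e3 q15891 L232216 q19564, e3 q15892 L232262 q19570, e3 q15893 (flp_d L202577) q11494, e3 q15894 (flp_d L232282) q19572, e3 q15895 (flp_d L229021) q19214, e3 q15896 L202591 q12151, e3 q15897 L202597 q11498, e3 q15898 L232356 q19582, e3 q15899 L202603 q11500, e3 q15900 (flp_d L232334) q19579, e3 q15901 (flp_d L202621) q14870,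 e3 q15902 (flp_d L232352) q19581, e3 q15903 (flp_d L202633) q11499, e3 q15904 L202649 q14864, e3 q15905 (flp_d L232366) q19584, e3 q15906 (flp_d L202665) q11501, e3 q15907 L202679 q11503, e3 q15908 L209537 q16764, e3 q15909 (flp_d L202701) q15490, e3 q15910 L202721 q12162, e3 q15911 L202727 q11505, e3 q15912 (flp_d L232400) q19587, e3 q15913 (flp_d L202740) q11506, e3 q15914 (flp_d L232424) q19589, e3 q15915 L202752 q12164, e3 q15916 L202760 q11509, e3 q15917 L202772 q11510, e3 q15918 (flp_d L224163) q18532, e3 q15919 (flp_d L232440) q19591, e3 q15920 (flp_d L202788) q11511, e3 q15921 (flp_d L232474) q19595, e3 q15922 (flp_d L231632) q19499, e3 q15923 L202818 q11513, e3 q15924 (flp_d L232494) q19597, e3 q15925 (flp_d L230550) q19389, e3 q15926 (flp_d L202842) q11515, e3 q15927 (flp_d L232506) q19598, e3 q15928 L202872 q12171, e3 q15929 L202882 q11517, e3 q15930 L202894 q11518, e3 q15931 (flp_d L232516) q19599, e3 q15932 (flp_d L232526) q19600, e3 q15933 (flp_d L230010) q19321, e3 q15934 L202929 q11522, e3 q15935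 L202937 q11523, trivial⟩ (by decide +kernel)

theorem ce_d_249 : ∀ r, r < 64 → sm gd (Qf (15936 + r)) = Qf (tab Gen.d (15936 + r)) :=
  edges_tab (sm gd) Qf (tab Gen.d) 15936 [(15936, 15540), (15937, 11524), (15938, 11525), (15939, 19602), (15940, 12178), (15941, 11527), (15942, 11528), (15943, 19605), (15944, 17372), (15945, 19609), (15946, 17373), (15947, 17374), (15948, 12183), (15949, 12184), (15950, 11533), (15951, 11534), (15952, 11535), (15953, 19618), (15954, 15513), (15955, 19621), (15956, 15515), (15957, 11537), (15958, 19622), (15959, 15518), (15960, 15308), (15961, 11542), (15962, 11541), (15963, 19625), (15964, 18697), (15965, 12190), (15966, 19628), (15967, 11544), (15968, 19047), (15969, 19632), (15970, 19633), (15971, 17767), (15972, 19639), (15973, 11547), (15974, 11548), (15975, 11546), (15976, 19644), (15977, 19040), (15978, 19642), (15979, 18991), (15980, 19643), (15981, 11549), (15982, 19649), (15983, 11553), (15984, 16408), (15985, 11552), (15986, 19653), (15987, 19017), (15988, 15522), (15989,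 19157), (15990, 12204), (15991, 11557), (15992, 19660), (15993, 11559), (15994, 16955), (15995, 19659), (15996, 16957), (15997, 19662), (15998, 14855), (15999, 14924)]
    ⟨e3 q15936 L211899 q15540, e3 q15937 (flp_d L202947) q11524, e3 q15938 (flp_d L202953) q11525, e3 q15939 (flp_d L232552) q19602, e3 q15940 L202973 q12178, e3 q15941 L202979 q11527, e3 q15942 L202985 q11528, e3 q15943 (flp_d L232576) q19605, e3 q15944 (flp_d L214168) q17372, e3 q15945 L232608 q19609, e3 q15946 (flp_d L214178) q17373, e3 q15947 (flp_d L214188) q17374, e3 q15948 L203013 q12183, e3 q15949 L203019 q12184, e3 q15950 L203025 q11533, e3 q15951 L203031 q11534, e3 q15952 L203039 q11535, e3 q15953 (flp_d L232682) q19618, e3 q15954 L203051 q15513, e3 q15955 L232709 q19621, e3 q15956 L203059 q15515, e3 q15957 (flp_d L203065) q11537, e3 q15958 (flp_d L232727) q19622, e3 q15959 L203083 q15518, e3 q15960 (flp_d L203089) q15308, e3 q15961 L203093 q11542, e3 q15962 (flp_d L203097) q11541, e3 q15963 (flp_d L232759) q19625, e3 q15964 (flp_d L225423)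 q18697, e3 q15965 L203123 q12190, e3 q15966 L232783 q19628, e3 q15967 (flp_d L203131) q11544, e3 q15968 (flp_d L227865) q19047, e3 q15969 (flp_d L232823) q19632, e3 q15970 (flp_d L232831) q19633, e3 q15971 L217658 q17767, e3 q15972 L232867 q19639, e3 q15973 L203163 q11547, e3 q15974 L203167 q11548, e3 q15975 (flp_d L203169) q11546, e3 q15976 (flp_d L232901) q19644, e3 q15977 L227817 q19040, e3 q15978 (flp_d L232883) q19642, e3 q15979 (flp_d L227506) q18991, e3 q15980 (flp_d L232891) q19643, e3 q15981 (flp_d L203203) q11549, e3 q15982 (flp_d L232951) q19649, e3 q15983 L203219 q11553, e3 q15984 L206424 q16408, e3 q15985 L203225 q11552, e3 q15986 (flp_d L232983) q19653, e3 q15987 (flp_d L227668) q19017, e3 q15988 L222235 q15522, e3 q15989 (flp_d L228605) q19157, e3 q15990 L203249 q12204, e3 q15991 L203255 q11557, e3 q15992 L233039 q19660, e3 q15993 L203261 q11559, e3 q15994 L211071 q16955, e3 q15995 (flp_d L233035) q19659, e3 q15996 (flp_d L211085) q16957, e3 q15997 (flp_d L233057) q19662, e3 q15998 L203297 q14855,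 e3 q15999 L203309 q14924, trivial⟩ (by decide +kernel)

theorem ce_d_250 : ∀ r, r < 64 → sm gd (Qf (16000 + r)) = Qf (tab Gen.d (16000 + r)) :=
  edges_tab (sm gd) Qf (tab Gen.d) 16000 [(16000, 11887), (16001, 11569), (16002, 17508), (16003, 11571), (16004, 16308), (16005, 16658), (16006, 17990), (16007, 12225), (16008, 11573), (16009, 11574), (16010, 19508), (16011, 16045), (16012, 12226), (16013, 11577), (16014, 11578), (16015, 19675), (16016, 11579), (16017, 19679), (16018, 17958), (16019, 19678), (16020, 12230), (16021, 12231), (16022, 11583), (16023, 11584), (16024, 16154), (16025, 17235), (16026, 16155), (16027, 16156), (16028, 13138), (16029, 12236), (16030, 11588), (16031, 11589), (16032, 19696), (16033, 19697), (16034, 19698), (16035, 19700), (16036, 11590), (16037, 19707), (16038, 19705), (16039, 19706), (16040, 12246), (16041, 12247), (16042, 11594), (16043, 11595), (16044, 19715), (16045, 16011), (16046, 19720), (16047, 11598), (16048, 11599), (16049, 11597), (16050, 18718), (16051, 19726), (16052, 18226),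 (16053, 19723), (16054, 19724), (16055, 19725), (16056, 12255), (16057, 12256), (16058, 11604), (16059, 11605), (16060, 16803), (16061, 19735), (16062, 19736), (16063, 19740)]
    ⟨e3 q16000 L203321 q11887, e3 q16001 L203332 q11569, e3 q16002 L215598 q17508, e3 q16003 L203348 q11571, e3 q16004 L205607 q16308, e3 q16005 (flp_d L208610) q16658, e3 q16006 L219646 q17990, e3 q16007 L203373 q12225, e3 q16008 L203379 q11573, e3 q16009 L203389 q11574, e3 q16010 (flp_d L231696) q19508, e3 q16011 (flp_d L203621) q16045, e3 q16012 L203413 q12226, e3 q16013 L203419 q11577, e3 q16014 L203425 q11578, e3 q16015 L233157 q19675, e3 q16016 (flp_d L203433) q11579, e3 q16017 L233189 q19679, e3 q16018 L219654 q17958, e3 q16019 (flp_d L233185) q19678, e3 q16020 L203449 q12230, e3 q16021 L203459 q12231, e3 q16022 L203467 q11583, e3 q16023 L203479 q11584, e3 q16024 (flp_d L204338) q16154, e3 q16025 (flp_d L213155) q17235, e3 q16026 (flp_d L204344) q16155, e3 q16027 (flp_d L204350) q16156, e3 q16028 L203499 q13138, e3 q16029 L203505 q12236,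 e3 q16030 L203509 q11588, e3 q16031 L203513 q11589, e3 q16032 (flp_d L233307) q19696, e3 q16033 (flp_d L233319) q19697, e3 q16034 (flp_d L233329) q19698, e3 q16035 L233345 q19700, e3 q16036 (flp_d L203549) q11590, e3 q16037 L233395 q19707, e3 q16038 (flp_d L233381) q19705, e3 q16039 (flp_d L233393) q19706, e3 q16040 L203577 q12246, e3 q16041 L203587 q12247, e3 q16042 L203593 q11594, e3 q16043 L203601 q11595, e3 q16044 L233459 q19715, e3 q16045 L203621 q16011, e3 q16046 L233503 q19720, e3 q16047 L203629 q11598, e3 q16048 L203633 q11599, e3 q16049 (flp_d L203635) q11597, e3 q16050 (flp_d L225625) q18718, e3 q16051 (flp_d L233555) q19726, e3 q16052 L227421 q18226, e3 q16053 (flp_d L233525) q19723, e3 q16054 (flp_d L233531) q19724, e3 q16055 (flp_d L233545) q19725, e3 q16056 L203679 q12255, e3 q16057 L203689 q12256, e3 q16058 L203697 q11604, e3 q16059 L203701 q11605, e3 q16060 (flp_d L209883) q16803, e3 q16061 (flp_d L233623) q19735, e3 q16062 (flp_d L233629) q19736, e3 q16063 L233663 q19740, trivial⟩ (by decide +kernel)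

theorem ce_d_251 : ∀ r, r < 64 → sm gd (Qf (16064 + r)) = Qf (tab Gen.d (16064 + r)) :=
  edges_tab (sm gd) Qf (tab Gen.d) 16064 [(16064, 19738), (16065, 14793), (16066, 14564), (16067, 14565), (16068, 12723), (16069, 14786), (16070, 12811), (16071, 14561), (16072, 13020), (16073, 14787), (16074, 14566), (16075, 14168), (16076, 12096), (16077, 11621), (16078, 17512), (16079, 11623), (16080, 16457), (16081, 16676), (16082, 17998), (16083, 12284), (16084, 11625), (16085, 11626), (16086, 19275), (16087, 16121), (16088, 12285), (16089, 11629), (16090, 11630), (16091, 19769), (16092, 11631), (16093, 19773), (16094, 19772), (16095, 17963), (16096, 12289), (16097, 12290), (16098, 11635), (16099, 11636), (16100, 16169), (16101, 17311), (16102, 16170), (16103, 16171), (16104, 13197), (16105, 12295), (16106, 11640), (16107, 11641), (16108, 19790), (16109, 19791), (16110, 19792), (16111, 19794), (16112, 11642), (16113, 19801), (16114, 19799), (16115, 19800), (16116, 12305), (16117, 12306), (16118, 11646), (16119, 11647),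 (16120, 19809), (16121, 16087), (16122, 19814), (16123, 11650), (16124, 11651), (16125, 11649), (16126, 19820), (16127, 18729)]
    ⟨e3 q16064 (flp_d L233649) q19738, e3 q16065 L203749 q14793, e3 q16066 L203753 q14564, e3 q16067 L203757 q14565, e3 q16068 L203763 q12723, e3 q16069 L203773 q14786, e3 q16070 L203779 q12811, e3 q16071 L203787 q14561, e3 q16072 L203791 q13020, e3 q16073 L203801 q14787, e3 q16074 L203809 q14566, e3 q16075 L203815 q14168, e3 q16076 L203821 q12096, e3 q16077 L203832 q11621, e3 q16078 L215634 q17512, e3 q16079 L203848 q11623, e3 q16080 L206882 q16457, e3 q16081 (flp_d L208783) q16676, e3 q16082 (flp_d L220022) q17998, e3 q16083 L203873 q12284, e3 q16084 L203879 q11625, e3 q16085 L203885 q11626, e3 q16086 (flp_d L229548) q19275, e3 q16087 (flp_d L204125) q16121, e3 q16088 L203913 q12285, e3 q16089 L203919 q11629, e3 q16090 L203927 q11630, e3 q16091 L233905 q19769, e3 q16092 (flp_d L203933) q11631, e3 q16093 L233937 q19773, e3 q16094 (flp_d L233933) q19772, e3 q16095 (flp_d L220036) q17963,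 e3 q16096 L203949 q12289, e3 q16097 L203957 q12290, e3 q16098 L203967 q11635, e3 q16099 L203975 q11636, e3 q16100 (flp_d L204425) q16169, e3 q16101 (flp_d L213665) q17311, e3 q16102 (flp_d L204431) q16170, e3 q16103 (flp_d L204437) q16171, e3 q16104 L203999 q13197, e3 q16105 L204005 q12295, e3 q16106 L204009 q11640, e3 q16107 L204015 q11641, e3 q16108 (flp_d L234061) q19790, e3 q16109 (flp_d L234071) q19791, e3 q16110 (flp_d L234085) q19792, e3 q16111 L234099 q19794, e3 q16112 (flp_d L204053) q11642, e3 q16113 L234149 q19801, e3 q16114 (flp_d L234135) q19799, e3 q16115 (flp_d L234143) q19800, e3 q16116 L204081 q12305, e3 q16117 L204089 q12306, e3 q16118 L204097 q11646, e3 q16119 L204105 q11647, e3 q16120 L234213 q19809, e3 q16121 L204125 q16087, e3 q16122 L234257 q19814, e3 q16123 L204133 q11650, e3 q16124 L204137 q11651, e3 q16125 (flp_d L204139) q11649, e3 q16126 (flp_d L234309) q19820, e3 q16127 L225713 q18729, trivial⟩ (by decide +kernel)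

theorem ce_d_252 : ∀ r, r < 64 → sm gd (Qf (16128 + r)) = Qf (tab Gen.d (16128 + r)) :=
  edges_tab (sm gd) Qf (tab Gen.d) 16128 [(16128, 19817), (16129, 19818), (16130, 18201), (16131, 19819), (16132, 12314), (16133, 12315), (16134, 11656), (16135, 11657), (16136, 19829), (16137, 19834), (16138, 19831), (16139, 16829), (16140, 19832), (16141, 14825), (16142, 14615), (16143, 14616), (16144, 14819), (16145, 12730), (16146, 14611), (16147, 12815), (16148, 14820), (16149, 13091), (16150, 14189), (16151, 14617), (16152, 16248), (16153, 11666), (16154, 16024), (16155, 16026), (16156, 16027), (16157, 17356), (16158, 11668), (16159, 19860), (16160, 19861), (16161, 15165), (16162, 17347), (16163, 11670), (16164, 11671), (16165, 19869), (16166, 19870), (16167, 16218), (16168, 11673), (16169, 16100), (16170, 16102), (16171, 16103), (16172, 17384), (16173, 11675), (16174, 19878), (16175, 19879), (16176, 15199), (16177, 17375), (16178, 11677), (16179, 11678), (16180, 19887), (16181, 19888), (16182, 14902), (16183, 15011),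 (16184, 14950), (16185, 14997), (16186, 14745), (16187, 14766), (16188, 18647), (16189, 19604), (16190, 18651), (16191, 18653)]
    ⟨e3 q16128 (flp_d L234279) q19817, e3 q16129 (flp_d L234291) q19818, e3 q16130 (flp_d L222216) q18201, e3 q16131 (flp_d L234303) q19819, e3 q16132 L204183 q12314, e3 q16133 L204193 q12315, e3 q16134 L204201 q11656, e3 q16135 L204207 q11657, e3 q16136 (flp_d L234377) q19829, e3 q16137 L234425 q19834, e3 q16138 (flp_d L234401) q19831, e3 q16139 (flp_d L210085) q16829, e3 q16140 (flp_d L234409) q19832, e3 q16141 L204253 q14825, e3 q16142 L204257 q14615, e3 q16143 L204261 q14616, e3 q16144 L204267 q14819, e3 q16145 L204275 q12730, e3 q16146 L204283 q14611, e3 q16147 L204287 q12815, e3 q16148 L204295 q14820, e3 q16149 L204305 q13091, e3 q16150 L204313 q14189, e3 q16151 L204319 q14617, e3 q16152 (flp_d L205073) q16248, e3 q16153 (flp_d L204331) q11666, e3 q16154 L204338 q16024, e3 q16155 L204344 q16026, e3 q16156 L204350 q16027, e3 q16157 (flp_d L214000) q17356, e3 q16158 (flp_d L204356)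 q11668, e3 q16159 (flp_d L234677) q19860, e3 q16160 (flp_d L234685) q19861, e3 q16161 L204376 q15165, e3 q16162 (flp_d L213891) q17347, e3 q16163 L204384 q11670, e3 q16164 L204390 q11671, e3 q16165 (flp_d L234733) q19869, e3 q16166 (flp_d L234741) q19870, e3 q16167 (flp_d L204825) q16218, e3 q16168 (flp_d L204412) q11673, e3 q16169 L204425 q16100, e3 q16170 L204431 q16102, e3 q16171 L204437 q16103, e3 q16172 (flp_d L214321) q17384, e3 q16173 (flp_d L204443) q11675, e3 q16174 (flp_d L234823) q19878, e3 q16175 (flp_d L234831) q19879, e3 q16176 L204463 q15199, e3 q16177 (flp_d L214200) q17375, e3 q16178 L204471 q11677, e3 q16179 L204477 q11678, e3 q16180 (flp_d L234879) q19887, e3 q16181 (flp_d L234889) q19888, e3 q16182 L204495 q14902, e3 q16183 L204506 q15011, e3 q16184 L204516 q14950, e3 q16185 L204527 q14997, e3 q16186 L204537 q14745, e3 q16187 L204548 q14766, e3 q16188 (flp_d L225157) q18647, e3 q16189 (flp_d L232568) q19604, e3 q16190 (flp_d L225175) q18651, e3 q16191 (flp_d L225199) q18653, trivial⟩ (by decide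 +kernel)

theorem ce_d_253 : ∀ r, r < 64 → sm gd (Qf (16192 + r)) = Qf (tab Gen.d (16192 + r)) :=
  edges_tab (sm gd) Qf (tab Gen.d) 16192 [(16192, 19397), (16193, 18657), (16194, 16746), (16195, 16571), (16196, 16572), (16197, 11715), (16198, 19892), (16199, 16749), (16200, 16536), (16201, 16537), (16202, 11724), (16203, 19893), (16204, 11732), (16205, 11807), (16206, 11736), (16207, 11737), (16208, 15561), (16209, 16293), (16210, 18849), (16211, 11740), (16212, 18852), (16213, 11742), (16214, 18862), (16215, 11749), (16216, 12313), (16217, 11750), (16218, 16167), (16219, 18869), (16220, 11755), (16221, 18875), (16222, 11759), (16223, 13513), (16224, 11760), (16225, 19903), (16226, 18890), (16227, 18891), (16228, 11764), (16229, 19907), (16230, 11767), (16231, 11768), (16232, 16646), (16233, 17413), (16234, 14908), (16235, 11775), (16236, 11779), (16237, 11780), (16238, 15801), (16239, 16446), (16240, 18904), (16241, 11783), (16242, 18907), (16243, 11786), (16244, 18917), (16245, 11792), (16246, 12254), (16247,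 11793), (16248, 16152), (16249, 18924), (16250, 11798), (16251, 18930), (16252, 11802), (16253, 13537), (16254, 11803), (16255, 19916)]
    ⟨e3 q16192 (flp_d L230628) q19397, e3 q16193 (flp_d L225217) q18657, e3 q16194 (flp_d L209381) q16746, e3 q16195 (flp_d L207816) q16571, e3 q16196 (flp_d L207834) q16572, e3 q16197 (flp_d L204631) q11715, e3 q16198 (flp_d L234927) q19892, e3 q16199 (flp_d L209403) q16749, e3 q16200 (flp_d L207531) q16536, e3 q16201 (flp_d L207549) q16537, e3 q16202 (flp_d L204672) q11724, e3 q16203 (flp_d L234939) q19893, e3 q16204 L204693 q11732, e3 q16205 L204710 q11807, e3 q16206 L204714 q11736, e3 q16207 (flp_d L204720) q11737, e3 q16208 (flp_d L204738) q15561, e3 q16209 (flp_d L205458) q16293, e3 q16210 (flp_d L226403) q18849, e3 q16211 L204758 q11740, e3 q16212 (flp_d L226421) q18852, e3 q16213 L204778 q11742, e3 q16214 (flp_d L226487) q18862, e3 q16215 L204788 q11749, e3 q16216 L204806 q12313, e3 q16217 (flp_d L204808) q11750, e3 q16218 L204825 q16167, e3 q16219 (flp_d L226543) q18869,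 e3 q16220 L204839 q11755, e3 q16221 (flp_d L226581) q18875, e3 q16222 L204851 q11759, e3 q16223 L204861 q13513, e3 q16224 L204865 q11760, e3 q16225 (flp_d L235037) q19903, e3 q16226 (flp_d L226694) q18890, e3 q16227 (flp_d L226700) q18891, e3 q16228 (flp_d L204887) q11764, e3 q16229 (flp_d L235073) q19907, e3 q16230 L204902 q11767, e3 q16231 L204912 q11768, e3 q16232 L208507 q16646, e3 q16233 (flp_d L214657) q17413, e3 q16234 (flp_d L204932) q14908, e3 q16235 L204936 q11775, e3 q16236 L204948 q11779, e3 q16237 (flp_d L204954) q11780, e3 q16238 (flp_d L204972) q15801, e3 q16239 (flp_d L206767) q16446, e3 q16240 (flp_d L226812) q18904, e3 q16241 L205000 q11783, e3 q16242 (flp_d L226832) q18907, e3 q16243 L205020 q11786, e3 q16244 (flp_d L226898) q18917, e3 q16245 L205030 q11792, e3 q16246 L205048 q12254, e3 q16247 (flp_d L205050) q11793, e3 q16248 L205073 q16152, e3 q16249 (flp_d L226954) q18924, e3 q16250 L205087 q11798, e3 q16251 (flp_d L227010) q18930, e3 q16252 L205099 q11802, e3 q16253 L205109 q13537, e3 q16254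 L205113 q11803, e3 q16255 (flp_d L235157) q19916, trivial⟩ (by decide +kernel)

theorem ce_d_254 : ∀ r, r < 64 → sm gd (Qf (16256 + r)) = Qf (tab Gen.d (16256 + r)) :=
  edges_tab (sm gd) Qf (tab Gen.d) 16256 [(16256, 18945), (16257, 18946), (16258, 19894), (16259, 11810), (16260, 11811), (16261, 16664), (16262, 17409), (16263, 14956), (16264, 18619), (16265, 14099), (16266, 11815), (16267, 19230), (16268, 13630), (16269, 19231), (16270, 11825), (16271, 12450), (16272, 11827), (16273, 11819), (16274, 13673), (16275, 11830), (16276, 16431), (16277, 11832), (16278, 19242), (16279, 17907), (16280, 19247), (16281, 17862), (16282, 19252), (16283, 11837), (16284, 13965), (16285, 19256), (16286, 11844), (16287, 11846), (16288, 14078), (16289, 14080), (16290, 17435), (16291, 19260), (16292, 11858), (16293, 16209), (16294, 12608), (16295, 17446), (16296, 15005), (16297, 17831), (16298, 11866), (16299, 11867), (16300, 13966), (16301, 12080), (16302, 19282), (16303, 19286), (16304, 14974), (16305, 19930), (16306, 14184), (16307,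 11879), (16308, 16004), (16309, 17509), (16310, 19665), (16311, 17460), (16312, 19302), (16313, 17456), (16314, 19303), (16315, 12609), (16316, 19304), (16317, 19532), (16318, 12294), (16319, 11896)]
    ⟨e3 q16256 (flp_d L227131) q18945, e3 q16257 (flp_d L227139) q18946, e3 q16258 (flp_d L234953) q19894, e3 q16259 L205149 q11810, e3 q16260 L205159 q11811, e3 q16261 L208680 q16664, e3 q16262 (flp_d L214617) q17409, e3 q16263 (flp_d L205179) q14956, e3 q16264 (flp_d L224947) q18619, e3 q16265 (flp_d L205201) q14099, e3 q16266 (flp_d L205213) q11815, e3 q16267 (flp_d L229152) q19230, e3 q16268 (flp_d L205236) q13630, e3 q16269 (flp_d L229158) q19231, e3 q16270 L205244 q11825, e3 q16271 (flp_d L205256) q12450, e3 q16272 L205262 q11827, e3 q16273 (flp_d L205266) q11819, e3 q16274 L205283 q13673, e3 q16275 L205289 q11830, e3 q16276 (flp_d L206621) q16431, e3 q16277 L205304 q11832, e3 q16278 (flp_d L229254) q19242, e3 q16279 (flp_d L218910) q17907, e3 q16280 (flp_d L229300) q19247, e3 q16281 (flp_d L218492) q17862, e3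 q16282 (flp_d L229346) q19252, e3 q16283 L205362 q11837, e3 q16284 L205370 q13965, e3 q16285 (flp_d L229380) q19256, e3 q16286 L205388 q11844, e3 q16287 L205403 q11846, e3 q16288 L205418 q14078, e3 q16289 L205428 q14080, e3 q16290 (flp_d L214884) q17435, e3 q16291 (flp_d L229420) q19260, e3 q16292 L205446 q11858, e3 q16293 L205458 q16209, e3 q16294 L205468 q12608, e3 q16295 L215008 q17446, e3 q16296 (flp_d L205496) q15005, e3 q16297 (flp_d L218200) q17831, e3 q16298 (flp_d L205506) q11866, e3 q16299 (flp_d L205514) q11867, e3 q16300 L205526 q13966, e3 q16301 L205538 q12080, e3 q16302 (flp_d L229624) q19282, e3 q16303 (flp_d L229650) q19286, e3 q16304 L205566 q14974, e3 q16305 L235284 q19930, e3 q16306 L205582 q14184, e3 q16307 (flp_d L205588) q11879, e3 q16308 (flp_d L205607) q16004, e3 q16309 (flp_d L215604) q17509, e3 q16310 (flp_d L233089) q19665, e3 q16311 (flp_d L215125) q17460, e3 q16312 (flp_d L229802) q19302, e3 q16313 (flp_d L215082) q17456, e3 q16314 (flp_d L229818) q19303, e3 q16315 L205655 q12609, e3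 q16316 (flp_d L229828) q19304, e3 q16317 (flp_d L231918) q19532, e3 q16318 L205687 q12294, e3 q16319 (flp_d L205695) q11896, trivial⟩ (by decide +kernel)

theorem ce_d_255 : ∀ r, r < 64 → sm gd (Qf (16320 + r)) = Qf (tab Gen.d (16320 + r)) :=
  edges_tab (sm gd) Qf (tab Gen.d) 16320 [(16320, 12070), (16321, 11907), (16322, 16855), (16323, 11909), (16324, 11913), (16325, 18491), (16326, 11926), (16327, 19324), (16328, 12131), (16329, 16471), (16330, 17440), (16331, 19334), (16332, 19935), (16333, 17425), (16334, 19338), (16335, 19339), (16336, 11938), (16337, 11939), (16338, 19937), (16339, 14881), (16340, 11941), (16341, 19940), (16342, 19941), (16343, 16489), (16344, 14892), (16345, 11944), (16346, 19127), (16347, 11946), (16348, 19945), (16349, 16485), (16350, 19361), (16351, 19363), (16352, 11953), (16353, 11956), (16354, 14882), (16355, 18585), (16356, 18586), (16357, 17855), (16358, 13945), (16359, 11976), (16360, 14044), (16361, 19394), (16362, 11979), (16363, 19398), (16364, 12388), (16365, 19950), (16366,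 14780), (16367, 11984), (16368, 19806), (16369, 19410), (16370, 19411), (16371, 11990), (16372, 16864), (16373, 12191), (16374, 19954), (16375, 12193), (16376, 12194), (16377, 11993), (16378, 19957), (16379, 19958), (16380, 12198), (16381, 12199), (16382, 15759), (16383, 11997)]
    ⟨e3 q16320 L205707 q12070, e3 q16321 (flp_d L205713) q11907, e3 q16322 (flp_d L210289) q16855, e3 q16323 L205735 q11909, e3 q16324 L205743 q11913, e3 q16325 (flp_d L223755) q18491, e3 q16326 (flp_d L205757) q11926, e3 q16327 (flp_d L230024) q19324, e3 q16328 L205783 q12131, e3 q16329 (flp_d L207010) q16471, e3 q16330 (flp_d L214932) q17440, e3 q16331 (flp_d L230118) q19334, e3 q16332 L235346 q19935, e3 q16333 (flp_d L214783) q17425, e3 q16334 (flp_d L230158) q19338, e3 q16335 (flp_d L230166) q19339, e3 q16336 L205840 q11938, e3 q16337 (flp_d L205846) q11939, e3 q16338 L235362 q19937, e3 q16339 L205862 q14881, e3 q16340 (flp_d L205868) q11941, e3 q16341 (flp_d L235396) q19940, e3 q16342 (flp_d L235402) q19941, e3 q16343 (flp_d L207138)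 q16489, e3 q16344 L205895 q14892, e3 q16345 (flp_d L205901) q11944, e3 q16346 (flp_d L228387) q19127, e3 q16347 L205915 q11946, e3 q16348 (flp_d L235436) q19945, e3 q16349 (flp_d L207111) q16485, e3 q16350 (flp_d L230294) q19361, e3 q16351 (flp_d L230312) q19363, e3 q16352 L205943 q11953, e3 q16353 L205953 q11956, e3 q16354 L205965 q14882, e3 q16355 (flp_d L224637) q18585, e3 q16356 (flp_d L224654) q18586, e3 q16357 (flp_d L218436) q17855, e3 q16358 L205992 q13945, e3 q16359 L206004 q11976, e3 q16360 L206016 q14044, e3 q16361 (flp_d L230602) q19394, e3 q16362 L206034 q11979, e3 q16363 (flp_d L230636) q19398, e3 q16364 L206052 q12388, e3 q16365 L235479 q19950, e3 q16366 L206070 q14780, e3 q16367 (flp_d L206074) q11984, e3 q16368 (flp_d L234189) q19806, e3 q16369 (flp_d L230704) q19410, e3 q16370 (flp_d L230716) q19411, e3 q16371 (flp_d L206110) q11990, e3 q16372 (flp_d L210377) q16864, e3 q16373 L206130 q12191, e3 q16374 L235515 q19954, e3 q16375 L206148 q12193, e3 q16376 L206158 q12194, e3 q16377 (flp_d L206162)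 q11993, e3 q16378 (flp_d L235549) q19957, e3 q16379 (flp_d L235555) q19958, e3 q16380 L206178 q12198, e3 q16381 L206188 q12199, e3 q16382 (flp_d L206200) q15759, e3 q16383 L206206 q11997, trivial⟩ (by decide +kernel)

theorem ce_d_256 : ∀ r, r < 64 → sm gd (Qf (16384 + r)) = Qf (tab Gen.d (16384 + r)) :=
  edges_tab (sm gd) Qf (tab Gen.d) 16384 [(16384, 13429), (16385, 12001), (16386, 19962), (16387, 16516), (16388, 13340), (16389, 12342), (16390, 19964), (16391, 12004), (16392, 12005), (16393, 12003), (16394, 19967), (16395, 19968), (16396, 19969), (16397, 14759), (16398, 12007), (16399, 19971), (16400, 19972), (16401, 12013), (16402, 12014), (16403, 12011), (16404, 12012), (16405, 19975), (16406, 19976), (16407, 16508), (16408, 15984), (16409, 12016), (16410, 12017), (16411, 12019), (16412, 19978), (16413, 19455), (16414, 19457), (16415, 12025), (16416, 12024), (16417, 16418), (16418, 16417), (16419, 12027), (16420, 19980), (16421, 18634), (16422, 19467), (16423, 13639), (16424, 19468), (16425, 12037), (16426,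 12485), (16427, 12039), (16428, 12034), (16429, 13676), (16430, 12042), (16431, 16276), (16432, 12043), (16433, 19478), (16434, 17884), (16435, 19482), (16436, 17874), (16437, 19486), (16438, 12051), (16439, 13943), (16440, 12057), (16441, 12059), (16442, 14129), (16443, 14131), (16444, 19493), (16445, 17458), (16446, 16239), (16447, 12614)]
    ⟨e3 q16384 L206224 q13429, e3 q16385 (flp_d L206226) q12001, e3 q16386 L235593 q19962, e3 q16387 (flp_d L207361) q16516, e3 q16388 L206258 q13340, e3 q16389 L206270 q12342, e3 q16390 L235617 q19964, e3 q16391 L206286 q12004, e3 q16392 L206296 q12005, e3 q16393 (flp_d L206300) q12003, e3 q16394 (flp_d L235651) q19967, e3 q16395 (flp_d L235659) q19968, e3 q16396 L235661 q19969, e3 q16397 L206332 q14759, e3 q16398 (flp_d L206336) q12007, e3 q16399 (flp_d L235683) q19971, e3 q16400 (flp_d L235691) q19972, e3 q16401 L206354 q12013, e3 q16402 L206364 q12014, e3 q16403 L206372 q12011, e3 q16404 L206376 q12012, e3 q16405 (flp_d L235719) q19975, e3 q16406 (flp_d L235729) q19976,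 e3 q16407 (flp_d L207307) q16508, e3 q16408 (flp_d L206424) q15984, e3 q16409 L206430 q12016, e3 q16410 (flp_d L206434) q12017, e3 q16411 L206444 q12019, e3 q16412 (flp_d L235743) q19978, e3 q16413 (flp_d L231208) q19455, e3 q16414 (flp_d L231222) q19457, e3 q16415 (flp_d L206480) q12025, e3 q16416 (flp_d L206484) q12024, e3 q16417 (flp_d L206508) q16418, e3 q16418 L206508 q16417, e3 q16419 L206518 q12027, e3 q16420 (flp_d L235765) q19980, e3 q16421 (flp_d L225055) q18634, e3 q16422 (flp_d L231308) q19467, e3 q16423 (flp_d L206555) q13639, e3 q16424 (flp_d L231314) q19468, e3 q16425 L206563 q12037, e3 q16426 (flp_d L206575) q12485, e3 q16427 L206581 q12039, e3 q16428 (flp_d L206587) q12034, e3 q16429 L206604 q13676, e3 q16430 L206610 q12042, e3 q16431 L206621 q16276, e3 q16432 L206625 q12043, e3 q16433 (flp_d L231410) q19478, e3 q16434 (flp_d L218690) q17884, e3 q16435 (flp_d L231456) q19482, e3 q16436 (flp_d L218596) q17874, e3 q16437 (flp_d L231494) q19486, e3 q16438 L206685 q12051, e3 q16439 L206695 q13943, e3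 q16440 L206707 q12057, e3 q16441 L206722 q12059, e3 q16442 L206737 q14129, e3 q16443 L206745 q14131, e3 q16444 (flp_d L231566) q19493, e3 q16445 (flp_d L215108) q17458, e3 q16446 L206767 q16239, e3 q16447 L206779 q12614, trivial⟩ (by decide +kernel)

theorem ce_d_257 : ∀ r, r < 64 → sm gd (Qf (16448 + r)) = Qf (tab Gen.d (16448 + r)) :=
  edges_tab (sm gd) Qf (tab Gen.d) 16448 [(16448, 17471), (16449, 15000), (16450, 17841), (16451, 12079), (16452, 19514), (16453, 14926), (16454, 19990), (16455, 14162), (16456, 12088), (16457, 16080), (16458, 17513), (16459, 19759), (16460, 17432), (16461, 19530), (16462, 17433), (16463, 12615), (16464, 19531), (16465, 12235), (16466, 12105), (16467, 12115), (16468, 12119), (16469, 18519), (16470, 19550), (16471, 16329), (16472, 17465), (16473, 19333), (16474, 19994), (16475, 17407), (16476, 19336), (16477, 19337), (16478, 12143), (16479, 19996), (16480, 14849), (16481, 12145), (16482, 19999), (16483, 20000), (16484, 14861), (16485, 16349), (16486, 18988), (16487, 12149), (16488,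 20004), (16489, 16343), (16490, 19576), (16491, 19578), (16492, 12156), (16493, 12159), (16494, 14850), (16495, 18596), (16496, 18587), (16497, 17867), (16498, 19601), (16499, 12177), (16500, 19603), (16501, 12181), (16502, 19712), (16503, 19615), (16504, 19616), (16505, 13480), (16506, 20009), (16507, 13386), (16508, 16407), (16509, 12192), (16510, 20010), (16511, 20011)]
    ⟨e3 q16448 (flp_d L215249) q17471, e3 q16449 (flp_d L206809) q15000, e3 q16450 (flp_d L218302) q17841, e3 q16451 (flp_d L206821) q12079, e3 q16452 (flp_d L231762) q19514, e3 q16453 L206841 q14926, e3 q16454 L235856 q19990, e3 q16455 L206857 q14162, e3 q16456 (flp_d L206863) q12088, e3 q16457 (flp_d L206882) q16080, e3 q16458 (flp_d L215640) q17513, e3 q16459 (flp_d L233837) q19759, e3 q16460 (flp_d L214856) q17432, e3 q16461 (flp_d L231892) q19530, e3 q16462 (flp_d L214862) q17433, e3 q16463 L206936 q12615, e3 q16464 (flp_d L231908) q19531, e3 q16465 L206960 q12235, e3 q16466 (flp_d L206968) q12105, e3 q16467 L206976 q12115, e3 q16468 L206984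 q12119, e3 q16469 (flp_d L224037) q18519, e3 q16470 (flp_d L232090) q19550, e3 q16471 L207010 q16329, e3 q16472 (flp_d L215171) q17465, e3 q16473 L230102 q19333, e3 q16474 L235904 q19994, e3 q16475 L214601 q17407, e3 q16476 (flp_d L230134) q19336, e3 q16477 (flp_d L230148) q19337, e3 q16478 L207063 q12143, e3 q16479 L235920 q19996, e3 q16480 L207077 q14849, e3 q16481 (flp_d L207083) q12145, e3 q16482 (flp_d L235956) q19999, e3 q16483 (flp_d L235962) q20000, e3 q16484 L207103 q14861, e3 q16485 L207111 q16349, e3 q16486 (flp_d L227482) q18988, e3 q16487 L207124 q12149, e3 q16488 (flp_d L235996) q20004, e3 q16489 L207138 q16343, e3 q16490 (flp_d L232308) q19576, e3 q16491 (flp_d L232326) q19578, e3 q16492 L207158 q12156, e3 q16493 L207170 q12159, e3 q16494 L207182 q14850, e3 q16495 (flp_d L224741) q18596, e3 q16496 (flp_d L224664) q18587, e3 q16497 (flp_d L218540) q17867, e3 q16498 (flp_d L232544) q19601, e3 q16499 L207217 q12177, e3 q16500 (flp_d L232558) q19603, e3 q16501 (flp_d L207231) q12181, e3 q16502 (flp_d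 L233435) q19712, e3 q16503 (flp_d L232652) q19615, e3 q16504 (flp_d L232664) q19616, e3 q16505 L207271 q13480, e3 q16506 L236037 q20009, e3 q16507 L207297 q13386, e3 q16508 L207307 q16407, e3 q16509 (flp_d L207311) q12192, e3 q16510 (flp_d L236055) q20010, e3 q16511 (flp_d L236061) q20011, trivial⟩ (by decide +kernel)

theorem ce_d_258 : ∀ r, r < 64 → sm gd (Qf (16512 + r)) = Qf (tab Gen.d (16512 + r)) :=
  edges_tab (sm gd) Qf (tab Gen.d) 16512 [(16512, 12196), (16513, 12197), (16514, 20012), (16515, 20013), (16516, 16387), (16517, 12200), (16518, 12202), (16519, 20015), (16520, 19655), (16521, 19657), (16522, 12208), (16523, 12207), (16524, 16525), (16525, 16524), (16526, 12210), (16527, 20017), (16528, 17566), (16529, 12221), (16530, 20018), (16531, 12229), (16532, 12228), (16533, 20021), (16534, 17482), (16535, 17483), (16536, 16200), (16537, 16201), (16538, 19695), (16539, 12240), (16540, 17475), (16541, 12242), (16542, 20024), (16543, 17473), (16544, 20025), (16545, 12245), (16546, 12244), (16547, 20028),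 (16548, 12249), (16549, 20030), (16550, 12253), (16551, 20033), (16552, 12252), (16553, 20035), (16554, 20036), (16555, 19733), (16556, 19734), (16557, 17405), (16558, 17406), (16559, 18381), (16560, 12267), (16561, 18169), (16562, 12270), (16563, 17594), (16564, 12280), (16565, 20038), (16566, 12288), (16567, 12287), (16568, 20041), (16569, 17492), (16570, 17491), (16571, 16195), (16572, 16196), (16573, 19789), (16574, 12300), (16575, 17450)]
    ⟨e3 q16512 L207335 q12196, e3 q16513 L207339 q12197, e3 q16514 (flp_d L236067) q20012, e3 q16515 (flp_d L236075) q20013, e3 q16516 L207361 q16387, e3 q16517 (flp_d L207369) q12200, e3 q16518 L207379 q12202, e3 q16519 (flp_d L236091) q20015, e3 q16520 (flp_d L232999) q19655, e3 q16521 (flp_d L233019) q19657, e3 q16522 (flp_d L207417) q12208, e3 q16523 (flp_d L207421) q12207, e3 q16524 (flp_d L207445) q16525, e3 q16525 L207445 q16524, e3 q16526 L207455 q12210, e3 q16527 (flp_d L236115) q20017, e3 q16528 (flp_d L216103) q17566, e3 q16529 L207479 q12221, e3 q16530 L236123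 q20018, e3 q16531 L207493 q12229, e3 q16532 (flp_d L207499) q12228, e3 q16533 (flp_d L236149) q20021, e3 q16534 (flp_d L215343) q17482, e3 q16535 (flp_d L215349) q17483, e3 q16536 L207531 q16200, e3 q16537 L207549 q16201, e3 q16538 (flp_d L233297) q19695, e3 q16539 L207571 q12240, e3 q16540 (flp_d L215279) q17475, e3 q16541 (flp_d L207587) q12242, e3 q16542 L236165 q20024, e3 q16543 (flp_d L215261) q17473, e3 q16544 L236175 q20025, e3 q16545 L207624 q12245, e3 q16546 (flp_d L207628) q12244, e3 q16547 (flp_d L236203) q20028, e3 q16548 (flp_d L207642) q12249, e3 q16549 (flp_d L236213) q20030, e3 q16550 L207652 q12253, e3 q16551 L236229 q20033, e3 q16552 L207664 q12252, e3 q16553 (flp_d L236243) q20035, e3 q16554 (flp_d L236249) q20036, e3 q16555 (flp_d L233607) q19733, e3 q16556 (flp_d L233613) q19734, e3 q16557 (flp_d L214583) q17405, e3 q16558 (flp_d L214589) q17406, e3 q16559 (flp_d L222986) q18381, e3 q16560 (flp_d L207722) q12267, e3 q16561 (flp_d L220944) q18169, e3 q16562 L207746 q12270, e3 q16563 (flp_d L216301)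 q17594, e3 q16564 L207764 q12280, e3 q16565 L236262 q20038, e3 q16566 L207778 q12288, e3 q16567 (flp_d L207784) q12287, e3 q16568 (flp_d L236288) q20041, e3 q16569 (flp_d L215437) q17492, e3 q16570 (flp_d L215431) q17491, e3 q16571 L207816 q16195, e3 q16572 L207834 q16196, e3 q16573 (flp_d L234051) q19789, e3 q16574 L207856 q12300, e3 q16575 (flp_d L215036) q17450, trivial⟩ (by decide +kernel)

theorem ce_d_259 : ∀ r, r < 64 → sm gd (Qf (16576 + r)) = Qf (tab Gen.d (16576 + r)) :=
  edges_tab (sm gd) Qf (tab Gen.d) 16576 [(16576, 12301), (16577, 20044), (16578, 17448), (16579, 20045), (16580, 12304), (16581, 12303), (16582, 20048), (16583, 12308), (16584, 20050), (16585, 12312), (16586, 20053), (16587, 12311), (16588, 20055), (16589, 20056), (16590, 19827), (16591, 19828), (16592, 17423), (16593, 17424), (16594, 18443), (16595, 12326), (16596, 18115), (16597, 12330), (16598, 14736), (16599, 12464), (16600, 14738), (16601, 20058), (16602, 14945), (16603, 12354), (16604, 20059), (16605, 12358), (16606, 20061), (16607,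 20062), (16608, 16620), (16609, 12411), (16610, 16629), (16611, 12366), (16612, 20066), (16613, 12371), (16614, 20065), (16615, 12369), (16616, 12370), (16617, 20071), (16618, 12372), (16619, 20073), (16620, 16608), (16621, 14717), (16622, 12498), (16623, 14719), (16624, 20075), (16625, 14993), (16626, 12400), (16627, 20076), (16628, 12403), (16629, 16610), (16630, 12407), (16631, 20078), (16632, 12409), (16633, 12410), (16634, 20082), (16635, 12412), (16636, 12438), (16637, 17846), (16638, 12443), (16639, 13711)]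
    ⟨e3 q16576 (flp_d L207872) q12301, e3 q16577 L236304 q20044, e3 q16578 (flp_d L215018) q17448, e3 q16579 L236314 q20045, e3 q16580 L207909 q12304, e3 q16581 (flp_d L207913) q12303, e3 q16582 (flp_d L236342) q20048, e3 q16583 (flp_d L207927) q12308, e3 q16584 (flp_d L236352) q20050, e3 q16585 L207937 q12312, e3 q16586 L236368 q20053, e3 q16587 L207949 q12311, e3 q16588 (flp_d L236382) q20055, e3 q16589 (flp_d L236388) q20056, e3 q16590 (flp_d L234361) q19827, e3 q16591 (flp_d L234371) q19828, e3 q16592 (flp_d L214759) q17423, e3 q16593 (flp_d L214767) q17424, e3 q16594 (flp_d L223413) q18443, e3 q16595 (flp_d L208011) q12326, e3 q16596 (flp_d L220514) q18115, e3 q16597 L208035 q12330, e3 q16598 L208049 q14736, e3 q16599 L208069 q12464, e3 q16600 L208073 q14738, e3 q16601 L236401 q20058, e3 q16602 L208094 q14945, e3 q16603 L208100 q12354, e3 q16604 L236413 q20059, e3 q16605 (flp_d L208116) q12358, e3 q16606 (flp_d L236429) q20061, e3 q16607 (flp_d L236437) q20062, e3 q16608 (flp_d L208231) q16620, e3 q16609 L208151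 q12411, e3 q16610 (flp_d L208319) q16629, e3 q16611 (flp_d L208167) q12366, e3 q16612 (flp_d L236474) q20066, e3 q16613 L208185 q12371, e3 q16614 (flp_d L236468) q20065, e3 q16615 L208197 q12369, e3 q16616 L208203 q12370, e3 q16617 (flp_d L236504) q20071, e3 q16618 (flp_d L208213) q12372, e3 q16619 (flp_d L236520) q20073, e3 q16620 L208231 q16608, e3 q16621 L208246 q14717, e3 q16622 L208266 q12498, e3 q16623 L208270 q14719, e3 q16624 L236537 q20075, e3 q16625 L208291 q14993, e3 q16626 L208297 q12400, e3 q16627 L236549 q20076, e3 q16628 (flp_d L208313) q12403, e3 q16629 L208319 q16610, e3 q16630 (flp_d L208327) q12407, e3 q16631 (flp_d L236567) q20078, e3 q16632 L208339 q12409, e3 q16633 L208345 q12410, e3 q16634 (flp_d L236591) q20082, e3 q16635 (flp_d L208361) q12412, e3 q16636 L208375 q12438, e3 q16637 (flp_d L218348) q17846, e3 q16638 L208405 q12443, e3 q16639 L208419 q13711, trivial⟩ (by decide +kernel)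

theorem ce_d_260 : ∀ r, r < 64 → sm gd (Qf (16640 + r)) = Qf (tab Gen.d (16640 + r)) :=
  edges_tab (sm gd) Qf (tab Gen.d) 16640 [(16640, 12458), (16641, 13756), (16642, 17836), (16643, 12479), (16644, 13710), (16645, 13588), (16646, 16232), (16647, 12440), (16648, 20085), (16649, 18167), (16650, 20086), (16651, 17431), (16652, 13633), (16653, 12449), (16654, 19924), (16655, 14729), (16656, 20090), (16657, 12453), (16658, 16005), (16659, 17603), (16660, 18600), (16661, 17454), (16662, 13731), (16663, 13563), (16664, 16261), (16665, 12476), (16666, 20093), (16667, 18113), (16668, 20094), (16669, 17459), (16670, 13642), (16671, 12486), (16672, 19985), (16673, 14710), (16674, 20098), (16675, 12489), (16676, 16081), (16677, 17575), (16678, 18591), (16679, 17479), (16680, 12507), (16681, 12508), (16682, 12515), (16683, 20103), (16684, 12516), (16685, 12510), (16686, 20107), (16687, 12517), (16688, 12518), (16689, 20111), (16690, 12519), (16691, 12513), (16692, 20115), (16693, 12520), (16694, 20102), (16695, 20110),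 (16696, 12531), (16697, 20119), (16698, 12533), (16699, 12534), (16700, 15491), (16701, 12536), (16702, 12525), (16703, 19825)]
    ⟨e3 q16640 L208425 q12458, e3 q16641 L208437 q13756, e3 q16642 (flp_d L218246) q17836, e3 q16643 L208467 q12479, e3 q16644 L208475 q13710, e3 q16645 L208485 q13588, e3 q16646 (flp_d L208507) q16232, e3 q16647 (flp_d L208511) q12440, e3 q16648 (flp_d L236621) q20085, e3 q16649 (flp_d L220924) q18167, e3 q16650 L236627 q20086, e3 q16651 (flp_d L214852) q17431, e3 q16652 L208560 q13633, e3 q16653 L208566 q12449, e3 q16654 (flp_d L235229) q19924, e3 q16655 L208584 q14729, e3 q16656 L236669 q20090, e3 q16657 (flp_d L208602) q12453, e3 q16658 L208610 q16005, e3 q16659 L216355 q17603, e3 q16660 (flp_d L224774) q18600, e3 q16661 (flp_d L215064) q17454, e3 q16662 L208648 q13731, e3 q16663 L208658 q13563, e3 q16664 (flp_d L208680) q16261, e3 q16665 (flp_d L208684) q12476, e3 q16666 (flp_d L236703) q20093, e3 q16667 (flp_d L220494) q18113, e3 q16668 L236709 q20094, e3 q16669 (flp_d L215121) q17459,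 e3 q16670 L208733 q13642, e3 q16671 L208739 q12486, e3 q16672 (flp_d L235815) q19985, e3 q16673 L208757 q14710, e3 q16674 L236751 q20098, e3 q16675 (flp_d L208775) q12489, e3 q16676 L208783 q16081, e3 q16677 L216157 q17575, e3 q16678 (flp_d L224696) q18591, e3 q16679 (flp_d L215311) q17479, e3 q16680 L208827 q12507, e3 q16681 L208833 q12508, e3 q16682 L208839 q12515, e3 q16683 L236795 q20103, e3 q16684 L208859 q12516, e3 q16685 (flp_d L208865) q12510, e3 q16686 (flp_d L236839) q20107, e3 q16687 L208879 q12517, e3 q16688 L208889 q12518, e3 q16689 L236879 q20111, e3 q16690 L208903 q12519, e3 q16691 (flp_d L208909) q12513, e3 q16692 (flp_d L236923) q20115, e3 q16693 L208923 q12520, e3 q16694 (flp_d L236787) q20102, e3 q16695 (flp_d L236871) q20110, e3 q16696 L208953 q12531, e3 q16697 L236961 q20119, e3 q16698 L208967 q12533, e3 q16699 L208975 q12534, e3 q16700 L208987 q15491, e3 q16701 L208993 q12536, e3 q16702 (flp_d L209001) q12525, e3 q16703 (flp_d L234349) q19825, trivial⟩ (by decide +kernel)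

theorem ce_d_261 : ∀ r, r < 64 → sm gd (Qf (16704 + r)) = Qf (tab Gen.d (16704 + r)) :=
  edges_tab (sm gd) Qf (tab Gen.d) 16704 [(16704, 12539), (16705, 12540), (16706, 20126), (16707, 12542), (16708, 12543), (16709, 15387), (16710, 12545), (16711, 12529), (16712, 19732), (16713, 12548), (16714, 20118), (16715, 17928), (16716, 20132), (16717, 18469), (16718, 12535), (16719, 12538), (16720, 20125), (16721, 17931), (16722, 20135), (16723, 18411), (16724, 12544), (16725, 12547), (16726, 20138), (16727, 12558), (16728, 17702), (16729, 12560), (16730, 20142), (16731, 12564), (16732, 17630), (16733, 12566), (16734, 20147), (16735, 12556), (16736, 20141), (16737, 20150), (16738, 12562), (16739, 20145), (16740, 17488), (16741, 14910), (16742, 17497), (16743, 14957), (16744, 13431), (16745, 13484), (16746, 16194), (16747, 19927), (16748, 14996), (16749, 16199), (16750, 19932), (16751, 14948), (16752, 12624), (16753, 20152), (16754, 14586), (16755, 20154), (16756, 15678), (16757, 18346), (16758, 18347), (16759, 18348),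 (16760, 12635), (16761, 20157), (16762, 14635), (16763, 20159), (16764, 15908), (16765, 18289), (16766, 18290), (16767, 18291)]
    ⟨e3 q16704 L209017 q12539, e3 q16705 L209025 q12540, e3 q16706 L237031 q20126, e3 q16707 L209039 q12542, e3 q16708 L209047 q12543, e3 q16709 L209059 q15387, e3 q16710 L209065 q12545, e3 q16711 (flp_d L209073) q12529, e3 q16712 (flp_d L233597) q19732, e3 q16713 L209089 q12548, e3 q16714 (flp_d L236951) q20118, e3 q16715 (flp_d L219120) q17928, e3 q16716 L237089 q20132, e3 q16717 (flp_d L223579) q18469, e3 q16718 (flp_d L209131) q12535, e3 q16719 L209147 q12538, e3 q16720 (flp_d L237021) q20125, e3 q16721 (flp_d L219150) q17931, e3 q16722 L237123 q20135, e3 q16723 (flp_d L223169) q18411, e3 q16724 (flp_d L209189) q12544, e3 q16725 L209205 q12547, e3 q16726 L237157 q20138, e3 q16727 L209219 q12558, e3 q16728 (flp_d L217128) q17702, e3 q16729 L209235 q12560, e3 q16730 L237191 q20142, e3 q16731 L209249 q12564, e3 q16732 (flp_d L216555) q17630, e3 q16733 L209265 q12566, e3 q16734 L237239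 q20147, e3 q16735 (flp_d L209279) q12556, e3 q16736 (flp_d L237185) q20141, e3 q16737 L237265 q20150, e3 q16738 (flp_d L209302) q12562, e3 q16739 (flp_d L237219) q20145, e3 q16740 (flp_d L215397) q17488, e3 q16741 L209331 q14910, e3 q16742 (flp_d L215485) q17497, e3 q16743 L209349 q14957, e3 q16744 L209357 q13431, e3 q16745 L209369 q13484, e3 q16746 L209381 q16194, e3 q16747 (flp_d L235254) q19927, e3 q16748 L209399 q14996, e3 q16749 L209403 q16199, e3 q16750 (flp_d L235316) q19932, e3 q16751 L209421 q14948, e3 q16752 L209425 q12624, e3 q16753 (flp_d L237281) q20152, e3 q16754 (flp_d L209445) q14586, e3 q16755 (flp_d L237291) q20154, e3 q16756 (flp_d L209463) q15678, e3 q16757 (flp_d L222321) q18346, e3 q16758 (flp_d L222333) q18347, e3 q16759 (flp_d L222345) q18348, e3 q16760 L209497 q12635, e3 q16761 (flp_d L237322) q20157, e3 q16762 (flp_d L209517) q14635, e3 q16763 (flp_d L237332) q20159, e3 q16764 (flp_d L209537) q15908, e3 q16765 (flp_d L221836) q18289, e3 q16766 (flp_d L221848) q18290, e3 q16767 (flp_d L221860)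 q18291, trivial⟩ (by decide +kernel)

theorem ce_d_262 : ∀ r, r < 64 → sm gd (Qf (16768 + r)) = Qf (tab Gen.d (16768 + r)) :=
  edges_tab (sm gd) Qf (tab Gen.d) 16768 [(16768, 12661), (16769, 20162), (16770, 15563), (16771, 12677), (16772, 12678), (16773, 12690), (16774, 20163), (16775, 15803), (16776, 12706), (16777, 12707), (16778, 12663), (16779, 20164), (16780, 12760), (16781, 12666), (16782, 12667), (16783, 12763), (16784, 12672), (16785, 19243), (16786, 12673), (16787, 20170), (16788, 12674), (16789, 18928), (16790, 12767), (16791, 12676), (16792, 20174), (16793, 19691), (16794, 12680), (16795, 20175), (16796, 20176), (16797, 12684), (16798, 15207), (16799, 18911), (16800, 12780), (16801, 12688), (16802, 20180), (16803, 16060), (16804, 12692), (16805, 20181), (16806, 12785), (16807, 12695), (16808, 12696), (16809, 12788), (16810, 12701), (16811, 19479), (16812, 12702), (16813, 20187), (16814, 12703), (16815, 18873), (16816, 12792), (16817, 12705), (16818, 20191), (16819, 19785), (16820, 12709), (16821, 20192),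 (16822, 20193), (16823, 12713), (16824, 15173), (16825, 18856), (16826, 12805), (16827, 12717), (16828, 20197), (16829, 16139), (16830, 20198), (16831, 13887)]
    ⟨e3 q16768 L209569 q12661, e3 q16769 L237361 q20162, e3 q16770 L209593 q15563, e3 q16771 L209603 q12677, e3 q16772 L209617 q12678, e3 q16773 L209627 q12690, e3 q16774 L237367 q20163, e3 q16775 L209651 q15803, e3 q16776 L209661 q12706, e3 q16777 L209675 q12707, e3 q16778 L209685 q12663, e3 q16779 (flp_d L237379) q20164, e3 q16780 L209705 q12760, e3 q16781 L209713 q12666, e3 q16782 (flp_d L209715) q12667, e3 q16783 L209721 q12763, e3 q16784 L209729 q12672, e3 q16785 (flp_d L229258) q19243, e3 q16786 L209739 q12673, e3 q16787 (flp_d L237423) q20170, e3 q16788 (flp_d L209749) q12674, e3 q16789 (flp_d L226980) q18928, e3 q16790 L209771 q12767, e3 q16791 L209775 q12676, e3 q16792 (flp_d L237455) q20174, e3 q16793 (flp_d L233261) q19691, e3 q16794 (flp_d L209797) q12680, e3 q16795 (flp_d L237467) q20175, e3 q16796 (flp_d L237475) q20176, e3 q16797 L209825 q12684,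 e3 q16798 L209837 q15207, e3 q16799 L226860 q18911, e3 q16800 L209847 q12780, e3 q16801 L209857 q12688, e3 q16802 (flp_d L237513) q20180, e3 q16803 L209883 q16060, e3 q16804 L209887 q12692, e3 q16805 (flp_d L237525) q20181, e3 q16806 L209907 q12785, e3 q16807 L209915 q12695, e3 q16808 (flp_d L209917) q12696, e3 q16809 L209923 q12788, e3 q16810 L209931 q12701, e3 q16811 (flp_d L231414) q19479, e3 q16812 L209941 q12702, e3 q16813 (flp_d L237569) q20187, e3 q16814 (flp_d L209951) q12703, e3 q16815 (flp_d L226569) q18873, e3 q16816 L209973 q12792, e3 q16817 L209977 q12705, e3 q16818 (flp_d L237601) q20191, e3 q16819 (flp_d L234015) q19785, e3 q16820 (flp_d L209999) q12709, e3 q16821 (flp_d L237613) q20192, e3 q16822 (flp_d L237623) q20193, e3 q16823 L210027 q12713, e3 q16824 L210039 q15173, e3 q16825 L226449 q18856, e3 q16826 L210049 q12805, e3 q16827 L210059 q12717, e3 q16828 (flp_d L237659) q20197, e3 q16829 L210085 q16139, e3 q16830 L237665 q20198, e3 q16831 L210099 q13887, trivial⟩ (by decide +kernel)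

theorem ce_d_263 : ∀ r, r < 64 → sm gd (Qf (16832 + r)) = Qf (tab Gen.d (16832 + r)) :=
  edges_tab (sm gd) Qf (tab Gen.d) 16832 [(16832, 12724), (16833, 12721), (16834, 19504), (16835, 12725), (16836, 19742), (16837, 20202), (16838, 13900), (16839, 12731), (16840, 12728), (16841, 19271), (16842, 12732), (16843, 19837), (16844, 18595), (16845, 17498), (16846, 18584), (16847, 17503), (16848, 12754), (16849, 20210), (16850, 12758), (16851, 20211), (16852, 20165), (16853, 20168), (16854, 19749), (16855, 16322), (16856, 14020), (16857, 17843), (16858, 13955), (16859, 12778), (16860, 20212), (16861, 20182), (16862, 20185), (16863, 19845), (16864, 16372), (16865, 14001), (16866, 17833), (16867, 13975), (16868, 12803), (16869, 20213), (16870, 14796), (16871, 14829), (16872, 14539), (16873, 12824), (16874, 20214), (16875, 12832), (16876, 12833), (16877, 19699), (16878, 12835), (16879, 14590), (16880, 12828), (16881, 20217), (16882, 12837), (16883, 12838), (16884, 19793), (16885, 12840), (16886, 12853), (16887, 12855),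 (16888, 12856), (16889, 12842), (16890, 20220), (16891, 12858), (16892, 14153), (16893, 20106), (16894, 12845), (16895, 20223)]
    ⟨e3 q16832 L210105 q12724, e3 q16833 (flp_d L210109) q12721, e3 q16834 (flp_d L231664) q19504, e3 q16835 L210127 q12725, e3 q16836 (flp_d L233679) q19742, e3 q16837 L237707 q20202, e3 q16838 (flp_d L210147) q13900, e3 q16839 L210155 q12731, e3 q16840 (flp_d L210159) q12728, e3 q16841 (flp_d L229516) q19271, e3 q16842 L210177 q12732, e3 q16843 (flp_d L234449) q19837, e3 q16844 (flp_d L224733) q18595, e3 q16845 (flp_d L215493) q17498, e3 q16846 (flp_d L224629) q18584, e3 q16847 (flp_d L215539) q17503, e3 q16848 L210215 q12754, e3 q16849 (flp_d L237793) q20210, e3 q16850 L210236 q12758, e3 q16851 (flp_d L237806) q20211, e3 q16852 (flp_d L237387) q20165, e3 q16853 (flp_d L237413) q20168, e3 q16854 (flp_d L233741) q19749, e3 q16855 L210289 q16322, e3 q16856 L210303 q14020, e3 q16857 (flp_d L218326) q17843, e3 q16858 L210313 q13955, e3 q16859 (flp_d L210319) q12778, e3 q16860 (flp_d L237821)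 q20212, e3 q16861 (flp_d L237533) q20182, e3 q16862 (flp_d L237559) q20185, e3 q16863 (flp_d L234533) q19845, e3 q16864 L210377 q16372, e3 q16865 L210391 q14001, e3 q16866 (flp_d L218224) q17833, e3 q16867 L210401 q13975, e3 q16868 (flp_d L210407) q12803, e3 q16869 (flp_d L237831) q20213, e3 q16870 L210433 q14796, e3 q16871 L210445 q14829, e3 q16872 (flp_d L210459) q14539, e3 q16873 (flp_d L210461) q12824, e3 q16874 (flp_d L237843) q20214, e3 q16875 L210479 q12832, e3 q16876 L210487 q12833, e3 q16877 L233341 q19699, e3 q16878 L210499 q12835, e3 q16879 (flp_d L210513) q14590, e3 q16880 (flp_d L210515) q12828, e3 q16881 (flp_d L237868) q20217, e3 q16882 L210533 q12837, e3 q16883 L210541 q12838, e3 q16884 L234095 q19793, e3 q16885 L210553 q12840, e3 q16886 L210561 q12853, e3 q16887 L210575 q12855, e3 q16888 L210585 q12856, e3 q16889 (flp_d L210587) q12842, e3 q16890 (flp_d L237893) q20220, e3 q16891 L210605 q12858, e3 q16892 L210617 q14153, e3 q16893 (flp_d L236835) q20106, e3 q16894 L210631 q12845, e3 q16895 (flp_d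 L237911) q20223, trivial⟩ (by decide +kernel)

theorem ce_d_264 : ∀ r, r < 64 → sm gd (Qf (16896 + r)) = Qf (tab Gen.d (16896 + r)) :=
  edges_tab (sm gd) Qf (tab Gen.d) 16896 [(16896, 18351), (16897, 12859), (16898, 12861), (16899, 12862), (16900, 12848), (16901, 20227), (16902, 12864), (16903, 14174), (16904, 20114), (16905, 12851), (16906, 20230), (16907, 18413), (16908, 12854), (16909, 20234), (16910, 12860), (16911, 20235), (16912, 14653), (16913, 17567), (16914, 12892), (16915, 12898), (16916, 18233), (16917, 20240), (16918, 12901), (16919, 14436), (16920, 14437), (16921, 18838), (16922, 15427), (16923, 12905), (16924, 14684), (16925, 17595), (16926, 12907), (16927, 12913), (16928, 18208), (16929, 20252), (16930, 12916), (16931, 14414), (16932, 14415), (16933, 18787), (16934, 15530), (16935, 12920), (16936, 13257), (16937, 12895), (16938, 19458), (16939, 12897), (16940, 15769), (16941, 20262), (16942, 15771), (16943, 20264), (16944, 20265), (16945, 20267), (16946, 20268), (16947, 12900), (16948, 20270), (16949,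 15632), (16950, 15321), (16951, 13270), (16952, 12910), (16953, 19658), (16954, 12912), (16955, 15994), (16956, 20273), (16957, 15996), (16958, 20275), (16959, 20276)]
    ⟨e3 q16896 (flp_d L222373) q18351, e3 q16897 L210647 q12859, e3 q16898 L210661 q12861, e3 q16899 L210667 q12862, e3 q16900 (flp_d L210683) q12848, e3 q16901 (flp_d L237935) q20227, e3 q16902 L210701 q12864, e3 q16903 L210713 q14174, e3 q16904 (flp_d L236919) q20114, e3 q16905 L210727 q12851, e3 q16906 (flp_d L237953) q20230, e3 q16907 (flp_d L223187) q18413, e3 q16908 (flp_d L210741) q12854, e3 q16909 (flp_d L237977) q20234, e3 q16910 (flp_d L210757) q12860, e3 q16911 (flp_d L237987) q20235, e3 q16912 L210785 q14653, e3 q16913 (flp_d L216109) q17567, e3 q16914 L210797 q12892, e3 q16915 L210805 q12898, e3 q16916 (flp_d L221418) q18233, e3 q16917 L238007 q20240, e3 q16918 L210817 q12901, e3 q16919 L210823 q14436, e3 q16920 L210831 q14437, e3 q16921 L226333 q18838, e3 q16922 L210845 q15427, e3 q16923 L210851 q12905, e3 q16924 L210869 q14684, e3 q16925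 (flp_d L216307) q17595, e3 q16926 L210881 q12907, e3 q16927 L210889 q12913, e3 q16928 (flp_d L221249) q18208, e3 q16929 L238081 q20252, e3 q16930 L210901 q12916, e3 q16931 L210907 q14414, e3 q16932 L210915 q14415, e3 q16933 L226047 q18787, e3 q16934 L210929 q15530, e3 q16935 L210935 q12920, e3 q16936 L210943 q13257, e3 q16937 L210949 q12895, e3 q16938 L231232 q19458, e3 q16939 L210955 q12897, e3 q16940 (flp_d L210963) q15769, e3 q16941 (flp_d L238167) q20262, e3 q16942 L210977 q15771, e3 q16943 (flp_d L238179) q20264, e3 q16944 L238187 q20265, e3 q16945 L238201 q20267, e3 q16946 L238211 q20268, e3 q16947 (flp_d L211015) q12900, e3 q16948 (flp_d L238229) q20270, e3 q16949 L211037 q15632, e3 q16950 L211045 q15321, e3 q16951 L211051 q13270, e3 q16952 L211057 q12910, e3 q16953 L233029 q19658, e3 q16954 L211063 q12912, e3 q16955 (flp_d L211071) q15994, e3 q16956 (flp_d L238259) q20273, e3 q16957 L211085 q15996, e3 q16958 (flp_d L238273) q20275, e3 q16959 L238281 q20276, trivial⟩ (by decide +kernel)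

theorem ce_d_265 : ∀ r, r < 64 → sm gd (Qf (16960 + r)) = Qf (tab Gen.d (16960 + r)) :=
  edges_tab (sm gd) Qf (tab Gen.d) 16960 [(16960, 20278), (16961, 20279), (16962, 12915), (16963, 20281), (16964, 15866), (16965, 15268), (16966, 12956), (16967, 12967), (16968, 20283), (16969, 12969), (16970, 20285), (16971, 12924), (16972, 20288), (16973, 13001), (16974, 20291), (16975, 13003), (16976, 13004), (16977, 13010), (16978, 19771), (16979, 13012), (16980, 20296), (16981, 13014), (16982, 12930), (16983, 20299), (16984, 13017), (16985, 13018), (16986, 13019), (16987, 13021), (16988, 19797), (16989, 13027), (16990, 13028), (16991, 13032), (16992, 13043), (16993, 20303), (16994, 13045), (16995, 20305), (16996, 12940), (16997, 20308), (16998, 13075), (16999, 20311), (17000, 13077), (17001, 13078), (17002, 13081), (17003, 19677), (17004, 13083), (17005, 20316), (17006, 13085), (17007, 12946), (17008, 20319), (17009, 13088), (17010, 13089), (17011, 13090), (17012, 13092), (17013, 19702), (17014, 13097), (17015, 13098),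 (17016, 13283), (17017, 12954), (17018, 12955), (17019, 12958), (17020, 12959), (17021, 14303), (17022, 13284), (17023, 12964)]
    ⟨e3 q16960 L238297 q20278, e3 q16961 L238307 q20279, e3 q16962 (flp_d L211123) q12915, e3 q16963 (flp_d L238325) q20281, e3 q16964 L211145 q15866, e3 q16965 L211153 q15268, e3 q16966 L211159 q12956, e3 q16967 L211171 q12967, e3 q16968 L238343 q20283, e3 q16969 L211191 q12969, e3 q16970 L238359 q20285, e3 q16971 (flp_d L211202) q12924, e3 q16972 (flp_d L238376) q20288, e3 q16973 L211212 q13001, e3 q16974 L238403 q20291, e3 q16975 L211228 q13003, e3 q16976 L211236 q13004, e3 q16977 L211244 q13010, e3 q16978 (flp_d L233925) q19771, e3 q16979 L211260 q13012, e3 q16980 L238437 q20296, e3 q16981 L211272 q13014, e3 q16982 (flp_d L211280) q12930, e3 q16983 (flp_d L238467) q20299, e3 q16984 L211290 q13017, e3 q16985 L211300 q13018, e3 q16986 L211308 q13019, e3 q16987 L211320 q13021, e3 q16988 (flp_d L234117) q19797, e3 q16989 L211334 q13027, e3 q16990 L211342 q13028, e3 q16991 L211350 q13032,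 e3 q16992 L211362 q13043, e3 q16993 L238499 q20303, e3 q16994 L211382 q13045, e3 q16995 L238515 q20305, e3 q16996 (flp_d L211395) q12940, e3 q16997 (flp_d L238532) q20308, e3 q16998 L211405 q13075, e3 q16999 L238559 q20311, e3 q17000 L211421 q13077, e3 q17001 L211431 q13078, e3 q17002 L211439 q13081, e3 q17003 (flp_d L233177) q19677, e3 q17004 L211457 q13083, e3 q17005 L238593 q20316, e3 q17006 L211471 q13085, e3 q17007 (flp_d L211479) q12946, e3 q17008 (flp_d L238623) q20319, e3 q17009 L211489 q13088, e3 q17010 L211501 q13089, e3 q17011 L211515 q13090, e3 q17012 L211525 q13092, e3 q17013 (flp_d L233361) q19702, e3 q17014 L211541 q13097, e3 q17015 L211551 q13098, e3 q17016 L211567 q13283, e3 q17017 L211579 q12954, e3 q17018 L211589 q12955, e3 q17019 L211599 q12958, e3 q17020 L211605 q12959, e3 q17021 L211615 q14303, e3 q17022 L211621 q13284, e3 q17023 L211627 q12964, trivial⟩ (by decide +kernel)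

theorem ce_d_266 : ∀ r, r < 64 → sm gd (Qf (17024 + r)) = Qf (tab Gen.d (17024 + r)) :=
  edges_tab (sm gd) Qf (tab Gen.d) 17024 [(17024, 12965), (17025, 12966), (17026, 20324), (17027, 20322), (17028, 20323), (17029, 12968), (17030, 20326), (17031, 13290), (17032, 12974), (17033, 12975), (17034, 12976), (17035, 20329), (17036, 20330), (17037, 20334), (17038, 20332), (17039, 20333), (17040, 13298), (17041, 12979), (17042, 17138), (17043, 12981), (17044, 20335), (17045, 19747), (17046, 12980), (17047, 20338), (17048, 17132), (17049, 12983), (17050, 20340), (17051, 20341), (17052, 13307), (17053, 12986), (17054, 20344), (17055, 13309), (17056, 17725), (17057, 13310), (17058, 13311), (17059, 12993), (17060, 13825), (17061, 12990), (17062, 17677), (17063, 12997), (17064, 12998), (17065, 13072), (17066, 13000), (17067, 20350), (17068, 18340), (17069, 12994), (17070, 15546), (17071, 13079), (17072, 12996), (17073, 20362), (17074, 20353), (17075, 20364), (17076, 20355), (17077, 19472), (17078, 20367), (17079, 20356),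 (17080, 12999), (17081, 20369), (17082, 20358), (17083, 20371), (17084, 20372), (17085, 13002), (17086, 20375), (17087, 20376)]
    ⟨e3 q17024 L211633 q12965, e3 q17025 L211639 q12966, e3 q17026 L238665 q20324, e3 q17027 (flp_d L238647) q20322, e3 q17028 (flp_d L238657) q20323, e3 q17029 (flp_d L211673) q12968, e3 q17030 L238681 q20326, e3 q17031 L211693 q13290, e3 q17032 L211699 q12974, e3 q17033 L211705 q12975, e3 q17034 L211713 q12976, e3 q17035 (flp_d L238721) q20329, e3 q17036 (flp_d L238733) q20330, e3 q17037 L238781 q20334, e3 q17038 (flp_d L238765) q20332, e3 q17039 (flp_d L238775) q20333, e3 q17040 L211751 q13298, e3 q17041 L211757 q12979, e3 q17042 L216609 q17138, e3 q17043 L211763 q12981, e3 q17044 (flp_d L238789) q20335, e3 q17045 (flp_d L233719) q19747, e3 q17046 (flp_d L211783) q12980, e3 q17047 (flp_d L238829) q20338, e3 q17048 L216601 q17132, e3 q17049 (flp_d L211805) q12983, e3 q17050 (flp_d L238845) q20340, e3 q17051 L238853 q20341, e3 q17052 L211829 q13307, e3 q17053 L211833 q12986, e3 q17054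 (flp_d L238871) q20344, e3 q17055 L211845 q13309, e3 q17056 L217308 q17725, e3 q17057 L211859 q13310, e3 q17058 L211867 q13311, e3 q17059 L211875 q12993, e3 q17060 (flp_d L211885) q13825, e3 q17061 (flp_d L211887) q12990, e3 q17062 (flp_d L216928) q17677, e3 q17063 L211911 q12997, e3 q17064 L211917 q12998, e3 q17065 L222549 q13072, e3 q17066 L211923 q13000, e3 q17067 (flp_d L238949) q20350, e3 q17068 (flp_d L222263) q18340, e3 q17069 (flp_d L211949) q12994, e3 q17070 L211967 q15546, e3 q17071 L211975 q13079, e3 q17072 L211979 q12996, e3 q17073 (flp_d L239071) q20362, e3 q17074 (flp_d L238983) q20353, e3 q17075 L239085 q20364, e3 q17076 (flp_d L239003) q20355, e3 q17077 L231360 q19472, e3 q17078 L239109 q20367, e3 q17079 (flp_d L239011) q20356, e3 q17080 (flp_d L212025) q12999, e3 q17081 (flp_d L239125) q20369, e3 q17082 (flp_d L239031) q20358, e3 q17083 L239141 q20371, e3 q17084 L239147 q20372, e3 q17085 (flp_d L212061) q13002, e3 q17086 (flp_d L239167) q20375, e3 q17087 (flp_d L239173) q20376, trivial⟩ (by decide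 +kernel)

theorem ce_d_267 : ∀ r, r < 64 → sm gd (Qf (17088 + r)) = Qf (tab Gen.d (17088 + r)) :=
  edges_tab (sm gd) Qf (tab Gen.d) 17088 [(17088, 20378), (17089, 13005), (17090, 20380), (17091, 13009), (17092, 20381), (17093, 20383), (17094, 19872), (17095, 13011), (17096, 20385), (17097, 13013), (17098, 19783), (17099, 13016), (17100, 19853), (17101, 19752), (17102, 20387), (17103, 13022), (17104, 18720), (17105, 13080), (17106, 13024), (17107, 13344), (17108, 13030), (17109, 13031), (17110, 13034), (17111, 13035), (17112, 14358), (17113, 13345), (17114, 13040), (17115, 13041), (17116, 13042), (17117, 20394), (17118, 20392), (17119, 20393), (17120, 13044), (17121, 13350), (17122, 13049), (17123, 13050), (17124, 13051), (17125, 20331), (17126, 20399), (17127, 20336), (17128, 20398), (17129, 20337), (17130, 13358), (17131, 13054), (17132, 17048), (17133, 13056), (17134, 20400), (17135, 19841), (17136, 13055), (17137, 20401), (17138, 17042), (17139, 13058), (17140, 20403), (17141, 13366), (17142, 13060), (17143,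 20406), (17144, 13368), (17145, 17656), (17146, 13369), (17147, 13370), (17148, 13067), (17149, 13873), (17150, 13064), (17151, 17746)]
    ⟨e3 q17088 L239189 q20378, e3 q17089 (flp_d L212091) q13005, e3 q17090 (flp_d L239219) q20380, e3 q17091 L212111 q13009, e3 q17092 (flp_d L239227) q20381, e3 q17093 L239241 q20383, e3 q17094 (flp_d L234755) q19872, e3 q17095 (flp_d L212145) q13011, e3 q17096 L239259 q20385, e3 q17097 (flp_d L212161) q13013, e3 q17098 (flp_d L233995) q19783, e3 q17099 L212169 q13016, e3 q17100 (flp_d L234609) q19853, e3 q17101 (flp_d L233769) q19752, e3 q17102 L239275 q20387, e3 q17103 (flp_d L212205) q13022, e3 q17104 L225635 q18720, e3 q17105 L212221 q13080, e3 q17106 L212225 q13024, e3 q17107 L212235 q13344, e3 q17108 L212245 q13030, e3 q17109 L212257 q13031, e3 q17110 L212267 q13034, e3 q17111 L212273 q13035, e3 q17112 L212283 q14358, e3 q17113 L212289 q13345, e3 q17114 L212295 q13040, e3 q17115 L212299 q13041, e3 q17116 L212307 q13042, e3 q17117 L239341 q20394, e3 q17118 (flp_d L239323)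 q20392, e3 q17119 (flp_d L239333) q20393, e3 q17120 (flp_d L212341) q13044, e3 q17121 L212349 q13350, e3 q17122 L212355 q13049, e3 q17123 L212361 q13050, e3 q17124 L212369 q13051, e3 q17125 L238755 q20331, e3 q17126 L239395 q20399, e3 q17127 L238807 q20336, e3 q17128 (flp_d L239385) q20398, e3 q17129 (flp_d L238815) q20337, e3 q17130 L212407 q13358, e3 q17131 L212413 q13054, e3 q17132 (flp_d L216601) q17048, e3 q17133 L212419 q13056, e3 q17134 (flp_d L239405) q20400, e3 q17135 (flp_d L234485) q19841, e3 q17136 (flp_d L212439) q13055, e3 q17137 (flp_d L239419) q20401, e3 q17138 (flp_d L216609) q17042, e3 q17139 (flp_d L212461) q13058, e3 q17140 L239431 q20403, e3 q17141 L212473 q13366, e3 q17142 L212477 q13060, e3 q17143 (flp_d L239449) q20406, e3 q17144 L212489 q13368, e3 q17145 L216743 q17656, e3 q17146 L212503 q13369, e3 q17147 L212511 q13370, e3 q17148 L212519 q13067, e3 q17149 (flp_d L212529) q13873, e3 q17150 (flp_d L212531) q13064, e3 q17151 (flp_d L217496) q17746, trivial⟩ (by decide +kernel)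

theorem ce_d_268 : ∀ r, r < 64 → sm gd (Qf (17152 + r)) = Qf (tab Gen.d (17152 + r)) :=
  edges_tab (sm gd) Qf (tab Gen.d) 17152 [(17152, 13071), (17153, 13074), (17154, 20409), (17155, 18283), (17156, 13068), (17157, 15785), (17158, 13070), (17159, 20391), (17160, 20357), (17161, 20414), (17162, 20411), (17163, 19238), (17164, 20417), (17165, 20354), (17166, 13073), (17167, 20412), (17168, 20418), (17169, 20419), (17170, 13076), (17171, 20422), (17172, 20423), (17173, 20359), (17174, 20361), (17175, 20388), (17176, 20425), (17177, 13082), (17178, 13084), (17179, 19690), (17180, 13087), (17181, 19847), (17182, 20426), (17183, 13093), (17184, 18731), (17185, 13095), (17186, 15216), (17187, 13104), (17188, 13787), (17189, 13109), (17190, 13110), (17191, 20431), (17192, 20433), (17193, 14065), (17194, 13112), (17195, 17731), (17196, 13402), (17197, 13403), (17198, 18772), (17199, 17621), (17200, 13824), (17201, 13127), (17202, 13119), (17203, 19492), (17204, 17678), (17205, 13133), (17206, 20443), (17207, 13134),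 (17208, 13135), (17209, 17802), (17210, 13136), (17211, 13123), (17212, 20448), (17213, 13137), (17214, 13407), (17215, 13126)]
    ⟨e3 q17152 L212555 q13071, e3 q17153 L212567 q13074, e3 q17154 (flp_d L239485) q20409, e3 q17155 (flp_d L221782) q18283, e3 q17156 (flp_d L212593) q13068, e3 q17157 L212611 q15785, e3 q17158 L212615 q13070, e3 q17159 (flp_d L239315) q20391, e3 q17160 (flp_d L239023) q20357, e3 q17161 L239535 q20414, e3 q17162 (flp_d L239507) q20411, e3 q17163 L229220 q19238, e3 q17164 L239567 q20417, e3 q17165 L238999 q20354, e3 q17166 (flp_d L212661) q13073, e3 q17167 (flp_d L239517) q20412, e3 q17168 L239573 q20418, e3 q17169 L239579 q20419, e3 q17170 (flp_d L212689) q13076, e3 q17171 (flp_d L239605) q20422, e3 q17172 (flp_d L239613) q20423, e3 q17173 (flp_d L239047) q20359, e3 q17174 (flp_d L239063) q20361, e3 q17175 (flp_d L239297) q20388, e3 q17176 L239629 q20425, e3 q17177 (flp_d L212745) q13082, e3 q17178 (flp_d L212753) q13084, e3 q17179 (flp_d L233255) q19690, e3 q17180 L212761 q13087, e3 q17181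 (flp_d L234549) q19847, e3 q17182 L239639 q20426, e3 q17183 (flp_d L212785) q13093, e3 q17184 L225733 q18731, e3 q17185 L212797 q13095, e3 q17186 L212801 q15216, e3 q17187 L212811 q13104, e3 q17188 L212821 q13787, e3 q17189 L212829 q13109, e3 q17190 L212837 q13110, e3 q17191 (flp_d L239697) q20431, e3 q17192 (flp_d L239723) q20433, e3 q17193 (flp_d L212861) q14065, e3 q17194 (flp_d L212863) q13112, e3 q17195 (flp_d L217360) q17731, e3 q17196 L212877 q13402, e3 q17197 L212887 q13403, e3 q17198 (flp_d L225969) q18772, e3 q17199 (flp_d L216487) q17621, e3 q17200 L212917 q13824, e3 q17201 L212925 q13127, e3 q17202 L212937 q13119, e3 q17203 (flp_d L231554) q19492, e3 q17204 (flp_d L216940) q17678, e3 q17205 L212953 q13133, e3 q17206 L239801 q20443, e3 q17207 L212963 q13134, e3 q17208 L212969 q13135, e3 q17209 (flp_d L217876) q17802, e3 q17210 L212981 q13136, e3 q17211 (flp_d L212985) q13123, e3 q17212 (flp_d L239843) q20448, e3 q17213 L212999 q13137, e3 q17214 L213011 q13407, e3 q17215 L213019 q13126, trivial⟩ (by decide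 +kernel)

theorem ce_d_269 : ∀ r, r < 64 → sm gd (Qf (17216 + r)) = Qf (tab Gen.d (17216 + r)) :=
  edges_tab (sm gd) Qf (tab Gen.d) 17216 [(17216, 20451), (17217, 20438), (17218, 20452), (17219, 20440), (17220, 17890), (17221, 17673), (17222, 13413), (17223, 13131), (17224, 13132), (17225, 19693), (17226, 20454), (17227, 20421), (17228, 20445), (17229, 20447), (17230, 18307), (17231, 19694), (17232, 13422), (17233, 13140), (17234, 20456), (17235, 16025), (17236, 17342), (17237, 17343), (17238, 13144), (17239, 20462), (17240, 20463), (17241, 19854), (17242, 13430), (17243, 13146), (17244, 13147), (17245, 20467), (17246, 20468), (17247, 13148), (17248, 20472), (17249, 20470), (17250, 20471), (17251, 13152), (17252, 13153), (17253, 18843), (17254, 17351), (17255, 17779), (17256, 17352), (17257, 17353), (17258, 17782), (17259, 17783), (17260, 17354), (17261, 17355), (17262, 15269), (17263, 13163), (17264, 13838), (17265, 13168), (17266, 13169), (17267, 20490), (17268, 20492), (17269, 14118), (17270, 13171), (17271,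 17661), (17272, 13454), (17273, 13455), (17274, 18823), (17275, 17625), (17276, 13874), (17277, 13186), (17278, 13178), (17279, 19259)]
    ⟨e3 q17216 (flp_d L239871) q20451, e3 q17217 (flp_d L239763) q20438, e3 q17218 L239877 q20452, e3 q17219 (flp_d L239781) q20440, e3 q17220 (flp_d L218760) q17890, e3 q17221 (flp_d L216885) q17673, e3 q17222 L213063 q13413, e3 q17223 L213069 q13131, e3 q17224 L213077 q13132, e3 q17225 (flp_d L233283) q19693, e3 q17226 (flp_d L239901) q20454, e3 q17227 (flp_d L239601) q20421, e3 q17228 (flp_d L239817) q20445, e3 q17229 (flp_d L239833) q20447, e3 q17230 (flp_d L221986) q18307, e3 q17231 (flp_d L233293) q19694, e3 q17232 L213135 q13422, e3 q17233 L213139 q13140, e3 q17234 (flp_d L239923) q20456, e3 q17235 L213155 q16025, e3 q17236 (flp_d L213847) q17342, e3 q17237 (flp_d L213855) q17343, e3 q17238 (flp_d L213163) q13144, e3 q17239 (flp_d L239981) q20462, e3 q17240 (flp_d L239991) q20463, e3 q17241 (flp_d L234619) q19854, e3 q17242 L213189 q13430, e3 q17243 L213195 q13146, e3 q17244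 L213201 q13147, e3 q17245 (flp_d L240021) q20467, e3 q17246 (flp_d L240029) q20468, e3 q17247 (flp_d L213221) q13148, e3 q17248 L240047 q20472, e3 q17249 (flp_d L240041) q20470, e3 q17250 (flp_d L240045) q20471, e3 q17251 L213237 q13152, e3 q17252 L213245 q13153, e3 q17253 (flp_d L226365) q18843, e3 q17254 (flp_d L213929) q17351, e3 q17255 (flp_d L217740) q17779, e3 q17256 (flp_d L213935) q17352, e3 q17257 (flp_d L213941) q17353, e3 q17258 (flp_d L217752) q17782, e3 q17259 (flp_d L217759) q17783, e3 q17260 (flp_d L213945) q17354, e3 q17261 (flp_d L213953) q17355, e3 q17262 L213303 q15269, e3 q17263 L213313 q13163, e3 q17264 L213323 q13838, e3 q17265 L213331 q13168, e3 q17266 L213335 q13169, e3 q17267 (flp_d L240181) q20490, e3 q17268 (flp_d L240207) q20492, e3 q17269 (flp_d L213363) q14118, e3 q17270 (flp_d L213365) q13171, e3 q17271 (flp_d L216783) q17661, e3 q17272 L213379 q13454, e3 q17273 L213389 q13455, e3 q17274 (flp_d L226255) q18823, e3 q17275 (flp_d L216513) q17625, e3 q17276 L213419 q13874, e3 q17277 L213427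 q13186, e3 q17278 L213439 q13178, e3 q17279 (flp_d L229408) q19259, trivial⟩ (by decide +kernel)

theorem ce_d_270 : ∀ r, r < 64 → sm gd (Qf (17280 + r)) = Qf (tab Gen.d (17280 + r)) :=
  edges_tab (sm gd) Qf (tab Gen.d) 17280 [(17280, 17745), (17281, 13192), (17282, 20501), (17283, 13193), (17284, 13194), (17285, 17817), (17286, 13195), (17287, 13182), (17288, 20506), (17289, 13196), (17290, 13459), (17291, 13185), (17292, 20509), (17293, 20496), (17294, 20510), (17295, 20498), (17296, 17912), (17297, 17741), (17298, 13465), (17299, 13190), (17300, 13191), (17301, 19788), (17302, 20512), (17303, 20374), (17304, 20503), (17305, 20505), (17306, 18249), (17307, 19787), (17308, 13474), (17309, 13199), (17310, 20514), (17311, 16101), (17312, 17370), (17313, 17371), (17314, 13203), (17315, 20520), (17316, 20521), (17317, 19873), (17318, 13482), (17319, 13205), (17320, 13206), (17321, 20525), (17322, 20526), (17323, 13207), (17324, 20530), (17325, 20528), (17326, 20529), (17327, 13211), (17328, 13212), (17329, 18898),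 (17330, 17379), (17331, 17795), (17332, 17380), (17333, 17381), (17334, 17798), (17335, 17799), (17336, 17382), (17337, 17383), (17338, 13218), (17339, 20544), (17340, 13220), (17341, 13655), (17342, 17236), (17343, 17237)]
    ⟨e3 q17280 (flp_d L217484) q17745, e3 q17281 L213455 q13192, e3 q17282 L240281 q20501, e3 q17283 L213465 q13193, e3 q17284 L213471 q13194, e3 q17285 (flp_d L218022) q17817, e3 q17286 L213483 q13195, e3 q17287 (flp_d L213487) q13182, e3 q17288 (flp_d L240327) q20506, e3 q17289 L213501 q13196, e3 q17290 L213513 q13459, e3 q17291 L213521 q13185, e3 q17292 (flp_d L240355) q20509, e3 q17293 (flp_d L240241) q20496, e3 q17294 L240361 q20510, e3 q17295 (flp_d L240259) q20498, e3 q17296 (flp_d L218970) q17912, e3 q17297 (flp_d L217448) q17741, e3 q17298 L213565 q13465, e3 q17299 L213571 q13190, e3 q17300 L213579 q13191, e3 q17301 (flp_d L234045) q19788, e3 q17302 (flp_d L240385) q20512, e3 q17303 (flp_d L239161) q20374, e3 q17304 (flp_d L240297) q20503, e3 q17305 (flp_d L240315) q20505, e3 q17306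 (flp_d L221538) q18249, e3 q17307 (flp_d L234037) q19787, e3 q17308 L213643 q13474, e3 q17309 L213647 q13199, e3 q17310 (flp_d L240407) q20514, e3 q17311 L213665 q16101, e3 q17312 (flp_d L214152) q17370, e3 q17313 (flp_d L214160) q17371, e3 q17314 (flp_d L213673) q13203, e3 q17315 (flp_d L240467) q20520, e3 q17316 (flp_d L240479) q20521, e3 q17317 (flp_d L234765) q19873, e3 q17318 L213699 q13482, e3 q17319 L213705 q13205, e3 q17320 L213711 q13206, e3 q17321 (flp_d L240507) q20525, e3 q17322 (flp_d L240513) q20526, e3 q17323 (flp_d L213731) q13207, e3 q17324 L240533 q20530, e3 q17325 (flp_d L240527) q20528, e3 q17326 (flp_d L240531) q20529, e3 q17327 L213747 q13211, e3 q17328 L213755 q13212, e3 q17329 (flp_d L226758) q18898, e3 q17330 (flp_d L214242) q17379, e3 q17331 (flp_d L217841) q17795, e3 q17332 (flp_d L214250) q17380, e3 q17333 (flp_d L214258) q17381, e3 q17334 (flp_d L217853) q17798, e3 q17335 (flp_d L217859) q17799, e3 q17336 (flp_d L214264) q17382, e3 q17337 (flp_d L214274) q17383, e3 q17338 L213813 q13218,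 e3 q17339 L240637 q20544, e3 q17340 L213826 q13220, e3 q17341 L213843 q13655, e3 q17342 L213847 q17236, e3 q17343 L213855 q17237, trivial⟩ (by decide +kernel)

theorem ce_d_271 : ∀ r, r < 64 → sm gd (Qf (17344 + r)) = Qf (tab Gen.d (17344 + r)) :=
  edges_tab (sm gd) Qf (tab Gen.d) 17344 [(17344, 15718), (17345, 15720), (17346, 15721), (17347, 16162), (17348, 13225), (17349, 13226), (17350, 19409), (17351, 17254), (17352, 17256), (17353, 17257), (17354, 17260), (17355, 17261), (17356, 16157), (17357, 17808), (17358, 13232), (17359, 20561), (17360, 13233), (17361, 20565), (17362, 20564), (17363, 19877), (17364, 17815), (17365, 17816), (17366, 13238), (17367, 20570), (17368, 13240), (17369, 13661), (17370, 17312), (17371, 17313), (17372, 15944), (17373, 15946), (17374, 15947), (17375, 16177), (17376, 13245), (17377, 13246), (17378, 19613), (17379, 17330), (17380, 17332), (17381, 17333), (17382, 17336), (17383, 17337), (17384, 16172), (17385, 17823), (17386, 13252), (17387, 20584), (17388, 19859), (17389, 17827), (17390,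 20261), (17391, 13988), (17392, 13483), (17393, 13475), (17394, 20272), (17395, 14007), (17396, 13432), (17397, 13423), (17398, 20327), (17399, 20328), (17400, 14039), (17401, 19751), (17402, 20347), (17403, 19750), (17404, 20348), (17405, 16557), (17406, 16558), (17407, 16475)]
    ⟨e3 q17344 L213863 q15718, e3 q17345 L213871 q15720, e3 q17346 L213879 q15721, e3 q17347 L213891 q16162, e3 q17348 L213899 q13225, e3 q17349 L213909 q13226, e3 q17350 (flp_d L230698) q19409, e3 q17351 L213929 q17254, e3 q17352 L213935 q17256, e3 q17353 L213941 q17257, e3 q17354 L213945 q17260, e3 q17355 L213953 q17261, e3 q17356 L214000 q16157, e3 q17357 (flp_d L217942) q17808, e3 q17358 L213982 q13232, e3 q17359 (flp_d L240788) q20561, e3 q17360 (flp_d L213994) q13233, e3 q17361 L240817 q20565, e3 q17362 (flp_d L240813) q20564, e3 q17363 (flp_d L234813) q19877, e3 q17364 (flp_d L217986) q17815, e3 q17365 (flp_d L217993) q17816, e3 q17366 L214118 q13238, e3 q17367 L240865 q20570, e3 q17368 L214131 q13240, e3 q17369 L214148 q13661, e3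 q17370 L214152 q17312, e3 q17371 L214160 q17313, e3 q17372 L214168 q15944, e3 q17373 L214178 q15946, e3 q17374 L214188 q15947, e3 q17375 L214200 q16177, e3 q17376 L214208 q13245, e3 q17377 L214218 q13246, e3 q17378 (flp_d L232644) q19613, e3 q17379 L214242 q17330, e3 q17380 L214250 q17332, e3 q17381 L214258 q17333, e3 q17382 L214264 q17336, e3 q17383 L214274 q17337, e3 q17384 L214321 q16172, e3 q17385 (flp_d L218088) q17823, e3 q17386 (flp_d L214315) q13252, e3 q17387 L241006 q20584, e3 q17388 (flp_d L234665) q19859, e3 q17389 (flp_d L218132) q17827, e3 q17390 (flp_d L238155) q20261, e3 q17391 L214447 q13988, e3 q17392 L214457 q13483, e3 q17393 L214467 q13475, e3 q17394 (flp_d L238247) q20272, e3 q17395 L214483 q14007, e3 q17396 L214493 q13432, e3 q17397 L214505 q13423, e3 q17398 (flp_d L238695) q20327, e3 q17399 (flp_d L238711) q20328, e3 q17400 L214533 q14039, e3 q17401 (flp_d L233761) q19751, e3 q17402 (flp_d L238907) q20347, e3 q17403 (flp_d L233749) q19750, e3 q17404 (flp_d L238919) q20348, e3 q17405 L214583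 q16557, e3 q17406 L214589 q16558, e3 q17407 (flp_d L214601) q16475, trivial⟩ (by decide +kernel)

theorem ce_d_272 : ∀ r, r < 64 → sm gd (Qf (17408 + r)) = Qf (tab Gen.d (17408 + r)) :=
  edges_tab (sm gd) Qf (tab Gen.d) 17408 [(17408, 17883), (17409, 16262), (17410, 13330), (17411, 13467), (17412, 17889), (17413, 16233), (17414, 14702), (17415, 17472), (17416, 20396), (17417, 20397), (17418, 14096), (17419, 19843), (17420, 20408), (17421, 19842), (17422, 20349), (17423, 16592), (17424, 16593), (17425, 16333), (17426, 13384), (17427, 13415), (17428, 14721), (17429, 17447), (17430, 13392), (17431, 16651), (17432, 16460), (17433, 16462), (17434, 13992), (17435, 16290), (17436, 17893), (17437, 20437), (17438, 13404), (17439, 20450), (17440, 16330), (17441, 19540), (17442, 14074), (17443, 19692), (17444, 15864), (17445, 13428), (17446, 16295), (17447, 17429), (17448, 16578), (17449, 14984), (17450, 16575), (17451, 14978), (17452, 14932), (17453, 17868), (17454, 16661), (17455, 13443), (17456, 16313), (17457, 14011),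 (17458, 16445), (17459, 16669), (17460, 16311), (17461, 17915), (17462, 20495), (17463, 13456), (17464, 20508), (17465, 16472), (17466, 19312), (17467, 14125), (17468, 19786), (17469, 15630), (17470, 13481), (17471, 16448)]
    ⟨e3 q17408 (flp_d L218682) q17883, e3 q17409 L214617 q16262, e3 q17410 L214629 q13330, e3 q17411 L214637 q13467, e3 q17412 (flp_d L218744) q17889, e3 q17413 L214657 q16233, e3 q17414 L214665 q14702, e3 q17415 (flp_d L215255) q17472, e3 q17416 (flp_d L239359) q20396, e3 q17417 (flp_d L239375) q20397, e3 q17418 L214705 q14096, e3 q17419 (flp_d L234513) q19843, e3 q17420 (flp_d L239471) q20408, e3 q17421 (flp_d L234499) q19842, e3 q17422 (flp_d L238943) q20349, e3 q17423 L214759 q16592, e3 q17424 L214767 q16593, e3 q17425 L214783 q16333, e3 q17426 L214791 q13384, e3 q17427 L214799 q13415, e3 q17428 L214813 q14721, e3 q17429 (flp_d L215012) q17447, e3 q17430 L214833 q13392, e3 q17431 L214852 q16651, e3 q17432 L214856 q16460, e3 q17433 L214862 q16462, e3 q17434 L214876 q13992, e3 q17435 L214884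 q16290, e3 q17436 (flp_d L218794) q17893, e3 q17437 (flp_d L239753) q20437, e3 q17438 (flp_d L214910) q13404, e3 q17439 (flp_d L239861) q20450, e3 q17440 L214932 q16330, e3 q17441 (flp_d L232004) q19540, e3 q17442 L214956 q14074, e3 q17443 (flp_d L233273) q19692, e3 q17444 L214978 q15864, e3 q17445 L214990 q13428, e3 q17446 (flp_d L215008) q16295, e3 q17447 L215012 q17429, e3 q17448 L215018 q16578, e3 q17449 (flp_d L215030) q14984, e3 q17450 L215036 q16575, e3 q17451 L215044 q14978, e3 q17452 L215048 q14932, e3 q17453 (flp_d L218550) q17868, e3 q17454 L215064 q16661, e3 q17455 L215068 q13443, e3 q17456 L215082 q16313, e3 q17457 L215096 q14011, e3 q17458 L215108 q16445, e3 q17459 L215121 q16669, e3 q17460 L215125 q16311, e3 q17461 (flp_d L219006) q17915, e3 q17462 (flp_d L240231) q20495, e3 q17463 (flp_d L215149) q13456, e3 q17464 (flp_d L240345) q20508, e3 q17465 L215171 q16472, e3 q17466 (flp_d L229912) q19312, e3 q17467 L215195 q14125, e3 q17468 (flp_d L234027) q19786, e3 q17469 L215217 q15630, e3 q17470 L215231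 q13481, e3 q17471 L215249 q16448, trivial⟩ (by decide +kernel)

theorem ce_d_273 : ∀ r, r < 64 → sm gd (Qf (17472 + r)) = Qf (tab Gen.d (17472 + r)) :=
  edges_tab (sm gd) Qf (tab Gen.d) 17472 [(17472, 17415), (17473, 16543), (17474, 14937), (17475, 16540), (17476, 14930), (17477, 14981), (17478, 17856), (17479, 16679), (17480, 13504), (17481, 14389), (17482, 16534), (17483, 16535), (17484, 13509), (17485, 17927), (17486, 14753), (17487, 14842), (17488, 16740), (17489, 13528), (17490, 14334), (17491, 16570), (17492, 16569), (17493, 13533), (17494, 17930), (17495, 14774), (17496, 14814), (17497, 16742), (17498, 16845), (17499, 17858), (17500, 13569), (17501, 13575), (17502, 20209), (17503, 16847), (17504, 17870), (17505, 13591), (17506, 13596), (17507, 20207), (17508, 16002), (17509, 16309), (17510, 13598), (17511, 20600), (17512, 16078), (17513, 16458), (17514, 13601), (17515, 20602), (17516, 17941), (17517, 13610), (17518, 17951), (17519, 13614), (17520, 13615), (17521, 13616), (17522, 17562), (17523, 13618), (17524,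 17590), (17525, 13620), (17526, 13631), (17527, 20432), (17528, 13623), (17529, 20410), (17530, 13640), (17531, 20491), (17532, 13627), (17533, 20352), (17534, 19922), (17535, 20088)]
    ⟨e3 q17472 L215255 q17415, e3 q17473 L215261 q16543, e3 q17474 (flp_d L215273) q14937, e3 q17475 L215279 q16540, e3 q17476 L215287 q14930, e3 q17477 L215295 q14981, e3 q17478 (flp_d L218446) q17856, e3 q17479 L215311 q16679, e3 q17480 L215321 q13504, e3 q17481 L215331 q14389, e3 q17482 L215343 q16534, e3 q17483 L215349 q16535, e3 q17484 (flp_d L215355) q13509, e3 q17485 (flp_d L219112) q17927, e3 q17486 L215371 q14753, e3 q17487 L215385 q14842, e3 q17488 L215397 q16740, e3 q17489 L215409 q13528, e3 q17490 L215419 q14334, e3 q17491 L215431 q16570, e3 q17492 L215437 q16569, e3 q17493 (flp_d L215443) q13533, e3 q17494 (flp_d L219142) q17930, e3 q17495 L215459 q14774, e3 q17496 L215473 q14814, e3 q17497 L215485 q16742, e3 q17498 L215493 q16845, e3 q17499 L218462 q17858, e3 q17500 (flp_d L215506) q13569, e3 q17501 L215524 q13575, e3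 q17502 (flp_d L237785) q20209, e3 q17503 L215539 q16847, e3 q17504 L218566 q17870, e3 q17505 (flp_d L215556) q13591, e3 q17506 L215574 q13596, e3 q17507 (flp_d L237764) q20207, e3 q17508 (flp_d L215598) q16002, e3 q17509 L215604 q16309, e3 q17510 (flp_d L215610) q13598, e3 q17511 (flp_d L241172) q20600, e3 q17512 (flp_d L215634) q16078, e3 q17513 L215640 q16458, e3 q17514 (flp_d L215648) q13601, e3 q17515 (flp_d L241200) q20602, e3 q17516 (flp_d L219250) q17941, e3 q17517 L215679 q13610, e3 q17518 (flp_d L219354) q17951, e3 q17519 L215695 q13614, e3 q17520 (flp_d L215697) q13615, e3 q17521 (flp_d L215707) q13616, e3 q17522 (flp_d L216073) q17562, e3 q17523 L215727 q13618, e3 q17524 (flp_d L216271) q17590, e3 q17525 L215743 q13620, e3 q17526 L215753 q13631, e3 q17527 (flp_d L239715) q20432, e3 q17528 (flp_d L215771) q13623, e3 q17529 (flp_d L239495) q20410, e3 q17530 L215787 q13640, e3 q17531 (flp_d L240199) q20491, e3 q17532 (flp_d L215805) q13627, e3 q17533 (flp_d L238973) q20352, e3 q17534 (flp_d L235209) q19922,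 e3 q17535 (flp_d L236651) q20088, trivial⟩ (by decide +kernel)

theorem ce_d_274 : ∀ r, r < 64 → sm gd (Qf (17536 + r)) = Qf (tab Gen.d (17536 + r)) :=
  edges_tab (sm gd) Qf (tab Gen.d) 17536 [(17536, 13636), (17537, 20609), (17538, 19983), (17539, 20096), (17540, 13645), (17541, 20612), (17542, 13652), (17543, 13657), (17544, 20613), (17545, 13653), (17546, 20615), (17547, 14741), (17548, 13839), (17549, 20616), (17550, 13659), (17551, 20618), (17552, 14762), (17553, 13788), (17554, 19925), (17555, 19986), (17556, 13669), (17557, 13670), (17558, 15007), (17559, 15019), (17560, 17564), (17561, 17592), (17562, 17522), (17563, 13722), (17564, 17560), (17565, 20105), (17566, 16528), (17567, 16913), (17568, 13726), (17569, 20626), (17570, 18738), (17571, 13935), (17572, 13730), (17573, 20631), (17574, 13732), (17575, 16677), (17576, 13734), (17577, 13736), (17578, 18581), (17579, 20635), (17580, 20636), (17581, 13738), (17582, 20640), (17583, 19306), (17584, 13740), (17585, 19305), (17586, 13742), (17587, 19919), (17588,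 13744), (17589, 20646), (17590, 17524), (17591, 13747), (17592, 17561), (17593, 20113), (17594, 16563), (17595, 16925), (17596, 13751), (17597, 20653), (17598, 18792), (17599, 13959)]
    ⟨e3 q17536 L215837 q13636, e3 q17537 (flp_d L241275) q20609, e3 q17538 (flp_d L235795) q19983, e3 q17539 (flp_d L236733) q20096, e3 q17540 L215873 q13645, e3 q17541 (flp_d L241306) q20612, e3 q17542 L215891 q13652, e3 q17543 L215903 q13657, e3 q17544 L241314 q20613, e3 q17545 (flp_d L215919) q13653, e3 q17546 (flp_d L241322) q20615, e3 q17547 L215936 q14741, e3 q17548 L215950 q13839, e3 q17549 L241326 q20616, e3 q17550 (flp_d L215962) q13659, e3 q17551 (flp_d L241340) q20618, e3 q17552 L215981 q14762, e3 q17553 L215995 q13788, e3 q17554 (flp_d L235237) q19925, e3 q17555 (flp_d L235823) q19986, e3 q17556 (flp_d L216021) q13669, e3 q17557 (flp_d L216030) q13670, e3 q17558 L216041 q15007, e3 q17559 L216049 q15019, e3 q17560 (flp_d L216085) q17564, e3 q17561 (flp_d L216283) q17592, e3 q17562 L216073 q17522, e3 q17563 L216077 q13722,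 e3 q17564 L216085 q17560, e3 q17565 (flp_d L236823) q20105, e3 q17566 L216103 q16528, e3 q17567 L216109 q16913, e3 q17568 (flp_d L216111) q13726, e3 q17569 (flp_d L241428) q20626, e3 q17570 (flp_d L225783) q18738, e3 q17571 L216127 q13935, e3 q17572 L216135 q13730, e3 q17573 L241448 q20631, e3 q17574 L216145 q13732, e3 q17575 (flp_d L216157) q16677, e3 q17576 (flp_d L216159) q13734, e3 q17577 L216173 q13736, e3 q17578 (flp_d L224599) q18581, e3 q17579 L241472 q20635, e3 q17580 L241482 q20636, e3 q17581 (flp_d L216201) q13738, e3 q17582 (flp_d L241522) q20640, e3 q17583 (flp_d L229854) q19306, e3 q17584 (flp_d L216219) q13740, e3 q17585 L229846 q19305, e3 q17586 L216237 q13742, e3 q17587 L235185 q19919, e3 q17588 L216253 q13744, e3 q17589 (flp_d L241586) q20646, e3 q17590 L216271 q17524, e3 q17591 L216275 q13747, e3 q17592 L216283 q17561, e3 q17593 (flp_d L236907) q20113, e3 q17594 L216301 q16563, e3 q17595 L216307 q16925, e3 q17596 (flp_d L216309) q13751, e3 q17597 (flp_d L241662) q20653, e3 q17598 (flp_d L226071)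 q18792, e3 q17599 L216325 q13959, trivial⟩ (by decide +kernel)

theorem ce_d_275 : ∀ r, r < 64 → sm gd (Qf (17600 + r)) = Qf (tab Gen.d (17600 + r)) :=
  edges_tab (sm gd) Qf (tab Gen.d) 17600 [(17600, 13755), (17601, 20658), (17602, 13757), (17603, 16659), (17604, 13759), (17605, 13761), (17606, 18568), (17607, 20639), (17608, 20662), (17609, 13763), (17610, 20665), (17611, 19535), (17612, 13765), (17613, 19533), (17614, 13767), (17615, 19906), (17616, 13769), (17617, 20671), (17618, 13772), (17619, 17663), (17620, 13775), (17621, 17199), (17622, 13780), (17623, 17732), (17624, 13783), (17625, 17275), (17626, 20429), (17627, 20430), (17628, 13790), (17629, 20675), (17630, 16732), (17631, 13794), (17632, 17709), (17633, 13796), (17634, 19745), (17635, 20678), (17636, 13795), (17637, 17704), (17638, 14032), (17639, 13799), (17640, 17878), (17641, 13801), (17642, 20680), (17643, 20681), (17644, 18739), (17645, 18740), (17646, 18741), (17647, 14037), (17648, 13806), (17649, 13855), (17650, 13808), (17651, 20688), (17652,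 19830), (17653, 13807), (17654, 20690), (17655, 20687), (17656, 17145), (17657, 13809), (17658, 20691), (17659, 20407), (17660, 13811), (17661, 17271), (17662, 20351), (17663, 17619)]
    ⟨e3 q17600 L216333 q13755, e3 q17601 L241682 q20658, e3 q17602 L216343 q13757, e3 q17603 (flp_d L216355) q16659, e3 q17604 (flp_d L216357) q13759, e3 q17605 L216371 q13761, e3 q17606 (flp_d L224487) q18568, e3 q17607 (flp_d L241516) q20639, e3 q17608 L241708 q20662, e3 q17609 (flp_d L216399) q13763, e3 q17610 (flp_d L241738) q20665, e3 q17611 (flp_d L231952) q19535, e3 q17612 (flp_d L216417) q13765, e3 q17613 L231936 q19533, e3 q17614 L216435 q13767, e3 q17615 L235065 q19906, e3 q17616 L216451 q13769, e3 q17617 (flp_d L241802) q20671, e3 q17618 (flp_d L216463) q13772, e3 q17619 (flp_d L216807) q17663, e3 q17620 (flp_d L216481) q13775, e3 q17621 L216487 q17199, e3 q17622 (flp_d L216489) q13780, e3 q17623 (flp_d L217372) q17732, e3 q17624 (flp_d L216507) q13783, e3 q17625 L216513 q17275, e3 q17626 (flp_d L239675) q20429, e3 q17627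 (flp_d L239689) q20430, e3 q17628 (flp_d L216537) q13790, e3 q17629 (flp_d L241854) q20675, e3 q17630 L216555 q16732, e3 q17631 L216559 q13794, e3 q17632 (flp_d L217188) q17709, e3 q17633 L216565 q13796, e3 q17634 (flp_d L233701) q19745, e3 q17635 (flp_d L241878) q20678, e3 q17636 (flp_d L216593) q13795, e3 q17637 (flp_d L217174) q17704, e3 q17638 L216631 q14032, e3 q17639 L216639 q13799, e3 q17640 L218636 q17878, e3 q17641 L216651 q13801, e3 q17642 (flp_d L241896) q20680, e3 q17643 (flp_d L241906) q20681, e3 q17644 (flp_d L225787) q18739, e3 q17645 (flp_d L225795) q18740, e3 q17646 (flp_d L225799) q18741, e3 q17647 L216679 q14037, e3 q17648 L216685 q13806, e3 q17649 L222533 q13855, e3 q17650 L216691 q13808, e3 q17651 L241960 q20688, e3 q17652 L234393 q19830, e3 q17653 (flp_d L216711) q13807, e3 q17654 (flp_d L241984) q20690, e3 q17655 (flp_d L241952) q20687, e3 q17656 (flp_d L216743) q17145, e3 q17657 (flp_d L216745) q13809, e3 q17658 (flp_d L241994) q20691, e3 q17659 (flp_d L239461) q20407, e3 q17660 (flp_d L216769)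 q13811, e3 q17661 L216783 q17271, e3 q17662 (flp_d L238959) q20351, e3 q17663 L216807 q17619, trivial⟩ (by decide +kernel)

theorem ce_d_276 : ∀ r, r < 64 → sm gd (Qf (17664 + r)) = Qf (tab Gen.d (17664 + r)) :=
  edges_tab (sm gd) Qf (tab Gen.d) 17664 [(17664, 14050), (17665, 18187), (17666, 18975), (17667, 14054), (17668, 13816), (17669, 20697), (17670, 13817), (17671, 20517), (17672, 13819), (17673, 17221), (17674, 14058), (17675, 13822), (17676, 13823), (17677, 17062), (17678, 17204), (17679, 20699), (17680, 14395), (17681, 14070), (17682, 13829), (17683, 18808), (17684, 15189), (17685, 18809), (17686, 18810), (17687, 13831), (17688, 20705), (17689, 18811), (17690, 14398), (17691, 14077), (17692, 13835), (17693, 20709), (17694, 20478), (17695, 20493), (17696, 13836), (17697, 14982), (17698, 20487), (17699, 20488), (17700, 13840), (17701, 20712), (17702, 16728), (17703, 13844), (17704, 17637), (17705, 13846), (17706, 19838), (17707, 20715), (17708, 13845), (17709, 17632), (17710, 14089), (17711, 13848), (17712,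 17902), (17713, 13850), (17714, 20717), (17715, 20718), (17716, 18789), (17717, 18790), (17718, 18791), (17719, 14094), (17720, 13857), (17721, 20725), (17722, 19737), (17723, 13856), (17724, 20724), (17725, 17056), (17726, 13858), (17727, 20726)]
    ⟨e3 q17664 L216817 q14050, e3 q17665 (flp_d L221108) q18187, e3 q17666 (flp_d L227326) q18975, e3 q17667 L216829 q14054, e3 q17668 L216837 q13816, e3 q17669 L242054 q20697, e3 q17670 (flp_d L216853) q13817, e3 q17671 (flp_d L240433) q20517, e3 q17672 L216873 q13819, e3 q17673 L216885 q17221, e3 q17674 L216899 q14058, e3 q17675 L216907 q13822, e3 q17676 L216924 q13823, e3 q17677 L216928 q17062, e3 q17678 L216940 q17204, e3 q17679 L242078 q20699, e3 q17680 L216962 q14395, e3 q17681 L216970 q14070, e3 q17682 L216978 q13829, e3 q17683 (flp_d L226157) q18808, e3 q17684 (flp_d L216996) q15189, e3 q17685 (flp_d L226167) q18809, e3 q17686 (flp_d L226175) q18810, e3 q17687 (flp_d L217006) q13831, e3 q17688 (flp_d L242152) q20705, e3 q17689 (flp_d L226181) q18811, e3 q17690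 L217027 q14398, e3 q17691 L217035 q14077, e3 q17692 L217043 q13835, e3 q17693 (flp_d L242192) q20709, e3 q17694 L240091 q20478, e3 q17695 (flp_d L240215) q20493, e3 q17696 (flp_d L217066) q13836, e3 q17697 L217084 q14982, e3 q17698 (flp_d L240153) q20487, e3 q17699 (flp_d L240167) q20488, e3 q17700 (flp_d L217110) q13840, e3 q17701 (flp_d L242216) q20712, e3 q17702 L217128 q16728, e3 q17703 L217132 q13844, e3 q17704 L217174 q17637, e3 q17705 L217138 q13846, e3 q17706 (flp_d L234457) q19838, e3 q17707 (flp_d L242242) q20715, e3 q17708 (flp_d L217166) q13845, e3 q17709 L217188 q17632, e3 q17710 L217204 q14089, e3 q17711 L217212 q13848, e3 q17712 L218868 q17902, e3 q17713 L217224 q13850, e3 q17714 (flp_d L242260) q20717, e3 q17715 (flp_d L242270) q20718, e3 q17716 (flp_d L226055) q18789, e3 q17717 (flp_d L226063) q18790, e3 q17718 (flp_d L226067) q18791, e3 q17719 L217252 q14094, e3 q17720 L217264 q13857, e3 q17721 L242326 q20725, e3 q17722 L233645 q19737, e3 q17723 (flp_d L217284) q13856, e3 q17724 (flp_d L242318)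 q20724, e3 q17725 (flp_d L217308) q17056, e3 q17726 (flp_d L217310) q13858, e3 q17727 (flp_d L242340) q20726, trivial⟩ (by decide +kernel)

theorem ce_d_277 : ∀ r, r < 64 → sm gd (Qf (17728 + r)) = Qf (tab Gen.d (17728 + r)) :=
  edges_tab (sm gd) Qf (tab Gen.d) 17728 [(17728, 20346), (17729, 13860), (17730, 20345), (17731, 17195), (17732, 17623), (17733, 14104), (17734, 18212), (17735, 19114), (17736, 14108), (17737, 13865), (17738, 13866), (17739, 20460), (17740, 13868), (17741, 17297), (17742, 14111), (17743, 13871), (17744, 13872), (17745, 17280), (17746, 17151), (17747, 20732), (17748, 14417), (17749, 14121), (17750, 13878), (17751, 18757), (17752, 15155), (17753, 18758), (17754, 18759), (17755, 13880), (17756, 20738), (17757, 18760), (17758, 14420), (17759, 14128), (17760, 13884), (17761, 20742), (17762, 20536), (17763, 20435), (17764, 13885), (17765, 14934), (17766, 20199), (17767, 15971), (17768, 13908), (17769, 13889), (17770, 13890), (17771, 20747), (17772, 13891), (17773, 20751), (17774, 20749), (17775,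 20750), (17776, 13902), (17777, 13895), (17778, 19844), (17779, 17255), (17780, 17803), (17781, 17804), (17782, 17258), (17783, 17259), (17784, 17805), (17785, 17806), (17786, 20203), (17787, 15746), (17788, 13903), (17789, 20759), (17790, 13904), (17791, 20763)]
    ⟨e3 q17728 (flp_d L238897) q20346, e3 q17729 (flp_d L217334) q13860, e3 q17730 (flp_d L238889) q20345, e3 q17731 L217360 q17195, e3 q17732 L217372 q17623, e3 q17733 L217382 q14104, e3 q17734 (flp_d L221277) q18212, e3 q17735 (flp_d L228268) q19114, e3 q17736 L217400 q14108, e3 q17737 L217408 q13865, e3 q17738 (flp_d L217416) q13866, e3 q17739 (flp_d L239957) q20460, e3 q17740 L217436 q13868, e3 q17741 L217448 q17297, e3 q17742 L217462 q14111, e3 q17743 L217470 q13871, e3 q17744 L217478 q13872, e3 q17745 L217484 q17280, e3 q17746 L217496 q17151, e3 q17747 L242402 q20732, e3 q17748 L217518 q14417, e3 q17749 L217526 q14121, e3 q17750 L217534 q13878, e3 q17751 (flp_d L225885) q18757, e3 q17752 (flp_d L217552) q15155, e3 q17753 (flp_d L225897) q18758, e3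 q17754 (flp_d L225905) q18759, e3 q17755 (flp_d L217562) q13880, e3 q17756 (flp_d L242476) q20738, e3 q17757 (flp_d L225909) q18760, e3 q17758 L217583 q14420, e3 q17759 L217591 q14128, e3 q17760 L217599 q13884, e3 q17761 (flp_d L242516) q20742, e3 q17762 L240579 q20536, e3 q17763 (flp_d L239737) q20435, e3 q17764 (flp_d L217622) q13885, e3 q17765 L217640 q14934, e3 q17766 (flp_d L237679) q20199, e3 q17767 (flp_d L217658) q15971, e3 q17768 L217664 q13908, e3 q17769 L217672 q13889, e3 q17770 L217678 q13890, e3 q17771 (flp_d L242564) q20747, e3 q17772 (flp_d L217694) q13891, e3 q17773 L242596 q20751, e3 q17774 (flp_d L242584) q20749, e3 q17775 (flp_d L242592) q20750, e3 q17776 L217716 q13902, e3 q17777 L217726 q13895, e3 q17778 L234527 q19844, e3 q17779 L217740 q17255, e3 q17780 (flp_d L217890) q17803, e3 q17781 (flp_d L217900) q17804, e3 q17782 L217752 q17258, e3 q17783 L217759 q17259, e3 q17784 (flp_d L217908) q17805, e3 q17785 (flp_d L217920) q17806, e3 q17786 (flp_d L237721) q20203, e3 q17787 (flp_d L217785) q15746,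 e3 q17788 L217791 q13903, e3 q17789 (flp_d L242685) q20759, e3 q17790 (flp_d L217807) q13904, e3 q17791 L242721 q20763, trivial⟩ (by decide +kernel)

theorem ce_d_278 : ∀ r, r < 64 → sm gd (Qf (17792 + r)) = Qf (tab Gen.d (17792 + r)) :=
  edges_tab (sm gd) Qf (tab Gen.d) 17792 [(17792, 20761), (17793, 20762), (17794, 19748), (17795, 17331), (17796, 17818), (17797, 17819), (17798, 17334), (17799, 17335), (17800, 17820), (17801, 17821), (17802, 17209), (17803, 17780), (17804, 17781), (17805, 17784), (17806, 17785), (17807, 20773), (17808, 17357), (17809, 13917), (17810, 20776), (17811, 13918), (17812, 19077), (17813, 20780), (17814, 20781), (17815, 17364), (17816, 17365), (17817, 17285), (17818, 17796), (17819, 17797), (17820, 17800), (17821, 17801), (17822, 20788), (17823, 17385), (17824, 13926), (17825, 19211), (17826, 20790), (17827, 17389), (17828, 14017), (17829, 13997), (17830, 20632), (17831, 16297), (17832, 17850), (17833, 16866), (17834, 15022), (17835, 17944), (17836, 16642), (17837, 18571), (17838, 13958),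 (17839, 13993), (17840, 20659), (17841, 16450), (17842, 17852), (17843, 16857), (17844, 15010), (17845, 17934), (17846, 16637), (17847, 18557), (17848, 13978), (17849, 14012), (17850, 17832), (17851, 18529), (17852, 17842), (17853, 18531), (17854, 18124), (17855, 16357)]
    ⟨e3 q17792 (flp_d L242707) q20761, e3 q17793 (flp_d L242717) q20762, e3 q17794 L233735 q19748, e3 q17795 L217841 q17331, e3 q17796 (flp_d L218036) q17818, e3 q17797 (flp_d L218046) q17819, e3 q17798 L217853 q17334, e3 q17799 L217859 q17335, e3 q17800 (flp_d L218054) q17820, e3 q17801 (flp_d L218066) q17821, e3 q17802 L217876 q17209, e3 q17803 L217890 q17780, e3 q17804 L217900 q17781, e3 q17805 L217908 q17784, e3 q17806 L217920 q17785, e3 q17807 L242824 q20773, e3 q17808 L217942 q17357, e3 q17809 L217948 q13917, e3 q17810 (flp_d L242858) q20776, e3 q17811 (flp_d L217964) q13918, e3 q17812 (flp_d L228046) q19077, e3 q17813 (flp_d L242875) q20780, e3 q17814 (flp_d L242881) q20781, e3 q17815 L217986 q17364, e3 q17816 L217993 q17365, e3 q17817 L218022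 q17285, e3 q17818 L218036 q17796, e3 q17819 L218046 q17797, e3 q17820 L218054 q17800, e3 q17821 L218066 q17801, e3 q17822 L242947 q20788, e3 q17823 L218088 q17385, e3 q17824 (flp_d L218110) q13926, e3 q17825 (flp_d L229005) q19211, e3 q17826 (flp_d L242967) q20790, e3 q17827 L218132 q17389, e3 q17828 L218168 q14017, e3 q17829 L218176 q13997, e3 q17830 (flp_d L241454) q20632, e3 q17831 L218200 q16297, e3 q17832 (flp_d L218392) q17850, e3 q17833 L218224 q16866, e3 q17834 L218228 q15022, e3 q17835 (flp_d L219276) q17944, e3 q17836 L218246 q16642, e3 q17837 (flp_d L224519) q18571, e3 q17838 L218264 q13958, e3 q17839 L218278 q13993, e3 q17840 (flp_d L241688) q20659, e3 q17841 L218302 q16450, e3 q17842 (flp_d L218408) q17852, e3 q17843 L218326 q16857, e3 q17844 L218330 q15010, e3 q17845 (flp_d L219172) q17934, e3 q17846 L218348 q16637, e3 q17847 (flp_d L224397) q18557, e3 q17848 L218366 q13978, e3 q17849 L218380 q14012, e3 q17850 L218392 q17832, e3 q17851 (flp_d L224131) q18529, e3 q17852 L218408 q17842, e3 q17853 (flp_d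 L224149) q18531, e3 q17854 (flp_d L220594) q18124, e3 q17855 L218436 q16357, trivial⟩ (by decide +kernel)

theorem ce_d_279 : ∀ r, r < 64 → sm gd (Qf (17856 + r)) = Qf (tab Gen.d (17856 + r)) :=
  edges_tab (sm gd) Qf (tab Gen.d) 17856 [(17856, 17478), (17857, 13995), (17858, 17499), (17859, 18123), (17860, 13998), (17861, 20594), (17862, 16281), (17863, 14002), (17864, 20794), (17865, 18125), (17866, 18176), (17867, 16497), (17868, 17453), (17869, 14014), (17870, 17504), (17871, 18175), (17872, 14016), (17873, 20590), (17874, 16436), (17875, 14021), (17876, 20798), (17877, 18177), (17878, 17640), (17879, 14499), (17880, 14034), (17881, 20799), (17882, 14036), (17883, 17408), (17884, 16434), (17885, 20801), (17886, 20802), (17887, 14052), (17888, 20803), (17889, 17412), (17890, 17220), (17891, 20698), (17892, 14060), (17893, 17436), (17894, 14069), (17895, 20804), (17896, 20805), (17897, 14073), (17898, 20807), (17899, 14075), (17900, 18796), (17901, 18605), (17902, 17712), (17903, 14450), (17904, 14091), (17905,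 20809), (17906, 14093), (17907, 16279), (17908, 20811), (17909, 20812), (17910, 14106), (17911, 20813), (17912, 17296), (17913, 20731), (17914, 14113), (17915, 17461), (17916, 14120), (17917, 20814), (17918, 20815), (17919, 14124)]
    ⟨e3 q17856 L218446 q17478, e3 q17857 (flp_d L218448) q13995, e3 q17858 (flp_d L218462) q17499, e3 q17859 (flp_d L220582) q18123, e3 q17860 L218470 q13998, e3 q17861 (flp_d L241102) q20594, e3 q17862 L218492 q16281, e3 q17863 (flp_d L218500) q14002, e3 q17864 (flp_d L242997) q20794, e3 q17865 (flp_d L220604) q18125, e3 q17866 (flp_d L221008) q18176, e3 q17867 L218540 q16497, e3 q17868 L218550 q17453, e3 q17869 (flp_d L218552) q14014, e3 q17870 (flp_d L218566) q17504, e3 q17871 (flp_d L220996) q18175, e3 q17872 L218574 q14016, e3 q17873 (flp_d L241068) q20590, e3 q17874 L218596 q16436, e3 q17875 (flp_d L218604) q14021, e3 q17876 (flp_d L243031) q20798, e3 q17877 (flp_d L221018) q18177, e3 q17878 (flp_d L218636) q17640, e3 q17879 L218644 q14499, e3 q17880 (flp_d L218650) q14034, e3 q17881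 (flp_d L243045) q20799, e3 q17882 L218666 q14036, e3 q17883 L218682 q17408, e3 q17884 L218690 q16434, e3 q17885 L243057 q20801, e3 q17886 L243071 q20802, e3 q17887 (flp_d L218722) q14052, e3 q17888 (flp_d L243091) q20803, e3 q17889 L218744 q17412, e3 q17890 L218760 q17220, e3 q17891 (flp_d L242070) q20698, e3 q17892 (flp_d L218772) q14060, e3 q17893 L218794 q17436, e3 q17894 (flp_d L218796) q14069, e3 q17895 L243099 q20804, e3 q17896 L243113 q20805, e3 q17897 (flp_d L218828) q14073, e3 q17898 (flp_d L243147) q20807, e3 q17899 (flp_d L218846) q14075, e3 q17900 L226095 q18796, e3 q17901 (flp_d L224829) q18605, e3 q17902 (flp_d L218868) q17712, e3 q17903 L218876 q14450, e3 q17904 (flp_d L218882) q14091, e3 q17905 (flp_d L243171) q20809, e3 q17906 L218898 q14093, e3 q17907 L218910 q16279, e3 q17908 L243183 q20811, e3 q17909 L243197 q20812, e3 q17910 (flp_d L218944) q14106, e3 q17911 (flp_d L243217) q20813, e3 q17912 L218970 q17296, e3 q17913 (flp_d L242394) q20731, e3 q17914 (flp_d L218982) q14113, e3 q17915 L219006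 q17461, e3 q17916 (flp_d L219008) q14120, e3 q17917 L243225 q20814, e3 q17918 L243239 q20815, e3 q17919 (flp_d L219040) q14124, trivial⟩ (by decide +kernel)

theorem ce_d_280 : ∀ r, r < 64 → sm gd (Qf (17920 + r)) = Qf (tab Gen.d (17920 + r)) :=
  edges_tab (sm gd) Qf (tab Gen.d) 17920 [(17920, 20817), (17921, 14126), (17922, 18745), (17923, 18603), (17924, 14134), (17925, 14144), (17926, 15008), (17927, 17485), (17928, 16715), (17929, 15020), (17930, 17494), (17931, 16721), (17932, 14156), (17933, 20821), (17934, 17845), (17935, 15851), (17936, 19756), (17937, 14990), (17938, 19753), (17939, 19758), (17940, 14988), (17941, 17516), (17942, 14177), (17943, 20822), (17944, 17835), (17945, 15617), (17946, 19848), (17947, 14942), (17948, 19846), (17949, 19850), (17950, 14940), (17951, 17518), (17952, 14695), (17953, 14196), (17954, 14697), (17955, 14198), (17956, 15037), (17957, 14200), (17958, 16018), (17959, 19710), (17960, 14202), (17961, 15049), (17962, 14204), (17963, 16095), (17964, 19805), (17965, 14206), (17966,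 14209), (17967, 17967), (17968, 18223), (17969, 14211), (17970, 17970), (17971, 18198), (17972, 14213), (17973, 20831), (17974, 20623), (17975, 15080), (17976, 14216), (17977, 19512), (17978, 14217), (17979, 20834), (17980, 20650), (17981, 15085), (17982, 14220), (17983, 19280)]
    ⟨e3 q17920 (flp_d L243273) q20817, e3 q17921 (flp_d L219058) q14126, e3 q17922 L225823 q18745, e3 q17923 L224807 q18603, e3 q17924 L219078 q14134, e3 q17925 L219090 q14144, e3 q17926 L219104 q15008, e3 q17927 L219112 q17485, e3 q17928 L219120 q16715, e3 q17929 L219134 q15020, e3 q17930 L219142 q17494, e3 q17931 L219150 q16721, e3 q17932 L219158 q14156, e3 q17933 (flp_d L243321) q20821, e3 q17934 L219172 q17845, e3 q17935 L219186 q15851, e3 q17936 (flp_d L233809) q19756, e3 q17937 L219204 q14990, e3 q17938 (flp_d L233781) q19753, e3 q17939 (flp_d L233827) q19758, e3 q17940 L219238 q14988, e3 q17941 L219250 q17516, e3 q17942 L219260 q14177, e3 q17943 (flp_d L243329) q20822, e3 q17944 L219276 q17835, e3 q17945 L219290 q15617, e3 q17946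 (flp_d L234561) q19848, e3 q17947 L219308 q14942, e3 q17948 (flp_d L234541) q19846, e3 q17949 (flp_d L234579) q19850, e3 q17950 L219342 q14940, e3 q17951 L219354 q17518, e3 q17952 L219370 q14695, e3 q17953 L219378 q14196, e3 q17954 L219390 q14697, e3 q17955 L219398 q14198, e3 q17956 L219408 q15037, e3 q17957 L219414 q14200, e3 q17958 (flp_d L219654) q16018, e3 q17959 (flp_d L233419) q19710, e3 q17960 (flp_d L219430) q14202, e3 q17961 L219440 q15049, e3 q17962 L219446 q14204, e3 q17963 L220036 q16095, e3 q17964 (flp_d L234175) q19805, e3 q17965 (flp_d L219462) q14206, e3 q17966 (flp_d L219466) q14209, e3 q17967 L219476 q17967, e3 q17968 (flp_d L227440) q18223, e3 q17969 (flp_d L219487) q14211, e3 q17970 L219497 q17970, e3 q17971 (flp_d L225729) q18198, e3 q17972 (flp_d L219508) q14213, e3 q17973 (flp_d L243435) q20831, e3 q17974 (flp_d L241408) q20623, e3 q17975 L219532 q15080, e3 q17976 L219536 q14216, e3 q17977 (flp_d L231740) q19512, e3 q17978 (flp_d L219548) q14217, e3 q17979 (flp_d L243461) q20834, e3 q17980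 (flp_d L241642) q20650, e3 q17981 L219572 q15085, e3 q17982 L219576 q14220, e3 q17983 (flp_d L229604) q19280, trivial⟩ (by decide +kernel)

theorem ce_d_281 : ∀ r, r < 64 → sm gd (Qf (17984 + r)) = Qf (tab Gen.d (17984 + r)) :=
  edges_tab (sm gd) Qf (tab Gen.d) 17984 [(17984, 15088), (17985, 14222), (17986, 15092), (17987, 14225), (17988, 14226), (17989, 20839), (17990, 16006), (17991, 19865), (17992, 15098), (17993, 14228), (17994, 15102), (17995, 14231), (17996, 14232), (17997, 20843), (17998, 16082), (17999, 19884), (18000, 14233), (18001, 19520), (18002, 20845), (18003, 14297), (18004, 14235), (18005, 20846), (18006, 19291), (18007, 14352), (18008, 18008), (18009, 20849), (18010, 20850), (18011, 14239), (18012, 20852), (18013, 15140), (18014, 18014), (18015, 20856), (18016, 20857), (18017, 14243), (18018, 20859), (18019, 15147), (18020, 18078), (18021, 14246), (18022, 14247), (18023, 20863), (18024, 20864), (18025, 19525), (18026, 18033), (18027, 19485), (18028, 14253), (18029, 18116), (18030, 15160), (18031,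 14255), (18032, 14464), (18033, 18026), (18034, 14256), (18035, 20875), (18036, 14257), (18037, 15064), (18038, 19393), (18039, 15169), (18040, 14259), (18041, 20878), (18042, 18126), (18043, 15175), (18044, 14263), (18045, 14264), (18046, 19668), (18047, 19594)]
    ⟨e3 q17984 L219596 q15088, e3 q17985 L219602 q14222, e3 q17986 L219608 q15092, e3 q17987 L219614 q14225, e3 q17988 L219622 q14226, e3 q17989 (flp_d L243511) q20839, e3 q17990 (flp_d L219646) q16006, e3 q17991 (flp_d L234705) q19865, e3 q17992 L219664 q15098, e3 q17993 L219670 q14228, e3 q17994 L219676 q15102, e3 q17995 L219682 q14231, e3 q17996 L219690 q14232, e3 q17997 (flp_d L243545) q20843, e3 q17998 L220022 q16082, e3 q17999 (flp_d L234861) q19884, e3 q18000 (flp_d L219708) q14233, e3 q18001 (flp_d L231804) q19520, e3 q18002 (flp_d L243557) q20845, e3 q18003 L219732 q14297, e3 q18004 (flp_d L219734) q14235, e3 q18005 (flp_d L243565) q20846, e3 q18006 (flp_d L229686) q19291, e3 q18007 L219758 q14352, e3 q18008 L219762 q18008, e3 q18009 L243591 q20849,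 e3 q18010 L243605 q20850, e3 q18011 (flp_d L219779) q14239, e3 q18012 (flp_d L243623) q20852, e3 q18013 L219791 q15140, e3 q18014 L219795 q18014, e3 q18015 L243659 q20856, e3 q18016 L243673 q20857, e3 q18017 (flp_d L219814) q14243, e3 q18018 (flp_d L243691) q20859, e3 q18019 L219826 q15147, e3 q18020 L220250 q18078, e3 q18021 L219834 q14246, e3 q18022 L219842 q14247, e3 q18023 (flp_d L243729) q20863, e3 q18024 (flp_d L243737) q20864, e3 q18025 (flp_d L231844) q19525, e3 q18026 L219920 q18033, e3 q18027 (flp_d L231484) q19485, e3 q18028 (flp_d L219880) q14253, e3 q18029 L220530 q18116, e3 q18030 L219898 q15160, e3 q18031 L219902 q14255, e3 q18032 L219908 q14464, e3 q18033 (flp_d L219920) q18026, e3 q18034 (flp_d L219922) q14256, e3 q18035 L243845 q20875, e3 q18036 (flp_d L219940) q14257, e3 q18037 L219952 q15064, e3 q18038 L230594 q19393, e3 q18039 L219966 q15169, e3 q18040 L219972 q14259, e3 q18041 (flp_d L243883) q20878, e3 q18042 (flp_d L220622) q18126, e3 q18043 L219988 q15175, e3 q18044 L219994 q14263, e3 q18045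 L220000 q14264, e3 q18046 (flp_d L233115) q19668, e3 q18047 (flp_d L232468) q19594, trivial⟩ (by decide +kernel)

theorem ce_d_282 : ∀ r, r < 64 → sm gd (Qf (18048 + r)) = Qf (tab Gen.d (18048 + r)) :=
  edges_tab (sm gd) Qf (tab Gen.d) 18048 [(18048, 20390), (18049, 18132), (18050, 14266), (18051, 14267), (18052, 20887), (18053, 19297), (18054, 20888), (18055, 18062), (18056, 19251), (18057, 14273), (18058, 18170), (18059, 15194), (18060, 14275), (18061, 14513), (18062, 18055), (18063, 14276), (18064, 20899), (18065, 14277), (18066, 19248), (18067, 15059), (18068, 15203), (18069, 14279), (18070, 20902), (18071, 18178), (18072, 15209), (18073, 14283), (18074, 14284), (18075, 19762), (18076, 19379), (18077, 20427), (18078, 18020), (18079, 14287), (18080, 19754), (18081, 20828), (18082, 14288), (18083, 20909), (18084, 14703), (18085, 14292), (18086, 14293), (18087, 14294), (18088, 14296), (18089, 20827), (18090, 20838), (18091, 14708), (18092, 14301), (18093, 18716), (18094, 18478), (18095, 14307), (18096, 18471),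 (18097, 18770), (18098, 15844), (18099, 14311), (18100, 14310), (18101, 20921), (18102, 18771), (18103, 20923), (18104, 20920), (18105, 14709), (18106, 14314), (18107, 14316), (18108, 20930), (18109, 14318), (18110, 20099), (18111, 14320)]
    ⟨e3 q18048 (flp_d L239309) q20390, e3 q18049 L220680 q18132, e3 q18050 L220050 q14266, e3 q18051 L220056 q14267, e3 q18052 (flp_d L243971) q20887, e3 q18053 (flp_d L229742) q19297, e3 q18054 (flp_d L243979) q20888, e3 q18055 L220136 q18062, e3 q18056 (flp_d L229338) q19251, e3 q18057 (flp_d L220096) q14273, e3 q18058 L220960 q18170, e3 q18059 L220114 q15194, e3 q18060 L220118 q14275, e3 q18061 L220124 q14513, e3 q18062 (flp_d L220136) q18055, e3 q18063 (flp_d L220138) q14276, e3 q18064 L244089 q20899, e3 q18065 (flp_d L220156) q14277, e3 q18066 (flp_d L229310) q19248, e3 q18067 L220172 q15059, e3 q18068 L220182 q15203, e3 q18069 L220188 q14279, e3 q18070 (flp_d L244127) q20902, e3 q18071 (flp_d L221036) q18178, e3 q18072 L220204 q15209, e3 q18073 L220210 q14283, e3 q18074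 L220216 q14284, e3 q18075 (flp_d L233863) q19762, e3 q18076 L230452 q19379, e3 q18077 (flp_d L239657) q20427, e3 q18078 (flp_d L220250) q18020, e3 q18079 L220256 q14287, e3 q18080 (flp_d L233791) q19754, e3 q18081 (flp_d L243405) q20828, e3 q18082 (flp_d L220280) q14288, e3 q18083 (flp_d L244199) q20909, e3 q18084 L220296 q14703, e3 q18085 L220304 q14292, e3 q18086 L220312 q14293, e3 q18087 L220320 q14294, e3 q18088 L220330 q14296, e3 q18089 (flp_d L243391) q20827, e3 q18090 (flp_d L243501) q20838, e3 q18091 L220352 q14708, e3 q18092 L220362 q14301, e3 q18093 (flp_d L225597) q18716, e3 q18094 (flp_d L223659) q18478, e3 q18095 L220384 q14307, e3 q18096 (flp_d L223603) q18471, e3 q18097 L229788 q18770, e3 q18098 L220404 q15844, e3 q18099 L220410 q14311, e3 q18100 L220416 q14310, e3 q18101 (flp_d L244283) q20921, e3 q18102 (flp_d L229794) q18771, e3 q18103 L244297 q20923, e3 q18104 (flp_d L244275) q20920, e3 q18105 L220432 q14709, e3 q18106 (flp_d L220442) q14314, e3 q18107 L220446 q14316, e3 q18108 (flp_d L244339)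 q20930, e3 q18109 L220460 q14318, e3 q18110 L236767 q20099, e3 q18111 L220472 q14320, trivial⟩ (by decide +kernel)

theorem ce_d_283 : ∀ r, r < 64 → sm gd (Qf (18112 + r)) = Qf (tab Gen.d (18112 + r)) :=
  edges_tab (sm gd) Qf (tab Gen.d) 18112 [(18112, 20932), (18113, 16667), (18114, 14321), (18115, 16596), (18116, 18029), (18117, 14324), (18118, 20881), (18119, 14326), (18120, 14327), (18121, 20868), (18122, 14382), (18123, 17859), (18124, 17854), (18125, 17865), (18126, 18042), (18127, 20597), (18128, 14336), (18129, 20870), (18130, 14339), (18131, 20057), (18132, 18049), (18133, 14342), (18134, 19851), (18135, 20830), (18136, 14343), (18137, 20938), (18138, 14722), (18139, 14347), (18140, 14348), (18141, 14349), (18142, 14351), (18143, 20829), (18144, 20842), (18145, 14727), (18146, 14356), (18147, 18727), (18148, 18506), (18149, 14362), (18150, 18499), (18151, 18821), (18152, 15610), (18153, 14366), (18154, 14365), (18155, 20950), (18156, 18822), (18157, 20952), (18158, 20949), (18159, 14728), (18160, 14369),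 (18161, 14371), (18162, 20959), (18163, 14373), (18164, 20091), (18165, 14375), (18166, 20961), (18167, 16649), (18168, 14376), (18169, 16561), (18170, 18058), (18171, 14379), (18172, 20905), (18173, 14381), (18174, 20892), (18175, 17871)]
    ⟨e3 q18112 (flp_d L244351) q20932, e3 q18113 L220494 q16667, e3 q18114 (flp_d L220500) q14321, e3 q18115 L220514 q16596, e3 q18116 (flp_d L220530) q18029, e3 q18117 (flp_d L220532) q14324, e3 q18118 (flp_d L243917) q20881, e3 q18119 L220550 q14326, e3 q18120 (flp_d L220560) q14327, e3 q18121 (flp_d L243767) q20868, e3 q18122 L220578 q14382, e3 q18123 L220582 q17859, e3 q18124 L220594 q17854, e3 q18125 L220604 q17865, e3 q18126 L220622 q18042, e3 q18127 (flp_d L241140) q20597, e3 q18128 L220644 q14336, e3 q18129 (flp_d L243791) q20870, e3 q18130 L220662 q14339, e3 q18131 (flp_d L236394) q20057, e3 q18132 (flp_d L220680) q18049, e3 q18133 L220686 q14342, e3 q18134 (flp_d L234587) q19851, e3 q18135 (flp_d L243429) q20830, e3 q18136 (flp_d L220710) q14343, e3 q18137 (flp_d L244413)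 q20938, e3 q18138 L220726 q14722, e3 q18139 L220734 q14347, e3 q18140 L220740 q14348, e3 q18141 L220750 q14349, e3 q18142 L220760 q14351, e3 q18143 (flp_d L243415) q20829, e3 q18144 (flp_d L243535) q20842, e3 q18145 L220782 q14727, e3 q18146 L220792 q14356, e3 q18147 (flp_d L225693) q18727, e3 q18148 (flp_d L223941) q18506, e3 q18149 L220814 q14362, e3 q18150 (flp_d L223885) q18499, e3 q18151 L226243 q18821, e3 q18152 L220834 q15610, e3 q18153 L220840 q14366, e3 q18154 L220846 q14365, e3 q18155 (flp_d L244497) q20950, e3 q18156 (flp_d L226241) q18822, e3 q18157 L244511 q20952, e3 q18158 (flp_d L244489) q20949, e3 q18159 L220862 q14728, e3 q18160 (flp_d L220872) q14369, e3 q18161 L220876 q14371, e3 q18162 (flp_d L244553) q20959, e3 q18163 L220890 q14373, e3 q18164 L236685 q20091, e3 q18165 L220902 q14375, e3 q18166 (flp_d L244565) q20961, e3 q18167 L220924 q16649, e3 q18168 (flp_d L220930) q14376, e3 q18169 L220944 q16561, e3 q18170 (flp_d L220960) q18058, e3 q18171 (flp_d L220962) q14379, e3 q18172 (flp_d L244161)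 q20905, e3 q18173 L220980 q14381, e3 q18174 (flp_d L244011) q20892, e3 q18175 L220996 q17871, trivial⟩ (by decide +kernel)

theorem ce_d_284 : ∀ r, r < 64 → sm gd (Qf (18176 + r)) = Qf (tab Gen.d (18176 + r)) :=
  edges_tab (sm gd) Qf (tab Gen.d) 18176 [(18176, 17866), (18177, 17877), (18178, 18071), (18179, 20595), (18180, 14391), (18181, 20894), (18182, 14394), (18183, 20037), (18184, 20966), (18185, 14397), (18186, 15338), (18187, 17665), (18188, 18235), (18189, 14402), (18190, 18240), (18191, 18238), (18192, 18239), (18193, 14406), (18194, 20975), (18195, 18243), (18196, 19998), (18197, 18245), (18198, 17971), (18199, 15350), (18200, 14409), (18201, 16130), (18202, 14412), (18203, 14413), (18204, 20986), (18205, 20255), (18206, 20254), (18207, 20256), (18208, 16928), (18209, 20992), (18210, 14419), (18211, 15442), (18212, 17734), (18213, 18294), (18214, 14424), (18215, 18298), (18216, 18297), (18217, 18299), (18218, 14428), (18219, 21001), (18220, 18302), (18221, 19939), (18222, 18304), (18223, 17968), (18224,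 15454), (18225, 14431), (18226, 16052), (18227, 14434), (18228, 14435), (18229, 21012), (18230, 20243), (18231, 20242), (18232, 20244), (18233, 16916), (18234, 14440), (18235, 18188), (18236, 14442), (18237, 21018), (18238, 18191), (18239, 18192)]
    ⟨e3 q18176 L221008 q17866, e3 q18177 L221018 q17877, e3 q18178 L221036 q18071, e3 q18179 (flp_d L241118) q20595, e3 q18180 L221058 q14391, e3 q18181 (flp_d L244035) q20894, e3 q18182 L221076 q14394, e3 q18183 (flp_d L236255) q20037, e3 q18184 L244611 q20966, e3 q18185 (flp_d L221094) q14397, e3 q18186 L221104 q15338, e3 q18187 L221108 q17665, e3 q18188 (flp_d L221436) q18235, e3 q18189 (flp_d L221119) q14402, e3 q18190 (flp_d L221476) q18240, e3 q18191 (flp_d L221460) q18238, e3 q18192 (flp_d L221466) q18239, e3 q18193 L221153 q14406, e3 q18194 (flp_d L244670) q20975, e3 q18195 (flp_d L221496) q18243, e3 q18196 L235948 q19998, e3 q18197 (flp_d L221504) q18245, e3 q18198 L225729 q17971, e3 q18199 L221178 q15350, e3 q18200 (flp_d L221184) q14409, e3 q18201 L222216 q16130,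 e3 q18202 L221199 q14412, e3 q18203 L221209 q14413, e3 q18204 L244746 q20986, e3 q18205 (flp_d L238113) q20255, e3 q18206 (flp_d L238099) q20254, e3 q18207 (flp_d L238119) q20256, e3 q18208 L221249 q16928, e3 q18209 L244796 q20992, e3 q18210 (flp_d L221263) q14419, e3 q18211 L221273 q15442, e3 q18212 L221277 q17734, e3 q18213 (flp_d L221892) q18294, e3 q18214 (flp_d L221288) q14424, e3 q18215 (flp_d L221922) q18298, e3 q18216 (flp_d L221914) q18297, e3 q18217 (flp_d L221932) q18299, e3 q18218 L221322 q14428, e3 q18219 (flp_d L244855) q21001, e3 q18220 (flp_d L221952) q18302, e3 q18221 L235390 q19939, e3 q18222 (flp_d L221960) q18304, e3 q18223 L227440 q17968, e3 q18224 L221347 q15454, e3 q18225 (flp_d L221353) q14431, e3 q18226 (flp_d L227421) q16052, e3 q18227 L221368 q14434, e3 q18228 L221378 q14435, e3 q18229 L244931 q21012, e3 q18230 (flp_d L238033) q20243, e3 q18231 (flp_d L238025) q20242, e3 q18232 (flp_d L238039) q20244, e3 q18233 L221418 q16916, e3 q18234 L221428 q14440, e3 q18235 L221436 q18188, e3 q18236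 (flp_d L221438) q14442, e3 q18237 (flp_d L244991) q21018, e3 q18238 L221460 q18191, e3 q18239 L221466 q18192, trivial⟩ (by decide +kernel)

theorem ce_d_285 : ∀ r, r < 64 → sm gd (Qf (18240 + r)) = Qf (tab Gen.d (18240 + r)) :=
  edges_tab (sm gd) Qf (tab Gen.d) 18240 [(18240, 18190), (18241, 14446), (18242, 21020), (18243, 18195), (18244, 19992), (18245, 18197), (18246, 14740), (18247, 14742), (18248, 14452), (18249, 17306), (18250, 14453), (18251, 14763), (18252, 14454), (18253, 14456), (18254, 21029), (18255, 14462), (18256, 20694), (18257, 14547), (18258, 14460), (18259, 14461), (18260, 21032), (18261, 21038), (18262, 21034), (18263, 20317), (18264, 20969), (18265, 20872), (18266, 14463), (18267, 15389), (18268, 20873), (18269, 14748), (18270, 21046), (18271, 14466), (18272, 14750), (18273, 14476), (18274, 21051), (18275, 14477), (18276, 15359), (18277, 14469), (18278, 14627), (18279, 21048), (18280, 14471), (18281, 15390), (18282, 14478), (18283, 17155), (18284, 14480), (18285, 14481), (18286, 14483), (18287,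 14801), (18288, 14485), (18289, 16765), (18290, 16766), (18291, 16767), (18292, 21055), (18293, 14489), (18294, 18213), (18295, 14491), (18296, 21057), (18297, 18216), (18298, 18215), (18299, 18217), (18300, 14495), (18301, 21059), (18302, 18220), (18303, 19933)]
    ⟨e3 q18240 L221476 q18190, e3 q18241 L221484 q14446, e3 q18242 (flp_d L245003) q21020, e3 q18243 L221496 q18195, e3 q18244 (flp_d L235892) q19992, e3 q18245 L221504 q18197, e3 q18246 L221510 q14740, e3 q18247 L221520 q14742, e3 q18248 L221530 q14452, e3 q18249 L221538 q17306, e3 q18250 L221546 q14453, e3 q18251 L221554 q14763, e3 q18252 (flp_d L221562) q14454, e3 q18253 L221580 q14456, e3 q18254 (flp_d L245089) q21029, e3 q18255 L221596 q14462, e3 q18256 (flp_d L242028) q20694, e3 q18257 L221610 q14547, e3 q18258 L221618 q14460, e3 q18259 L221626 q14461, e3 q18260 (flp_d L245125) q21032, e3 q18261 L245165 q21038, e3 q18262 (flp_d L245131) q21034, e3 q18263 (flp_d L238607) q20317, e3 q18264 (flp_d L244633) q20969, e3 q18265 (flp_d L243815) q20872, e3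 q18266 (flp_d L221660) q14463, e3 q18267 (flp_d L221668) q15389, e3 q18268 (flp_d L243827) q20873, e3 q18269 L221696 q14748, e3 q18270 L245217 q21046, e3 q18271 (flp_d L221710) q14466, e3 q18272 L221716 q14750, e3 q18273 L221724 q14476, e3 q18274 L245255 q21051, e3 q18275 L221730 q14477, e3 q18276 L222212 q15359, e3 q18277 (flp_d L221738) q14469, e3 q18278 L221752 q14627, e3 q18279 (flp_d L245243) q21048, e3 q18280 L221760 q14471, e3 q18281 L221766 q15390, e3 q18282 L221772 q14478, e3 q18283 L221782 q17155, e3 q18284 L221790 q14480, e3 q18285 L221798 q14481, e3 q18286 L221812 q14483, e3 q18287 L221822 q14801, e3 q18288 L221828 q14485, e3 q18289 L221836 q16765, e3 q18290 L221848 q16766, e3 q18291 L221860 q16767, e3 q18292 (flp_d L245291) q21055, e3 q18293 L221882 q14489, e3 q18294 L221892 q18213, e3 q18295 (flp_d L221894) q14491, e3 q18296 (flp_d L245315) q21057, e3 q18297 L221914 q18216, e3 q18298 L221922 q18215, e3 q18299 L221932 q18217, e3 q18300 L221940 q14495, e3 q18301 (flp_d L245327) q21059, e3 q18302 L221952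 q18220, e3 q18303 (flp_d L235334) q19933, trivial⟩ (by decide +kernel)

theorem ce_d_286 : ∀ r, r < 64 → sm gd (Qf (18304 + r)) = Qf (tab Gen.d (18304 + r)) :=
  edges_tab (sm gd) Qf (tab Gen.d) 18304 [(18304, 18222), (18305, 14761), (18306, 14501), (18307, 17230), (18308, 14502), (18309, 14503), (18310, 14505), (18311, 21066), (18312, 14511), (18313, 20729), (18314, 14599), (18315, 14509), (18316, 14510), (18317, 21069), (18318, 21075), (18319, 21071), (18320, 20297), (18321, 20995), (18322, 20896), (18323, 14512), (18324, 15493), (18325, 20897), (18326, 14769), (18327, 21047), (18328, 14515), (18329, 14771), (18330, 14525), (18331, 21086), (18332, 14526), (18333, 15463), (18334, 14518), (18335, 14577), (18336, 21083), (18337, 14520), (18338, 15494), (18339, 14527), (18340, 17068), (18341, 14529), (18342, 14530), (18343, 14532), (18344, 14833), (18345, 14534), (18346, 16757), (18347, 16758), (18348, 16759), (18349, 21090), (18350, 14538), (18351, 16896), (18352, 14542), (18353, 14543), (18354, 14541), (18355, 18366),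 (18356, 21093), (18357, 14782), (18358, 14548), (18359, 21101), (18360, 21099), (18361, 14553), (18362, 14554), (18363, 14555), (18364, 14552), (18365, 21106), (18366, 18355), (18367, 21102)]
    ⟨e3 q18304 L221960 q18222, e3 q18305 L221968 q14761, e3 q18306 L221976 q14501, e3 q18307 L221986 q17230, e3 q18308 L221994 q14502, e3 q18309 (flp_d L221998) q14503, e3 q18310 L222016 q14505, e3 q18311 (flp_d L245389) q21066, e3 q18312 L222032 q14511, e3 q18313 (flp_d L242374) q20729, e3 q18314 L222046 q14599, e3 q18315 L222054 q14509, e3 q18316 L222062 q14510, e3 q18317 (flp_d L245431) q21069, e3 q18318 L245481 q21075, e3 q18319 (flp_d L245447) q21071, e3 q18320 (flp_d L238451) q20297, e3 q18321 (flp_d L244818) q20995, e3 q18322 (flp_d L244059) q20896, e3 q18323 (flp_d L222104) q14512, e3 q18324 (flp_d L222112) q15493, e3 q18325 (flp_d L244071) q20897, e3 q18326 L222126 q14769, e3 q18327 (flp_d L245235) q21047, e3 q18328 (flp_d L222140) q14515, e3 q18329 L222150 q14771, e3 q18330 L222158 q14525, e3 q18331 L245551 q21086,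 e3 q18332 L222164 q14526, e3 q18333 (flp_d L227409) q15463, e3 q18334 (flp_d L222172) q14518, e3 q18335 L222186 q14577, e3 q18336 (flp_d L245539) q21083, e3 q18337 L222198 q14520, e3 q18338 L222239 q15494, e3 q18339 L222245 q14527, e3 q18340 L222263 q17068, e3 q18341 L222271 q14529, e3 q18342 L222279 q14530, e3 q18343 L222293 q14532, e3 q18344 L222305 q14833, e3 q18345 L222313 q14534, e3 q18346 L222321 q16757, e3 q18347 L222333 q16758, e3 q18348 L222345 q16759, e3 q18349 (flp_d L245587) q21090, e3 q18350 L222363 q14538, e3 q18351 L222373 q16896, e3 q18352 (flp_d L222385) q14542, e3 q18353 L222395 q14543, e3 q18354 (flp_d L222397) q14541, e3 q18355 (flp_d L222495) q18366, e3 q18356 (flp_d L245619) q21093, e3 q18357 L222421 q14782, e3 q18358 L222431 q14548, e3 q18359 L245681 q21101, e3 q18360 (flp_d L245649) q21099, e3 q18361 L222453 q14553, e3 q18362 L222461 q14554, e3 q18363 L222469 q14555, e3 q18364 L222479 q14552, e3 q18365 (flp_d L245721) q21106, e3 q18366 L222495 q18355, e3 q18367 (flp_d L245695) q21102, trivial⟩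 (by decide +kernel)

theorem ce_d_287 : ∀ r, r < 64 → sm gd (Qf (18368 + r)) = Qf (tab Gen.d (18368 + r)) :=
  edges_tab (sm gd) Qf (tab Gen.d) 18368 [(18368, 21103), (18369, 21104), (18370, 21105), (18371, 14785), (18372, 14788), (18373, 14560), (18374, 19089), (18375, 14562), (18376, 20139), (18377, 14563), (18378, 21122), (18379, 19744), (18380, 19746), (18381, 16559), (18382, 19755), (18383, 19684), (18384, 14806), (18385, 19120), (18386, 14568), (18387, 18453), (18388, 14579), (18389, 14570), (18390, 18717), (18391, 18449), (18392, 14809), (18393, 18921), (18394, 18922), (18395, 18923), (18396, 14584), (18397, 21133), (18398, 14575), (18399, 20287), (18400, 21135), (18401, 20289), (18402, 14626), (18403, 20309), (18404, 21127), (18405, 14582), (18406, 19122), (18407, 14585), (18408, 21144), (18409, 14587), (18410, 20155), (18411, 16723), (18412, 14589), (18413, 16907), (18414, 14594), (18415, 14593), (18416, 14592), (18417, 18428), (18418, 21148), (18419, 14816), (18420, 14598), (18421, 21154), (18422, 21152),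 (18423, 14606), (18424, 14604), (18425, 14605), (18426, 14603), (18427, 21159), (18428, 18417), (18429, 21156), (18430, 21157), (18431, 21158)]
    ⟨e3 q18368 (flp_d L245701) q21103, e3 q18369 (flp_d L246487) q21104, e3 q18370 (flp_d L245715) q21105, e3 q18371 L222511 q14785, e3 q18372 L222910 q14788, e3 q18373 L222916 q14560, e3 q18374 (flp_d L228121) q19089, e3 q18375 L222930 q14562, e3 q18376 (flp_d L237173) q20139, e3 q18377 L222942 q14563, e3 q18378 (flp_d L245837) q21122, e3 q18379 (flp_d L233695) q19744, e3 q18380 (flp_d L233713) q19746, e3 q18381 L222986 q16559, e3 q18382 (flp_d L233803) q19755, e3 q18383 (flp_d L233225) q19684, e3 q18384 L223010 q14806, e3 q18385 L228323 q19120, e3 q18386 (flp_d L223018) q14568, e3 q18387 (flp_d L223483) q18453, e3 q18388 L223028 q14579, e3 q18389 L223034 q14570, e3 q18390 L225645 q18717, e3 q18391 (flp_d L223453) q18449, e3 q18392 L223054 q14809, e3 q18393 (flp_d L226924) q18921, e3 q18394 (flp_d L226934) q18922, e3 q18395 (flp_d L226948) q18923, e3 q18396 L223082 q14584,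 e3 q18397 L245915 q21133, e3 q18398 (flp_d L223088) q14575, e3 q18399 (flp_d L238370) q20287, e3 q18400 (flp_d L245930) q21135, e3 q18401 (flp_d L238384) q20289, e3 q18402 L223104 q14626, e3 q18403 (flp_d L238540) q20309, e3 q18404 (flp_d L245875) q21127, e3 q18405 L223124 q14582, e3 q18406 (flp_d L228341) q19122, e3 q18407 L223137 q14585, e3 q18408 L246002 q21144, e3 q18409 L223151 q14587, e3 q18410 L237305 q20155, e3 q18411 L223169 q16723, e3 q18412 L223177 q14589, e3 q18413 L223187 q16907, e3 q18414 (flp_d L223199) q14594, e3 q18415 L223209 q14593, e3 q18416 (flp_d L223211) q14592, e3 q18417 (flp_d L223309) q18428, e3 q18418 (flp_d L246042) q21148, e3 q18419 L223235 q14816, e3 q18420 L223245 q14598, e3 q18421 L246086 q21154, e3 q18422 (flp_d L246064) q21152, e3 q18423 L223267 q14606, e3 q18424 L223275 q14604, e3 q18425 L223283 q14605, e3 q18426 L223293 q14603, e3 q18427 (flp_d L246126) q21159, e3 q18428 L223309 q18417, e3 q18429 (flp_d L246106) q21156, e3 q18430 (flp_d L246651) q21157, e3 q18431 (flp_d L246120)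 q21158, trivial⟩ (by decide +kernel)

theorem ce_d_288 : ∀ r, r < 64 → sm gd (Qf (18432 + r)) = Qf (tab Gen.d (18432 + r)) :=
  edges_tab (sm gd) Qf (tab Gen.d) 18432 [(18432, 21155), (18433, 14821), (18434, 14822), (18435, 14612), (18436, 20143), (18437, 14613), (18438, 14614), (18439, 19223), (18440, 21175), (18441, 19839), (18442, 19840), (18443, 16594), (18444, 19852), (18445, 19778), (18446, 14838), (18447, 18981), (18448, 14619), (18449, 18391), (18450, 14628), (18451, 14621), (18452, 18728), (18453, 18387), (18454, 14807), (18455, 18866), (18456, 18867), (18457, 18868), (18458, 14633), (18459, 21138), (18460, 21139), (18461, 20307), (18462, 21180), (18463, 14631), (18464, 18983), (18465, 14634), (18466, 21193), (18467, 14636), (18468, 20160), (18469, 16717), (18470, 15153), (18471, 18096), (18472, 19301), (18473, 20861), (18474, 14645), (18475, 18819), (18476, 14646), (18477, 21199), (18478, 18094), (18479, 14654), (18480, 14655), (18481, 14656), (18482, 14651), (18483, 14652), (18484, 20916), (18485, 21204),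 (18486, 20624), (18487, 19100), (18488, 20883), (18489, 21202), (18490, 21203), (18491, 16325), (18492, 14661), (18493, 14662), (18494, 14663), (18495, 21213)]
    ⟨e3 q18432 (flp_d L246100) q21155, e3 q18433 L223325 q14821, e3 q18434 L223331 q14822, e3 q18435 L223343 q14612, e3 q18436 (flp_d L237207) q20143, e3 q18437 L223355 q14613, e3 q18438 L223361 q14614, e3 q18439 (flp_d L229096) q19223, e3 q18440 (flp_d L246248) q21175, e3 q18441 (flp_d L234469) q19839, e3 q18442 (flp_d L234479) q19840, e3 q18443 L223413 q16594, e3 q18444 (flp_d L234599) q19852, e3 q18445 (flp_d L233973) q19778, e3 q18446 L223437 q14838, e3 q18447 (flp_d L227383) q18981, e3 q18448 (flp_d L223445) q14619, e3 q18449 L223453 q18391, e3 q18450 L223459 q14628, e3 q18451 L223467 q14621, e3 q18452 L225705 q18728, e3 q18453 L223483 q18387, e3 q18454 L223491 q14807, e3 q18455 (flp_d L226513) q18866, e3 q18456 (flp_d L226523) q18867, e3 q18457 (flp_d L226531) q18868, e3 q18458 L223519 q14633, e3 q18459 (flp_d L245948) q21138, e3 q18460 (flp_d L245958)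 q21139, e3 q18461 (flp_d L238526) q20307, e3 q18462 (flp_d L246298) q21180, e3 q18463 L223539 q14631, e3 q18464 (flp_d L227401) q18983, e3 q18465 L223547 q14634, e3 q18466 L246401 q21193, e3 q18467 L223561 q14636, e3 q18468 L237346 q20160, e3 q18469 L223579 q16717, e3 q18470 L223591 q15153, e3 q18471 L223603 q18096, e3 q18472 (flp_d L229774) q19301, e3 q18473 (flp_d L243711) q20861, e3 q18474 L223619 q14645, e3 q18475 (flp_d L226221) q18819, e3 q18476 L223637 q14646, e3 q18477 (flp_d L246457) q21199, e3 q18478 L223659 q18094, e3 q18479 L223669 q14654, e3 q18480 L223677 q14655, e3 q18481 L223687 q14656, e3 q18482 L223701 q14651, e3 q18483 L223709 q14652, e3 q18484 (flp_d L244253) q20916, e3 q18485 (flp_d L246509) q21204, e3 q18486 (flp_d L241414) q20624, e3 q18487 L228196 q19100, e3 q18488 (flp_d L243933) q20883, e3 q18489 (flp_d L246497) q21202, e3 q18490 (flp_d L246501) q21203, e3 q18491 L223755 q16325, e3 q18492 L223769 q14661, e3 q18493 L223777 q14662, e3 q18494 L223783 q14663, e3 q18495 L246565 q21213, trivial⟩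 (by decide +kernel)

theorem ce_d_289 : ∀ r, r < 64 → sm gd (Qf (18496 + r)) = Qf (tab Gen.d (18496 + r)) :=
  edges_tab (sm gd) Qf (tab Gen.d) 18496 [(18496, 14665), (18497, 14664), (18498, 15187), (18499, 18150), (18500, 19529), (18501, 14674), (18502, 18768), (18503, 14675), (18504, 20886), (18505, 21219), (18506, 18148), (18507, 14682), (18508, 14683), (18509, 14685), (18510, 14681), (18511, 14680), (18512, 21224), (18513, 20651), (18514, 20945), (18515, 20907), (18516, 21222), (18517, 21223), (18518, 18959), (18519, 16469), (18520, 14690), (18521, 21233), (18522, 14692), (18523, 14693), (18524, 14694), (18525, 14691), (18526, 20823), (18527, 20824), (18528, 20912), (18529, 17851), (18530, 20941), (18531, 17853), (18532, 15918), (18533, 21026), (18534, 14936), (18535, 14747), (18536, 15688), (18537, 21028), (18538, 14985), (18539, 14768), (18540, 21119), (18541, 20673), (18542, 20453), (18543, 19743), (18544, 14805), (18545, 20674), (18546, 20120), (18547, 14808), (18548, 14812), (18549, 21172), (18550, 20511),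 (18551, 19836), (18552, 14837), (18553, 20127), (18554, 14839), (18555, 14840), (18556, 21239), (18557, 17847), (18558, 14852), (18559, 19585)]
    ⟨e3 q18496 L223853 q14665, e3 q18497 (flp_d L223857) q14664, e3 q18498 L223873 q15187, e3 q18499 L223885 q18150, e3 q18500 (flp_d L231878) q19529, e3 q18501 L223893 q14674, e3 q18502 (flp_d L225949) q18768, e3 q18503 L223911 q14675, e3 q18504 (flp_d L243963) q20886, e3 q18505 (flp_d L246623) q21219, e3 q18506 L223941 q18148, e3 q18507 L223949 q14682, e3 q18508 L223957 q14683, e3 q18509 L223969 q14685, e3 q18510 L223983 q14681, e3 q18511 L223991 q14680, e3 q18512 (flp_d L246675) q21224, e3 q18513 (flp_d L241648) q20651, e3 q18514 (flp_d L244467) q20945, e3 q18515 (flp_d L244177) q20907, e3 q18516 (flp_d L246663) q21222, e3 q18517 (flp_d L246667) q21223, e3 q18518 L227240 q18959, e3 q18519 L224037 q16469, e3 q18520 L224049 q14690, e3 q18521 L246731 q21233, e3 q18522 L224069 q14692, e3 q18523 L224077 q14693, e3 q18524 L224085 q14694, e3 q18525 (flp_d L224089) q14691, e3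 q18526 (flp_d L243341) q20823, e3 q18527 (flp_d L243355) q20824, e3 q18528 (flp_d L244217) q20912, e3 q18529 L224131 q17851, e3 q18530 (flp_d L244431) q20941, e3 q18531 L224149 q17853, e3 q18532 L224163 q15918, e3 q18533 (flp_d L245063) q21026, e3 q18534 L224179 q14936, e3 q18535 L224195 q14747, e3 q18536 L224209 q15688, e3 q18537 (flp_d L245081) q21028, e3 q18538 L224225 q14985, e3 q18539 L224241 q14768, e3 q18540 (flp_d L245807) q21119, e3 q18541 (flp_d L241836) q20673, e3 q18542 (flp_d L239891) q20453, e3 q18543 (flp_d L233687) q19743, e3 q18544 (flp_d L224291) q14805, e3 q18545 (flp_d L241848) q20674, e3 q18546 (flp_d L236979) q20120, e3 q18547 (flp_d L224309) q14808, e3 q18548 (flp_d L224319) q14812, e3 q18549 (flp_d L246218) q21172, e3 q18550 (flp_d L240375) q20511, e3 q18551 (flp_d L234443) q19836, e3 q18552 (flp_d L224359) q14837, e3 q18553 (flp_d L237049) q20127, e3 q18554 (flp_d L224365) q14839, e3 q18555 (flp_d L224375) q14840, e3 q18556 L246785 q21239, e3 q18557 L224397 q17847, e3 q18558 (flp_d L224409)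 q14852, e3 q18559 (flp_d L232378) q19585, trivial⟩ (by decide +kernel)

theorem ce_d_290 : ∀ r, r < 64 → sm gd (Qf (18560 + r)) = Qf (tab Gen.d (18560 + r)) :=
  edges_tab (sm gd) Qf (tab Gen.d) 18560 [(18560, 21241), (18561, 14859), (18562, 21243), (18563, 21244), (18564, 21245), (18565, 21246), (18566, 14868), (18567, 21248), (18568, 17606), (18569, 21249), (18570, 21250), (18571, 17837), (18572, 14884), (18573, 19370), (18574, 21252), (18575, 14890), (18576, 21254), (18577, 21255), (18578, 21256), (18579, 14897), (18580, 21258), (18581, 17578), (18582, 19890), (18583, 18895), (18584, 16846), (18585, 16355), (18586, 16356), (18587, 16496), (18588, 19989), (18589, 14933), (18590, 20592), (18591, 16678), (18592, 14947), (18593, 19891), (18594, 18949), (18595, 16844), (18596, 16495), (18597, 19929), (18598, 14980), (18599, 20588), (18600, 16660), (18601, 14995), (18602, 20022), (18603, 17923), (18604, 15001), (18605, 17901), (18606, 15006), (18607, 21262), (18608, 20042), (18609, 15014), (18610, 15018), (18611, 21264),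 (18612, 15845), (18613, 15026), (18614, 15611), (18615, 15030), (18616, 15033), (18617, 15034), (18618, 19424), (18619, 16264), (18620, 15114), (18621, 20825), (18622, 15039), (18623, 21266)]
    ⟨e3 q18560 L246809 q21241, e3 q18561 (flp_d L224433) q14859, e3 q18562 L246823 q21243, e3 q18563 L246831 q21244, e3 q18564 L246841 q21245, e3 q18565 L246853 q21246, e3 q18566 (flp_d L224473) q14868, e3 q18567 (flp_d L246877) q21248, e3 q18568 L224487 q17606, e3 q18569 L246881 q21249, e3 q18570 L246893 q21250, e3 q18571 L224519 q17837, e3 q18572 (flp_d L224531) q14884, e3 q18573 (flp_d L230364) q19370, e3 q18574 L246917 q21252, e3 q18575 (flp_d L224555) q14890, e3 q18576 L246931 q21254, e3 q18577 L246939 q21255, e3 q18578 L246949 q21256, e3 q18579 (flp_d L224585) q14897, e3 q18580 (flp_d L246973) q21258, e3 q18581 L224599 q17578, e3 q18582 (flp_d L234901) q19890, e3 q18583 L226735 q18895, e3 q18584 L224629 q16846, e3 q18585 L224637 q16355, e3 q18586 L224654 q16356, e3 q18587 L224664 q16496, e3 q18588 (flp_d L235854) q19989,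 e3 q18589 L224686 q14933, e3 q18590 (flp_d L241084) q20592, e3 q18591 L224696 q16678, e3 q18592 L224700 q14947, e3 q18593 (flp_d L234913) q19891, e3 q18594 L227167 q18949, e3 q18595 L224733 q16844, e3 q18596 L224741 q16495, e3 q18597 (flp_d L235282) q19929, e3 q18598 L224762 q14980, e3 q18599 (flp_d L241052) q20588, e3 q18600 L224774 q16660, e3 q18601 L224778 q14995, e3 q18602 (flp_d L236159) q20022, e3 q18603 (flp_d L224807) q17923, e3 q18604 (flp_d L224811) q15001, e3 q18605 L224829 q17901, e3 q18606 (flp_d L224837) q15006, e3 q18607 (flp_d L247021) q21262, e3 q18608 (flp_d L236298) q20042, e3 q18609 (flp_d L224859) q15014, e3 q18610 (flp_d L224871) q15018, e3 q18611 (flp_d L247043) q21264, e3 q18612 L224883 q15845, e3 q18613 L224891 q15026, e3 q18614 L224903 q15611, e3 q18615 L224911 q15030, e3 q18616 (flp_d L224921) q15033, e3 q18617 (flp_d L224927) q15034, e3 q18618 (flp_d L230990) q19424, e3 q18619 L224947 q16264, e3 q18620 L224963 q15114, e3 q18621 (flp_d L243367) q20825, e3 q18622 L224979 q15039, e3 q18623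 (flp_d L247055) q21266, trivial⟩ (by decide +kernel)

theorem ce_d_291 : ∀ r, r < 64 → sm gd (Qf (18624 + r)) = Qf (tab Gen.d (18624 + r)) :=
  edges_tab (sm gd) Qf (tab Gen.d) 18624 [(18624, 21269), (18625, 21268), (18626, 15040), (18627, 18978), (18628, 15041), (18629, 15043), (18630, 20898), (18631, 15045), (18632, 15046), (18633, 19292), (18634, 16421), (18635, 15126), (18636, 20826), (18637, 15051), (18638, 21275), (18639, 21278), (18640, 21277), (18641, 15052), (18642, 19117), (18643, 15053), (18644, 15055), (18645, 20874), (18646, 15107), (18647, 16188), (18648, 20901), (18649, 21285), (18650, 19201), (18651, 16190), (18652, 15097), (18653, 16191), (18654, 20877), (18655, 21290), (18656, 19064), (18657, 16193), (18658, 15071), (18659, 21294), (18660, 15074), (18661, 21296), (18662, 19125), (18663, 15072), (18664, 18986), (18665, 15075), (18666, 20621), (18667, 18725), (18668, 19510), (18669, 15082), (18670, 20461), (18671, 20648), (18672, 18736), (18673, 19278), (18674, 15087), (18675, 20519), (18676, 20837),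 (18677, 15090), (18678, 19849), (18679, 21302), (18680, 18698), (18681, 19513), (18682, 15095), (18683, 19961), (18684, 15096), (18685, 21307), (18686, 15739), (18687, 20841)]
    ⟨e3 q18624 L247065 q21269, e3 q18625 (flp_d L247061) q21268, e3 q18626 (flp_d L224993) q15040, e3 q18627 (flp_d L227346) q18978, e3 q18628 (flp_d L225003) q15041, e3 q18629 L225017 q15043, e3 q18630 (flp_d L244083) q20898, e3 q18631 (flp_d L225029) q15045, e3 q18632 (flp_d L225035) q15046, e3 q18633 (flp_d L229702) q19292, e3 q18634 L225055 q16421, e3 q18635 L225071 q15126, e3 q18636 (flp_d L243377) q20826, e3 q18637 L225087 q15051, e3 q18638 (flp_d L247122) q21275, e3 q18639 L247132 q21278, e3 q18640 (flp_d L247128) q21277, e3 q18641 (flp_d L225101) q15052, e3 q18642 (flp_d L228288) q19117, e3 q18643 (flp_d L225111) q15053, e3 q18644 L225125 q15055, e3 q18645 (flp_d L243839) q20874, e3 q18646 L225145 q15107, e3 q18647 L225157 q16188, e3 q18648 (flp_d L244117) q20901, e3 q18649 L247191 q21285, e3 q18650 (flp_d L228920) q19201, e3 q18651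 L225175 q16190, e3 q18652 L225187 q15097, e3 q18653 L225199 q16191, e3 q18654 (flp_d L243873) q20877, e3 q18655 L247225 q21290, e3 q18656 (flp_d L227963) q19064, e3 q18657 L225217 q16193, e3 q18658 L225223 q15071, e3 q18659 L247255 q21294, e3 q18660 L225236 q15074, e3 q18661 L247269 q21296, e3 q18662 (flp_d L228373) q19125, e3 q18663 (flp_d L225252) q15072, e3 q18664 (flp_d L227468) q18986, e3 q18665 (flp_d L225260) q15075, e3 q18666 (flp_d L241376) q20621, e3 q18667 (flp_d L225667) q18725, e3 q18668 L231712 q19510, e3 q18669 L225279 q15082, e3 q18670 (flp_d L239969) q20461, e3 q18671 (flp_d L241610) q20648, e3 q18672 (flp_d L225767) q18736, e3 q18673 L229576 q19278, e3 q18674 L225307 q15087, e3 q18675 (flp_d L240455) q20519, e3 q18676 (flp_d L243489) q20837, e3 q18677 L225333 q15090, e3 q18678 (flp_d L234575) q19849, e3 q18679 (flp_d L247327) q21302, e3 q18680 (flp_d L225431) q18698, e3 q18681 (flp_d L231748) q19513, e3 q18682 L225355 q15095, e3 q18683 L235591 q19961, e3 q18684 L225361 q15096, e3 q18685 (flp_d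 L247377) q21307, e3 q18686 L225369 q15739, e3 q18687 (flp_d L243523) q20841, trivial⟩ (by decide +kernel)

theorem ce_d_292 : ∀ r, r < 64 → sm gd (Qf (18688 + r)) = Qf (tab Gen.d (18688 + r)) :=
  edges_tab (sm gd) Qf (tab Gen.d) 18688 [(18688, 15100), (18689, 19757), (18690, 21313), (18691, 18705), (18692, 19281), (18693, 15105), (18694, 19953), (18695, 15106), (18696, 21318), (18697, 15964), (18698, 18680), (18699, 21323), (18700, 15110), (18701, 15113), (18702, 21325), (18703, 21326), (18704, 15117), (18705, 18691), (18706, 21328), (18707, 15122), (18708, 15125), (18709, 21330), (18710, 21331), (18711, 15129), (18712, 15135), (18713, 21334), (18714, 15142), (18715, 21336), (18716, 18093), (18717, 18390), (18718, 16050), (18719, 15136), (18720, 17104), (18721, 15137), (18722, 20027), (18723, 21340), (18724, 20853), (18725, 18667), (18726, 21344), (18727, 18147), (18728, 18452), (18729, 16127), (18730, 15143), (18731, 17184), (18732, 15144), (18733, 21348), (18734, 20047), (18735, 20860), (18736, 18672), (18737,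 21352), (18738, 17570), (18739, 17644), (18740, 17645), (18741, 17646), (18742, 21356), (18743, 21195), (18744, 20735), (18745, 17922), (18746, 15157), (18747, 20685), (18748, 21153), (18749, 20869), (18750, 18855), (18751, 20194)]
    ⟨e3 q18688 L225387 q15100, e3 q18689 (flp_d L233823) q19757, e3 q18690 (flp_d L247431) q21313, e3 q18691 (flp_d L225494) q18705, e3 q18692 (flp_d L229612) q19281, e3 q18693 L225409 q15105, e3 q18694 L235513 q19953, e3 q18695 L225415 q15106, e3 q18696 (flp_d L247481) q21318, e3 q18697 L225423 q15964, e3 q18698 L225431 q18680, e3 q18699 L247525 q21323, e3 q18700 (flp_d L225449) q15110, e3 q18701 L225461 q15113, e3 q18702 (flp_d L247551) q21325, e3 q18703 L247561 q21326, e3 q18704 (flp_d L225487) q15117, e3 q18705 L225494 q18691, e3 q18706 L247584 q21328, e3 q18707 (flp_d L225512) q15122, e3 q18708 L225524 q15125, e3 q18709 (flp_d L247610) q21330, e3 q18710 L247620 q21331, e3 q18711 (flp_d L225550) q15129, e3 q18712 L225557 q15135, e3 q18713 L247652 q21334, e3 q18714 L225571 q15142,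 e3 q18715 L247667 q21336, e3 q18716 L225597 q18093, e3 q18717 (flp_d L225645) q18390, e3 q18718 L225625 q16050, e3 q18719 (flp_d L225611) q15136, e3 q18720 (flp_d L225635) q17104, e3 q18721 (flp_d L225621) q15137, e3 q18722 L236197 q20027, e3 q18723 (flp_d L247713) q21340, e3 q18724 (flp_d L243635) q20853, e3 q18725 L225667 q18667, e3 q18726 L247745 q21344, e3 q18727 L225693 q18147, e3 q18728 (flp_d L225705) q18452, e3 q18729 (flp_d L225713) q16127, e3 q18730 (flp_d L225715) q15143, e3 q18731 (flp_d L225733) q17184, e3 q18732 (flp_d L225739) q15144, e3 q18733 (flp_d L247797) q21348, e3 q18734 L236336 q20047, e3 q18735 (flp_d L243703) q20860, e3 q18736 L225767 q18672, e3 q18737 L247829 q21352, e3 q18738 L225783 q17570, e3 q18739 L225787 q17644, e3 q18740 L225795 q17645, e3 q18741 L225799 q17646, e3 q18742 L247869 q21356, e3 q18743 (flp_d L246419) q21195, e3 q18744 (flp_d L242446) q20735, e3 q18745 (flp_d L225823) q17922, e3 q18746 (flp_d L225829) q15157, e3 q18747 (flp_d L241936) q20685, e3 q18748 L246082 q21153,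 e3 q18749 (flp_d L243785) q20869, e3 q18750 (flp_d L226439) q18855, e3 q18751 (flp_d L237635) q20194, trivial⟩ (by decide +kernel)

theorem ce_d_293 : ∀ r, r < 64 → sm gd (Qf (18752 + r)) = Qf (tab Gen.d (18752 + r)) :=
  edges_tab (sm gd) Qf (tab Gen.d) 18752 [(18752, 15260), (18753, 20871), (18754, 15162), (18755, 21363), (18756, 20925), (18757, 17751), (18758, 17753), (18759, 17754), (18760, 17757), (18761, 19866), (18762, 20486), (18763, 15167), (18764, 15168), (18765, 20929), (18766, 21369), (18767, 21370), (18768, 18502), (18769, 15171), (18770, 18097), (18771, 18102), (18772, 17198), (18773, 18871), (18774, 18872), (18775, 20189), (18776, 18874), (18777, 15236), (18778, 19498), (18779, 20882), (18780, 15178), (18781, 18900), (18782, 15179), (18783, 15180), (18784, 21386), (18785, 21388), (18786, 21389), (18787, 16933), (18788, 21391), (18789, 17716), (18790, 17717), (18791, 17718), (18792, 17598), (18793, 21401), (18794, 21215), (18795, 20702), (18796, 17900), (18797, 15191), (18798, 21100), (18799, 20722),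 (18800, 20893), (18801, 18910), (18802, 20177), (18803, 15313), (18804, 20895), (18805, 15196), (18806, 21408), (18807, 20954), (18808, 17683), (18809, 17685), (18810, 17686), (18811, 17689), (18812, 19883), (18813, 20428), (18814, 15201), (18815, 15202)]
    ⟨e3 q18752 L225865 q15260, e3 q18753 (flp_d L243803) q20871, e3 q18754 L225875 q15162, e3 q18755 (flp_d L247926) q21363, e3 q18756 (flp_d L244305) q20925, e3 q18757 L225885 q17751, e3 q18758 L225897 q17753, e3 q18759 L225905 q17754, e3 q18760 L225909 q17757, e3 q18761 (flp_d L234715) q19866, e3 q18762 (flp_d L240149) q20486, e3 q18763 L225921 q15167, e3 q18764 L225925 q15168, e3 q18765 (flp_d L244327) q20929, e3 q18766 (flp_d L247971) q21369, e3 q18767 (flp_d L247983) q21370, e3 q18768 L225949 q18502, e3 q18769 L225957 q15171, e3 q18770 (flp_d L229788) q18097, e3 q18771 L229794 q18102, e3 q18772 L225969 q17198, e3 q18773 (flp_d L226557) q18871, e3 q18774 (flp_d L226561) q18872, e3 q18775 (flp_d L237589) q20189, e3 q18776 (flp_d L226577) q18874, e3 q18777 L225989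 q15236, e3 q18778 L231618 q19498, e3 q18779 (flp_d L243925) q20882, e3 q18780 L226007 q15178, e3 q18781 (flp_d L226770) q18900, e3 q18782 L226017 q15179, e3 q18783 L226023 q15180, e3 q18784 (flp_d L248119) q21386, e3 q18785 (flp_d L248141) q21388, e3 q18786 (flp_d L248149) q21389, e3 q18787 (flp_d L226047) q16933, e3 q18788 (flp_d L248159) q21391, e3 q18789 L226055 q17716, e3 q18790 L226063 q17717, e3 q18791 L226067 q17718, e3 q18792 L226071 q17598, e3 q18793 L248245 q21401, e3 q18794 (flp_d L246581) q21215, e3 q18795 (flp_d L242122) q20702, e3 q18796 (flp_d L226095) q17900, e3 q18797 (flp_d L226101) q15191, e3 q18798 L245667 q21100, e3 q18799 (flp_d L242300) q20722, e3 q18800 (flp_d L244029) q20893, e3 q18801 (flp_d L226850) q18910, e3 q18802 (flp_d L237489) q20177, e3 q18803 L226137 q15313, e3 q18804 (flp_d L244047) q20895, e3 q18805 L226147 q15196, e3 q18806 (flp_d L248304) q21408, e3 q18807 (flp_d L244519) q20954, e3 q18808 L226157 q17683, e3 q18809 L226167 q17685, e3 q18810 L226175 q17686, e3 q18811 L226181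 q17689, e3 q18812 (flp_d L234851) q19883, e3 q18813 (flp_d L239671) q20428, e3 q18814 L226193 q15201, e3 q18815 L226197 q15202, trivial⟩ (by decide +kernel)

theorem ce_d_294 : ∀ r, r < 64 → sm gd (Qf (18816 + r)) = Qf (tab Gen.d (18816 + r)) :=
  edges_tab (sm gd) Qf (tab Gen.d) 18816 [(18816, 21414), (18817, 20958), (18818, 21415), (18819, 18475), (18820, 15205), (18821, 18151), (18822, 18156), (18823, 17274), (18824, 18926), (18825, 18927), (18826, 20172), (18827, 18929), (18828, 15289), (18829, 19266), (18830, 20906), (18831, 15212), (18832, 18845), (18833, 15213), (18834, 15214), (18835, 21430), (18836, 21432), (18837, 21433), (18838, 16921), (18839, 21435), (18840, 21142), (18841, 15218), (18842, 15316), (18843, 17253), (18844, 15222), (18845, 18832), (18846, 15223), (18847, 20757), (18848, 21422), (18849, 16210), (18850, 15226), (18851, 21451), (18852, 16212), (18853, 15229), (18854, 15230), (18855, 18750), (18856, 16825), (18857, 15233), (18858, 19422), (18859, 15235), (18860, 20190), (18861, 21381), (18862,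 16214), (18863, 15239), (18864, 21462), (18865, 15242), (18866, 18455), (18867, 18456), (18868, 18457), (18869, 16219), (18870, 15247), (18871, 18773), (18872, 18774), (18873, 16815), (18874, 18776), (18875, 16221), (18876, 15253), (18877, 15266), (18878, 15254), (18879, 21470)]
    ⟨e3 q18816 (flp_d L248349) q21414, e3 q18817 (flp_d L244541) q20958, e3 q18818 (flp_d L248361) q21415, e3 q18819 L226221 q18475, e3 q18820 L226229 q15205, e3 q18821 (flp_d L226243) q18151, e3 q18822 L226241 q18156, e3 q18823 L226255 q17274, e3 q18824 (flp_d L226968) q18926, e3 q18825 (flp_d L226972) q18927, e3 q18826 (flp_d L237443) q20172, e3 q18827 (flp_d L226988) q18929, e3 q18828 L226275 q15289, e3 q18829 L229480 q19266, e3 q18830 (flp_d L244169) q20906, e3 q18831 L226293 q15212, e3 q18832 L227006 q18845, e3 q18833 L226303 q15213, e3 q18834 L226309 q15214, e3 q18835 (flp_d L248489) q21430, e3 q18836 (flp_d L248511) q21432, e3 q18837 (flp_d L248519) q21433, e3 q18838 (flp_d L226333) q16921, e3 q18839 (flp_d L248529) q21435, e3 q18840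 (flp_d L245982) q21142, e3 q18841 (flp_d L226347) q15218, e3 q18842 L226358 q15316, e3 q18843 L226365 q17253, e3 q18844 L226369 q15222, e3 q18845 (flp_d L227006) q18832, e3 q18846 (flp_d L226381) q15223, e3 q18847 (flp_d L242660) q20757, e3 q18848 (flp_d L248417) q21422, e3 q18849 L226403 q16210, e3 q18850 L226409 q15226, e3 q18851 L248672 q21451, e3 q18852 L226421 q16212, e3 q18853 L226425 q15229, e3 q18854 L226433 q15230, e3 q18855 L226439 q18750, e3 q18856 (flp_d L226449) q16825, e3 q18857 (flp_d L226451) q15233, e3 q18858 (flp_d L230972) q19422, e3 q18859 (flp_d L226469) q15235, e3 q18860 (flp_d L237595) q20190, e3 q18861 (flp_d L248075) q21381, e3 q18862 L226487 q16214, e3 q18863 L226493 q15239, e3 q18864 L248752 q21462, e3 q18865 L226505 q15242, e3 q18866 L226513 q18455, e3 q18867 L226523 q18456, e3 q18868 L226531 q18457, e3 q18869 L226543 q16219, e3 q18870 L226551 q15247, e3 q18871 L226557 q18773, e3 q18872 L226561 q18774, e3 q18873 L226569 q16815, e3 q18874 L226577 q18776, e3 q18875 L226581 q16221, e3 q18876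 L226587 q15253, e3 q18877 (flp_d L226599) q15266, e3 q18878 L226613 q15254, e3 q18879 (flp_d L248830) q21470, trivial⟩ (by decide +kernel)

theorem ce_d_295 : ∀ r, r < 64 → sm gd (Qf (18880 + r)) = Qf (tab Gen.d (18880 + r)) :=
  edges_tab (sm gd) Qf (tab Gen.d) 18880 [(18880, 19412), (18881, 15259), (18882, 15258), (18883, 21475), (18884, 20196), (18885, 21472), (18886, 21481), (18887, 21474), (18888, 21362), (18889, 21483), (18890, 16226), (18891, 16227), (18892, 15263), (18893, 15267), (18894, 21486), (18895, 18583), (18896, 21191), (18897, 15271), (18898, 17329), (18899, 15275), (18900, 18781), (18901, 15276), (18902, 20768), (18903, 21377), (18904, 16240), (18905, 15279), (18906, 21493), (18907, 16242), (18908, 15282), (18909, 15283), (18910, 18801), (18911, 16799), (18912, 15286), (18913, 19624), (18914, 15288), (18915, 20173), (18916, 21425), (18917, 16244), (18918, 15292), (18919, 21504), (18920, 15295), (18921, 18393), (18922, 18394), (18923, 18395), (18924, 16249), (18925, 15300), (18926, 18824), (18927,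 18825), (18928, 16789), (18929, 18827), (18930, 16251), (18931, 15306), (18932, 15319), (18933, 15307), (18934, 21512), (18935, 19617), (18936, 15312), (18937, 15311), (18938, 21517), (18939, 20179), (18940, 21514), (18941, 21444), (18942, 21516), (18943, 21407)]
    ⟨e3 q18880 (flp_d L230730) q19412, e3 q18881 L226639 q15259, e3 q18882 L226647 q15258, e3 q18883 (flp_d L248854) q21475, e3 q18884 (flp_d L237653) q20196, e3 q18885 (flp_d L248840) q21472, e3 q18886 L248902 q21481, e3 q18887 (flp_d L248848) q21474, e3 q18888 (flp_d L247922) q21362, e3 q18889 L248918 q21483, e3 q18890 L226694 q16226, e3 q18891 L226700 q16227, e3 q18892 (flp_d L226704) q15263, e3 q18893 L226713 q15267, e3 q18894 (flp_d L248944) q21486, e3 q18895 (flp_d L226735) q18583, e3 q18896 (flp_d L246381) q21191, e3 q18897 (flp_d L226745) q15271, e3 q18898 L226758 q17329, e3 q18899 L226764 q15275, e3 q18900 L226770 q18781, e3 q18901 (flp_d L226780) q15276, e3 q18902 (flp_d L242775) q20768, e3 q18903 (flp_d L248043) q21377, e3 q18904 L226812 q16240,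 e3 q18905 L226820 q15279, e3 q18906 L249010 q21493, e3 q18907 L226832 q16242, e3 q18908 L226838 q15282, e3 q18909 L226844 q15283, e3 q18910 L226850 q18801, e3 q18911 (flp_d L226860) q16799, e3 q18912 (flp_d L226862) q15286, e3 q18913 (flp_d L232751) q19624, e3 q18914 (flp_d L226880) q15288, e3 q18915 (flp_d L237449) q20173, e3 q18916 (flp_d L248443) q21425, e3 q18917 L226898 q16244, e3 q18918 L226904 q15292, e3 q18919 L249092 q21504, e3 q18920 L226916 q15295, e3 q18921 L226924 q18393, e3 q18922 L226934 q18394, e3 q18923 L226948 q18395, e3 q18924 L226954 q16249, e3 q18925 L226962 q15300, e3 q18926 L226968 q18824, e3 q18927 L226972 q18825, e3 q18928 L226980 q16789, e3 q18929 L226988 q18827, e3 q18930 L227010 q16251, e3 q18931 L227016 q15306, e3 q18932 (flp_d L227030) q15319, e3 q18933 L227038 q15307, e3 q18934 (flp_d L249176) q21512, e3 q18935 (flp_d L232678) q19617, e3 q18936 L227064 q15312, e3 q18937 L227072 q15311, e3 q18938 (flp_d L249206) q21517, e3 q18939 (flp_d L237507) q20179, e3 q18940 (flp_d L249186) q21514,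 e3 q18941 (flp_d L248607) q21444, e3 q18942 (flp_d L249198) q21516, e3 q18943 (flp_d L248300) q21407, trivial⟩ (by decide +kernel)

theorem ce_d_296 : ∀ r, r < 64 → sm gd (Qf (18944 + r)) = Qf (tab Gen.d (18944 + r)) :=
  edges_tab (sm gd) Qf (tab Gen.d) 18944 [(18944, 21524), (18945, 16256), (18946, 16257), (18947, 15320), (18948, 21526), (18949, 18594), (18950, 15322), (18951, 21527), (18952, 15323), (18953, 19246), (18954, 20700), (18955, 15325), (18956, 21089), (18957, 15326), (18958, 15332), (18959, 18518), (18960, 15328), (18961, 21532), (18962, 15330), (18963, 21536), (18964, 15331), (18965, 21540), (18966, 21543), (18967, 20968), (18968, 15334), (18969, 21546), (18970, 20707), (18971, 15336), (18972, 19283), (18973, 21091), (18974, 19285), (18975, 17666), (18976, 15340), (18977, 21551), (18978, 18627), (18979, 21553), (18980, 21554), (18981, 18447), (18982, 15347), (18983, 18464), (18984, 15349), (18985, 20854), (18986, 18664), (18987, 15353), (18988, 16486), (18989, 15354), (18990, 21558), (18991, 15979),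 (18992, 19216), (18993, 15357), (18994, 21562), (18995, 15358), (18996, 21053), (18997, 21534), (18998, 20129), (18999, 15362), (19000, 15363), (19001, 21566), (19002, 15364), (19003, 21570), (19004, 21571), (19005, 19320), (19006, 19202), (19007, 15366)]
    ⟨e3 q18944 L249270 q21524, e3 q18945 L227131 q16256, e3 q18946 L227139 q16257, e3 q18947 L227145 q15320, e3 q18948 (flp_d L249287) q21526, e3 q18949 (flp_d L227167) q18594, e3 q18950 (flp_d L227169) q15322, e3 q18951 L249291 q21527, e3 q18952 (flp_d L227184) q15323, e3 q18953 L229290 q19246, e3 q18954 (flp_d L242098) q20700, e3 q18955 L227204 q15325, e3 q18956 (flp_d L245583) q21089, e3 q18957 (flp_d L227210) q15326, e3 q18958 L227220 q15332, e3 q18959 (flp_d L227240) q18518, e3 q18960 (flp_d L227242) q15328, e3 q18961 L249339 q21532, e3 q18962 (flp_d L227250) q15330, e3 q18963 L249367 q21536, e3 q18964 (flp_d L227258) q15331, e3 q18965 (flp_d L249400) q21540, e3 q18966 L249428 q21543, e3 q18967 (flp_d L244625) q20968, e3 q18968 L227278 q15334, e3 q18969 (flp_d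 L249468) q21546, e3 q18970 (flp_d L242170) q20707, e3 q18971 L227300 q15336, e3 q18972 (flp_d L229628) q19283, e3 q18973 (flp_d L245609) q21091, e3 q18974 (flp_d L229642) q19285, e3 q18975 L227326 q17666, e3 q18976 L227334 q15340, e3 q18977 (flp_d L249514) q21551, e3 q18978 L227346 q18627, e3 q18979 L249532 q21553, e3 q18980 L249541 q21554, e3 q18981 L227383 q18447, e3 q18982 (flp_d L227385) q15347, e3 q18983 L227401 q18464, e3 q18984 (flp_d L227442) q15349, e3 q18985 L243647 q20854, e3 q18986 L227468 q18664, e3 q18987 (flp_d L227470) q15353, e3 q18988 L227482 q16486, e3 q18989 (flp_d L227484) q15354, e3 q18990 L249584 q21558, e3 q18991 L227506 q15979, e3 q18992 (flp_d L229040) q19216, e3 q18993 L227518 q15357, e3 q18994 L249615 q21562, e3 q18995 (flp_d L227528) q15358, e3 q18996 (flp_d L245269) q21053, e3 q18997 (flp_d L249359) q21534, e3 q18998 (flp_d L237063) q20129, e3 q18999 L227558 q15362, e3 q19000 (flp_d L227562) q15363, e3 q19001 L249651 q21566, e3 q19002 (flp_d L227576) q15364, e3 q19003 (flp_d L249673)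 q21570, e3 q19004 (flp_d L249681) q21571, e3 q19005 L229996 q19320, e3 q19006 (flp_d L228932) q19202, e3 q19007 L227602 q15366, trivial⟩ (by decide +kernel)

theorem ce_d_297 : ∀ r, r < 64 → sm gd (Qf (19008 + r)) = Qf (tab Gen.d (19008 + r)) :=
  edges_tab (sm gd) Qf (tab Gen.d) 19008 [(19008, 15367), (19009, 21036), (19010, 15368), (19011, 21576), (19012, 19351), (19013, 19193), (19014, 15370), (19015, 15371), (19016, 15478), (19017, 15987), (19018, 15374), (19019, 21583), (19020, 15764), (19021, 19217), (19022, 15378), (19023, 19360), (19024, 21587), (19025, 21593), (19026, 15379), (19027, 20692), (19028, 15380), (19029, 15382), (19030, 21594), (19031, 15383), (19032, 20704), (19033, 15385), (19034, 19729), (19035, 19371), (19036, 20130), (19037, 21041), (19038, 15391), (19039, 15392), (19040, 15977), (19041, 19178), (19042, 15394), (19043, 15395), (19044, 15396), (19045, 21604), (19046, 19645), (19047, 15968), (19048, 19185), (19049, 19186), (19050, 15400), (19051, 15401), (19052, 15402), (19053, 21614), (19054,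 21612), (19055, 21613), (19056, 19152), (19057, 15405), (19058, 15422), (19059, 15407), (19060, 21623), (19061, 21621), (19062, 15406), (19063, 21627), (19064, 18656), (19065, 19145), (19066, 19414), (19067, 21631), (19068, 19416), (19069, 15410), (19070, 21634), (19071, 21635)]
    ⟨e3 q19008 L227620 q15367, e3 q19009 L245155 q21036, e3 q19010 (flp_d L227626) q15368, e3 q19011 (flp_d L249723) q21576, e3 q19012 (flp_d L230240) q19351, e3 q19013 (flp_d L228854) q19193, e3 q19014 L227646 q15370, e3 q19015 L227654 q15371, e3 q19016 L227664 q15478, e3 q19017 L227668 q15987, e3 q19018 (flp_d L227674) q15374, e3 q19019 (flp_d L249767) q21583, e3 q19020 L227692 q15764, e3 q19021 (flp_d L229048) q19217, e3 q19022 L227700 q15378, e3 q19023 (flp_d L230290) q19360, e3 q19024 (flp_d L249795) q21587, e3 q19025 L249835 q21593, e3 q19026 (flp_d L227714) q15379, e3 q19027 (flp_d L242012) q20692, e3 q19028 (flp_d L227728) q15380, e3 q19029 L227742 q15382, e3 q19030 (flp_d L249847) q21594, e3 q19031 (flp_d L227748) q15383, e3 q19032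 (flp_d L242140) q20704, e3 q19033 L227774 q15385, e3 q19034 L233583 q19729, e3 q19035 (flp_d L230376) q19371, e3 q19036 (flp_d L237073) q20130, e3 q19037 (flp_d L245193) q21041, e3 q19038 (flp_d L227802) q15391, e3 q19039 (flp_d L227808) q15392, e3 q19040 (flp_d L227817) q15977, e3 q19041 (flp_d L228752) q19178, e3 q19042 L227829 q15394, e3 q19043 L227837 q15395, e3 q19044 (flp_d L227839) q15396, e3 q19045 L249921 q21604, e3 q19046 (flp_d L232909) q19645, e3 q19047 L227865 q15968, e3 q19048 (flp_d L228802) q19185, e3 q19049 (flp_d L228808) q19186, e3 q19050 L227877 q15400, e3 q19051 L227883 q15401, e3 q19052 L227891 q15402, e3 q19053 L249993 q21614, e3 q19054 (flp_d L249983) q21612, e3 q19055 (flp_d L249989) q21613, e3 q19056 (flp_d L228571) q19152, e3 q19057 L227911 q15405, e3 q19058 (flp_d L227917) q15422, e3 q19059 L227931 q15407, e3 q19060 L250067 q21623, e3 q19061 (flp_d L250057) q21621, e3 q19062 (flp_d L227947) q15406, e3 q19063 (flp_d L250095) q21627, e3 q19064 L227963 q18656, e3 q19065 (flp_d L228519) q19145,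 e3 q19066 (flp_d L230742) q19414, e3 q19067 L250123 q21631, e3 q19068 (flp_d L230753) q19416, e3 q19069 (flp_d L227992) q15410, e3 q19070 (flp_d L250155) q21634, e3 q19071 (flp_d L250163) q21635, trivial⟩ (by decide +kernel)

theorem ce_d_298 : ∀ r, r < 64 → sm gd (Qf (19072 + r)) = Qf (tab Gen.d (19072 + r)) :=
  edges_tab (sm gd) Qf (tab Gen.d) 19072 [(19072, 19419), (19073, 19648), (19074, 15414), (19075, 21641), (19076, 21642), (19077, 17812), (19078, 19415), (19079, 19421), (19080, 15665), (19081, 21630), (19082, 19131), (19083, 19158), (19084, 15423), (19085, 21648), (19086, 21647), (19087, 21653), (19088, 15424), (19089, 18374), (19090, 20246), (19091, 21658), (19092, 15428), (19093, 19481), (19094, 20733), (19095, 15430), (19096, 21054), (19097, 15431), (19098, 15432), (19099, 15437), (19100, 18487), (19101, 21663), (19102, 15435), (19103, 21666), (19104, 15436), (19105, 21670), (19106, 21673), (19107, 20994), (19108, 15439), (19109, 21656), (19110, 20740), (19111, 19515), (19112, 21146), (19113, 19255),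 (19114, 17735), (19115, 15444), (19116, 21657), (19117, 18642), (19118, 21680), (19119, 21681), (19120, 18385), (19121, 15451), (19122, 18406), (19123, 15453), (19124, 20847), (19125, 18662), (19126, 15457), (19127, 16346), (19128, 15458), (19129, 21684), (19130, 15753), (19131, 19082), (19132, 15461), (19133, 21688), (19134, 15462), (19135, 21088)]
    ⟨e3 q19072 (flp_d L230776) q19419, e3 q19073 (flp_d L232945) q19648, e3 q19074 L228028 q15414, e3 q19075 (flp_d L250208) q21641, e3 q19076 (flp_d L250220) q21642, e3 q19077 L228046 q17812, e3 q19078 L230932 q19415, e3 q19079 (flp_d L230808) q19421, e3 q19080 L228062 q15665, e3 q19081 (flp_d L250121) q21630, e3 q19082 (flp_d L228423) q19131, e3 q19083 (flp_d L228609) q19158, e3 q19084 L228085 q15423, e3 q19085 L250266 q21648, e3 q19086 (flp_d L250262) q21647, e3 q19087 L250310 q21653, e3 q19088 (flp_d L228109) q15424, e3 q19089 L228121 q18374, e3 q19090 (flp_d L238051) q20246, e3 q19091 L250362 q21658, e3 q19092 (flp_d L228132) q15428, e3 q19093 L231444 q19481, e3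 q19094 (flp_d L242422) q20733, e3 q19095 L228152 q15430, e3 q19096 (flp_d L245287) q21054, e3 q19097 (flp_d L228162) q15431, e3 q19098 (flp_d L228170) q15432, e3 q19099 L228176 q15437, e3 q19100 (flp_d L228196) q18487, e3 q19101 L250418 q21663, e3 q19102 (flp_d L228202) q15435, e3 q19103 L250440 q21666, e3 q19104 (flp_d L228210) q15436, e3 q19105 (flp_d L250484) q21670, e3 q19106 L250512 q21673, e3 q19107 (flp_d L244810) q20994, e3 q19108 L228230 q15439, e3 q19109 (flp_d L250340) q21656, e3 q19110 (flp_d L242496) q20740, e3 q19111 (flp_d L231766) q19515, e3 q19112 (flp_d L246030) q21146, e3 q19113 L229372 q19255, e3 q19114 L228268 q17735, e3 q19115 L228276 q15444, e3 q19116 (flp_d L250354) q21657, e3 q19117 L228288 q18642, e3 q19118 L250588 q21680, e3 q19119 L250597 q21681, e3 q19120 (flp_d L228323) q18385, e3 q19121 (flp_d L228325) q15451, e3 q19122 L228341 q18406, e3 q19123 (flp_d L228347) q15453, e3 q19124 L243579 q20847, e3 q19125 L228373 q18662, e3 q19126 (flp_d L228375) q15457, e3 q19127 L228387 q16346, e3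 q19128 (flp_d L228389) q15458, e3 q19129 L250632 q21684, e3 q19130 L228413 q15753, e3 q19131 L228423 q19082, e3 q19132 L228431 q15461, e3 q19133 L250671 q21688, e3 q19134 (flp_d L228443) q15462, e3 q19135 (flp_d L245565) q21088, trivial⟩ (by decide +kernel)

theorem ce_d_299 : ∀ r, r < 64 → sm gd (Qf (19136 + r)) = Qf (tab Gen.d (19136 + r)) :=
  edges_tab (sm gd) Qf (tab Gen.d) 19136 [(19136, 21665), (19137, 20122), (19138, 15466), (19139, 15467), (19140, 21692), (19141, 15468), (19142, 21696), (19143, 21697), (19144, 19547), (19145, 19065), (19146, 15470), (19147, 15471), (19148, 21073), (19149, 15472), (19150, 21701), (19151, 19349), (19152, 19056), (19153, 15474), (19154, 15475), (19155, 15762), (19156, 21581), (19157, 15989), (19158, 19083), (19159, 15482), (19160, 19575), (19161, 21707), (19162, 21711), (19163, 15483), (19164, 20727), (19165, 15484), (19166, 15486), (19167, 21712), (19168, 15487), (19169, 20737), (19170, 15489), (19171, 19822), (19172, 19586), (19173, 20123), (19174, 21078), (19175, 15495),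 (19176, 15496), (19177, 15751), (19178, 19041), (19179, 15498), (19180, 15499), (19181, 15500), (19182, 21721), (19183, 15743), (19184, 19446), (19185, 19048), (19186, 19049), (19187, 15504), (19188, 15505), (19189, 15506), (19190, 21728), (19191, 21730), (19192, 21729), (19193, 19013), (19194, 15509), (19195, 15525), (19196, 15511), (19197, 21736), (19198, 21735), (19199, 15510)]
    ⟨e3 q19136 (flp_d L250438) q21665, e3 q19137 (flp_d L236993) q20122, e3 q19138 L228473 q15466, e3 q19139 (flp_d L228477) q15467, e3 q19140 L250707 q21692, e3 q19141 (flp_d L228493) q15468, e3 q19142 (flp_d L250735) q21696, e3 q19143 (flp_d L250741) q21697, e3 q19144 L232076 q19547, e3 q19145 L228519 q19065, e3 q19146 L228531 q15470, e3 q19147 L228539 q15471, e3 q19148 (flp_d L245471) q21073, e3 q19149 (flp_d L228549) q15472, e3 q19150 (flp_d L250779) q21701, e3 q19151 (flp_d L230942) q19349, e3 q19152 L228571 q19056, e3 q19153 L228577 q15474, e3 q19154 L228583 q15475, e3 q19155 L228589 q15762, e3 q19156 (flp_d L249749) q21581, e3 q19157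 L228605 q15989, e3 q19158 L228609 q19083, e3 q19159 L228615 q15482, e3 q19160 (flp_d L232300) q19575, e3 q19161 (flp_d L250819) q21707, e3 q19162 L250853 q21711, e3 q19163 (flp_d L228633) q15483, e3 q19164 (flp_d L242358) q20727, e3 q19165 (flp_d L228647) q15484, e3 q19166 L228661 q15486, e3 q19167 (flp_d L250865) q21712, e3 q19168 (flp_d L228669) q15487, e3 q19169 (flp_d L242464) q20737, e3 q19170 L228697 q15489, e3 q19171 L234327 q19822, e3 q19172 (flp_d L232390) q19586, e3 q19173 (flp_d L237003) q20123, e3 q19174 (flp_d L245509) q21078, e3 q19175 (flp_d L228725) q15495, e3 q19176 (flp_d L228731) q15496, e3 q19177 (flp_d L228744) q15751, e3 q19178 L228752 q19041, e3 q19179 L228760 q15498, e3 q19180 L228768 q15499, e3 q19181 (flp_d L228772) q15500, e3 q19182 L250951 q21721, e3 q19183 L228794 q15743, e3 q19184 (flp_d L231148) q19446, e3 q19185 L228802 q19048, e3 q19186 L228808 q19049, e3 q19187 L228814 q15504, e3 q19188 L228820 q15505, e3 q19189 L228828 q15506, e3 q19190 (flp_d L251015) q21728, e3 q19191 L251031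 q21730, e3 q19192 (flp_d L251025) q21729, e3 q19193 L228854 q19013, e3 q19194 L228860 q15509, e3 q19195 (flp_d L228868) q15525, e3 q19196 L228882 q15511, e3 q19197 L251091 q21736, e3 q19198 (flp_d L251087) q21735, e3 q19199 (flp_d L228902) q15510, trivial⟩ (by decide +kernel)

theorem ce_d_300 : ∀ r, r < 64 → sm gd (Qf (19200 + r)) = Qf (tab Gen.d (19200 + r)) :=
  edges_tab (sm gd) Qf (tab Gen.d) 19200 [(19200, 21739), (19201, 18650), (19202, 19006), (19203, 19619), (19204, 21743), (19205, 15514), (19206, 21584), (19207, 19448), (19208, 15517), (19209, 21747), (19210, 21748), (19211, 17825), (19212, 19620), (19213, 19623), (19214, 15895), (19215, 21742), (19216, 18992), (19217, 19021), (19218, 15526), (19219, 21754), (19220, 21753), (19221, 21757), (19222, 15527), (19223, 18439), (19224, 20258), (19225, 15534), (19226, 15550), (19227, 15536), (19228, 19236), (19229, 15535), (19230, 16267), (19231, 16269), (19232, 15543), (19233, 21376), (19234, 15545), (19235, 15548), (19236, 19228), (19237, 15551), (19238, 17163),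 (19239, 15553), (19240, 15544), (19241, 15547), (19242, 16278), (19243, 16785), (19244, 15552), (19245, 20885), (19246, 18953), (19247, 16280), (19248, 18066), (19249, 15556), (19250, 21769), (19251, 18056), (19252, 16282), (19253, 15559), (19254, 20200), (19255, 19113), (19256, 16285), (19257, 21774), (19258, 15562), (19259, 17279), (19260, 16291), (19261, 15569), (19262, 21427), (19263, 15567)]
    ⟨e3 q19200 (flp_d L251115) q21739, e3 q19201 L228920 q18650, e3 q19202 L228932 q19006, e3 q19203 (flp_d L232690) q19619, e3 q19204 L251151 q21743, e3 q19205 (flp_d L228951) q15514, e3 q19206 (flp_d L249777) q21584, e3 q19207 L231166 q19448, e3 q19208 L228987 q15517, e3 q19209 (flp_d L251189) q21747, e3 q19210 (flp_d L251201) q21748, e3 q19211 L229005 q17825, e3 q19212 L232707 q19620, e3 q19213 (flp_d L232739) q19623, e3 q19214 L229021 q15895, e3 q19215 (flp_d L251149) q21742, e3 q19216 L229040 q18992, e3 q19217 L229048 q19021, e3 q19218 L229054 q15526, e3 q19219 L251255 q21754, e3 q19220 (flp_d L251251) q21753, e3 q19221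 L251285 q21757, e3 q19222 (flp_d L229084) q15527, e3 q19223 L229096 q18439, e3 q19224 (flp_d L238131) q20258, e3 q19225 L229106 q15534, e3 q19226 (flp_d L229118) q15550, e3 q19227 L229126 q15536, e3 q19228 (flp_d L229204) q19236, e3 q19229 (flp_d L229142) q15535, e3 q19230 L229152 q16267, e3 q19231 L229158 q16269, e3 q19232 L229164 q15543, e3 q19233 (flp_d L248035) q21376, e3 q19234 L229180 q15545, e3 q19235 L229192 q15548, e3 q19236 L229204 q19228, e3 q19237 L229210 q15551, e3 q19238 (flp_d L229220) q17163, e3 q19239 L229224 q15553, e3 q19240 (flp_d L229232) q15544, e3 q19241 (flp_d L229242) q15547, e3 q19242 L229254 q16278, e3 q19243 L229258 q16785, e3 q19244 (flp_d L229270) q15552, e3 q19245 (flp_d L243953) q20885, e3 q19246 (flp_d L229290) q18953, e3 q19247 L229300 q16280, e3 q19248 L229310 q18066, e3 q19249 (flp_d L229312) q15556, e3 q19250 L251403 q21769, e3 q19251 L229338 q18056, e3 q19252 L229346 q16282, e3 q19253 L229352 q15559, e3 q19254 (flp_d L237691) q20200, e3 q19255 (flp_d L229372) q19113, e3 q19256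 L229380 q16285, e3 q19257 L251461 q21774, e3 q19258 (flp_d L229393) q15562, e3 q19259 L229408 q17279, e3 q19260 L229420 q16291, e3 q19261 L229432 q15569, e3 q19262 (flp_d L248467) q21427, e3 q19263 (flp_d L229450) q15567, trivial⟩ (by decide +kernel)

theorem ce_d_301 : ∀ r, r < 64 → sm gd (Qf (19264 + r)) = Qf (tab Gen.d (19264 + r)) :=
  edges_tab (sm gd) Qf (tab Gen.d) 19264 [(19264, 15568), (19265, 15570), (19266, 18829), (19267, 15691), (19268, 15575), (19269, 19274), (19270, 15578), (19271, 16841), (19272, 15580), (19273, 15581), (19274, 19269), (19275, 16086), (19276, 15583), (19277, 21783), (19278, 18673), (19279, 15584), (19280, 17983), (19281, 18692), (19282, 16302), (19283, 18972), (19284, 20434), (19285, 18974), (19286, 16303), (19287, 15592), (19288, 20620), (19289, 15593), (19290, 21790), (19291, 18006), (19292, 18633), (19293, 20723), (19294, 15596), (19295, 15595), (19296, 20721), (19297, 18053), (19298, 15599), (19299, 21793), (19300, 15600), (19301, 18472), (19302, 16312), (19303, 16314), (19304,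 16316), (19305, 17585), (19306, 17583), (19307, 19931), (19308, 15629), (19309, 21795), (19310, 15621), (19311, 15622), (19312, 17466), (19313, 15625), (19314, 21797), (19315, 15637), (19316, 15627), (19317, 20637), (19318, 21799), (19319, 15633), (19320, 19005), (19321, 15933), (19322, 15639), (19323, 19993), (19324, 16327), (19325, 15641), (19326, 15642), (19327, 21802)]
    ⟨e3 q19264 (flp_d L229454) q15568, e3 q19265 (flp_d L229462) q15570, e3 q19266 (flp_d L229480) q18829, e3 q19267 L229494 q15691, e3 q19268 (flp_d L229496) q15575, e3 q19269 L229540 q19274, e3 q19270 L229504 q15578, e3 q19271 L229516 q16841, e3 q19272 (flp_d L229518) q15580, e3 q19273 (flp_d L229526) q15581, e3 q19274 (flp_d L229540) q19269, e3 q19275 L229548 q16086, e3 q19276 L229554 q15583, e3 q19277 (flp_d L251568) q21783, e3 q19278 (flp_d L229576) q18673, e3 q19279 (flp_d L229582) q15584, e3 q19280 L229604 q17983, e3 q19281 L229612 q18692, e3 q19282 L229624 q16302, e3 q19283 L229628 q18972, e3 q19284 (flp_d L239733) q20434, e3 q19285 L229642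 q18974, e3 q19286 L229650 q16303, e3 q19287 L229658 q15592, e3 q19288 (flp_d L241366) q20620, e3 q19289 (flp_d L229662) q15593, e3 q19290 (flp_d L251646) q21790, e3 q19291 L229686 q18006, e3 q19292 L229702 q18633, e3 q19293 (flp_d L242306) q20723, e3 q19294 L229726 q15596, e3 q19295 (flp_d L229732) q15595, e3 q19296 (flp_d L242292) q20721, e3 q19297 L229742 q18053, e3 q19298 L229750 q15599, e3 q19299 L251670 q21793, e3 q19300 L229766 q15600, e3 q19301 L229774 q18472, e3 q19302 L229802 q16312, e3 q19303 L229818 q16314, e3 q19304 L229828 q16316, e3 q19305 (flp_d L229846) q17585, e3 q19306 L229854 q17583, e3 q19307 (flp_d L235302) q19931, e3 q19308 L229874 q15629, e3 q19309 L251688 q21795, e3 q19310 (flp_d L229892) q15621, e3 q19311 (flp_d L229898) q15622, e3 q19312 L229912 q17466, e3 q19313 L229924 q15625, e3 q19314 (flp_d L251716) q21797, e3 q19315 L229944 q15637, e3 q19316 (flp_d L229954) q15627, e3 q19317 (flp_d L241496) q20637, e3 q19318 L251736 q21799, e3 q19319 (flp_d L229982) q15633, e3 q19320 (flp_d L229996)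 q19005, e3 q19321 L230010 q15933, e3 q19322 (flp_d L230012) q15639, e3 q19323 L235902 q19993, e3 q19324 L230024 q16327, e3 q19325 L230032 q15641, e3 q19326 L230040 q15642, e3 q19327 (flp_d L251786) q21802, trivial⟩ (by decide +kernel)

theorem ce_d_302 : ∀ r, r < 64 → sm gd (Qf (19328 + r)) = Qf (tab Gen.d (19328 + r)) :=
  edges_tab (sm gd) Qf (tab Gen.d) 19328 [(19328, 21803), (19329, 20710), (19330, 15643), (19331, 20756), (19332, 15647), (19333, 16473), (19334, 16331), (19335, 15649), (19336, 16476), (19337, 16477), (19338, 16334), (19339, 16335), (19340, 15654), (19341, 15657), (19342, 21687), (19343, 21806), (19344, 21808), (19345, 15660), (19346, 21812), (19347, 15661), (19348, 15659), (19349, 19151), (19350, 21708), (19351, 19012), (19352, 21811), (19353, 21814), (19354, 15662), (19355, 19428), (19356, 15664), (19357, 21818), (19358, 21645), (19359, 21819), (19360, 19023), (19361, 16350), (19362, 20998), (19363, 16351), (19364, 15670), (19365, 21821), (19366, 15672), (19367, 15668), (19368, 21257), (19369,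 15675), (19370, 18573), (19371, 19035), (19372, 15682), (19373, 20156), (19374, 15684), (19375, 21825), (19376, 15689), (19377, 21236), (19378, 21826), (19379, 18076), (19380, 15692), (19381, 21760), (19382, 15695), (19383, 15696), (19384, 21828), (19385, 15698), (19386, 15702), (19387, 15703), (19388, 15704), (19389, 15925), (19390, 15710), (19391, 19470)]
    ⟨e3 q19328 (flp_d L251794) q21803, e3 q19329 L242202 q20710, e3 q19330 (flp_d L230068) q15643, e3 q19331 (flp_d L242652) q20756, e3 q19332 L230090 q15647, e3 q19333 (flp_d L230102) q16473, e3 q19334 L230118 q16331, e3 q19335 L230126 q15649, e3 q19336 L230134 q16476, e3 q19337 L230148 q16477, e3 q19338 L230158 q16334, e3 q19339 L230166 q16335, e3 q19340 L230180 q15654, e3 q19341 (flp_d L230186) q15657, e3 q19342 L250669 q21687, e3 q19343 (flp_d L251824) q21806, e3 q19344 (flp_d L251838) q21808, e3 q19345 L230210 q15660, e3 q19346 L251874 q21812, e3 q19347 L230218 q15661, e3 q19348 (flp_d L230222) q15659, e3 q19349 L230942 q19151, e3 q19350 (flp_d L250827)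 q21708, e3 q19351 L230240 q19012, e3 q19352 (flp_d L251868) q21811, e3 q19353 (flp_d L251896) q21814, e3 q19354 (flp_d L230258) q15662, e3 q19355 L231030 q19428, e3 q19356 L230276 q15664, e3 q19357 (flp_d L251938) q21818, e3 q19358 (flp_d L250248) q21645, e3 q19359 L251944 q21819, e3 q19360 L230290 q19023, e3 q19361 L230294 q16350, e3 q19362 (flp_d L244842) q20998, e3 q19363 L230312 q16351, e3 q19364 L230320 q15670, e3 q19365 L251960 q21821, e3 q19366 L230338 q15672, e3 q19367 (flp_d L230342) q15668, e3 q19368 L246963 q21257, e3 q19369 L230352 q15675, e3 q19370 L230364 q18573, e3 q19371 L230376 q19035, e3 q19372 L230386 q15682, e3 q19373 (flp_d L237309) q20156, e3 q19374 L230410 q15684, e3 q19375 (flp_d L252000) q21825, e3 q19376 L230426 q15689, e3 q19377 (flp_d L246761) q21236, e3 q19378 (flp_d L252016) q21826, e3 q19379 (flp_d L230452) q18076, e3 q19380 L230458 q15692, e3 q19381 (flp_d L251325) q21760, e3 q19382 L230478 q15695, e3 q19383 L230490 q15696, e3 q19384 (flp_d L252036) q21828, e3 q19385 L230512 q15698,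 e3 q19386 L230520 q15702, e3 q19387 L230532 q15703, e3 q19388 L230542 q15704, e3 q19389 L230550 q15925, e3 q19390 L230560 q15710, e3 q19391 (flp_d L231338) q19470, trivial⟩ (by decide +kernel)

theorem ce_d_303 : ∀ r, r < 64 → sm gd (Qf (19392 + r)) = Qf (tab Gen.d (19392 + r)) :=
  edges_tab (sm gd) Qf (tab Gen.d) 19392 [(19392, 15709), (19393, 18038), (19394, 16361), (19395, 15859), (19396, 15713), (19397, 16192), (19398, 16363), (19399, 15717), (19400, 20546), (19401, 20558), (19402, 20547), (19403, 20548), (19404, 15719), (19405, 21835), (19406, 21836), (19407, 20549), (19408, 20550), (19409, 17350), (19410, 16369), (19411, 16370), (19412, 18880), (19413, 15727), (19414, 19066), (19415, 19078), (19416, 19068), (19417, 15729), (19418, 21844), (19419, 19072), (19420, 15733), (19421, 19079), (19422, 18858), (19423, 15738), (19424, 18618), (19425, 21847), (19426, 19652), (19427, 15741), (19428, 19355), (19429, 21848), (19430, 21722), (19431, 15744), (19432, 15745), (19433, 21724), (19434, 21850), (19435, 21851),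 (19436, 20752), (19437, 20758), (19438, 15747), (19439, 21718), (19440, 21854), (19441, 15754), (19442, 15755), (19443, 15752), (19444, 21717), (19445, 19651), (19446, 19184), (19447, 21856), (19448, 19207), (19449, 15757), (19450, 21859), (19451, 19647), (19452, 19627), (19453, 15761), (19454, 20567), (19455, 16413)]
    ⟨e3 q19392 (flp_d L230578) q15709, e3 q19393 (flp_d L230594) q18038, e3 q19394 L230602 q16361, e3 q19395 L230614 q15859, e3 q19396 L230622 q15713, e3 q19397 L230628 q16192, e3 q19398 L230636 q16363, e3 q19399 L230644 q15717, e3 q19400 (flp_d L240660) q20546, e3 q19401 (flp_d L240766) q20558, e3 q19402 (flp_d L240670) q20547, e3 q19403 (flp_d L240678) q20548, e3 q19404 (flp_d L230668) q15719, e3 q19405 (flp_d L252110) q21835, e3 q19406 (flp_d L252120) q21836, e3 q19407 (flp_d L240684) q20549, e3 q19408 (flp_d L240696) q20550, e3 q19409 L230698 q17350, e3 q19410 L230704 q16369, e3 q19411 L230716 q16370, e3 q19412 L230730 q18880, e3 q19413 L230734 q15727, e3 q19414 L230742 q19066, e3 q19415 (flp_d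 L230932) q19078, e3 q19416 L230753 q19068, e3 q19417 (flp_d L230762) q15729, e3 q19418 (flp_d L252191) q21844, e3 q19419 L230776 q19072, e3 q19420 L230798 q15733, e3 q19421 L230808 q19079, e3 q19422 L230972 q18858, e3 q19423 L230980 q15738, e3 q19424 L230990 q18618, e3 q19425 L252219 q21847, e3 q19426 (flp_d L232979) q19652, e3 q19427 (flp_d L231014) q15741, e3 q19428 (flp_d L231030) q19355, e3 q19429 (flp_d L252233) q21848, e3 q19430 (flp_d L250965) q21722, e3 q19431 L231044 q15744, e3 q19432 L231050 q15745, e3 q19433 (flp_d L250981) q21724, e3 q19434 (flp_d L252249) q21850, e3 q19435 L252259 q21851, e3 q19436 (flp_d L242610) q20752, e3 q19437 (flp_d L242675) q20758, e3 q19438 (flp_d L231084) q15747, e3 q19439 (flp_d L250927) q21718, e3 q19440 (flp_d L252279) q21854, e3 q19441 L231100 q15754, e3 q19442 L231110 q15755, e3 q19443 L231118 q15752, e3 q19444 (flp_d L250911) q21717, e3 q19445 (flp_d L232965) q19651, e3 q19446 L231148 q19184, e3 q19447 (flp_d L252297) q21856, e3 q19448 (flp_d L231166) q19207, e3 q19449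 L231172 q15757, e3 q19450 (flp_d L252331) q21859, e3 q19451 (flp_d L232931) q19647, e3 q19452 L232779 q19627, e3 q19453 L231198 q15761, e3 q19454 (flp_d L240841) q20567, e3 q19455 L231208 q16413, trivial⟩ (by decide +kernel)

theorem ce_d_304 : ∀ r, r < 64 → sm gd (Qf (19456 + r)) = Qf (tab Gen.d (19456 + r)) :=
  edges_tab (sm gd) Qf (tab Gen.d) 19456 [(19456, 21861), (19457, 16414), (19458, 16938), (19459, 15770), (19460, 15767), (19461, 21863), (19462, 15772), (19463, 20137), (19464, 20136), (19465, 15778), (19466, 15789), (19467, 16422), (19468, 16424), (19469, 15787), (19470, 19391), (19471, 15790), (19472, 17077), (19473, 15791), (19474, 15792), (19475, 21419), (19476, 15794), (19477, 15786), (19478, 16433), (19479, 16811), (19480, 15793), (19481, 19093), (19482, 16435), (19483, 15796), (19484, 21870), (19485, 18027), (19486, 16437), (19487, 15799), (19488, 20204), (19489, 20862), (19490, 21873), (19491, 15802), (19492, 17203), (19493, 16444), (19494, 15808), (19495, 21383), (19496, 15806), (19497, 15809),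 (19498, 18778), (19499, 15922), (19500, 15811), (19501, 15815), (19502, 19507), (19503, 15818), (19504, 16834), (19505, 15820), (19506, 15821), (19507, 19502), (19508, 16010), (19509, 15823), (19510, 18668), (19511, 15824), (19512, 17977), (19513, 18681), (19514, 16452), (19515, 19111), (19516, 20489), (19517, 20619), (19518, 15831), (19519, 21884)]
    ⟨e3 q19456 L252349 q21861, e3 q19457 L231222 q16414, e3 q19458 (flp_d L231232) q16938, e3 q19459 L231238 q15770, e3 q19460 (flp_d L231242) q15767, e3 q19461 (flp_d L252375) q21863, e3 q19462 L231256 q15772, e3 q19463 (flp_d L237149) q20137, e3 q19464 (flp_d L237137) q20136, e3 q19465 L231284 q15778, e3 q19466 (flp_d L231302) q15789, e3 q19467 L231308 q16422, e3 q19468 L231314 q16424, e3 q19469 L231326 q15787, e3 q19470 L231338 q19391, e3 q19471 L231344 q15790, e3 q19472 (flp_d L231360) q17077, e3 q19473 L231364 q15791, e3 q19474 L231374 q15792, e3 q19475 (flp_d L248397) q21419, e3 q19476 L231390 q15794, e3 q19477 (flp_d L231396) q15786, e3 q19478 L231410 q16433,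 e3 q19479 L231414 q16811, e3 q19480 (flp_d L231426) q15793, e3 q19481 (flp_d L231444) q19093, e3 q19482 L231456 q16435, e3 q19483 (flp_d L231458) q15796, e3 q19484 L252437 q21870, e3 q19485 L231484 q18027, e3 q19486 L231494 q16437, e3 q19487 L231502 q15799, e3 q19488 (flp_d L237733) q20204, e3 q19489 (flp_d L243721) q20862, e3 q19490 L252471 q21873, e3 q19491 (flp_d L231539) q15802, e3 q19492 L231554 q17203, e3 q19493 L231566 q16444, e3 q19494 L231578 q15808, e3 q19495 (flp_d L248097) q21383, e3 q19496 (flp_d L231596) q15806, e3 q19497 (flp_d L231600) q15809, e3 q19498 (flp_d L231618) q18778, e3 q19499 L231632 q15922, e3 q19500 (flp_d L231634) q15811, e3 q19501 (flp_d L231642) q15815, e3 q19502 L231688 q19507, e3 q19503 L231650 q15818, e3 q19504 L231664 q16834, e3 q19505 (flp_d L231666) q15820, e3 q19506 (flp_d L231674) q15821, e3 q19507 (flp_d L231688) q19502, e3 q19508 L231696 q16010, e3 q19509 L231702 q15823, e3 q19510 (flp_d L231712) q18668, e3 q19511 (flp_d L231718) q15824, e3 q19512 L231740 q17977, e3 q19513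 L231748 q18681, e3 q19514 L231762 q16452, e3 q19515 L231766 q19111, e3 q19516 (flp_d L240177) q20489, e3 q19517 (flp_d L241352) q20619, e3 q19518 (flp_d L231778) q15831, e3 q19519 (flp_d L252600) q21884, trivial⟩ (by decide +kernel)

theorem ce_d_305 : ∀ r, r < 64 → sm gd (Qf (19520 + r)) = Qf (tab Gen.d (19520 + r)) :=
  edges_tab (sm gd) Qf (tab Gen.d) 19520 [(19520, 18001), (19521, 20686), (19522, 15834), (19523, 15833), (19524, 20684), (19525, 18025), (19526, 15837), (19527, 21887), (19528, 15838), (19529, 18500), (19530, 16461), (19531, 16464), (19532, 16317), (19533, 17613), (19534, 19991), (19535, 17611), (19536, 15863), (19537, 21889), (19538, 15855), (19539, 15856), (19540, 17441), (19541, 21831), (19542, 15871), (19543, 15861), (19544, 20663), (19545, 21892), (19546, 15867), (19547, 19144), (19548, 15873), (19549, 19934), (19550, 16470), (19551, 15875), (19552, 15876), (19553, 21894), (19554, 21800), (19555, 20743), (19556, 15877), (19557, 20766), (19558, 15881), (19559, 15883), (19560, 15886), (19561,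 15887), (19562, 21561), (19563, 21898), (19564, 15891), (19565, 21900), (19566, 15890), (19567, 15889), (19568, 21588), (19569, 21902), (19570, 15892), (19571, 19629), (19572, 15894), (19573, 21751), (19574, 21904), (19575, 19160), (19576, 16490), (19577, 20972), (19578, 16491), (19579, 15900), (19580, 21906), (19581, 15902), (19582, 15898), (19583, 21247)]
    ⟨e3 q19520 L231804 q18001, e3 q19521 (flp_d L241942) q20686, e3 q19522 L231828 q15834, e3 q19523 (flp_d L231834) q15833, e3 q19524 (flp_d L241928) q20684, e3 q19525 L231844 q18025, e3 q19526 L231852 q15837, e3 q19527 L252624 q21887, e3 q19528 L231868 q15838, e3 q19529 L231878 q18500, e3 q19530 L231892 q16461, e3 q19531 L231908 q16464, e3 q19532 L231918 q16317, e3 q19533 (flp_d L231936) q17613, e3 q19534 (flp_d L235874) q19991, e3 q19535 L231952 q17611, e3 q19536 L231964 q15863, e3 q19537 L252642 q21889, e3 q19538 (flp_d L231982) q15855, e3 q19539 (flp_d L231988) q15856, e3 q19540 L232004 q17441, e3 q19541 (flp_d L252076) q21831, e3 q19542 L232022 q15871,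 e3 q19543 (flp_d L232032) q15861, e3 q19544 (flp_d L241722) q20663, e3 q19545 L252680 q21892, e3 q19546 (flp_d L232060) q15867, e3 q19547 (flp_d L232076) q19144, e3 q19548 (flp_d L232078) q15873, e3 q19549 L235344 q19934, e3 q19550 L232090 q16470, e3 q19551 L232098 q15875, e3 q19552 L232108 q15876, e3 q19553 (flp_d L252708) q21894, e3 q19554 (flp_d L251762) q21800, e3 q19555 L242526 q20743, e3 q19556 (flp_d L232140) q15877, e3 q19557 (flp_d L242755) q20766, e3 q19558 L232162 q15881, e3 q19559 L232176 q15883, e3 q19560 L232186 q15886, e3 q19561 (flp_d L232190) q15887, e3 q19562 L249613 q21561, e3 q19563 (flp_d L252744) q21898, e3 q19564 (flp_d L232216) q15891, e3 q19565 L252760 q21900, e3 q19566 L232226 q15890, e3 q19567 (flp_d L232230) q15889, e3 q19568 (flp_d L249803) q21588, e3 q19569 (flp_d L252782) q21902, e3 q19570 (flp_d L232262) q15892, e3 q19571 L232803 q19629, e3 q19572 L232282 q15894, e3 q19573 (flp_d L251233) q21751, e3 q19574 L252800 q21904, e3 q19575 L232300 q19160, e3 q19576 L232308 q16490, e3 q19577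 (flp_d L244657) q20972, e3 q19578 L232326 q16491, e3 q19579 L232334 q15900, e3 q19580 L252816 q21906, e3 q19581 L232352 q15902, e3 q19582 (flp_d L232356) q15898, e3 q19583 L246867 q21247, trivial⟩ (by decide +kernel)

theorem ce_d_306 : ∀ r, r < 64 → sm gd (Qf (19584 + r)) = Qf (tab Gen.d (19584 + r)) :=
  edges_tab (sm gd) Qf (tab Gen.d) 19584 [(19584, 15905), (19585, 18559), (19586, 19172), (19587, 15912), (19588, 20161), (19589, 15914), (19590, 21910), (19591, 15919), (19592, 21235), (19593, 21911), (19594, 18047), (19595, 15921), (19596, 21829), (19597, 15924), (19598, 15927), (19599, 15931), (19600, 15932), (19601, 16498), (19602, 15939), (19603, 16500), (19604, 16189), (19605, 15943), (19606, 20572), (19607, 20583), (19608, 20573), (19609, 15945), (19610, 21913), (19611, 21914), (19612, 20574), (19613, 17378), (19614, 20575), (19615, 16503), (19616, 16504), (19617, 18935), (19618, 15953), (19619, 19203), (19620, 19212), (19621, 15955), (19622, 15958), (19623, 19213), (19624, 18913), (19625, 15963), (19626,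 21923), (19627, 19452), (19628, 15966), (19629, 19571), (19630, 21817), (19631, 21606), (19632, 15969), (19633, 15970), (19634, 21608), (19635, 21925), (19636, 21926), (19637, 20745), (19638, 20746), (19639, 15972), (19640, 21929), (19641, 21601), (19642, 15978), (19643, 15980), (19644, 15976), (19645, 19046), (19646, 21600), (19647, 19451)]
    ⟨e3 q19584 L232366 q15905, e3 q19585 L232378 q18559, e3 q19586 L232390 q19172, e3 q19587 L232400 q15912, e3 q19588 (flp_d L237350) q20161, e3 q19589 L232424 q15914, e3 q19590 (flp_d L252858) q21910, e3 q19591 L232440 q15919, e3 q19592 (flp_d L246747) q21235, e3 q19593 (flp_d L252874) q21911, e3 q19594 L232468 q18047, e3 q19595 L232474 q15921, e3 q19596 (flp_d L252050) q21829, e3 q19597 L232494 q15924, e3 q19598 L232506 q15927, e3 q19599 L232516 q15931, e3 q19600 L232526 q15932, e3 q19601 L232544 q16498, e3 q19602 L232552 q15939, e3 q19603 L232558 q16500, e3 q19604 L232568 q16189, e3 q19605 L232576 q15943, e3 q19606 (flp_d L240890) q20572, e3 q19607 (flp_d L241004) q20583,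 e3 q19608 (flp_d L240906) q20573, e3 q19609 (flp_d L232608) q15945, e3 q19610 (flp_d L252900) q21913, e3 q19611 (flp_d L252912) q21914, e3 q19612 (flp_d L240914) q20574, e3 q19613 L232644 q17378, e3 q19614 (flp_d L240920) q20575, e3 q19615 L232652 q16503, e3 q19616 L232664 q16504, e3 q19617 L232678 q18935, e3 q19618 L232682 q15953, e3 q19619 L232690 q19203, e3 q19620 (flp_d L232707) q19212, e3 q19621 (flp_d L232709) q15955, e3 q19622 L232727 q15958, e3 q19623 L232739 q19213, e3 q19624 L232751 q18913, e3 q19625 L232759 q15963, e3 q19626 L252998 q21923, e3 q19627 (flp_d L232779) q19452, e3 q19628 (flp_d L232783) q15966, e3 q19629 (flp_d L232803) q19571, e3 q19630 (flp_d L251930) q21817, e3 q19631 (flp_d L249941) q21606, e3 q19632 L232823 q15969, e3 q19633 L232831 q15970, e3 q19634 (flp_d L249957) q21608, e3 q19635 (flp_d L253020) q21925, e3 q19636 L253032 q21926, e3 q19637 (flp_d L242542) q20745, e3 q19638 (flp_d L242554) q20746, e3 q19639 (flp_d L232867) q15972, e3 q19640 (flp_d L253062) q21929, e3 q19641 (flp_d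 L249905) q21601, e3 q19642 L232883 q15978, e3 q19643 L232891 q15980, e3 q19644 L232901 q15976, e3 q19645 L232909 q19046, e3 q19646 (flp_d L249891) q21600, e3 q19647 L232931 q19451, trivial⟩ (by decide +kernel)

theorem ce_d_307 : ∀ r, r < 64 → sm gd (Qf (19648 + r)) = Qf (tab Gen.d (19648 + r)) :=
  edges_tab (sm gd) Qf (tab Gen.d) 19648 [(19648, 19073), (19649, 15982), (19650, 21933), (19651, 19445), (19652, 19426), (19653, 15986), (19654, 20585), (19655, 16520), (19656, 21935), (19657, 16521), (19658, 16953), (19659, 15995), (19660, 15992), (19661, 21937), (19662, 15997), (19663, 20134), (19664, 20133), (19665, 16310), (19666, 20599), (19667, 21306), (19668, 18046), (19669, 21877), (19670, 19716), (19671, 21941), (19672, 19718), (19673, 19719), (19674, 20321), (19675, 16015), (19676, 21237), (19677, 17003), (19678, 16019), (19679, 16017), (19680, 21265), (19681, 21947), (19682, 20108), (19683, 21946), (19684, 18383), (19685, 19855), (19686, 19856), (19687, 20457), (19688, 20458), (19689, 19857), (19690, 17179),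 (19691, 16793), (19692, 17443), (19693, 17225), (19694, 17231), (19695, 16538), (19696, 16032), (19697, 16033), (19698, 16034), (19699, 16877), (19700, 16035), (19701, 21006), (19702, 17013), (19703, 21958), (19704, 21962), (19705, 16038), (19706, 16039), (19707, 16037), (19708, 21337), (19709, 21592), (19710, 17959), (19711, 21964)]
    ⟨e3 q19648 L232945 q19073, e3 q19649 L232951 q15982, e3 q19650 (flp_d L253106) q21933, e3 q19651 L232965 q19445, e3 q19652 L232979 q19426, e3 q19653 L232983 q15986, e3 q19654 (flp_d L241024) q20585, e3 q19655 L232999 q16520, e3 q19656 L253126 q21935, e3 q19657 L233019 q16521, e3 q19658 (flp_d L233029) q16953, e3 q19659 L233035 q15995, e3 q19660 (flp_d L233039) q15992, e3 q19661 (flp_d L253156) q21937, e3 q19662 L233057 q15997, e3 q19663 (flp_d L237115) q20134, e3 q19664 (flp_d L237103) q20133, e3 q19665 L233089 q16310, e3 q19666 (flp_d L241158) q20599, e3 q19667 (flp_d L247369) q21306, e3 q19668 L233115 q18046, e3 q19669 (flp_d L252530) q21877, e3 q19670 (flp_d L233471) q19716,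 e3 q19671 L253200 q21941, e3 q19672 (flp_d L233491) q19718, e3 q19673 (flp_d L233501) q19719, e3 q19674 (flp_d L238637) q20321, e3 q19675 (flp_d L233157) q16015, e3 q19676 L246775 q21237, e3 q19677 L233177 q17003, e3 q19678 L233185 q16019, e3 q19679 (flp_d L233189) q16017, e3 q19680 (flp_d L247047) q21265, e3 q19681 (flp_d L253268) q21947, e3 q19682 (flp_d L236845) q20108, e3 q19683 (flp_d L253258) q21946, e3 q19684 L233225 q18383, e3 q19685 (flp_d L234633) q19855, e3 q19686 (flp_d L234647) q19856, e3 q19687 (flp_d L239933) q20457, e3 q19688 (flp_d L239939) q20458, e3 q19689 (flp_d L234657) q19857, e3 q19690 L233255 q17179, e3 q19691 L233261 q16793, e3 q19692 L233273 q17443, e3 q19693 L233283 q17225, e3 q19694 L233293 q17231, e3 q19695 L233297 q16538, e3 q19696 L233307 q16032, e3 q19697 L233319 q16033, e3 q19698 L233329 q16034, e3 q19699 (flp_d L233341) q16877, e3 q19700 (flp_d L233345) q16035, e3 q19701 (flp_d L244885) q21006, e3 q19702 L233361 q17013, e3 q19703 (flp_d L253363) q21958, e3 q19704 L253387 q21962,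 e3 q19705 L233381 q16038, e3 q19706 L233393 q16039, e3 q19707 (flp_d L233395) q16037, e3 q19708 (flp_d L247677) q21337, e3 q19709 (flp_d L249833) q21592, e3 q19710 L233419 q17959, e3 q19711 (flp_d L253415) q21964, trivial⟩ (by decide +kernel)

theorem ce_d_308 : ∀ r, r < 64 → sm gd (Qf (19712 + r)) = Qf (tab Gen.d (19712 + r)) :=
  edges_tab (sm gd) Qf (tab Gen.d) 19712 [(19712, 16502), (19713, 20480), (19714, 20900), (19715, 16044), (19716, 19670), (19717, 21969), (19718, 19672), (19719, 19673), (19720, 16046), (19721, 20848), (19722, 21398), (19723, 16053), (19724, 16054), (19725, 16055), (19726, 16051), (19727, 21338), (19728, 21596), (19729, 19034), (19730, 21008), (19731, 21031), (19732, 16712), (19733, 16555), (19734, 16556), (19735, 16061), (19736, 16062), (19737, 17722), (19738, 16064), (19739, 21972), (19740, 16063), (19741, 21973), (19742, 16836), (19743, 18543), (19744, 18379), (19745, 17634), (19746, 18380), (19747, 17045), (19748, 17794), (19749, 16854), (19750, 17403), (19751, 17401), (19752, 17101),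 (19753, 17938), (19754, 18080), (19755, 18382), (19756, 17936), (19757, 18689), (19758, 17939), (19759, 16459), (19760, 20601), (19761, 21317), (19762, 18075), (19763, 21779), (19764, 19810), (19765, 21979), (19766, 19812), (19767, 19813), (19768, 20301), (19769, 16091), (19770, 21238), (19771, 16978), (19772, 16094), (19773, 16093), (19774, 21985), (19775, 21274)]
    ⟨e3 q19712 L233435 q16502, e3 q19713 (flp_d L240109) q20480, e3 q19714 (flp_d L244109) q20900, e3 q19715 (flp_d L233459) q16044, e3 q19716 L233471 q19670, e3 q19717 L253465 q21969, e3 q19718 L233491 q19672, e3 q19719 L233501 q19673, e3 q19720 (flp_d L233503) q16046, e3 q19721 L243589 q20848, e3 q19722 (flp_d L248223) q21398, e3 q19723 L233525 q16053, e3 q19724 L233531 q16054, e3 q19725 L233545 q16055, e3 q19726 L233555 q16051, e3 q19727 (flp_d L247693) q21338, e3 q19728 (flp_d L249871) q21596, e3 q19729 (flp_d L233583) q19034, e3 q19730 (flp_d L244899) q21008, e3 q19731 (flp_d L245121) q21031, e3 q19732 L233597 q16712, e3 q19733 L233607 q16555, e3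 q19734 L233613 q16556, e3 q19735 L233623 q16061, e3 q19736 L233629 q16062, e3 q19737 (flp_d L233645) q17722, e3 q19738 L233649 q16064, e3 q19739 L253485 q21972, e3 q19740 (flp_d L233663) q16063, e3 q19741 (flp_d L253499) q21973, e3 q19742 L233679 q16836, e3 q19743 L233687 q18543, e3 q19744 L233695 q18379, e3 q19745 L233701 q17634, e3 q19746 L233713 q18380, e3 q19747 L233719 q17045, e3 q19748 (flp_d L233735) q17794, e3 q19749 L233741 q16854, e3 q19750 L233749 q17403, e3 q19751 L233761 q17401, e3 q19752 L233769 q17101, e3 q19753 L233781 q17938, e3 q19754 L233791 q18080, e3 q19755 L233803 q18382, e3 q19756 L233809 q17936, e3 q19757 L233823 q18689, e3 q19758 L233827 q17939, e3 q19759 L233837 q16459, e3 q19760 (flp_d L241186) q20601, e3 q19761 (flp_d L247473) q21317, e3 q19762 L233863 q18075, e3 q19763 (flp_d L251532) q21779, e3 q19764 (flp_d L234225) q19810, e3 q19765 L253565 q21979, e3 q19766 (flp_d L234245) q19812, e3 q19767 (flp_d L234253) q19813, e3 q19768 (flp_d L238481) q20301, e3 q19769 (flp_d L233905) q16091,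 e3 q19770 L246781 q21238, e3 q19771 L233925 q16978, e3 q19772 L233933 q16094, e3 q19773 (flp_d L233937) q16093, e3 q19774 (flp_d L253633) q21985, e3 q19775 (flp_d L247114) q21274, trivial⟩ (by decide +kernel)

theorem ce_d_309 : ∀ r, r < 64 → sm gd (Qf (19776 + r)) = Qf (tab Gen.d (19776 + r)) :=
  edges_tab (sm gd) Qf (tab Gen.d) 19776 [(19776, 21984), (19777, 20116), (19778, 18445), (19779, 19874), (19780, 19875), (19781, 20515), (19782, 20516), (19783, 17098), (19784, 19876), (19785, 16819), (19786, 17468), (19787, 17307), (19788, 17301), (19789, 16573), (19790, 16108), (19791, 16109), (19792, 16110), (19793, 16884), (19794, 16111), (19795, 20980), (19796, 21996), (19797, 16988), (19798, 22000), (19799, 16114), (19800, 16115), (19801, 16113), (19802, 21710), (19803, 21345), (19804, 22002), (19805, 17964), (19806, 16368), (19807, 20876), (19808, 20538), (19809, 16120), (19810, 19764), (19811, 22007), (19812, 19766), (19813, 19767), (19814, 16122), (19815, 21442), (19816, 20855), (19817, 16128), (19818, 16129),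 (19819, 16131), (19820, 16126), (19821, 21552), (19822, 19171), (19823, 21346), (19824, 21068), (19825, 16703), (19826, 20982), (19827, 16590), (19828, 16591), (19829, 16136), (19830, 17652), (19831, 16138), (19832, 16140), (19833, 22010), (19834, 16137), (19835, 22011), (19836, 18551), (19837, 16843), (19838, 17706), (19839, 18441)]
    ⟨e3 q19776 (flp_d L253623) q21984, e3 q19777 (flp_d L236929) q20116, e3 q19778 L233973 q18445, e3 q19779 (flp_d L234779) q19874, e3 q19780 (flp_d L234789) q19875, e3 q19781 (flp_d L240413) q20515, e3 q19782 (flp_d L240425) q20516, e3 q19783 L233995 q17098, e3 q19784 (flp_d L234803) q19876, e3 q19785 L234015 q16819, e3 q19786 L234027 q17468, e3 q19787 L234037 q17307, e3 q19788 L234045 q17301, e3 q19789 L234051 q16573, e3 q19790 L234061 q16108, e3 q19791 L234071 q16109, e3 q19792 L234085 q16110, e3 q19793 (flp_d L234095) q16884, e3 q19794 (flp_d L234099) q16111, e3 q19795 (flp_d L244700) q20980, e3 q19796 (flp_d L253730) q21996, e3 q19797 L234117 q16988, e3 q19798 L253754 q22000,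 e3 q19799 L234135 q16114, e3 q19800 L234143 q16115, e3 q19801 (flp_d L234149) q16113, e3 q19802 (flp_d L250851) q21710, e3 q19803 (flp_d L247761) q21345, e3 q19804 (flp_d L253782) q22002, e3 q19805 L234175 q17964, e3 q19806 L234189 q16368, e3 q19807 (flp_d L243865) q20876, e3 q19808 (flp_d L240597) q20538, e3 q19809 (flp_d L234213) q16120, e3 q19810 L234225 q19764, e3 q19811 L253832 q22007, e3 q19812 L234245 q19766, e3 q19813 L234253 q19767, e3 q19814 (flp_d L234257) q16122, e3 q19815 (flp_d L248593) q21442, e3 q19816 L243657 q20855, e3 q19817 L234279 q16128, e3 q19818 L234291 q16129, e3 q19819 L234303 q16131, e3 q19820 L234309 q16126, e3 q19821 (flp_d L249530) q21552, e3 q19822 (flp_d L234327) q19171, e3 q19823 (flp_d L247777) q21346, e3 q19824 (flp_d L245427) q21068, e3 q19825 L234349 q16703, e3 q19826 (flp_d L244714) q20982, e3 q19827 L234361 q16590, e3 q19828 L234371 q16591, e3 q19829 L234377 q16136, e3 q19830 (flp_d L234393) q17652, e3 q19831 L234401 q16138, e3 q19832 L234409 q16140, e3 q19833 L253852 q22010,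 e3 q19834 (flp_d L234425) q16137, e3 q19835 (flp_d L253868) q22011, e3 q19836 L234443 q18551, e3 q19837 L234449 q16843, e3 q19838 L234457 q17706, e3 q19839 L234469 q18441, trivial⟩ (by decide +kernel)

theorem ce_d_310 : ∀ r, r < 64 → sm gd (Qf (19840 + r)) = Qf (tab Gen.d (19840 + r)) :=
  edges_tab (sm gd) Qf (tab Gen.d) 19840 [(19840, 18442), (19841, 17135), (19842, 17421), (19843, 17419), (19844, 17778), (19845, 16863), (19846, 17948), (19847, 17181), (19848, 17946), (19849, 18678), (19850, 17949), (19851, 18134), (19852, 18444), (19853, 17100), (19854, 17241), (19855, 19685), (19856, 19686), (19857, 19689), (19858, 20559), (19859, 17388), (19860, 16159), (19861, 16160), (19862, 22020), (19863, 22021), (19864, 19952), (19865, 17991), (19866, 18761), (19867, 20551), (19868, 20552), (19869, 16165), (19870, 16166), (19871, 22028), (19872, 17094), (19873, 17317), (19874, 19779), (19875, 19780), (19876, 19784), (19877, 17363), (19878, 16174), (19879, 16175), (19880, 22034), (19881, 22035), (19882, 20008), (19883,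 18812), (19884, 17999), (19885, 20576), (19886, 20577), (19887, 16180), (19888, 16181), (19889, 22042), (19890, 18582), (19891, 18593), (19892, 16198), (19893, 16203), (19894, 16258), (19895, 21448), (19896, 21453), (19897, 21459), (19898, 22044), (19899, 21464), (19900, 21467), (19901, 20819), (19902, 21469), (19903, 16225)]
    ⟨e3 q19840 L234479 q18442, e3 q19841 L234485 q17135, e3 q19842 L234499 q17421, e3 q19843 L234513 q17419, e3 q19844 (flp_d L234527) q17778, e3 q19845 L234533 q16863, e3 q19846 L234541 q17948, e3 q19847 L234549 q17181, e3 q19848 L234561 q17946, e3 q19849 L234575 q18678, e3 q19850 L234579 q17949, e3 q19851 L234587 q18134, e3 q19852 L234599 q18444, e3 q19853 L234609 q17100, e3 q19854 L234619 q17241, e3 q19855 L234633 q19685, e3 q19856 L234647 q19686, e3 q19857 L234657 q19689, e3 q19858 (flp_d L240774) q20559, e3 q19859 L234665 q17388, e3 q19860 L234677 q16159, e3 q19861 L234685 q16160, e3 q19862 (flp_d L253962) q22020, e3 q19863 (flp_d L253966) q22021, e3 q19864 (flp_d L235501) q19952, e3 q19865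 L234705 q17991, e3 q19866 L234715 q18761, e3 q19867 (flp_d L240706) q20551, e3 q19868 (flp_d L240718) q20552, e3 q19869 L234733 q16165, e3 q19870 L234741 q16166, e3 q19871 (flp_d L254044) q22028, e3 q19872 L234755 q17094, e3 q19873 L234765 q17317, e3 q19874 L234779 q19779, e3 q19875 L234789 q19780, e3 q19876 L234803 q19784, e3 q19877 L234813 q17363, e3 q19878 L234823 q16174, e3 q19879 L234831 q16175, e3 q19880 (flp_d L254102) q22034, e3 q19881 (flp_d L254112) q22035, e3 q19882 (flp_d L236035) q20008, e3 q19883 L234851 q18812, e3 q19884 L234861 q17999, e3 q19885 (flp_d L240936) q20576, e3 q19886 (flp_d L240948) q20577, e3 q19887 L234879 q16180, e3 q19888 L234889 q16181, e3 q19889 (flp_d L254186) q22042, e3 q19890 L234901 q18582, e3 q19891 L234913 q18593, e3 q19892 L234927 q16198, e3 q19893 L234939 q16203, e3 q19894 L234953 q16258, e3 q19895 (flp_d L248644) q21448, e3 q19896 (flp_d L248690) q21453, e3 q19897 (flp_d L248732) q21459, e3 q19898 L254202 q22044, e3 q19899 (flp_d L248764) q21464, e3 q19900 (flp_d L248790)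 q21467, e3 q19901 (flp_d L243303) q20819, e3 q19902 (flp_d L248816) q21469, e3 q19903 L235037 q16225, trivial⟩ (by decide +kernel)

theorem ce_d_311 : ∀ r, r < 64 → sm gd (Qf (19904 + r)) = Qf (tab Gen.d (19904 + r)) :=
  edges_tab (sm gd) Qf (tab Gen.d) 19904 [(19904, 21468), (19905, 21484), (19906, 17615), (19907, 16229), (19908, 21490), (19909, 21495), (19910, 21501), (19911, 22046), (19912, 21506), (19913, 21509), (19914, 20820), (19915, 21511), (19916, 16255), (19917, 21510), (19918, 21525), (19919, 17587), (19920, 20360), (19921, 20904), (19922, 17534), (19923, 21761), (19924, 16654), (19925, 17554), (19926, 21771), (19927, 16747), (19928, 21778), (19929, 18597), (19930, 16305), (19931, 19307), (19932, 16750), (19933, 18303), (19934, 19549), (19935, 16332), (19936, 21789), (19937, 16338), (19938, 22049), (19939, 18221), (19940, 16341), (19941, 16342), (19942, 22051), (19943, 22052), (19944, 21683), (19945, 16348), (19946, 22053), (19947, 21820), (19948, 21063), (19949, 22054), (19950, 16365), (19951, 21315),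 (19952, 19864), (19953, 18694), (19954, 16374), (19955, 22056), (19956, 22057), (19957, 16378), (19958, 16379), (19959, 22055), (19960, 22058), (19961, 18683), (19962, 16386), (19963, 22059), (19964, 16390), (19965, 22060), (19966, 22061), (19967, 16394)]
    ⟨e3 q19904 (flp_d L248808) q21468, e3 q19905 (flp_d L248927) q21484, e3 q19906 (flp_d L235065) q17615, e3 q19907 L235073 q16229, e3 q19908 (flp_d L248980) q21490, e3 q19909 (flp_d L249028) q21495, e3 q19910 (flp_d L249072) q21501, e3 q19911 L254226 q22046, e3 q19912 (flp_d L249106) q21506, e3 q19913 (flp_d L249136) q21509, e3 q19914 (flp_d L243317) q20820, e3 q19915 (flp_d L249162) q21511, e3 q19916 L235157 q16255, e3 q19917 (flp_d L249154) q21510, e3 q19918 (flp_d L249279) q21525, e3 q19919 (flp_d L235185) q17587, e3 q19920 (flp_d L239059) q20360, e3 q19921 (flp_d L244145) q20904, e3 q19922 L235209 q17534, e3 q19923 (flp_d L251333) q21761, e3 q19924 L235229 q16654, e3 q19925 L235237 q17554, e3 q19926 (flp_d L251431) q21771, e3 q19927 L235254 q16747, e3 q19928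 (flp_d L251518) q21778, e3 q19929 L235282 q18597, e3 q19930 (flp_d L235284) q16305, e3 q19931 L235302 q19307, e3 q19932 L235316 q16750, e3 q19933 L235334 q18303, e3 q19934 (flp_d L235344) q19549, e3 q19935 (flp_d L235346) q16332, e3 q19936 (flp_d L251632) q21789, e3 q19937 (flp_d L235362) q16338, e3 q19938 (flp_d L254267) q22049, e3 q19939 (flp_d L235390) q18221, e3 q19940 L235396 q16341, e3 q19941 L235402 q16342, e3 q19942 (flp_d L254288) q22051, e3 q19943 (flp_d L254300) q22052, e3 q19944 (flp_d L250627) q21683, e3 q19945 L235436 q16348, e3 q19946 (flp_d L254312) q22053, e3 q19947 (flp_d L251954) q21820, e3 q19948 (flp_d L245361) q21063, e3 q19949 L254316 q22054, e3 q19950 (flp_d L235479) q16365, e3 q19951 (flp_d L247455) q21315, e3 q19952 L235501 q19864, e3 q19953 (flp_d L235513) q18694, e3 q19954 (flp_d L235515) q16374, e3 q19955 (flp_d L254344) q22056, e3 q19956 (flp_d L254356) q22057, e3 q19957 L235549 q16378, e3 q19958 L235555 q16379, e3 q19959 (flp_d L254336) q22055, e3 q19960 (flp_d L254370) q22058, e3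 q19961 (flp_d L235591) q18683, e3 q19962 (flp_d L235593) q16386, e3 q19963 L254378 q22059, e3 q19964 (flp_d L235617) q16390, e3 q19965 (flp_d L254396) q22060, e3 q19966 (flp_d L254408) q22061, e3 q19967 L235651 q16394, trivial⟩ (by decide +kernel)

theorem ce_d_312 : ∀ r, r < 64 → sm gd (Qf (19968 + r)) = Qf (tab Gen.d (19968 + r)) :=
  edges_tab (sm gd) Qf (tab Gen.d) 19968 [(19968, 16395), (19969, 16396), (19970, 21304), (19971, 16399), (19972, 16400), (19973, 22063), (19974, 22062), (19975, 16405), (19976, 16406), (19977, 21319), (19978, 16412), (19979, 21860), (19980, 16420), (19981, 20379), (19982, 20880), (19983, 17538), (19984, 21865), (19985, 16672), (19986, 17555), (19987, 21775), (19988, 21876), (19989, 18588), (19990, 16454), (19991, 19534), (19992, 18244), (19993, 19323), (19994, 16474), (19995, 21765), (19996, 16479), (19997, 22065), (19998, 18196), (19999, 16482), (20000, 16483), (20001, 22067), (20002, 22068), (20003, 21557), (20004, 16488), (20005, 22069), (20006, 21905), (20007, 21024), (20008,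 19882), (20009, 16506), (20010, 16510), (20011, 16511), (20012, 16514), (20013, 16515), (20014, 21308), (20015, 16519), (20016, 21934), (20017, 16527), (20018, 16530), (20019, 22070), (20020, 21185), (20021, 16533), (20022, 18602), (20023, 22072), (20024, 16542), (20025, 16544), (20026, 22074), (20027, 18722), (20028, 16547), (20029, 22076), (20030, 16549), (20031, 22078)]
    ⟨e3 q19968 L235659 q16395, e3 q19969 (flp_d L235661) q16396, e3 q19970 (flp_d L247351) q21304, e3 q19971 L235683 q16399, e3 q19972 L235691 q16400, e3 q19973 (flp_d L254432) q22063, e3 q19974 (flp_d L254424) q22062, e3 q19975 L235719 q16405, e3 q19976 L235729 q16406, e3 q19977 (flp_d L247491) q21319, e3 q19978 L235743 q16412, e3 q19979 (flp_d L252341) q21860, e3 q19980 L235765 q16420, e3 q19981 L239213 q20379, e3 q19982 (flp_d L243901) q20880, e3 q19983 L235795 q17538, e3 q19984 (flp_d L252393) q21865, e3 q19985 L235815 q16672, e3 q19986 L235823 q17555, e3 q19987 (flp_d L251482) q21775, e3 q19988 (flp_d L252516) q21876, e3 q19989 L235854 q18588,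 e3 q19990 (flp_d L235856) q16454, e3 q19991 L235874 q19534, e3 q19992 L235892 q18244, e3 q19993 (flp_d L235902) q19323, e3 q19994 (flp_d L235904) q16474, e3 q19995 (flp_d L251369) q21765, e3 q19996 (flp_d L235920) q16479, e3 q19997 (flp_d L254457) q22065, e3 q19998 (flp_d L235948) q18196, e3 q19999 L235956 q16482, e3 q20000 L235962 q16483, e3 q20001 (flp_d L254482) q22067, e3 q20002 (flp_d L254492) q22068, e3 q20003 (flp_d L249579) q21557, e3 q20004 L235996 q16488, e3 q20005 (flp_d L254504) q22069, e3 q20006 (flp_d L252810) q21905, e3 q20007 (flp_d L245037) q21024, e3 q20008 L236035 q19882, e3 q20009 (flp_d L236037) q16506, e3 q20010 L236055 q16510, e3 q20011 L236061 q16511, e3 q20012 L236067 q16514, e3 q20013 L236075 q16515, e3 q20014 (flp_d L247387) q21308, e3 q20015 L236091 q16519, e3 q20016 (flp_d L253118) q21934, e3 q20017 L236115 q16527, e3 q20018 (flp_d L236123) q16530, e3 q20019 (flp_d L254514) q22070, e3 q20020 (flp_d L246340) q21185, e3 q20021 L236149 q16533, e3 q20022 L236159 q18602, e3 q20023 L254532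 q22072, e3 q20024 (flp_d L236165) q16542, e3 q20025 (flp_d L236175) q16544, e3 q20026 (flp_d L254558) q22074, e3 q20027 (flp_d L236197) q18722, e3 q20028 L236203 q16547, e3 q20029 L254570 q22076, e3 q20030 L236213 q16549, e3 q20031 (flp_d L254584) q22078, trivial⟩ (by decide +kernel)

theorem ce_d_313 : ∀ r, r < 64 → sm gd (Qf (20032 + r)) = Qf (tab Gen.d (20032 + r)) :=
  edges_tab (sm gd) Qf (tab Gen.d) 20032 [(20032, 22079), (20033, 16551), (20034, 21341), (20035, 16553), (20036, 16554), (20037, 18183), (20038, 16565), (20039, 22083), (20040, 21132), (20041, 16568), (20042, 18608), (20043, 22085), (20044, 16577), (20045, 16579), (20046, 22087), (20047, 18734), (20048, 16582), (20049, 22089), (20050, 16584), (20051, 22091), (20052, 22092), (20053, 16586), (20054, 21349), (20055, 16588), (20056, 16589), (20057, 18131), (20058, 16601), (20059, 16604), (20060, 20072), (20061, 16606), (20062, 16607), (20063, 22100), (20064, 22101), (20065, 16614), (20066, 16612), (20067, 22104), (20068, 22102), (20069, 20081), (20070,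 22103), (20071, 16617), (20072, 20060), (20073, 16619), (20074, 22112), (20075, 16624), (20076, 16627), (20077, 20083), (20078, 16631), (20079, 22115), (20080, 22099), (20081, 20069), (20082, 16634), (20083, 20077), (20084, 20669), (20085, 16648), (20086, 16650), (20087, 20208), (20088, 17535), (20089, 22124), (20090, 16656), (20091, 18164), (20092, 20644), (20093, 16666), (20094, 16668), (20095, 20206)]
    ⟨e3 q20032 L254592 q22079, e3 q20033 (flp_d L236229) q16551, e3 q20034 (flp_d L247725) q21341, e3 q20035 L236243 q16553, e3 q20036 L236249 q16554, e3 q20037 L236255 q18183, e3 q20038 (flp_d L236262) q16565, e3 q20039 (flp_d L254624) q22083, e3 q20040 (flp_d L245913) q21132, e3 q20041 L236288 q16568, e3 q20042 L236298 q18608, e3 q20043 L254642 q22085, e3 q20044 (flp_d L236304) q16577, e3 q20045 (flp_d L236314) q16579, e3 q20046 (flp_d L254668) q22087, e3 q20047 (flp_d L236336) q18734, e3 q20048 L236342 q16582, e3 q20049 L254680 q22089, e3 q20050 L236352 q16584, e3 q20051 (flp_d L254694) q22091, e3 q20052 L254702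 q22092, e3 q20053 (flp_d L236368) q16586, e3 q20054 (flp_d L247809) q21349, e3 q20055 L236382 q16588, e3 q20056 L236388 q16589, e3 q20057 L236394 q18131, e3 q20058 (flp_d L236401) q16601, e3 q20059 (flp_d L236413) q16604, e3 q20060 (flp_d L236514) q20072, e3 q20061 L236429 q16606, e3 q20062 L236437 q16607, e3 q20063 (flp_d L254766) q22100, e3 q20064 (flp_d L254776) q22101, e3 q20065 L236468 q16614, e3 q20066 L236474 q16612, e3 q20067 (flp_d L254808) q22104, e3 q20068 (flp_d L254788) q22102, e3 q20069 (flp_d L236583) q20081, e3 q20070 (flp_d L254800) q22103, e3 q20071 L236504 q16617, e3 q20072 L236514 q20060, e3 q20073 L236520 q16619, e3 q20074 (flp_d L254872) q22112, e3 q20075 (flp_d L236537) q16624, e3 q20076 (flp_d L236549) q16627, e3 q20077 (flp_d L236603) q20083, e3 q20078 L236567 q16631, e3 q20079 (flp_d L254897) q22115, e3 q20080 (flp_d L254758) q22099, e3 q20081 L236583 q20069, e3 q20082 L236591 q16634, e3 q20083 L236603 q20077, e3 q20084 (flp_d L241780) q20669, e3 q20085 L236621 q16648, e3 q20086 (flp_d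 L236627) q16650, e3 q20087 (flp_d L237772) q20208, e3 q20088 L236651 q17535, e3 q20089 L254966 q22124, e3 q20090 (flp_d L236669) q16656, e3 q20091 (flp_d L236685) q18164, e3 q20092 (flp_d L241564) q20644, e3 q20093 L236703 q16666, e3 q20094 (flp_d L236709) q16668, e3 q20095 (flp_d L237751) q20206, trivial⟩ (by decide +kernel)

theorem ce_d_314 : ∀ r, r < 64 → sm gd (Qf (20096 + r)) = Qf (tab Gen.d (20096 + r)) :=
  edges_tab (sm gd) Qf (tab Gen.d) 20096 [(20096, 17539), (20097, 22128), (20098, 16674), (20099, 18110), (20100, 21003), (20101, 20977), (20102, 16694), (20103, 16683), (20104, 22130), (20105, 17565), (20106, 16893), (20107, 16686), (20108, 19682), (20109, 20679), (20110, 16695), (20111, 16689), (20112, 22132), (20113, 17593), (20114, 16904), (20115, 16692), (20116, 19777), (20117, 20716), (20118, 16714), (20119, 16697), (20120, 18546), (20121, 21671), (20122, 19137), (20123, 19173), (20124, 20806), (20125, 16720), (20126, 16706), (20127, 18553), (20128, 21541), (20129, 18998), (20130, 19036), (20131,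 20816), (20132, 16716), (20133, 19664), (20134, 19663), (20135, 16722), (20136, 19464), (20137, 19463), (20138, 16726), (20139, 18376), (20140, 20714), (20141, 16736), (20142, 16730), (20143, 18436), (20144, 20677), (20145, 16739), (20146, 21992), (20147, 16734), (20148, 22144), (20149, 21954), (20150, 16737), (20151, 22147), (20152, 16753), (20153, 21143), (20154, 16755), (20155, 18410), (20156, 19373), (20157, 16761), (20158, 21192), (20159, 16763)]
    ⟨e3 q20096 L236733 q17539, e3 q20097 L255012 q22128, e3 q20098 (flp_d L236751) q16674, e3 q20099 (flp_d L236767) q18110, e3 q20100 (flp_d L244871) q21003, e3 q20101 (flp_d L244686) q20977, e3 q20102 L236787 q16694, e3 q20103 (flp_d L236795) q16683, e3 q20104 (flp_d L255040) q22130, e3 q20105 L236823 q17565, e3 q20106 L236835 q16893, e3 q20107 L236839 q16686, e3 q20108 L236845 q19682, e3 q20109 (flp_d L241890) q20679, e3 q20110 L236871 q16695, e3 q20111 (flp_d L236879) q16689, e3 q20112 (flp_d L255064) q22132, e3 q20113 L236907 q17593, e3 q20114 L236919 q16904,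 e3 q20115 L236923 q16692, e3 q20116 L236929 q19777, e3 q20117 (flp_d L242254) q20716, e3 q20118 L236951 q16714, e3 q20119 (flp_d L236961) q16697, e3 q20120 L236979 q18546, e3 q20121 (flp_d L250494) q21671, e3 q20122 L236993 q19137, e3 q20123 L237003 q19173, e3 q20124 (flp_d L243137) q20806, e3 q20125 L237021 q16720, e3 q20126 (flp_d L237031) q16706, e3 q20127 L237049 q18553, e3 q20128 (flp_d L249410) q21541, e3 q20129 L237063 q18998, e3 q20130 L237073 q19036, e3 q20131 (flp_d L243263) q20816, e3 q20132 (flp_d L237089) q16716, e3 q20133 L237103 q19664, e3 q20134 L237115 q19663, e3 q20135 (flp_d L237123) q16722, e3 q20136 L237137 q19464, e3 q20137 L237149 q19463, e3 q20138 (flp_d L237157) q16726, e3 q20139 L237173 q18376, e3 q20140 (flp_d L242232) q20714, e3 q20141 L237185 q16736, e3 q20142 (flp_d L237191) q16730, e3 q20143 L237207 q18436, e3 q20144 (flp_d L241870) q20677, e3 q20145 L237219 q16739, e3 q20146 (flp_d L253681) q21992, e3 q20147 (flp_d L237239) q16734, e3 q20148 L255188 q22144, e3 q20149 (flp_d L253314)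 q21954, e3 q20150 (flp_d L237265) q16737, e3 q20151 L255214 q22147, e3 q20152 L237281 q16753, e3 q20153 L246000 q21143, e3 q20154 L237291 q16755, e3 q20155 (flp_d L237305) q18410, e3 q20156 L237309 q19373, e3 q20157 L237322 q16761, e3 q20158 L246399 q21192, e3 q20159 L237332 q16763, trivial⟩ (by decide +kernel)

theorem ce_d_315 : ∀ r, r < 64 → sm gd (Qf (20160 + r)) = Qf (tab Gen.d (20160 + r)) :=
  edges_tab (sm gd) Qf (tab Gen.d) 20160 [(20160, 18468), (20161, 19588), (20162, 16769), (20163, 16774), (20164, 16779), (20165, 16852), (20166, 21548), (20167, 21253), (20168, 16853), (20169, 20605), (20170, 16787), (20171, 21508), (20172, 18826), (20173, 18915), (20174, 16792), (20175, 16795), (20176, 16796), (20177, 18802), (20178, 21497), (20179, 18939), (20180, 16802), (20181, 16805), (20182, 16861), (20183, 21677), (20184, 21242), (20185, 16862), (20186, 20606), (20187, 16813), (20188, 21466), (20189, 18775), (20190, 18860), (20191, 16818), (20192, 16821), (20193, 16822), (20194, 18751), (20195, 21455), (20196,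 18884), (20197, 16828), (20198, 16830), (20199, 17766), (20200, 19254), (20201, 21974), (20202, 16837), (20203, 17786), (20204, 19488), (20205, 22012), (20206, 20095), (20207, 17507), (20208, 20087), (20209, 17502), (20210, 16849), (20211, 16851), (20212, 16860), (20213, 16869), (20214, 16874), (20215, 21957), (20216, 21956), (20217, 16881), (20218, 21994), (20219, 21995), (20220, 16890), (20221, 22168), (20222, 21885), (20223, 16895)]
    ⟨e3 q20160 (flp_d L237346) q18468, e3 q20161 L237350 q19588, e3 q20162 (flp_d L237361) q16769, e3 q20163 (flp_d L237367) q16774, e3 q20164 L237379 q16779, e3 q20165 L237387 q16852, e3 q20166 (flp_d L249490) q21548, e3 q20167 (flp_d L246929) q21253, e3 q20168 L237413 q16853, e3 q20169 (flp_d L241226) q20605, e3 q20170 L237423 q16787, e3 q20171 (flp_d L249122) q21508, e3 q20172 L237443 q18826, e3 q20173 L237449 q18915, e3 q20174 L237455 q16792, e3 q20175 L237467 q16795, e3 q20176 L237475 q16796, e3 q20177 L237489 q18802, e3 q20178 (flp_d L249042) q21497, e3 q20179 L237507 q18939,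 e3 q20180 L237513 q16802, e3 q20181 L237525 q16805, e3 q20182 L237533 q16861, e3 q20183 (flp_d L250562) q21677, e3 q20184 (flp_d L246821) q21242, e3 q20185 L237559 q16862, e3 q20186 (flp_d L241240) q20606, e3 q20187 L237569 q16813, e3 q20188 (flp_d L248780) q21466, e3 q20189 L237589 q18775, e3 q20190 L237595 q18860, e3 q20191 L237601 q16818, e3 q20192 L237613 q16821, e3 q20193 L237623 q16822, e3 q20194 L237635 q18751, e3 q20195 (flp_d L248704) q21455, e3 q20196 L237653 q18884, e3 q20197 L237659 q16828, e3 q20198 (flp_d L237665) q16830, e3 q20199 L237679 q17766, e3 q20200 L237691 q19254, e3 q20201 (flp_d L253507) q21974, e3 q20202 (flp_d L237707) q16837, e3 q20203 L237721 q17786, e3 q20204 L237733 q19488, e3 q20205 (flp_d L253878) q22012, e3 q20206 L237751 q20095, e3 q20207 L237764 q17507, e3 q20208 L237772 q20087, e3 q20209 L237785 q17502, e3 q20210 L237793 q16849, e3 q20211 L237806 q16851, e3 q20212 L237821 q16860, e3 q20213 L237831 q16869, e3 q20214 L237843 q16874, e3 q20215 (flp_d L253349) q21957, e3 q20216 (flp_d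 L253338) q21956, e3 q20217 L237868 q16881, e3 q20218 (flp_d L253705) q21994, e3 q20219 (flp_d L253719) q21995, e3 q20220 L237893 q16890, e3 q20221 (flp_d L255404) q22168, e3 q20222 (flp_d L252612) q21885, e3 q20223 L237911 q16895, trivial⟩ (by decide +kernel)

theorem ce_d_316 : ∀ r, r < 64 → sm gd (Qf (20224 + r)) = Qf (tab Gen.d (20224 + r)) :=
  edges_tab (sm gd) Qf (tab Gen.d) 20224 [(20224, 22170), (20225, 22172), (20226, 21092), (20227, 16901), (20228, 22175), (20229, 21791), (20230, 16906), (20231, 22177), (20232, 22179), (20233, 21147), (20234, 16909), (20235, 16911), (20236, 20625), (20237, 22182), (20238, 21016), (20239, 22183), (20240, 16917), (20241, 22185), (20242, 18231), (20243, 18230), (20244, 18232), (20245, 21440), (20246, 19090), (20247, 21121), (20248, 20652), (20249, 22189), (20250, 20990), (20251, 22190), (20252, 16929), (20253, 22192), (20254, 18206), (20255, 18205), (20256, 18207), (20257, 21396), (20258, 19224), (20259, 21174), (20260, 22037), (20261, 17390), (20262, 16941), (20263, 21862),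 (20264, 16943), (20265, 16944), (20266, 21387), (20267, 16945), (20268, 16946), (20269, 21190), (20270, 16948), (20271, 22023), (20272, 17394), (20273, 16956), (20274, 21936), (20275, 16958), (20276, 16959), (20277, 21431), (20278, 16960), (20279, 16961), (20280, 21141), (20281, 16963), (20282, 22207), (20283, 16968), (20284, 22208), (20285, 16970), (20286, 20339), (20287, 18399)]
    ⟨e3 q20224 (flp_d L255416) q22170, e3 q20225 (flp_d L255428) q22172, e3 q20226 (flp_d L245613) q21092, e3 q20227 L237935 q16901, e3 q20228 (flp_d L255456) q22175, e3 q20229 (flp_d L251658) q21791, e3 q20230 L237953 q16906, e3 q20231 (flp_d L255468) q22177, e3 q20232 (flp_d L255480) q22179, e3 q20233 (flp_d L246034) q21147, e3 q20234 L237977 q16909, e3 q20235 L237987 q16911, e3 q20236 (flp_d L241422) q20625, e3 q20237 L255506 q22182, e3 q20238 (flp_d L244969) q21016, e3 q20239 L255510 q22183, e3 q20240 (flp_d L238007) q16917, e3 q20241 (flp_d L255532) q22185, e3 q20242 L238025 q18231, e3 q20243 L238033 q18230, e3 q20244 L238039 q18232,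 e3 q20245 L248579 q21440, e3 q20246 L238051 q19090, e3 q20247 (flp_d L245829) q21121, e3 q20248 (flp_d L241656) q20652, e3 q20249 L255569 q22189, e3 q20250 (flp_d L244784) q20990, e3 q20251 L255573 q22190, e3 q20252 (flp_d L238081) q16929, e3 q20253 (flp_d L255595) q22192, e3 q20254 L238099 q18206, e3 q20255 L238113 q18205, e3 q20256 L238119 q18207, e3 q20257 L248209 q21396, e3 q20258 L238131 q19224, e3 q20259 (flp_d L246240) q21174, e3 q20260 (flp_d L254130) q22037, e3 q20261 L238155 q17390, e3 q20262 L238167 q16941, e3 q20263 (flp_d L252365) q21862, e3 q20264 L238179 q16943, e3 q20265 (flp_d L238187) q16944, e3 q20266 (flp_d L248131) q21387, e3 q20267 (flp_d L238201) q16945, e3 q20268 (flp_d L238211) q16946, e3 q20269 L246377 q21190, e3 q20270 L238229 q16948, e3 q20271 (flp_d L253988) q22023, e3 q20272 L238247 q17394, e3 q20273 L238259 q16956, e3 q20274 (flp_d L253142) q21936, e3 q20275 L238273 q16958, e3 q20276 (flp_d L238281) q16959, e3 q20277 (flp_d L248501) q21431, e3 q20278 (flp_d L238297) q16960, e3 q20279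 (flp_d L238307) q16961, e3 q20280 L245978 q21141, e3 q20281 L238325 q16963, e3 q20282 L255769 q22207, e3 q20283 (flp_d L238343) q16968, e3 q20284 (flp_d L255783) q22208, e3 q20285 (flp_d L238359) q16970, e3 q20286 L238839 q20339, e3 q20287 L238370 q18399, trivial⟩ (by decide +kernel)

theorem ce_d_317 : ∀ r, r < 64 → sm gd (Qf (20288 + r)) = Qf (tab Gen.d (20288 + r)) :=
  edges_tab (sm gd) Qf (tab Gen.d) 20288 [(20288, 16972), (20289, 18401), (20290, 22211), (20291, 16974), (20292, 22214), (20293, 22215), (20294, 21982), (20295, 22216), (20296, 16980), (20297, 18320), (20298, 20713), (20299, 16983), (20300, 22220), (20301, 19768), (20302, 22222), (20303, 16993), (20304, 22223), (20305, 16995), (20306, 20402), (20307, 18461), (20308, 16997), (20309, 18403), (20310, 22226), (20311, 16999), (20312, 22229), (20313, 22230), (20314, 21944), (20315, 22231), (20316, 17005), (20317, 18263), (20318, 20676), (20319, 17008), (20320, 22235), (20321, 19674), (20322, 17027), (20323, 17028), (20324, 17026), (20325, 22238), (20326,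 17030), (20327, 17398), (20328, 17399), (20329, 17035), (20330, 17036), (20331, 17125), (20332, 17038), (20333, 17039), (20334, 17037), (20335, 17044), (20336, 17127), (20337, 17129), (20338, 17047), (20339, 20286), (20340, 17050), (20341, 17051), (20342, 22242), (20343, 20835), (20344, 17054), (20345, 17730), (20346, 17728), (20347, 17402), (20348, 17404), (20349, 17422), (20350, 17067), (20351, 17662)]
    ⟨e3 q20288 L238376 q16972, e3 q20289 L238384 q18401, e3 q20290 L255808 q22211, e3 q20291 (flp_d L238403) q16974, e3 q20292 (flp_d L255849) q22214, e3 q20293 (flp_d L255861) q22215, e3 q20294 (flp_d L253601) q21982, e3 q20295 L255867 q22216, e3 q20296 (flp_d L238437) q16980, e3 q20297 L238451 q18320, e3 q20298 (flp_d L242226) q20713, e3 q20299 L238467 q16983, e3 q20300 (flp_d L255907) q22220, e3 q20301 L238481 q19768, e3 q20302 L255926 q22222, e3 q20303 (flp_d L238499) q16993, e3 q20304 (flp_d L255940) q22223, e3 q20305 (flp_d L238515) q16995, e3 q20306 L239429 q20402, e3 q20307 L238526 q18461, e3 q20308 L238532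 q16997, e3 q20309 L238540 q18403, e3 q20310 L255965 q22226, e3 q20311 (flp_d L238559) q16999, e3 q20312 (flp_d L256004) q22229, e3 q20313 (flp_d L256016) q22230, e3 q20314 (flp_d L253236) q21944, e3 q20315 L256024 q22231, e3 q20316 (flp_d L238593) q17005, e3 q20317 L238607 q18263, e3 q20318 (flp_d L241864) q20676, e3 q20319 L238623 q17008, e3 q20320 (flp_d L256066) q22235, e3 q20321 L238637 q19674, e3 q20322 L238647 q17027, e3 q20323 L238657 q17028, e3 q20324 (flp_d L238665) q17026, e3 q20325 L256098 q22238, e3 q20326 (flp_d L238681) q17030, e3 q20327 L238695 q17398, e3 q20328 L238711 q17399, e3 q20329 L238721 q17035, e3 q20330 L238733 q17036, e3 q20331 (flp_d L238755) q17125, e3 q20332 L238765 q17038, e3 q20333 L238775 q17039, e3 q20334 (flp_d L238781) q17037, e3 q20335 L238789 q17044, e3 q20336 (flp_d L238807) q17127, e3 q20337 L238815 q17129, e3 q20338 L238829 q17047, e3 q20339 (flp_d L238839) q20286, e3 q20340 L238845 q17050, e3 q20341 (flp_d L238853) q17051, e3 q20342 L256148 q22242, e3 q20343 (flp_d L243469)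 q20835, e3 q20344 L238871 q17054, e3 q20345 L238889 q17730, e3 q20346 L238897 q17728, e3 q20347 L238907 q17402, e3 q20348 L238919 q17404, e3 q20349 L238943 q17422, e3 q20350 L238949 q17067, e3 q20351 L238959 q17662, trivial⟩ (by decide +kernel)

theorem ce_d_318 : ∀ r, r < 64 → sm gd (Qf (20352 + r)) = Qf (tab Gen.d (20352 + r)) :=
  edges_tab (sm gd) Qf (tab Gen.d) 20352 [(20352, 17533), (20353, 17074), (20354, 17165), (20355, 17076), (20356, 17079), (20357, 17160), (20358, 17082), (20359, 17173), (20360, 19920), (20361, 17174), (20362, 17073), (20363, 22244), (20364, 17075), (20365, 22245), (20366, 21893), (20367, 17078), (20368, 22246), (20369, 17081), (20370, 22247), (20371, 17083), (20372, 17084), (20373, 20997), (20374, 17303), (20375, 17086), (20376, 17087), (20377, 21796), (20378, 17088), (20379, 19981), (20380, 17090), (20381, 17092), (20382, 22250), (20383, 17093), (20384, 22251), (20385, 17096), (20386, 22252), (20387, 17102), (20388, 17175), (20389, 22253), (20390, 18048), (20391, 17159), (20392, 17118),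 (20393, 17119), (20394, 17117), (20395, 22257), (20396, 17416), (20397, 17417), (20398, 17128), (20399, 17126), (20400, 17134), (20401, 17137), (20402, 20306), (20403, 17140), (20404, 22259), (20405, 20832), (20406, 17143), (20407, 17659), (20408, 17420), (20409, 17154), (20410, 17529), (20411, 17162), (20412, 17167), (20413, 22260), (20414, 17161), (20415, 22261)]
    ⟨e3 q20352 L238973 q17533, e3 q20353 L238983 q17074, e3 q20354 (flp_d L238999) q17165, e3 q20355 L239003 q17076, e3 q20356 L239011 q17079, e3 q20357 L239023 q17160, e3 q20358 L239031 q17082, e3 q20359 L239047 q17173, e3 q20360 L239059 q19920, e3 q20361 L239063 q17174, e3 q20362 L239071 q17073, e3 q20363 L256170 q22244, e3 q20364 (flp_d L239085) q17075, e3 q20365 (flp_d L256180) q22245, e3 q20366 (flp_d L252700) q21893, e3 q20367 (flp_d L239109) q17078, e3 q20368 (flp_d L256188) q22246, e3 q20369 L239125 q17081, e3 q20370 (flp_d L256196) q22247, e3 q20371 (flp_d L239141) q17083, e3 q20372 (flp_d L239147) q17084, e3 q20373 (flp_d L244834) q20997, e3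 q20374 L239161 q17303, e3 q20375 L239167 q17086, e3 q20376 L239173 q17087, e3 q20377 (flp_d L251708) q21796, e3 q20378 (flp_d L239189) q17088, e3 q20379 (flp_d L239213) q19981, e3 q20380 L239219 q17090, e3 q20381 L239227 q17092, e3 q20382 L256228 q22250, e3 q20383 (flp_d L239241) q17093, e3 q20384 L256238 q22251, e3 q20385 (flp_d L239259) q17096, e3 q20386 (flp_d L256250) q22252, e3 q20387 (flp_d L239275) q17102, e3 q20388 L239297 q17175, e3 q20389 L256256 q22253, e3 q20390 L239309 q18048, e3 q20391 L239315 q17159, e3 q20392 L239323 q17118, e3 q20393 L239333 q17119, e3 q20394 (flp_d L239341) q17117, e3 q20395 L256302 q22257, e3 q20396 L239359 q17416, e3 q20397 L239375 q17417, e3 q20398 L239385 q17128, e3 q20399 (flp_d L239395) q17126, e3 q20400 L239405 q17134, e3 q20401 L239419 q17137, e3 q20402 (flp_d L239429) q20306, e3 q20403 (flp_d L239431) q17140, e3 q20404 L256324 q22259, e3 q20405 (flp_d L243443) q20832, e3 q20406 L239449 q17143, e3 q20407 L239461 q17659, e3 q20408 L239471 q17420, e3 q20409 L239485 q17154,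 e3 q20410 L239495 q17529, e3 q20411 L239507 q17162, e3 q20412 L239517 q17167, e3 q20413 L256334 q22260, e3 q20414 (flp_d L239535) q17161, e3 q20415 (flp_d L256354) q22261, trivial⟩ (by decide +kernel)

theorem ce_d_319 : ∀ r, r < 64 → sm gd (Qf (20416 + r)) = Qf (tab Gen.d (20416 + r)) :=
  edges_tab (sm gd) Qf (tab Gen.d) 20416 [(20416, 21801), (20417, 17164), (20418, 17168), (20419, 17169), (20420, 20971), (20421, 17227), (20422, 17171), (20423, 17172), (20424, 21890), (20425, 17176), (20426, 17182), (20427, 18077), (20428, 18813), (20429, 17626), (20430, 17627), (20431, 17191), (20432, 17527), (20433, 17192), (20434, 19284), (20435, 17763), (20436, 21375), (20437, 17437), (20438, 17217), (20439, 21699), (20440, 17219), (20441, 21489), (20442, 20769), (20443, 17206), (20444, 20786), (20445, 17228), (20446, 20770), (20447, 17229), (20448, 17212), (20449, 22267), (20450, 17439), (20451, 17216), (20452, 17218), (20453, 18542), (20454, 17226), (20455, 22263), (20456, 17234), (20457, 19687), (20458, 19688), (20459,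 20545), (20460, 17739), (20461, 18670), (20462, 17239), (20463, 17240), (20464, 21123), (20465, 20787), (20466, 22015), (20467, 17245), (20468, 17246), (20469, 21130), (20470, 17249), (20471, 17250), (20472, 17248), (20473, 22273), (20474, 22274), (20475, 22275), (20476, 22276), (20477, 21327), (20478, 17694), (20479, 21446)]
    ⟨e3 q20416 (flp_d L251774) q21801, e3 q20417 (flp_d L239567) q17164, e3 q20418 (flp_d L239573) q17168, e3 q20419 (flp_d L239579) q17169, e3 q20420 (flp_d L244649) q20971, e3 q20421 L239601 q17227, e3 q20422 L239605 q17171, e3 q20423 L239613 q17172, e3 q20424 (flp_d L252664) q21890, e3 q20425 (flp_d L239629) q17176, e3 q20426 (flp_d L239639) q17182, e3 q20427 L239657 q18077, e3 q20428 L239671 q18813, e3 q20429 L239675 q17626, e3 q20430 L239689 q17627, e3 q20431 L239697 q17191, e3 q20432 L239715 q17527, e3 q20433 L239723 q17192, e3 q20434 L239733 q19284, e3 q20435 L239737 q17763, e3 q20436 (flp_d L248029) q21375, e3 q20437 L239753 q17437, e3 q20438 L239763 q17217, e3 q20439 (flp_d L250757)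 q21699, e3 q20440 L239781 q17219, e3 q20441 (flp_d L248970) q21489, e3 q20442 (flp_d L242790) q20769, e3 q20443 (flp_d L239801) q17206, e3 q20444 (flp_d L242927) q20786, e3 q20445 L239817 q17228, e3 q20446 (flp_d L242800) q20770, e3 q20447 L239833 q17229, e3 q20448 L239843 q17212, e3 q20449 (flp_d L256428) q22267, e3 q20450 L239861 q17439, e3 q20451 L239871 q17216, e3 q20452 (flp_d L239877) q17218, e3 q20453 L239891 q18542, e3 q20454 L239901 q17226, e3 q20455 (flp_d L256378) q22263, e3 q20456 L239923 q17234, e3 q20457 L239933 q19687, e3 q20458 L239939 q19688, e3 q20459 (flp_d L240652) q20545, e3 q20460 L239957 q17739, e3 q20461 L239969 q18670, e3 q20462 L239981 q17239, e3 q20463 L239991 q17240, e3 q20464 (flp_d L245847) q21123, e3 q20465 (flp_d L242937) q20787, e3 q20466 (flp_d L253916) q22015, e3 q20467 L240021 q17245, e3 q20468 L240029 q17246, e3 q20469 (flp_d L245901) q21130, e3 q20470 L240041 q17249, e3 q20471 L240045 q17250, e3 q20472 (flp_d L240047) q17248, e3 q20473 (flp_d L256492) q22273, e3 q20474 (flp_d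 L256499) q22274, e3 q20475 (flp_d L256509) q22275, e3 q20476 (flp_d L256521) q22276, e3 q20477 (flp_d L247582) q21327, e3 q20478 (flp_d L240091) q17694, e3 q20479 (flp_d L248626) q21446, trivial⟩ (by decide +kernel)

theorem ce_d_320 : ∀ r, r < 64 → sm gd (Qf (20480 + r)) = Qf (tab Gen.d (20480 + r)) :=
  edges_tab (sm gd) Qf (tab Gen.d) 20480 [(20480, 19713), (20481, 20554), (20482, 20555), (20483, 20755), (20484, 20556), (20485, 20557), (20486, 18762), (20487, 17698), (20488, 17699), (20489, 19516), (20490, 17267), (20491, 17531), (20492, 17268), (20493, 17695), (20494, 21420), (20495, 17462), (20496, 17293), (20497, 21573), (20498, 17295), (20499, 21447), (20500, 20785), (20501, 17282), (20502, 20772), (20503, 17304), (20504, 20784), (20505, 17305), (20506, 17288), (20507, 22287), (20508, 17464), (20509, 17292), (20510, 17294), (20511, 18550), (20512, 17302), (20513, 22249), (20514, 17310), (20515, 19781), (20516, 19782), (20517, 17671), (20518, 20571), (20519, 18675), (20520, 17315), (20521, 17316), (20522,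 21176), (20523, 22030), (20524, 20771), (20525, 17321), (20526, 17322), (20527, 21183), (20528, 17325), (20529, 17326), (20530, 17324), (20531, 22293), (20532, 22294), (20533, 22295), (20534, 22296), (20535, 21332), (20536, 17762), (20537, 21488), (20538, 19808), (20539, 20579), (20540, 20580), (20541, 20767), (20542, 20581), (20543, 20582)]
    ⟨e3 q20480 L240109 q19713, e3 q20481 (flp_d L240736) q20554, e3 q20482 (flp_d L240742) q20555, e3 q20483 (flp_d L242640) q20755, e3 q20484 (flp_d L240746) q20556, e3 q20485 (flp_d L240754) q20557, e3 q20486 L240149 q18762, e3 q20487 L240153 q17698, e3 q20488 L240167 q17699, e3 q20489 L240177 q19516, e3 q20490 L240181 q17267, e3 q20491 L240199 q17531, e3 q20492 L240207 q17268, e3 q20493 L240215 q17695, e3 q20494 (flp_d L248405) q21420, e3 q20495 L240231 q17462, e3 q20496 L240241 q17293, e3 q20497 (flp_d L249697) q21573, e3 q20498 L240259 q17295, e3 q20499 (flp_d L248636) q21447, e3 q20500 (flp_d L242921) q20785, e3 q20501 (flp_d L240281) q17282, e3 q20502 (flp_d L242818)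 q20772, e3 q20503 L240297 q17304, e3 q20504 (flp_d L242907) q20784, e3 q20505 L240315 q17305, e3 q20506 L240327 q17288, e3 q20507 (flp_d L256633) q22287, e3 q20508 L240345 q17464, e3 q20509 L240355 q17292, e3 q20510 (flp_d L240361) q17294, e3 q20511 L240375 q18550, e3 q20512 L240385 q17302, e3 q20513 (flp_d L256220) q22249, e3 q20514 L240407 q17310, e3 q20515 L240413 q19781, e3 q20516 L240425 q19782, e3 q20517 L240433 q17671, e3 q20518 (flp_d L240882) q20571, e3 q20519 L240455 q18675, e3 q20520 L240467 q17315, e3 q20521 L240479 q17316, e3 q20522 (flp_d L246258) q21176, e3 q20523 (flp_d L254062) q22030, e3 q20524 (flp_d L242806) q20771, e3 q20525 L240507 q17321, e3 q20526 L240513 q17322, e3 q20527 (flp_d L246328) q21183, e3 q20528 L240527 q17325, e3 q20529 L240531 q17326, e3 q20530 (flp_d L240533) q17324, e3 q20531 (flp_d L256699) q22293, e3 q20532 (flp_d L256711) q22294, e3 q20533 (flp_d L256719) q22295, e3 q20534 (flp_d L256730) q22296, e3 q20535 (flp_d L247641) q21332, e3 q20536 (flp_d L240579) q17762, e3 q20537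 (flp_d L248958) q21488, e3 q20538 L240597 q19808, e3 q20539 (flp_d L240966) q20579, e3 q20540 (flp_d L240976) q20580, e3 q20541 (flp_d L242767) q20767, e3 q20542 (flp_d L240980) q20581, e3 q20543 (flp_d L240988) q20582, trivial⟩ (by decide +kernel)

theorem ce_d_321 : ∀ r, r < 64 → sm gd (Qf (20544 + r)) = Qf (tab Gen.d (20544 + r)) :=
  edges_tab (sm gd) Qf (tab Gen.d) 20544 [(20544, 17339), (20545, 20459), (20546, 19400), (20547, 19402), (20548, 19403), (20549, 19407), (20550, 19408), (20551, 19867), (20552, 19868), (20553, 21841), (20554, 20481), (20555, 20482), (20556, 20484), (20557, 20485), (20558, 19401), (20559, 19858), (20560, 20775), (20561, 17359), (20562, 22310), (20563, 22313), (20564, 17362), (20565, 17361), (20566, 22315), (20567, 19454), (20568, 22314), (20569, 22033), (20570, 17367), (20571, 20518), (20572, 19606), (20573, 19608), (20574, 19612), (20575, 19614), (20576, 19885), (20577, 19886), (20578, 21918), (20579, 20539), (20580, 20540), (20581, 20542), (20582, 20543), (20583, 19607), (20584,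 17387), (20585, 19654), (20586, 22019), (20587, 21939), (20588, 18599), (20589, 20672), (20590, 17873), (20591, 21977), (20592, 18590), (20593, 20647), (20594, 17861), (20595, 18179), (20596, 20667), (20597, 18127), (20598, 20642), (20599, 19666), (20600, 17511), (20601, 19760), (20602, 17515), (20603, 20622), (20604, 20649), (20605, 20169), (20606, 20186), (20607, 22048)]
    ⟨e3 q20544 (flp_d L240637) q17339, e3 q20545 L240652 q20459, e3 q20546 L240660 q19400, e3 q20547 L240670 q19402, e3 q20548 L240678 q19403, e3 q20549 L240684 q19407, e3 q20550 L240696 q19408, e3 q20551 L240706 q19867, e3 q20552 L240718 q19868, e3 q20553 (flp_d L252156) q21841, e3 q20554 L240736 q20481, e3 q20555 L240742 q20482, e3 q20556 L240746 q20484, e3 q20557 L240754 q20485, e3 q20558 L240766 q19401, e3 q20559 L240774 q19858, e3 q20560 (flp_d L242850) q20775, e3 q20561 L240788 q17359, e3 q20562 (flp_d L256876) q22310, e3 q20563 L256891 q22313, e3 q20564 L240813 q17362, e3 q20565 (flp_d L240817) q17361, e3 q20566 (flp_d L256915) q22315,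 e3 q20567 L240841 q19454, e3 q20568 (flp_d L256902) q22314, e3 q20569 (flp_d L254094) q22033, e3 q20570 (flp_d L240865) q17367, e3 q20571 L240882 q20518, e3 q20572 L240890 q19606, e3 q20573 L240906 q19608, e3 q20574 L240914 q19612, e3 q20575 L240920 q19614, e3 q20576 L240936 q19885, e3 q20577 L240948 q19886, e3 q20578 (flp_d L252948) q21918, e3 q20579 L240966 q20539, e3 q20580 L240976 q20540, e3 q20581 L240980 q20542, e3 q20582 L240988 q20543, e3 q20583 L241004 q19607, e3 q20584 (flp_d L241006) q17387, e3 q20585 L241024 q19654, e3 q20586 (flp_d L253954) q22019, e3 q20587 L253178 q21939, e3 q20588 L241052 q18599, e3 q20589 (flp_d L241816) q20672, e3 q20590 L241068 q17873, e3 q20591 L253547 q21977, e3 q20592 L241084 q18590, e3 q20593 (flp_d L241598) q20647, e3 q20594 L241102 q17861, e3 q20595 L241118 q18179, e3 q20596 (flp_d L241756) q20667, e3 q20597 L241140 q18127, e3 q20598 (flp_d L241540) q20642, e3 q20599 L241158 q19666, e3 q20600 L241172 q17511, e3 q20601 L241186 q19760, e3 q20602 L241200 q17515, e3 q20603 (flp_d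 L241390) q20622, e3 q20604 (flp_d L241624) q20649, e3 q20605 L241226 q20169, e3 q20606 L241240 q20186, e3 q20607 (flp_d L254252) q22048, trivial⟩ (by decide +kernel)

theorem ce_d_322 : ∀ r, r < 64 → sm gd (Qf (20608 + r)) = Qf (tab Gen.d (20608 + r)) :=
  edges_tab (sm gd) Qf (tab Gen.d) 20608 [(20608, 22122), (20609, 17537), (20610, 22064), (20611, 22126), (20612, 17541), (20613, 17544), (20614, 20617), (20615, 17546), (20616, 17549), (20617, 20614), (20618, 17551), (20619, 19517), (20620, 19288), (20621, 18666), (20622, 20603), (20623, 17974), (20624, 18486), (20625, 20236), (20626, 17569), (20627, 22327), (20628, 21353), (20629, 22329), (20630, 21354), (20631, 17573), (20632, 17830), (20633, 22164), (20634, 22334), (20635, 17579), (20636, 17580), (20637, 19317), (20638, 22337), (20639, 17607), (20640, 17582), (20641, 20791), (20642, 20598), (20643, 21260), (20644, 20092), (20645, 21251), (20646, 17589), (20647, 20593), (20648, 18671), (20649, 20604), (20650, 17980), (20651, 18513), (20652, 20248), (20653, 17597),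 (20654, 22341), (20655, 21399), (20656, 22343), (20657, 21400), (20658, 17601), (20659, 17840), (20660, 22155), (20661, 22348), (20662, 17608), (20663, 19544), (20664, 22336), (20665, 17610), (20666, 20795), (20667, 20596), (20668, 21259), (20669, 20084), (20670, 21240), (20671, 17617)]
    ⟨e3 q20608 (flp_d L254948) q22122, e3 q20609 L241275 q17537, e3 q20610 (flp_d L254442) q22064, e3 q20611 (flp_d L254994) q22126, e3 q20612 L241306 q17541, e3 q20613 (flp_d L241314) q17544, e3 q20614 L241336 q20617, e3 q20615 L241322 q17546, e3 q20616 (flp_d L241326) q17549, e3 q20617 (flp_d L241336) q20614, e3 q20618 L241340 q17551, e3 q20619 L241352 q19517, e3 q20620 L241366 q19288, e3 q20621 L241376 q18666, e3 q20622 L241390 q20603, e3 q20623 L241408 q17974, e3 q20624 L241414 q18486, e3 q20625 L241422 q20236, e3 q20626 L241428 q17569, e3 q20627 (flp_d L257015) q22327, e3 q20628 (flp_d L247843) q21353, e3 q20629 (flp_d L257033) q22329, e3 q20630 (flp_d L247849) q21354, e3 q20631 (flp_d L241448) q17573, e3 q20632 L241454 q17830,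 e3 q20633 (flp_d L255372) q22164, e3 q20634 (flp_d L257075) q22334, e3 q20635 (flp_d L241472) q17579, e3 q20636 (flp_d L241482) q17580, e3 q20637 L241496 q19317, e3 q20638 L257095 q22337, e3 q20639 L241516 q17607, e3 q20640 L241522 q17582, e3 q20641 (flp_d L242979) q20791, e3 q20642 L241540 q20598, e3 q20643 (flp_d L246995) q21260, e3 q20644 L241564 q20092, e3 q20645 (flp_d L246915) q21251, e3 q20646 L241586 q17589, e3 q20647 L241598 q20593, e3 q20648 L241610 q18671, e3 q20649 L241624 q20604, e3 q20650 L241642 q17980, e3 q20651 L241648 q18513, e3 q20652 L241656 q20248, e3 q20653 L241662 q17597, e3 q20654 (flp_d L257135) q22341, e3 q20655 (flp_d L248231) q21399, e3 q20656 (flp_d L257153) q22343, e3 q20657 (flp_d L248237) q21400, e3 q20658 (flp_d L241682) q17601, e3 q20659 L241688 q17840, e3 q20660 (flp_d L255289) q22155, e3 q20661 (flp_d L257191) q22348, e3 q20662 (flp_d L241708) q17608, e3 q20663 L241722 q19544, e3 q20664 L257093 q22336, e3 q20665 L241738 q17610, e3 q20666 (flp_d L243013) q20795, e3 q20667 L241756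 q20596, e3 q20668 (flp_d L246983) q21259, e3 q20669 L241780 q20084, e3 q20670 (flp_d L246807) q21240, e3 q20671 L241802 q17617, trivial⟩ (by decide +kernel)

theorem ce_d_323 : ∀ r, r < 64 → sm gd (Qf (20672 + r)) = Qf (tab Gen.d (20672 + r)) :=
  edges_tab (sm gd) Qf (tab Gen.d) 20672 [(20672, 20589), (20673, 18541), (20674, 18545), (20675, 17629), (20676, 20318), (20677, 20144), (20678, 17635), (20679, 20109), (20680, 17642), (20681, 17643), (20682, 21409), (20683, 22352), (20684, 19524), (20685, 18747), (20686, 19521), (20687, 17655), (20688, 17651), (20689, 22353), (20690, 17654), (20691, 17658), (20692, 19027), (20693, 21550), (20694, 18256), (20695, 22355), (20696, 22356), (20697, 17669), (20698, 17891), (20699, 17679), (20700, 18954), (20701, 21411), (20702, 18795), (20703, 21412), (20704, 19032), (20705, 17688), (20706, 22357), (20707, 18970), (20708, 21403), (20709, 17693), (20710, 19329), (20711, 22279), (20712, 17701), (20713, 20298), (20714, 20140), (20715, 17707), (20716, 20117), (20717, 17714), (20718,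 17715), (20719, 21364), (20720, 22360), (20721, 19296), (20722, 18799), (20723, 19293), (20724, 17724), (20725, 17721), (20726, 17727), (20727, 19164), (20728, 21679), (20729, 18313), (20730, 22362), (20731, 17913), (20732, 17747), (20733, 19094), (20734, 21366), (20735, 18744)]
    ⟨e3 q20672 L241816 q20589, e3 q20673 L241836 q18541, e3 q20674 L241848 q18545, e3 q20675 L241854 q17629, e3 q20676 L241864 q20318, e3 q20677 L241870 q20144, e3 q20678 L241878 q17635, e3 q20679 L241890 q20109, e3 q20680 L241896 q17642, e3 q20681 L241906 q17643, e3 q20682 L248318 q21409, e3 q20683 (flp_d L257231) q22352, e3 q20684 L241928 q19524, e3 q20685 L241936 q18747, e3 q20686 L241942 q19521, e3 q20687 L241952 q17655, e3 q20688 (flp_d L241960) q17651, e3 q20689 (flp_d L257243) q22353, e3 q20690 L241984 q17654, e3 q20691 L241994 q17658, e3 q20692 L242012 q19027, e3 q20693 (flp_d L249506) q21550, e3 q20694 L242028 q18256, e3 q20695 L257265 q22355, e3 q20696 L257273 q22356, e3 q20697 (flp_d L242054) q17669, e3 q20698 L242070 q17891,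 e3 q20699 (flp_d L242078) q17679, e3 q20700 L242098 q18954, e3 q20701 (flp_d L248328) q21411, e3 q20702 L242122 q18795, e3 q20703 (flp_d L248336) q21412, e3 q20704 L242140 q19032, e3 q20705 L242152 q17688, e3 q20706 (flp_d L257289) q22357, e3 q20707 L242170 q18970, e3 q20708 (flp_d L248265) q21403, e3 q20709 L242192 q17693, e3 q20710 (flp_d L242202) q19329, e3 q20711 (flp_d L256545) q22279, e3 q20712 L242216 q17701, e3 q20713 L242226 q20298, e3 q20714 L242232 q20140, e3 q20715 L242242 q17707, e3 q20716 L242254 q20117, e3 q20717 L242260 q17714, e3 q20718 L242270 q17715, e3 q20719 L247940 q21364, e3 q20720 (flp_d L257329) q22360, e3 q20721 L242292 q19296, e3 q20722 L242300 q18799, e3 q20723 L242306 q19293, e3 q20724 L242318 q17724, e3 q20725 (flp_d L242326) q17721, e3 q20726 L242340 q17727, e3 q20727 L242358 q19164, e3 q20728 (flp_d L250578) q21679, e3 q20729 L242374 q18313, e3 q20730 L257349 q22362, e3 q20731 L242394 q17913, e3 q20732 (flp_d L242402) q17747, e3 q20733 L242422 q19094, e3 q20734 (flp_d L247950) q21366,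 e3 q20735 L242446 q18744, trivial⟩ (by decide +kernel)

theorem ce_d_324 : ∀ r, r < 64 → sm gd (Qf (20736 + r)) = Qf (tab Gen.d (20736 + r)) :=
  edges_tab (sm gd) Qf (tab Gen.d) 20736 [(20736, 21367), (20737, 19169), (20738, 17756), (20739, 22363), (20740, 19110), (20741, 21358), (20742, 17761), (20743, 19555), (20744, 22298), (20745, 19637), (20746, 19638), (20747, 17771), (20748, 22365), (20749, 17774), (20750, 17775), (20751, 17773), (20752, 19436), (20753, 22368), (20754, 21798), (20755, 20483), (20756, 19331), (20757, 18847), (20758, 19437), (20759, 17789), (20760, 22370), (20761, 17792), (20762, 17793), (20763, 17791), (20764, 22373), (20765, 21891), (20766, 19557), (20767, 20541), (20768, 18902), (20769, 20442), (20770, 20446), (20771, 20524), (20772, 20502), (20773, 17807), (20774, 22374), (20775, 20560), (20776, 17810), (20777, 22376), (20778, 22379), (20779, 21633), (20780, 17813), (20781, 17814), (20782, 21637), (20783, 22382), (20784, 20504), (20785, 20500), (20786, 20444), (20787, 20465), (20788, 17822),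 (20789, 21744), (20790, 17826), (20791, 20641), (20792, 20937), (20793, 21770), (20794, 17864), (20795, 20666), (20796, 20964), (20797, 21871), (20798, 17876), (20799, 17881)]
    ⟨e3 q20736 (flp_d L247958) q21367, e3 q20737 L242464 q19169, e3 q20738 L242476 q17756, e3 q20739 (flp_d L257359) q22363, e3 q20740 L242496 q19110, e3 q20741 (flp_d L247887) q21358, e3 q20742 L242516 q17761, e3 q20743 (flp_d L242526) q19555, e3 q20744 (flp_d L256750) q22298, e3 q20745 L242542 q19637, e3 q20746 L242554 q19638, e3 q20747 L242564 q17771, e3 q20748 L257381 q22365, e3 q20749 L242584 q17774, e3 q20750 L242592 q17775, e3 q20751 (flp_d L242596) q17773, e3 q20752 L242610 q19436, e3 q20753 (flp_d L257417) q22368, e3 q20754 (flp_d L251734) q21798, e3 q20755 L242640 q20483, e3 q20756 L242652 q19331, e3 q20757 L242660 q18847, e3 q20758 L242675 q19437, e3 q20759 L242685 q17789, e3 q20760 L257430 q22370, e3 q20761 L242707 q17792, e3 q20762 L242717 q17793, e3 q20763 (flp_d L242721) q17791, e3 q20764 (flp_d L257472) q22373, e3 q20765 (flp_d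 L252678) q21891, e3 q20766 L242755 q19557, e3 q20767 L242767 q20541, e3 q20768 L242775 q18902, e3 q20769 L242790 q20442, e3 q20770 L242800 q20446, e3 q20771 L242806 q20524, e3 q20772 L242818 q20502, e3 q20773 (flp_d L242824) q17807, e3 q20774 (flp_d L257483) q22374, e3 q20775 L242850 q20560, e3 q20776 L242858 q17810, e3 q20777 (flp_d L257503) q22376, e3 q20778 L257534 q22379, e3 q20779 L250151 q21633, e3 q20780 L242875 q17813, e3 q20781 L242881 q17814, e3 q20782 (flp_d L250179) q21637, e3 q20783 (flp_d L257555) q22382, e3 q20784 L242907 q20504, e3 q20785 L242921 q20500, e3 q20786 L242927 q20444, e3 q20787 L242937 q20465, e3 q20788 (flp_d L242947) q17822, e3 q20789 L251171 q21744, e3 q20790 L242967 q17826, e3 q20791 L242979 q20641, e3 q20792 (flp_d L244399) q20937, e3 q20793 (flp_d L251423) q21770, e3 q20794 L242997 q17864, e3 q20795 L243013 q20666, e3 q20796 (flp_d L244597) q20964, e3 q20797 (flp_d L252457) q21871, e3 q20798 L243031 q17876, e3 q20799 L243045 q17881, trivial⟩ (by decide +kernel)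

theorem ce_d_325 : ∀ r, r < 64 → sm gd (Qf (20800 + r)) = Qf (tab Gen.d (20800 + r)) :=
  edges_tab (sm gd) Qf (tab Gen.d) 20800 [(20800, 22195), (20801, 17885), (20802, 17886), (20803, 17888), (20804, 17895), (20805, 17896), (20806, 20124), (20807, 17898), (20808, 20934), (20809, 17905), (20810, 22188), (20811, 17908), (20812, 17909), (20813, 17911), (20814, 17917), (20815, 17918), (20816, 20131), (20817, 17920), (20818, 20936), (20819, 19901), (20820, 19914), (20821, 17933), (20822, 17943), (20823, 18526), (20824, 18527), (20825, 18621), (20826, 18636), (20827, 18089), (20828, 18081), (20829, 18143), (20830, 18135), (20831, 17973), (20832, 20405), (20833, 21879), (20834, 17979), (20835, 20343), (20836, 21781), (20837, 18676), (20838, 18090), (20839, 17989), (20840, 22080), (20841, 18687), (20842, 18144), (20843, 17997), (20844, 22093), (20845, 18002), (20846, 18005), (20847, 19124), (20848, 19721), (20849, 18009), (20850, 18010), (20851, 22388), (20852, 18012), (20853, 18724), (20854, 18985), (20855, 19816),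 (20856, 18015), (20857, 18016), (20858, 22391), (20859, 18018), (20860, 18735), (20861, 18473), (20862, 19489), (20863, 18023)]
    ⟨e3 q20800 (flp_d L255622) q22195, e3 q20801 (flp_d L243057) q17885, e3 q20802 (flp_d L243071) q17886, e3 q20803 L243091 q17888, e3 q20804 (flp_d L243099) q17895, e3 q20805 (flp_d L243113) q17896, e3 q20806 L243137 q20124, e3 q20807 L243147 q17898, e3 q20808 (flp_d L244375) q20934, e3 q20809 L243171 q17905, e3 q20810 (flp_d L255559) q22188, e3 q20811 (flp_d L243183) q17908, e3 q20812 (flp_d L243197) q17909, e3 q20813 L243217 q17911, e3 q20814 (flp_d L243225) q17917, e3 q20815 (flp_d L243239) q17918, e3 q20816 L243263 q20131, e3 q20817 L243273 q17920, e3 q20818 (flp_d L244391) q20936, e3 q20819 L243303 q19901, e3 q20820 L243317 q19914, e3 q20821 L243321 q17933, e3 q20822 L243329 q17943, e3 q20823 L243341 q18526, e3 q20824 L243355 q18527, e3 q20825 L243367 q18621, e3 q20826 L243377 q18636, e3 q20827 L243391 q18089, e3 q20828 L243405 q18081, e3 q20829 L243415 q18143, e3 q20830 L243429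 q18135, e3 q20831 L243435 q17973, e3 q20832 L243443 q20405, e3 q20833 (flp_d L252548) q21879, e3 q20834 L243461 q17979, e3 q20835 L243469 q20343, e3 q20836 (flp_d L251550) q21781, e3 q20837 L243489 q18676, e3 q20838 L243501 q18090, e3 q20839 L243511 q17989, e3 q20840 (flp_d L254608) q22080, e3 q20841 L243523 q18687, e3 q20842 L243535 q18144, e3 q20843 L243545 q17997, e3 q20844 (flp_d L254718) q22093, e3 q20845 L243557 q18002, e3 q20846 L243565 q18005, e3 q20847 (flp_d L243579) q19124, e3 q20848 (flp_d L243589) q19721, e3 q20849 (flp_d L243591) q18009, e3 q20850 (flp_d L243605) q18010, e3 q20851 (flp_d L257618) q22388, e3 q20852 L243623 q18012, e3 q20853 L243635 q18724, e3 q20854 (flp_d L243647) q18985, e3 q20855 (flp_d L243657) q19816, e3 q20856 (flp_d L243659) q18015, e3 q20857 (flp_d L243673) q18016, e3 q20858 (flp_d L257644) q22391, e3 q20859 L243691 q18018, e3 q20860 L243703 q18735, e3 q20861 L243711 q18473, e3 q20862 L243721 q19489, e3 q20863 L243729 q18023, trivial⟩ (by decide +kernel)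

theorem ce_d_326 : ∀ r, r < 64 → sm gd (Qf (20864 + r)) = Qf (tab Gen.d (20864 + r)) :=
  edges_tab (sm gd) Qf (tab Gen.d) 20864 [(20864, 18024), (20865, 21212), (20866, 22394), (20867, 20935), (20868, 18121), (20869, 18749), (20870, 18129), (20871, 18753), (20872, 18265), (20873, 18268), (20874, 18645), (20875, 18035), (20876, 19807), (20877, 18654), (20878, 18041), (20879, 21043), (20880, 19982), (20881, 18118), (20882, 18779), (20883, 18488), (20884, 21772), (20885, 19245), (20886, 18504), (20887, 18052), (20888, 18054), (20889, 22400), (20890, 20963), (20891, 21231), (20892, 18174), (20893, 18800), (20894, 18181), (20895, 18804), (20896, 18322), (20897, 18325), (20898, 18630), (20899, 18064), (20900, 19714), (20901, 18648), (20902, 18070), (20903, 21080), (20904, 19921), (20905, 18172), (20906, 18830), (20907, 18515), (20908, 21788), (20909, 18083), (20910, 22404), (20911, 22392), (20912, 18528), (20913, 22025), (20914, 21200), (20915, 21196), (20916, 18484), (20917, 22408), (20918, 21371), (20919, 21218),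 (20920, 18104), (20921, 18101), (20922, 22411), (20923, 18103), (20924, 22412), (20925, 18756), (20926, 22414), (20927, 21374)]
    ⟨e3 q20864 L243737 q18024, e3 q20865 (flp_d L246561) q21212, e3 q20866 (flp_d L257672) q22394, e3 q20867 (flp_d L244379) q20935, e3 q20868 L243767 q18121, e3 q20869 L243785 q18749, e3 q20870 L243791 q18129, e3 q20871 L243803 q18753, e3 q20872 L243815 q18265, e3 q20873 L243827 q18268, e3 q20874 L243839 q18645, e3 q20875 (flp_d L243845) q18035, e3 q20876 L243865 q19807, e3 q20877 L243873 q18654, e3 q20878 L243883 q18041, e3 q20879 (flp_d L245201) q21043, e3 q20880 L243901 q19982, e3 q20881 L243917 q18118, e3 q20882 L243925 q18779, e3 q20883 L243933 q18488, e3 q20884 (flp_d L251443) q21772, e3 q20885 L243953 q19245, e3 q20886 L243963 q18504, e3 q20887 L243971 q18052, e3 q20888 L243979 q18054, e3 q20889 (flp_d L257740) q22400, e3 q20890 (flp_d L244585) q20963, e3 q20891 (flp_d L246719) q21231, e3 q20892 L244011 q18174, e3 q20893 L244029 q18800, e3 q20894 L244035 q18181, e3 q20895 L244047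 q18804, e3 q20896 L244059 q18322, e3 q20897 L244071 q18325, e3 q20898 L244083 q18630, e3 q20899 (flp_d L244089) q18064, e3 q20900 L244109 q19714, e3 q20901 L244117 q18648, e3 q20902 L244127 q18070, e3 q20903 (flp_d L245517) q21080, e3 q20904 L244145 q19921, e3 q20905 L244161 q18172, e3 q20906 L244169 q18830, e3 q20907 L244177 q18515, e3 q20908 (flp_d L251614) q21788, e3 q20909 L244199 q18083, e3 q20910 (flp_d L257788) q22404, e3 q20911 (flp_d L257656) q22392, e3 q20912 L244217 q18528, e3 q20913 (flp_d L254008) q22025, e3 q20914 (flp_d L246467) q21200, e3 q20915 (flp_d L246429) q21196, e3 q20916 L244253 q18484, e3 q20917 (flp_d L257824) q22408, e3 q20918 (flp_d L247993) q21371, e3 q20919 (flp_d L246613) q21218, e3 q20920 L244275 q18104, e3 q20921 L244283 q18101, e3 q20922 (flp_d L257838) q22411, e3 q20923 (flp_d L244297) q18103, e3 q20924 (flp_d L257850) q22412, e3 q20925 L244305 q18756, e3 q20926 (flp_d L257878) q22414, e3 q20927 (flp_d L248021) q21374, trivial⟩ (by decide +kernel)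

theorem ce_d_327 : ∀ r, r < 64 → sm gd (Qf (20928 + r)) = Qf (tab Gen.d (20928 + r)) :=
  edges_tab (sm gd) Qf (tab Gen.d) 20928 [(20928, 22416), (20929, 18765), (20930, 18108), (20931, 22129), (20932, 18112), (20933, 22127), (20934, 20808), (20935, 20867), (20936, 20818), (20937, 20792), (20938, 18137), (20939, 22423), (20940, 22399), (20941, 18530), (20942, 22040), (20943, 21220), (20944, 21216), (20945, 18514), (20946, 22427), (20947, 21355), (20948, 21198), (20949, 18158), (20950, 18155), (20951, 22430), (20952, 18157), (20953, 22431), (20954, 18807), (20955, 22419), (20956, 21418), (20957, 22422), (20958, 18817), (20959, 18162), (20960, 22125), (20961, 18166), (20962, 22123), (20963, 20890), (20964, 20796), (20965, 22436), (20966, 18184), (20967, 22440), (20968, 18967), (20969, 18264), (20970, 21017), (20971, 20420), (20972, 19577), (20973, 22066), (20974, 21019), (20975, 18194), (20976, 22120), (20977, 20101), (20978, 22198), (20979, 21022), (20980, 19795), (20981, 21023), (20982, 19826), (20983, 21025),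 (20984, 21981), (20985, 22448), (20986, 18204), (20987, 22194), (20988, 21272), (20989, 21271), (20990, 20250), (20991, 22449)]
    ⟨e3 q20928 (flp_d L257892) q22416, e3 q20929 L244327 q18765, e3 q20930 L244339 q18108, e3 q20931 (flp_d L255032) q22129, e3 q20932 L244351 q18112, e3 q20933 (flp_d L255010) q22127, e3 q20934 L244375 q20808, e3 q20935 L244379 q20867, e3 q20936 L244391 q20818, e3 q20937 L244399 q20792, e3 q20938 L244413 q18137, e3 q20939 (flp_d L257962) q22423, e3 q20940 (flp_d L257732) q22399, e3 q20941 L244431 q18530, e3 q20942 (flp_d L254164) q22040, e3 q20943 (flp_d L246633) q21220, e3 q20944 (flp_d L246591) q21216, e3 q20945 L244467 q18514, e3 q20946 (flp_d L257998) q22427, e3 q20947 L247867 q21355, e3 q20948 (flp_d L246447) q21198, e3 q20949 L244489 q18158, e3 q20950 L244497 q18155, e3 q20951 (flp_d L258012) q22430, e3 q20952 (flp_d L244511) q18157, e3 q20953 (flp_d L258024) q22431, e3 q20954 L244519 q18807, e3 q20955 (flp_d L257926) q22419, e3 q20956 (flp_d L248389) q21418, e3 q20957 (flp_d L257952)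 q22422, e3 q20958 L244541 q18817, e3 q20959 L244553 q18162, e3 q20960 (flp_d L254986) q22125, e3 q20961 L244565 q18166, e3 q20962 (flp_d L254964) q22123, e3 q20963 L244585 q20890, e3 q20964 L244597 q20796, e3 q20965 L258066 q22436, e3 q20966 (flp_d L244611) q18184, e3 q20967 L258101 q22440, e3 q20968 L244625 q18967, e3 q20969 L244633 q18264, e3 q20970 (flp_d L244979) q21017, e3 q20971 L244649 q20420, e3 q20972 L244657 q19577, e3 q20973 (flp_d L254471) q22066, e3 q20974 (flp_d L244999) q21019, e3 q20975 L244670 q18194, e3 q20976 (flp_d L254933) q22120, e3 q20977 L244686 q20101, e3 q20978 L255666 q22198, e3 q20979 (flp_d L245019) q21022, e3 q20980 L244700 q19795, e3 q20981 (flp_d L245027) q21023, e3 q20982 L244714 q19826, e3 q20983 (flp_d L245051) q21025, e3 q20984 (flp_d L253583) q21981, e3 q20985 L258193 q22448, e3 q20986 (flp_d L244746) q18204, e3 q20987 (flp_d L255608) q22194, e3 q20988 (flp_d L247099) q21272, e3 q20989 (flp_d L247087) q21271, e3 q20990 L244784 q20250, e3 q20991 L258207 q22449, trivial⟩ (by decide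 +kernel)

theorem ce_d_328 : ∀ r, r < 64 → sm gd (Qf (20992 + r)) = Qf (tab Gen.d (20992 + r)) :=
  edges_tab (sm gd) Qf (tab Gen.d) 20992 [(20992, 18209), (20993, 22453), (20994, 19107), (20995, 18321), (20996, 21056), (20997, 20373), (20998, 19362), (20999, 22050), (21000, 21058), (21001, 18219), (21002, 22109), (21003, 20100), (21004, 22203), (21005, 21061), (21006, 19701), (21007, 21062), (21008, 19730), (21009, 21064), (21010, 21942), (21011, 22461), (21012, 18229), (21013, 22187), (21014, 21281), (21015, 21280), (21016, 20238), (21017, 20970), (21018, 18237), (21019, 20974), (21020, 18242), (21021, 22462), (21022, 20979), (21023, 20981), (21024, 20007), (21025, 20983), (21026, 18533), (21027, 22465), (21028, 18537), (21029, 18254), (21030, 21070), (21031, 19731), (21032, 18260), (21033, 21067), (21034, 18262), (21035, 22255), (21036, 19009), (21037, 22401), (21038, 18261), (21039, 22135), (21040, 22413), (21041, 19037), (21042, 22174), (21043, 20879), (21044, 22470), (21045, 21544), (21046, 18270), (21047,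 18327), (21048, 18279), (21049, 22472), (21050, 21555), (21051, 18274), (21052, 22473), (21053, 18996), (21054, 19096), (21055, 18292)]
    ⟨e3 q20992 (flp_d L244796) q18209, e3 q20993 L258242 q22453, e3 q20994 L244810 q19107, e3 q20995 L244818 q18321, e3 q20996 (flp_d L245303) q21056, e3 q20997 L244834 q20373, e3 q20998 L244842 q19362, e3 q20999 (flp_d L254281) q22050, e3 q21000 (flp_d L245323) q21058, e3 q21001 L244855 q18219, e3 q21002 (flp_d L254848) q22109, e3 q21003 L244871 q20100, e3 q21004 L255730 q22203, e3 q21005 (flp_d L245343) q21061, e3 q21006 L244885 q19701, e3 q21007 (flp_d L245351) q21062, e3 q21008 L244899 q19730, e3 q21009 (flp_d L245375) q21064, e3 q21010 (flp_d L253210) q21942, e3 q21011 L258334 q22461, e3 q21012 (flp_d L244931) q18229, e3 q21013 (flp_d L255545) q22187, e3 q21014 (flp_d L247166) q21281, e3 q21015 (flp_d L247154) q21280, e3 q21016 L244969 q20238, e3 q21017 L244979 q20970, e3 q21018 L244991 q18237, e3 q21019 L244999 q20974, e3 q21020 L245003 q18242, e3 q21021 (flp_d L258352) q22462,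 e3 q21022 L245019 q20979, e3 q21023 L245027 q20981, e3 q21024 L245037 q20007, e3 q21025 L245051 q20983, e3 q21026 L245063 q18533, e3 q21027 L258378 q22465, e3 q21028 L245081 q18537, e3 q21029 L245089 q18254, e3 q21030 (flp_d L245443) q21070, e3 q21031 L245121 q19731, e3 q21032 L245125 q18260, e3 q21033 (flp_d L245405) q21067, e3 q21034 L245131 q18262, e3 q21035 (flp_d L256288) q22255, e3 q21036 (flp_d L245155) q19009, e3 q21037 (flp_d L257760) q22401, e3 q21038 (flp_d L245165) q18261, e3 q21039 (flp_d L255098) q22135, e3 q21040 (flp_d L257858) q22413, e3 q21041 L245193 q19037, e3 q21042 (flp_d L255446) q22174, e3 q21043 L245201 q20879, e3 q21044 L258436 q22470, e3 q21045 (flp_d L249448) q21544, e3 q21046 (flp_d L245217) q18270, e3 q21047 L245235 q18327, e3 q21048 L245243 q18279, e3 q21049 L258460 q22472, e3 q21050 (flp_d L249563) q21555, e3 q21051 (flp_d L245255) q18274, e3 q21052 (flp_d L258478) q22473, e3 q21053 L245269 q18996, e3 q21054 L245287 q19096, e3 q21055 L245291 q18292, trivial⟩ (by decide +kernel)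

theorem ce_d_329 : ∀ r, r < 64 → sm gd (Qf (21056 + r)) = Qf (tab Gen.d (21056 + r)) :=
  edges_tab (sm gd) Qf (tab Gen.d) 21056 [(21056, 20996), (21057, 18296), (21058, 21000), (21059, 18301), (21060, 22474), (21061, 21005), (21062, 21007), (21063, 19948), (21064, 21009), (21065, 22477), (21066, 18311), (21067, 21033), (21068, 19824), (21069, 18317), (21070, 21030), (21071, 18319), (21072, 22236), (21073, 19148), (21074, 22395), (21075, 18318), (21076, 22134), (21077, 22418), (21078, 19174), (21079, 22181), (21080, 20903), (21081, 22482), (21082, 21674), (21083, 18336), (21084, 22484), (21085, 21682), (21086, 18331), (21087, 22485), (21088, 19135), (21089, 18956), (21090, 18349), (21091, 18973), (21092, 20226), (21093, 18356), (21094, 21109), (21095, 22487), (21096, 22492), (21097, 22232), (21098, 21767), (21099, 18360), (21100, 18798), (21101, 18359), (21102, 18367), (21103, 18368), (21104, 18369), (21105, 18370), (21106, 18365), (21107, 22494), (21108, 22495), (21109, 21094), (21110, 21394), (21111, 21655),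 (21112, 22493), (21113, 22442), (21114, 22488), (21115, 21201), (21116, 21660), (21117, 22139), (21118, 22131), (21119, 18540)]
    ⟨e3 q21056 L245303 q20996, e3 q21057 L245315 q18296, e3 q21058 L245323 q21000, e3 q21059 L245327 q18301, e3 q21060 (flp_d L258490) q22474, e3 q21061 L245343 q21005, e3 q21062 L245351 q21007, e3 q21063 L245361 q19948, e3 q21064 L245375 q21009, e3 q21065 L258516 q22477, e3 q21066 L245389 q18311, e3 q21067 L245405 q21033, e3 q21068 L245427 q19824, e3 q21069 L245431 q18317, e3 q21070 L245443 q21030, e3 q21071 L245447 q18319, e3 q21072 (flp_d L256084) q22236, e3 q21073 L245471 q19148, e3 q21074 (flp_d L257692) q22395, e3 q21075 (flp_d L245481) q18318, e3 q21076 (flp_d L255084) q22134, e3 q21077 (flp_d L257920) q22418, e3 q21078 L245509 q19174, e3 q21079 (flp_d L255498) q22181, e3 q21080 L245517 q20903, e3 q21081 L258574 q22482, e3 q21082 (flp_d L250532) q21674, e3 q21083 L245539 q18336, e3 q21084 L258598 q22484, e3 q21085 (flp_d L250619) q21682, e3 q21086 (flp_d L245551) q18331, e3 q21087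 (flp_d L258616) q22485, e3 q21088 L245565 q19135, e3 q21089 L245583 q18956, e3 q21090 L245587 q18349, e3 q21091 L245609 q18973, e3 q21092 L245613 q20226, e3 q21093 L245619 q18356, e3 q21094 (flp_d L245745) q21109, e3 q21095 (flp_d L258636) q22487, e3 q21096 L258684 q22492, e3 q21097 (flp_d L256040) q22232, e3 q21098 (flp_d L251389) q21767, e3 q21099 L245649 q18360, e3 q21100 (flp_d L245667) q18798, e3 q21101 (flp_d L245681) q18359, e3 q21102 L245695 q18367, e3 q21103 L245701 q18368, e3 q21104 L246487 q18369, e3 q21105 L245715 q18370, e3 q21106 L245721 q18365, e3 q21107 (flp_d L258712) q22494, e3 q21108 (flp_d L258726) q22495, e3 q21109 L245745 q21094, e3 q21110 (flp_d L248185) q21394, e3 q21111 (flp_d L250334) q21655, e3 q21112 L258704 q22493, e3 q21113 (flp_d L258125) q22442, e3 q21114 L258656 q22488, e3 q21115 (flp_d L246481) q21201, e3 q21116 (flp_d L250384) q21660, e3 q21117 (flp_d L255140) q22139, e3 q21118 (flp_d L255046) q22131, e3 q21119 L245807 q18540, trivial⟩ (by decide +kernel)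

theorem ce_d_330 : ∀ r, r < 64 → sm gd (Qf (21120 + r)) = Qf (tab Gen.d (21120 + r)) :=
  edges_tab (sm gd) Qf (tab Gen.d) 21120 [(21120, 22218), (21121, 20247), (21122, 18378), (21123, 20464), (21124, 21949), (21125, 21181), (21126, 21189), (21127, 18404), (21128, 21178), (21129, 21454), (21130, 20469), (21131, 21505), (21132, 20040), (21133, 18397), (21134, 22209), (21135, 18400), (21136, 21542), (21137, 22510), (21138, 18459), (21139, 18460), (21140, 21179), (21141, 20280), (21142, 18840), (21143, 20153), (21144, 18408), (21145, 22197), (21146, 19112), (21147, 20233), (21148, 18418), (21149, 21162), (21150, 22217), (21151, 21869), (21152, 18422), (21153, 18748), (21154, 18421), (21155, 18432), (21156, 18429), (21157, 18430), (21158, 18431), (21159, 18427), (21160, 22519), (21161, 22520), (21162, 21149), (21163, 22455), (21164, 22516), (21165, 21221), (21166, 21529), (21167, 22141), (21168, 22133), (21169, 21437), (21170, 21759), (21171, 22518), (21172, 18549), (21173, 22233), (21174, 20259), (21175, 18440),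 (21176, 20522), (21177, 21987), (21178, 21128), (21179, 21140), (21180, 18462), (21181, 21125), (21182, 21496), (21183, 20527)]
    ⟨e3 q21120 (flp_d L255893) q22218, e3 q21121 L245829 q20247, e3 q21122 L245837 q18378, e3 q21123 L245847 q20464, e3 q21124 (flp_d L253284) q21949, e3 q21125 (flp_d L246308) q21181, e3 q21126 (flp_d L246363) q21189, e3 q21127 L245875 q18404, e3 q21128 (flp_d L246276) q21178, e3 q21129 (flp_d L248698) q21454, e3 q21130 L245901 q20469, e3 q21131 (flp_d L249100) q21505, e3 q21132 L245913 q20040, e3 q21133 (flp_d L245915) q18397, e3 q21134 (flp_d L255800) q22209, e3 q21135 L245930 q18400, e3 q21136 L249424 q21542, e3 q21137 (flp_d L258886) q22510, e3 q21138 L245948 q18459, e3 q21139 L245958 q18460, e3 q21140 (flp_d L246290) q21179, e3 q21141 (flp_d L245978) q20280, e3 q21142 L245982 q18840, e3 q21143 (flp_d L246000) q20153, e3 q21144 (flp_d L246002) q18408, e3 q21145 (flp_d L255650) q22197, e3 q21146 L246030 q19112, e3 q21147 L246034 q20233, e3 q21148 L246042 q18418, e3 q21149 (flp_d L246150)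 q21162, e3 q21150 (flp_d L255881) q22217, e3 q21151 (flp_d L252435) q21869, e3 q21152 L246064 q18422, e3 q21153 (flp_d L246082) q18748, e3 q21154 (flp_d L246086) q18421, e3 q21155 L246100 q18432, e3 q21156 L246106 q18429, e3 q21157 L246651 q18430, e3 q21158 L246120 q18431, e3 q21159 L246126 q18427, e3 q21160 (flp_d L258987) q22519, e3 q21161 (flp_d L259001) q22520, e3 q21162 L246150 q21149, e3 q21163 (flp_d L258266) q22455, e3 q21164 L258963 q22516, e3 q21165 (flp_d L246647) q21221, e3 q21166 (flp_d L249313) q21529, e3 q21167 (flp_d L255160) q22141, e3 q21168 (flp_d L255070) q22133, e3 q21169 (flp_d L248545) q21437, e3 q21170 (flp_d L251311) q21759, e3 q21171 L258979 q22518, e3 q21172 L246218 q18549, e3 q21173 (flp_d L256052) q22233, e3 q21174 L246240 q20259, e3 q21175 L246248 q18440, e3 q21176 L246258 q20522, e3 q21177 (flp_d L253649) q21987, e3 q21178 L246276 q21128, e3 q21179 L246290 q21140, e3 q21180 L246298 q18462, e3 q21181 L246308 q21125, e3 q21182 (flp_d L249036) q21496, e3 q21183 L246328 q20527, trivial⟩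 (by decide +kernel)

theorem ce_d_331 : ∀ r, r < 64 → sm gd (Qf (21184 + r)) = Qf (tab Gen.d (21184 + r)) :=
  edges_tab (sm gd) Qf (tab Gen.d) 21184 [(21184, 21463), (21185, 20020), (21186, 22224), (21187, 22512), (21188, 21672), (21189, 21126), (21190, 20269), (21191, 18896), (21192, 20158), (21193, 18466), (21194, 22202), (21195, 18743), (21196, 20915), (21197, 21416), (21198, 20948), (21199, 18477), (21200, 20914), (21201, 21115), (21202, 18489), (21203, 18490), (21204, 18485), (21205, 22536), (21206, 22537), (21207, 22325), (21208, 21661), (21209, 21309), (21210, 21311), (21211, 22543), (21212, 20865), (21213, 18495), (21214, 22545), (21215, 18794), (21216, 20944), (21217, 21372), (21218, 20919), (21219, 18505), (21220, 20943), (21221, 21165), (21222, 18516), (21223, 18517), (21224, 18512), (21225, 22547), (21226, 22548), (21227, 22339), (21228, 21320), (21229, 21322), (21230, 22552), (21231, 20891), (21232, 21530), (21233, 18521), (21234, 22554), (21235, 19592), (21236, 19377), (21237, 19676), (21238, 19770),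 (21239, 18556), (21240, 20670), (21241, 18560), (21242, 20184), (21243, 18562), (21244, 18563), (21245, 18564), (21246, 18565), (21247, 19583)]
    ⟨e3 q21184 (flp_d L248760) q21463, e3 q21185 L246340 q20020, e3 q21186 (flp_d L255957) q22224, e3 q21187 (flp_d L258907) q22512, e3 q21188 L250508 q21672, e3 q21189 L246363 q21126, e3 q21190 (flp_d L246377) q20269, e3 q21191 L246381 q18896, e3 q21192 (flp_d L246399) q20158, e3 q21193 (flp_d L246401) q18466, e3 q21194 (flp_d L255714) q22202, e3 q21195 L246419 q18743, e3 q21196 L246429 q20915, e3 q21197 (flp_d L248369) q21416, e3 q21198 L246447 q20948, e3 q21199 L246457 q18477, e3 q21200 L246467 q20914, e3 q21201 L246481 q21115, e3 q21202 L246497 q18489, e3 q21203 L246501 q18490, e3 q21204 L246509 q18485, e3 q21205 (flp_d L259178) q22536, e3 q21206 (flp_d L259194) q22537, e3 q21207 (flp_d L256999) q22325, e3 q21208 L250408 q21661, e3 q21209 (flp_d L247395) q21309, e3 q21210 (flp_d L247415) q21311, e3 q21211 L259252 q22543, e3 q21212 L246561 q20865, e3 q21213 (flp_d L246565)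 q18495, e3 q21214 (flp_d L259278) q22545, e3 q21215 L246581 q18794, e3 q21216 L246591 q20944, e3 q21217 (flp_d L248003) q21372, e3 q21218 L246613 q20919, e3 q21219 L246623 q18505, e3 q21220 L246633 q20943, e3 q21221 L246647 q21165, e3 q21222 L246663 q18516, e3 q21223 L246667 q18517, e3 q21224 L246675 q18512, e3 q21225 (flp_d L259294) q22547, e3 q21226 (flp_d L259310) q22548, e3 q21227 (flp_d L257119) q22339, e3 q21228 (flp_d L247499) q21320, e3 q21229 (flp_d L247523) q21322, e3 q21230 L259350 q22552, e3 q21231 L246719 q20891, e3 q21232 L249329 q21530, e3 q21233 (flp_d L246731) q18521, e3 q21234 (flp_d L259378) q22554, e3 q21235 L246747 q19592, e3 q21236 L246761 q19377, e3 q21237 (flp_d L246775) q19676, e3 q21238 (flp_d L246781) q19770, e3 q21239 (flp_d L246785) q18556, e3 q21240 L246807 q20670, e3 q21241 (flp_d L246809) q18560, e3 q21242 L246821 q20184, e3 q21243 (flp_d L246823) q18562, e3 q21244 (flp_d L246831) q18563, e3 q21245 (flp_d L246841) q18564, e3 q21246 (flp_d L246853) q18565, e3 q21247 (flp_d L246867)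 q19583, trivial⟩ (by decide +kernel)

theorem ce_d_332 : ∀ r, r < 64 → sm gd (Qf (21248 + r)) = Qf (tab Gen.d (21248 + r)) :=
  edges_tab (sm gd) Qf (tab Gen.d) 21248 [(21248, 18567), (21249, 18569), (21250, 18570), (21251, 20645), (21252, 18574), (21253, 20167), (21254, 18576), (21255, 18577), (21256, 18578), (21257, 19368), (21258, 18580), (21259, 20668), (21260, 20643), (21261, 22071), (21262, 18607), (21263, 22084), (21264, 18611), (21265, 19680), (21266, 18623), (21267, 22386), (21268, 18625), (21269, 18624), (21270, 22562), (21271, 20989), (21272, 20988), (21273, 21528), (21274, 19775), (21275, 18638), (21276, 22389), (21277, 18640), (21278, 18639), (21279, 22565), (21280, 21015), (21281, 21014), (21282, 21659), (21283, 22433), (21284, 21402), (21285, 18649), (21286, 21824), (21287, 21740), (21288, 22417), (21289, 21357), (21290, 18655), (21291, 21909), (21292, 21628), (21293, 22566), (21294, 18659), (21295, 22568), (21296, 18661), (21297, 21629), (21298, 21741), (21299, 21343), (21300, 21351), (21301, 21945),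 (21302, 18679), (21303, 22014), (21304, 19970), (21305, 21880), (21306, 19667), (21307, 18685), (21308, 20014), (21309, 21209), (21310, 22340), (21311, 21210)]
    ⟨e3 q21248 L246877 q18567, e3 q21249 (flp_d L246881) q18569, e3 q21250 (flp_d L246893) q18570, e3 q21251 L246915 q20645, e3 q21252 (flp_d L246917) q18574, e3 q21253 L246929 q20167, e3 q21254 (flp_d L246931) q18576, e3 q21255 (flp_d L246939) q18577, e3 q21256 (flp_d L246949) q18578, e3 q21257 (flp_d L246963) q19368, e3 q21258 L246973 q18580, e3 q21259 L246983 q20668, e3 q21260 L246995 q20643, e3 q21261 (flp_d L254530) q22071, e3 q21262 L247021 q18607, e3 q21263 (flp_d L254640) q22084, e3 q21264 L247043 q18611, e3 q21265 L247047 q19680, e3 q21266 L247055 q18623, e3 q21267 L257602 q22386, e3 q21268 L247061 q18625, e3 q21269 (flp_d L247065) q18624, e3 q21270 (flp_d L259456) q22562, e3 q21271 L247087 q20989, e3 q21272 L247099 q20988, e3 q21273 (flp_d L249303) q21528, e3 q21274 L247114 q19775, e3 q21275 L247122 q18638, e3 q21276 L257628 q22389, e3 q21277 L247128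 q18640, e3 q21278 (flp_d L247132) q18639, e3 q21279 (flp_d L259488) q22565, e3 q21280 L247154 q21015, e3 q21281 L247166 q21014, e3 q21282 (flp_d L250374) q21659, e3 q21283 (flp_d L258042) q22433, e3 q21284 (flp_d L248255) q21402, e3 q21285 (flp_d L247191) q18649, e3 q21286 (flp_d L251992) q21824, e3 q21287 (flp_d L251125) q21740, e3 q21288 (flp_d L257902) q22417, e3 q21289 (flp_d L247877) q21357, e3 q21290 (flp_d L247225) q18655, e3 q21291 (flp_d L252848) q21909, e3 q21292 (flp_d L250103) q21628, e3 q21293 L259496 q22566, e3 q21294 (flp_d L247255) q18659, e3 q21295 L259512 q22568, e3 q21296 (flp_d L247269) q18661, e3 q21297 (flp_d L250111) q21629, e3 q21298 (flp_d L251133) q21741, e3 q21299 (flp_d L247739) q21343, e3 q21300 (flp_d L247823) q21351, e3 q21301 (flp_d L253244) q21945, e3 q21302 L247327 q18679, e3 q21303 (flp_d L253902) q22014, e3 q21304 L247351 q19970, e3 q21305 (flp_d L252558) q21880, e3 q21306 L247369 q19667, e3 q21307 L247377 q18685, e3 q21308 L247387 q20014, e3 q21309 L247395 q21209, e3 q21310 (flp_d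 L257131) q22340, e3 q21311 L247415 q21210, trivial⟩ (by decide +kernel)

theorem ce_d_333 : ∀ r, r < 64 → sm gd (Qf (21312 + r)) = Qf (tab Gen.d (21312 + r)) :=
  edges_tab (sm gd) Qf (tab Gen.d) 21312 [(21312, 21983), (21313, 18690), (21314, 21976), (21315, 19951), (21316, 21782), (21317, 19761), (21318, 18696), (21319, 19977), (21320, 21228), (21321, 22326), (21322, 21229), (21323, 18699), (21324, 21428), (21325, 18702), (21326, 18703), (21327, 20477), (21328, 18706), (21329, 21384), (21330, 18709), (21331, 18710), (21332, 20535), (21333, 22573), (21334, 18713), (21335, 22576), (21336, 18715), (21337, 19708), (21338, 19727), (21339, 22387), (21340, 18723), (21341, 20034), (21342, 21967), (21343, 21299), (21344, 18726), (21345, 19803), (21346, 19823), (21347, 22390), (21348, 18733), (21349, 20054), (21350, 22005), (21351, 21300), (21352, 18737), (21353, 20628), (21354, 20630), (21355, 20947), (21356, 18742), (21357, 21289), (21358, 20741), (21359, 21450), (21360, 21456), (21361, 21842), (21362, 18888), (21363,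 18755), (21364, 20719), (21365, 22503), (21366, 20734), (21367, 20736), (21368, 21830), (21369, 18766), (21370, 18767), (21371, 20918), (21372, 21217), (21373, 22580), (21374, 20927), (21375, 20436)]
    ⟨e3 q21312 (flp_d L253609) q21983, e3 q21313 L247431 q18690, e3 q21314 (flp_d L253531) q21976, e3 q21315 L247455 q19951, e3 q21316 (flp_d L251560) q21782, e3 q21317 L247473 q19761, e3 q21318 L247481 q18696, e3 q21319 L247491 q19977, e3 q21320 L247499 q21228, e3 q21321 (flp_d L257011) q22326, e3 q21322 L247523 q21229, e3 q21323 (flp_d L247525) q18699, e3 q21324 (flp_d L248477) q21428, e3 q21325 L247551 q18702, e3 q21326 (flp_d L247561) q18703, e3 q21327 L247582 q20477, e3 q21328 (flp_d L247584) q18706, e3 q21329 (flp_d L248107) q21384, e3 q21330 L247610 q18709, e3 q21331 (flp_d L247620) q18710, e3 q21332 L247641 q20535, e3 q21333 L259558 q22573, e3 q21334 (flp_d L247652) q18713, e3 q21335 L259589 q22576, e3 q21336 (flp_d L247667) q18715, e3 q21337 L247677 q19708, e3 q21338 L247693 q19727, e3 q21339 (flp_d L257614)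 q22387, e3 q21340 L247713 q18723, e3 q21341 L247725 q20034, e3 q21342 (flp_d L253453) q21967, e3 q21343 L247739 q21299, e3 q21344 (flp_d L247745) q18726, e3 q21345 L247761 q19803, e3 q21346 L247777 q19823, e3 q21347 (flp_d L257640) q22390, e3 q21348 L247797 q18733, e3 q21349 L247809 q20054, e3 q21350 (flp_d L253820) q22005, e3 q21351 L247823 q21300, e3 q21352 (flp_d L247829) q18737, e3 q21353 L247843 q20628, e3 q21354 L247849 q20630, e3 q21355 (flp_d L247867) q20947, e3 q21356 (flp_d L247869) q18742, e3 q21357 L247877 q21289, e3 q21358 L247887 q20741, e3 q21359 L248670 q21450, e3 q21360 (flp_d L248710) q21456, e3 q21361 (flp_d L252168) q21842, e3 q21362 L247922 q18888, e3 q21363 L247926 q18755, e3 q21364 (flp_d L247940) q20719, e3 q21365 (flp_d L258810) q22503, e3 q21366 L247950 q20734, e3 q21367 L247958 q20736, e3 q21368 (flp_d L252068) q21830, e3 q21369 L247971 q18766, e3 q21370 L247983 q18767, e3 q21371 L247993 q20918, e3 q21372 L248003 q21217, e3 q21373 (flp_d L259634) q22580, e3 q21374 L248021 q20927, e3 q21375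 L248029 q20436, trivial⟩ (by decide +kernel)

theorem ce_d_334 : ∀ r, r < 64 → sm gd (Qf (21376 + r)) = Qf (tab Gen.d (21376 + r)) :=
  edges_tab (sm gd) Qf (tab Gen.d) 21376 [(21376, 19233), (21377, 18903), (21378, 21465), (21379, 22162), (21380, 21846), (21381, 18861), (21382, 21874), (21383, 19495), (21384, 21329), (21385, 22254), (21386, 18784), (21387, 20266), (21388, 18785), (21389, 18786), (21390, 22588), (21391, 18788), (21392, 22407), (21393, 22501), (21394, 21110), (21395, 22541), (21396, 20257), (21397, 22587), (21398, 19722), (21399, 20655), (21400, 20657), (21401, 18793), (21402, 21284), (21403, 20708), (21404, 21498), (21405, 21492), (21406, 21920), (21407, 18943), (21408, 18806), (21409, 20682), (21410, 22504), (21411, 20701), (21412, 20703), (21413, 21768), (21414, 18816), (21415, 18818), (21416, 21197), (21417, 22593), (21418, 20956), (21419, 19475), (21420, 20494), (21421, 21507), (21422, 18848), (21423, 22153), (21424, 21922), (21425, 18916), (21426, 21776), (21427, 19262), (21428, 21324), (21429,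 22243), (21430, 18835), (21431, 20277), (21432, 18836), (21433, 18837), (21434, 22601), (21435, 18839), (21436, 22426), (21437, 21169), (21438, 22527), (21439, 22550)]
    ⟨e3 q21376 L248035 q19233, e3 q21377 L248043 q18903, e3 q21378 (flp_d L248774) q21465, e3 q21379 (flp_d L255352) q22162, e3 q21380 (flp_d L252213) q21846, e3 q21381 L248075 q18861, e3 q21382 (flp_d L252496) q21874, e3 q21383 L248097 q19495, e3 q21384 L248107 q21329, e3 q21385 (flp_d L256272) q22254, e3 q21386 L248119 q18784, e3 q21387 L248131 q20266, e3 q21388 L248141 q18785, e3 q21389 L248149 q18786, e3 q21390 L259702 q22588, e3 q21391 L248159 q18788, e3 q21392 (flp_d L257814) q22407, e3 q21393 (flp_d L258788) q22501, e3 q21394 L248185 q21110, e3 q21395 (flp_d L259232) q22541, e3 q21396 (flp_d L248209) q20257, e3 q21397 (flp_d L259698) q22587, e3 q21398 L248223 q19722, e3 q21399 L248231 q20655, e3 q21400 L248237 q20657, e3 q21401 (flp_d L248245) q18793, e3 q21402 L248255 q21284, e3 q21403 L248265 q20708, e3 q21404 (flp_d L249048) q21498, e3 q21405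 L249008 q21492, e3 q21406 (flp_d L252968) q21920, e3 q21407 L248300 q18943, e3 q21408 L248304 q18806, e3 q21409 (flp_d L248318) q20682, e3 q21410 (flp_d L258822) q22504, e3 q21411 L248328 q20701, e3 q21412 L248336 q20703, e3 q21413 (flp_d L251401) q21768, e3 q21414 L248349 q18816, e3 q21415 L248361 q18818, e3 q21416 L248369 q21197, e3 q21417 (flp_d L259764) q22593, e3 q21418 L248389 q20956, e3 q21419 L248397 q19475, e3 q21420 L248405 q20494, e3 q21421 (flp_d L249116) q21507, e3 q21422 L248417 q18848, e3 q21423 (flp_d L255271) q22153, e3 q21424 (flp_d L252992) q21922, e3 q21425 L248443 q18916, e3 q21426 (flp_d L251498) q21776, e3 q21427 L248467 q19262, e3 q21428 L248477 q21324, e3 q21429 L256168 q22243, e3 q21430 L248489 q18835, e3 q21431 L248501 q20277, e3 q21432 L248511 q18836, e3 q21433 L248519 q18837, e3 q21434 L259836 q22601, e3 q21435 L248529 q18839, e3 q21436 (flp_d L257988) q22426, e3 q21437 L248545 q21169, e3 q21438 (flp_d L259079) q22527, e3 q21439 (flp_d L259330) q22550, trivial⟩ (by decide +kernel)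

theorem ce_d_335 : ∀ r, r < 64 → sm gd (Qf (21440 + r)) = Qf (tab Gen.d (21440 + r)) :=
  edges_tab (sm gd) Qf (tab Gen.d) 21440 [(21440, 20245), (21441, 22600), (21442, 19815), (21443, 22605), (21444, 18941), (21445, 22358), (21446, 20479), (21447, 20499), (21448, 19895), (21449, 22507), (21450, 21359), (21451, 18851), (21452, 22608), (21453, 19896), (21454, 21129), (21455, 20195), (21456, 21360), (21457, 21845), (21458, 22163), (21459, 19897), (21460, 22596), (21461, 22289), (21462, 18864), (21463, 21184), (21464, 19899), (21465, 21378), (21466, 20188), (21467, 19900), (21468, 19904), (21469, 19902), (21470, 18879), (21471, 21839), (21472, 18885), (21473, 22613), (21474, 18887), (21475, 18883), (21476, 22297), (21477, 22618), (21478, 22617), (21479, 22166), (21480, 22531), (21481, 18886), (21482, 22509), (21483, 18889), (21484, 19905), (21485, 22364), (21486, 18894), (21487, 22622), (21488, 20537), (21489, 20441), (21490, 19908), (21491, 22530), (21492, 21405), (21493, 18906), (21494, 22623), (21495, 19909),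 (21496, 21182), (21497, 20178), (21498, 21404), (21499, 21921), (21500, 22154), (21501, 19910), (21502, 22583), (21503, 22269)]
    ⟨e3 q21440 (flp_d L248579) q20245, e3 q21441 (flp_d L259832) q22600, e3 q21442 L248593 q19815, e3 q21443 L259882 q22605, e3 q21444 L248607 q18941, e3 q21445 (flp_d L257309) q22358, e3 q21446 L248626 q20479, e3 q21447 L248636 q20499, e3 q21448 L248644 q19895, e3 q21449 (flp_d L258850) q22507, e3 q21450 (flp_d L248670) q21359, e3 q21451 (flp_d L248672) q18851, e3 q21452 L259918 q22608, e3 q21453 L248690 q19896, e3 q21454 L248698 q21129, e3 q21455 L248704 q20195, e3 q21456 L248710 q21360, e3 q21457 (flp_d L252199) q21845, e3 q21458 (flp_d L255356) q22163, e3 q21459 L248732 q19897, e3 q21460 (flp_d L259790) q22596, e3 q21461 (flp_d L256655) q22289, e3 q21462 (flp_d L248752) q18864, e3 q21463 L248760 q21184, e3 q21464 L248764 q19899, e3 q21465 L248774 q21378, e3 q21466 L248780 q20188, e3 q21467 L248790 q19900, e3 q21468 L248808 q19904, e3 q21469 L248816 q19902, e3 q21470 L248830 q18879,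 e3 q21471 L252148 q21839, e3 q21472 L248840 q18885, e3 q21473 L259982 q22613, e3 q21474 L248848 q18887, e3 q21475 L248854 q18883, e3 q21476 (flp_d L256740) q22297, e3 q21477 L260012 q22618, e3 q21478 (flp_d L260004) q22617, e3 q21479 (flp_d L255388) q22166, e3 q21480 (flp_d L259125) q22531, e3 q21481 (flp_d L248902) q18886, e3 q21482 (flp_d L258876) q22509, e3 q21483 (flp_d L248918) q18889, e3 q21484 L248927 q19905, e3 q21485 (flp_d L257379) q22364, e3 q21486 L248944 q18894, e3 q21487 L260054 q22622, e3 q21488 L248958 q20537, e3 q21489 L248970 q20441, e3 q21490 L248980 q19908, e3 q21491 (flp_d L259109) q22530, e3 q21492 (flp_d L249008) q21405, e3 q21493 (flp_d L249010) q18906, e3 q21494 L260068 q22623, e3 q21495 L249028 q19909, e3 q21496 L249036 q21182, e3 q21497 L249042 q20178, e3 q21498 L249048 q21404, e3 q21499 (flp_d L252976) q21921, e3 q21500 (flp_d L255275) q22154, e3 q21501 L249072 q19910, e3 q21502 (flp_d L259656) q22583, e3 q21503 (flp_d L256450) q22269, trivial⟩ (by decide +kernel)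

theorem ce_d_336 : ∀ r, r < 64 → sm gd (Qf (21504 + r)) = Qf (tab Gen.d (21504 + r)) :=
  edges_tab (sm gd) Qf (tab Gen.d) 21504 [(21504, 18919), (21505, 21131), (21506, 19912), (21507, 21421), (21508, 20171), (21509, 19913), (21510, 19917), (21511, 19915), (21512, 18934), (21513, 21919), (21514, 18940), (21515, 22627), (21516, 18942), (21517, 18938), (21518, 22278), (21519, 22632), (21520, 22631), (21521, 22157), (21522, 22508), (21523, 22532), (21524, 18944), (21525, 19918), (21526, 18948), (21527, 18951), (21528, 21273), (21529, 21166), (21530, 21232), (21531, 21978), (21532, 18961), (21533, 21538), (21534, 18997), (21535, 22635), (21536, 18963), (21537, 22206), (21538, 21533), (21539, 22439), (21540, 18965), (21541, 20128), (21542, 21136), (21543, 18966), (21544, 21045), (21545, 21564), (21546, 18969), (21547, 21784), (21548, 20166), (21549, 21786), (21550, 20693), (21551, 18977), (21552, 19821), (21553, 18979), (21554, 18980), (21555, 21050), (21556, 21858), (21557, 20003), (21558, 18990), (21559, 22642),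 (21560, 21733), (21561, 19562), (21562, 18994), (21563, 22438), (21564, 21545), (21565, 22644), (21566, 19001), (21567, 22647)]
    ⟨e3 q21504 (flp_d L249092) q18919, e3 q21505 L249100 q21131, e3 q21506 L249106 q19912, e3 q21507 L249116 q21421, e3 q21508 L249122 q20171, e3 q21509 L249136 q19913, e3 q21510 L249154 q19917, e3 q21511 L249162 q19915, e3 q21512 L249176 q18934, e3 q21513 L252962 q21919, e3 q21514 L249186 q18940, e3 q21515 L260124 q22627, e3 q21516 L249198 q18942, e3 q21517 L249206 q18938, e3 q21518 (flp_d L256535) q22278, e3 q21519 L260166 q22632, e3 q21520 (flp_d L260158) q22631, e3 q21521 (flp_d L255305) q22157, e3 q21522 (flp_d L258866) q22508, e3 q21523 (flp_d L259135) q22532, e3 q21524 (flp_d L249270) q18944, e3 q21525 L249279 q19918, e3 q21526 L249287 q18948, e3 q21527 (flp_d L249291) q18951, e3 q21528 L249303 q21273, e3 q21529 L249313 q21166, e3 q21530 (flp_d L249329) q21232, e3 q21531 (flp_d L253557) q21978, e3 q21532 (flp_d L249339) q18961, e3 q21533 L249378 q21538, e3 q21534 L249359 q18997,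 e3 q21535 L260202 q22635, e3 q21536 (flp_d L249367) q18963, e3 q21537 L255767 q22206, e3 q21538 (flp_d L249378) q21533, e3 q21539 (flp_d L258099) q22439, e3 q21540 L249400 q18965, e3 q21541 L249410 q20128, e3 q21542 (flp_d L249424) q21136, e3 q21543 (flp_d L249428) q18966, e3 q21544 L249448 q21045, e3 q21545 (flp_d L249635) q21564, e3 q21546 L249468 q18969, e3 q21547 (flp_d L251582) q21784, e3 q21548 L249490 q20166, e3 q21549 (flp_d L251598) q21786, e3 q21550 L249506 q20693, e3 q21551 L249514 q18977, e3 q21552 L249530 q19821, e3 q21553 (flp_d L249532) q18979, e3 q21554 (flp_d L249541) q18980, e3 q21555 L249563 q21050, e3 q21556 (flp_d L252323) q21858, e3 q21557 L249579 q20003, e3 q21558 (flp_d L249584) q18990, e3 q21559 (flp_d L260264) q22642, e3 q21560 L251065 q21733, e3 q21561 (flp_d L249613) q19562, e3 q21562 (flp_d L249615) q18994, e3 q21563 L258083 q22438, e3 q21564 L249635 q21545, e3 q21565 L260284 q22644, e3 q21566 (flp_d L249651) q19001, e3 q21567 (flp_d L260319) q22647, trivial⟩ (by decide +kernel)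

theorem ce_d_337 : ∀ r, r < 64 → sm gd (Qf (21568 + r)) = Qf (tab Gen.d (21568 + r)) :=
  edges_tab (sm gd) Qf (tab Gen.d) 21568 [(21568, 22522), (21569, 21738), (21570, 19003), (21571, 19004), (21572, 22466), (21573, 20497), (21574, 21815), (21575, 21732), (21576, 19011), (21577, 22651), (21578, 21899), (21579, 21734), (21580, 21726), (21581, 19156), (21582, 21932), (21583, 19019), (21584, 19206), (21585, 21752), (21586, 22655), (21587, 19024), (21588, 19568), (21589, 22656), (21590, 22081), (21591, 22657), (21592, 19709), (21593, 19025), (21594, 19030), (21595, 22354), (21596, 19728), (21597, 22468), (21598, 22575), (21599, 21716), (21600, 19646), (21601, 19641), (21602, 21719), (21603, 21720), (21604, 19045), (21605, 21930), (21606, 19631), (21607, 21809), (21608, 19634), (21609, 21703), (21610, 21725), (21611, 21727), (21612, 19054), (21613, 19055), (21614, 19053), (21615, 22665), (21616, 22669), (21617, 22666), (21618, 21700), (21619, 21686), (21620, 21704), (21621, 19061), (21622, 22672), (21623, 19060),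 (21624, 21654), (21625, 22671), (21626, 21695), (21627, 19063), (21628, 21292), (21629, 21297), (21630, 19081), (21631, 19067)]
    ⟨e3 q21568 (flp_d L259027) q22522, e3 q21569 (flp_d L251109) q21738, e3 q21570 L249673 q19003, e3 q21571 L249681 q19004, e3 q21572 (flp_d L258396) q22466, e3 q21573 L249697 q20497, e3 q21574 (flp_d L251902) q21815, e3 q21575 (flp_d L251047) q21732, e3 q21576 L249723 q19011, e3 q21577 (flp_d L260361) q22651, e3 q21578 (flp_d L252758) q21899, e3 q21579 (flp_d L251073) q21734, e3 q21580 (flp_d L250997) q21726, e3 q21581 L249749 q19156, e3 q21582 (flp_d L253098) q21932, e3 q21583 L249767 q19019, e3 q21584 L249777 q19206, e3 q21585 (flp_d L251243) q21752, e3 q21586 L260392 q22655, e3 q21587 L249795 q19024, e3 q21588 L249803 q19568, e3 q21589 (flp_d L260404) q22656, e3 q21590 (flp_d L254616) q22081, e3 q21591 (flp_d L260414) q22657, e3 q21592 L249833 q19709, e3 q21593 (flp_d L249835) q19025, e3 q21594 L249847 q19030, e3 q21595 (flp_d L257257) q22354, e3 q21596 L249871 q19728, e3 q21597 (flp_d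 L258412) q22468, e3 q21598 (flp_d L259587) q22575, e3 q21599 (flp_d L250907) q21716, e3 q21600 L249891 q19646, e3 q21601 L249905 q19641, e3 q21602 (flp_d L250935) q21719, e3 q21603 (flp_d L250945) q21720, e3 q21604 (flp_d L249921) q19045, e3 q21605 (flp_d L253074) q21930, e3 q21606 L249941 q19631, e3 q21607 (flp_d L251846) q21809, e3 q21608 L249957 q19634, e3 q21609 (flp_d L250791) q21703, e3 q21610 (flp_d L250989) q21725, e3 q21611 (flp_d L251007) q21727, e3 q21612 L249983 q19054, e3 q21613 L249989 q19055, e3 q21614 (flp_d L249993) q19053, e3 q21615 (flp_d L260482) q22665, e3 q21616 L260522 q22669, e3 q21617 (flp_d L260492) q22666, e3 q21618 (flp_d L250773) q21700, e3 q21619 (flp_d L250653) q21686, e3 q21620 (flp_d L250799) q21704, e3 q21621 L250057 q19061, e3 q21622 L260548 q22672, e3 q21623 (flp_d L250067) q19060, e3 q21624 (flp_d L250328) q21654, e3 q21625 (flp_d L260540) q22671, e3 q21626 (flp_d L250729) q21695, e3 q21627 L250095 q19063, e3 q21628 L250103 q21292, e3 q21629 L250111 q21297, e3 q21630 L250121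 q19081, e3 q21631 (flp_d L250123) q19067, trivial⟩ (by decide +kernel)

theorem ce_d_338 : ∀ r, r < 64 → sm gd (Qf (21632 + r)) = Qf (tab Gen.d (21632 + r)) :=
  edges_tab (sm gd) Qf (tab Gen.d) 21632 [(21632, 22676), (21633, 20779), (21634, 19070), (21635, 19071), (21636, 22678), (21637, 20782), (21638, 21843), (21639, 21931), (21640, 21903), (21641, 19075), (21642, 19076), (21643, 22383), (21644, 22681), (21645, 19358), (21646, 21705), (21647, 19086), (21648, 19085), (21649, 22684), (21650, 22687), (21651, 22685), (21652, 22001), (21653, 19087), (21654, 21624), (21655, 21111), (21656, 19109), (21657, 19116), (21658, 19091), (21659, 21282), (21660, 21116), (21661, 21208), (21662, 21940), (21663, 19101), (21664, 21668), (21665, 19136), (21666, 19103), (21667, 22221), (21668, 21664), (21669, 22452), (21670, 19105), (21671, 20121), (21672, 21188), (21673, 19106), (21674, 21082), (21675, 21690), (21676, 21881), (21677, 20183), (21678, 21883), (21679, 20728), (21680, 19118), (21681, 19119), (21682, 21085), (21683, 19944),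 (21684, 19129), (21685, 22694), (21686, 21619), (21687, 19342), (21688, 19133), (21689, 22451), (21690, 21675), (21691, 22696), (21692, 19140), (21693, 22699), (21694, 22497), (21695, 21626)]
    ⟨e3 q21632 (flp_d L260583) q22676, e3 q21633 (flp_d L250151) q20779, e3 q21634 L250155 q19070, e3 q21635 L250163 q19071, e3 q21636 (flp_d L260604) q22678, e3 q21637 L250179 q20782, e3 q21638 (flp_d L252178) q21843, e3 q21639 (flp_d L253082) q21931, e3 q21640 (flp_d L252798) q21903, e3 q21641 L250208 q19075, e3 q21642 L250220 q19076, e3 q21643 (flp_d L257568) q22383, e3 q21644 (flp_d L260641) q22681, e3 q21645 L250248 q19358, e3 q21646 (flp_d L250807) q21705, e3 q21647 L250262 q19086, e3 q21648 (flp_d L250266) q19085, e3 q21649 (flp_d L260671) q22684, e3 q21650 L260705 q22687, e3 q21651 (flp_d L260685) q22685, e3 q21652 (flp_d L253772) q22001, e3 q21653 (flp_d L250310) q19087, e3 q21654 L250328 q21624, e3 q21655 L250334 q21111, e3 q21656 L250340 q19109, e3 q21657 L250354 q19116, e3 q21658 (flp_d L250362) q19091, e3 q21659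 L250374 q21282, e3 q21660 L250384 q21116, e3 q21661 (flp_d L250408) q21208, e3 q21662 (flp_d L253188) q21940, e3 q21663 (flp_d L250418) q19101, e3 q21664 L250451 q21668, e3 q21665 L250438 q19136, e3 q21666 (flp_d L250440) q19103, e3 q21667 L255924 q22221, e3 q21668 (flp_d L250451) q21664, e3 q21669 (flp_d L258240) q22452, e3 q21670 L250484 q19105, e3 q21671 L250494 q20121, e3 q21672 (flp_d L250508) q21188, e3 q21673 (flp_d L250512) q19106, e3 q21674 L250532 q21082, e3 q21675 (flp_d L250691) q21690, e3 q21676 (flp_d L252568) q21881, e3 q21677 L250562 q20183, e3 q21678 (flp_d L252584) q21883, e3 q21679 L250578 q20728, e3 q21680 (flp_d L250588) q19118, e3 q21681 (flp_d L250597) q19119, e3 q21682 L250619 q21085, e3 q21683 L250627 q19944, e3 q21684 (flp_d L250632) q19129, e3 q21685 (flp_d L260787) q22694, e3 q21686 L250653 q21619, e3 q21687 (flp_d L250669) q19342, e3 q21688 (flp_d L250671) q19133, e3 q21689 L258224 q22451, e3 q21690 L250691 q21675, e3 q21691 L260809 q22696, e3 q21692 (flp_d L250707) q19140, e3 q21693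 (flp_d L260846) q22699, e3 q21694 (flp_d L258748) q22497, e3 q21695 L250729 q21626, trivial⟩ (by decide +kernel)

theorem ce_d_339 : ∀ r, r < 64 → sm gd (Qf (21696 + r)) = Qf (tab Gen.d (21696 + r)) :=
  edges_tab (sm gd) Qf (tab Gen.d) 21696 [(21696, 19142), (21697, 19143), (21698, 22478), (21699, 20439), (21700, 21618), (21701, 19150), (21702, 21810), (21703, 21609), (21704, 21620), (21705, 21646), (21706, 22704), (21707, 19161), (21708, 19350), (21709, 22094), (21710, 19802), (21711, 19162), (21712, 19167), (21713, 22361), (21714, 22480), (21715, 22572), (21716, 21599), (21717, 19444), (21718, 19439), (21719, 21602), (21720, 21603), (21721, 19182), (21722, 19430), (21723, 21855), (21724, 19433), (21725, 21610), (21726, 21580), (21727, 21611), (21728, 19190), (21729, 19192), (21730, 19191), (21731, 22710), (21732, 21575), (21733, 21560), (21734, 21579), (21735, 19198), (21736, 19197), (21737, 21758), (21738, 21569), (21739, 19200), (21740, 21287), (21741, 21298), (21742, 19215), (21743, 19204), (21744, 20789),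 (21745, 21857), (21746, 21816), (21747, 19209), (21748, 19210), (21749, 22381), (21750, 22714), (21751, 19573), (21752, 21585), (21753, 19220), (21754, 19219), (21755, 22717), (21756, 21963), (21757, 19221), (21758, 21737), (21759, 21170)]
    ⟨e3 q21696 L250735 q19142, e3 q21697 L250741 q19143, e3 q21698 (flp_d L258534) q22478, e3 q21699 L250757 q20439, e3 q21700 L250773 q21618, e3 q21701 L250779 q19150, e3 q21702 (flp_d L251862) q21810, e3 q21703 L250791 q21609, e3 q21704 L250799 q21620, e3 q21705 L250807 q21646, e3 q21706 L260896 q22704, e3 q21707 L250819 q19161, e3 q21708 L250827 q19350, e3 q21709 (flp_d L254726) q22094, e3 q21710 L250851 q19802, e3 q21711 (flp_d L250853) q19162, e3 q21712 L250865 q19167, e3 q21713 (flp_d L257341) q22361, e3 q21714 (flp_d L258550) q22480, e3 q21715 (flp_d L259556) q22572, e3 q21716 L250907 q21599, e3 q21717 L250911 q19444, e3 q21718 L250927 q19439, e3 q21719 L250935 q21602, e3 q21720 L250945 q21603, e3 q21721 (flp_d L250951) q19182, e3 q21722 L250965 q19430, e3 q21723 (flp_d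 L252289) q21855, e3 q21724 L250981 q19433, e3 q21725 L250989 q21610, e3 q21726 L250997 q21580, e3 q21727 L251007 q21611, e3 q21728 L251015 q19190, e3 q21729 L251025 q19192, e3 q21730 (flp_d L251031) q19191, e3 q21731 L260966 q22710, e3 q21732 L251047 q21575, e3 q21733 (flp_d L251065) q21560, e3 q21734 L251073 q21579, e3 q21735 L251087 q19198, e3 q21736 (flp_d L251091) q19197, e3 q21737 (flp_d L251303) q21758, e3 q21738 L251109 q21569, e3 q21739 L251115 q19200, e3 q21740 L251125 q21287, e3 q21741 L251133 q21298, e3 q21742 L251149 q19215, e3 q21743 (flp_d L251151) q19204, e3 q21744 (flp_d L251171) q20789, e3 q21745 (flp_d L252307) q21857, e3 q21746 L251922 q21816, e3 q21747 L251189 q19209, e3 q21748 L251201 q19210, e3 q21749 (flp_d L257547) q22381, e3 q21750 (flp_d L261014) q22714, e3 q21751 L251233 q19573, e3 q21752 L251243 q21585, e3 q21753 L251251 q19220, e3 q21754 (flp_d L251255) q19219, e3 q21755 L261044 q22717, e3 q21756 (flp_d L253405) q21963, e3 q21757 (flp_d L251285) q19221, e3 q21758 L251303 q21737, e3 q21759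 L251311 q21170, trivial⟩ (by decide +kernel)

theorem ce_d_340 : ∀ r, r < 64 → sm gd (Qf (21760 + r)) = Qf (tab Gen.d (21760 + r)) :=
  edges_tab (sm gd) Qf (tab Gen.d) 21760 [(21760, 19381), (21761, 19923), (21762, 22281), (21763, 22535), (21764, 22719), (21765, 19995), (21766, 22398), (21767, 21098), (21768, 21413), (21769, 19250), (21770, 20793), (21771, 19926), (21772, 20884), (21773, 22158), (21774, 19257), (21775, 19987), (21776, 21426), (21777, 21780), (21778, 19928), (21779, 19763), (21780, 21777), (21781, 20836), (21782, 21316), (21783, 19277), (21784, 21547), (21785, 22150), (21786, 21549), (21787, 22167), (21788, 20908), (21789, 19936), (21790, 19290), (21791, 20229), (21792, 22609), (21793, 19299), (21794, 22727), (21795, 19309), (21796, 20377), (21797, 19314), (21798, 20754), (21799, 19318), (21800, 19554), (21801, 20416), (21802, 19327), (21803, 19328), (21804, 22284), (21805, 22285), (21806, 19343), (21807, 22695), (21808, 19344), (21809, 21607), (21810, 21702), (21811, 19352), (21812, 19346), (21813,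 22703), (21814, 19353), (21815, 21574), (21816, 21746), (21817, 19630), (21818, 19357), (21819, 19359), (21820, 19947), (21821, 19365), (21822, 22559), (21823, 22212)]
    ⟨e3 q21760 L251325 q19381, e3 q21761 L251333 q19923, e3 q21762 (flp_d L256567) q22281, e3 q21763 (flp_d L259162) q22535, e3 q21764 L261064 q22719, e3 q21765 L251369 q19995, e3 q21766 (flp_d L257720) q22398, e3 q21767 L251389 q21098, e3 q21768 L251401 q21413, e3 q21769 (flp_d L251403) q19250, e3 q21770 L251423 q20793, e3 q21771 L251431 q19926, e3 q21772 L251443 q20884, e3 q21773 (flp_d L255317) q22158, e3 q21774 (flp_d L251461) q19257, e3 q21775 L251482 q19987, e3 q21776 L251498 q21426, e3 q21777 (flp_d L251536) q21780, e3 q21778 L251518 q19928, e3 q21779 L251532 q19763, e3 q21780 L251536 q21777, e3 q21781 L251550 q20836, e3 q21782 L251560 q21316, e3 q21783 L251568 q19277, e3 q21784 L251582 q21547, e3 q21785 L255250 q22150, e3 q21786 L251598 q21549, e3 q21787 (flp_d L255400) q22167, e3 q21788 L251614 q20908, e3 q21789 L251632 q19936, e3 q21790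 L251646 q19290, e3 q21791 L251658 q20229, e3 q21792 (flp_d L259940) q22609, e3 q21793 (flp_d L251670) q19299, e3 q21794 (flp_d L261162) q22727, e3 q21795 (flp_d L251688) q19309, e3 q21796 L251708 q20377, e3 q21797 L251716 q19314, e3 q21798 L251734 q20754, e3 q21799 (flp_d L251736) q19318, e3 q21800 L251762 q19554, e3 q21801 L251774 q20416, e3 q21802 L251786 q19327, e3 q21803 L251794 q19328, e3 q21804 (flp_d L256599) q22284, e3 q21805 (flp_d L256607) q22285, e3 q21806 L251824 q19343, e3 q21807 (flp_d L260807) q22695, e3 q21808 L251838 q19344, e3 q21809 L251846 q21607, e3 q21810 L251862 q21702, e3 q21811 L251868 q19352, e3 q21812 (flp_d L251874) q19346, e3 q21813 L260894 q22703, e3 q21814 L251896 q19353, e3 q21815 L251902 q21574, e3 q21816 (flp_d L251922) q21746, e3 q21817 L251930 q19630, e3 q21818 L251938 q19357, e3 q21819 (flp_d L251944) q19359, e3 q21820 L251954 q19947, e3 q21821 (flp_d L251960) q19365, e3 q21822 (flp_d L259430) q22559, e3 q21823 (flp_d L255823) q22212, trivial⟩ (by decide +kernel)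

theorem ce_d_341 : ∀ r, r < 64 → sm gd (Qf (21824 + r)) = Qf (tab Gen.d (21824 + r)) :=
  edges_tab (sm gd) Qf (tab Gen.d) 21824 [(21824, 21286), (21825, 19375), (21826, 19378), (21827, 21912), (21828, 19384), (21829, 19596), (21830, 21368), (21831, 19541), (21832, 22303), (21833, 22307), (21834, 22304), (21835, 19405), (21836, 19406), (21837, 22733), (21838, 22027), (21839, 21471), (21840, 22305), (21841, 20553), (21842, 21361), (21843, 21638), (21844, 19418), (21845, 21457), (21846, 21380), (21847, 19425), (21848, 19429), (21849, 22706), (21850, 19434), (21851, 19435), (21852, 22367), (21853, 21927), (21854, 19440), (21855, 21723), (21856, 19447), (21857, 21745), (21858, 21556), (21859, 19450), (21860, 19979), (21861, 19456), (21862, 20263), (21863, 19461), (21864, 22148), (21865, 19984), (21866, 22299), (21867, 22514), (21868, 22724), (21869, 21151), (21870, 19484), (21871, 20797), (21872, 22393), (21873, 19490), (21874, 21382), (21875, 21878), (21876, 19988), (21877, 19669), (21878, 21875), (21879, 20833),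 (21880, 21305), (21881, 21676), (21882, 22159), (21883, 21678), (21884, 19519), (21885, 20222), (21886, 22624), (21887, 19527)]
    ⟨e3 q21824 L251992 q21286, e3 q21825 L252000 q19375, e3 q21826 L252016 q19378, e3 q21827 (flp_d L252892) q21912, e3 q21828 L252036 q19384, e3 q21829 L252050 q19596, e3 q21830 L252068 q21368, e3 q21831 L252076 q19541, e3 q21832 (flp_d L256802) q22303, e3 q21833 (flp_d L256852) q22307, e3 q21834 (flp_d L256810) q22304, e3 q21835 L252110 q19405, e3 q21836 L252120 q19406, e3 q21837 (flp_d L261224) q22733, e3 q21838 (flp_d L254036) q22027, e3 q21839 (flp_d L252148) q21471, e3 q21840 (flp_d L256826) q22305, e3 q21841 L252156 q20553, e3 q21842 L252168 q21361, e3 q21843 L252178 q21638, e3 q21844 L252191 q19418, e3 q21845 L252199 q21457, e3 q21846 L252213 q21380, e3 q21847 (flp_d L252219) q19425, e3 q21848 L252233 q19429, e3 q21849 (flp_d L260922) q22706, e3 q21850 L252249 q19434, e3 q21851 (flp_d L252259) q19435, e3 q21852 (flp_d L257407) q22367, e3 q21853 (flp_d L253046) q21927, e3 q21854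 L252279 q19440, e3 q21855 L252289 q21723, e3 q21856 L252297 q19447, e3 q21857 L252307 q21745, e3 q21858 L252323 q21556, e3 q21859 L252331 q19450, e3 q21860 L252341 q19979, e3 q21861 (flp_d L252349) q19456, e3 q21862 L252365 q20263, e3 q21863 L252375 q19461, e3 q21864 (flp_d L255226) q22148, e3 q21865 L252393 q19984, e3 q21866 (flp_d L256762) q22299, e3 q21867 (flp_d L258929) q22514, e3 q21868 (flp_d L261122) q22724, e3 q21869 L252435 q21151, e3 q21870 (flp_d L252437) q19484, e3 q21871 L252457 q20797, e3 q21872 (flp_d L257664) q22393, e3 q21873 (flp_d L252471) q19490, e3 q21874 L252496 q21382, e3 q21875 (flp_d L252534) q21878, e3 q21876 L252516 q19988, e3 q21877 L252530 q19669, e3 q21878 L252534 q21875, e3 q21879 L252548 q20833, e3 q21880 L252558 q21305, e3 q21881 L252568 q21676, e3 q21882 L255331 q22159, e3 q21883 L252584 q21678, e3 q21884 L252600 q19519, e3 q21885 L252612 q20222, e3 q21886 (flp_d L260090) q22624, e3 q21887 (flp_d L252624) q19527, trivial⟩ (by decide +kernel)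

theorem ce_d_342 : ∀ r, r < 64 → sm gd (Qf (21888 + r)) = Qf (tab Gen.d (21888 + r)) :=
  edges_tab (sm gd) Qf (tab Gen.d) 21888 [(21888, 22740), (21889, 19537), (21890, 20424), (21891, 20765), (21892, 19545), (21893, 20366), (21894, 19553), (21895, 22264), (21896, 22265), (21897, 22643), (21898, 19563), (21899, 21578), (21900, 19565), (21901, 22654), (21902, 19569), (21903, 21640), (21904, 19574), (21905, 20006), (21906, 19580), (21907, 22557), (21908, 22227), (21909, 21291), (21910, 19590), (21911, 19593), (21912, 21827), (21913, 19610), (21914, 19611), (21915, 22041), (21916, 22743), (21917, 22317), (21918, 20578), (21919, 21513), (21920, 21406), (21921, 21499), (21922, 21424), (21923, 19626), (21924, 22662), (21925, 19635), (21926, 19636), (21927, 21853), (21928, 22371), (21929, 19640), (21930, 21605), (21931, 21639), (21932, 21582), (21933, 19650), (21934, 20016), (21935, 19656), (21936, 20274), (21937, 19661), (21938, 22149), (21939, 20587), (21940, 21662), (21941, 19671), (21942, 21010), (21943, 21970),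 (21944, 20314), (21945, 21301), (21946, 19683), (21947, 19681), (21948, 22397), (21949, 21124), (21950, 22016), (21951, 22268)]
    ⟨e3 q21888 (flp_d L261298) q22740, e3 q21889 (flp_d L252642) q19537, e3 q21890 L252664 q20424, e3 q21891 L252678 q20765, e3 q21892 (flp_d L252680) q19545, e3 q21893 L252700 q20366, e3 q21894 L252708 q19553, e3 q21895 (flp_d L256398) q22264, e3 q21896 (flp_d L256406) q22265, e3 q21897 (flp_d L260282) q22643, e3 q21898 L252744 q19563, e3 q21899 L252758 q21578, e3 q21900 (flp_d L252760) q19565, e3 q21901 L260390 q22654, e3 q21902 L252782 q19569, e3 q21903 L252798 q21640, e3 q21904 (flp_d L252800) q19574, e3 q21905 L252810 q20006, e3 q21906 (flp_d L252816) q19580, e3 q21907 (flp_d L259409) q22557, e3 q21908 (flp_d L255980) q22227, e3 q21909 L252848 q21291, e3 q21910 L252858 q19590, e3 q21911 L252874 q19593, e3 q21912 L252892 q21827, e3 q21913 L252900 q19610, e3 q21914 L252912 q19611, e3 q21915 (flp_d L254178) q22041, e3 q21916 (flp_d L261334) q22743, e3 q21917 (flp_d L256935) q22317, e3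 q21918 L252948 q20578, e3 q21919 (flp_d L252962) q21513, e3 q21920 L252968 q21406, e3 q21921 L252976 q21499, e3 q21922 L252992 q21424, e3 q21923 (flp_d L252998) q19626, e3 q21924 (flp_d L260460) q22662, e3 q21925 L253020 q19635, e3 q21926 (flp_d L253032) q19636, e3 q21927 L253046 q21853, e3 q21928 (flp_d L257450) q22371, e3 q21929 L253062 q19640, e3 q21930 L253074 q21605, e3 q21931 L253082 q21639, e3 q21932 L253098 q21582, e3 q21933 L253106 q19650, e3 q21934 L253118 q20016, e3 q21935 (flp_d L253126) q19656, e3 q21936 L253142 q20274, e3 q21937 L253156 q19661, e3 q21938 (flp_d L255234) q22149, e3 q21939 (flp_d L253178) q20587, e3 q21940 L253188 q21662, e3 q21941 (flp_d L253200) q19671, e3 q21942 L253210 q21010, e3 q21943 (flp_d L253475) q21970, e3 q21944 L253236 q20314, e3 q21945 L253244 q21301, e3 q21946 L253258 q19683, e3 q21947 L253268 q19681, e3 q21948 (flp_d L257710) q22397, e3 q21949 L253284 q21124, e3 q21950 (flp_d L253922) q22016, e3 q21951 (flp_d L256440) q22268, trivial⟩ (by decide +kernel)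

theorem ce_d_343 : ∀ r, r < 64 → sm gd (Qf (21952 + r)) = Qf (tab Gen.d (21952 + r)) :=
  edges_tab (sm gd) Qf (tab Gen.d) 21952 [(21952, 22266), (21953, 22017), (21954, 20149), (21955, 22280), (21956, 20216), (21957, 20215), (21958, 19703), (21959, 22213), (21960, 22459), (21961, 22659), (21962, 19704), (21963, 21756), (21964, 19711), (21965, 22709), (21966, 22039), (21967, 21342), (21968, 22239), (21969, 19717), (21970, 21943), (21971, 22460), (21972, 19739), (21973, 19741), (21974, 20201), (21975, 22648), (21976, 21314), (21977, 20591), (21978, 21531), (21979, 19765), (21980, 22008), (21981, 20984), (21982, 20294), (21983, 21312), (21984, 19776), (21985, 19774), (21986, 22403), (21987, 21177), (21988, 22031), (21989, 22286), (21990, 22288), (21991, 22032), (21992, 20146), (21993, 22300), (21994, 20218), (21995, 20219), (21996, 19796), (21997, 22446), (21998, 22228), (21999, 22689), (22000, 19798), (22001, 21652), (22002, 19804), (22003, 22667), (22004, 22026), (22005, 21350), (22006, 22241), (22007, 19811),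 (22008, 21980), (22009, 22447), (22010, 19833), (22011, 19835), (22012, 20205), (22013, 22700), (22014, 21303), (22015, 20466)]
    ⟨e3 q21952 (flp_d L256418) q22266, e3 q21953 (flp_d L253932) q22017, e3 q21954 L253314 q20149, e3 q21955 (flp_d L256559) q22280, e3 q21956 L253338 q20216, e3 q21957 L253349 q20215, e3 q21958 L253363 q19703, e3 q21959 (flp_d L255839) q22213, e3 q21960 (flp_d L258314) q22459, e3 q21961 (flp_d L260432) q22659, e3 q21962 (flp_d L253387) q19704, e3 q21963 L253405 q21756, e3 q21964 L253415 q19711, e3 q21965 (flp_d L260964) q22709, e3 q21966 (flp_d L254150) q22039, e3 q21967 L253453 q21342, e3 q21968 (flp_d L256120) q22239, e3 q21969 (flp_d L253465) q19717, e3 q21970 L253475 q21943, e3 q21971 (flp_d L258328) q22460, e3 q21972 (flp_d L253485) q19739, e3 q21973 L253499 q19741, e3 q21974 L253507 q20201, e3 q21975 (flp_d L260329) q22648, e3 q21976 L253531 q21314, e3 q21977 (flp_d L253547) q20591, e3 q21978 L253557 q21531, e3 q21979 (flp_d L253565) q19765, e3 q21980 (flp_d L253842) q22008, e3 q21981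 L253583 q20984, e3 q21982 L253601 q20294, e3 q21983 L253609 q21312, e3 q21984 L253623 q19776, e3 q21985 L253633 q19774, e3 q21986 (flp_d L257778) q22403, e3 q21987 L253649 q21177, e3 q21988 (flp_d L254070) q22031, e3 q21989 (flp_d L256619) q22286, e3 q21990 (flp_d L256645) q22288, e3 q21991 (flp_d L254082) q22032, e3 q21992 L253681 q20146, e3 q21993 (flp_d L256776) q22300, e3 q21994 L253705 q20218, e3 q21995 L253719 q20219, e3 q21996 L253730 q19796, e3 q21997 (flp_d L258173) q22446, e3 q21998 (flp_d L255996) q22228, e3 q21999 (flp_d L260737) q22689, e3 q22000 (flp_d L253754) q19798, e3 q22001 L253772 q21652, e3 q22002 L253782 q19804, e3 q22003 (flp_d L260508) q22667, e3 q22004 (flp_d L254022) q22026, e3 q22005 L253820 q21350, e3 q22006 (flp_d L256140) q22241, e3 q22007 (flp_d L253832) q19811, e3 q22008 L253842 q21980, e3 q22009 (flp_d L258187) q22447, e3 q22010 (flp_d L253852) q19833, e3 q22011 L253868 q19835, e3 q22012 L253878 q20205, e3 q22013 (flp_d L260856) q22700, e3 q22014 L253902 q21303, e3 q22015 L253916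 q20466, trivial⟩ (by decide +kernel)

theorem ce_d_344 : ∀ r, r < 64 → sm gd (Qf (22016 + r)) = Qf (tab Gen.d (22016 + r)) :=
  edges_tab (sm gd) Qf (tab Gen.d) 22016 [(22016, 21950), (22017, 21953), (22018, 22308), (22019, 20586), (22020, 19862), (22021, 19863), (22022, 22201), (22023, 20271), (22024, 22156), (22025, 20913), (22026, 22004), (22027, 21838), (22028, 19871), (22029, 22290), (22030, 20523), (22031, 21988), (22032, 21991), (22033, 20569), (22034, 19880), (22035, 19881), (22036, 22196), (22037, 20260), (22038, 22165), (22039, 21966), (22040, 20942), (22041, 21915), (22042, 19889), (22043, 22270), (22044, 19898), (22045, 22611), (22046, 19911), (22047, 22625), (22048, 20607), (22049, 19938), (22050, 20999), (22051, 19942), (22052, 19943), (22053, 19946), (22054, 19949), (22055, 19959), (22056, 19955), (22057, 19956), (22058, 19960), (22059, 19963), (22060, 19965), (22061, 19966), (22062, 19974), (22063, 19973), (22064, 20610), (22065, 19997), (22066, 20973), (22067, 20001), (22068, 20002), (22069, 20005),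 (22070, 20019), (22071, 21261), (22072, 20023), (22073, 22483), (22074, 20026), (22075, 22539), (22076, 20029), (22077, 22751), (22078, 20031), (22079, 20032)]
    ⟨e3 q22016 L253922 q21950, e3 q22017 L253932 q21953, e3 q22018 (flp_d L256860) q22308, e3 q22019 L253954 q20586, e3 q22020 L253962 q19862, e3 q22021 L253966 q19863, e3 q22022 (flp_d L255700) q22201, e3 q22023 L253988 q20271, e3 q22024 (flp_d L255297) q22156, e3 q22025 L254008 q20913, e3 q22026 L254022 q22004, e3 q22027 L254036 q21838, e3 q22028 L254044 q19871, e3 q22029 (flp_d L256667) q22290, e3 q22030 L254062 q20523, e3 q22031 L254070 q21988, e3 q22032 L254082 q21991, e3 q22033 L254094 q20569, e3 q22034 L254102 q19880, e3 q22035 L254112 q19881, e3 q22036 (flp_d L255638) q22196, e3 q22037 L254130 q20260, e3 q22038 (flp_d L255380) q22165, e3 q22039 L254150 q21966, e3 q22040 L254164 q20942, e3 q22041 L254178 q21915, e3 q22042 L254186 q19889, e3 q22043 (flp_d L256462) q22270, e3 q22044 (flp_d L254202) q19898, e3 q22045 (flp_d L259964) q22611, e3 q22046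 (flp_d L254226) q19911, e3 q22047 (flp_d L260100) q22625, e3 q22048 L254252 q20607, e3 q22049 L254267 q19938, e3 q22050 L254281 q20999, e3 q22051 L254288 q19942, e3 q22052 L254300 q19943, e3 q22053 L254312 q19946, e3 q22054 (flp_d L254316) q19949, e3 q22055 L254336 q19959, e3 q22056 L254344 q19955, e3 q22057 L254356 q19956, e3 q22058 L254370 q19960, e3 q22059 (flp_d L254378) q19963, e3 q22060 L254396 q19965, e3 q22061 L254408 q19966, e3 q22062 L254424 q19974, e3 q22063 L254432 q19973, e3 q22064 L254442 q20610, e3 q22065 L254457 q19997, e3 q22066 L254471 q20973, e3 q22067 L254482 q20001, e3 q22068 L254492 q20002, e3 q22069 L254504 q20005, e3 q22070 L254514 q20019, e3 q22071 L254530 q21261, e3 q22072 (flp_d L254532) q20023, e3 q22073 (flp_d L258596) q22483, e3 q22074 L254558 q20026, e3 q22075 (flp_d L259214) q22539, e3 q22076 (flp_d L254570) q20029, e3 q22077 (flp_d L261404) q22751, e3 q22078 L254584 q20031, e3 q22079 (flp_d L254592) q20032, trivial⟩ (by decide +kernel)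

theorem ce_d_345 : ∀ r, r < 64 → sm gd (Qf (22080 + r)) = Qf (tab Gen.d (22080 + r)) :=
  edges_tab (sm gd) Qf (tab Gen.d) 22080 [(22080, 20840), (22081, 21590), (22082, 22458), (22083, 20039), (22084, 21263), (22085, 20043), (22086, 22471), (22087, 20046), (22088, 22549), (22089, 20049), (22090, 22755), (22091, 20051), (22092, 20052), (22093, 20844), (22094, 21709), (22095, 22445), (22096, 22443), (22097, 22110), (22098, 22111), (22099, 20080), (22100, 20063), (22101, 20064), (22102, 20068), (22103, 20070), (22104, 20067), (22105, 22763), (22106, 22764), (22107, 22765), (22108, 22766), (22109, 21002), (22110, 22097), (22111, 22098), (22112, 20074), (22113, 22456), (22114, 22121), (22115, 20079), (22116, 22774), (22117, 22775), (22118, 22776), (22119, 22762), (22120, 20976), (22121, 22114), (22122, 20608), (22123, 20962), (22124, 20089), (22125, 20960), (22126, 20611), (22127, 20933), (22128, 20097), (22129, 20931), (22130, 20104), (22131, 21118), (22132, 20112), (22133, 21168), (22134, 21076), (22135, 21039),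 (22136, 22384), (22137, 22385), (22138, 22142), (22139, 21117), (22140, 22145), (22141, 21167), (22142, 22138), (22143, 22781)]
    ⟨e3 q22080 L254608 q20840, e3 q22081 L254616 q21590, e3 q22082 (flp_d L258302) q22458, e3 q22083 L254624 q20039, e3 q22084 L254640 q21263, e3 q22085 (flp_d L254642) q20043, e3 q22086 (flp_d L258456) q22471, e3 q22087 L254668 q20046, e3 q22088 (flp_d L259320) q22549, e3 q22089 (flp_d L254680) q20049, e3 q22090 (flp_d L261446) q22755, e3 q22091 L254694 q20051, e3 q22092 (flp_d L254702) q20052, e3 q22093 L254718 q20844, e3 q22094 L254726 q21709, e3 q22095 (flp_d L258161) q22445, e3 q22096 (flp_d L258139) q22443, e3 q22097 (flp_d L254852) q22110, e3 q22098 (flp_d L254863) q22111, e3 q22099 L254758 q20080, e3 q22100 L254766 q20063, e3 q22101 L254776 q20064, e3 q22102 L254788 q20068, e3 q22103 L254800 q20070, e3 q22104 L254808 q20067, e3 q22105 (flp_d L261518) q22763, e3 q22106 (flp_d L261530) q22764, e3 q22107 (flp_d L261542) q22765, e3 q22108 (flp_d L261550) q22766, e3 q22109 L254848 q21002,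 e3 q22110 L254852 q22097, e3 q22111 L254863 q22098, e3 q22112 L254872 q20074, e3 q22113 (flp_d L258280) q22456, e3 q22114 (flp_d L254937) q22121, e3 q22115 L254897 q20079, e3 q22116 (flp_d L261615) q22774, e3 q22117 (flp_d L261629) q22775, e3 q22118 (flp_d L261641) q22776, e3 q22119 (flp_d L261508) q22762, e3 q22120 L254933 q20976, e3 q22121 L254937 q22114, e3 q22122 L254948 q20608, e3 q22123 L254964 q20962, e3 q22124 (flp_d L254966) q20089, e3 q22125 L254986 q20960, e3 q22126 L254994 q20611, e3 q22127 L255010 q20933, e3 q22128 (flp_d L255012) q20097, e3 q22129 L255032 q20931, e3 q22130 L255040 q20104, e3 q22131 L255046 q21118, e3 q22132 L255064 q20112, e3 q22133 L255070 q21168, e3 q22134 L255084 q21076, e3 q22135 L255098 q21039, e3 q22136 (flp_d L257578) q22384, e3 q22137 (flp_d L257590) q22385, e3 q22138 L255180 q22142, e3 q22139 L255140 q21117, e3 q22140 L255206 q22145, e3 q22141 L255160 q21167, e3 q22142 (flp_d L255180) q22138, e3 q22143 L261690 q22781, trivial⟩ (by decide +kernel)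

theorem ce_d_346 : ∀ r, r < 64 → sm gd (Qf (22144 + r)) = Qf (tab Gen.d (22144 + r)) :=
  edges_tab (sm gd) Qf (tab Gen.d) 22144 [(22144, 20148), (22145, 22140), (22146, 22783), (22147, 20151), (22148, 21864), (22149, 21938), (22150, 21785), (22151, 22558), (22152, 22787), (22153, 21423), (22154, 21500), (22155, 20660), (22156, 22024), (22157, 21521), (22158, 21773), (22159, 21882), (22160, 22556), (22161, 22790), (22162, 21379), (22163, 21458), (22164, 20633), (22165, 22038), (22166, 21479), (22167, 21787), (22168, 20221), (22169, 22464), (22170, 20224), (22171, 22586), (22172, 20225), (22173, 22486), (22174, 21042), (22175, 20228), (22176, 22476), (22177, 20231), (22178, 22599), (22179, 20232), (22180, 22515), (22181, 21079), (22182, 20237), (22183, 20239), (22184, 22199), (22185, 20241), (22186, 22794), (22187, 21013), (22188, 20810), (22189, 20249), (22190, 20251), (22191, 22204), (22192, 20253), (22193, 22795), (22194, 20987), (22195, 20800), (22196, 22036), (22197, 21145), (22198, 20978), (22199, 22184),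 (22200, 22534), (22201, 22022), (22202, 21194), (22203, 21004), (22204, 22191), (22205, 22513), (22206, 21537), (22207, 20282)]
    ⟨e3 q22144 (flp_d L255188) q20148, e3 q22145 (flp_d L255206) q22140, e3 q22146 L261704 q22783, e3 q22147 (flp_d L255214) q20151, e3 q22148 L255226 q21864, e3 q22149 L255234 q21938, e3 q22150 (flp_d L255250) q21785, e3 q22151 (flp_d L259413) q22558, e3 q22152 L261751 q22787, e3 q22153 L255271 q21423, e3 q22154 L255275 q21500, e3 q22155 L255289 q20660, e3 q22156 L255297 q22024, e3 q22157 L255305 q21521, e3 q22158 L255317 q21773, e3 q22159 (flp_d L255331) q21882, e3 q22160 (flp_d L259392) q22556, e3 q22161 L261788 q22790, e3 q22162 L255352 q21379, e3 q22163 L255356 q21458, e3 q22164 L255372 q20633, e3 q22165 L255380 q22038, e3 q22166 L255388 q21479, e3 q22167 L255400 q21787, e3 q22168 L255404 q20221, e3 q22169 (flp_d L258372) q22464, e3 q22170 L255416 q20224, e3 q22171 L259692 q22586, e3 q22172 L255428 q20225, e3 q22173 (flp_d L258628) q22486, e3 q22174 L255446 q21042, e3 q22175 L255456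 q20228, e3 q22176 (flp_d L258510) q22476, e3 q22177 L255468 q20231, e3 q22178 L259826 q22599, e3 q22179 L255480 q20232, e3 q22180 (flp_d L258947) q22515, e3 q22181 L255498 q21079, e3 q22182 (flp_d L255506) q20237, e3 q22183 (flp_d L255510) q20239, e3 q22184 (flp_d L255680) q22199, e3 q22185 L255532 q20241, e3 q22186 (flp_d L261838) q22794, e3 q22187 L255545 q21013, e3 q22188 L255559 q20810, e3 q22189 (flp_d L255569) q20249, e3 q22190 (flp_d L255573) q20251, e3 q22191 (flp_d L255744) q22204, e3 q22192 L255595 q20253, e3 q22193 (flp_d L261849) q22795, e3 q22194 L255608 q20987, e3 q22195 L255622 q20800, e3 q22196 L255638 q22036, e3 q22197 L255650 q21145, e3 q22198 (flp_d L255666) q20978, e3 q22199 L255680 q22184, e3 q22200 (flp_d L259152) q22534, e3 q22201 L255700 q22022, e3 q22202 L255714 q21194, e3 q22203 (flp_d L255730) q21004, e3 q22204 L255744 q22191, e3 q22205 (flp_d L258919) q22513, e3 q22206 (flp_d L255767) q21537, e3 q22207 (flp_d L255769) q20282, trivial⟩ (by decide +kernel)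

theorem ce_d_347 : ∀ r, r < 64 → sm gd (Qf (22208 + r)) = Qf (tab Gen.d (22208 + r)) :=
  edges_tab (sm gd) Qf (tab Gen.d) 22208 [(22208, 20284), (22209, 21134), (22210, 22240), (22211, 20290), (22212, 21823), (22213, 21959), (22214, 20292), (22215, 20293), (22216, 20295), (22217, 21150), (22218, 21120), (22219, 22359), (22220, 20300), (22221, 21667), (22222, 20302), (22223, 20304), (22224, 21186), (22225, 22258), (22226, 20310), (22227, 21908), (22228, 21998), (22229, 20312), (22230, 20313), (22231, 20315), (22232, 21097), (22233, 21173), (22234, 22351), (22235, 20320), (22236, 21072), (22237, 22607), (22238, 20325), (22239, 21968), (22240, 22210), (22241, 22006), (22242, 20342), (22243, 21429), (22244, 20363), (22245, 20365), (22246, 20368), (22247, 20370), (22248, 22454), (22249, 20513), (22250, 20382), (22251, 20384), (22252, 20386), (22253, 20389), (22254, 21385), (22255, 21035), (22256, 22610), (22257, 20395), (22258, 22225), (22259, 20404), (22260, 20413), (22261, 20415), (22262, 22441), (22263, 20455),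 (22264, 21895), (22265, 21896), (22266, 21952), (22267, 20449), (22268, 21951), (22269, 21503), (22270, 22043), (22271, 22302)]
    ⟨e3 q22208 L255783 q20284, e3 q22209 L255800 q21134, e3 q22210 (flp_d L256126) q22240, e3 q22211 (flp_d L255808) q20290, e3 q22212 L255823 q21823, e3 q22213 L255839 q21959, e3 q22214 L255849 q20292, e3 q22215 L255861 q20293, e3 q22216 (flp_d L255867) q20295, e3 q22217 L255881 q21150, e3 q22218 L255893 q21120, e3 q22219 (flp_d L257317) q22359, e3 q22220 L255907 q20300, e3 q22221 (flp_d L255924) q21667, e3 q22222 (flp_d L255926) q20302, e3 q22223 L255940 q20304, e3 q22224 L255957 q21186, e3 q22225 (flp_d L256316) q22258, e3 q22226 (flp_d L255965) q20310, e3 q22227 L255980 q21908, e3 q22228 L255996 q21998, e3 q22229 L256004 q20312, e3 q22230 L256016 q20313, e3 q22231 (flp_d L256024) q20315, e3 q22232 L256040 q21097, e3 q22233 L256052 q21173, e3 q22234 (flp_d L257219) q22351, e3 q22235 L256066 q20320, e3 q22236 L256084 q21072, e3 q22237 (flp_d L259908) q22607, e3 q22238 (flp_d L256098)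 q20325, e3 q22239 L256120 q21968, e3 q22240 L256126 q22210, e3 q22241 L256140 q22006, e3 q22242 (flp_d L256148) q20342, e3 q22243 (flp_d L256168) q21429, e3 q22244 (flp_d L256170) q20363, e3 q22245 L256180 q20365, e3 q22246 L256188 q20368, e3 q22247 L256196 q20370, e3 q22248 (flp_d L258258) q22454, e3 q22249 L256220 q20513, e3 q22250 (flp_d L256228) q20382, e3 q22251 (flp_d L256238) q20384, e3 q22252 L256250 q20386, e3 q22253 (flp_d L256256) q20389, e3 q22254 L256272 q21385, e3 q22255 L256288 q21035, e3 q22256 (flp_d L259946) q22610, e3 q22257 (flp_d L256302) q20395, e3 q22258 L256316 q22225, e3 q22259 (flp_d L256324) q20404, e3 q22260 (flp_d L256334) q20413, e3 q22261 L256354 q20415, e3 q22262 (flp_d L258117) q22441, e3 q22263 L256378 q20455, e3 q22264 L256398 q21895, e3 q22265 L256406 q21896, e3 q22266 L256418 q21952, e3 q22267 L256428 q20449, e3 q22268 L256440 q21951, e3 q22269 L256450 q21503, e3 q22270 L256462 q22043, e3 q22271 (flp_d L256790) q22302, trivial⟩ (by decide +kernel)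

theorem ce_d_348 : ∀ r, r < 64 → sm gd (Qf (22272 + r)) = Qf (tab Gen.d (22272 + r)) :=
  edges_tab (sm gd) Qf (tab Gen.d) 22272 [(22272, 22506), (22273, 20473), (22274, 20474), (22275, 20475), (22276, 20476), (22277, 22378), (22278, 21518), (22279, 20711), (22280, 21955), (22281, 21762), (22282, 22306), (22283, 22292), (22284, 21804), (22285, 21805), (22286, 21989), (22287, 20507), (22288, 21990), (22289, 21461), (22290, 22029), (22291, 22529), (22292, 22283), (22293, 20531), (22294, 20532), (22295, 20533), (22296, 20534), (22297, 21476), (22298, 20744), (22299, 21866), (22300, 21993), (22301, 22318), (22302, 22271), (22303, 21832), (22304, 21834), (22305, 21840), (22306, 22282), (22307, 21833), (22308, 22018), (22309, 22375), (22310, 20562), (22311, 22806), (22312, 22807), (22313, 20563), (22314, 20568), (22315, 20566), (22316, 22811), (22317, 21917), (22318, 22301), (22319, 22324), (22320, 22323), (22321, 22322), (22322, 22321), (22323, 22320), (22324, 22319), (22325, 21207), (22326, 21321), (22327, 20627),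 (22328, 22553), (22329, 20629), (22330, 22551), (22331, 22578), (22332, 22444), (22333, 22779), (22334, 20634), (22335, 22791)]
    ⟨e3 q22272 (flp_d L258846) q22506, e3 q22273 L256492 q20473, e3 q22274 L256499 q20474, e3 q22275 L256509 q20475, e3 q22276 L256521 q20476, e3 q22277 (flp_d L257523) q22378, e3 q22278 L256535 q21518, e3 q22279 L256545 q20711, e3 q22280 L256559 q21955, e3 q22281 L256567 q21762, e3 q22282 (flp_d L256834) q22306, e3 q22283 (flp_d L256691) q22292, e3 q22284 L256599 q21804, e3 q22285 L256607 q21805, e3 q22286 L256619 q21989, e3 q22287 L256633 q20507, e3 q22288 L256645 q21990, e3 q22289 L256655 q21461, e3 q22290 L256667 q22029, e3 q22291 (flp_d L259105) q22529, e3 q22292 L256691 q22283, e3 q22293 L256699 q20531, e3 q22294 L256711 q20532, e3 q22295 L256719 q20533, e3 q22296 L256730 q20534, e3 q22297 L256740 q21476, e3 q22298 L256750 q20744, e3 q22299 L256762 q21866, e3 q22300 L256776 q21993, e3 q22301 (flp_d L256945) q22318, e3 q22302 L256790 q22271, e3 q22303 L256802 q21832, e3 q22304 L256810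 q21834, e3 q22305 L256826 q21840, e3 q22306 L256834 q22282, e3 q22307 L256852 q21833, e3 q22308 L256860 q22018, e3 q22309 (flp_d L257491) q22375, e3 q22310 L256876 q20562, e3 q22311 L261967 q22806, e3 q22312 (flp_d L261971) q22807, e3 q22313 (flp_d L256891) q20563, e3 q22314 L256902 q20568, e3 q22315 L256915 q20566, e3 q22316 (flp_d L262015) q22811, e3 q22317 L256935 q21917, e3 q22318 L256945 q22301, e3 q22319 (flp_d L256991) q22324, e3 q22320 (flp_d L256981) q22323, e3 q22321 L256977 q22322, e3 q22322 (flp_d L256977) q22321, e3 q22323 L256981 q22320, e3 q22324 L256991 q22319, e3 q22325 L256999 q21207, e3 q22326 L257011 q21321, e3 q22327 L257015 q20627, e3 q22328 (flp_d L259366) q22553, e3 q22329 L257033 q20629, e3 q22330 L259348 q22551, e3 q22331 (flp_d L259610) q22578, e3 q22332 (flp_d L258143) q22444, e3 q22333 (flp_d L261664) q22779, e3 q22334 L257075 q20634, e3 q22335 (flp_d L261812) q22791, trivial⟩ (by decide +kernel)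

theorem ce_d_349 : ∀ r, r < 64 → sm gd (Qf (22336 + r)) = Qf (tab Gen.d (22336 + r)) :=
  edges_tab (sm gd) Qf (tab Gen.d) 22336 [(22336, 20664), (22337, 20638), (22338, 22731), (22339, 21227), (22340, 21310), (22341, 20654), (22342, 22544), (22343, 20656), (22344, 22542), (22345, 22591), (22346, 22457), (22347, 22780), (22348, 20661), (22349, 22788), (22350, 22723), (22351, 22234), (22352, 20683), (22353, 20689), (22354, 21595), (22355, 20695), (22356, 20696), (22357, 20706), (22358, 21445), (22359, 22219), (22360, 20720), (22361, 21713), (22362, 20730), (22363, 20739), (22364, 21485), (22365, 20748), (22366, 22372), (22367, 21852), (22368, 20753), (22369, 22679), (22370, 20760), (22371, 21928), (22372, 22366), (22373, 20764), (22374, 20774), (22375, 22309), (22376, 20777), (22377, 22803), (22378, 22277), (22379, 20778), (22380, 22677), (22381, 21749), (22382, 20783), (22383, 21643), (22384, 22136), (22385, 22137), (22386, 21267), (22387, 21339), (22388, 20851), (22389, 21276), (22390, 21347), (22391, 20858),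 (22392, 20911), (22393, 21872), (22394, 20866), (22395, 21074), (22396, 22463), (22397, 21948), (22398, 21766), (22399, 20940)]
    ⟨e3 q22336 (flp_d L257093) q20664, e3 q22337 (flp_d L257095) q20638, e3 q22338 (flp_d L261212) q22731, e3 q22339 L257119 q21227, e3 q22340 L257131 q21310, e3 q22341 L257135 q20654, e3 q22342 (flp_d L259268) q22544, e3 q22343 L257153 q20656, e3 q22344 L259250 q22542, e3 q22345 (flp_d L259736) q22591, e3 q22346 (flp_d L258284) q22457, e3 q22347 (flp_d L261678) q22780, e3 q22348 L257191 q20661, e3 q22349 (flp_d L261773) q22788, e3 q22350 (flp_d L261114) q22723, e3 q22351 L257219 q22234, e3 q22352 L257231 q20683, e3 q22353 L257243 q20689, e3 q22354 L257257 q21595, e3 q22355 (flp_d L257265) q20695, e3 q22356 (flp_d L257273) q20696, e3 q22357 L257289 q20706, e3 q22358 L257309 q21445, e3 q22359 L257317 q22219, e3 q22360 L257329 q20720, e3 q22361 L257341 q21713, e3 q22362 (flp_d L257349) q20730, e3 q22363 L257359 q20739, e3 q22364 L257379 q21485, e3 q22365 (flp_d L257381) q20748, e3 q22366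 (flp_d L257464) q22372, e3 q22367 L257407 q21852, e3 q22368 L257417 q20753, e3 q22369 (flp_d L260618) q22679, e3 q22370 (flp_d L257430) q20760, e3 q22371 L257450 q21928, e3 q22372 L257464 q22366, e3 q22373 L257472 q20764, e3 q22374 L257483 q20774, e3 q22375 L257491 q22309, e3 q22376 L257503 q20777, e3 q22377 (flp_d L261935) q22803, e3 q22378 L257523 q22277, e3 q22379 (flp_d L257534) q20778, e3 q22380 (flp_d L260596) q22677, e3 q22381 L257547 q21749, e3 q22382 L257555 q20783, e3 q22383 L257568 q21643, e3 q22384 L257578 q22136, e3 q22385 L257590 q22137, e3 q22386 (flp_d L257602) q21267, e3 q22387 L257614 q21339, e3 q22388 L257618 q20851, e3 q22389 (flp_d L257628) q21276, e3 q22390 L257640 q21347, e3 q22391 L257644 q20858, e3 q22392 L257656 q20911, e3 q22393 L257664 q21872, e3 q22394 L257672 q20866, e3 q22395 L257692 q21074, e3 q22396 (flp_d L258366) q22463, e3 q22397 L257710 q21948, e3 q22398 L257720 q21766, e3 q22399 L257732 q20940, trivial⟩ (by decide +kernel)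

theorem ce_d_350 : ∀ r, r < 64 → sm gd (Qf (22400 + r)) = Qf (tab Gen.d (22400 + r)) :=
  edges_tab (sm gd) Qf (tab Gen.d) 22400 [(22400, 20889), (22401, 21037), (22402, 22475), (22403, 21986), (22404, 20910), (22405, 22831), (22406, 22686), (22407, 21392), (22408, 20917), (22409, 22481), (22410, 22835), (22411, 20922), (22412, 20924), (22413, 21040), (22414, 20926), (22415, 22739), (22416, 20928), (22417, 21288), (22418, 21077), (22419, 20955), (22420, 22837), (22421, 22838), (22422, 20957), (22423, 20939), (22424, 22834), (22425, 22639), (22426, 21436), (22427, 20946), (22428, 22469), (22429, 22842), (22430, 20951), (22431, 20953), (22432, 22726), (22433, 21283), (22434, 22839), (22435, 22841), (22436, 20965), (22437, 22511), (22438, 21563), (22439, 21539), (22440, 20967), (22441, 22262), (22442, 21113), (22443, 22096), (22444, 22332), (22445, 22095), (22446, 21997), (22447, 22009), (22448, 20985), (22449, 20991), (22450, 22533), (22451, 21689), (22452, 21669), (22453, 20993), (22454, 22248), (22455, 21163),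 (22456, 22113), (22457, 22346), (22458, 22082), (22459, 21960), (22460, 21971), (22461, 21011), (22462, 21021), (22463, 22396)]
    ⟨e3 q22400 L257740 q20889, e3 q22401 L257760 q21037, e3 q22402 (flp_d L258504) q22475, e3 q22403 L257778 q21986, e3 q22404 L257788 q20910, e3 q22405 (flp_d L262201) q22831, e3 q22406 (flp_d L260703) q22686, e3 q22407 L257814 q21392, e3 q22408 L257824 q20917, e3 q22409 L258572 q22481, e3 q22410 (flp_d L262247) q22835, e3 q22411 L257838 q20922, e3 q22412 L257850 q20924, e3 q22413 L257858 q21040, e3 q22414 L257878 q20926, e3 q22415 (flp_d L261280) q22739, e3 q22416 L257892 q20928, e3 q22417 L257902 q21288, e3 q22418 L257920 q21077, e3 q22419 L257926 q20955, e3 q22420 (flp_d L262265) q22837, e3 q22421 (flp_d L262279) q22838, e3 q22422 L257952 q20957, e3 q22423 L257962 q20939, e3 q22424 (flp_d L262237) q22834, e3 q22425 (flp_d L260235) q22639, e3 q22426 L257988 q21436, e3 q22427 L257998 q20946, e3 q22428 L258434 q22469, e3 q22429 (flp_d L262327) q22842, e3 q22430 L258012 q20951, e3 q22431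 L258024 q20953, e3 q22432 (flp_d L261144) q22726, e3 q22433 L258042 q21283, e3 q22434 (flp_d L262293) q22839, e3 q22435 (flp_d L262313) q22841, e3 q22436 (flp_d L258066) q20965, e3 q22437 (flp_d L258896) q22511, e3 q22438 (flp_d L258083) q21563, e3 q22439 L258099 q21539, e3 q22440 (flp_d L258101) q20967, e3 q22441 L258117 q22262, e3 q22442 L258125 q21113, e3 q22443 L258139 q22096, e3 q22444 L258143 q22332, e3 q22445 L258161 q22095, e3 q22446 L258173 q21997, e3 q22447 L258187 q22009, e3 q22448 (flp_d L258193) q20985, e3 q22449 (flp_d L258207) q20991, e3 q22450 (flp_d L259143) q22533, e3 q22451 (flp_d L258224) q21689, e3 q22452 L258240 q21669, e3 q22453 (flp_d L258242) q20993, e3 q22454 L258258 q22248, e3 q22455 L258266 q21163, e3 q22456 L258280 q22113, e3 q22457 L258284 q22346, e3 q22458 L258302 q22082, e3 q22459 L258314 q21960, e3 q22460 L258328 q21971, e3 q22461 (flp_d L258334) q21011, e3 q22462 L258352 q21021, e3 q22463 L258366 q22396, trivial⟩ (by decide +kernel)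

theorem ce_d_351 : ∀ r, r < 64 → sm gd (Qf (22464 + r)) = Qf (tab Gen.d (22464 + r)) :=
  edges_tab (sm gd) Qf (tab Gen.d) 22464 [(22464, 22169), (22465, 21027), (22466, 21572), (22467, 22832), (22468, 21597), (22469, 22428), (22470, 21044), (22471, 22086), (22472, 21049), (22473, 21052), (22474, 21060), (22475, 22402), (22476, 22176), (22477, 21065), (22478, 21698), (22479, 22833), (22480, 21714), (22481, 22409), (22482, 21081), (22483, 22073), (22484, 21084), (22485, 21087), (22486, 22173), (22487, 21095), (22488, 21114), (22489, 22498), (22490, 22523), (22491, 22496), (22492, 21096), (22493, 21112), (22494, 21107), (22495, 21108), (22496, 22491), (22497, 21694), (22498, 22489), (22499, 22796), (22500, 22590), (22501, 21393), (22502, 22690), (22503, 21365), (22504, 21410), (22505, 22745), (22506, 22272), (22507, 21449), (22508, 21522), (22509, 21482), (22510, 21137), (22511, 22437), (22512, 21187), (22513, 22205), (22514, 21867), (22515, 22180), (22516, 21164), (22517, 22521), (22518, 21171), (22519, 21160),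 (22520, 21161), (22521, 22517), (22522, 21568), (22523, 22490), (22524, 22797), (22525, 22634), (22526, 22603), (22527, 21438)]
    ⟨e3 q22464 L258372 q22169, e3 q22465 (flp_d L258378) q21027, e3 q22466 L258396 q21572, e3 q22467 (flp_d L262209) q22832, e3 q22468 L258412 q21597, e3 q22469 (flp_d L258434) q22428, e3 q22470 (flp_d L258436) q21044, e3 q22471 L258456 q22086, e3 q22472 (flp_d L258460) q21049, e3 q22473 L258478 q21052, e3 q22474 L258490 q21060, e3 q22475 L258504 q22402, e3 q22476 L258510 q22176, e3 q22477 (flp_d L258516) q21065, e3 q22478 L258534 q21698, e3 q22479 (flp_d L262233) q22833, e3 q22480 L258550 q21714, e3 q22481 (flp_d L258572) q22409, e3 q22482 (flp_d L258574) q21081, e3 q22483 L258596 q22073, e3 q22484 (flp_d L258598) q21084, e3 q22485 L258616 q21087, e3 q22486 L258628 q22173, e3 q22487 L258636 q21095, e3 q22488 (flp_d L258656) q21114, e3 q22489 (flp_d L258758) q22498, e3 q22490 (flp_d L259037) q22523, e3 q22491 (flp_d L258736) q22496, e3 q22492 (flp_d L258684) q21096, e3 q22493 (flp_d L258704)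 q21112, e3 q22494 L258712 q21107, e3 q22495 L258726 q21108, e3 q22496 L258736 q22491, e3 q22497 L258748 q21694, e3 q22498 L258758 q22489, e3 q22499 (flp_d L261868) q22796, e3 q22500 (flp_d L259726) q22590, e3 q22501 L258788 q21393, e3 q22502 (flp_d L260745) q22690, e3 q22503 L258810 q21365, e3 q22504 L258822 q21410, e3 q22505 (flp_d L261354) q22745, e3 q22506 L258846 q22272, e3 q22507 L258850 q21449, e3 q22508 L258866 q21522, e3 q22509 L258876 q21482, e3 q22510 L258886 q21137, e3 q22511 L258896 q22437, e3 q22512 L258907 q21187, e3 q22513 L258919 q22205, e3 q22514 L258929 q21867, e3 q22515 L258947 q22180, e3 q22516 (flp_d L258963) q21164, e3 q22517 (flp_d L259011) q22521, e3 q22518 (flp_d L258979) q21171, e3 q22519 L258987 q21160, e3 q22520 L259001 q21161, e3 q22521 L259011 q22517, e3 q22522 L259027 q21568, e3 q22523 L259037 q22490, e3 q22524 (flp_d L261882) q22797, e3 q22525 (flp_d L260194) q22634, e3 q22526 (flp_d L259864) q22603, e3 q22527 L259079 q21438, trivial⟩ (by decide +kernel)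

theorem ce_d_352 : ∀ r, r < 64 → sm gd (Qf (22528 + r)) = Qf (tab Gen.d (22528 + r)) :=
  edges_tab (sm gd) Qf (tab Gen.d) 22528 [(22528, 22748), (22529, 22291), (22530, 21491), (22531, 21480), (22532, 21523), (22533, 22450), (22534, 22200), (22535, 21763), (22536, 21205), (22537, 21206), (22538, 22818), (22539, 22075), (22540, 22821), (22541, 21395), (22542, 22344), (22543, 21211), (22544, 22342), (22545, 21214), (22546, 22852), (22547, 21225), (22548, 21226), (22549, 22088), (22550, 21439), (22551, 22330), (22552, 21230), (22553, 22328), (22554, 21234), (22555, 22854), (22556, 22160), (22557, 21907), (22558, 22151), (22559, 21822), (22560, 22585), (22561, 22785), (22562, 21270), (22563, 22598), (22564, 22784), (22565, 21279), (22566, 21293), (22567, 22567), (22568, 21295), (22569, 22569), (22570, 22738), (22571, 22722), (22572, 21715), (22573, 21333), (22574, 22574), (22575, 21598), (22576, 21335), (22577, 22577), (22578, 22331), (22579, 22602), (22580, 21373), (22581, 22734), (22582, 22628), (22583, 21502),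 (22584, 22721), (22585, 22560), (22586, 22171), (22587, 21397), (22588, 21390), (22589, 22592), (22590, 22500), (22591, 22345)]
    ⟨e3 q22528 (flp_d L261382) q22748, e3 q22529 L259105 q22291, e3 q22530 L259109 q21491, e3 q22531 L259125 q21480, e3 q22532 L259135 q21523, e3 q22533 L259143 q22450, e3 q22534 L259152 q22200, e3 q22535 L259162 q21763, e3 q22536 L259178 q21205, e3 q22537 L259194 q21206, e3 q22538 (flp_d L262077) q22818, e3 q22539 L259214 q22075, e3 q22540 (flp_d L262105) q22821, e3 q22541 L259232 q21395, e3 q22542 (flp_d L259250) q22344, e3 q22543 (flp_d L259252) q21211, e3 q22544 L259268 q22342, e3 q22545 L259278 q21214, e3 q22546 (flp_d L262441) q22852, e3 q22547 L259294 q21225, e3 q22548 L259310 q21226, e3 q22549 L259320 q22088, e3 q22550 L259330 q21439, e3 q22551 (flp_d L259348) q22330, e3 q22552 (flp_d L259350) q21230, e3 q22553 L259366 q22328, e3 q22554 L259378 q21234, e3 q22555 (flp_d L262467) q22854, e3 q22556 L259392 q22160, e3 q22557 L259409 q21907, e3 q22558 L259413 q22151, e3 q22559 L259430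 q21822, e3 q22560 (flp_d L259680) q22585, e3 q22561 (flp_d L261726) q22785, e3 q22562 L259456 q21270, e3 q22563 (flp_d L259814) q22598, e3 q22564 (flp_d L261712) q22784, e3 q22565 L259488 q21279, e3 q22566 (flp_d L259496) q21293, e3 q22567 L259511 q22567, e3 q22568 (flp_d L259512) q21295, e3 q22569 L259527 q22569, e3 q22570 (flp_d L261270) q22738, e3 q22571 (flp_d L261096) q22722, e3 q22572 L259556 q21715, e3 q22573 (flp_d L259558) q21333, e3 q22574 L259576 q22574, e3 q22575 L259587 q21598, e3 q22576 (flp_d L259589) q21335, e3 q22577 L259607 q22577, e3 q22578 L259610 q22331, e3 q22579 (flp_d L259852) q22602, e3 q22580 L259634 q21373, e3 q22581 (flp_d L261230) q22734, e3 q22582 (flp_d L260130) q22628, e3 q22583 L259656 q21502, e3 q22584 (flp_d L261092) q22721, e3 q22585 L259680 q22560, e3 q22586 (flp_d L259692) q22171, e3 q22587 L259698 q21397, e3 q22588 (flp_d L259702) q21390, e3 q22589 (flp_d L259746) q22592, e3 q22590 L259726 q22500, e3 q22591 L259736 q22345, trivial⟩ (by decide +kernel)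

theorem ce_d_353 : ∀ r, r < 64 → sm gd (Qf (22592 + r)) = Qf (tab Gen.d (22592 + r)) :=
  edges_tab (sm gd) Qf (tab Gen.d) 22592 [(22592, 22589), (22593, 21417), (22594, 22744), (22595, 22614), (22596, 21460), (22597, 22725), (22598, 22563), (22599, 22178), (22600, 21441), (22601, 21434), (22602, 22579), (22603, 22526), (22604, 22626), (22605, 21443), (22606, 22824), (22607, 22237), (22608, 21452), (22609, 21792), (22610, 22256), (22611, 22045), (22612, 22620), (22613, 21473), (22614, 22595), (22615, 22861), (22616, 22844), (22617, 21478), (22618, 21477), (22619, 22746), (22620, 22612), (22621, 22825), (22622, 21487), (22623, 21494), (22624, 21886), (22625, 22047), (22626, 22604), (22627, 21515), (22628, 22582), (22629, 22862), (22630, 22840), (22631, 21520), (22632, 21519), (22633, 22747), (22634, 22525), (22635, 21535), (22636, 22786), (22637, 22856), (22638, 22846), (22639, 22425), (22640, 22652), (22641, 22641), (22642, 21559), (22643, 21897), (22644, 21565), (22645, 22771), (22646, 22712), (22647, 21567),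 (22648, 21975), (22649, 22735), (22650, 22711), (22651, 21577), (22652, 22640), (22653, 22716), (22654, 21901), (22655, 21586)]
    ⟨e3 q22592 L259746 q22589, e3 q22593 L259764 q21417, e3 q22594 (flp_d L261342) q22744, e3 q22595 (flp_d L259986) q22614, e3 q22596 L259790 q21460, e3 q22597 (flp_d L261130) q22725, e3 q22598 L259814 q22563, e3 q22599 (flp_d L259826) q22178, e3 q22600 L259832 q21441, e3 q22601 (flp_d L259836) q21434, e3 q22602 L259852 q22579, e3 q22603 L259864 q22526, e3 q22604 (flp_d L260110) q22626, e3 q22605 (flp_d L259882) q21443, e3 q22606 (flp_d L262133) q22824, e3 q22607 L259908 q22237, e3 q22608 (flp_d L259918) q21452, e3 q22609 L259940 q21792, e3 q22610 L259946 q22256, e3 q22611 L259964 q22045, e3 q22612 (flp_d L260040) q22620, e3 q22613 (flp_d L259982) q21473, e3 q22614 L259986 q22595, e3 q22615 (flp_d L262569) q22861, e3 q22616 (flp_d L262343) q22844, e3 q22617 L260004 q21478, e3 q22618 (flp_d L260012) q21477, e3 q22619 (flp_d L261366) q22746, e3 q22620 L260040 q22612, e3 q22621 (flp_d L262145)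 q22825, e3 q22622 (flp_d L260054) q21487, e3 q22623 (flp_d L260068) q21494, e3 q22624 L260090 q21886, e3 q22625 L260100 q22047, e3 q22626 L260110 q22604, e3 q22627 (flp_d L260124) q21515, e3 q22628 L260130 q22582, e3 q22629 (flp_d L262581) q22862, e3 q22630 (flp_d L262301) q22840, e3 q22631 L260158 q21520, e3 q22632 (flp_d L260166) q21519, e3 q22633 (flp_d L261374) q22747, e3 q22634 L260194 q22525, e3 q22635 (flp_d L260202) q21535, e3 q22636 (flp_d L261749) q22786, e3 q22637 (flp_d L262499) q22856, e3 q22638 (flp_d L262375) q22846, e3 q22639 L260235 q22425, e3 q22640 (flp_d L260369) q22652, e3 q22641 L260259 q22641, e3 q22642 L260264 q21559, e3 q22643 L260282 q21897, e3 q22644 (flp_d L260284) q21565, e3 q22645 (flp_d L261589) q22771, e3 q22646 (flp_d L260996) q22712, e3 q22647 L260319 q21567, e3 q22648 L260329 q21975, e3 q22649 (flp_d L261238) q22735, e3 q22650 (flp_d L260978) q22711, e3 q22651 L260361 q21577, e3 q22652 L260369 q22640, e3 q22653 (flp_d L261038) q22716, e3 q22654 (flp_d L260390) q21901, e3 q22655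 (flp_d L260392) q21586, trivial⟩ (by decide +kernel)

theorem ce_d_354 : ∀ r, r < 64 → sm gd (Qf (22656 + r)) = Qf (tab Gen.d (22656 + r)) :=
  edges_tab (sm gd) Qf (tab Gen.d) 22656 [(22656, 21589), (22657, 21591), (22658, 22753), (22659, 21961), (22660, 22660), (22661, 22729), (22662, 21924), (22663, 22707), (22664, 22708), (22665, 21615), (22666, 21617), (22667, 22003), (22668, 22754), (22669, 21616), (22670, 22701), (22671, 21625), (22672, 21622), (22673, 22789), (22674, 22698), (22675, 22758), (22676, 21632), (22677, 22380), (22678, 21636), (22679, 22369), (22680, 22713), (22681, 21644), (22682, 22742), (22683, 22702), (22684, 21649), (22685, 21651), (22686, 22406), (22687, 21650), (22688, 22757), (22689, 21999), (22690, 22502), (22691, 22855), (22692, 22848), (22693, 22693), (22694, 21685), (22695, 21807), (22696, 21691), (22697, 22759), (22698, 22674), (22699, 21693), (22700, 22013), (22701, 22670), (22702, 22683), (22703, 21813), (22704, 21706), (22705, 22705), (22706, 21849), (22707, 22663), (22708, 22664),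 (22709, 21965), (22710, 21731), (22711, 22650), (22712, 22646), (22713, 22680), (22714, 21750), (22715, 22730), (22716, 22653), (22717, 21755), (22718, 22849), (22719, 21764)]
    ⟨e3 q22656 L260404 q21589, e3 q22657 L260414 q21591, e3 q22658 (flp_d L261418) q22753, e3 q22659 L260432 q21961, e3 q22660 L260445 q22660, e3 q22661 (flp_d L261192) q22729, e3 q22662 L260460 q21924, e3 q22663 (flp_d L260932) q22707, e3 q22664 (flp_d L260944) q22708, e3 q22665 L260482 q21615, e3 q22666 L260492 q21617, e3 q22667 L260508 q22003, e3 q22668 (flp_d L261438) q22754, e3 q22669 (flp_d L260522) q21616, e3 q22670 (flp_d L260872) q22701, e3 q22671 L260540 q21625, e3 q22672 (flp_d L260548) q21622, e3 q22673 (flp_d L261786) q22789, e3 q22674 (flp_d L260836) q22698, e3 q22675 (flp_d L261480) q22758, e3 q22676 L260583 q21632, e3 q22677 L260596 q22380, e3 q22678 L260604 q21636, e3 q22679 L260618 q22369, e3 q22680 (flp_d L261004) q22713, e3 q22681 L260641 q21644, e3 q22682 (flp_d L261324) q22742, e3 q22683 (flp_d L260880) q22702, e3 q22684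 L260671 q21649, e3 q22685 L260685 q21651, e3 q22686 L260703 q22406, e3 q22687 (flp_d L260705) q21650, e3 q22688 (flp_d L261460) q22757, e3 q22689 L260737 q21999, e3 q22690 L260745 q22502, e3 q22691 (flp_d L262485) q22855, e3 q22692 (flp_d L262399) q22848, e3 q22693 L260782 q22693, e3 q22694 L260787 q21685, e3 q22695 L260807 q21807, e3 q22696 (flp_d L260809) q21691, e3 q22697 (flp_d L261484) q22759, e3 q22698 L260836 q22674, e3 q22699 L260846 q21693, e3 q22700 L260856 q22013, e3 q22701 L260872 q22670, e3 q22702 L260880 q22683, e3 q22703 (flp_d L260894) q21813, e3 q22704 (flp_d L260896) q21706, e3 q22705 L260915 q22705, e3 q22706 L260922 q21849, e3 q22707 L260932 q22663, e3 q22708 L260944 q22664, e3 q22709 L260964 q21965, e3 q22710 (flp_d L260966) q21731, e3 q22711 L260978 q22650, e3 q22712 L260996 q22646, e3 q22713 L261004 q22680, e3 q22714 L261014 q21750, e3 q22715 (flp_d L261200) q22730, e3 q22716 L261038 q22653, e3 q22717 (flp_d L261044) q21755, e3 q22718 (flp_d L262403) q22849, e3 q22719 (flp_d L261064) q21764,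 trivial⟩ (by decide +kernel)

theorem ce_d_355 : ∀ r, r < 64 → sm gd (Qf (22720 + r)) = Qf (tab Gen.d (22720 + r)) :=
  edges_tab (sm gd) Qf (tab Gen.d) 22720 [(22720, 22728), (22721, 22584), (22722, 22571), (22723, 22350), (22724, 21868), (22725, 22597), (22726, 22432), (22727, 21794), (22728, 22720), (22729, 22661), (22730, 22715), (22731, 22338), (22732, 22802), (22733, 21837), (22734, 22581), (22735, 22649), (22736, 22850), (22737, 22741), (22738, 22570), (22739, 22415), (22740, 21888), (22741, 22737), (22742, 22682), (22743, 21916), (22744, 22594), (22745, 22505), (22746, 22619), (22747, 22633), (22748, 22528), (22749, 22823), (22750, 22820), (22751, 22077), (22752, 22873), (22753, 22658), (22754, 22668), (22755, 22090), (22756, 22872), (22757, 22688), (22758, 22675), (22759, 22697), (22760, 22769), (22761, 22770), (22762, 22119), (22763, 22105), (22764, 22106), (22765, 22107), (22766, 22108), (22767, 22874), (22768, 22875), (22769, 22760), (22770, 22761), (22771, 22645), (22772, 22777), (22773, 22778), (22774,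 22116), (22775, 22117), (22776, 22118), (22777, 22772), (22778, 22773), (22779, 22333), (22780, 22347), (22781, 22143), (22782, 22876), (22783, 22146)]
    ⟨e3 q22720 (flp_d L261172) q22728, e3 q22721 L261092 q22584, e3 q22722 L261096 q22571, e3 q22723 L261114 q22350, e3 q22724 L261122 q21868, e3 q22725 L261130 q22597, e3 q22726 L261144 q22432, e3 q22727 L261162 q21794, e3 q22728 L261172 q22720, e3 q22729 L261192 q22661, e3 q22730 L261200 q22715, e3 q22731 L261212 q22338, e3 q22732 (flp_d L261922) q22802, e3 q22733 L261224 q21837, e3 q22734 L261230 q22581, e3 q22735 L261238 q22649, e3 q22736 (flp_d L262417) q22850, e3 q22737 (flp_d L261308) q22741, e3 q22738 L261270 q22570, e3 q22739 L261280 q22415, e3 q22740 L261298 q21888, e3 q22741 L261308 q22737, e3 q22742 L261324 q22682, e3 q22743 L261334 q21916, e3 q22744 L261342 q22594, e3 q22745 L261354 q22505, e3 q22746 L261366 q22619, e3 q22747 L261374 q22633, e3 q22748 L261382 q22528, e3 q22749 (flp_d L262127) q22823, e3 q22750 (flp_d L262097) q22820, e3 q22751 L261404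 q22077, e3 q22752 (flp_d L262702) q22873, e3 q22753 L261418 q22658, e3 q22754 L261438 q22668, e3 q22755 L261446 q22090, e3 q22756 (flp_d L262688) q22872, e3 q22757 L261460 q22688, e3 q22758 L261480 q22675, e3 q22759 L261484 q22697, e3 q22760 (flp_d L261574) q22769, e3 q22761 (flp_d L261581) q22770, e3 q22762 L261508 q22119, e3 q22763 L261518 q22105, e3 q22764 L261530 q22106, e3 q22765 L261542 q22107, e3 q22766 L261550 q22108, e3 q22767 (flp_d L262706) q22874, e3 q22768 (flp_d L262724) q22875, e3 q22769 L261574 q22760, e3 q22770 L261581 q22761, e3 q22771 L261589 q22645, e3 q22772 (flp_d L261649) q22777, e3 q22773 (flp_d L261656) q22778, e3 q22774 L261615 q22116, e3 q22775 L261629 q22117, e3 q22776 L261641 q22118, e3 q22777 L261649 q22772, e3 q22778 L261656 q22773, e3 q22779 L261664 q22333, e3 q22780 L261678 q22347, e3 q22781 (flp_d L261690) q22143, e3 q22782 (flp_d L262736) q22876, e3 q22783 (flp_d L261704) q22146, trivial⟩ (by decide +kernel)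

theorem ce_d_356 : ∀ r, r < 64 → sm gd (Qf (22784 + r)) = Qf (tab Gen.d (22784 + r)) :=
  edges_tab (sm gd) Qf (tab Gen.d) 22784 [(22784, 22564), (22785, 22561), (22786, 22636), (22787, 22152), (22788, 22349), (22789, 22673), (22790, 22161), (22791, 22335), (22792, 22859), (22793, 22860), (22794, 22186), (22795, 22193), (22796, 22499), (22797, 22524), (22798, 22801), (22799, 22800), (22800, 22799), (22801, 22798), (22802, 22732), (22803, 22377), (22804, 22877), (22805, 22809), (22806, 22311), (22807, 22312), (22808, 22878), (22809, 22805), (22810, 22829), (22811, 22316), (22812, 22817), (22813, 22814), (22814, 22813), (22815, 22816), (22816, 22815), (22817, 22812), (22818, 22538), (22819, 22853), (22820, 22750), (22821, 22540), (22822, 22851), (22823, 22749), (22824, 22606), (22825, 22621), (22826, 22827), (22827, 22826), (22828, 22879), (22829, 22810), (22830, 22869), (22831, 22405), (22832, 22467), (22833, 22479), (22834, 22424), (22835, 22410), (22836, 22847), (22837, 22420), (22838, 22421), (22839, 22434),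 (22840, 22630), (22841, 22435), (22842, 22429), (22843, 22845), (22844, 22616), (22845, 22843), (22846, 22638), (22847, 22836)]
    ⟨e3 q22784 L261712 q22564, e3 q22785 L261726 q22561, e3 q22786 L261749 q22636, e3 q22787 (flp_d L261751) q22152, e3 q22788 L261773 q22349, e3 q22789 L261786 q22673, e3 q22790 (flp_d L261788) q22161, e3 q22791 L261812 q22335, e3 q22792 (flp_d L262539) q22859, e3 q22793 (flp_d L262551) q22860, e3 q22794 L261838 q22186, e3 q22795 L261849 q22193, e3 q22796 L261868 q22499, e3 q22797 L261882 q22524, e3 q22798 (flp_d L261912) q22801, e3 q22799 (flp_d L261901) q22800, e3 q22800 L261901 q22799, e3 q22801 L261912 q22798, e3 q22802 L261922 q22732, e3 q22803 L261935 q22377, e3 q22804 (flp_d L262754) q22877, e3 q22805 (flp_d L261996) q22809, e3 q22806 (flp_d L261967) q22311, e3 q22807 L261971 q22312, e3 q22808 (flp_d L262767) q22878, e3 q22809 L261996 q22805, e3 q22810 (flp_d L262188) q22829, e3 q22811 L262015 q22316, e3 q22812 (flp_d L262067) q22817, e3 q22813 (flp_d L262043) q22814, e3 q22814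 L262043 q22813, e3 q22815 (flp_d L262055) q22816, e3 q22816 L262055 q22815, e3 q22817 L262067 q22812, e3 q22818 L262077 q22538, e3 q22819 (flp_d L262455) q22853, e3 q22820 L262097 q22750, e3 q22821 L262105 q22540, e3 q22822 (flp_d L262429) q22851, e3 q22823 L262127 q22749, e3 q22824 L262133 q22606, e3 q22825 L262145 q22621, e3 q22826 (flp_d L262162) q22827, e3 q22827 L262162 q22826, e3 q22828 (flp_d L262771) q22879, e3 q22829 L262188 q22810, e3 q22830 (flp_d L262641) q22869, e3 q22831 L262201 q22405, e3 q22832 L262209 q22467, e3 q22833 L262233 q22479, e3 q22834 L262237 q22424, e3 q22835 L262247 q22410, e3 q22836 L262387 q22847, e3 q22837 L262265 q22420, e3 q22838 L262279 q22421, e3 q22839 L262293 q22434, e3 q22840 L262301 q22630, e3 q22841 L262313 q22435, e3 q22842 L262327 q22429, e3 q22843 L262363 q22845, e3 q22844 L262343 q22616, e3 q22845 (flp_d L262363) q22843, e3 q22846 L262375 q22638, e3 q22847 (flp_d L262387) q22836, trivial⟩ (by decide +kernel)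

theorem ce_d_357 : ∀ r, r < 32 → sm gd (Qf (22848 + r)) = Qf (tab Gen.d (22848 + r)) :=
  edges_tab (sm gd) Qf (tab Gen.d) 22848 [(22848, 22692), (22849, 22718), (22850, 22736), (22851, 22822), (22852, 22546), (22853, 22819), (22854, 22555), (22855, 22691), (22856, 22637), (22857, 22857), (22858, 22858), (22859, 22792), (22860, 22793), (22861, 22615), (22862, 22629), (22863, 22866), (22864, 22865), (22865, 22864), (22866, 22863), (22867, 22868), (22868, 22867), (22869, 22830), (22870, 22871), (22871, 22870), (22872, 22756), (22873, 22752), (22874, 22767), (22875, 22768), (22876, 22782), (22877, 22804), (22878, 22808), (22879, 22828)]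
    ⟨e3 q22848 L262399 q22692, e3 q22849 L262403 q22718, e3 q22850 L262417 q22736, e3 q22851 L262429 q22822, e3 q22852 L262441 q22546, e3 q22853 L262455 q22819, e3 q22854 L262467 q22555, e3 q22855 L262485 q22691, e3 q22856 L262499 q22637, e3 q22857 L262519 q22857, e3 q22858 L262532 q22858, e3 q22859 L262539 q22792, e3 q22860 L262551 q22793, e3 q22861 L262569 q22615, e3 q22862 L262581 q22629, e3 q22863 (flp_d L262609) q22866, e3 q22864 (flp_d L262601) q22865, e3 q22865 L262601 q22864, e3 q22866 L262609 q22863, e3 q22867 (flp_d L262629) q22868, e3 q22868 L262629 q22867, e3 q22869 L262641 q22830, e3 q22870 (flp_d L262670) q22871, e3 q22871 L262670 q22870, e3 q22872 L262688 q22756, e3 q22873 L262702 q22752, e3 q22874 L262706 q22767, e3 q22875 L262724 q22768, e3 q22876 L262736 q22782, e3 q22877 L262754 q22804, e3 q22878 L262767 q22808, e3 q22879 L262771 q22828, trivial⟩ (by decide +kernel)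

theorem cl_d : ∀ i, i < 22880 → sm gd (Qf i) = Qf (tab Gen.d i) :=
  all_of_chunks (fun i => sm gd (Qf i) = Qf (tab Gen.d i)) 357 32
    ⟨ce_d_0, ce_d_1, ce_d_2, ce_d_3, ce_d_4, ce_d_5, ce_d_6, ce_d_7, ce_d_8, ce_d_9, ce_d_10, ce_d_11, ce_d_12, ce_d_13, ce_d_14, ce_d_15, ce_d_16, ce_d_17, ce_d_18, ce_d_19, ce_d_20, ce_d_21, ce_d_22, ce_d_23, ce_d_24, ce_d_25, ce_d_26, ce_d_27, ce_d_28, ce_d_29, ce_d_30, ce_d_31, ce_d_32, ce_d_33, ce_d_34, ce_d_35, ce_d_36, ce_d_37, ce_d_38, ce_d_39, ce_d_40, ce_d_41, ce_d_42, ce_d_43, ce_d_44, ce_d_45, ce_d_46, ce_d_47, ce_d_48, ce_d_49, ce_d_50, ce_d_51, ce_d_52, ce_d_53, ce_d_54, ce_d_55, ce_d_56, ce_d_57, ce_d_58, ce_d_59, ce_d_60, ce_d_61, ce_d_62, ce_d_63, ce_d_64, ce_d_65, ce_d_66, ce_d_67, ce_d_68, ce_d_69, ce_d_70, ce_d_71, ce_d_72, ce_d_73, ce_d_74, ce_d_75, ce_d_76, ce_d_77, ce_d_78, ce_d_79, ce_d_80, ce_d_81, ce_d_82, ce_d_83, ce_d_84, ce_d_85, ce_d_86, ce_d_87, ce_d_88, ce_d_89, ce_d_90, ce_d_91, ce_d_92, ce_d_93, ce_d_94, ce_d_95, ce_d_96, ce_d_97, ce_d_98, ce_d_99,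 ce_d_100, ce_d_101, ce_d_102, ce_d_103, ce_d_104, ce_d_105, ce_d_106, ce_d_107, ce_d_108, ce_d_109, ce_d_110, ce_d_111, ce_d_112, ce_d_113, ce_d_114, ce_d_115, ce_d_116, ce_d_117, ce_d_118, ce_d_119, ce_d_120, ce_d_121, ce_d_122, ce_d_123, ce_d_124, ce_d_125, ce_d_126, ce_d_127, ce_d_128, ce_d_129, ce_d_130, ce_d_131, ce_d_132, ce_d_133, ce_d_134, ce_d_135, ce_d_136, ce_d_137, ce_d_138, ce_d_139, ce_d_140, ce_d_141, ce_d_142, ce_d_143, ce_d_144, ce_d_145, ce_d_146, ce_d_147, ce_d_148, ce_d_149, ce_d_150, ce_d_151, ce_d_152, ce_d_153, ce_d_154, ce_d_155, ce_d_156, ce_d_157, ce_d_158, ce_d_159, ce_d_160, ce_d_161, ce_d_162, ce_d_163, ce_d_164, ce_d_165, ce_d_166, ce_d_167, ce_d_168, ce_d_169, ce_d_170, ce_d_171, ce_d_172, ce_d_173, ce_d_174, ce_d_175, ce_d_176, ce_d_177, ce_d_178, ce_d_179, ce_d_180, ce_d_181, ce_d_182, ce_d_183, ce_d_184, ce_d_185, ce_d_186, ce_d_187, ce_d_188, ce_d_189, ce_d_190, ce_d_191, ce_d_192, ce_d_193, ce_d_194, ce_d_195, ce_d_196, ce_d_197, ce_d_198, ce_d_199, ce_d_200, ce_d_201, ce_d_202,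 ce_d_203, ce_d_204, ce_d_205, ce_d_206, ce_d_207, ce_d_208, ce_d_209, ce_d_210, ce_d_211, ce_d_212, ce_d_213, ce_d_214, ce_d_215, ce_d_216, ce_d_217, ce_d_218, ce_d_219, ce_d_220, ce_d_221, ce_d_222, ce_d_223, ce_d_224, ce_d_225, ce_d_226, ce_d_227, ce_d_228, ce_d_229, ce_d_230, ce_d_231, ce_d_232, ce_d_233, ce_d_234, ce_d_235, ce_d_236, ce_d_237, ce_d_238, ce_d_239, ce_d_240, ce_d_241, ce_d_242, ce_d_243, ce_d_244, ce_d_245, ce_d_246, ce_d_247, ce_d_248, ce_d_249, ce_d_250, ce_d_251, ce_d_252, ce_d_253, ce_d_254, ce_d_255, ce_d_256, ce_d_257, ce_d_258, ce_d_259, ce_d_260, ce_d_261, ce_d_262, ce_d_263, ce_d_264, ce_d_265, ce_d_266, ce_d_267, ce_d_268, ce_d_269, ce_d_270, ce_d_271, ce_d_272, ce_d_273, ce_d_274, ce_d_275, ce_d_276, ce_d_277, ce_d_278, ce_d_279, ce_d_280, ce_d_281, ce_d_282, ce_d_283, ce_d_284, ce_d_285, ce_d_286, ce_d_287, ce_d_288, ce_d_289, ce_d_290, ce_d_291, ce_d_292, ce_d_293, ce_d_294, ce_d_295, ce_d_296, ce_d_297, ce_d_298, ce_d_299, ce_d_300, ce_d_301, ce_d_302, ce_d_303, ce_d_304, ce_d_305,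 ce_d_306, ce_d_307, ce_d_308, ce_d_309, ce_d_310, ce_d_311, ce_d_312, ce_d_313, ce_d_314, ce_d_315, ce_d_316, ce_d_317, ce_d_318, ce_d_319, ce_d_320, ce_d_321, ce_d_322, ce_d_323, ce_d_324, ce_d_325, ce_d_326, ce_d_327, ce_d_328, ce_d_329, ce_d_330, ce_d_331, ce_d_332, ce_d_333, ce_d_334, ce_d_335, ce_d_336, ce_d_337, ce_d_338, ce_d_339, ce_d_340, ce_d_341, ce_d_342, ce_d_343, ce_d_344, ce_d_345, ce_d_346, ce_d_347, ce_d_348, ce_d_349, ce_d_350, ce_d_351, ce_d_352, ce_d_353, ce_d_354, ce_d_355, ce_d_356, trivial⟩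
    ce_d_357


end Cfsg.Agent.Helper28.SzbA
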