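import Cfsg.Agent.Helper28.SzbC0

/-!
# The Suzuki group presentation, cosets of the subgroup generated by a, b, c, d, f, g: the action of the generator e (helper28; generated)
-/

set_option autoImplicit false
set_option maxRecDepth 100000
set_option linter.unusedSimpArgs false
set_option linter.constructorNameAsVariable false

noncomputable section

namespace Cfsg.Agent.Helper28.SzbA

open Cfsg.Spor Cfsg.Spor.Suz Cfsg.Agent.Helper28.CosetTable

theorem ce_e_0 : ∀ r, r < 64 → sm ge (Qf (0 + r)) = Qf (tab Gen.e (0 + r)) :=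
  edges_tab (sm ge) Qf (tab Gen.e) 0 [(0, 1), (1, 0), (2, 2), (3, 3), (4, 4), (5, 10), (6, 6), (7, 16), (8, 8), (9, 9), (10, 5), (11, 11), (12, 26), (13, 13), (14, 14), (15, 32), (16, 7), (17, 35), (18, 36), (19, 19), (20, 20), (21, 21), (22, 45), (23, 23), (24, 24), (25, 54), (26, 12), (27, 57), (28, 58), (29, 29), (30, 30), (31, 67), (32, 15), (33, 71), (34, 72), (35, 17), (36, 18), (37, 77), (38, 78), (39, 39), (40, 40), (41, 88), (42, 42), (43, 43), (44, 95), (45, 22), (46, 98), (47, 99), (48, 48), (49, 49), (50, 50), (51, 51), (52, 110), (53, 113), (54, 25), (55, 117), (56, 118), (57, 27), (58, 28), (59, 121), (60, 122), (61, 61), (62, 62), (63, 63)]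
    ⟨e3 q0 L6 q1, e3 q1 (flp_e L6) q0, e3 q2 L19 q2, e3 q3 L23 q3, e3 q4 L28 q4, e3 q5 L54 q10, e3 q6 L39 q6, e3 q7 L83 q16, e3 q8 L47 q8, e3 q9 L52 q9, e3 q10 (flp_e L54) q5, e3 q11 L63 q11, e3 q12 L134 q26, e3 q13 L73 q13, e3 q14 L79 q14, e3 q15 L160 q32, e3 q16 (flp_e L83) q7, e3 q17 (flp_e L176) q35, e3 q18 (flp_e L182) q36, e3 q19 L101 q19, e3 q20 L109 q20, e3 q21 L114 q21, e3 q22 L242 q45, e3 q23 L126 q23, e3 q24 L129 q24, e3 q25 L285 q54, e3 q26 (flp_e L134) q12, e3 q27 (flp_e L308) q57, e3 q28 (flp_e L315) q58, e3 q29 L153 q29, e3 q30 L156 q30, e3 q31 L351 q67, e3 q32 (flp_e L160) q15, e3 q33 (flp_e L369) q71, e3 q34 (flp_e L375) q72, e3 q35 L176 q17, e3 q36 L182 q18, e3 q37 (flp_e L402) q77, e3 q38 (flp_e L411) q78, e3 q39 L201 q39, e3 q40 L205 q40, e3 q41 L479 q88, e3 q42 L221 q42, e3 q43 L226 q43, e3 q44 L550 q95, e3 q45 (flp_e L242) q22, e3 q46 (flp_e L565) q98, e3 q47 (flp_e L570) q99, e3 q48 L257 q48, e3 q49 L262 q49, e3 q50 L267 q50, e3 q51 L274 q51, e3 q52 L643 q110, e3 q53 L651 q113, e3 q54 (flp_e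 L285) q25, e3 q55 (flp_e L683) q117, e3 q56 (flp_e L691) q118, e3 q57 L308 q27, e3 q58 L315 q28, e3 q59 (flp_e L700) q121, e3 q60 (flp_e L705) q122, e3 q61 L327 q61, e3 q62 L330 q62, e3 q63 L340 q63, trivial⟩ (by decide +kernel)

theorem ce_e_1 : ∀ r, r < 64 → sm ge (Qf (64 + r)) = Qf (tab Gen.e (64 + r)) :=
  edges_tab (sm ge) Qf (tab Gen.e) 64 [(64, 64), (65, 65), (66, 66), (67, 31), (68, 136), (69, 137), (70, 135), (71, 33), (72, 34), (73, 145), (74, 146), (75, 147), (76, 148), (77, 37), (78, 38), (79, 153), (80, 154), (81, 81), (82, 82), (83, 83), (84, 84), (85, 85), (86, 86), (87, 169), (88, 41), (89, 172), (90, 173), (91, 91), (92, 92), (93, 178), (94, 181), (95, 44), (96, 185), (97, 186), (98, 46), (99, 47), (100, 191), (101, 192), (102, 193), (103, 194), (104, 104), (105, 105), (106, 106), (107, 107), (108, 203), (109, 206), (110, 52), (111, 210), (112, 211), (113, 53), (114, 217), (115, 218), (116, 216), (117, 55), (118, 56), (119, 224), (120, 225), (121, 59), (122, 60), (123, 232), (124, 233), (125, 234),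 (126, 235), (127, 236)]
    ⟨e3 q64 L343 q64, e3 q65 L346 q65, e3 q66 L350 q66, e3 q67 (flp_e L351) q31, e3 q68 (flp_e L789) q136, e3 q69 (flp_e L793) q137, e3 q70 (flp_e L785) q135, e3 q71 L369 q33, e3 q72 L375 q34, e3 q73 (flp_e L833) q145, e3 q74 (flp_e L841) q146, e3 q75 (flp_e L847) q147, e3 q76 (flp_e L857) q148, e3 q77 L402 q37, e3 q78 L411 q38, e3 q79 (flp_e L882) q153, e3 q80 (flp_e L888) q154, e3 q81 L427 q81, e3 q82 L431 q82, e3 q83 L436 q83, e3 q84 L441 q84, e3 q85 L445 q85, e3 q86 L450 q86, e3 q87 L1029 q169, e3 q88 (flp_e L479) q41, e3 q89 (flp_e L1052) q172, e3 q90 (flp_e L1059) q173, e3 q91 L499 q91, e3 q92 L504 q92, e3 q93 L1172 q178, e3 q94 L1192 q181, e3 q95 (flp_e L550) q44, e3 q96 (flp_e L1208) q185, e3 q97 (flp_e L1214) q186, e3 q98 L565 q46, e3 q99 L570 q47, e3 q100 (flp_e L1237) q191, e3 q101 (flp_e L1244) q192, e3 q102 (flp_e L1251) q193, e3 q103 (flp_e L1260) q194, e3 q104 L600 q104, e3 q105 L603 q105, e3 q106 L616 q106, e3 q107 L627 q107, e3 q108 L1339 q203, e3 q109 L1351 q206, e3 q110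 (flp_e L643) q52, e3 q111 (flp_e L1372) q210, e3 q112 (flp_e L1376) q211, e3 q113 (flp_e L651) q53, e3 q114 (flp_e L1408) q217, e3 q115 (flp_e L1416) q218, e3 q116 (flp_e L1400) q216, e3 q117 L683 q55, e3 q118 L691 q56, e3 q119 (flp_e L1446) q224, e3 q120 (flp_e L1450) q225, e3 q121 L700 q59, e3 q122 L705 q60, e3 q123 (flp_e L1471) q232, e3 q124 (flp_e L1475) q233, e3 q125 (flp_e L1480) q234, e3 q126 (flp_e L1485) q235, e3 q127 (flp_e L1489) q236, trivial⟩ (by decide +kernel)

theorem ce_e_2 : ∀ r, r < 64 → sm ge (Qf (128 + r)) = Qf (tab Gen.e (128 + r)) :=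
  edges_tab (sm ge) Qf (tab Gen.e) 128 [(128, 237), (129, 129), (130, 249), (131, 131), (132, 132), (133, 251), (134, 134), (135, 70), (136, 68), (137, 69), (138, 255), (139, 256), (140, 257), (141, 258), (142, 252), (143, 253), (144, 254), (145, 73), (146, 74), (147, 75), (148, 76), (149, 270), (150, 271), (151, 272), (152, 273), (153, 79), (154, 80), (155, 280), (156, 281), (157, 282), (158, 283), (159, 284), (160, 285), (161, 161), (162, 162), (163, 163), (164, 164), (165, 165), (166, 166), (167, 295), (168, 296), (169, 87), (170, 300), (171, 301), (172, 89), (173, 90), (174, 302), (175, 303), (176, 305), (177, 308), (178, 93), (179, 312), (180, 313), (181, 94), (182, 319), (183, 320), (184, 318), (185, 96), (186, 97), (187, 328), (188, 329), (189, 330), (190, 331), (191, 100)]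
    ⟨e3 q128 (flp_e L1494) q237, e3 q129 L729 q129, e3 q130 L1558 q249, e3 q131 L750 q131, e3 q132 L755 q132, e3 q133 L1574 q251, e3 q134 L774 q134, e3 q135 L785 q70, e3 q136 L789 q68, e3 q137 L793 q69, e3 q138 (flp_e L1613) q255, e3 q139 (flp_e L1618) q256, e3 q140 (flp_e L1624) q257, e3 q141 (flp_e L1633) q258, e3 q142 (flp_e L1597) q252, e3 q143 (flp_e L1603) q253, e3 q144 (flp_e L1609) q254, e3 q145 L833 q73, e3 q146 L841 q74, e3 q147 L847 q75, e3 q148 L857 q76, e3 q149 (flp_e L1713) q270, e3 q150 (flp_e L1717) q271, e3 q151 (flp_e L1728) q272, e3 q152 (flp_e L1732) q273, e3 q153 L882 q79, e3 q154 L888 q80, e3 q155 (flp_e L1783) q280, e3 q156 (flp_e L1788) q281, e3 q157 (flp_e L1794) q282, e3 q158 (flp_e L1801) q283, e3 q159 (flp_e L1806) q284, e3 q160 (flp_e L1812) q285, e3 q161 L926 q161, e3 q162 L932 q162, e3 q163 L950 q163, e3 q164 L955 q164, e3 q165 L961 q165, e3 q166 L974 q166, e3 q167 L2050 q295, e3 q168 L2061 q296, e3 q169 (flp_e L1029) q87, e3 q170 (flp_e L2087) q300, e3 q171 (flp_e L2095) q301, e3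 q172 L1052 q89, e3 q173 L1059 q90, e3 q174 (flp_e L2104) q302, e3 q175 (flp_e L2111) q303, e3 q176 L2264 q305, e3 q177 L2282 q308, e3 q178 (flp_e L1172) q93, e3 q179 (flp_e L2302) q312, e3 q180 (flp_e L2308) q313, e3 q181 (flp_e L1192) q94, e3 q182 (flp_e L2364) q319, e3 q183 (flp_e L2368) q320, e3 q184 (flp_e L2360) q318, e3 q185 L1208 q96, e3 q186 L1214 q97, e3 q187 (flp_e L2404) q328, e3 q188 (flp_e L2410) q329, e3 q189 (flp_e L2416) q330, e3 q190 (flp_e L2424) q331, e3 q191 L1237 q100, trivial⟩ (by decide +kernel)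

theorem ce_e_3 : ∀ r, r < 64 → sm ge (Qf (192 + r)) = Qf (tab Gen.e (192 + r)) :=
  edges_tab (sm ge) Qf (tab Gen.e) 192 [(192, 101), (193, 102), (194, 103), (195, 340), (196, 341), (197, 342), (198, 343), (199, 344), (200, 345), (201, 353), (202, 354), (203, 108), (204, 358), (205, 359), (206, 109), (207, 361), (208, 362), (209, 360), (210, 111), (211, 112), (212, 370), (213, 371), (214, 372), (215, 373), (216, 116), (217, 114), (218, 115), (219, 381), (220, 382), (221, 378), (222, 379), (223, 380), (224, 119), (225, 120), (226, 394), (227, 395), (228, 396), (229, 397), (230, 398), (231, 399), (232, 123), (233, 124), (234, 125), (235, 126), (236, 127), (237, 128), (238, 408), (239, 409), (240, 419), (241, 411), (242, 412), (243, 413), (244, 414), (245, 424), (246, 416), (247, 417), (248, 430), (249, 130), (250, 433), (251, 133), (252, 142), (253, 143), (254, 144), (255, 138)]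
    ⟨e3 q192 L1244 q101, e3 q193 L1251 q102, e3 q194 L1260 q103, e3 q195 (flp_e L2450) q340, e3 q196 (flp_e L2457) q341, e3 q197 (flp_e L2462) q342, e3 q198 (flp_e L2478) q343, e3 q199 (flp_e L2485) q344, e3 q200 (flp_e L2494) q345, e3 q201 L2575 q353, e3 q202 L2586 q354, e3 q203 (flp_e L1339) q108, e3 q204 (flp_e L2613) q358, e3 q205 (flp_e L2619) q359, e3 q206 (flp_e L1351) q109, e3 q207 (flp_e L2634) q361, e3 q208 (flp_e L2639) q362, e3 q209 (flp_e L2629) q360, e3 q210 L1372 q111, e3 q211 L1376 q112, e3 q212 (flp_e L2681) q370, e3 q213 (flp_e L2687) q371, e3 q214 (flp_e L2693) q372, e3 q215 (flp_e L2701) q373, e3 q216 L1400 q116, e3 q217 L1408 q114, e3 q218 L1416 q115, e3 q219 (flp_e L2753) q381, e3 q220 (flp_e L2757) q382, e3 q221 (flp_e L2733) q378, e3 q222 (flp_e L2741) q379, e3 q223 (flp_e L2749) q380, e3 q224 L1446 q119, e3 q225 L1450 q120, e3 q226 (flp_e L2813) q394, e3 q227 (flp_e L2817) q395, e3 q228 (flp_e L2823) q396, e3 q229 (flp_e L2827) q397, e3 q230 (flp_e L2831) q398, e3 q231 (flp_e L2837) q399,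 e3 q232 L1471 q123, e3 q233 L1475 q124, e3 q234 L1480 q125, e3 q235 L1485 q126, e3 q236 L1489 q127, e3 q237 L1494 q128, e3 q238 (flp_e L2894) q408, e3 q239 (flp_e L2904) q409, e3 q240 L2971 q419, e3 q241 (flp_e L2912) q411, e3 q242 (flp_e L2919) q412, e3 q243 (flp_e L2928) q413, e3 q244 (flp_e L2938) q414, e3 q245 L3001 q424, e3 q246 (flp_e L2946) q416, e3 q247 (flp_e L2953) q417, e3 q248 L3028 q430, e3 q249 (flp_e L1558) q130, e3 q250 L3058 q433, e3 q251 (flp_e L1574) q133, e3 q252 L1597 q142, e3 q253 L1603 q143, e3 q254 L1609 q144, e3 q255 L1613 q138, trivial⟩ (by decide +kernel)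

theorem ce_e_4 : ∀ r, r < 64 → sm ge (Qf (256 + r)) = Qf (tab Gen.e (256 + r)) :=
  edges_tab (sm ge) Qf (tab Gen.e) 256 [(256, 139), (257, 140), (258, 141), (259, 442), (260, 443), (261, 444), (262, 445), (263, 434), (264, 436), (265, 437), (266, 438), (267, 439), (268, 440), (269, 441), (270, 149), (271, 150), (272, 151), (273, 152), (274, 461), (275, 462), (276, 463), (277, 464), (278, 465), (279, 466), (280, 155), (281, 156), (282, 157), (283, 158), (284, 159), (285, 160), (286, 475), (287, 476), (288, 478), (289, 479), (290, 480), (291, 482), (292, 292), (293, 293), (294, 490), (295, 167), (296, 168), (297, 493), (298, 494), (299, 492), (300, 170), (301, 171), (302, 174), (303, 175), (304, 498), (305, 176), (306, 502), (307, 503), (308, 177), (309, 507), (310, 508), (311, 506), (312, 179), (313, 180), (314, 516), (315, 517), (316, 518), (317, 519), (318, 184), (319, 182)]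
    ⟨e3 q256 L1618 q139, e3 q257 L1624 q140, e3 q258 L1633 q141, e3 q259 (flp_e L3157) q442, e3 q260 (flp_e L3166) q443, e3 q261 (flp_e L3175) q444, e3 q262 (flp_e L3184) q445, e3 q263 (flp_e L3100) q434, e3 q264 (flp_e L3110) q436, e3 q265 (flp_e L3116) q437, e3 q266 (flp_e L3122) q438, e3 q267 (flp_e L3129) q439, e3 q268 (flp_e L3137) q440, e3 q269 (flp_e L3146) q441, e3 q270 L1713 q149, e3 q271 L1717 q150, e3 q272 L1728 q151, e3 q273 L1732 q152, e3 q274 (flp_e L3348) q461, e3 q275 (flp_e L3354) q462, e3 q276 (flp_e L3358) q463, e3 q277 (flp_e L3383) q464, e3 q278 (flp_e L3389) q465, e3 q279 (flp_e L3393) q466, e3 q280 L1783 q155, e3 q281 L1788 q156, e3 q282 L1794 q157, e3 q283 L1801 q158, e3 q284 L1806 q159, e3 q285 L1812 q160, e3 q286 (flp_e L3505) q475, e3 q287 (flp_e L3513) q476, e3 q288 (flp_e L3524) q478, e3 q289 (flp_e L3530) q479, e3 q290 (flp_e L3538) q480, e3 q291 (flp_e L3551) q482, e3 q292 L1869 q292, e3 q293 L1904 q293, e3 q294 L3941 q490, e3 q295 (flp_e L2050) q167, e3 q296 (flp_e L2061) q168, e3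 q297 (flp_e L3997) q493, e3 q298 (flp_e L4003) q494, e3 q299 (flp_e L3991) q492, e3 q300 L2087 q170, e3 q301 L2095 q171, e3 q302 L2104 q174, e3 q303 L2111 q175, e3 q304 L4345 q498, e3 q305 (flp_e L2264) q176, e3 q306 (flp_e L4377) q502, e3 q307 (flp_e L4385) q503, e3 q308 (flp_e L2282) q177, e3 q309 (flp_e L4399) q507, e3 q310 (flp_e L4403) q508, e3 q311 (flp_e L4395) q506, e3 q312 L2302 q179, e3 q313 L2308 q180, e3 q314 (flp_e L4445) q516, e3 q315 (flp_e L4453) q517, e3 q316 (flp_e L4459) q518, e3 q317 (flp_e L4469) q519, e3 q318 L2360 q184, e3 q319 L2364 q182, trivial⟩ (by decide +kernel)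

theorem ce_e_5 : ∀ r, r < 64 → sm ge (Qf (320 + r)) = Qf (tab Gen.e (320 + r)) :=
  edges_tab (sm ge) Qf (tab Gen.e) 320 [(320, 183), (321, 531), (322, 532), (323, 533), (324, 534), (325, 528), (326, 529), (327, 530), (328, 187), (329, 188), (330, 189), (331, 190), (332, 550), (333, 551), (334, 552), (335, 553), (336, 554), (337, 555), (338, 556), (339, 557), (340, 195), (341, 196), (342, 197), (343, 198), (344, 199), (345, 200), (346, 580), (347, 575), (348, 576), (349, 584), (350, 578), (351, 579), (352, 589), (353, 201), (354, 202), (355, 592), (356, 593), (357, 591), (358, 204), (359, 205), (360, 209), (361, 207), (362, 208), (363, 600), (364, 601), (365, 602), (366, 603), (367, 597), (368, 598), (369, 599), (370, 212), (371, 213), (372, 214), (373, 215), (374, 614), (375, 615), (376, 616), (377, 617), (378, 221), (379, 222), (380, 223), (381, 219), (382, 220), (383, 630)]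
    ⟨e3 q320 L2368 q183, e3 q321 (flp_e L4565) q531, e3 q322 (flp_e L4569) q532, e3 q323 (flp_e L4575) q533, e3 q324 (flp_e L4581) q534, e3 q325 (flp_e L4549) q528, e3 q326 (flp_e L4555) q529, e3 q327 (flp_e L4561) q530, e3 q328 L2404 q187, e3 q329 L2410 q188, e3 q330 L2416 q189, e3 q331 L2424 q190, e3 q332 (flp_e L4647) q550, e3 q333 (flp_e L4651) q551, e3 q334 (flp_e L4657) q552, e3 q335 (flp_e L4661) q553, e3 q336 (flp_e L4665) q554, e3 q337 (flp_e L4669) q555, e3 q338 (flp_e L4675) q556, e3 q339 (flp_e L4679) q557, e3 q340 L2450 q195, e3 q341 L2457 q196, e3 q342 L2462 q197, e3 q343 L2478 q198, e3 q344 L2485 q199, e3 q345 L2494 q200, e3 q346 L4809 q580, e3 q347 (flp_e L4769) q575, e3 q348 (flp_e L4775) q576, e3 q349 L4842 q584, e3 q350 (flp_e L4795) q578, e3 q351 (flp_e L4803) q579, e3 q352 L4936 q589, e3 q353 (flp_e L2575) q201, e3 q354 (flp_e L2586) q202, e3 q355 (flp_e L4990) q592, e3 q356 (flp_e L4997) q593, e3 q357 (flp_e L4983) q591, e3 q358 L2613 q204, e3 q359 L2619 q205, e3 q360 L2629 q209, e3 q361 L2634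 q207, e3 q362 L2639 q208, e3 q363 (flp_e L5061) q600, e3 q364 (flp_e L5068) q601, e3 q365 (flp_e L5074) q602, e3 q366 (flp_e L5083) q603, e3 q367 (flp_e L5045) q597, e3 q368 (flp_e L5051) q598, e3 q369 (flp_e L5057) q599, e3 q370 L2681 q212, e3 q371 L2687 q213, e3 q372 L2693 q214, e3 q373 L2701 q215, e3 q374 (flp_e L5173) q614, e3 q375 (flp_e L5183) q615, e3 q376 (flp_e L5193) q616, e3 q377 (flp_e L5203) q617, e3 q378 L2733 q221, e3 q379 L2741 q222, e3 q380 L2749 q223, e3 q381 L2753 q219, e3 q382 L2757 q220, e3 q383 (flp_e L5304) q630, trivial⟩ (by decide +kernel)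

theorem ce_e_6 : ∀ r, r < 64 → sm ge (Qf (384 + r)) = Qf (tab Gen.e (384 + r)) :=
  edges_tab (sm ge) Qf (tab Gen.e) 384 [(384, 631), (385, 632), (386, 633), (387, 634), (388, 635), (389, 624), (390, 626), (391, 627), (392, 628), (393, 629), (394, 226), (395, 227), (396, 228), (397, 229), (398, 230), (399, 231), (400, 649), (401, 650), (402, 660), (403, 652), (404, 653), (405, 654), (406, 666), (407, 656), (408, 238), (409, 239), (410, 671), (411, 241), (412, 242), (413, 243), (414, 244), (415, 677), (416, 246), (417, 247), (418, 681), (419, 240), (420, 682), (421, 673), (422, 674), (423, 688), (424, 245), (425, 689), (426, 679), (427, 680), (428, 696), (429, 698), (430, 248), (431, 701), (432, 703), (433, 250), (434, 263), (435, 625), (436, 264), (437, 265), (438, 266), (439, 267), (440, 268), (441, 269), (442, 259), (443, 260), (444, 261), (445, 262), (446, 721), (447, 722)]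
    ⟨e3 q384 (flp_e L5308) q631, e3 q385 (flp_e L5314) q632, e3 q386 (flp_e L5318) q633, e3 q387 (flp_e L5322) q634, e3 q388 (flp_e L5328) q635, e3 q389 (flp_e L5265) q624, e3 q390 (flp_e L5280) q626, e3 q391 (flp_e L5288) q627, e3 q392 (flp_e L5294) q628, e3 q393 (flp_e L5300) q629, e3 q394 L2813 q226, e3 q395 L2817 q227, e3 q396 L2823 q228, e3 q397 L2827 q229, e3 q398 L2831 q230, e3 q399 L2837 q231, e3 q400 (flp_e L5442) q649, e3 q401 (flp_e L5448) q650, e3 q402 L5535 q660, e3 q403 (flp_e L5460) q652, e3 q404 (flp_e L5478) q653, e3 q405 (flp_e L5484) q654, e3 q406 L5585 q666, e3 q407 (flp_e L5496) q656, e3 q408 L2894 q238, e3 q409 L2904 q239, e3 q410 L5625 q671, e3 q411 L2912 q241, e3 q412 L2919 q242, e3 q413 L2928 q243, e3 q414 L2938 q244, e3 q415 L5665 q677, e3 q416 L2946 q246, e3 q417 L2953 q247, e3 q418 L5709 q681, e3 q419 (flp_e L2971) q240, e3 q420 (flp_e L5715) q682, e3 q421 (flp_e L5635) q673, e3 q422 (flp_e L5643) q674, e3 q423 L5761 q688, e3 q424 (flp_e L3001) q245, e3 q425 (flp_e L5779) q689, e3 q426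 (flp_e L5675) q679, e3 q427 (flp_e L5683) q680, e3 q428 L5812 q696, e3 q429 L5821 q698, e3 q430 (flp_e L3028) q248, e3 q431 L5854 q701, e3 q432 L5865 q703, e3 q433 (flp_e L3058) q250, e3 q434 L3100 q263, e3 q435 (flp_e L5271) q625, e3 q436 L3110 q264, e3 q437 L3116 q265, e3 q438 L3122 q266, e3 q439 L3129 q267, e3 q440 L3137 q268, e3 q441 L3146 q269, e3 q442 L3157 q259, e3 q443 L3166 q260, e3 q444 L3175 q261, e3 q445 L3184 q262, e3 q446 (flp_e L6078) q721, e3 q447 (flp_e L6126) q722, trivial⟩ (by decide +kernel)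

theorem ce_e_7 : ∀ r, r < 64 → sm ge (Qf (448 + r)) = Qf (tab Gen.e (448 + r)) :=
  edges_tab (sm ge) Qf (tab Gen.e) 448 [(448, 705), (449, 707), (450, 708), (451, 711), (452, 712), (453, 713), (454, 714), (455, 715), (456, 716), (457, 717), (458, 718), (459, 719), (460, 720), (461, 274), (462, 275), (463, 276), (464, 277), (465, 278), (466, 279), (467, 750), (468, 751), (469, 752), (470, 763), (471, 754), (472, 755), (473, 756), (474, 769), (475, 286), (476, 287), (477, 770), (478, 288), (479, 289), (480, 290), (481, 775), (482, 291), (483, 771), (484, 774), (485, 776), (486, 779), (487, 487), (488, 488), (489, 787), (490, 294), (491, 788), (492, 299), (493, 297), (494, 298), (495, 790), (496, 791), (497, 792), (498, 304), (499, 797), (500, 798), (501, 796), (502, 306), (503, 307), (504, 804), (505, 805), (506, 311), (507, 309), (508, 310), (509, 809), (510, 810), (511, 811)]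
    ⟨e3 q448 (flp_e L5942) q705, e3 q449 (flp_e L5951) q707, e3 q450 (flp_e L5956) q708, e3 q451 (flp_e L5970) q711, e3 q452 (flp_e L5976) q712, e3 q453 (flp_e L5982) q713, e3 q454 (flp_e L5990) q714, e3 q455 (flp_e L6003) q715, e3 q456 (flp_e L6010) q716, e3 q457 (flp_e L6016) q717, e3 q458 (flp_e L6027) q718, e3 q459 (flp_e L6034) q719, e3 q460 (flp_e L6040) q720, e3 q461 L3348 q274, e3 q462 L3354 q275, e3 q463 L3358 q276, e3 q464 L3383 q277, e3 q465 L3389 q278, e3 q466 L3393 q279, e3 q467 (flp_e L6488) q750, e3 q468 (flp_e L6499) q751, e3 q469 (flp_e L6505) q752, e3 q470 L6697 q763, e3 q471 (flp_e L6563) q754, e3 q472 (flp_e L6574) q755, e3 q473 (flp_e L6580) q756, e3 q474 L6814 q769, e3 q475 L3505 q286, e3 q476 L3513 q287, e3 q477 (flp_e L142531) q770, e3 q478 L3524 q288, e3 q479 L3530 q289, e3 q480 L3538 q290, e3 q481 L140524 q775, e3 q482 L3551 q291, e3 q483 (flp_e L6855) q771, e3 q484 (flp_e L6873) q774, e3 q485 (flp_e L6892) q776, e3 q486 (flp_e L6910) q779, e3 q487 L3634 q487, e3 q488 L3714 q488, e3 q489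 L7633 q787, e3 q490 (flp_e L3941) q294, e3 q491 (flp_e L7649) q788, e3 q492 L3991 q299, e3 q493 L3997 q297, e3 q494 L4003 q298, e3 q495 (flp_e L7753) q790, e3 q496 (flp_e L7761) q791, e3 q497 (flp_e L7769) q792, e3 q498 (flp_e L4345) q304, e3 q499 (flp_e L8523) q797, e3 q500 (flp_e L8531) q798, e3 q501 (flp_e L8515) q796, e3 q502 L4377 q306, e3 q503 L4385 q307, e3 q504 (flp_e L8559) q804, e3 q505 (flp_e L8563) q805, e3 q506 L4395 q311, e3 q507 L4399 q309, e3 q508 L4403 q310, e3 q509 (flp_e L8605) q809, e3 q510 (flp_e L8611) q810, e3 q511 (flp_e L8617) q811, trivial⟩ (by decide +kernel)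

theorem ce_e_8 : ∀ r, r < 64 → sm ge (Qf (512 + r)) = Qf (tab Gen.e (512 + r)) :=
  edges_tab (sm ge) Qf (tab Gen.e) 512 [(512, 812), (513, 806), (514, 807), (515, 808), (516, 314), (517, 315), (518, 316), (519, 317), (520, 825), (521, 826), (522, 827), (523, 828), (524, 829), (525, 830), (526, 831), (527, 832), (528, 325), (529, 326), (530, 327), (531, 321), (532, 322), (533, 323), (534, 324), (535, 849), (536, 850), (537, 851), (538, 852), (539, 853), (540, 854), (541, 855), (542, 856), (543, 841), (544, 843), (545, 844), (546, 845), (547, 846), (548, 847), (549, 848), (550, 332), (551, 333), (552, 334), (553, 335), (554, 336), (555, 337), (556, 338), (557, 339), (558, 882), (559, 883), (560, 899), (561, 885), (562, 886), (563, 887), (564, 888), (565, 889), (566, 890), (567, 891), (568, 908), (569, 893), (570, 894), (571, 895), (572, 896), (573, 897), (574, 917), (575, 347)]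
    ⟨e3 q512 (flp_e L8627) q812, e3 q513 (flp_e L8589) q806, e3 q514 (flp_e L8595) q807, e3 q515 (flp_e L8601) q808, e3 q516 L4445 q314, e3 q517 L4453 q315, e3 q518 L4459 q316, e3 q519 L4469 q317, e3 q520 (flp_e L8709) q825, e3 q521 (flp_e L8715) q826, e3 q522 (flp_e L8723) q827, e3 q523 (flp_e L8727) q828, e3 q524 (flp_e L8731) q829, e3 q525 (flp_e L8737) q830, e3 q526 (flp_e L8745) q831, e3 q527 (flp_e L8749) q832, e3 q528 L4549 q325, e3 q529 L4555 q326, e3 q530 L4561 q327, e3 q531 L4565 q321, e3 q532 L4569 q322, e3 q533 L4575 q323, e3 q534 L4581 q324, e3 q535 (flp_e L8979) q849, e3 q536 (flp_e L8983) q850, e3 q537 (flp_e L8987) q851, e3 q538 (flp_e L8991) q852, e3 q539 (flp_e L8995) q853, e3 q540 (flp_e L8999) q854, e3 q541 (flp_e L9003) q855, e3 q542 (flp_e L9007) q856, e3 q543 (flp_e L8931) q841, e3 q544 (flp_e L8939) q843, e3 q545 (flp_e L8945) q844, e3 q546 (flp_e L8951) q845, e3 q547 (flp_e L8957) q846, e3 q548 (flp_e L8965) q847, e3 q549 (flp_e L8973) q848, e3 q550 L4647 q332, e3 q551 L4651 q333, e3 q552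 L4657 q334, e3 q553 L4661 q335, e3 q554 L4665 q336, e3 q555 L4669 q337, e3 q556 L4675 q338, e3 q557 L4679 q339, e3 q558 (flp_e L9161) q882, e3 q559 (flp_e L9167) q883, e3 q560 L9303 q899, e3 q561 (flp_e L9185) q885, e3 q562 (flp_e L9189) q886, e3 q563 (flp_e L9197) q887, e3 q564 (flp_e L9203) q888, e3 q565 (flp_e L9207) q889, e3 q566 (flp_e L9219) q890, e3 q567 (flp_e L9225) q891, e3 q568 L9389 q908, e3 q569 (flp_e L9243) q893, e3 q570 (flp_e L9247) q894, e3 q571 (flp_e L9255) q895, e3 q572 (flp_e L9261) q896, e3 q573 (flp_e L9265) q897, e3 q574 L9453 q917, e3 q575 L4769 q347, trivial⟩ (by decide +kernel)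

theorem ce_e_9 : ∀ r, r < 64 → sm ge (Qf (576 + r)) = Qf (tab Gen.e (576 + r)) :=
  edges_tab (sm ge) Qf (tab Gen.e) 576 [(576, 348), (577, 922), (578, 350), (579, 351), (580, 346), (581, 926), (582, 919), (583, 930), (584, 349), (585, 931), (586, 924), (587, 935), (588, 937), (589, 352), (590, 938), (591, 357), (592, 355), (593, 356), (594, 940), (595, 941), (596, 942), (597, 367), (598, 368), (599, 369), (600, 363), (601, 364), (602, 365), (603, 366), (604, 955), (605, 956), (606, 947), (607, 966), (608, 949), (609, 950), (610, 951), (611, 952), (612, 953), (613, 954), (614, 374), (615, 375), (616, 376), (617, 377), (618, 983), (619, 978), (620, 979), (621, 984), (622, 981), (623, 982), (624, 389), (625, 435), (626, 390), (627, 391), (628, 392), (629, 393), (630, 383), (631, 384), (632, 385), (633, 386), (634, 387), (635, 388), (636, 999), (637, 1001), (638, 985), (639, 987)]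
    ⟨e3 q576 L4775 q348, e3 q577 L9488 q922, e3 q578 L4795 q350, e3 q579 L4803 q351, e3 q580 (flp_e L4809) q346, e3 q581 (flp_e L9518) q926, e3 q582 (flp_e L9465) q919, e3 q583 L9532 q930, e3 q584 (flp_e L4842) q349, e3 q585 (flp_e L9579) q931, e3 q586 (flp_e L9502) q924, e3 q587 L9597 q935, e3 q588 L9707 q937, e3 q589 (flp_e L4936) q352, e3 q590 (flp_e L9728) q938, e3 q591 L4983 q357, e3 q592 L4990 q355, e3 q593 L4997 q356, e3 q594 (flp_e L9817) q940, e3 q595 (flp_e L9825) q941, e3 q596 (flp_e L9833) q942, e3 q597 L5045 q367, e3 q598 L5051 q368, e3 q599 L5057 q369, e3 q600 L5061 q363, e3 q601 L5068 q364, e3 q602 L5074 q365, e3 q603 L5083 q366, e3 q604 (flp_e L10038) q955, e3 q605 (flp_e L10059) q956, e3 q606 (flp_e L9967) q947, e3 q607 L10159 q966, e3 q608 (flp_e L9977) q949, e3 q609 (flp_e L9983) q950, e3 q610 (flp_e L9989) q951, e3 q611 (flp_e L9997) q952, e3 q612 (flp_e L10005) q953, e3 q613 (flp_e L10015) q954, e3 q614 L5173 q374, e3 q615 L5183 q375, e3 q616 L5193 q376, e3 q617 L5203 q377, e3 q618 L10337 q983,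 e3 q619 (flp_e L10255) q978, e3 q620 (flp_e L10259) q979, e3 q621 L10409 q984, e3 q622 (flp_e L10297) q981, e3 q623 (flp_e L10301) q982, e3 q624 L5265 q389, e3 q625 L5271 q435, e3 q626 L5280 q390, e3 q627 L5288 q391, e3 q628 L5294 q392, e3 q629 L5300 q393, e3 q630 L5304 q383, e3 q631 L5308 q384, e3 q632 L5314 q385, e3 q633 L5318 q386, e3 q634 L5322 q387, e3 q635 L5328 q388, e3 q636 (flp_e L10553) q999, e3 q637 (flp_e L10589) q1001, e3 q638 (flp_e L10465) q985, e3 q639 (flp_e L10475) q987, trivial⟩ (by decide +kernel)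

theorem ce_e_10 : ∀ r, r < 64 → sm ge (Qf (640 + r)) = Qf (tab Gen.e (640 + r)) :=
  edges_tab (sm ge) Qf (tab Gen.e) 640 [(640, 988), (641, 991), (642, 992), (643, 993), (644, 994), (645, 995), (646, 996), (647, 997), (648, 998), (649, 400), (650, 401), (651, 1028), (652, 403), (653, 404), (654, 405), (655, 1035), (656, 407), (657, 1024), (658, 1038), (659, 1026), (660, 402), (661, 1039), (662, 1030), (663, 1031), (664, 1042), (665, 1033), (666, 406), (667, 1043), (668, 1037), (669, 1047), (670, 1049), (671, 410), (672, 1051), (673, 421), (674, 422), (675, 1058), (676, 1060), (677, 415), (678, 1062), (679, 426), (680, 427), (681, 418), (682, 420), (683, 1068), (684, 1069), (685, 1054), (686, 1055), (687, 1056), (688, 423), (689, 425), (690, 1073), (691, 1074), (692, 1065), (693, 1066), (694, 1067), (695, 1076), (696, 428), (697, 1078), (698, 429), (699, 1079), (700, 1081), (701, 431), (702, 1083), (703, 432)]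
    ⟨e3 q640 (flp_e L10479) q988, e3 q641 (flp_e L10501) q991, e3 q642 (flp_e L10505) q992, e3 q643 (flp_e L10511) q993, e3 q644 (flp_e L10515) q994, e3 q645 (flp_e L10521) q995, e3 q646 (flp_e L10527) q996, e3 q647 (flp_e L10531) q997, e3 q648 (flp_e L10537) q998, e3 q649 L5442 q400, e3 q650 L5448 q401, e3 q651 L10902 q1028, e3 q652 L5460 q403, e3 q653 L5478 q404, e3 q654 L5484 q405, e3 q655 L10974 q1035, e3 q656 L5496 q407, e3 q657 (flp_e L10879) q1024, e3 q658 L11064 q1038, e3 q659 (flp_e L10892) q1026, e3 q660 (flp_e L5535) q402, e3 q661 (flp_e L11117) q1039, e3 q662 (flp_e L10914) q1030, e3 q663 (flp_e L10952) q1031, e3 q664 L11210 q1042, e3 q665 (flp_e L10964) q1033, e3 q666 (flp_e L5585) q406, e3 q667 (flp_e L11252) q1043, e3 q668 (flp_e L10986) q1037, e3 q669 L11320 q1047, e3 q670 L11328 q1049, e3 q671 (flp_e L5625) q410, e3 q672 (flp_e L11340) q1051, e3 q673 L5635 q421, e3 q674 L5643 q422, e3 q675 L11402 q1058, e3 q676 L11410 q1060, e3 q677 (flp_e L5665) q415, e3 q678 (flp_e L11422) q1062, e3 q679 L5675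 q426, e3 q680 L5683 q427, e3 q681 (flp_e L5709) q418, e3 q682 L5715 q420, e3 q683 (flp_e L11517) q1068, e3 q684 (flp_e L11525) q1069, e3 q685 (flp_e L11356) q1054, e3 q686 (flp_e L11360) q1055, e3 q687 (flp_e L11364) q1056, e3 q688 (flp_e L5761) q423, e3 q689 L5779 q425, e3 q690 (flp_e L11662) q1073, e3 q691 (flp_e L11668) q1074, e3 q692 (flp_e L11438) q1065, e3 q693 (flp_e L11442) q1066, e3 q694 (flp_e L11446) q1067, e3 q695 L11743 q1076, e3 q696 (flp_e L5812) q428, e3 q697 (flp_e L11759) q1078, e3 q698 (flp_e L5821) q429, e3 q699 (flp_e L11768) q1079, e3 q700 L11833 q1081, e3 q701 (flp_e L5854) q431, e3 q702 (flp_e L11852) q1083, e3 q703 (flp_e L5865) q432, trivial⟩ (by decide +kernel)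

theorem ce_e_11 : ∀ r, r < 64 → sm ge (Qf (704 + r)) = Qf (tab Gen.e (704 + r)) :=
  edges_tab (sm ge) Qf (tab Gen.e) 704 [(704, 1084), (705, 448), (706, 986), (707, 449), (708, 450), (709, 989), (710, 990), (711, 451), (712, 452), (713, 453), (714, 454), (715, 455), (716, 456), (717, 457), (718, 458), (719, 459), (720, 460), (721, 446), (722, 447), (723, 1117), (724, 1118), (725, 1086), (726, 1088), (727, 1089), (728, 1093), (729, 1094), (730, 1095), (731, 1096), (732, 1101), (733, 1102), (734, 1103), (735, 1104), (736, 1105), (737, 1106), (738, 1107), (739, 1108), (740, 1157), (741, 1110), (742, 1000), (743, 1111), (744, 1112), (745, 1164), (746, 1114), (747, 1002), (748, 1115), (749, 1116), (750, 467), (751, 468), (752, 469), (753, 1177), (754, 471), (755, 472), (756, 473), (757, 1184), (758, 1185), (759, 1172), (760, 1173), (761, 1174), (762, 1191), (763, 470), (764, 1192), (765, 1179), (766, 1180), (767, 1181)]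
    ⟨e3 q704 (flp_e L11879) q1084, e3 q705 L5942 q448, e3 q706 (flp_e L10471) q986, e3 q707 L5951 q449, e3 q708 L5956 q450, e3 q709 (flp_e L10488) q989, e3 q710 (flp_e L10497) q990, e3 q711 L5970 q451, e3 q712 L5976 q452, e3 q713 L5982 q453, e3 q714 L5990 q454, e3 q715 L6003 q455, e3 q716 L6010 q456, e3 q717 L6016 q457, e3 q718 L6027 q458, e3 q719 L6034 q459, e3 q720 L6040 q460, e3 q721 L6078 q446, e3 q722 L6126 q447, e3 q723 (flp_e L12281) q1117, e3 q724 (flp_e L12387) q1118, e3 q725 (flp_e L11970) q1086, e3 q726 (flp_e L11981) q1088, e3 q727 (flp_e L11988) q1089, e3 q728 (flp_e L12003) q1093, e3 q729 (flp_e L12010) q1094, e3 q730 (flp_e L12016) q1095, e3 q731 (flp_e L12025) q1096, e3 q732 (flp_e L12057) q1101, e3 q733 (flp_e L12061) q1102, e3 q734 (flp_e L12067) q1103, e3 q735 (flp_e L12071) q1104, e3 q736 (flp_e L12075) q1105, e3 q737 (flp_e L12079) q1106, e3 q738 (flp_e L12085) q1107, e3 q739 (flp_e L12089) q1108, e3 q740 L12976 q1157, e3 q741 (flp_e L12121) q1110, e3 q742 L75359 q1000, e3 q743 (flp_e L12135)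 q1111, e3 q744 (flp_e L12139) q1112, e3 q745 L13065 q1164, e3 q746 (flp_e L12179) q1114, e3 q747 (flp_e L80627) q1002, e3 q748 (flp_e L12193) q1115, e3 q749 (flp_e L12197) q1116, e3 q750 L6488 q467, e3 q751 L6499 q468, e3 q752 L6505 q469, e3 q753 L13255 q1177, e3 q754 L6563 q471, e3 q755 L6574 q472, e3 q756 L6580 q473, e3 q757 L13428 q1184, e3 q758 L13596 q1185, e3 q759 (flp_e L13211) q1172, e3 q760 (flp_e L13215) q1173, e3 q761 (flp_e L13229) q1174, e3 q762 L13658 q1191, e3 q763 (flp_e L6697) q470, e3 q764 L13860 q1192, e3 q765 (flp_e L13382) q1179, e3 q766 (flp_e L13388) q1180, e3 q767 (flp_e L13402) q1181, trivial⟩ (by decide +kernel)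

theorem ce_e_12 : ∀ r, r < 64 → sm ge (Qf (768 + r)) = Qf (tab Gen.e (768 + r)) :=
  edges_tab (sm ge) Qf (tab Gen.e) 768 [(768, 1198), (769, 474), (770, 477), (771, 483), (772, 1199), (773, 1200), (774, 484), (775, 481), (776, 485), (777, 1207), (778, 1208), (779, 486), (780, 1201), (781, 1205), (782, 1206), (783, 1209), (784, 1213), (785, 1214), (786, 936), (787, 489), (788, 491), (789, 1217), (790, 495), (791, 496), (792, 497), (793, 1220), (794, 1222), (795, 1223), (796, 501), (797, 499), (798, 500), (799, 1232), (800, 1233), (801, 1229), (802, 1230), (803, 1231), (804, 504), (805, 505), (806, 513), (807, 514), (808, 515), (809, 509), (810, 510), (811, 511), (812, 512), (813, 1247), (814, 1248), (815, 1249), (816, 1250), (817, 1239), (818, 1255), (819, 1241), (820, 1242), (821, 1243), (822, 1244), (823, 1245), (824, 1246), (825, 520), (826, 521), (827, 522), (828, 523), (829, 524), (830, 525), (831, 526)]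
    ⟨e3 q768 L13916 q1198, e3 q769 (flp_e L6814) q474, e3 q770 L142531 q477, e3 q771 L6855 q483, e3 q772 L142359 q1199, e3 q773 (flp_e L141092) q1200, e3 q774 L6873 q484, e3 q775 (flp_e L140524) q481, e3 q776 L6892 q485, e3 q777 (flp_e L140518) q1207, e3 q778 (flp_e L140535) q1208, e3 q779 L6910 q486, e3 q780 (flp_e L14029) q1201, e3 q781 (flp_e L14056) q1205, e3 q782 (flp_e L14062) q1206, e3 q783 (flp_e L14105) q1209, e3 q784 (flp_e L14134) q1213, e3 q785 (flp_e L14140) q1214, e3 q786 L71752 q936, e3 q787 (flp_e L7633) q489, e3 q788 L7649 q491, e3 q789 (flp_e L15563) q1217, e3 q790 L7753 q495, e3 q791 L7761 q496, e3 q792 L7769 q497, e3 q793 (flp_e L15792) q1220, e3 q794 (flp_e L15806) q1222, e3 q795 (flp_e L15814) q1223, e3 q796 L8515 q501, e3 q797 L8523 q499, e3 q798 L8531 q500, e3 q799 (flp_e L17495) q1232, e3 q800 (flp_e L17499) q1233, e3 q801 (flp_e L17475) q1229, e3 q802 (flp_e L17483) q1230, e3 q803 (flp_e L17491) q1231, e3 q804 L8559 q504, e3 q805 L8563 q505, e3 q806 L8589 q513, e3 q807 L8595 q514, e3 q808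 L8601 q515, e3 q809 L8605 q509, e3 q810 L8611 q510, e3 q811 L8617 q511, e3 q812 L8627 q512, e3 q813 (flp_e L17704) q1247, e3 q814 (flp_e L17708) q1248, e3 q815 (flp_e L17724) q1249, e3 q816 (flp_e L17728) q1250, e3 q817 (flp_e L17637) q1239, e3 q818 L17820 q1255, e3 q819 (flp_e L17648) q1241, e3 q820 (flp_e L17654) q1242, e3 q821 (flp_e L17660) q1243, e3 q822 (flp_e L17668) q1244, e3 q823 (flp_e L17676) q1245, e3 q824 (flp_e L17686) q1246, e3 q825 L8709 q520, e3 q826 L8715 q521, e3 q827 L8723 q522, e3 q828 L8727 q523, e3 q829 L8731 q524, e3 q830 L8737 q525, e3 q831 L8745 q526, trivial⟩ (by decide +kernel)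

theorem ce_e_13 : ∀ r, r < 64 → sm ge (Qf (832 + r)) = Qf (tab Gen.e (832 + r)) :=
  edges_tab (sm ge) Qf (tab Gen.e) 832 [(832, 527), (833, 1270), (834, 1280), (835, 1272), (836, 1273), (837, 1274), (838, 1284), (839, 1276), (840, 1277), (841, 543), (842, 1221), (843, 544), (844, 545), (845, 546), (846, 547), (847, 548), (848, 549), (849, 535), (850, 536), (851, 537), (852, 538), (853, 539), (854, 540), (855, 541), (856, 542), (857, 1304), (858, 1306), (859, 1307), (860, 1308), (861, 1309), (862, 1310), (863, 1312), (864, 1313), (865, 1314), (866, 1315), (867, 1286), (868, 1288), (869, 1289), (870, 1292), (871, 1293), (872, 1294), (873, 1295), (874, 1296), (875, 1297), (876, 1298), (877, 1299), (878, 1300), (879, 1301), (880, 1302), (881, 1303), (882, 558), (883, 559), (884, 1355), (885, 561), (886, 562), (887, 563), (888, 564), (889, 565), (890, 566), (891, 567), (892, 1365), (893, 569), (894, 570), (895, 571)]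
    ⟨e3 q832 L8749 q527, e3 q833 (flp_e L17892) q1270, e3 q834 L17999 q1280, e3 q835 (flp_e L17906) q1272, e3 q836 (flp_e L17920) q1273, e3 q837 (flp_e L17938) q1274, e3 q838 L18071 q1284, e3 q839 (flp_e L17952) q1276, e3 q840 (flp_e L17966) q1277, e3 q841 L8931 q543, e3 q842 (flp_e L15798) q1221, e3 q843 L8939 q544, e3 q844 L8945 q545, e3 q845 L8951 q546, e3 q846 L8957 q547, e3 q847 L8965 q548, e3 q848 L8973 q549, e3 q849 L8979 q535, e3 q850 L8983 q536, e3 q851 L8987 q537, e3 q852 L8991 q538, e3 q853 L8995 q539, e3 q854 L8999 q540, e3 q855 L9003 q541, e3 q856 L9007 q542, e3 q857 (flp_e L18485) q1304, e3 q858 (flp_e L18507) q1306, e3 q859 (flp_e L18511) q1307, e3 q860 (flp_e L18525) q1308, e3 q861 (flp_e L18529) q1309, e3 q862 (flp_e L18539) q1310, e3 q863 (flp_e L18561) q1312, e3 q864 (flp_e L18565) q1313, e3 q865 (flp_e L18579) q1314, e3 q866 (flp_e L18583) q1315, e3 q867 (flp_e L18391) q1286, e3 q868 (flp_e L18399) q1288, e3 q869 (flp_e L18403) q1289, e3 q870 (flp_e L18415) q1292, e3 q871 (flp_e L18421) q1293,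 e3 q872 (flp_e L18427) q1294, e3 q873 (flp_e L18435) q1295, e3 q874 (flp_e L18443) q1296, e3 q875 (flp_e L18447) q1297, e3 q876 (flp_e L18453) q1298, e3 q877 (flp_e L18459) q1299, e3 q878 (flp_e L18465) q1300, e3 q879 (flp_e L18469) q1301, e3 q880 (flp_e L18475) q1302, e3 q881 (flp_e L18481) q1303, e3 q882 L9161 q558, e3 q883 L9167 q559, e3 q884 L18973 q1355, e3 q885 L9185 q561, e3 q886 L9189 q562, e3 q887 L9197 q563, e3 q888 L9203 q564, e3 q889 L9207 q565, e3 q890 L9219 q566, e3 q891 L9225 q567, e3 q892 L19097 q1365, e3 q893 L9243 q569, e3 q894 L9247 q570, e3 q895 L9255 q571, trivial⟩ (by decide +kernel)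

theorem ce_e_14 : ∀ r, r < 64 → sm ge (Qf (896 + r)) = Qf (tab Gen.e (896 + r)) :=
  edges_tab (sm ge) Qf (tab Gen.e) 896 [(896, 572), (897, 573), (898, 1373), (899, 560), (900, 1374), (901, 1357), (902, 1358), (903, 1359), (904, 1360), (905, 1361), (906, 1378), (907, 1379), (908, 568), (909, 1380), (910, 1367), (911, 1368), (912, 1369), (913, 1370), (914, 1371), (915, 1384), (916, 1386), (917, 574), (918, 1388), (919, 582), (920, 1393), (921, 1395), (922, 577), (923, 1397), (924, 586), (925, 1402), (926, 581), (927, 1403), (928, 1390), (929, 1391), (930, 583), (931, 585), (932, 1404), (933, 1399), (934, 1400), (935, 587), (936, 786), (937, 588), (938, 590), (939, 1405), (940, 594), (941, 595), (942, 596), (943, 1408), (944, 1416), (945, 1410), (946, 1411), (947, 606), (948, 1424), (949, 608), (950, 609), (951, 610), (952, 611), (953, 612), (954, 613), (955, 604), (956, 605), (957, 1435), (958, 1436), (959, 1437)]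
    ⟨e3 q896 L9261 q572, e3 q897 L9265 q573, e3 q898 L19239 q1373, e3 q899 (flp_e L9303) q560, e3 q900 (flp_e L19281) q1374, e3 q901 (flp_e L18985) q1357, e3 q902 (flp_e L18995) q1358, e3 q903 (flp_e L19001) q1359, e3 q904 (flp_e L19007) q1360, e3 q905 (flp_e L19027) q1361, e3 q906 L19359 q1378, e3 q907 L19441 q1379, e3 q908 (flp_e L9389) q568, e3 q909 (flp_e L19479) q1380, e3 q910 (flp_e L19109) q1367, e3 q911 (flp_e L19119) q1368, e3 q912 (flp_e L19125) q1369, e3 q913 (flp_e L19131) q1370, e3 q914 (flp_e L19151) q1371, e3 q915 L19569 q1384, e3 q916 L19593 q1386, e3 q917 (flp_e L9453) q574, e3 q918 (flp_e L19607) q1388, e3 q919 L9465 q582, e3 q920 L19633 q1393, e3 q921 L19680 q1395, e3 q922 (flp_e L9488) q577, e3 q923 (flp_e L19696) q1397, e3 q924 L9502 q586, e3 q925 L19728 q1402, e3 q926 L9518 q581, e3 q927 (flp_e L19740) q1403, e3 q928 (flp_e L19615) q1390, e3 q929 (flp_e L19621) q1391, e3 q930 (flp_e L9532) q583, e3 q931 L9579 q585, e3 q932 (flp_e L19842) q1404, e3 q933 (flp_e L19708) q1399, e3 q934 (flp_e L19714)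 q1400, e3 q935 (flp_e L9597) q587, e3 q936 (flp_e L71752) q786, e3 q937 (flp_e L9707) q588, e3 q938 L9728 q590, e3 q939 (flp_e L20152) q1405, e3 q940 L9817 q594, e3 q941 L9825 q595, e3 q942 L9833 q596, e3 q943 (flp_e L20377) q1408, e3 q944 L20523 q1416, e3 q945 (flp_e L20391) q1410, e3 q946 (flp_e L20399) q1411, e3 q947 L9967 q606, e3 q948 L20745 q1424, e3 q949 L9977 q608, e3 q950 L9983 q609, e3 q951 L9989 q610, e3 q952 L9997 q611, e3 q953 L10005 q612, e3 q954 L10015 q613, e3 q955 L10038 q604, e3 q956 L10059 q605, e3 q957 (flp_e L20866) q1435, e3 q958 (flp_e L20870) q1436, e3 q959 (flp_e L20910) q1437, trivial⟩ (by decide +kernel)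

theorem ce_e_15 : ∀ r, r < 64 → sm ge (Qf (960 + r)) = Qf (tab Gen.e (960 + r)) :=
  edges_tab (sm ge) Qf (tab Gen.e) 960 [(960, 1438), (961, 1421), (962, 1441), (963, 1422), (964, 1423), (965, 1450), (966, 607), (967, 1453), (968, 1454), (969, 1427), (970, 1428), (971, 1429), (972, 1430), (973, 1431), (974, 1432), (975, 1433), (976, 1434), (977, 1474), (978, 619), (979, 620), (980, 1477), (981, 622), (982, 623), (983, 618), (984, 621), (985, 638), (986, 706), (987, 639), (988, 640), (989, 709), (990, 710), (991, 641), (992, 642), (993, 643), (994, 644), (995, 645), (996, 646), (997, 647), (998, 648), (999, 636), (1000, 742), (1001, 637), (1002, 747), (1003, 1479), (1004, 1481), (1005, 1482), (1006, 1486), (1007, 1487), (1008, 1488), (1009, 1489), (1010, 1492), (1011, 1493), (1012, 1494), (1013, 1495), (1014, 1496), (1015, 1497), (1016, 1498), (1017, 1499), (1018, 1538), (1019, 1501), (1020, 1502), (1021, 1503), (1022, 1545), (1023, 1505)]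
    ⟨e3 q960 (flp_e L20914) q1438, e3 q961 (flp_e L20727) q1421, e3 q962 L72381 q1441, e3 q963 (flp_e L20737) q1422, e3 q964 (flp_e L20743) q1423, e3 q965 L72375 q1450, e3 q966 (flp_e L10159) q607, e3 q967 (flp_e L21171) q1453, e3 q968 (flp_e L21175) q1454, e3 q969 (flp_e L20759) q1427, e3 q970 (flp_e L20765) q1428, e3 q971 (flp_e L20771) q1429, e3 q972 (flp_e L20779) q1430, e3 q973 (flp_e L20793) q1431, e3 q974 (flp_e L20807) q1432, e3 q975 (flp_e L20819) q1433, e3 q976 (flp_e L20833) q1434, e3 q977 L21317 q1474, e3 q978 L10255 q619, e3 q979 L10259 q620, e3 q980 L21410 q1477, e3 q981 L10297 q622, e3 q982 L10301 q623, e3 q983 (flp_e L10337) q618, e3 q984 (flp_e L10409) q621, e3 q985 L10465 q638, e3 q986 L10471 q706, e3 q987 L10475 q639, e3 q988 L10479 q640, e3 q989 L10488 q709, e3 q990 L10497 q710, e3 q991 L10501 q641, e3 q992 L10505 q642, e3 q993 L10511 q643, e3 q994 L10515 q644, e3 q995 L10521 q645, e3 q996 L10527 q646, e3 q997 L10531 q647, e3 q998 L10537 q648, e3 q999 L10553 q636, e3 q1000 (flp_e L75359) q742,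 e3 q1001 L10589 q637, e3 q1002 L80627 q747, e3 q1003 (flp_e L21700) q1479, e3 q1004 (flp_e L21712) q1481, e3 q1005 (flp_e L21718) q1482, e3 q1006 (flp_e L21739) q1486, e3 q1007 (flp_e L21745) q1487, e3 q1008 (flp_e L21751) q1488, e3 q1009 (flp_e L21759) q1489, e3 q1010 (flp_e L21777) q1492, e3 q1011 (flp_e L21781) q1493, e3 q1012 (flp_e L21787) q1494, e3 q1013 (flp_e L21791) q1495, e3 q1014 (flp_e L21795) q1496, e3 q1015 (flp_e L21801) q1497, e3 q1016 (flp_e L21813) q1498, e3 q1017 (flp_e L21821) q1499, e3 q1018 L22457 q1538, e3 q1019 (flp_e L21831) q1501, e3 q1020 (flp_e L21853) q1502, e3 q1021 (flp_e L21861) q1503, e3 q1022 L22513 q1545, e3 q1023 (flp_e L21871) q1505, trivial⟩ (by decide +kernel)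

theorem ce_e_16 : ∀ r, r < 64 → sm ge (Qf (1024 + r)) = Qf (tab Gen.e (1024 + r)) :=
  edges_tab (sm ge) Qf (tab Gen.e) 1024 [(1024, 657), (1025, 1550), (1026, 659), (1027, 1554), (1028, 651), (1029, 1556), (1030, 662), (1031, 663), (1032, 1561), (1033, 665), (1034, 1565), (1035, 655), (1036, 1567), (1037, 668), (1038, 658), (1039, 661), (1040, 1570), (1041, 1558), (1042, 664), (1043, 667), (1044, 1571), (1045, 1569), (1046, 1573), (1047, 669), (1048, 1575), (1049, 670), (1050, 1579), (1051, 672), (1052, 1582), (1053, 1583), (1054, 685), (1055, 686), (1056, 687), (1057, 1590), (1058, 675), (1059, 1592), (1060, 676), (1061, 1596), (1062, 678), (1063, 1599), (1064, 1600), (1065, 692), (1066, 693), (1067, 694), (1068, 683), (1069, 684), (1070, 1606), (1071, 1607), (1072, 1588), (1073, 690), (1074, 691), (1075, 1605), (1076, 695), (1077, 1608), (1078, 697), (1079, 699), (1080, 1611), (1081, 700), (1082, 1613), (1083, 702), (1084, 704), (1085, 1616), (1086, 725), (1087, 1480)]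
    ⟨e3 q1024 L10879 q657, e3 q1025 L22615 q1550, e3 q1026 L10892 q659, e3 q1027 L22655 q1554, e3 q1028 (flp_e L10902) q651, e3 q1029 (flp_e L22667) q1556, e3 q1030 L10914 q662, e3 q1031 L10952 q663, e3 q1032 L22792 q1561, e3 q1033 L10964 q665, e3 q1034 L22832 q1565, e3 q1035 (flp_e L10974) q655, e3 q1036 (flp_e L22844) q1567, e3 q1037 L10986 q668, e3 q1038 (flp_e L11064) q658, e3 q1039 L11117 q661, e3 q1040 (flp_e L23068) q1570, e3 q1041 (flp_e L22685) q1558, e3 q1042 (flp_e L11210) q664, e3 q1043 L11252 q667, e3 q1044 (flp_e L23347) q1571, e3 q1045 (flp_e L22862) q1569, e3 q1046 L23497 q1573, e3 q1047 (flp_e L11320) q669, e3 q1048 L23505 q1575, e3 q1049 (flp_e L11328) q670, e3 q1050 (flp_e L23519) q1579, e3 q1051 L11340 q672, e3 q1052 (flp_e L23537) q1582, e3 q1053 (flp_e L23545) q1583, e3 q1054 L11356 q685, e3 q1055 L11360 q686, e3 q1056 L11364 q687, e3 q1057 L23701 q1590, e3 q1058 (flp_e L11402) q675, e3 q1059 L23709 q1592, e3 q1060 (flp_e L11410) q676, e3 q1061 (flp_e L23723) q1596, e3 q1062 L11422 q678, e3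 q1063 (flp_e L23741) q1599, e3 q1064 (flp_e L23749) q1600, e3 q1065 L11438 q692, e3 q1066 L11442 q693, e3 q1067 L11446 q694, e3 q1068 L11517 q683, e3 q1069 L11525 q684, e3 q1070 (flp_e L23980) q1606, e3 q1071 (flp_e L23984) q1607, e3 q1072 (flp_e L23565) q1588, e3 q1073 L11662 q690, e3 q1074 L11668 q691, e3 q1075 (flp_e L23769) q1605, e3 q1076 (flp_e L11743) q695, e3 q1077 (flp_e L24436) q1608, e3 q1078 L11759 q697, e3 q1079 L11768 q699, e3 q1080 (flp_e L24454) q1611, e3 q1081 (flp_e L11833) q700, e3 q1082 (flp_e L24613) q1613, e3 q1083 L11852 q702, e3 q1084 L11879 q704, e3 q1085 (flp_e L24694) q1616, e3 q1086 L11970 q725, e3 q1087 (flp_e L21706) q1480, trivial⟩ (by decide +kernel)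

theorem ce_e_17 : ∀ r, r < 64 → sm ge (Qf (1088 + r)) = Qf (tab Gen.e (1088 + r)) :=
  edges_tab (sm ge) Qf (tab Gen.e) 1088 [(1088, 726), (1089, 727), (1090, 1483), (1091, 1484), (1092, 1485), (1093, 728), (1094, 729), (1095, 730), (1096, 731), (1097, 1490), (1098, 1100), (1099, 1491), (1100, 1098), (1101, 732), (1102, 733), (1103, 734), (1104, 735), (1105, 736), (1106, 737), (1107, 738), (1108, 739), (1109, 1672), (1110, 741), (1111, 743), (1112, 744), (1113, 1678), (1114, 746), (1115, 748), (1116, 749), (1117, 723), (1118, 724), (1119, 1683), (1120, 1684), (1121, 1685), (1122, 1686), (1123, 1618), (1124, 1619), (1125, 1621), (1126, 1622), (1127, 1626), (1128, 1627), (1129, 1635), (1130, 1636), (1131, 1637), (1132, 1638), (1133, 1639), (1134, 1640), (1135, 1641), (1136, 1642), (1137, 1651), (1138, 1652), (1139, 1653), (1140, 1730), (1141, 1655), (1142, 1656), (1143, 1657), (1144, 1658), (1145, 1659), (1146, 1660), (1147, 1661), (1148, 1662), (1149, 1663), (1150, 1753), (1151, 1665)]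
    ⟨e3 q1088 L11981 q726, e3 q1089 L11988 q727, e3 q1090 (flp_e L21722) q1483, e3 q1091 (flp_e L21729) q1484, e3 q1092 (flp_e L21735) q1485, e3 q1093 L12003 q728, e3 q1094 L12010 q729, e3 q1095 L12016 q730, e3 q1096 L12025 q731, e3 q1097 (flp_e L21767) q1490, e3 q1098 (flp_e L12051) q1100, e3 q1099 (flp_e L21773) q1491, e3 q1100 L12051 q1098, e3 q1101 L12057 q732, e3 q1102 L12061 q733, e3 q1103 L12067 q734, e3 q1104 L12071 q735, e3 q1105 L12075 q736, e3 q1106 L12079 q737, e3 q1107 L12085 q738, e3 q1108 L12089 q739, e3 q1109 L25183 q1672, e3 q1110 L12121 q741, e3 q1111 L12135 q743, e3 q1112 L12139 q744, e3 q1113 L25307 q1678, e3 q1114 L12179 q746, e3 q1115 L12193 q748, e3 q1116 L12197 q749, e3 q1117 L12281 q723, e3 q1118 L12387 q724, e3 q1119 (flp_e L25567) q1683, e3 q1120 (flp_e L25571) q1684, e3 q1121 (flp_e L25824) q1685, e3 q1122 (flp_e L25830) q1686, e3 q1123 (flp_e L24862) q1618, e3 q1124 (flp_e L24866) q1619, e3 q1125 (flp_e L24875) q1621, e3 q1126 (flp_e L24879) q1622, e3 q1127 (flp_e L24899) q1626, e3 q1128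 (flp_e L24903) q1627, e3 q1129 (flp_e L24944) q1635, e3 q1130 (flp_e L24950) q1636, e3 q1131 (flp_e L24957) q1637, e3 q1132 (flp_e L24961) q1638, e3 q1133 (flp_e L24965) q1639, e3 q1134 (flp_e L24971) q1640, e3 q1135 (flp_e L24978) q1641, e3 q1136 (flp_e L24982) q1642, e3 q1137 (flp_e L25018) q1651, e3 q1138 (flp_e L25024) q1652, e3 q1139 (flp_e L25030) q1653, e3 q1140 L26789 q1730, e3 q1141 (flp_e L25042) q1655, e3 q1142 (flp_e L25046) q1656, e3 q1143 (flp_e L25054) q1657, e3 q1144 (flp_e L25060) q1658, e3 q1145 (flp_e L25064) q1659, e3 q1146 (flp_e L25070) q1660, e3 q1147 (flp_e L25076) q1661, e3 q1148 (flp_e L25082) q1662, e3 q1149 (flp_e L25088) q1663, e3 q1150 L26873 q1753, e3 q1151 (flp_e L25100) q1665, trivial⟩ (by decide +kernel)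

theorem ce_e_18 : ∀ r, r < 64 → sm ge (Qf (1152 + r)) = Qf (tab Gen.e (1152 + r)) :=
  edges_tab (sm ge) Qf (tab Gen.e) 1152 [(1152, 1666), (1153, 1667), (1154, 1668), (1155, 1669), (1156, 1670), (1157, 740), (1158, 1767), (1159, 1673), (1160, 1506), (1161, 1674), (1162, 1675), (1163, 1778), (1164, 745), (1165, 1779), (1166, 1679), (1167, 1507), (1168, 1680), (1169, 1681), (1170, 1790), (1171, 1792), (1172, 759), (1173, 760), (1174, 761), (1175, 1800), (1176, 1803), (1177, 753), (1178, 1805), (1179, 765), (1180, 766), (1181, 767), (1182, 1813), (1183, 1816), (1184, 757), (1185, 758), (1186, 1793), (1187, 1794), (1188, 1817), (1189, 1796), (1190, 1798), (1191, 762), (1192, 764), (1193, 1806), (1194, 1807), (1195, 1818), (1196, 1809), (1197, 1811), (1198, 768), (1199, 772), (1200, 773), (1201, 780), (1202, 1819), (1203, 1820), (1204, 1821), (1205, 781), (1206, 782), (1207, 777), (1208, 778), (1209, 783), (1210, 1830), (1211, 1831), (1212, 1832), (1213, 784), (1214, 785), (1215, 1829)]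
    ⟨e3 q1152 (flp_e L25104) q1666, e3 q1153 (flp_e L25112) q1667, e3 q1154 (flp_e L25118) q1668, e3 q1155 (flp_e L25122) q1669, e3 q1156 (flp_e L25128) q1670, e3 q1157 (flp_e L12976) q740, e3 q1158 (flp_e L27035) q1767, e3 q1159 (flp_e L25194) q1673, e3 q1160 (flp_e L81114) q1506, e3 q1161 (flp_e L25220) q1674, e3 q1162 (flp_e L25226) q1675, e3 q1163 L27107 q1778, e3 q1164 (flp_e L13065) q745, e3 q1165 (flp_e L27225) q1779, e3 q1166 (flp_e L25318) q1679, e3 q1167 L82487 q1507, e3 q1168 (flp_e L25344) q1680, e3 q1169 (flp_e L25350) q1681, e3 q1170 L27299 q1790, e3 q1171 L27500 q1792, e3 q1172 L13211 q759, e3 q1173 L13215 q760, e3 q1174 L13229 q761, e3 q1175 L27578 q1800, e3 q1176 L27614 q1803, e3 q1177 (flp_e L13255) q753, e3 q1178 L27834 q1805, e3 q1179 L13382 q765, e3 q1180 L13388 q766, e3 q1181 L13402 q767, e3 q1182 L27910 q1813, e3 q1183 L27946 q1816, e3 q1184 (flp_e L13428) q757, e3 q1185 (flp_e L13596) q758, e3 q1186 (flp_e L27520) q1793, e3 q1187 (flp_e L27534) q1794, e3 q1188 L28283 q1817, e3 q1189 (flp_e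 L27558) q1796, e3 q1190 (flp_e L27570) q1798, e3 q1191 (flp_e L13658) q762, e3 q1192 (flp_e L13860) q764, e3 q1193 (flp_e L27854) q1806, e3 q1194 (flp_e L27868) q1807, e3 q1195 L28757 q1818, e3 q1196 (flp_e L27890) q1809, e3 q1197 (flp_e L27898) q1811, e3 q1198 (flp_e L13916) q768, e3 q1199 (flp_e L142359) q772, e3 q1200 L141092 q773, e3 q1201 L14029 q780, e3 q1202 (flp_e L142458) q1819, e3 q1203 (flp_e L134564) q1820, e3 q1204 L133550 q1821, e3 q1205 L14056 q781, e3 q1206 L14062 q782, e3 q1207 L140518 q777, e3 q1208 L140535 q778, e3 q1209 L14105 q783, e3 q1210 L136937 q1830, e3 q1211 (flp_e L136836) q1831, e3 q1212 (flp_e L142046) q1832, e3 q1213 L14134 q784, e3 q1214 L14140 q785, e3 q1215 (flp_e L29117) q1829, trivial⟩ (by decide +kernel)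

theorem ce_e_19 : ∀ r, r < 64 → sm ge (Qf (1216 + r)) = Qf (tab Gen.e (1216 + r)) :=
  edges_tab (sm ge) Qf (tab Gen.e) 1216 [(1216, 1840), (1217, 789), (1218, 1841), (1219, 1407), (1220, 793), (1221, 842), (1222, 794), (1223, 795), (1224, 1846), (1225, 1848), (1226, 1849), (1227, 1852), (1228, 1853), (1229, 801), (1230, 802), (1231, 803), (1232, 799), (1233, 800), (1234, 1865), (1235, 1866), (1236, 1867), (1237, 1868), (1238, 1869), (1239, 817), (1240, 1870), (1241, 819), (1242, 820), (1243, 821), (1244, 822), (1245, 823), (1246, 824), (1247, 813), (1248, 814), (1249, 815), (1250, 816), (1251, 1877), (1252, 1898), (1253, 1879), (1254, 1880), (1255, 818), (1256, 1905), (1257, 1906), (1258, 1883), (1259, 1884), (1260, 1885), (1261, 1886), (1262, 1305), (1263, 1887), (1264, 1888), (1265, 1889), (1266, 1311), (1267, 1890), (1268, 1891), (1269, 1892), (1270, 833), (1271, 1930), (1272, 835), (1273, 836), (1274, 837), (1275, 1936), (1276, 839), (1277, 840), (1278, 1927), (1279, 1940)]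
    ⟨e3 q1216 (flp_e L29287) q1840, e3 q1217 L15563 q789, e3 q1218 (flp_e L32316) q1841, e3 q1219 (flp_e L72261) q1407, e3 q1220 L15792 q793, e3 q1221 L15798 q842, e3 q1222 L15806 q794, e3 q1223 L15814 q795, e3 q1224 (flp_e L32812) q1846, e3 q1225 (flp_e L32822) q1848, e3 q1226 (flp_e L32826) q1849, e3 q1227 (flp_e L32846) q1852, e3 q1228 (flp_e L32850) q1853, e3 q1229 L17475 q801, e3 q1230 L17483 q802, e3 q1231 L17491 q803, e3 q1232 L17495 q799, e3 q1233 L17499 q800, e3 q1234 (flp_e L36477) q1865, e3 q1235 (flp_e L36490) q1866, e3 q1236 (flp_e L36498) q1867, e3 q1237 (flp_e L36504) q1868, e3 q1238 (flp_e L36510) q1869, e3 q1239 L17637 q817, e3 q1240 (flp_e L72373) q1870, e3 q1241 L17648 q819, e3 q1242 L17654 q820, e3 q1243 L17660 q821, e3 q1244 L17668 q822, e3 q1245 L17676 q823, e3 q1246 L17686 q824, e3 q1247 L17704 q813, e3 q1248 L17708 q814, e3 q1249 L17724 q815, e3 q1250 L17728 q816, e3 q1251 (flp_e L36792) q1877, e3 q1252 L37177 q1898, e3 q1253 (flp_e L36802) q1879, e3 q1254 (flp_e L36808) q1880, e3 q1255 (flp_e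 L17820) q818, e3 q1256 (flp_e L37213) q1905, e3 q1257 (flp_e L37217) q1906, e3 q1258 (flp_e L36827) q1883, e3 q1259 (flp_e L36833) q1884, e3 q1260 (flp_e L36839) q1885, e3 q1261 (flp_e L36847) q1886, e3 q1262 (flp_e L69297) q1305, e3 q1263 (flp_e L36861) q1887, e3 q1264 (flp_e L36869) q1888, e3 q1265 (flp_e L36875) q1889, e3 q1266 L78629 q1311, e3 q1267 (flp_e L36887) q1890, e3 q1268 (flp_e L36895) q1891, e3 q1269 (flp_e L36901) q1892, e3 q1270 L17892 q833, e3 q1271 L37374 q1930, e3 q1272 L17906 q835, e3 q1273 L17920 q836, e3 q1274 L17938 q837, e3 q1275 L37480 q1936, e3 q1276 L17952 q839, e3 q1277 L17966 q840, e3 q1278 (flp_e L37361) q1927, e3 q1279 L37627 q1940, trivial⟩ (by decide +kernel)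

theorem ce_e_20 : ∀ r, r < 64 → sm ge (Qf (1280 + r)) = Qf (tab Gen.e (1280 + r)) :=
  edges_tab (sm ge) Qf (tab Gen.e) 1280 [(1280, 834), (1281, 1941), (1282, 1933), (1283, 1943), (1284, 838), (1285, 1944), (1286, 867), (1287, 1847), (1288, 868), (1289, 869), (1290, 1850), (1291, 1851), (1292, 870), (1293, 871), (1294, 872), (1295, 873), (1296, 874), (1297, 875), (1298, 876), (1299, 877), (1300, 878), (1301, 879), (1302, 880), (1303, 881), (1304, 857), (1305, 1262), (1306, 858), (1307, 859), (1308, 860), (1309, 861), (1310, 862), (1311, 1266), (1312, 863), (1313, 864), (1314, 865), (1315, 866), (1316, 1985), (1317, 1986), (1318, 1987), (1319, 1990), (1320, 1991), (1321, 1992), (1322, 1945), (1323, 1947), (1324, 1948), (1325, 1952), (1326, 1953), (1327, 1954), (1328, 1955), (1329, 1960), (1330, 1961), (1331, 1962), (1332, 1963), (1333, 1964), (1334, 1965), (1335, 1966), (1336, 1967), (1337, 1968), (1338, 1969), (1339, 2033), (1340, 1971), (1341, 1972), (1342, 1973), (1343, 1974)]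
    ⟨e3 q1280 (flp_e L17999) q834, e3 q1281 L37731 q1941, e3 q1282 (flp_e L37468) q1933, e3 q1283 L37986 q1943, e3 q1284 (flp_e L18071) q838, e3 q1285 L38074 q1944, e3 q1286 L18391 q867, e3 q1287 (flp_e L32818) q1847, e3 q1288 L18399 q868, e3 q1289 L18403 q869, e3 q1290 (flp_e L32834) q1850, e3 q1291 (flp_e L32842) q1851, e3 q1292 L18415 q870, e3 q1293 L18421 q871, e3 q1294 L18427 q872, e3 q1295 L18435 q873, e3 q1296 L18443 q874, e3 q1297 L18447 q875, e3 q1298 L18453 q876, e3 q1299 L18459 q877, e3 q1300 L18465 q878, e3 q1301 L18469 q879, e3 q1302 L18475 q880, e3 q1303 L18481 q881, e3 q1304 L18485 q857, e3 q1305 L69297 q1262, e3 q1306 L18507 q858, e3 q1307 L18511 q859, e3 q1308 L18525 q860, e3 q1309 L18529 q861, e3 q1310 L18539 q862, e3 q1311 (flp_e L78629) q1266, e3 q1312 L18561 q863, e3 q1313 L18565 q864, e3 q1314 L18579 q865, e3 q1315 L18583 q866, e3 q1316 (flp_e L38972) q1985, e3 q1317 (flp_e L38978) q1986, e3 q1318 (flp_e L38998) q1987, e3 q1319 (flp_e L39088) q1990, e3 q1320 (flp_e L39094) q1991, e3 q1321 (flp_e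 L39114) q1992, e3 q1322 (flp_e L38662) q1945, e3 q1323 (flp_e L38672) q1947, e3 q1324 (flp_e L38678) q1948, e3 q1325 (flp_e L38692) q1952, e3 q1326 (flp_e L38698) q1953, e3 q1327 (flp_e L38704) q1954, e3 q1328 (flp_e L38712) q1955, e3 q1329 (flp_e L38742) q1960, e3 q1330 (flp_e L38746) q1961, e3 q1331 (flp_e L38752) q1962, e3 q1332 (flp_e L38756) q1963, e3 q1333 (flp_e L38760) q1964, e3 q1334 (flp_e L38764) q1965, e3 q1335 (flp_e L38770) q1966, e3 q1336 (flp_e L38774) q1967, e3 q1337 (flp_e L38780) q1968, e3 q1338 (flp_e L38786) q1969, e3 q1339 L39731 q2033, e3 q1340 (flp_e L38804) q1971, e3 q1341 (flp_e L38810) q1972, e3 q1342 (flp_e L38820) q1973, e3 q1343 (flp_e L38828) q1974, trivial⟩ (by decide +kernel)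

theorem ce_e_21 : ∀ r, r < 64 → sm ge (Qf (1344 + r)) = Qf (tab Gen.e (1344 + r)) :=
  edges_tab (sm ge) Qf (tab Gen.e) 1344 [(1344, 1975), (1345, 1976), (1346, 1977), (1347, 2045), (1348, 1979), (1349, 1980), (1350, 1981), (1351, 1982), (1352, 1983), (1353, 2054), (1354, 2057), (1355, 884), (1356, 2059), (1357, 901), (1358, 902), (1359, 903), (1360, 904), (1361, 905), (1362, 2068), (1363, 2070), (1364, 2073), (1365, 892), (1366, 2075), (1367, 910), (1368, 911), (1369, 912), (1370, 913), (1371, 914), (1372, 2084), (1373, 898), (1374, 900), (1375, 2063), (1376, 2064), (1377, 2062), (1378, 906), (1379, 907), (1380, 909), (1381, 2079), (1382, 2080), (1383, 2078), (1384, 915), (1385, 2086), (1386, 916), (1387, 2090), (1388, 918), (1389, 2092), (1390, 928), (1391, 929), (1392, 2097), (1393, 920), (1394, 2099), (1395, 921), (1396, 2103), (1397, 923), (1398, 2105), (1399, 933), (1400, 934), (1401, 2110), (1402, 925), (1403, 927), (1404, 932), (1405, 939), (1406, 2111), (1407, 1219)]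
    ⟨e3 q1344 (flp_e L38832) q1975, e3 q1345 (flp_e L38846) q1976, e3 q1346 (flp_e L38852) q1977, e3 q1347 L39829 q2045, e3 q1348 (flp_e L38870) q1979, e3 q1349 (flp_e L38876) q1980, e3 q1350 (flp_e L38886) q1981, e3 q1351 (flp_e L38894) q1982, e3 q1352 (flp_e L38898) q1983, e3 q1353 L39951 q2054, e3 q1354 L39993 q2057, e3 q1355 (flp_e L18973) q884, e3 q1356 (flp_e L40005) q2059, e3 q1357 L18985 q901, e3 q1358 L18995 q902, e3 q1359 L19001 q903, e3 q1360 L19007 q904, e3 q1361 L19027 q905, e3 q1362 L40121 q2068, e3 q1363 L40209 q2070, e3 q1364 L40241 q2073, e3 q1365 (flp_e L19097) q892, e3 q1366 (flp_e L40253) q2075, e3 q1367 L19109 q910, e3 q1368 L19119 q911, e3 q1369 L19125 q912, e3 q1370 L19131 q913, e3 q1371 L19151 q914, e3 q1372 L40371 q2084, e3 q1373 (flp_e L19239) q898, e3 q1374 L19281 q900, e3 q1375 L141936 q2063, e3 q1376 (flp_e L139289) q2064, e3 q1377 (flp_e L40023) q2062, e3 q1378 (flp_e L19359) q906, e3 q1379 (flp_e L19441) q907, e3 q1380 L19479 q909, e3 q1381 L141944 q2079, e3 q1382 L139948 q2080, e3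 q1383 (flp_e L40271) q2078, e3 q1384 (flp_e L19569) q915, e3 q1385 L41268 q2086, e3 q1386 (flp_e L19593) q916, e3 q1387 (flp_e L41286) q2090, e3 q1388 L19607 q918, e3 q1389 (flp_e L41294) q2092, e3 q1390 L19615 q928, e3 q1391 L19621 q929, e3 q1392 L41326 q2097, e3 q1393 (flp_e L19633) q920, e3 q1394 L41404 q2099, e3 q1395 (flp_e L19680) q921, e3 q1396 (flp_e L41422) q2103, e3 q1397 L19696 q923, e3 q1398 (flp_e L41432) q2105, e3 q1399 L19708 q933, e3 q1400 L19714 q934, e3 q1401 L41474 q2110, e3 q1402 (flp_e L19728) q925, e3 q1403 L19740 q927, e3 q1404 L19842 q932, e3 q1405 L20152 q939, e3 q1406 (flp_e L42380) q2111, e3 q1407 L72261 q1219, trivial⟩ (by decide +kernel)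

theorem ce_e_22 : ∀ r, r < 64 → sm ge (Qf (1408 + r)) = Qf (tab Gen.e (1408 + r)) :=
  edges_tab (sm ge) Qf (tab Gen.e) 1408 [(1408, 943), (1409, 2120), (1410, 945), (1411, 946), (1412, 2116), (1413, 2130), (1414, 2118), (1415, 2119), (1416, 944), (1417, 2137), (1418, 2138), (1419, 2123), (1420, 2124), (1421, 961), (1422, 963), (1423, 964), (1424, 948), (1425, 2151), (1426, 2152), (1427, 969), (1428, 970), (1429, 971), (1430, 972), (1431, 973), (1432, 974), (1433, 975), (1434, 976), (1435, 957), (1436, 958), (1437, 959), (1438, 960), (1439, 2171), (1440, 2173), (1441, 962), (1442, 2145), (1443, 2146), (1444, 2175), (1445, 2176), (1446, 2147), (1447, 2148), (1448, 2149), (1449, 2150), (1450, 965), (1451, 2191), (1452, 2192), (1453, 967), (1454, 968), (1455, 2195), (1456, 2196), (1457, 2197), (1458, 2198), (1459, 2157), (1460, 2158), (1461, 2159), (1462, 2160), (1463, 2161), (1464, 2162), (1465, 2163), (1466, 2164), (1467, 2228), (1468, 2166), (1469, 2167), (1470, 2232), (1471, 2169)]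
    ⟨e3 q1408 L20377 q943, e3 q1409 L42668 q2120, e3 q1410 L20391 q945, e3 q1411 L20399 q946, e3 q1412 (flp_e L42654) q2116, e3 q1413 L42912 q2130, e3 q1414 (flp_e L42662) q2118, e3 q1415 (flp_e L42666) q2119, e3 q1416 (flp_e L20523) q944, e3 q1417 (flp_e L42948) q2137, e3 q1418 (flp_e L42956) q2138, e3 q1419 (flp_e L42694) q2123, e3 q1420 (flp_e L42698) q2124, e3 q1421 L20727 q961, e3 q1422 L20737 q963, e3 q1423 L20743 q964, e3 q1424 (flp_e L20745) q948, e3 q1425 (flp_e L43352) q2151, e3 q1426 (flp_e L43358) q2152, e3 q1427 L20759 q969, e3 q1428 L20765 q970, e3 q1429 L20771 q971, e3 q1430 L20779 q972, e3 q1431 L20793 q973, e3 q1432 L20807 q974, e3 q1433 L20819 q975, e3 q1434 L20833 q976, e3 q1435 L20866 q957, e3 q1436 L20870 q958, e3 q1437 L20910 q959, e3 q1438 L20914 q960, e3 q1439 (flp_e L43597) q2171, e3 q1440 (flp_e L43695) q2173, e3 q1441 (flp_e L72381) q962, e3 q1442 (flp_e L43292) q2145, e3 q1443 (flp_e L43300) q2146, e3 q1444 (flp_e L72319) q2175, e3 q1445 (flp_e L72317) q2176, e3 q1446 (flp_e L43320) q2147,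 e3 q1447 (flp_e L43328) q2148, e3 q1448 (flp_e L43334) q2149, e3 q1449 (flp_e L43344) q2150, e3 q1450 (flp_e L72375) q965, e3 q1451 (flp_e L72356) q2191, e3 q1452 (flp_e L72350) q2192, e3 q1453 L21171 q967, e3 q1454 L21175 q968, e3 q1455 (flp_e L44107) q2195, e3 q1456 (flp_e L44111) q2196, e3 q1457 (flp_e L44117) q2197, e3 q1458 (flp_e L44123) q2198, e3 q1459 (flp_e L43386) q2157, e3 q1460 (flp_e L43390) q2158, e3 q1461 (flp_e L43396) q2159, e3 q1462 (flp_e L43400) q2160, e3 q1463 (flp_e L43404) q2161, e3 q1464 (flp_e L43408) q2162, e3 q1465 (flp_e L43414) q2163, e3 q1466 (flp_e L43418) q2164, e3 q1467 L44262 q2228, e3 q1468 (flp_e L43456) q2166, e3 q1469 (flp_e L43460) q2167, e3 q1470 L44341 q2232, e3 q1471 (flp_e L43506) q2169, trivial⟩ (by decide +kernel)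

theorem ce_e_23 : ∀ r, r < 64 → sm ge (Qf (1472 + r)) = Qf (tab Gen.e (1472 + r)) :=
  edges_tab (sm ge) Qf (tab Gen.e) 1472 [(1472, 2170), (1473, 2237), (1474, 977), (1475, 2066), (1476, 2241), (1477, 980), (1478, 2082), (1479, 1003), (1480, 1087), (1481, 1004), (1482, 1005), (1483, 1090), (1484, 1091), (1485, 1092), (1486, 1006), (1487, 1007), (1488, 1008), (1489, 1009), (1490, 1097), (1491, 1099), (1492, 1010), (1493, 1011), (1494, 1012), (1495, 1013), (1496, 1014), (1497, 1015), (1498, 1016), (1499, 1017), (1500, 2287), (1501, 1019), (1502, 1020), (1503, 1021), (1504, 2293), (1505, 1023), (1506, 1160), (1507, 1167), (1508, 2243), (1509, 2117), (1510, 2245), (1511, 2246), (1512, 2250), (1513, 2251), (1514, 2258), (1515, 2259), (1516, 2260), (1517, 2261), (1518, 2262), (1519, 2263), (1520, 2264), (1521, 2265), (1522, 2272), (1523, 2273), (1524, 2274), (1525, 2338), (1526, 2276), (1527, 2277), (1528, 2278), (1529, 2279), (1530, 2280), (1531, 2351), (1532, 2282), (1533, 2283), (1534, 2284), (1535, 2360)]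
    ⟨e3 q1472 (flp_e L43510) q2170, e3 q1473 L44422 q2237, e3 q1474 (flp_e L21317) q977, e3 q1475 (flp_e L141803) q2066, e3 q1476 L44583 q2241, e3 q1477 (flp_e L21410) q980, e3 q1478 (flp_e L141172) q2082, e3 q1479 L21700 q1003, e3 q1480 L21706 q1087, e3 q1481 L21712 q1004, e3 q1482 L21718 q1005, e3 q1483 L21722 q1090, e3 q1484 L21729 q1091, e3 q1485 L21735 q1092, e3 q1486 L21739 q1006, e3 q1487 L21745 q1007, e3 q1488 L21751 q1008, e3 q1489 L21759 q1009, e3 q1490 L21767 q1097, e3 q1491 L21773 q1099, e3 q1492 L21777 q1010, e3 q1493 L21781 q1011, e3 q1494 L21787 q1012, e3 q1495 L21791 q1013, e3 q1496 L21795 q1014, e3 q1497 L21801 q1015, e3 q1498 L21813 q1016, e3 q1499 L21821 q1017, e3 q1500 L45403 q2287, e3 q1501 L21831 q1019, e3 q1502 L21853 q1020, e3 q1503 L21861 q1021, e3 q1504 L45481 q2293, e3 q1505 L21871 q1023, e3 q1506 L81114 q1160, e3 q1507 (flp_e L82487) q1167, e3 q1508 (flp_e L45106) q2243, e3 q1509 (flp_e L72444) q2117, e3 q1510 (flp_e L45122) q2245, e3 q1511 (flp_e L45126) q2246, e3 q1512 (flp_e L45152)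 q2250, e3 q1513 (flp_e L45156) q2251, e3 q1514 (flp_e L45209) q2258, e3 q1515 (flp_e L45215) q2259, e3 q1516 (flp_e L45221) q2260, e3 q1517 (flp_e L45225) q2261, e3 q1518 (flp_e L45229) q2262, e3 q1519 (flp_e L45235) q2263, e3 q1520 (flp_e L45241) q2264, e3 q1521 (flp_e L45245) q2265, e3 q1522 (flp_e L45283) q2272, e3 q1523 (flp_e L45289) q2273, e3 q1524 (flp_e L45295) q2274, e3 q1525 L46511 q2338, e3 q1526 (flp_e L45307) q2276, e3 q1527 (flp_e L45313) q2277, e3 q1528 (flp_e L45319) q2278, e3 q1529 (flp_e L45325) q2279, e3 q1530 (flp_e L45331) q2280, e3 q1531 L46571 q2351, e3 q1532 (flp_e L45343) q2282, e3 q1533 (flp_e L45349) q2283, e3 q1534 (flp_e L45379) q2284, e3 q1535 L46655 q2360, trivial⟩ (by decide +kernel)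

theorem ce_e_24 : ∀ r, r < 64 → sm ge (Qf (1536 + r)) = Qf (tab Gen.e (1536 + r)) :=
  edges_tab (sm ge) Qf (tab Gen.e) 1536 [(1536, 2286), (1537, 2364), (1538, 1018), (1539, 2366), (1540, 2289), (1541, 2290), (1542, 2374), (1543, 2292), (1544, 2378), (1545, 1022), (1546, 2380), (1547, 2295), (1548, 1610), (1549, 2386), (1550, 1025), (1551, 1587), (1552, 2390), (1553, 2393), (1554, 1027), (1555, 2396), (1556, 1029), (1557, 2398), (1558, 1041), (1559, 1615), (1560, 2403), (1561, 1032), (1562, 1604), (1563, 2407), (1564, 2410), (1565, 1034), (1566, 2413), (1567, 1036), (1568, 2415), (1569, 1045), (1570, 1040), (1571, 1044), (1572, 2419), (1573, 1046), (1574, 2424), (1575, 1048), (1576, 2428), (1577, 2429), (1578, 2422), (1579, 1050), (1580, 2435), (1581, 2436), (1582, 1052), (1583, 1053), (1584, 2441), (1585, 2442), (1586, 1797), (1587, 1551), (1588, 1072), (1589, 2449), (1590, 1057), (1591, 2454), (1592, 1059), (1593, 2458), (1594, 2459), (1595, 2452), (1596, 1061), (1597, 2465), (1598, 2466), (1599, 1063)]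
    ⟨e3 q1536 (flp_e L45391) q2286, e3 q1537 L46681 q2364, e3 q1538 (flp_e L22457) q1018, e3 q1539 (flp_e L46691) q2366, e3 q1540 (flp_e L45413) q2289, e3 q1541 (flp_e L45457) q2290, e3 q1542 L46783 q2374, e3 q1543 (flp_e L45469) q2292, e3 q1544 L46809 q2378, e3 q1545 (flp_e L22513) q1022, e3 q1546 (flp_e L46819) q2380, e3 q1547 (flp_e L45491) q2295, e3 q1548 L142662 q1610, e3 q1549 L46977 q2386, e3 q1550 (flp_e L22615) q1025, e3 q1551 L142607 q1587, e3 q1552 L47041 q2390, e3 q1553 L47055 q2393, e3 q1554 (flp_e L22655) q1027, e3 q1555 (flp_e L47075) q2396, e3 q1556 L22667 q1029, e3 q1557 (flp_e L47091) q2398, e3 q1558 L22685 q1041, e3 q1559 L137152 q1615, e3 q1560 L47314 q2403, e3 q1561 (flp_e L22792) q1032, e3 q1562 L137059 q1604, e3 q1563 L47380 q2407, e3 q1564 L47394 q2410, e3 q1565 (flp_e L22832) q1034, e3 q1566 (flp_e L47414) q2413, e3 q1567 L22844 q1036, e3 q1568 (flp_e L47430) q2415, e3 q1569 L22862 q1045, e3 q1570 L23068 q1040, e3 q1571 L23347 q1044, e3 q1572 L83816 q2419, e3 q1573 (flp_e L23497) q1046,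 e3 q1574 L83841 q2424, e3 q1575 (flp_e L23505) q1048, e3 q1576 (flp_e L83859) q2428, e3 q1577 (flp_e L83863) q2429, e3 q1578 (flp_e L83835) q2422, e3 q1579 L23519 q1050, e3 q1580 (flp_e L83895) q2435, e3 q1581 (flp_e L83903) q2436, e3 q1582 L23537 q1052, e3 q1583 L23545 q1053, e3 q1584 (flp_e L83923) q2441, e3 q1585 (flp_e L83927) q2442, e3 q1586 L142236 q1797, e3 q1587 (flp_e L142607) q1551, e3 q1588 L23565 q1072, e3 q1589 L83972 q2449, e3 q1590 (flp_e L23701) q1057, e3 q1591 L83997 q2454, e3 q1592 (flp_e L23709) q1059, e3 q1593 (flp_e L84015) q2458, e3 q1594 (flp_e L84019) q2459, e3 q1595 (flp_e L83991) q2452, e3 q1596 L23723 q1061, e3 q1597 (flp_e L84051) q2465, e3 q1598 (flp_e L84059) q2466, e3 q1599 L23741 q1063, trivial⟩ (by decide +kernel)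

theorem ce_e_25 : ∀ r, r < 64 → sm ge (Qf (1600 + r)) = Qf (tab Gen.e (1600 + r)) :=
  edges_tab (sm ge) Qf (tab Gen.e) 1600 [(1600, 1064), (1601, 2471), (1602, 2472), (1603, 1810), (1604, 1562), (1605, 1075), (1606, 1070), (1607, 1071), (1608, 1077), (1609, 2478), (1610, 1548), (1611, 1080), (1612, 2482), (1613, 1082), (1614, 2486), (1615, 1559), (1616, 1085), (1617, 2490), (1618, 1123), (1619, 1124), (1620, 2244), (1621, 1125), (1622, 1126), (1623, 2247), (1624, 2248), (1625, 2249), (1626, 1127), (1627, 1128), (1628, 1628), (1629, 2252), (1630, 2253), (1631, 2254), (1632, 2255), (1633, 2256), (1634, 2257), (1635, 1129), (1636, 1130), (1637, 1131), (1638, 1132), (1639, 1133), (1640, 1134), (1641, 1135), (1642, 1136), (1643, 2266), (1644, 2267), (1645, 2268), (1646, 1650), (1647, 2269), (1648, 2270), (1649, 2271), (1650, 1646), (1651, 1137), (1652, 1138), (1653, 1139), (1654, 2577), (1655, 1141), (1656, 1142), (1657, 1143), (1658, 1144), (1659, 1145), (1660, 1146), (1661, 1147), (1662, 1148), (1663, 1149)]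
    ⟨e3 q1600 L23749 q1064, e3 q1601 (flp_e L84079) q2471, e3 q1602 (flp_e L84083) q2472, e3 q1603 (flp_e L142042) q1810, e3 q1604 (flp_e L137059) q1562, e3 q1605 L23769 q1075, e3 q1606 L23980 q1070, e3 q1607 L23984 q1071, e3 q1608 L24436 q1077, e3 q1609 (flp_e L84176) q2478, e3 q1610 (flp_e L142662) q1548, e3 q1611 L24454 q1080, e3 q1612 (flp_e L84204) q2482, e3 q1613 L24613 q1082, e3 q1614 (flp_e L84223) q2486, e3 q1615 (flp_e L137152) q1559, e3 q1616 L24694 q1085, e3 q1617 (flp_e L84251) q2490, e3 q1618 L24862 q1123, e3 q1619 L24866 q1124, e3 q1620 (flp_e L45118) q2244, e3 q1621 L24875 q1125, e3 q1622 L24879 q1126, e3 q1623 (flp_e L45132) q2247, e3 q1624 (flp_e L45140) q2248, e3 q1625 (flp_e L45148) q2249, e3 q1626 L24899 q1127, e3 q1627 L24903 q1128, e3 q1628 L72267 q1628, e3 q1629 (flp_e L45165) q2252, e3 q1630 (flp_e L45171) q2253, e3 q1631 (flp_e L45177) q2254, e3 q1632 (flp_e L45185) q2255, e3 q1633 (flp_e L45193) q2256, e3 q1634 (flp_e L45203) q2257, e3 q1635 L24944 q1129, e3 q1636 L24950 q1130, e3 q1637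 L24957 q1131, e3 q1638 L24961 q1132, e3 q1639 L24965 q1133, e3 q1640 L24971 q1134, e3 q1641 L24978 q1135, e3 q1642 L24982 q1136, e3 q1643 (flp_e L45251) q2266, e3 q1644 (flp_e L45255) q2267, e3 q1645 (flp_e L45262) q2268, e3 q1646 (flp_e L25014) q1650, e3 q1647 (flp_e L45268) q2269, e3 q1648 (flp_e L45272) q2270, e3 q1649 (flp_e L45279) q2271, e3 q1650 L25014 q1646, e3 q1651 L25018 q1137, e3 q1652 L25024 q1138, e3 q1653 L25030 q1139, e3 q1654 L84709 q2577, e3 q1655 L25042 q1141, e3 q1656 L25046 q1142, e3 q1657 L25054 q1143, e3 q1658 L25060 q1144, e3 q1659 L25064 q1145, e3 q1660 L25070 q1146, e3 q1661 L25076 q1147, e3 q1662 L25082 q1148, e3 q1663 L25088 q1149, trivial⟩ (by decide +kernel)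

theorem ce_e_26 : ∀ r, r < 64 → sm ge (Qf (1664 + r)) = Qf (tab Gen.e (1664 + r)) :=
  edges_tab (sm ge) Qf (tab Gen.e) 1664 [(1664, 2600), (1665, 1151), (1666, 1152), (1667, 1153), (1668, 1154), (1669, 1155), (1670, 1156), (1671, 2615), (1672, 1109), (1673, 1159), (1674, 1161), (1675, 1162), (1676, 2623), (1677, 2625), (1678, 1113), (1679, 1166), (1680, 1168), (1681, 1169), (1682, 2633), (1683, 1119), (1684, 1120), (1685, 1121), (1686, 1122), (1687, 2634), (1688, 2636), (1689, 2494), (1690, 2495), (1691, 2496), (1692, 2646), (1693, 2498), (1694, 2499), (1695, 2502), (1696, 2503), (1697, 2504), (1698, 2505), (1699, 2512), (1700, 2513), (1701, 2514), (1702, 2515), (1703, 2516), (1704, 2517), (1705, 2532), (1706, 2533), (1707, 2680), (1708, 2535), (1709, 2536), (1710, 2537), (1711, 2538), (1712, 2539), (1713, 2540), (1714, 2541), (1715, 2699), (1716, 2543), (1717, 2544), (1718, 2545), (1719, 2546), (1720, 2547), (1721, 2568), (1722, 2569), (1723, 2570), (1724, 2571), (1725, 2572), (1726, 2725), (1727, 2574)]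
    ⟨e3 q1664 L84831 q2600, e3 q1665 L25100 q1151, e3 q1666 L25104 q1152, e3 q1667 L25112 q1153, e3 q1668 L25118 q1154, e3 q1669 L25122 q1155, e3 q1670 L25128 q1156, e3 q1671 L84917 q2615, e3 q1672 (flp_e L25183) q1109, e3 q1673 L25194 q1159, e3 q1674 L25220 q1161, e3 q1675 L25226 q1162, e3 q1676 L84974 q2623, e3 q1677 L84982 q2625, e3 q1678 (flp_e L25307) q1113, e3 q1679 L25318 q1166, e3 q1680 L25344 q1168, e3 q1681 L25350 q1169, e3 q1682 L85041 q2633, e3 q1683 L25567 q1119, e3 q1684 L25571 q1120, e3 q1685 L25824 q1121, e3 q1686 L25830 q1122, e3 q1687 (flp_e L85049) q2634, e3 q1688 (flp_e L85063) q2636, e3 q1689 (flp_e L84271) q2494, e3 q1690 (flp_e L84281) q2495, e3 q1691 (flp_e L84287) q2496, e3 q1692 L85139 q2646, e3 q1693 (flp_e L84296) q2498, e3 q1694 (flp_e L84302) q2499, e3 q1695 (flp_e L84316) q2502, e3 q1696 (flp_e L84322) q2503, e3 q1697 (flp_e L84328) q2504, e3 q1698 (flp_e L84336) q2505, e3 q1699 (flp_e L84383) q2512, e3 q1700 (flp_e L84387) q2513, e3 q1701 (flp_e L84392) q2514, e3 q1702 (flp_e L84396)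 q2515, e3 q1703 (flp_e L84400) q2516, e3 q1704 (flp_e L84405) q2517, e3 q1705 (flp_e L84475) q2532, e3 q1706 (flp_e L84481) q2533, e3 q1707 L85268 q2680, e3 q1708 (flp_e L84494) q2535, e3 q1709 (flp_e L84498) q2536, e3 q1710 (flp_e L84504) q2537, e3 q1711 (flp_e L84508) q2538, e3 q1712 (flp_e L84513) q2539, e3 q1713 (flp_e L84519) q2540, e3 q1714 (flp_e L84525) q2541, e3 q1715 L85337 q2699, e3 q1716 (flp_e L84538) q2543, e3 q1717 (flp_e L84542) q2544, e3 q1718 (flp_e L84548) q2545, e3 q1719 (flp_e L84552) q2546, e3 q1720 (flp_e L84557) q2547, e3 q1721 (flp_e L84671) q2568, e3 q1722 (flp_e L84675) q2569, e3 q1723 (flp_e L84679) q2570, e3 q1724 (flp_e L84683) q2571, e3 q1725 (flp_e L84687) q2572, e3 q1726 L85441 q2725, e3 q1727 (flp_e L84699) q2574, trivial⟩ (by decide +kernel)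

theorem ce_e_27 : ∀ r, r < 64 → sm ge (Qf (1728 + r)) = Qf (tab Gen.e (1728 + r)) :=
  edges_tab (sm ge) Qf (tab Gen.e) 1728 [(1728, 2575), (1729, 2732), (1730, 1140), (1731, 2734), (1732, 2579), (1733, 2580), (1734, 2581), (1735, 2582), (1736, 2583), (1737, 2584), (1738, 2585), (1739, 2586), (1740, 2587), (1741, 2758), (1742, 2589), (1743, 2590), (1744, 2591), (1745, 2592), (1746, 2593), (1747, 2594), (1748, 2595), (1749, 2776), (1750, 2597), (1751, 2598), (1752, 2783), (1753, 1150), (1754, 2785), (1755, 2602), (1756, 2603), (1757, 2604), (1758, 2605), (1759, 2606), (1760, 2607), (1761, 2608), (1762, 2609), (1763, 2610), (1764, 2809), (1765, 2612), (1766, 2613), (1767, 1158), (1768, 2813), (1769, 2616), (1770, 2296), (1771, 2617), (1772, 2822), (1773, 2618), (1774, 2619), (1775, 2620), (1776, 2830), (1777, 2832), (1778, 1163), (1779, 1165), (1780, 2833), (1781, 2626), (1782, 2298), (1783, 2627), (1784, 2842), (1785, 2628), (1786, 2629), (1787, 2630), (1788, 2850), (1789, 2852), (1790, 1170), (1791, 2854)]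
    ⟨e3 q1728 (flp_e L84705) q2575, e3 q1729 L85470 q2732, e3 q1730 (flp_e L26789) q1140, e3 q1731 (flp_e L85481) q2734, e3 q1732 (flp_e L84721) q2579, e3 q1733 (flp_e L84731) q2580, e3 q1734 (flp_e L84737) q2581, e3 q1735 (flp_e L84743) q2582, e3 q1736 (flp_e L84749) q2583, e3 q1737 (flp_e L84753) q2584, e3 q1738 (flp_e L84757) q2585, e3 q1739 (flp_e L84763) q2586, e3 q1740 (flp_e L84769) q2587, e3 q1741 L85565 q2758, e3 q1742 (flp_e L84781) q2589, e3 q1743 (flp_e L84787) q2590, e3 q1744 (flp_e L84793) q2591, e3 q1745 (flp_e L84797) q2592, e3 q1746 (flp_e L84801) q2593, e3 q1747 (flp_e L84805) q2594, e3 q1748 (flp_e L84809) q2595, e3 q1749 L85642 q2776, e3 q1750 (flp_e L84821) q2597, e3 q1751 (flp_e L84827) q2598, e3 q1752 L85671 q2783, e3 q1753 (flp_e L26873) q1150, e3 q1754 (flp_e L85682) q2785, e3 q1755 (flp_e L84843) q2602, e3 q1756 (flp_e L84853) q2603, e3 q1757 (flp_e L84859) q2604, e3 q1758 (flp_e L84865) q2605, e3 q1759 (flp_e L84871) q2606, e3 q1760 (flp_e L84875) q2607, e3 q1761 (flp_e L84879) q2608,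 e3 q1762 (flp_e L84885) q2609, e3 q1763 (flp_e L84891) q2610, e3 q1764 L85780 q2809, e3 q1765 (flp_e L84903) q2612, e3 q1766 (flp_e L84909) q2613, e3 q1767 L27035 q1158, e3 q1768 (flp_e L85804) q2813, e3 q1769 (flp_e L84929) q2616, e3 q1770 L81104 q2296, e3 q1771 (flp_e L84933) q2617, e3 q1772 L85846 q2822, e3 q1773 (flp_e L84940) q2618, e3 q1774 (flp_e L84948) q2619, e3 q1775 (flp_e L84954) q2620, e3 q1776 L85882 q2830, e3 q1777 L85890 q2832, e3 q1778 (flp_e L27107) q1163, e3 q1779 L27225 q1165, e3 q1780 (flp_e L85896) q2833, e3 q1781 (flp_e L84994) q2626, e3 q1782 (flp_e L83362) q2298, e3 q1783 (flp_e L84998) q2627, e3 q1784 L85938 q2842, e3 q1785 (flp_e L85005) q2628, e3 q1786 (flp_e L85015) q2629, e3 q1787 (flp_e L85021) q2630, e3 q1788 L85974 q2850, e3 q1789 L85982 q2852, e3 q1790 (flp_e L27299) q1170, e3 q1791 L85989 q2854, trivial⟩ (by decide +kernel)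

theorem ce_e_28 : ∀ r, r < 64 → sm ge (Qf (1792 + r)) = Qf (tab Gen.e (1792 + r)) :=
  edges_tab (sm ge) Qf (tab Gen.e) 1792 [(1792, 1171), (1793, 1186), (1794, 1187), (1795, 2858), (1796, 1189), (1797, 1586), (1798, 1190), (1799, 2863), (1800, 1175), (1801, 2866), (1802, 2869), (1803, 1176), (1804, 2872), (1805, 1178), (1806, 1193), (1807, 1194), (1808, 2876), (1809, 1196), (1810, 1603), (1811, 1197), (1812, 2881), (1813, 1182), (1814, 2884), (1815, 2887), (1816, 1183), (1817, 1188), (1818, 1195), (1819, 1202), (1820, 1203), (1821, 1204), (1822, 2889), (1823, 2890), (1824, 1834), (1825, 2891), (1826, 2861), (1827, 2892), (1828, 2859), (1829, 1215), (1830, 1210), (1831, 1211), (1832, 1212), (1833, 2897), (1834, 1824), (1835, 2894), (1836, 2905), (1837, 2879), (1838, 2906), (1839, 2877), (1840, 1216), (1841, 1218), (1842, 2917), (1843, 2113), (1844, 2918), (1845, 2919), (1846, 1224), (1847, 1287), (1848, 1225), (1849, 1226), (1850, 1290), (1851, 1291), (1852, 1227), (1853, 1228), (1854, 2929), (1855, 2931)]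
    ⟨e3 q1792 (flp_e L27500) q1171, e3 q1793 L27520 q1186, e3 q1794 L27534 q1187, e3 q1795 L86029 q2858, e3 q1796 L27558 q1189, e3 q1797 (flp_e L142236) q1586, e3 q1798 L27570 q1190, e3 q1799 L86079 q2863, e3 q1800 (flp_e L27578) q1175, e3 q1801 L86095 q2866, e3 q1802 L86109 q2869, e3 q1803 (flp_e L27614) q1176, e3 q1804 L86120 q2872, e3 q1805 (flp_e L27834) q1178, e3 q1806 L27854 q1193, e3 q1807 L27868 q1194, e3 q1808 L86150 q2876, e3 q1809 L27890 q1196, e3 q1810 L142042 q1603, e3 q1811 L27898 q1197, e3 q1812 L86190 q2881, e3 q1813 (flp_e L27910) q1182, e3 q1814 L86206 q2884, e3 q1815 L86220 q2887, e3 q1816 (flp_e L27946) q1183, e3 q1817 (flp_e L28283) q1188, e3 q1818 (flp_e L28757) q1195, e3 q1819 L142458 q1202, e3 q1820 L134564 q1203, e3 q1821 (flp_e L133550) q1204, e3 q1822 L142376 q2889, e3 q1823 (flp_e L142435) q2890, e3 q1824 L147461 q1834, e3 q1825 (flp_e L134555) q2891, e3 q1826 L142219 q2861, e3 q1827 (flp_e L141087) q2892, e3 q1828 L141106 q2859, e3 q1829 L29117 q1215, e3 q1830 (flp_e L136937) q1210,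 e3 q1831 L136836 q1211, e3 q1832 L142046 q1212, e3 q1833 (flp_e L147415) q2897, e3 q1834 (flp_e L147461) q1824, e3 q1835 (flp_e L147070) q2894, e3 q1836 (flp_e L136828) q2905, e3 q1837 L131939 q2879, e3 q1838 L136801 q2906, e3 q1839 L142039 q2877, e3 q1840 L29287 q1216, e3 q1841 L32316 q1218, e3 q1842 (flp_e L87943) q2917, e3 q1843 L72430 q2113, e3 q1844 (flp_e L87949) q2918, e3 q1845 (flp_e L87956) q2919, e3 q1846 L32812 q1224, e3 q1847 L32818 q1287, e3 q1848 L32822 q1225, e3 q1849 L32826 q1226, e3 q1850 L32834 q1290, e3 q1851 L32842 q1291, e3 q1852 L32846 q1227, e3 q1853 L32850 q1228, e3 q1854 (flp_e L88006) q2929, e3 q1855 (flp_e L88020) q2931, trivial⟩ (by decide +kernel)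

theorem ce_e_29 : ∀ r, r < 64 → sm ge (Qf (1856 + r)) = Qf (tab Gen.e (1856 + r)) :=
  edges_tab (sm ge) Qf (tab Gen.e) 1856 [(1856, 2932), (1857, 2936), (1858, 2937), (1859, 2938), (1860, 2939), (1861, 2942), (1862, 2943), (1863, 2944), (1864, 2945), (1865, 1234), (1866, 1235), (1867, 1236), (1868, 1237), (1869, 1238), (1870, 1240), (1871, 2964), (1872, 2965), (1873, 2966), (1874, 2967), (1875, 2968), (1876, 2969), (1877, 1251), (1878, 2970), (1879, 1253), (1880, 1254), (1881, 2971), (1882, 2972), (1883, 1258), (1884, 1259), (1885, 1260), (1886, 1261), (1887, 1263), (1888, 1264), (1889, 1265), (1890, 1267), (1891, 1268), (1892, 1269), (1893, 2985), (1894, 3017), (1895, 2987), (1896, 2988), (1897, 3023), (1898, 1252), (1899, 3026), (1900, 3027), (1901, 2991), (1902, 2992), (1903, 2993), (1904, 2994), (1905, 1256), (1906, 1257), (1907, 3040), (1908, 3041), (1909, 3042), (1910, 3043), (1911, 2999), (1912, 3000), (1913, 3001), (1914, 3002), (1915, 3003), (1916, 3004), (1917, 3005), (1918, 3006), (1919, 1984)]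
    ⟨e3 q1856 (flp_e L88026) q2932, e3 q1857 (flp_e L88052) q2936, e3 q1858 (flp_e L88059) q2937, e3 q1859 (flp_e L88065) q2938, e3 q1860 (flp_e L88074) q2939, e3 q1861 (flp_e L88093) q2942, e3 q1862 (flp_e L88098) q2943, e3 q1863 (flp_e L88103) q2944, e3 q1864 (flp_e L88108) q2945, e3 q1865 L36477 q1234, e3 q1866 L36490 q1235, e3 q1867 L36498 q1236, e3 q1868 L36504 q1237, e3 q1869 L36510 q1238, e3 q1870 L72373 q1240, e3 q1871 (flp_e L88217) q2964, e3 q1872 (flp_e L88226) q2965, e3 q1873 (flp_e L88230) q2966, e3 q1874 (flp_e L88234) q2967, e3 q1875 (flp_e L88239) q2968, e3 q1876 (flp_e L88245) q2969, e3 q1877 L36792 q1251, e3 q1878 (flp_e L88252) q2970, e3 q1879 L36802 q1253, e3 q1880 L36808 q1254, e3 q1881 (flp_e L88261) q2971, e3 q1882 (flp_e L88270) q2972, e3 q1883 L36827 q1258, e3 q1884 L36833 q1259, e3 q1885 L36839 q1260, e3 q1886 L36847 q1261, e3 q1887 L36861 q1263, e3 q1888 L36869 q1264, e3 q1889 L36875 q1265, e3 q1890 L36887 q1267, e3 q1891 L36895 q1268, e3 q1892 L36901 q1269, e3 q1893 (flp_e L88320) q2985,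 e3 q1894 L88526 q3017, e3 q1895 (flp_e L88332) q2987, e3 q1896 (flp_e L88340) q2988, e3 q1897 L88552 q3023, e3 q1898 (flp_e L37177) q1252, e3 q1899 (flp_e L88566) q3026, e3 q1900 (flp_e L88570) q3027, e3 q1901 (flp_e L88352) q2991, e3 q1902 (flp_e L88360) q2992, e3 q1903 (flp_e L88366) q2993, e3 q1904 (flp_e L88376) q2994, e3 q1905 L37213 q1256, e3 q1906 L37217 q1257, e3 q1907 (flp_e L88628) q3040, e3 q1908 (flp_e L88636) q3041, e3 q1909 (flp_e L88642) q3042, e3 q1910 (flp_e L88652) q3043, e3 q1911 (flp_e L88410) q2999, e3 q1912 (flp_e L88414) q3000, e3 q1913 (flp_e L88420) q3001, e3 q1914 (flp_e L88424) q3002, e3 q1915 (flp_e L88428) q3003, e3 q1916 (flp_e L88432) q3004, e3 q1917 (flp_e L88438) q3005, e3 q1918 (flp_e L88442) q3006, e3 q1919 L72122 q1984, trivial⟩ (by decide +kernel)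

theorem ce_e_30 : ∀ r, r < 64 → sm ge (Qf (1920 + r)) = Qf (tab Gen.e (1920 + r)) :=
  edges_tab (sm ge) Qf (tab Gen.e) 1920 [(1920, 3075), (1921, 3008), (1922, 3009), (1923, 1989), (1924, 3082), (1925, 3011), (1926, 3012), (1927, 1278), (1928, 3089), (1929, 3092), (1930, 1271), (1931, 2901), (1932, 3095), (1933, 1282), (1934, 3099), (1935, 3102), (1936, 1275), (1937, 2913), (1938, 3105), (1939, 3087), (1940, 1279), (1941, 1281), (1942, 3097), (1943, 1283), (1944, 1285), (1945, 1322), (1946, 2930), (1947, 1323), (1948, 1324), (1949, 2933), (1950, 2934), (1951, 2935), (1952, 1325), (1953, 1326), (1954, 1327), (1955, 1328), (1956, 2940), (1957, 1959), (1958, 2941), (1959, 1957), (1960, 1329), (1961, 1330), (1962, 1331), (1963, 1332), (1964, 1333), (1965, 1334), (1966, 1335), (1967, 1336), (1968, 1337), (1969, 1338), (1970, 3159), (1971, 1340), (1972, 1341), (1973, 1342), (1974, 1343), (1975, 1344), (1976, 1345), (1977, 1346), (1978, 3170), (1979, 1348), (1980, 1349), (1981, 1350), (1982, 1351), (1983, 1352)]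
    ⟨e3 q1920 L88777 q3075, e3 q1921 (flp_e L88454) q3008, e3 q1922 (flp_e L88460) q3009, e3 q1923 (flp_e L83325) q1989, e3 q1924 L88806 q3082, e3 q1925 (flp_e L88474) q3011, e3 q1926 (flp_e L88482) q3012, e3 q1927 L37361 q1278, e3 q1928 L88849 q3089, e3 q1929 L88869 q3092, e3 q1930 (flp_e L37374) q1271, e3 q1931 (flp_e L139055) q2901, e3 q1932 L88891 q3095, e3 q1933 L37468 q1282, e3 q1934 L88922 q3099, e3 q1935 L88942 q3102, e3 q1936 (flp_e L37480) q1275, e3 q1937 L142005 q2913, e3 q1938 L88970 q3105, e3 q1939 L138896 q3087, e3 q1940 (flp_e L37627) q1279, e3 q1941 (flp_e L37731) q1281, e3 q1942 L139729 q3097, e3 q1943 (flp_e L37986) q1283, e3 q1944 (flp_e L38074) q1285, e3 q1945 L38662 q1322, e3 q1946 (flp_e L88012) q2930, e3 q1947 L38672 q1323, e3 q1948 L38678 q1324, e3 q1949 (flp_e L88032) q2933, e3 q1950 (flp_e L88042) q2934, e3 q1951 (flp_e L88048) q2935, e3 q1952 L38692 q1325, e3 q1953 L38698 q1326, e3 q1954 L38704 q1327, e3 q1955 L38712 q1328, e3 q1956 (flp_e L88082) q2940, e3 q1957 (flp_e L38736) q1959,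 e3 q1958 (flp_e L88088) q2941, e3 q1959 L38736 q1957, e3 q1960 L38742 q1329, e3 q1961 L38746 q1330, e3 q1962 L38752 q1331, e3 q1963 L38756 q1332, e3 q1964 L38760 q1333, e3 q1965 L38764 q1334, e3 q1966 L38770 q1335, e3 q1967 L38774 q1336, e3 q1968 L38780 q1337, e3 q1969 L38786 q1338, e3 q1970 L89298 q3159, e3 q1971 L38804 q1340, e3 q1972 L38810 q1341, e3 q1973 L38820 q1342, e3 q1974 L38828 q1343, e3 q1975 L38832 q1344, e3 q1976 L38846 q1345, e3 q1977 L38852 q1346, e3 q1978 L89362 q3170, e3 q1979 L38870 q1348, e3 q1980 L38876 q1349, e3 q1981 L38886 q1350, e3 q1982 L38894 q1351, e3 q1983 L38898 q1352, trivial⟩ (by decide +kernel)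

theorem ce_e_31 : ∀ r, r < 64 → sm ge (Qf (1984 + r)) = Qf (tab Gen.e (1984 + r)) :=
  edges_tab (sm ge) Qf (tab Gen.e) 1984 [(1984, 1919), (1985, 1316), (1986, 1317), (1987, 1318), (1988, 2172), (1989, 1923), (1990, 1319), (1991, 1320), (1992, 1321), (1993, 2174), (1994, 3180), (1995, 3186), (1996, 3106), (1997, 3108), (1998, 3109), (1999, 3112), (2000, 3113), (2001, 3120), (2002, 3121), (2003, 3122), (2004, 3123), (2005, 3124), (2006, 3125), (2007, 3126), (2008, 3127), (2009, 3136), (2010, 3137), (2011, 3138), (2012, 3228), (2013, 3140), (2014, 3141), (2015, 3142), (2016, 3143), (2017, 3144), (2018, 3145), (2019, 3146), (2020, 3147), (2021, 3148), (2022, 3250), (2023, 3150), (2024, 3151), (2025, 3152), (2026, 3153), (2027, 3154), (2028, 3155), (2029, 3156), (2030, 3157), (2031, 3270), (2032, 3272), (2033, 1339), (2034, 3274), (2035, 3161), (2036, 3162), (2037, 3163), (2038, 3164), (2039, 3165), (2040, 3286), (2041, 3167), (2042, 3168), (2043, 3293), (2044, 3295), (2045, 1347), (2046, 3297), (2047, 3172)]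
    ⟨e3 q1984 (flp_e L72122) q1919, e3 q1985 L38972 q1316, e3 q1986 L38978 q1317, e3 q1987 L38998 q1318, e3 q1988 (flp_e L132508) q2172, e3 q1989 L83325 q1923, e3 q1990 L39088 q1319, e3 q1991 L39094 q1320, e3 q1992 L39114 q1321, e3 q1993 L132559 q2174, e3 q1994 (flp_e L89429) q3180, e3 q1995 (flp_e L89470) q3186, e3 q1996 (flp_e L89012) q3106, e3 q1997 (flp_e L89024) q3108, e3 q1998 (flp_e L89028) q3109, e3 q1999 (flp_e L89048) q3112, e3 q2000 (flp_e L89052) q3113, e3 q2001 (flp_e L89098) q3120, e3 q2002 (flp_e L89104) q3121, e3 q2003 (flp_e L89110) q3122, e3 q2004 (flp_e L89114) q3123, e3 q2005 (flp_e L89118) q3124, e3 q2006 (flp_e L89124) q3125, e3 q2007 (flp_e L89130) q3126, e3 q2008 (flp_e L89134) q3127, e3 q2009 (flp_e L89168) q3136, e3 q2010 (flp_e L89174) q3137, e3 q2011 (flp_e L89180) q3138, e3 q2012 L89708 q3228, e3 q2013 (flp_e L89192) q3140, e3 q2014 (flp_e L89196) q3141, e3 q2015 (flp_e L89204) q3142, e3 q2016 (flp_e L89210) q3143, e3 q2017 (flp_e L89214) q3144, e3 q2018 (flp_e L89220) q3145, e3 q2019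 (flp_e L89226) q3146, e3 q2020 (flp_e L89232) q3147, e3 q2021 (flp_e L89238) q3148, e3 q2022 L89793 q3250, e3 q2023 (flp_e L89250) q3150, e3 q2024 (flp_e L89254) q3151, e3 q2025 (flp_e L89262) q3152, e3 q2026 (flp_e L89268) q3153, e3 q2027 (flp_e L89272) q3154, e3 q2028 (flp_e L89278) q3155, e3 q2029 (flp_e L89285) q3156, e3 q2030 (flp_e L89292) q3157, e3 q2031 L89883 q3270, e3 q2032 L89889 q3272, e3 q2033 (flp_e L39731) q1339, e3 q2034 (flp_e L89901) q3274, e3 q2035 (flp_e L89308) q3161, e3 q2036 (flp_e L89316) q3162, e3 q2037 (flp_e L89324) q3163, e3 q2038 (flp_e L89332) q3164, e3 q2039 (flp_e L89340) q3165, e3 q2040 L89947 q3286, e3 q2041 (flp_e L89349) q3167, e3 q2042 (flp_e L89356) q3168, e3 q2043 L89971 q3293, e3 q2044 L89977 q3295, e3 q2045 (flp_e L39829) q1347, e3 q2046 (flp_e L89989) q3297, e3 q2047 (flp_e L89372) q3172, trivial⟩ (by decide +kernel)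

theorem ce_e_32 : ∀ r, r < 64 → sm ge (Qf (2048 + r)) = Qf (tab Gen.e (2048 + r)) :=
  edges_tab (sm ge) Qf (tab Gen.e) 2048 [(2048, 3173), (2049, 3174), (2050, 3175), (2051, 3176), (2052, 3309), (2053, 3311), (2054, 1353), (2055, 3314), (2056, 3317), (2057, 1354), (2058, 3320), (2059, 1356), (2060, 3323), (2061, 3324), (2062, 1377), (2063, 1375), (2064, 1376), (2065, 2855), (2066, 1475), (2067, 3331), (2068, 1362), (2069, 3333), (2070, 1363), (2071, 3336), (2072, 3339), (2073, 1364), (2074, 3342), (2075, 1366), (2076, 3345), (2077, 3346), (2078, 1383), (2079, 1381), (2080, 1382), (2081, 2873), (2082, 1478), (2083, 3353), (2084, 1372), (2085, 3355), (2086, 1385), (2087, 3359), (2088, 3360), (2089, 2433), (2090, 1387), (2091, 3365), (2092, 1389), (2093, 2095), (2094, 3369), (2095, 2093), (2096, 3374), (2097, 1392), (2098, 3379), (2099, 1394), (2100, 3383), (2101, 3384), (2102, 2463), (2103, 1396), (2104, 3389), (2105, 1398), (2106, 2108), (2107, 3393), (2108, 2106), (2109, 3398), (2110, 1401), (2111, 1406)]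
    ⟨e3 q2048 (flp_e L89380) q3173, e3 q2049 (flp_e L89388) q3174, e3 q2050 (flp_e L89398) q3175, e3 q2051 (flp_e L89406) q3176, e3 q2052 L90039 q3309, e3 q2053 L90047 q3311, e3 q2054 (flp_e L39951) q1353, e3 q2055 L90061 q3314, e3 q2056 L90075 q3317, e3 q2057 (flp_e L39993) q1354, e3 q2058 (flp_e L90095) q3320, e3 q2059 L40005 q1356, e3 q2060 (flp_e L90111) q3323, e3 q2061 (flp_e L90121) q3324, e3 q2062 L40023 q1377, e3 q2063 (flp_e L141936) q1375, e3 q2064 L139289 q1376, e3 q2065 (flp_e L141841) q2855, e3 q2066 L141803 q1475, e3 q2067 L90213 q3331, e3 q2068 (flp_e L40121) q1362, e3 q2069 L90223 q3333, e3 q2070 (flp_e L40209) q1363, e3 q2071 L90237 q3336, e3 q2072 L90251 q3339, e3 q2073 (flp_e L40241) q1364, e3 q2074 (flp_e L90271) q3342, e3 q2075 L40253 q1366, e3 q2076 (flp_e L90287) q3345, e3 q2077 (flp_e L90297) q3346, e3 q2078 L40271 q1383, e3 q2079 (flp_e L141944) q1381, e3 q2080 (flp_e L139948) q1382, e3 q2081 (flp_e L141235) q2873, e3 q2082 L141172 q1478, e3 q2083 L90397 q3353, e3 q2084 (flp_e L40371) q1372,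 e3 q2085 L90602 q3355, e3 q2086 (flp_e L41268) q1385, e3 q2087 (flp_e L90620) q3359, e3 q2088 (flp_e L90626) q3360, e3 q2089 (flp_e L83883) q2433, e3 q2090 L41286 q1387, e3 q2091 (flp_e L90648) q3365, e3 q2092 L41294 q1389, e3 q2093 (flp_e L141156) q2095, e3 q2094 (flp_e L90666) q3369, e3 q2095 L141156 q2093, e3 q2096 L90698 q3374, e3 q2097 (flp_e L41326) q1392, e3 q2098 L90722 q3379, e3 q2099 (flp_e L41404) q1394, e3 q2100 (flp_e L90740) q3383, e3 q2101 (flp_e L90744) q3384, e3 q2102 (flp_e L84039) q2463, e3 q2103 L41422 q1396, e3 q2104 (flp_e L90772) q3389, e3 q2105 L41432 q1398, e3 q2106 (flp_e L132181) q2108, e3 q2107 (flp_e L90792) q3393, e3 q2108 L132181 q2106, e3 q2109 L90824 q3398, e3 q2110 (flp_e L41474) q1401, e3 q2111 L42380 q1406, trivial⟩ (by decide +kernel)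

theorem ce_e_33 : ∀ r, r < 64 → sm ge (Qf (2112 + r)) = Qf (tab Gen.e (2112 + r)) :=
  edges_tab (sm ge) Qf (tab Gen.e) 2112 [(2112, 3402), (2113, 1843), (2114, 3403), (2115, 3404), (2116, 1412), (2117, 1509), (2118, 1414), (2119, 1415), (2120, 1409), (2121, 3422), (2122, 3423), (2123, 1419), (2124, 1420), (2125, 3413), (2126, 3430), (2127, 3414), (2128, 3415), (2129, 3439), (2130, 1413), (2131, 3442), (2132, 3443), (2133, 3418), (2134, 3419), (2135, 3420), (2136, 3421), (2137, 1417), (2138, 1418), (2139, 3454), (2140, 3455), (2141, 3426), (2142, 3427), (2143, 3428), (2144, 3429), (2145, 1442), (2146, 1443), (2147, 1446), (2148, 1447), (2149, 1448), (2150, 1449), (2151, 1425), (2152, 1426), (2153, 3478), (2154, 3479), (2155, 3480), (2156, 3481), (2157, 1459), (2158, 1460), (2159, 1461), (2160, 1462), (2161, 1463), (2162, 1464), (2163, 1465), (2164, 1466), (2165, 3510), (2166, 1468), (2167, 1469), (2168, 3513), (2169, 1471), (2170, 1472), (2171, 1439), (2172, 1988), (2173, 1440), (2174, 1993), (2175, 1444)]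
    ⟨e3 q2112 (flp_e L90896) q3402, e3 q2113 (flp_e L72430) q1843, e3 q2114 (flp_e L90906) q3403, e3 q2115 (flp_e L90915) q3404, e3 q2116 L42654 q1412, e3 q2117 L72444 q1509, e3 q2118 L42662 q1414, e3 q2119 L42666 q1415, e3 q2120 (flp_e L42668) q1409, e3 q2121 (flp_e L91045) q3422, e3 q2122 (flp_e L91055) q3423, e3 q2123 L42694 q1419, e3 q2124 L42698 q1420, e3 q2125 (flp_e L90973) q3413, e3 q2126 (flp_e L91091) q3430, e3 q2127 (flp_e L90985) q3414, e3 q2128 (flp_e L90991) q3415, e3 q2129 L91129 q3439, e3 q2130 (flp_e L42912) q1413, e3 q2131 (flp_e L91147) q3442, e3 q2132 (flp_e L91153) q3443, e3 q2133 (flp_e L91011) q3418, e3 q2134 (flp_e L91018) q3419, e3 q2135 (flp_e L91024) q3420, e3 q2136 (flp_e L91033) q3421, e3 q2137 L42948 q1417, e3 q2138 L42956 q1418, e3 q2139 (flp_e L91203) q3454, e3 q2140 (flp_e L91207) q3455, e3 q2141 (flp_e L91068) q3426, e3 q2142 (flp_e L91073) q3427, e3 q2143 (flp_e L91078) q3428, e3 q2144 (flp_e L91083) q3429, e3 q2145 L43292 q1442, e3 q2146 L43300 q1443, e3 q2147 L43320 q1446, e3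 q2148 L43328 q1447, e3 q2149 L43334 q1448, e3 q2150 L43344 q1449, e3 q2151 L43352 q1425, e3 q2152 L43358 q1426, e3 q2153 (flp_e L91331) q3478, e3 q2154 (flp_e L91339) q3479, e3 q2155 (flp_e L91347) q3480, e3 q2156 (flp_e L91359) q3481, e3 q2157 L43386 q1459, e3 q2158 L43390 q1460, e3 q2159 L43396 q1461, e3 q2160 L43400 q1462, e3 q2161 L43404 q1463, e3 q2162 L43408 q1464, e3 q2163 L43414 q1465, e3 q2164 L43418 q1466, e3 q2165 L91507 q3510, e3 q2166 L43456 q1468, e3 q2167 L43460 q1469, e3 q2168 L91525 q3513, e3 q2169 L43506 q1471, e3 q2170 L43510 q1472, e3 q2171 L43597 q1439, e3 q2172 L132508 q1988, e3 q2173 L43695 q1440, e3 q2174 (flp_e L132559) q1993, e3 q2175 L72319 q1444, trivial⟩ (by decide +kernel)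

theorem ce_e_34 : ∀ r, r < 64 → sm ge (Qf (2176 + r)) = Qf (tab Gen.e (2176 + r)) :=
  edges_tab (sm ge) Qf (tab Gen.e) 2176 [(2176, 1445), (2177, 3468), (2178, 3469), (2179, 3520), (2180, 2182), (2181, 3521), (2182, 2180), (2183, 3470), (2184, 3471), (2185, 3472), (2186, 3473), (2187, 3474), (2188, 3475), (2189, 3476), (2190, 3477), (2191, 1451), (2192, 1452), (2193, 3552), (2194, 3553), (2195, 1455), (2196, 1456), (2197, 1457), (2198, 1458), (2199, 3560), (2200, 3561), (2201, 3562), (2202, 3563), (2203, 3564), (2204, 3565), (2205, 3566), (2206, 3567), (2207, 3490), (2208, 3491), (2209, 3492), (2210, 3597), (2211, 3494), (2212, 3495), (2213, 3496), (2214, 3497), (2215, 3498), (2216, 3499), (2217, 3500), (2218, 3501), (2219, 3502), (2220, 3619), (2221, 3504), (2222, 3505), (2223, 3506), (2224, 3507), (2225, 3508), (2226, 3509), (2227, 3633), (2228, 1467), (2229, 3511), (2230, 3637), (2231, 3639), (2232, 1470), (2233, 3514), (2234, 3643), (2235, 3646), (2236, 3649), (2237, 1473), (2238, 3328), (2239, 3655)]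
    ⟨e3 q2176 L72317 q1445, e3 q2177 (flp_e L91269) q3468, e3 q2178 (flp_e L91277) q3469, e3 q2179 (flp_e L91609) q3520, e3 q2180 (flp_e L72434) q2182, e3 q2181 (flp_e L91617) q3521, e3 q2182 L72434 q2180, e3 q2183 (flp_e L91283) q3470, e3 q2184 (flp_e L91289) q3471, e3 q2185 (flp_e L91297) q3472, e3 q2186 (flp_e L91301) q3473, e3 q2187 (flp_e L91305) q3474, e3 q2188 (flp_e L91311) q3475, e3 q2189 (flp_e L91319) q3476, e3 q2190 (flp_e L91325) q3477, e3 q2191 L72356 q1451, e3 q2192 L72350 q1452, e3 q2193 (flp_e L91774) q3552, e3 q2194 (flp_e L91782) q3553, e3 q2195 L44107 q1455, e3 q2196 L44111 q1456, e3 q2197 L44117 q1457, e3 q2198 L44123 q1458, e3 q2199 (flp_e L91814) q3560, e3 q2200 (flp_e L91818) q3561, e3 q2201 (flp_e L91822) q3562, e3 q2202 (flp_e L91826) q3563, e3 q2203 (flp_e L91830) q3564, e3 q2204 (flp_e L91834) q3565, e3 q2205 (flp_e L91838) q3566, e3 q2206 (flp_e L91842) q3567, e3 q2207 (flp_e L91393) q3490, e3 q2208 (flp_e L91399) q3491, e3 q2209 (flp_e L91405) q3492, e3 q2210 L91966 q3597, e3 q2211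 (flp_e L91417) q3494, e3 q2212 (flp_e L91421) q3495, e3 q2213 (flp_e L91429) q3496, e3 q2214 (flp_e L91435) q3497, e3 q2215 (flp_e L91439) q3498, e3 q2216 (flp_e L91445) q3499, e3 q2217 (flp_e L91451) q3500, e3 q2218 (flp_e L91457) q3501, e3 q2219 (flp_e L91463) q3502, e3 q2220 L92047 q3619, e3 q2221 (flp_e L91475) q3504, e3 q2222 (flp_e L91479) q3505, e3 q2223 (flp_e L91487) q3506, e3 q2224 (flp_e L91493) q3507, e3 q2225 (flp_e L91497) q3508, e3 q2226 (flp_e L91503) q3509, e3 q2227 L92106 q3633, e3 q2228 (flp_e L44262) q1467, e3 q2229 (flp_e L91519) q3511, e3 q2230 L92126 q3637, e3 q2231 L92133 q3639, e3 q2232 (flp_e L44341) q1470, e3 q2233 (flp_e L91537) q3514, e3 q2234 L92153 q3643, e3 q2235 L92162 q3646, e3 q2236 L92172 q3649, e3 q2237 (flp_e L44422) q1473, e3 q2238 (flp_e L141767) q3328, e3 q2239 L92235 q3655, trivial⟩ (by decide +kernel)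

theorem ce_e_35 : ∀ r, r < 64 → sm ge (Qf (2240 + r)) = Qf (tab Gen.e (2240 + r)) :=
  edges_tab (sm ge) Qf (tab Gen.e) 2240 [(2240, 3658), (2241, 1476), (2242, 3350), (2243, 1508), (2244, 1620), (2245, 1510), (2246, 1511), (2247, 1623), (2248, 1624), (2249, 1625), (2250, 1512), (2251, 1513), (2252, 1629), (2253, 1630), (2254, 1631), (2255, 1632), (2256, 1633), (2257, 1634), (2258, 1514), (2259, 1515), (2260, 1516), (2261, 1517), (2262, 1518), (2263, 1519), (2264, 1520), (2265, 1521), (2266, 1643), (2267, 1644), (2268, 1645), (2269, 1647), (2270, 1648), (2271, 1649), (2272, 1522), (2273, 1523), (2274, 1524), (2275, 3729), (2276, 1526), (2277, 1527), (2278, 1528), (2279, 1529), (2280, 1530), (2281, 3742), (2282, 1532), (2283, 1533), (2284, 1534), (2285, 3751), (2286, 1536), (2287, 1500), (2288, 3753), (2289, 1540), (2290, 1541), (2291, 3761), (2292, 1543), (2293, 1504), (2294, 3763), (2295, 1547), (2296, 1770), (2297, 3771), (2298, 1782), (2299, 3776), (2300, 3662), (2301, 3663), (2302, 3416), (2303, 3417)]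
    ⟨e3 q2240 L92245 q3658, e3 q2241 (flp_e L44583) q1476, e3 q2242 (flp_e L133448) q3350, e3 q2243 L45106 q1508, e3 q2244 L45118 q1620, e3 q2245 L45122 q1510, e3 q2246 L45126 q1511, e3 q2247 L45132 q1623, e3 q2248 L45140 q1624, e3 q2249 L45148 q1625, e3 q2250 L45152 q1512, e3 q2251 L45156 q1513, e3 q2252 L45165 q1629, e3 q2253 L45171 q1630, e3 q2254 L45177 q1631, e3 q2255 L45185 q1632, e3 q2256 L45193 q1633, e3 q2257 L45203 q1634, e3 q2258 L45209 q1514, e3 q2259 L45215 q1515, e3 q2260 L45221 q1516, e3 q2261 L45225 q1517, e3 q2262 L45229 q1518, e3 q2263 L45235 q1519, e3 q2264 L45241 q1520, e3 q2265 L45245 q1521, e3 q2266 L45251 q1643, e3 q2267 L45255 q1644, e3 q2268 L45262 q1645, e3 q2269 L45268 q1647, e3 q2270 L45272 q1648, e3 q2271 L45279 q1649, e3 q2272 L45283 q1522, e3 q2273 L45289 q1523, e3 q2274 L45295 q1524, e3 q2275 L92827 q3729, e3 q2276 L45307 q1526, e3 q2277 L45313 q1527, e3 q2278 L45319 q1528, e3 q2279 L45325 q1529, e3 q2280 L45331 q1530, e3 q2281 L92899 q3742, e3 q2282 L45343 q1532, e3 q2283 L45349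 q1533, e3 q2284 L45379 q1534, e3 q2285 L92948 q3751, e3 q2286 L45391 q1536, e3 q2287 (flp_e L45403) q1500, e3 q2288 (flp_e L92962) q3753, e3 q2289 L45413 q1540, e3 q2290 L45457 q1541, e3 q2291 L93001 q3761, e3 q2292 L45469 q1543, e3 q2293 (flp_e L45481) q1504, e3 q2294 (flp_e L93015) q3763, e3 q2295 L45491 q1547, e3 q2296 (flp_e L81104) q1770, e3 q2297 L93063 q3771, e3 q2298 L83362 q1782, e3 q2299 L93101 q3776, e3 q2300 (flp_e L92422) q3662, e3 q2301 (flp_e L92428) q3663, e3 q2302 (flp_e L90999) q3416, e3 q2303 (flp_e L91007) q3417, trivial⟩ (by decide +kernel)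

theorem ce_e_36 : ∀ r, r < 64 → sm ge (Qf (2304 + r)) = Qf (tab Gen.e (2304 + r)) :=
  edges_tab (sm ge) Qf (tab Gen.e) 2304 [(2304, 3666), (2305, 3667), (2306, 3668), (2307, 3669), (2308, 3675), (2309, 3676), (2310, 3677), (2311, 3678), (2312, 3679), (2313, 3680), (2314, 3693), (2315, 3694), (2316, 3800), (2317, 3696), (2318, 3697), (2319, 3698), (2320, 3699), (2321, 3700), (2322, 3701), (2323, 3702), (2324, 3819), (2325, 3704), (2326, 3705), (2327, 3706), (2328, 3707), (2329, 3708), (2330, 3721), (2331, 3722), (2332, 3723), (2333, 3724), (2334, 3839), (2335, 3726), (2336, 3727), (2337, 3846), (2338, 1525), (2339, 3848), (2340, 3731), (2341, 3732), (2342, 3733), (2343, 3734), (2344, 3735), (2345, 3736), (2346, 3737), (2347, 3865), (2348, 3739), (2349, 3740), (2350, 3872), (2351, 1531), (2352, 3874), (2353, 3744), (2354, 3745), (2355, 3746), (2356, 3747), (2357, 3888), (2358, 3749), (2359, 3750), (2360, 1535), (2361, 3894), (2362, 3752), (2363, 3899), (2364, 1537), (2365, 3903), (2366, 1539), (2367, 3905)]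
    ⟨e3 q2304 (flp_e L92444) q3666, e3 q2305 (flp_e L92450) q3667, e3 q2306 (flp_e L92456) q3668, e3 q2307 (flp_e L92464) q3669, e3 q2308 (flp_e L92505) q3675, e3 q2309 (flp_e L92513) q3676, e3 q2310 (flp_e L92519) q3677, e3 q2311 (flp_e L92523) q3678, e3 q2312 (flp_e L92527) q3679, e3 q2313 (flp_e L92531) q3680, e3 q2314 (flp_e L92619) q3693, e3 q2315 (flp_e L92625) q3694, e3 q2316 L93253 q3800, e3 q2317 (flp_e L92637) q3696, e3 q2318 (flp_e L92641) q3697, e3 q2319 (flp_e L92647) q3698, e3 q2320 (flp_e L92651) q3699, e3 q2321 (flp_e L92655) q3700, e3 q2322 (flp_e L92661) q3701, e3 q2323 (flp_e L92667) q3702, e3 q2324 L93339 q3819, e3 q2325 (flp_e L92679) q3704, e3 q2326 (flp_e L92683) q3705, e3 q2327 (flp_e L92689) q3706, e3 q2328 (flp_e L92693) q3707, e3 q2329 (flp_e L92697) q3708, e3 q2330 (flp_e L92785) q3721, e3 q2331 (flp_e L92793) q3722, e3 q2332 (flp_e L92797) q3723, e3 q2333 (flp_e L92801) q3724, e3 q2334 L93454 q3839, e3 q2335 (flp_e L92817) q3726, e3 q2336 (flp_e L92823) q3727, e3 q2337 L93486 q3846,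 e3 q2338 (flp_e L46511) q1525, e3 q2339 (flp_e L93496) q3848, e3 q2340 (flp_e L92839) q3731, e3 q2341 (flp_e L92849) q3732, e3 q2342 (flp_e L92855) q3733, e3 q2343 (flp_e L92859) q3734, e3 q2344 (flp_e L92869) q3735, e3 q2345 (flp_e L92873) q3736, e3 q2346 (flp_e L92877) q3737, e3 q2347 L93593 q3865, e3 q2348 (flp_e L92889) q3739, e3 q2349 (flp_e L92895) q3740, e3 q2350 L93625 q3872, e3 q2351 (flp_e L46571) q1531, e3 q2352 (flp_e L93635) q3874, e3 q2353 (flp_e L92911) q3744, e3 q2354 (flp_e L92921) q3745, e3 q2355 (flp_e L92927) q3746, e3 q2356 (flp_e L92932) q3747, e3 q2357 L93693 q3888, e3 q2358 (flp_e L92941) q3749, e3 q2359 (flp_e L92946) q3750, e3 q2360 (flp_e L46655) q1535, e3 q2361 (flp_e L93725) q3894, e3 q2362 (flp_e L92956) q3752, e3 q2363 L93741 q3899, e3 q2364 (flp_e L46681) q1537, e3 q2365 (flp_e L93755) q3903, e3 q2366 L46691 q1539, e3 q2367 (flp_e L93763) q3905, trivial⟩ (by decide +kernel)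

theorem ce_e_37 : ∀ r, r < 64 → sm ge (Qf (2368 + r)) = Qf (tab Gen.e (2368 + r)) :=
  edges_tab (sm ge) Qf (tab Gen.e) 2368 [(2368, 3755), (2369, 3756), (2370, 3757), (2371, 3917), (2372, 3759), (2373, 3760), (2374, 1542), (2375, 3923), (2376, 3762), (2377, 3928), (2378, 1544), (2379, 3931), (2380, 1546), (2381, 3933), (2382, 3765), (2383, 3766), (2384, 2481), (2385, 3018), (2386, 1549), (2387, 2447), (2388, 3946), (2389, 3949), (2390, 1552), (2391, 3953), (2392, 3954), (2393, 1553), (2394, 3959), (2395, 3958), (2396, 1555), (2397, 3963), (2398, 1557), (2399, 2874), (2400, 3967), (2401, 2489), (2402, 3019), (2403, 1560), (2404, 2477), (2405, 3976), (2406, 3979), (2407, 1563), (2408, 3983), (2409, 3984), (2410, 1564), (2411, 3989), (2412, 3988), (2413, 1566), (2414, 3993), (2415, 1568), (2416, 2856), (2417, 3997), (2418, 2420), (2419, 1572), (2420, 2418), (2421, 4002), (2422, 1578), (2423, 4006), (2424, 1574), (2425, 2427), (2426, 4009), (2427, 2425), (2428, 1576), (2429, 1577), (2430, 4013), (2431, 4014)]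
    ⟨e3 q2368 (flp_e L92972) q3755, e3 q2369 (flp_e L92978) q3756, e3 q2370 (flp_e L92985) q3757, e3 q2371 L93813 q3917, e3 q2372 (flp_e L92994) q3759, e3 q2373 (flp_e L92999) q3760, e3 q2374 (flp_e L46783) q1542, e3 q2375 (flp_e L93845) q3923, e3 q2376 (flp_e L93009) q3762, e3 q2377 L93861 q3928, e3 q2378 (flp_e L46809) q1544, e3 q2379 (flp_e L93875) q3931, e3 q2380 L46819 q1546, e3 q2381 (flp_e L93883) q3933, e3 q2382 (flp_e L93027) q3765, e3 q2383 (flp_e L93033) q3766, e3 q2384 (flp_e L142681) q2481, e3 q2385 L119328 q3018, e3 q2386 (flp_e L46977) q1549, e3 q2387 L142488 q2447, e3 q2388 L94018 q3946, e3 q2389 L94036 q3949, e3 q2390 (flp_e L47041) q1552, e3 q2391 (flp_e L94056) q3953, e3 q2392 (flp_e L94062) q3954, e3 q2393 (flp_e L47055) q1553, e3 q2394 (flp_e L94094) q3959, e3 q2395 (flp_e L94086) q3958, e3 q2396 L47075 q1555, e3 q2397 (flp_e L94122) q3963, e3 q2398 L47091 q1557, e3 q2399 L142196 q2874, e3 q2400 (flp_e L94146) q3967, e3 q2401 (flp_e L137211) q2489, e3 q2402 L148229 q3019, e3 q2403 (flp_e L47314)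 q1560, e3 q2404 L137352 q2477, e3 q2405 L94269 q3976, e3 q2406 L94287 q3979, e3 q2407 (flp_e L47380) q1563, e3 q2408 (flp_e L94307) q3983, e3 q2409 (flp_e L94313) q3984, e3 q2410 (flp_e L47394) q1564, e3 q2411 (flp_e L94345) q3989, e3 q2412 (flp_e L94337) q3988, e3 q2413 L47414 q1566, e3 q2414 (flp_e L94373) q3993, e3 q2415 L47430 q1568, e3 q2416 L142010 q2856, e3 q2417 (flp_e L94397) q3997, e3 q2418 (flp_e L120066) q2420, e3 q2419 (flp_e L83816) q1572, e3 q2420 L120066 q2418, e3 q2421 (flp_e L94454) q4002, e3 q2422 L83835 q1578, e3 q2423 L94476 q4006, e3 q2424 (flp_e L83841) q1574, e3 q2425 (flp_e L120169) q2427, e3 q2426 (flp_e L94498) q4009, e3 q2427 L120169 q2425, e3 q2428 L83859 q1576, e3 q2429 L83863 q1577, e3 q2430 (flp_e L94516) q4013, e3 q2431 (flp_e L94522) q4014, trivial⟩ (by decide +kernel)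

theorem ce_e_38 : ∀ r, r < 64 → sm ge (Qf (2432 + r)) = Qf (tab Gen.e (2432 + r)) :=
  edges_tab (sm ge) Qf (tab Gen.e) 2432 [(2432, 4012), (2433, 2089), (2434, 3401), (2435, 1580), (2436, 1581), (2437, 4022), (2438, 4023), (2439, 4024), (2440, 4025), (2441, 1584), (2442, 1585), (2443, 3325), (2444, 4036), (2445, 4042), (2446, 2860), (2447, 2387), (2448, 2451), (2449, 1589), (2450, 4048), (2451, 2448), (2452, 1595), (2453, 4052), (2454, 1591), (2455, 4055), (2456, 2457), (2457, 2456), (2458, 1593), (2459, 1594), (2460, 4059), (2461, 4058), (2462, 4060), (2463, 2102), (2464, 3377), (2465, 1597), (2466, 1598), (2467, 4068), (2468, 4069), (2469, 4070), (2470, 4071), (2471, 1601), (2472, 1602), (2473, 3347), (2474, 4082), (2475, 4088), (2476, 2878), (2477, 2404), (2478, 1609), (2479, 4092), (2480, 4098), (2481, 2384), (2482, 1612), (2483, 4101), (2484, 4000), (2485, 4102), (2486, 1614), (2487, 4108), (2488, 4114), (2489, 2401), (2490, 1617), (2491, 4117), (2492, 4118), (2493, 4046), (2494, 1689), (2495, 1690)]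
    ⟨e3 q2432 L119992 q4012, e3 q2433 L83883 q2089, e3 q2434 (flp_e L90848) q3401, e3 q2435 L83895 q1580, e3 q2436 L83903 q1581, e3 q2437 (flp_e L94572) q4022, e3 q2438 (flp_e L94576) q4023, e3 q2439 (flp_e L94582) q4024, e3 q2440 (flp_e L94586) q4025, e3 q2441 L83923 q1584, e3 q2442 L83927 q1585, e3 q2443 (flp_e L141123) q3325, e3 q2444 (flp_e L94638) q4036, e3 q2445 L94680 q4042, e3 q2446 (flp_e L141052) q2860, e3 q2447 (flp_e L142488) q2387, e3 q2448 (flp_e L148382) q2451, e3 q2449 (flp_e L83972) q1589, e3 q2450 (flp_e L94728) q4048, e3 q2451 L148382 q2448, e3 q2452 L83991 q1595, e3 q2453 L94755 q4052, e3 q2454 (flp_e L83997) q1591, e3 q2455 (flp_e L94771) q4055, e3 q2456 L148445 q2457, e3 q2457 (flp_e L148445) q2456, e3 q2458 L84015 q1593, e3 q2459 L84019 q1594, e3 q2460 (flp_e L94795) q4059, e3 q2461 L148461 q4058, e3 q2462 (flp_e L94809) q4060, e3 q2463 L84039 q2102, e3 q2464 (flp_e L90718) q3377, e3 q2465 L84051 q1597, e3 q2466 L84059 q1598, e3 q2467 (flp_e L94851) q4068, e3 q2468 (flp_e L94855) q4069, e3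 q2469 (flp_e L94861) q4070, e3 q2470 (flp_e L94865) q4071, e3 q2471 L84079 q1601, e3 q2472 L84083 q1602, e3 q2473 (flp_e L142027) q3347, e3 q2474 (flp_e L94917) q4082, e3 q2475 L94963 q4088, e3 q2476 L141977 q2878, e3 q2477 (flp_e L137352) q2404, e3 q2478 L84176 q1609, e3 q2479 (flp_e L95033) q4092, e3 q2480 L95067 q4098, e3 q2481 L142681 q2384, e3 q2482 L84204 q1612, e3 q2483 (flp_e L95083) q4101, e3 q2484 (flp_e L120184) q4000, e3 q2485 (flp_e L95093) q4102, e3 q2486 L84223 q1614, e3 q2487 (flp_e L95127) q4108, e3 q2488 L95161 q4114, e3 q2489 L137211 q2401, e3 q2490 L84251 q1617, e3 q2491 (flp_e L95177) q4117, e3 q2492 (flp_e L95181) q4118, e3 q2493 (flp_e L148391) q4046, e3 q2494 L84271 q1689, e3 q2495 L84281 q1690, trivial⟩ (by decide +kernel)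

theorem ce_e_39 : ∀ r, r < 64 → sm ge (Qf (2496 + r)) = Qf (tab Gen.e (2496 + r)) :=
  edges_tab (sm ge) Qf (tab Gen.e) 2496 [(2496, 1691), (2497, 4129), (2498, 1693), (2499, 1694), (2500, 3664), (2501, 3665), (2502, 1695), (2503, 1696), (2504, 1697), (2505, 1698), (2506, 3670), (2507, 2507), (2508, 3671), (2509, 3672), (2510, 3673), (2511, 3674), (2512, 1699), (2513, 1700), (2514, 1701), (2515, 1702), (2516, 1703), (2517, 1704), (2518, 2518), (2519, 2519), (2520, 3681), (2521, 3682), (2522, 3683), (2523, 3684), (2524, 3685), (2525, 3686), (2526, 3687), (2527, 3688), (2528, 3689), (2529, 3690), (2530, 3691), (2531, 3692), (2532, 1705), (2533, 1706), (2534, 4205), (2535, 1708), (2536, 1709), (2537, 1710), (2538, 1711), (2539, 1712), (2540, 1713), (2541, 1714), (2542, 4222), (2543, 1716), (2544, 1717), (2545, 1718), (2546, 1719), (2547, 1720), (2548, 3709), (2549, 3710), (2550, 3711), (2551, 4241), (2552, 3713), (2553, 2567), (2554, 3714), (2555, 2565), (2556, 2566), (2557, 2563), (2558, 3715), (2559, 3716)]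
    ⟨e3 q2496 L84287 q1691, e3 q2497 L95253 q4129, e3 q2498 L84296 q1693, e3 q2499 L84302 q1694, e3 q2500 (flp_e L92434) q3664, e3 q2501 (flp_e L92440) q3665, e3 q2502 L84316 q1695, e3 q2503 L84322 q1696, e3 q2504 L84328 q1697, e3 q2505 L84336 q1698, e3 q2506 (flp_e L92471) q3670, e3 q2507 L84346 q2507, e3 q2508 (flp_e L92480) q3671, e3 q2509 (flp_e L92489) q3672, e3 q2510 (flp_e L92495) q3673, e3 q2511 (flp_e L92501) q3674, e3 q2512 L84383 q1699, e3 q2513 L84387 q1700, e3 q2514 L84392 q1701, e3 q2515 L84396 q1702, e3 q2516 L84400 q1703, e3 q2517 L84405 q1704, e3 q2518 L84411 q2518, e3 q2519 L84416 q2519, e3 q2520 (flp_e L92536) q3681, e3 q2521 (flp_e L92544) q3682, e3 q2522 (flp_e L92551) q3683, e3 q2523 (flp_e L92561) q3684, e3 q2524 (flp_e L92569) q3685, e3 q2525 (flp_e L92575) q3686, e3 q2526 (flp_e L92583) q3687, e3 q2527 (flp_e L92589) q3688, e3 q2528 (flp_e L92595) q3689, e3 q2529 (flp_e L92601) q3690, e3 q2530 (flp_e L92609) q3691, e3 q2531 (flp_e L92615) q3692, e3 q2532 L84475 q1705, e3 q2533 L84481 q1706,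 e3 q2534 L95646 q4205, e3 q2535 L84494 q1708, e3 q2536 L84498 q1709, e3 q2537 L84504 q1710, e3 q2538 L84508 q1711, e3 q2539 L84513 q1712, e3 q2540 L84519 q1713, e3 q2541 L84525 q1714, e3 q2542 L95745 q4222, e3 q2543 L84538 q1716, e3 q2544 L84542 q1717, e3 q2545 L84548 q1718, e3 q2546 L84552 q1719, e3 q2547 L84557 q1720, e3 q2548 (flp_e L92705) q3709, e3 q2549 (flp_e L92711) q3710, e3 q2550 (flp_e L92719) q3711, e3 q2551 L95846 q4241, e3 q2552 (flp_e L92730) q3713, e3 q2553 (flp_e L84665) q2567, e3 q2554 (flp_e L92738) q3714, e3 q2555 (flp_e L84654) q2565, e3 q2556 (flp_e L84658) q2566, e3 q2557 (flp_e L84638) q2563, e3 q2558 (flp_e L92746) q3715, e3 q2559 (flp_e L92752) q3716, trivial⟩ (by decide +kernel)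

theorem ce_e_40 : ∀ r, r < 64 → sm ge (Qf (2560 + r)) = Qf (tab Gen.e (2560 + r)) :=
  edges_tab (sm ge) Qf (tab Gen.e) 2560 [(2560, 3717), (2561, 4262), (2562, 3719), (2563, 2557), (2564, 3720), (2565, 2555), (2566, 2556), (2567, 2553), (2568, 1721), (2569, 1722), (2570, 1723), (2571, 1724), (2572, 1725), (2573, 4290), (2574, 1727), (2575, 1728), (2576, 4298), (2577, 1654), (2578, 4300), (2579, 1732), (2580, 1733), (2581, 1734), (2582, 1735), (2583, 1736), (2584, 1737), (2585, 1738), (2586, 1739), (2587, 1740), (2588, 4323), (2589, 1742), (2590, 1743), (2591, 1744), (2592, 1745), (2593, 1746), (2594, 1747), (2595, 1748), (2596, 4341), (2597, 1750), (2598, 1751), (2599, 4349), (2600, 1664), (2601, 4351), (2602, 1755), (2603, 1756), (2604, 1757), (2605, 1758), (2606, 1759), (2607, 1760), (2608, 1761), (2609, 1762), (2610, 1763), (2611, 4374), (2612, 1765), (2613, 1766), (2614, 4379), (2615, 1671), (2616, 1769), (2617, 1771), (2618, 1773), (2619, 1774), (2620, 1775), (2621, 4391), (2622, 4393), (2623, 1676)]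
    ⟨e3 q2560 (flp_e L92760) q3717, e3 q2561 L95947 q4262, e3 q2562 (flp_e L92771) q3719, e3 q2563 L84638 q2557, e3 q2564 (flp_e L92779) q3720, e3 q2565 L84654 q2555, e3 q2566 L84658 q2556, e3 q2567 L84665 q2553, e3 q2568 L84671 q1721, e3 q2569 L84675 q1722, e3 q2570 L84679 q1723, e3 q2571 L84683 q1724, e3 q2572 L84687 q1725, e3 q2573 L96105 q4290, e3 q2574 L84699 q1727, e3 q2575 L84705 q1728, e3 q2576 L96159 q4298, e3 q2577 (flp_e L84709) q1654, e3 q2578 (flp_e L96171) q4300, e3 q2579 L84721 q1732, e3 q2580 L84731 q1733, e3 q2581 L84737 q1734, e3 q2582 L84743 q1735, e3 q2583 L84749 q1736, e3 q2584 L84753 q1737, e3 q2585 L84757 q1738, e3 q2586 L84763 q1739, e3 q2587 L84769 q1740, e3 q2588 L96283 q4323, e3 q2589 L84781 q1742, e3 q2590 L84787 q1743, e3 q2591 L84793 q1744, e3 q2592 L84797 q1745, e3 q2593 L84801 q1746, e3 q2594 L84805 q1747, e3 q2595 L84809 q1748, e3 q2596 L96390 q4341, e3 q2597 L84821 q1750, e3 q2598 L84827 q1751, e3 q2599 L96444 q4349, e3 q2600 (flp_e L84831) q1664, e3 q2601 (flp_e L96456) q4351,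 e3 q2602 L84843 q1755, e3 q2603 L84853 q1756, e3 q2604 L84859 q1757, e3 q2605 L84865 q1758, e3 q2606 L84871 q1759, e3 q2607 L84875 q1760, e3 q2608 L84879 q1761, e3 q2609 L84885 q1762, e3 q2610 L84891 q1763, e3 q2611 L96570 q4374, e3 q2612 L84903 q1765, e3 q2613 L84909 q1766, e3 q2614 L96600 q4379, e3 q2615 (flp_e L84917) q1671, e3 q2616 L84929 q1769, e3 q2617 L84933 q1771, e3 q2618 L84940 q1773, e3 q2619 L84948 q1774, e3 q2620 L84954 q1775, e3 q2621 L96669 q4391, e3 q2622 L96683 q4393, e3 q2623 (flp_e L84974) q1676, trivial⟩ (by decide +kernel)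

theorem ce_e_41 : ∀ r, r < 64 → sm ge (Qf (2624 + r)) = Qf (tab Gen.e (2624 + r)) :=
  edges_tab (sm ge) Qf (tab Gen.e) 2624 [(2624, 4395), (2625, 1677), (2626, 1781), (2627, 1783), (2628, 1785), (2629, 1786), (2630, 1787), (2631, 4407), (2632, 4409), (2633, 1682), (2634, 1687), (2635, 3181), (2636, 1688), (2637, 3187), (2638, 4410), (2639, 4413), (2640, 4417), (2641, 4125), (2642, 4126), (2643, 4127), (2644, 4128), (2645, 4430), (2646, 1692), (2647, 4433), (2648, 4434), (2649, 4132), (2650, 4133), (2651, 4134), (2652, 4135), (2653, 4140), (2654, 4141), (2655, 4142), (2656, 4143), (2657, 4144), (2658, 4145), (2659, 4146), (2660, 4147), (2661, 4162), (2662, 4163), (2663, 4164), (2664, 4469), (2665, 4166), (2666, 4167), (2667, 4168), (2668, 4169), (2669, 4170), (2670, 4481), (2671, 4172), (2672, 4173), (2673, 3483), (2674, 3482), (2675, 4200), (2676, 4201), (2677, 4202), (2678, 4495), (2679, 4498), (2680, 1707), (2681, 4500), (2682, 4207), (2683, 4208), (2684, 4209), (2685, 4210), (2686, 4211), (2687, 4212)]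
    ⟨e3 q2624 L96699 q4395, e3 q2625 (flp_e L84982) q1677, e3 q2626 L84994 q1781, e3 q2627 L84998 q1783, e3 q2628 L85005 q1785, e3 q2629 L85015 q1786, e3 q2630 L85021 q1787, e3 q2631 L96768 q4407, e3 q2632 L96782 q4409, e3 q2633 (flp_e L85041) q1682, e3 q2634 L85049 q1687, e3 q2635 L141631 q3181, e3 q2636 L85063 q1688, e3 q2637 (flp_e L141622) q3187, e3 q2638 (flp_e L96796) q4410, e3 q2639 (flp_e L96819) q4413, e3 q2640 L96912 q4417, e3 q2641 (flp_e L95235) q4125, e3 q2642 (flp_e L95243) q4126, e3 q2643 (flp_e L95247) q4127, e3 q2644 (flp_e L95251) q4128, e3 q2645 L96959 q4430, e3 q2646 (flp_e L85139) q1692, e3 q2647 (flp_e L96973) q4433, e3 q2648 (flp_e L96977) q4434, e3 q2649 (flp_e L95276) q4132, e3 q2650 (flp_e L95283) q4133, e3 q2651 (flp_e L95289) q4134, e3 q2652 (flp_e L95298) q4135, e3 q2653 (flp_e L95334) q4140, e3 q2654 (flp_e L95340) q4141, e3 q2655 (flp_e L95346) q4142, e3 q2656 (flp_e L95350) q4143, e3 q2657 (flp_e L95354) q4144, e3 q2658 (flp_e L95360) q4145, e3 q2659 (flp_e L95366) q4146, e3 q2660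 (flp_e L95370) q4147, e3 q2661 (flp_e L95428) q4162, e3 q2662 (flp_e L95434) q4163, e3 q2663 (flp_e L95440) q4164, e3 q2664 L97140 q4469, e3 q2665 (flp_e L95451) q4166, e3 q2666 (flp_e L95457) q4167, e3 q2667 (flp_e L95463) q4168, e3 q2668 (flp_e L95469) q4169, e3 q2669 (flp_e L95475) q4170, e3 q2670 L97188 q4481, e3 q2671 (flp_e L95486) q4172, e3 q2672 (flp_e L95492) q4173, e3 q2673 (flp_e L91644) q3483, e3 q2674 L91637 q3482, e3 q2675 (flp_e L95624) q4200, e3 q2676 (flp_e L95630) q4201, e3 q2677 (flp_e L95634) q4202, e3 q2678 L97256 q4495, e3 q2679 L97274 q4498, e3 q2680 (flp_e L85268) q1707, e3 q2681 (flp_e L97286) q4500, e3 q2682 (flp_e L95659) q4207, e3 q2683 (flp_e L95664) q4208, e3 q2684 (flp_e L95670) q4209, e3 q2685 (flp_e L95676) q4210, e3 q2686 (flp_e L95680) q4211, e3 q2687 (flp_e L95686) q4212, trivial⟩ (by decide +kernel)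

theorem ce_e_42 : ∀ r, r < 64 → sm ge (Qf (2688 + r)) = Qf (tab Gen.e (2688 + r)) :=
  edges_tab (sm ge) Qf (tab Gen.e) 2688 [(2688, 4213), (2689, 4515), (2690, 4215), (2691, 4216), (2692, 3487), (2693, 3486), (2694, 4217), (2695, 4218), (2696, 4219), (2697, 4530), (2698, 4533), (2699, 1715), (2700, 4535), (2701, 4224), (2702, 4225), (2703, 4226), (2704, 4227), (2705, 4228), (2706, 4229), (2707, 4230), (2708, 4550), (2709, 4232), (2710, 4233), (2711, 4276), (2712, 4277), (2713, 4278), (2714, 4558), (2715, 4280), (2716, 4281), (2717, 4282), (2718, 4283), (2719, 4284), (2720, 4285), (2721, 4572), (2722, 4287), (2723, 4288), (2724, 4579), (2725, 1726), (2726, 4581), (2727, 4292), (2728, 4293), (2729, 4294), (2730, 4295), (2731, 4591), (2732, 1729), (2733, 4594), (2734, 1731), (2735, 4597), (2736, 4598), (2737, 4303), (2738, 3770), (2739, 4304), (2740, 4305), (2741, 4306), (2742, 4307), (2743, 4618), (2744, 4309), (2745, 4310), (2746, 4311), (2747, 4312), (2748, 4313), (2749, 4314), (2750, 4315), (2751, 4316)]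
    ⟨e3 q2688 (flp_e L95692) q4213, e3 q2689 L97347 q4515, e3 q2690 (flp_e L95703) q4215, e3 q2691 (flp_e L95709) q4216, e3 q2692 L150347 q3487, e3 q2693 L150452 q3486, e3 q2694 (flp_e L95723) q4217, e3 q2695 (flp_e L95727) q4218, e3 q2696 (flp_e L95733) q4219, e3 q2697 L97427 q4530, e3 q2698 L97445 q4533, e3 q2699 (flp_e L85337) q1715, e3 q2700 (flp_e L97457) q4535, e3 q2701 (flp_e L95758) q4224, e3 q2702 (flp_e L95763) q4225, e3 q2703 (flp_e L95769) q4226, e3 q2704 (flp_e L95775) q4227, e3 q2705 (flp_e L95779) q4228, e3 q2706 (flp_e L95785) q4229, e3 q2707 (flp_e L95791) q4230, e3 q2708 L97520 q4550, e3 q2709 (flp_e L95802) q4232, e3 q2710 (flp_e L95808) q4233, e3 q2711 (flp_e L96034) q4276, e3 q2712 (flp_e L96040) q4277, e3 q2713 (flp_e L96044) q4278, e3 q2714 L97566 q4558, e3 q2715 (flp_e L96054) q4280, e3 q2716 (flp_e L96060) q4281, e3 q2717 (flp_e L96064) q4282, e3 q2718 (flp_e L96070) q4283, e3 q2719 (flp_e L96078) q4284, e3 q2720 (flp_e L96084) q4285, e3 q2721 L97634 q4572, e3 q2722 (flp_e L96093) q4287,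 e3 q2723 (flp_e L96097) q4288, e3 q2724 L97664 q4579, e3 q2725 (flp_e L85441) q1726, e3 q2726 (flp_e L97684) q4581, e3 q2727 (flp_e L96121) q4292, e3 q2728 (flp_e L96125) q4293, e3 q2729 (flp_e L96129) q4294, e3 q2730 (flp_e L96133) q4295, e3 q2731 L97722 q4591, e3 q2732 (flp_e L85470) q1729, e3 q2733 (flp_e L97744) q4594, e3 q2734 L85481 q1731, e3 q2735 (flp_e L97759) q4597, e3 q2736 (flp_e L97767) q4598, e3 q2737 (flp_e L96189) q4303, e3 q2738 (flp_e L93059) q3770, e3 q2739 (flp_e L96195) q4304, e3 q2740 (flp_e L96199) q4305, e3 q2741 (flp_e L96203) q4306, e3 q2742 (flp_e L96209) q4307, e3 q2743 L97843 q4618, e3 q2744 (flp_e L96221) q4309, e3 q2745 (flp_e L96225) q4310, e3 q2746 (flp_e L96231) q4311, e3 q2747 (flp_e L96235) q4312, e3 q2748 (flp_e L96239) q4313, e3 q2749 (flp_e L96245) q4314, e3 q2750 (flp_e L96249) q4315, e3 q2751 (flp_e L96253) q4316, trivial⟩ (by decide +kernel)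

theorem ce_e_43 : ∀ r, r < 64 → sm ge (Qf (2752 + r)) = Qf (tab Gen.e (2752 + r)) :=
  edges_tab (sm ge) Qf (tab Gen.e) 2752 [(2752, 4317), (2753, 4318), (2754, 4643), (2755, 4320), (2756, 4321), (2757, 4649), (2758, 1741), (2759, 4651), (2760, 4325), (2761, 4326), (2762, 4327), (2763, 4328), (2764, 4329), (2765, 4660), (2766, 4331), (2767, 4332), (2768, 4333), (2769, 4334), (2770, 4335), (2771, 4336), (2772, 4673), (2773, 4338), (2774, 4339), (2775, 4680), (2776, 1749), (2777, 4682), (2778, 4343), (2779, 4344), (2780, 4345), (2781, 4346), (2782, 4691), (2783, 1752), (2784, 4694), (2785, 1754), (2786, 4697), (2787, 4698), (2788, 4354), (2789, 3774), (2790, 4355), (2791, 4356), (2792, 4357), (2793, 4358), (2794, 4718), (2795, 4360), (2796, 4361), (2797, 4362), (2798, 4363), (2799, 4364), (2800, 4365), (2801, 4366), (2802, 4367), (2803, 4368), (2804, 4369), (2805, 4742), (2806, 4371), (2807, 4372), (2808, 4747), (2809, 1764), (2810, 4749), (2811, 4376), (2812, 4377), (2813, 1768), (2814, 4755), (2815, 4756)]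
    ⟨e3 q2752 (flp_e L96257) q4317, e3 q2753 (flp_e L96261) q4318, e3 q2754 L98005 q4643, e3 q2755 (flp_e L96273) q4320, e3 q2756 (flp_e L96279) q4321, e3 q2757 L98031 q4649, e3 q2758 (flp_e L85565) q1741, e3 q2759 (flp_e L98041) q4651, e3 q2760 (flp_e L96299) q4325, e3 q2761 (flp_e L96305) q4326, e3 q2762 (flp_e L96319) q4327, e3 q2763 (flp_e L96325) q4328, e3 q2764 (flp_e L96329) q4329, e3 q2765 L98135 q4660, e3 q2766 (flp_e L96339) q4331, e3 q2767 (flp_e L96345) q4332, e3 q2768 (flp_e L96349) q4333, e3 q2769 (flp_e L96355) q4334, e3 q2770 (flp_e L96363) q4335, e3 q2771 (flp_e L96369) q4336, e3 q2772 L98208 q4673, e3 q2773 (flp_e L96378) q4338, e3 q2774 (flp_e L96382) q4339, e3 q2775 L98238 q4680, e3 q2776 (flp_e L85642) q1749, e3 q2777 (flp_e L98258) q4682, e3 q2778 (flp_e L96406) q4343, e3 q2779 (flp_e L96410) q4344, e3 q2780 (flp_e L96414) q4345, e3 q2781 (flp_e L96418) q4346, e3 q2782 L98292 q4691, e3 q2783 (flp_e L85671) q1752, e3 q2784 (flp_e L98314) q4694, e3 q2785 L85682 q1754, e3 q2786 (flp_e L98329)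 q4697, e3 q2787 (flp_e L98337) q4698, e3 q2788 (flp_e L96474) q4354, e3 q2789 (flp_e L93089) q3774, e3 q2790 (flp_e L96480) q4355, e3 q2791 (flp_e L96484) q4356, e3 q2792 (flp_e L96488) q4357, e3 q2793 (flp_e L96494) q4358, e3 q2794 L98423 q4718, e3 q2795 (flp_e L96506) q4360, e3 q2796 (flp_e L96510) q4361, e3 q2797 (flp_e L96516) q4362, e3 q2798 (flp_e L96520) q4363, e3 q2799 (flp_e L96524) q4364, e3 q2800 (flp_e L96530) q4365, e3 q2801 (flp_e L96536) q4366, e3 q2802 (flp_e L96540) q4367, e3 q2803 (flp_e L96544) q4368, e3 q2804 (flp_e L96548) q4369, e3 q2805 L98555 q4742, e3 q2806 (flp_e L96560) q4371, e3 q2807 (flp_e L96566) q4372, e3 q2808 L98575 q4747, e3 q2809 (flp_e L85780) q1764, e3 q2810 (flp_e L98585) q4749, e3 q2811 (flp_e L96586) q4376, e3 q2812 (flp_e L96592) q4377, e3 q2813 L85804 q1768, e3 q2814 (flp_e L98619) q4755, e3 q2815 (flp_e L98623) q4756, trivial⟩ (by decide +kernel)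

theorem ce_e_44 : ∀ r, r < 64 → sm ge (Qf (2816 + r)) = Qf (tab Gen.e (2816 + r)) :=
  edges_tab (sm ge) Qf (tab Gen.e) 2816 [(2816, 4381), (2817, 3767), (2818, 4382), (2819, 4766), (2820, 3769), (2821, 4383), (2822, 1772), (2823, 4384), (2824, 4385), (2825, 4777), (2826, 4387), (2827, 4783), (2828, 4389), (2829, 4390), (2830, 1776), (2831, 4789), (2832, 1777), (2833, 1780), (2834, 4793), (2835, 4794), (2836, 4397), (2837, 3772), (2838, 4398), (2839, 4804), (2840, 3775), (2841, 4399), (2842, 1784), (2843, 4400), (2844, 4401), (2845, 4815), (2846, 4403), (2847, 4821), (2848, 4405), (2849, 4406), (2850, 1788), (2851, 4827), (2852, 1789), (2853, 4831), (2854, 1791), (2855, 2065), (2856, 2416), (2857, 4838), (2858, 1795), (2859, 1828), (2860, 2446), (2861, 1826), (2862, 4844), (2863, 1799), (2864, 4850), (2865, 4854), (2866, 1801), (2867, 4858), (2868, 2885), (2869, 1802), (2870, 4860), (2871, 4861), (2872, 1804), (2873, 2081), (2874, 2399), (2875, 4867), (2876, 1808), (2877, 1839), (2878, 2476), (2879, 1837)]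
    ⟨e3 q2816 (flp_e L96613) q4381, e3 q2817 (flp_e L93041) q3767, e3 q2818 (flp_e L96619) q4382, e3 q2819 L98685 q4766, e3 q2820 (flp_e L93051) q3769, e3 q2821 (flp_e L96627) q4383, e3 q2822 (flp_e L85846) q1772, e3 q2823 (flp_e L96635) q4384, e3 q2824 (flp_e L96643) q4385, e3 q2825 L98738 q4777, e3 q2826 (flp_e L96653) q4387, e3 q2827 L98758 q4783, e3 q2828 (flp_e L96661) q4389, e3 q2829 (flp_e L96665) q4390, e3 q2830 (flp_e L85882) q1776, e3 q2831 L98784 q4789, e3 q2832 (flp_e L85890) q1777, e3 q2833 L85896 q1780, e3 q2834 (flp_e L98796) q4793, e3 q2835 (flp_e L98800) q4794, e3 q2836 (flp_e L96712) q4397, e3 q2837 (flp_e L93079) q3772, e3 q2838 (flp_e L96718) q4398, e3 q2839 L98866 q4804, e3 q2840 (flp_e L93097) q3775, e3 q2841 (flp_e L96726) q4399, e3 q2842 (flp_e L85938) q1784, e3 q2843 (flp_e L96734) q4400, e3 q2844 (flp_e L96742) q4401, e3 q2845 L98921 q4815, e3 q2846 (flp_e L96752) q4403, e3 q2847 L98941 q4821, e3 q2848 (flp_e L96760) q4405, e3 q2849 (flp_e L96766) q4406, e3 q2850 (flp_e L85974) q1788, e3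 q2851 L98967 q4827, e3 q2852 (flp_e L85982) q1789, e3 q2853 (flp_e L119355) q4831, e3 q2854 (flp_e L85989) q1791, e3 q2855 L141841 q2065, e3 q2856 (flp_e L142010) q2416, e3 q2857 L99047 q4838, e3 q2858 (flp_e L86029) q1795, e3 q2859 (flp_e L141106) q1828, e3 q2860 L141052 q2446, e3 q2861 (flp_e L142219) q1826, e3 q2862 L99119 q4844, e3 q2863 (flp_e L86079) q1799, e3 q2864 L99147 q4850, e3 q2865 L99169 q4854, e3 q2866 (flp_e L86095) q1801, e3 q2867 (flp_e L99189) q4858, e3 q2868 (flp_e L147473) q2885, e3 q2869 (flp_e L86109) q1802, e3 q2870 (flp_e L99215) q4860, e3 q2871 L147497 q4861, e3 q2872 (flp_e L86120) q1804, e3 q2873 L141235 q2081, e3 q2874 (flp_e L142196) q2399, e3 q2875 L99281 q4867, e3 q2876 (flp_e L86150) q1808, e3 q2877 (flp_e L142039) q1839, e3 q2878 (flp_e L141977) q2476, e3 q2879 (flp_e L131939) q1837, trivial⟩ (by decide +kernel)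

theorem ce_e_45 : ∀ r, r < 64 → sm ge (Qf (2880 + r)) = Qf (tab Gen.e (2880 + r)) :=
  edges_tab (sm ge) Qf (tab Gen.e) 2880 [(2880, 4873), (2881, 1812), (2882, 4859), (2883, 4881), (2884, 1814), (2885, 2868), (2886, 4851), (2887, 1815), (2888, 4885), (2889, 1822), (2890, 1823), (2891, 1825), (2892, 1827), (2893, 4886), (2894, 1835), (2895, 2908), (2896, 4887), (2897, 1833), (2898, 4888), (2899, 4889), (2900, 4890), (2901, 1931), (2902, 4842), (2903, 4906), (2904, 4839), (2905, 1836), (2906, 1838), (2907, 4898), (2908, 2895), (2909, 4894), (2910, 4909), (2911, 4910), (2912, 4911), (2913, 1937), (2914, 4871), (2915, 4925), (2916, 4868), (2917, 1842), (2918, 1844), (2919, 1845), (2920, 4124), (2921, 3405), (2922, 4928), (2923, 4929), (2924, 3408), (2925, 3409), (2926, 3410), (2927, 4930), (2928, 4931), (2929, 1854), (2930, 1946), (2931, 1855), (2932, 1856), (2933, 1949), (2934, 1950), (2935, 1951), (2936, 1857), (2937, 1858), (2938, 1859), (2939, 1860), (2940, 1956), (2941, 1958), (2942, 1861), (2943, 1862)]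
    ⟨e3 q2880 L99347 q4873, e3 q2881 (flp_e L86190) q1812, e3 q2882 L146868 q4859, e3 q2883 L99397 q4881, e3 q2884 (flp_e L86206) q1814, e3 q2885 L147473 q2868, e3 q2886 (flp_e L147432) q4851, e3 q2887 (flp_e L86220) q1815, e3 q2888 (flp_e L99443) q4885, e3 q2889 (flp_e L142376) q1822, e3 q2890 L142435 q1823, e3 q2891 L134555 q1825, e3 q2892 L141087 q1827, e3 q2893 (flp_e L142394) q4886, e3 q2894 L147070 q1835, e3 q2895 (flp_e L147169) q2908, e3 q2896 L134552 q4887, e3 q2897 L147415 q1833, e3 q2898 L134560 q4888, e3 q2899 L134558 q4889, e3 q2900 (flp_e L134469) q4890, e3 q2901 L139055 q1931, e3 q2902 (flp_e L133619) q4842, e3 q2903 L100083 q4906, e3 q2904 (flp_e L141098) q4839, e3 q2905 L136828 q1836, e3 q2906 (flp_e L136801) q1838, e3 q2907 (flp_e L147206) q4898, e3 q2908 L147169 q2895, e3 q2909 L147130 q4894, e3 q2910 L136832 q4909, e3 q2911 L136830 q4910, e3 q2912 L136825 q4911, e3 q2913 (flp_e L142005) q1937, e3 q2914 (flp_e L142000) q4871, e3 q2915 L100507 q4925, e3 q2916 (flp_e L142032) q4868, e3 q2917 L87943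 q1842, e3 q2918 L87949 q1844, e3 q2919 L87956 q1845, e3 q2920 L95227 q4124, e3 q2921 (flp_e L90924) q3405, e3 q2922 (flp_e L101751) q4928, e3 q2923 (flp_e L101759) q4929, e3 q2924 (flp_e L90940) q3408, e3 q2925 (flp_e L90947) q3409, e3 q2926 (flp_e L90954) q3410, e3 q2927 (flp_e L101765) q4930, e3 q2928 (flp_e L101775) q4931, e3 q2929 L88006 q1854, e3 q2930 L88012 q1946, e3 q2931 L88020 q1855, e3 q2932 L88026 q1856, e3 q2933 L88032 q1949, e3 q2934 L88042 q1950, e3 q2935 L88048 q1951, e3 q2936 L88052 q1857, e3 q2937 L88059 q1858, e3 q2938 L88065 q1859, e3 q2939 L88074 q1860, e3 q2940 L88082 q1956, e3 q2941 L88088 q1958, e3 q2942 L88093 q1861, e3 q2943 L88098 q1862, trivial⟩ (by decide +kernel)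

theorem ce_e_46 : ∀ r, r < 64 → sm ge (Qf (2944 + r)) = Qf (tab Gen.e (2944 + r)) :=
  edges_tab (sm ge) Qf (tab Gen.e) 2944 [(2944, 1863), (2945, 1864), (2946, 4940), (2947, 4941), (2948, 4943), (2949, 4944), (2950, 4947), (2951, 4948), (2952, 4955), (2953, 4956), (2954, 4957), (2955, 4958), (2956, 4959), (2957, 4960), (2958, 4204), (2959, 4967), (2960, 4968), (2961, 4221), (2962, 4969), (2963, 4970), (2964, 1871), (2965, 1872), (2966, 1873), (2967, 1874), (2968, 1875), (2969, 1876), (2970, 1878), (2971, 1881), (2972, 1882), (2973, 4997), (2974, 2998), (2975, 4998), (2976, 2996), (2977, 4999), (2978, 5000), (2979, 5001), (2980, 5002), (2981, 5003), (2982, 5004), (2983, 5027), (2984, 5028), (2985, 1893), (2986, 3900), (2987, 1895), (2988, 1896), (2989, 3898), (2990, 3927), (2991, 1901), (2992, 1902), (2993, 1903), (2994, 1904), (2995, 5007), (2996, 2976), (2997, 5008), (2998, 2974), (2999, 1911), (3000, 1912), (3001, 1913), (3002, 1914), (3003, 1915), (3004, 1916), (3005, 1917), (3006, 1918), (3007, 5071)]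
    ⟨e3 q2944 L88103 q1863, e3 q2945 L88108 q1864, e3 q2946 (flp_e L101839) q4940, e3 q2947 (flp_e L101849) q4941, e3 q2948 (flp_e L101865) q4943, e3 q2949 (flp_e L101869) q4944, e3 q2950 (flp_e L101893) q4947, e3 q2951 (flp_e L101897) q4948, e3 q2952 (flp_e L101956) q4955, e3 q2953 (flp_e L101963) q4956, e3 q2954 (flp_e L101967) q4957, e3 q2955 (flp_e L101972) q4958, e3 q2956 (flp_e L101979) q4959, e3 q2957 (flp_e L101983) q4960, e3 q2958 (flp_e L116050) q4204, e3 q2959 (flp_e L102129) q4967, e3 q2960 (flp_e L102138) q4968, e3 q2961 (flp_e L148974) q4221, e3 q2962 (flp_e L102151) q4969, e3 q2963 (flp_e L102160) q4970, e3 q2964 L88217 q1871, e3 q2965 L88226 q1872, e3 q2966 L88230 q1873, e3 q2967 L88234 q1874, e3 q2968 L88239 q1875, e3 q2969 L88245 q1876, e3 q2970 L88252 q1878, e3 q2971 L88261 q1881, e3 q2972 L88270 q1882, e3 q2973 (flp_e L102345) q4997, e3 q2974 (flp_e L88404) q2998, e3 q2975 (flp_e L102353) q4998, e3 q2976 (flp_e L88389) q2996, e3 q2977 (flp_e L102359) q4999, e3 q2978 (flp_e L102363) q5000, e3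 q2979 (flp_e L102369) q5001, e3 q2980 (flp_e L102373) q5002, e3 q2981 (flp_e L102377) q5003, e3 q2982 (flp_e L102383) q5004, e3 q2983 L102495 q5027, e3 q2984 L102500 q5028, e3 q2985 L88320 q1893, e3 q2986 (flp_e L119343) q3900, e3 q2987 L88332 q1895, e3 q2988 L88340 q1896, e3 q2989 (flp_e L119290) q3898, e3 q2990 L148323 q3927, e3 q2991 L88352 q1901, e3 q2992 L88360 q1902, e3 q2993 L88366 q1903, e3 q2994 L88376 q1904, e3 q2995 (flp_e L102409) q5007, e3 q2996 L88389 q2976, e3 q2997 (flp_e L102415) q5008, e3 q2998 L88404 q2974, e3 q2999 L88410 q1911, e3 q3000 L88414 q1912, e3 q3001 L88420 q1913, e3 q3002 L88424 q1914, e3 q3003 L88428 q1915, e3 q3004 L88432 q1916, e3 q3005 L88438 q1917, e3 q3006 L88442 q1918, e3 q3007 L102753 q5071, trivial⟩ (by decide +kernel)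

theorem ce_e_47 : ∀ r, r < 64 → sm ge (Qf (3008 + r)) = Qf (tab Gen.e (3008 + r)) :=
  edges_tab (sm ge) Qf (tab Gen.e) 3008 [(3008, 1921), (3009, 1922), (3010, 5075), (3011, 1925), (3012, 1926), (3013, 4832), (3014, 5029), (3015, 5030), (3016, 5081), (3017, 1894), (3018, 2385), (3019, 2402), (3020, 3902), (3021, 3930), (3022, 5082), (3023, 1897), (3024, 5086), (3025, 5087), (3026, 1899), (3027, 1900), (3028, 5092), (3029, 3972), (3030, 5093), (3031, 3942), (3032, 5035), (3033, 5036), (3034, 5037), (3035, 5038), (3036, 5039), (3037, 5040), (3038, 5041), (3039, 5042), (3040, 1907), (3041, 1908), (3042, 1909), (3043, 1910), (3044, 5116), (3045, 5117), (3046, 5118), (3047, 5119), (3048, 5120), (3049, 5121), (3050, 5122), (3051, 5123), (3052, 5051), (3053, 5052), (3054, 5053), (3055, 5143), (3056, 5055), (3057, 5056), (3058, 5057), (3059, 5058), (3060, 5059), (3061, 5060), (3062, 5061), (3063, 5062), (3064, 5063), (3065, 5162), (3066, 5065), (3067, 5066), (3068, 5067), (3069, 5068), (3070, 5069), (3071, 5070)]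
    ⟨e3 q3008 L88454 q1921, e3 q3009 L88460 q1922, e3 q3010 L102777 q5075, e3 q3011 L88474 q1925, e3 q3012 L88482 q1926, e3 q3013 (flp_e L119075) q4832, e3 q3014 (flp_e L102507) q5029, e3 q3015 (flp_e L102511) q5030, e3 q3016 L102839 q5081, e3 q3017 (flp_e L88526) q1894, e3 q3018 (flp_e L119328) q2385, e3 q3019 (flp_e L148229) q2402, e3 q3020 L119236 q3902, e3 q3021 (flp_e L148283) q3930, e3 q3022 L102904 q5082, e3 q3023 (flp_e L88552) q1897, e3 q3024 (flp_e L102934) q5086, e3 q3025 (flp_e L102940) q5087, e3 q3026 L88566 q1899, e3 q3027 L88570 q1900, e3 q3028 (flp_e L102962) q5092, e3 q3029 (flp_e L148295) q3972, e3 q3030 (flp_e L102974) q5093, e3 q3031 (flp_e L119318) q3942, e3 q3032 (flp_e L102561) q5035, e3 q3033 (flp_e L102567) q5036, e3 q3034 (flp_e L102575) q5037, e3 q3035 (flp_e L102579) q5038, e3 q3036 (flp_e L102583) q5039, e3 q3037 (flp_e L102589) q5040, e3 q3038 (flp_e L102597) q5041, e3 q3039 (flp_e L102601) q5042, e3 q3040 L88628 q1907, e3 q3041 L88636 q1908, e3 q3042 L88642 q1909, e3 q3043 L88652 q1910,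 e3 q3044 (flp_e L103088) q5116, e3 q3045 (flp_e L103092) q5117, e3 q3046 (flp_e L103096) q5118, e3 q3047 (flp_e L103102) q5119, e3 q3048 (flp_e L103106) q5120, e3 q3049 (flp_e L103110) q5121, e3 q3050 (flp_e L103114) q5122, e3 q3051 (flp_e L103120) q5123, e3 q3052 (flp_e L102639) q5051, e3 q3053 (flp_e L102645) q5052, e3 q3054 (flp_e L102651) q5053, e3 q3055 L103248 q5143, e3 q3056 (flp_e L102663) q5055, e3 q3057 (flp_e L102667) q5056, e3 q3058 (flp_e L102675) q5057, e3 q3059 (flp_e L102681) q5058, e3 q3060 (flp_e L102685) q5059, e3 q3061 (flp_e L102691) q5060, e3 q3062 (flp_e L102697) q5061, e3 q3063 (flp_e L102703) q5062, e3 q3064 (flp_e L102709) q5063, e3 q3065 L103334 q5162, e3 q3066 (flp_e L102721) q5065, e3 q3067 (flp_e L102725) q5066, e3 q3068 (flp_e L102733) q5067, e3 q3069 (flp_e L102739) q5068, e3 q3070 (flp_e L102743) q5069, e3 q3071 (flp_e L102749) q5070, trivial⟩ (by decide +kernel)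

theorem ce_e_48 : ∀ r, r < 64 → sm ge (Qf (3072 + r)) = Qf (tab Gen.e (3072 + r)) :=
  edges_tab (sm ge) Qf (tab Gen.e) 3072 [(3072, 3178), (3073, 5178), (3074, 5180), (3075, 1920), (3076, 5182), (3077, 5073), (3078, 5186), (3079, 3184), (3080, 5189), (3081, 5191), (3082, 1924), (3083, 5193), (3084, 5077), (3085, 5197), (3086, 5198), (3087, 1939), (3088, 5199), (3089, 1928), (3090, 3528), (3091, 5201), (3092, 1929), (3093, 4904), (3094, 5205), (3095, 1932), (3096, 5206), (3097, 1942), (3098, 5207), (3099, 1934), (3100, 3532), (3101, 5209), (3102, 1935), (3103, 4923), (3104, 5213), (3105, 1938), (3106, 1996), (3107, 4942), (3108, 1997), (3109, 1998), (3110, 4945), (3111, 4946), (3112, 1999), (3113, 2000), (3114, 4949), (3115, 4950), (3116, 4951), (3117, 4952), (3118, 4953), (3119, 4954), (3120, 2001), (3121, 2002), (3122, 2003), (3123, 2004), (3124, 2005), (3125, 2006), (3126, 2007), (3127, 2008), (3128, 4961), (3129, 4962), (3130, 4963), (3131, 3135), (3132, 4964), (3133, 4965), (3134, 4966), (3135, 3131)]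
    ⟨e3 q3072 (flp_e L89414) q3178, e3 q3073 L103409 q5178, e3 q3074 L103417 q5180, e3 q3075 (flp_e L88777) q1920, e3 q3076 (flp_e L103433) q5182, e3 q3077 (flp_e L102769) q5073, e3 q3078 L103447 q5186, e3 q3079 (flp_e L89455) q3184, e3 q3080 L103468 q5189, e3 q3081 L103476 q5191, e3 q3082 (flp_e L88806) q1924, e3 q3083 (flp_e L103492) q5193, e3 q3084 (flp_e L102795) q5077, e3 q3085 L103510 q5197, e3 q3086 (flp_e L120431) q5198, e3 q3087 (flp_e L138896) q1939, e3 q3088 (flp_e L119870) q5199, e3 q3089 (flp_e L88849) q1928, e3 q3090 (flp_e L119524) q3528, e3 q3091 L103572 q5201, e3 q3092 (flp_e L88869) q1929, e3 q3093 L139035 q4904, e3 q3094 L103606 q5205, e3 q3095 (flp_e L88891) q1932, e3 q3096 (flp_e L129636) q5206, e3 q3097 (flp_e L139729) q1942, e3 q3098 (flp_e L129621) q5207, e3 q3099 (flp_e L88922) q1934, e3 q3100 (flp_e L148106) q3532, e3 q3101 L103668 q5209, e3 q3102 (flp_e L88942) q1935, e3 q3103 L139764 q4923, e3 q3104 L103704 q5213, e3 q3105 (flp_e L88970) q1938, e3 q3106 L89012 q1996, e3 q3107 (flp_e L101859)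 q4942, e3 q3108 L89024 q1997, e3 q3109 L89028 q1998, e3 q3110 (flp_e L101879) q4945, e3 q3111 (flp_e L101889) q4946, e3 q3112 L89048 q1999, e3 q3113 L89052 q2000, e3 q3114 (flp_e L101907) q4949, e3 q3115 (flp_e L101917) q4950, e3 q3116 (flp_e L101923) q4951, e3 q3117 (flp_e L101931) q4952, e3 q3118 (flp_e L101939) q4953, e3 q3119 (flp_e L101949) q4954, e3 q3120 L89098 q2001, e3 q3121 L89104 q2002, e3 q3122 L89110 q2003, e3 q3123 L89114 q2004, e3 q3124 L89118 q2005, e3 q3125 L89124 q2006, e3 q3126 L89130 q2007, e3 q3127 L89134 q2008, e3 q3128 (flp_e L101989) q4961, e3 q3129 (flp_e L101997) q4962, e3 q3130 (flp_e L102007) q4963, e3 q3131 (flp_e L89164) q3135, e3 q3132 (flp_e L102013) q4964, e3 q3133 (flp_e L102108) q4965, e3 q3134 (flp_e L102118) q4966, e3 q3135 L89164 q3131, trivial⟩ (by decide +kernel)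

theorem ce_e_49 : ∀ r, r < 64 → sm ge (Qf (3136 + r)) = Qf (tab Gen.e (3136 + r)) :=
  edges_tab (sm ge) Qf (tab Gen.e) 3136 [(3136, 2009), (3137, 2010), (3138, 2011), (3139, 5281), (3140, 2013), (3141, 2014), (3142, 2015), (3143, 2016), (3144, 2017), (3145, 2018), (3146, 2019), (3147, 2020), (3148, 2021), (3149, 5303), (3150, 2023), (3151, 2024), (3152, 2025), (3153, 2026), (3154, 2027), (3155, 2028), (3156, 2029), (3157, 2030), (3158, 5323), (3159, 1970), (3160, 5324), (3161, 2035), (3162, 2036), (3163, 2037), (3164, 2038), (3165, 2039), (3166, 5336), (3167, 2041), (3168, 2042), (3169, 5343), (3170, 1978), (3171, 5344), (3172, 2047), (3173, 2048), (3174, 2049), (3175, 2050), (3176, 2051), (3177, 5356), (3178, 3072), (3179, 5360), (3180, 1994), (3181, 2635), (3182, 3516), (3183, 3517), (3184, 3079), (3185, 5370), (3186, 1995), (3187, 2637), (3188, 3518), (3189, 3519), (3190, 5361), (3191, 5371), (3192, 5215), (3193, 5216), (3194, 5219), (3195, 5220), (3196, 5221), (3197, 5222), (3198, 5225), (3199, 5226)]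
    ⟨e3 q3136 L89168 q2009, e3 q3137 L89174 q2010, e3 q3138 L89180 q2011, e3 q3139 L104119 q5281, e3 q3140 L89192 q2013, e3 q3141 L89196 q2014, e3 q3142 L89204 q2015, e3 q3143 L89210 q2016, e3 q3144 L89214 q2017, e3 q3145 L89220 q2018, e3 q3146 L89226 q2019, e3 q3147 L89232 q2020, e3 q3148 L89238 q2021, e3 q3149 L104240 q5303, e3 q3150 L89250 q2023, e3 q3151 L89254 q2024, e3 q3152 L89262 q2025, e3 q3153 L89268 q2026, e3 q3154 L89272 q2027, e3 q3155 L89278 q2028, e3 q3156 L89285 q2029, e3 q3157 L89292 q2030, e3 q3158 L104353 q5323, e3 q3159 (flp_e L89298) q1970, e3 q3160 (flp_e L104363) q5324, e3 q3161 L89308 q2035, e3 q3162 L89316 q2036, e3 q3163 L89324 q2037, e3 q3164 L89332 q2038, e3 q3165 L89340 q2039, e3 q3166 L104423 q5336, e3 q3167 L89349 q2041, e3 q3168 L89356 q2042, e3 q3169 L104458 q5343, e3 q3170 (flp_e L89362) q1978, e3 q3171 (flp_e L104468) q5344, e3 q3172 L89372 q2047, e3 q3173 L89380 q2048, e3 q3174 L89388 q2049, e3 q3175 L89398 q2050, e3 q3176 L89406 q2051, e3 q3177 L104532 q5356, e3 q3178 L89414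 q3072, e3 q3179 L104558 q5360, e3 q3180 L89429 q1994, e3 q3181 (flp_e L141631) q2635, e3 q3182 L141641 q3516, e3 q3183 L141626 q3517, e3 q3184 L89455 q3079, e3 q3185 L104641 q5370, e3 q3186 L89470 q1995, e3 q3187 L141622 q2637, e3 q3188 L141635 q3518, e3 q3189 (flp_e L141613) q3519, e3 q3190 (flp_e L104570) q5361, e3 q3191 (flp_e L104653) q5371, e3 q3192 (flp_e L103740) q5215, e3 q3193 (flp_e L103748) q5216, e3 q3194 (flp_e L103764) q5219, e3 q3195 (flp_e L103770) q5220, e3 q3196 (flp_e L103776) q5221, e3 q3197 (flp_e L103786) q5222, e3 q3198 (flp_e L103800) q5225, e3 q3199 (flp_e L103804) q5226, trivial⟩ (by decide +kernel)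

theorem ce_e_50 : ∀ r, r < 64 → sm ge (Qf (3200 + r)) = Qf (tab Gen.e (3200 + r)) :=
  edges_tab (sm ge) Qf (tab Gen.e) 3200 [(3200, 5227), (3201, 5228), (3202, 5229), (3203, 5230), (3204, 5241), (3205, 5242), (3206, 5401), (3207, 5244), (3208, 5245), (3209, 5246), (3210, 5247), (3211, 5248), (3212, 5249), (3213, 5250), (3214, 5417), (3215, 5252), (3216, 5253), (3217, 5254), (3218, 5255), (3219, 5256), (3220, 5273), (3221, 5274), (3222, 5275), (3223, 5276), (3224, 5277), (3225, 5442), (3226, 5279), (3227, 5280), (3228, 2012), (3229, 5448), (3230, 5283), (3231, 5284), (3232, 5285), (3233, 5286), (3234, 5287), (3235, 5288), (3236, 5289), (3237, 5290), (3238, 5291), (3239, 5471), (3240, 5293), (3241, 5294), (3242, 5295), (3243, 5296), (3244, 5297), (3245, 5298), (3246, 5299), (3247, 5486), (3248, 5301), (3249, 5302), (3250, 2022), (3251, 5492), (3252, 5305), (3253, 5306), (3254, 5307), (3255, 5308), (3256, 5309), (3257, 5310), (3258, 5311), (3259, 5312), (3260, 5313), (3261, 5511), (3262, 5315), (3263, 5316)]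
    ⟨e3 q3200 (flp_e L103808) q5227, e3 q3201 (flp_e L103812) q5228, e3 q3202 (flp_e L103816) q5229, e3 q3203 (flp_e L103820) q5230, e3 q3204 (flp_e L103889) q5241, e3 q3205 (flp_e L103895) q5242, e3 q3206 L104907 q5401, e3 q3207 (flp_e L103907) q5244, e3 q3208 (flp_e L103911) q5245, e3 q3209 (flp_e L103917) q5246, e3 q3210 (flp_e L103921) q5247, e3 q3211 (flp_e L103925) q5248, e3 q3212 (flp_e L103931) q5249, e3 q3213 (flp_e L103937) q5250, e3 q3214 L104971 q5417, e3 q3215 (flp_e L103949) q5252, e3 q3216 (flp_e L103953) q5253, e3 q3217 (flp_e L103959) q5254, e3 q3218 (flp_e L103963) q5255, e3 q3219 (flp_e L103967) q5256, e3 q3220 (flp_e L104083) q5273, e3 q3221 (flp_e L104087) q5274, e3 q3222 (flp_e L104091) q5275, e3 q3223 (flp_e L104095) q5276, e3 q3224 (flp_e L104099) q5277, e3 q3225 L105073 q5442, e3 q3226 (flp_e L104111) q5279, e3 q3227 (flp_e L104117) q5280, e3 q3228 (flp_e L89708) q2012, e3 q3229 (flp_e L105101) q5448, e3 q3230 (flp_e L104131) q5283, e3 q3231 (flp_e L104141) q5284, e3 q3232 (flp_e L104147)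 q5285, e3 q3233 (flp_e L104153) q5286, e3 q3234 (flp_e L104159) q5287, e3 q3235 (flp_e L104163) q5288, e3 q3236 (flp_e L104167) q5289, e3 q3237 (flp_e L104173) q5290, e3 q3238 (flp_e L104179) q5291, e3 q3239 L105187 q5471, e3 q3240 (flp_e L104191) q5293, e3 q3241 (flp_e L104198) q5294, e3 q3242 (flp_e L104204) q5295, e3 q3243 (flp_e L104208) q5296, e3 q3244 (flp_e L104212) q5297, e3 q3245 (flp_e L104216) q5298, e3 q3246 (flp_e L104220) q5299, e3 q3247 L105266 q5486, e3 q3248 (flp_e L104232) q5301, e3 q3249 (flp_e L104238) q5302, e3 q3250 (flp_e L89793) q2022, e3 q3251 (flp_e L105294) q5492, e3 q3252 (flp_e L104252) q5305, e3 q3253 (flp_e L104262) q5306, e3 q3254 (flp_e L104268) q5307, e3 q3255 (flp_e L104274) q5308, e3 q3256 (flp_e L104280) q5309, e3 q3257 (flp_e L104284) q5310, e3 q3258 (flp_e L104288) q5311, e3 q3259 (flp_e L104294) q5312, e3 q3260 (flp_e L104300) q5313, e3 q3261 L105394 q5511, e3 q3262 (flp_e L104312) q5315, e3 q3263 (flp_e L104319) q5316, trivial⟩ (by decide +kernel)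

theorem ce_e_51 : ∀ r, r < 64 → sm ge (Qf (3264 + r)) = Qf (tab Gen.e (3264 + r)) :=
  edges_tab (sm ge) Qf (tab Gen.e) 3264 [(3264, 5317), (3265, 5517), (3266, 5319), (3267, 5521), (3268, 5321), (3269, 5322), (3270, 2031), (3271, 5525), (3272, 2032), (3273, 5529), (3274, 2034), (3275, 5531), (3276, 5532), (3277, 5327), (3278, 5328), (3279, 5329), (3280, 5330), (3281, 5331), (3282, 5549), (3283, 5333), (3284, 5554), (3285, 5556), (3286, 2040), (3287, 5337), (3288, 5561), (3289, 5339), (3290, 5565), (3291, 5341), (3292, 5342), (3293, 2043), (3294, 5569), (3295, 2044), (3296, 5573), (3297, 2046), (3298, 5575), (3299, 5576), (3300, 5347), (3301, 5348), (3302, 5349), (3303, 5350), (3304, 5351), (3305, 5593), (3306, 5353), (3307, 5598), (3308, 5600), (3309, 2052), (3310, 5602), (3311, 2053), (3312, 5607), (3313, 5610), (3314, 2055), (3315, 3568), (3316, 5612), (3317, 2056), (3318, 5617), (3319, 5616), (3320, 2058), (3321, 5620), (3322, 5621), (3323, 2060), (3324, 2061), (3325, 2443), (3326, 5626), (3327, 4834)]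
    ⟨e3 q3264 (flp_e L104325) q5317, e3 q3265 L105436 q5517, e3 q3266 (flp_e L104339) q5319, e3 q3267 L105457 q5521, e3 q3268 (flp_e L104347) q5321, e3 q3269 (flp_e L104351) q5322, e3 q3270 (flp_e L89883) q2031, e3 q3271 L105481 q5525, e3 q3272 (flp_e L89889) q2032, e3 q3273 (flp_e L105495) q5529, e3 q3274 L89901 q2034, e3 q3275 (flp_e L105503) q5531, e3 q3276 (flp_e L105509) q5532, e3 q3277 (flp_e L104381) q5327, e3 q3278 (flp_e L104385) q5328, e3 q3279 (flp_e L104391) q5329, e3 q3280 (flp_e L104395) q5330, e3 q3281 (flp_e L104401) q5331, e3 q3282 L105577 q5549, e3 q3283 (flp_e L104413) q5333, e3 q3284 L105592 q5554, e3 q3285 L105599 q5556, e3 q3286 (flp_e L89947) q2040, e3 q3287 (flp_e L104430) q5337, e3 q3288 L105623 q5561, e3 q3289 (flp_e L104444) q5339, e3 q3290 L105644 q5565, e3 q3291 (flp_e L104452) q5341, e3 q3292 (flp_e L104456) q5342, e3 q3293 (flp_e L89971) q2043, e3 q3294 L105668 q5569, e3 q3295 (flp_e L89977) q2044, e3 q3296 (flp_e L105682) q5573, e3 q3297 L89989 q2046, e3 q3298 (flp_e L105690) q5575,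 e3 q3299 (flp_e L105696) q5576, e3 q3300 (flp_e L104486) q5347, e3 q3301 (flp_e L104490) q5348, e3 q3302 (flp_e L104496) q5349, e3 q3303 (flp_e L104500) q5350, e3 q3304 (flp_e L104508) q5351, e3 q3305 L105772 q5593, e3 q3306 (flp_e L104520) q5353, e3 q3307 L105793 q5598, e3 q3308 L105800 q5600, e3 q3309 (flp_e L90039) q2052, e3 q3310 L105810 q5602, e3 q3311 (flp_e L90047) q2053, e3 q3312 L105839 q5607, e3 q3313 L105861 q5610, e3 q3314 (flp_e L90061) q2055, e3 q3315 L119672 q3568, e3 q3316 (flp_e L105887) q5612, e3 q3317 (flp_e L90075) q2056, e3 q3318 (flp_e L105919) q5617, e3 q3319 (flp_e L105911) q5616, e3 q3320 L90095 q2058, e3 q3321 (flp_e L105939) q5620, e3 q3322 (flp_e L105947) q5621, e3 q3323 L90111 q2060, e3 q3324 L90121 q2061, e3 q3325 L141123 q2443, e3 q3326 (flp_e L105973) q5626, e3 q3327 L141816 q4834, trivial⟩ (by decide +kernel)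

theorem ce_e_52 : ∀ r, r < 64 → sm ge (Qf (3328 + r)) = Qf (tab Gen.e (3328 + r)) :=
  edges_tab (sm ge) Qf (tab Gen.e) 3328 [(3328, 2238), (3329, 5634), (3330, 5637), (3331, 2067), (3332, 5639), (3333, 2069), (3334, 5644), (3335, 5647), (3336, 2071), (3337, 5614), (3338, 3578), (3339, 2072), (3340, 5651), (3341, 5650), (3342, 2074), (3343, 5615), (3344, 5654), (3345, 2076), (3346, 2077), (3347, 2473), (3348, 5659), (3349, 4863), (3350, 2242), (3351, 5667), (3352, 5670), (3353, 2083), (3354, 5672), (3355, 2085), (3356, 5674), (3357, 5675), (3358, 4007), (3359, 2087), (3360, 2088), (3361, 5678), (3362, 5679), (3363, 5656), (3364, 4020), (3365, 2091), (3366, 5685), (3367, 5686), (3368, 5687), (3369, 2094), (3370, 3372), (3371, 5698), (3372, 3370), (3373, 5702), (3374, 2096), (3375, 5706), (3376, 5707), (3377, 2464), (3378, 5711), (3379, 2098), (3380, 5713), (3381, 5714), (3382, 4054), (3383, 2100), (3384, 2101), (3385, 5682), (3386, 5623), (3387, 5717), (3388, 4066), (3389, 2104), (3390, 5721), (3391, 5683)]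
    ⟨e3 q3328 L141767 q2238, e3 q3329 L106099 q5634, e3 q3330 L106114 q5637, e3 q3331 (flp_e L90213) q2067, e3 q3332 L106129 q5639, e3 q3333 (flp_e L90223) q2069, e3 q3334 L106158 q5644, e3 q3335 L106180 q5647, e3 q3336 (flp_e L90237) q2071, e3 q3337 (flp_e L147899) q5614, e3 q3338 (flp_e L147881) q3578, e3 q3339 (flp_e L90251) q2072, e3 q3340 (flp_e L106238) q5651, e3 q3341 (flp_e L106230) q5650, e3 q3342 L90271 q2074, e3 q3343 (flp_e L149301) q5615, e3 q3344 (flp_e L106266) q5654, e3 q3345 L90287 q2076, e3 q3346 L90297 q2077, e3 q3347 L142027 q2473, e3 q3348 (flp_e L106292) q5659, e3 q3349 (flp_e L133407) q4863, e3 q3350 L133448 q2242, e3 q3351 L106422 q5667, e3 q3352 L106437 q5670, e3 q3353 (flp_e L90397) q2083, e3 q3354 L106621 q5672, e3 q3355 (flp_e L90602) q2085, e3 q3356 (flp_e L106637) q5674, e3 q3357 (flp_e L106643) q5675, e3 q3358 L120208 q4007, e3 q3359 L90620 q2087, e3 q3360 L90626 q2088, e3 q3361 (flp_e L106663) q5678, e3 q3362 (flp_e L106669) q5679, e3 q3363 (flp_e L150522) q5656, e3 q3364 (flp_e L94562)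 q4020, e3 q3365 L90648 q2091, e3 q3366 (flp_e L106703) q5685, e3 q3367 (flp_e L106707) q5686, e3 q3368 (flp_e L106713) q5687, e3 q3369 L90666 q2094, e3 q3370 (flp_e L139154) q3372, e3 q3371 L106789 q5698, e3 q3372 L139154 q3370, e3 q3373 L106803 q5702, e3 q3374 (flp_e L90698) q2096, e3 q3375 (flp_e L106827) q5706, e3 q3376 (flp_e L106833) q5707, e3 q3377 L90718 q2464, e3 q3378 L106853 q5711, e3 q3379 (flp_e L90722) q2098, e3 q3380 (flp_e L106869) q5713, e3 q3381 (flp_e L106875) q5714, e3 q3382 L146466 q4054, e3 q3383 L90740 q2100, e3 q3384 L90744 q2101, e3 q3385 (flp_e L149281) q5682, e3 q3386 (flp_e L149271) q5623, e3 q3387 (flp_e L106909) q5717, e3 q3388 (flp_e L94841) q4066, e3 q3389 L90772 q2104, e3 q3390 (flp_e L106935) q5721, e3 q3391 (flp_e L150586) q5683, trivial⟩ (by decide +kernel)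

theorem ce_e_53 : ∀ r, r < 64 → sm ge (Qf (3392 + r)) = Qf (tab Gen.e (3392 + r)) :=
  edges_tab (sm ge) Qf (tab Gen.e) 3392 [(3392, 5722), (3393, 2107), (3394, 3396), (3395, 5731), (3396, 3394), (3397, 5735), (3398, 2109), (3399, 5739), (3400, 5740), (3401, 2434), (3402, 2112), (3403, 2114), (3404, 2115), (3405, 2921), (3406, 5743), (3407, 5744), (3408, 2924), (3409, 2925), (3410, 2926), (3411, 5745), (3412, 5746), (3413, 2125), (3414, 2127), (3415, 2128), (3416, 2302), (3417, 2303), (3418, 2133), (3419, 2134), (3420, 2135), (3421, 2136), (3422, 2121), (3423, 2122), (3424, 5772), (3425, 5773), (3426, 2141), (3427, 2142), (3428, 2143), (3429, 2144), (3430, 2126), (3431, 5758), (3432, 5759), (3433, 4429), (3434, 5786), (3435, 5787), (3436, 5760), (3437, 5761), (3438, 5799), (3439, 2129), (3440, 5802), (3441, 5803), (3442, 2131), (3443, 2132), (3444, 5806), (3445, 5807), (3446, 5808), (3447, 5809), (3448, 5766), (3449, 5767), (3450, 5768), (3451, 5769), (3452, 5770), (3453, 5771), (3454, 2139), (3455, 2140)]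
    ⟨e3 q3392 (flp_e L106945) q5722, e3 q3393 L90792 q2107, e3 q3394 L141829 q3396, e3 q3395 L107011 q5731, e3 q3396 (flp_e L141829) q3394, e3 q3397 L107025 q5735, e3 q3398 (flp_e L90824) q2109, e3 q3399 (flp_e L107049) q5739, e3 q3400 (flp_e L107055) q5740, e3 q3401 L90848 q2434, e3 q3402 L90896 q2112, e3 q3403 L90906 q2114, e3 q3404 L90915 q2115, e3 q3405 L90924 q2921, e3 q3406 (flp_e L107093) q5743, e3 q3407 (flp_e L107103) q5744, e3 q3408 L90940 q2924, e3 q3409 L90947 q2925, e3 q3410 L90954 q2926, e3 q3411 (flp_e L107111) q5745, e3 q3412 (flp_e L107123) q5746, e3 q3413 L90973 q2125, e3 q3414 L90985 q2127, e3 q3415 L90991 q2128, e3 q3416 L90999 q2302, e3 q3417 L91007 q2303, e3 q3418 L91011 q2133, e3 q3419 L91018 q2134, e3 q3420 L91024 q2135, e3 q3421 L91033 q2136, e3 q3422 L91045 q2121, e3 q3423 L91055 q2122, e3 q3424 (flp_e L107292) q5772, e3 q3425 (flp_e L107304) q5773, e3 q3426 L91068 q2141, e3 q3427 L91073 q2142, e3 q3428 L91078 q2143, e3 q3429 L91083 q2144, e3 q3430 L91091 q2126, e3 q3431 (flp_e L107198)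 q5758, e3 q3432 (flp_e L107208) q5759, e3 q3433 L96957 q4429, e3 q3434 (flp_e L107390) q5786, e3 q3435 (flp_e L107398) q5787, e3 q3436 (flp_e L107212) q5760, e3 q3437 (flp_e L107216) q5761, e3 q3438 L107457 q5799, e3 q3439 (flp_e L91129) q2129, e3 q3440 (flp_e L107475) q5802, e3 q3441 (flp_e L107481) q5803, e3 q3442 L91147 q2131, e3 q3443 L91153 q2132, e3 q3444 (flp_e L107509) q5806, e3 q3445 (flp_e L107517) q5807, e3 q3446 (flp_e L107525) q5808, e3 q3447 (flp_e L107535) q5809, e3 q3448 (flp_e L107259) q5766, e3 q3449 (flp_e L107266) q5767, e3 q3450 (flp_e L107270) q5768, e3 q3451 (flp_e L107275) q5769, e3 q3452 (flp_e L107282) q5770, e3 q3453 (flp_e L107286) q5771, e3 q3454 L91203 q2139, e3 q3455 L91207 q2140, trivial⟩ (by decide +kernel)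

theorem ce_e_54 : ∀ r, r < 64 → sm ge (Qf (3456 + r)) = Qf (tab Gen.e (3456 + r)) :=
  edges_tab (sm ge) Qf (tab Gen.e) 3456 [(3456, 5822), (3457, 5823), (3458, 5824), (3459, 5825), (3460, 5826), (3461, 5827), (3462, 5780), (3463, 5781), (3464, 5782), (3465, 5783), (3466, 5784), (3467, 5785), (3468, 2177), (3469, 2178), (3470, 2183), (3471, 2184), (3472, 2185), (3473, 2186), (3474, 2187), (3475, 2188), (3476, 2189), (3477, 2190), (3478, 2153), (3479, 2154), (3480, 2155), (3481, 2156), (3482, 2674), (3483, 2673), (3484, 5868), (3485, 5869), (3486, 2693), (3487, 2692), (3488, 5870), (3489, 5871), (3490, 2207), (3491, 2208), (3492, 2209), (3493, 5899), (3494, 2211), (3495, 2212), (3496, 2213), (3497, 2214), (3498, 2215), (3499, 2216), (3500, 2217), (3501, 2218), (3502, 2219), (3503, 5921), (3504, 2221), (3505, 2222), (3506, 2223), (3507, 2224), (3508, 2225), (3509, 2226), (3510, 2165), (3511, 2229), (3512, 5937), (3513, 2168), (3514, 2233), (3515, 5941), (3516, 3182), (3517, 3183), (3518, 3188), (3519, 3189)]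
    ⟨e3 q3456 (flp_e L107607) q5822, e3 q3457 (flp_e L107611) q5823, e3 q3458 (flp_e L107617) q5824, e3 q3459 (flp_e L107621) q5825, e3 q3460 (flp_e L107625) q5826, e3 q3461 (flp_e L107631) q5827, e3 q3462 (flp_e L107342) q5780, e3 q3463 (flp_e L107349) q5781, e3 q3464 (flp_e L107358) q5782, e3 q3465 (flp_e L107364) q5783, e3 q3466 (flp_e L107371) q5784, e3 q3467 (flp_e L107380) q5785, e3 q3468 L91269 q2177, e3 q3469 L91277 q2178, e3 q3470 L91283 q2183, e3 q3471 L91289 q2184, e3 q3472 L91297 q2185, e3 q3473 L91301 q2186, e3 q3474 L91305 q2187, e3 q3475 L91311 q2188, e3 q3476 L91319 q2189, e3 q3477 L91325 q2190, e3 q3478 L91331 q2153, e3 q3479 L91339 q2154, e3 q3480 L91347 q2155, e3 q3481 L91359 q2156, e3 q3482 (flp_e L91637) q2674, e3 q3483 L91644 q2673, e3 q3484 (flp_e L107881) q5868, e3 q3485 (flp_e L107887) q5869, e3 q3486 (flp_e L150452) q2693, e3 q3487 (flp_e L150347) q2692, e3 q3488 (flp_e L107907) q5870, e3 q3489 (flp_e L107913) q5871, e3 q3490 L91393 q2207, e3 q3491 L91399 q2208, e3 q3492 L91405 q2209, e3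 q3493 L108065 q5899, e3 q3494 L91417 q2211, e3 q3495 L91421 q2212, e3 q3496 L91429 q2213, e3 q3497 L91435 q2214, e3 q3498 L91439 q2215, e3 q3499 L91445 q2216, e3 q3500 L91451 q2217, e3 q3501 L91457 q2218, e3 q3502 L91463 q2219, e3 q3503 L108184 q5921, e3 q3504 L91475 q2221, e3 q3505 L91479 q2222, e3 q3506 L91487 q2223, e3 q3507 L91493 q2224, e3 q3508 L91497 q2225, e3 q3509 L91503 q2226, e3 q3510 (flp_e L91507) q2165, e3 q3511 L91519 q2229, e3 q3512 L108275 q5937, e3 q3513 (flp_e L91525) q2168, e3 q3514 L91537 q2233, e3 q3515 L108294 q5941, e3 q3516 (flp_e L141641) q3182, e3 q3517 (flp_e L141626) q3183, e3 q3518 (flp_e L141635) q3188, e3 q3519 L141613 q3189, trivial⟩ (by decide +kernel)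

theorem ce_e_55 : ∀ r, r < 64 → sm ge (Qf (3520 + r)) = Qf (tab Gen.e (3520 + r)) :=
  edges_tab (sm ge) Qf (tab Gen.e) 3520 [(3520, 2179), (3521, 2181), (3522, 5846), (3523, 5847), (3524, 5848), (3525, 5849), (3526, 5850), (3527, 5851), (3528, 3090), (3529, 3644), (3530, 5948), (3531, 3535), (3532, 3100), (3533, 3653), (3534, 5949), (3535, 3531), (3536, 5852), (3537, 5853), (3538, 5965), (3539, 5855), (3540, 5856), (3541, 5857), (3542, 5858), (3543, 5859), (3544, 5860), (3545, 5861), (3546, 5980), (3547, 5863), (3548, 5864), (3549, 5865), (3550, 5866), (3551, 5867), (3552, 2193), (3553, 2194), (3554, 3555), (3555, 3554), (3556, 5992), (3557, 3558), (3558, 3557), (3559, 5993), (3560, 2199), (3561, 2200), (3562, 2201), (3563, 2202), (3564, 2203), (3565, 2204), (3566, 2205), (3567, 2206), (3568, 3315), (3569, 3647), (3570, 5998), (3571, 6012), (3572, 5999), (3573, 6000), (3574, 5200), (3575, 6001), (3576, 6002), (3577, 6003), (3578, 3338), (3579, 3657), (3580, 6004), (3581, 6028), (3582, 6005), (3583, 6006)]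
    ⟨e3 q3520 L91609 q2179, e3 q3521 L91617 q2181, e3 q3522 (flp_e L107731) q5846, e3 q3523 (flp_e L107741) q5847, e3 q3524 (flp_e L107751) q5848, e3 q3525 (flp_e L107757) q5849, e3 q3526 (flp_e L107763) q5850, e3 q3527 (flp_e L107773) q5851, e3 q3528 L119524 q3090, e3 q3529 (flp_e L119456) q3644, e3 q3530 (flp_e L108421) q5948, e3 q3531 (flp_e L91704) q3535, e3 q3532 L148106 q3100, e3 q3533 L148114 q3653, e3 q3534 (flp_e L108443) q5949, e3 q3535 L91704 q3531, e3 q3536 (flp_e L107777) q5852, e3 q3537 (flp_e L107783) q5853, e3 q3538 L108599 q5965, e3 q3539 (flp_e L107797) q5855, e3 q3540 (flp_e L107801) q5856, e3 q3541 (flp_e L107807) q5857, e3 q3542 (flp_e L107811) q5858, e3 q3543 (flp_e L107817) q5859, e3 q3544 (flp_e L107823) q5860, e3 q3545 (flp_e L107829) q5861, e3 q3546 L108671 q5980, e3 q3547 (flp_e L107843) q5863, e3 q3548 (flp_e L107849) q5864, e3 q3549 (flp_e L107857) q5865, e3 q3550 (flp_e L107861) q5866, e3 q3551 (flp_e L107869) q5867, e3 q3552 L91774 q2193, e3 q3553 L91782 q2194, e3 q3554 (flp_e L118983)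 q3555, e3 q3555 L118983 q3554, e3 q3556 (flp_e L108741) q5992, e3 q3557 L148174 q3558, e3 q3558 (flp_e L148174) q3557, e3 q3559 (flp_e L108763) q5993, e3 q3560 L91814 q2199, e3 q3561 L91818 q2200, e3 q3562 L91822 q2201, e3 q3563 L91826 q2202, e3 q3564 L91830 q2203, e3 q3565 L91834 q2204, e3 q3566 L91838 q2205, e3 q3567 L91842 q2206, e3 q3568 (flp_e L119672) q3315, e3 q3569 L119484 q3647, e3 q3570 (flp_e L108851) q5998, e3 q3571 L108985 q6012, e3 q3572 (flp_e L108861) q5999, e3 q3573 (flp_e L108865) q6000, e3 q3574 (flp_e L119515) q5200, e3 q3575 (flp_e L108881) q6001, e3 q3576 (flp_e L108885) q6002, e3 q3577 (flp_e L108889) q6003, e3 q3578 L147881 q3338, e3 q3579 (flp_e L148128) q3657, e3 q3580 (flp_e L108909) q6004, e3 q3581 L109083 q6028, e3 q3582 (flp_e L108919) q6005, e3 q3583 (flp_e L108923) q6006, trivial⟩ (by decide +kernel)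

theorem ce_e_56 : ∀ r, r < 64 → sm ge (Qf (3584 + r)) = Qf (tab Gen.e (3584 + r)) :=
  edges_tab (sm ge) Qf (tab Gen.e) 3584 [(3584, 5208), (3585, 6007), (3586, 6008), (3587, 6009), (3588, 5890), (3589, 5891), (3590, 5892), (3591, 5893), (3592, 5894), (3593, 6048), (3594, 5896), (3595, 5897), (3596, 6054), (3597, 2210), (3598, 6056), (3599, 5901), (3600, 5902), (3601, 5903), (3602, 5904), (3603, 5905), (3604, 5906), (3605, 5907), (3606, 5908), (3607, 6076), (3608, 5910), (3609, 5911), (3610, 5912), (3611, 5913), (3612, 5914), (3613, 5915), (3614, 5916), (3615, 6086), (3616, 5918), (3617, 5919), (3618, 6092), (3619, 2220), (3620, 6094), (3621, 5923), (3622, 5924), (3623, 5925), (3624, 5926), (3625, 5927), (3626, 5928), (3627, 5929), (3628, 5930), (3629, 6114), (3630, 5932), (3631, 5933), (3632, 6118), (3633, 2227), (3634, 5934), (3635, 6124), (3636, 6126), (3637, 2230), (3638, 6127), (3639, 2231), (3640, 5938), (3641, 6133), (3642, 6135), (3643, 2234), (3644, 3529), (3645, 6139), (3646, 2235), (3647, 3569)]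
    ⟨e3 q3584 (flp_e L147772) q5208, e3 q3585 (flp_e L108939) q6007, e3 q3586 (flp_e L108943) q6008, e3 q3587 (flp_e L108947) q6009, e3 q3588 (flp_e L108025) q5890, e3 q3589 (flp_e L108029) q5891, e3 q3590 (flp_e L108033) q5892, e3 q3591 (flp_e L108037) q5893, e3 q3592 (flp_e L108041) q5894, e3 q3593 L109203 q6048, e3 q3594 (flp_e L108053) q5896, e3 q3595 (flp_e L108059) q5897, e3 q3596 L109235 q6054, e3 q3597 (flp_e L91966) q2210, e3 q3598 (flp_e L109245) q6056, e3 q3599 (flp_e L108081) q5901, e3 q3600 (flp_e L108087) q5902, e3 q3601 (flp_e L108093) q5903, e3 q3602 (flp_e L108099) q5904, e3 q3603 (flp_e L108103) q5905, e3 q3604 (flp_e L108107) q5906, e3 q3605 (flp_e L108113) q5907, e3 q3606 (flp_e L108119) q5908, e3 q3607 L109315 q6076, e3 q3608 (flp_e L108131) q5910, e3 q3609 (flp_e L108138) q5911, e3 q3610 (flp_e L108144) q5912, e3 q3611 (flp_e L108148) q5913, e3 q3612 (flp_e L108152) q5914, e3 q3613 (flp_e L108156) q5915, e3 q3614 (flp_e L108160) q5916, e3 q3615 L109392 q6086, e3 q3616 (flp_e L108172) q5918,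 e3 q3617 (flp_e L108178) q5919, e3 q3618 L109424 q6092, e3 q3619 (flp_e L92047) q2220, e3 q3620 (flp_e L109434) q6094, e3 q3621 (flp_e L108200) q5923, e3 q3622 (flp_e L108206) q5924, e3 q3623 (flp_e L108212) q5925, e3 q3624 (flp_e L108218) q5926, e3 q3625 (flp_e L108222) q5927, e3 q3626 (flp_e L108226) q5928, e3 q3627 (flp_e L108232) q5929, e3 q3628 (flp_e L108238) q5930, e3 q3629 L109502 q6114, e3 q3630 (flp_e L108250) q5932, e3 q3631 (flp_e L108257) q5933, e3 q3632 L109527 q6118, e3 q3633 (flp_e L92106) q2227, e3 q3634 (flp_e L108263) q5934, e3 q3635 L109570 q6124, e3 q3636 L109577 q6126, e3 q3637 (flp_e L92126) q2230, e3 q3638 L109586 q6127, e3 q3639 (flp_e L92133) q2231, e3 q3640 (flp_e L108282) q5938, e3 q3641 L109629 q6133, e3 q3642 L109636 q6135, e3 q3643 (flp_e L92153) q2234, e3 q3644 L119456 q3529, e3 q3645 L109663 q6139, e3 q3646 (flp_e L92162) q2235, e3 q3647 (flp_e L119484) q3569, trivial⟩ (by decide +kernel)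

theorem ce_e_57 : ∀ r, r < 64 → sm ge (Qf (3648 + r)) = Qf (tab Gen.e (3648 + r)) :=
  edges_tab (sm ge) Qf (tab Gen.e) 3648 [(3648, 6015), (3649, 2236), (3650, 6143), (3651, 5631), (3652, 6148), (3653, 3533), (3654, 6152), (3655, 2239), (3656, 6031), (3657, 3579), (3658, 2240), (3659, 6156), (3660, 5664), (3661, 6161), (3662, 2300), (3663, 2301), (3664, 2500), (3665, 2501), (3666, 2304), (3667, 2305), (3668, 2306), (3669, 2307), (3670, 2506), (3671, 2508), (3672, 2509), (3673, 2510), (3674, 2511), (3675, 2308), (3676, 2309), (3677, 2310), (3678, 2311), (3679, 2312), (3680, 2313), (3681, 2520), (3682, 2521), (3683, 2522), (3684, 2523), (3685, 2524), (3686, 2525), (3687, 2526), (3688, 2527), (3689, 2528), (3690, 2529), (3691, 2530), (3692, 2531), (3693, 2314), (3694, 2315), (3695, 6220), (3696, 2317), (3697, 2318), (3698, 2319), (3699, 2320), (3700, 2321), (3701, 2322), (3702, 2323), (3703, 6239), (3704, 2325), (3705, 2326), (3706, 2327), (3707, 2328), (3708, 2329), (3709, 2548), (3710, 2549), (3711, 2550)]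
    ⟨e3 q3648 (flp_e L119693) q6015, e3 q3649 (flp_e L92172) q2236, e3 q3650 (flp_e L109711) q6143, e3 q3651 (flp_e L141787) q5631, e3 q3652 L109762 q6148, e3 q3653 (flp_e L148114) q3533, e3 q3654 L109794 q6152, e3 q3655 (flp_e L92235) q2239, e3 q3656 (flp_e L147758) q6031, e3 q3657 L148128 q3579, e3 q3658 (flp_e L92245) q2240, e3 q3659 (flp_e L109842) q6156, e3 q3660 (flp_e L133459) q5664, e3 q3661 L109893 q6161, e3 q3662 L92422 q2300, e3 q3663 L92428 q2301, e3 q3664 L92434 q2500, e3 q3665 L92440 q2501, e3 q3666 L92444 q2304, e3 q3667 L92450 q2305, e3 q3668 L92456 q2306, e3 q3669 L92464 q2307, e3 q3670 L92471 q2506, e3 q3671 L92480 q2508, e3 q3672 L92489 q2509, e3 q3673 L92495 q2510, e3 q3674 L92501 q2511, e3 q3675 L92505 q2308, e3 q3676 L92513 q2309, e3 q3677 L92519 q2310, e3 q3678 L92523 q2311, e3 q3679 L92527 q2312, e3 q3680 L92531 q2313, e3 q3681 L92536 q2520, e3 q3682 L92544 q2521, e3 q3683 L92551 q2522, e3 q3684 L92561 q2523, e3 q3685 L92569 q2524, e3 q3686 L92575 q2525, e3 q3687 L92583 q2526, e3 q3688 L92589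 q2527, e3 q3689 L92595 q2528, e3 q3690 L92601 q2529, e3 q3691 L92609 q2530, e3 q3692 L92615 q2531, e3 q3693 L92619 q2314, e3 q3694 L92625 q2315, e3 q3695 L110431 q6220, e3 q3696 L92637 q2317, e3 q3697 L92641 q2318, e3 q3698 L92647 q2319, e3 q3699 L92651 q2320, e3 q3700 L92655 q2321, e3 q3701 L92661 q2322, e3 q3702 L92667 q2323, e3 q3703 L110531 q6239, e3 q3704 L92679 q2325, e3 q3705 L92683 q2326, e3 q3706 L92689 q2327, e3 q3707 L92693 q2328, e3 q3708 L92697 q2329, e3 q3709 L92705 q2548, e3 q3710 L92711 q2549, e3 q3711 L92719 q2550, trivial⟩ (by decide +kernel)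

theorem ce_e_58 : ∀ r, r < 64 → sm ge (Qf (3712 + r)) = Qf (tab Gen.e (3712 + r)) :=
  edges_tab (sm ge) Qf (tab Gen.e) 3712 [(3712, 6258), (3713, 2552), (3714, 2554), (3715, 2558), (3716, 2559), (3717, 2560), (3718, 6270), (3719, 2562), (3720, 2564), (3721, 2330), (3722, 2331), (3723, 2332), (3724, 2333), (3725, 6284), (3726, 2335), (3727, 2336), (3728, 6291), (3729, 2275), (3730, 6293), (3731, 2340), (3732, 2341), (3733, 2342), (3734, 2343), (3735, 2344), (3736, 2345), (3737, 2346), (3738, 6311), (3739, 2348), (3740, 2349), (3741, 6318), (3742, 2281), (3743, 6320), (3744, 2353), (3745, 2354), (3746, 2355), (3747, 2356), (3748, 6334), (3749, 2358), (3750, 2359), (3751, 2285), (3752, 2362), (3753, 2288), (3754, 6342), (3755, 2368), (3756, 2369), (3757, 2370), (3758, 6354), (3759, 2372), (3760, 2373), (3761, 2291), (3762, 2376), (3763, 2294), (3764, 6362), (3765, 2382), (3766, 2383), (3767, 2817), (3768, 6374), (3769, 2820), (3770, 2738), (3771, 2297), (3772, 2837), (3773, 6384), (3774, 2789), (3775, 2840)]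
    ⟨e3 q3712 L110637 q6258, e3 q3713 L92730 q2552, e3 q3714 L92738 q2554, e3 q3715 L92746 q2558, e3 q3716 L92752 q2559, e3 q3717 L92760 q2560, e3 q3718 L110705 q6270, e3 q3719 L92771 q2562, e3 q3720 L92779 q2564, e3 q3721 L92785 q2330, e3 q3722 L92793 q2331, e3 q3723 L92797 q2332, e3 q3724 L92801 q2333, e3 q3725 L110803 q6284, e3 q3726 L92817 q2335, e3 q3727 L92823 q2336, e3 q3728 L110843 q6291, e3 q3729 (flp_e L92827) q2275, e3 q3730 (flp_e L110855) q6293, e3 q3731 L92839 q2340, e3 q3732 L92849 q2341, e3 q3733 L92855 q2342, e3 q3734 L92859 q2343, e3 q3735 L92869 q2344, e3 q3736 L92873 q2345, e3 q3737 L92877 q2346, e3 q3738 L110971 q6311, e3 q3739 L92889 q2348, e3 q3740 L92895 q2349, e3 q3741 L111011 q6318, e3 q3742 (flp_e L92899) q2281, e3 q3743 (flp_e L111023) q6320, e3 q3744 L92911 q2353, e3 q3745 L92921 q2354, e3 q3746 L92927 q2355, e3 q3747 L92932 q2356, e3 q3748 L111097 q6334, e3 q3749 L92941 q2358, e3 q3750 L92946 q2359, e3 q3751 (flp_e L92948) q2285, e3 q3752 L92956 q2362, e3 q3753 L92962 q2288, e3 q3754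 (flp_e L111147) q6342, e3 q3755 L92972 q2368, e3 q3756 L92978 q2369, e3 q3757 L92985 q2370, e3 q3758 L111213 q6354, e3 q3759 L92994 q2372, e3 q3760 L92999 q2373, e3 q3761 (flp_e L93001) q2291, e3 q3762 L93009 q2376, e3 q3763 L93015 q2294, e3 q3764 (flp_e L111263) q6362, e3 q3765 L93027 q2382, e3 q3766 L93033 q2383, e3 q3767 L93041 q2817, e3 q3768 L111329 q6374, e3 q3769 L93051 q2820, e3 q3770 L93059 q2738, e3 q3771 (flp_e L93063) q2297, e3 q3772 L93079 q2837, e3 q3773 L111393 q6384, e3 q3774 L93089 q2789, e3 q3775 L93097 q2840, trivial⟩ (by decide +kernel)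

theorem ce_e_59 : ∀ r, r < 64 → sm ge (Qf (3776 + r)) = Qf (tab Gen.e (3776 + r)) :=
  edges_tab (sm ge) Qf (tab Gen.e) 3776 [(3776, 2299), (3777, 6162), (3778, 6163), (3779, 5762), (3780, 5763), (3781, 5764), (3782, 5765), (3783, 6168), (3784, 6169), (3785, 6170), (3786, 6171), (3787, 6183), (3788, 6184), (3789, 6186), (3790, 6187), (3791, 6188), (3792, 6190), (3793, 6213), (3794, 6214), (3795, 6215), (3796, 6216), (3797, 6217), (3798, 6416), (3799, 6417), (3800, 2316), (3801, 6419), (3802, 6222), (3803, 6223), (3804, 6224), (3805, 6225), (3806, 6226), (3807, 6227), (3808, 6228), (3809, 6433), (3810, 6230), (3811, 6231), (3812, 6232), (3813, 6233), (3814, 6234), (3815, 6235), (3816, 6236), (3817, 6447), (3818, 6448), (3819, 2324), (3820, 6450), (3821, 6241), (3822, 6242), (3823, 6243), (3824, 6244), (3825, 6245), (3826, 6246), (3827, 6247), (3828, 6464), (3829, 6249), (3830, 6250), (3831, 6275), (3832, 6276), (3833, 6277), (3834, 6278), (3835, 6279), (3836, 6470), (3837, 6281), (3838, 6282), (3839, 2334)]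
    ⟨e3 q3776 (flp_e L93101) q2299, e3 q3777 (flp_e L110051) q6162, e3 q3778 (flp_e L110057) q6163, e3 q3779 (flp_e L107222) q5762, e3 q3780 (flp_e L107232) q5763, e3 q3781 (flp_e L107240) q5764, e3 q3782 (flp_e L107252) q5765, e3 q3783 (flp_e L110101) q6168, e3 q3784 (flp_e L110105) q6169, e3 q3785 (flp_e L110121) q6170, e3 q3786 (flp_e L110125) q6171, e3 q3787 (flp_e L110186) q6183, e3 q3788 (flp_e L110198) q6184, e3 q3789 (flp_e L110214) q6186, e3 q3790 (flp_e L110222) q6187, e3 q3791 (flp_e L110234) q6188, e3 q3792 (flp_e L110244) q6190, e3 q3793 (flp_e L110401) q6213, e3 q3794 (flp_e L110405) q6214, e3 q3795 (flp_e L110409) q6215, e3 q3796 (flp_e L110415) q6216, e3 q3797 (flp_e L110419) q6217, e3 q3798 L111623 q6416, e3 q3799 L111631 q6417, e3 q3800 (flp_e L93253) q2316, e3 q3801 (flp_e L111647) q6419, e3 q3802 (flp_e L110443) q6222, e3 q3803 (flp_e L110447) q6223, e3 q3804 (flp_e L110453) q6224, e3 q3805 (flp_e L110459) q6225, e3 q3806 (flp_e L110463) q6226, e3 q3807 (flp_e L110471) q6227, e3 q3808 (flp_e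 L110477) q6228, e3 q3809 L111703 q6433, e3 q3810 (flp_e L110489) q6230, e3 q3811 (flp_e L110495) q6231, e3 q3812 (flp_e L110501) q6232, e3 q3813 (flp_e L110505) q6233, e3 q3814 (flp_e L110509) q6234, e3 q3815 (flp_e L110513) q6235, e3 q3816 (flp_e L110519) q6236, e3 q3817 L111769 q6447, e3 q3818 L111777 q6448, e3 q3819 (flp_e L93339) q2324, e3 q3820 (flp_e L111793) q6450, e3 q3821 (flp_e L110543) q6241, e3 q3822 (flp_e L110547) q6242, e3 q3823 (flp_e L110553) q6243, e3 q3824 (flp_e L110559) q6244, e3 q3825 (flp_e L110563) q6245, e3 q3826 (flp_e L110571) q6246, e3 q3827 (flp_e L110577) q6247, e3 q3828 L111849 q6464, e3 q3829 (flp_e L110589) q6249, e3 q3830 (flp_e L110595) q6250, e3 q3831 (flp_e L110741) q6275, e3 q3832 (flp_e L110749) q6276, e3 q3833 (flp_e L110753) q6277, e3 q3834 (flp_e L110759) q6278, e3 q3835 (flp_e L110769) q6279, e3 q3836 L111887 q6470, e3 q3837 (flp_e L110787) q6281, e3 q3838 (flp_e L110795) q6282, e3 q3839 (flp_e L93454) q2334, trivial⟩ (by decide +kernel)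

theorem ce_e_60 : ∀ r, r < 64 → sm ge (Qf (3840 + r)) = Qf (tab Gen.e (3840 + r)) :=
  edges_tab (sm ge) Qf (tab Gen.e) 3840 [(3840, 6473), (3841, 6286), (3842, 6287), (3843, 6288), (3844, 6289), (3845, 6484), (3846, 2337), (3847, 6487), (3848, 2339), (3849, 6489), (3850, 6490), (3851, 6296), (3852, 6297), (3853, 6298), (3854, 6299), (3855, 6300), (3856, 6301), (3857, 6302), (3858, 6303), (3859, 6304), (3860, 6305), (3861, 6306), (3862, 6504), (3863, 6308), (3864, 6309), (3865, 2347), (3866, 6507), (3867, 6313), (3868, 6314), (3869, 6315), (3870, 6316), (3871, 6517), (3872, 2350), (3873, 6520), (3874, 2352), (3875, 6522), (3876, 6523), (3877, 6323), (3878, 6324), (3879, 6325), (3880, 6326), (3881, 6327), (3882, 6328), (3883, 6329), (3884, 6537), (3885, 6331), (3886, 6332), (3887, 6542), (3888, 2357), (3889, 6544), (3890, 6545), (3891, 6337), (3892, 6338), (3893, 6339), (3894, 2361), (3895, 6553), (3896, 6340), (3897, 6341), (3898, 2989), (3899, 2363), (3900, 2986), (3901, 5034), (3902, 3020), (3903, 2365)]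
    ⟨e3 q3840 (flp_e L111916) q6473, e3 q3841 (flp_e L110819) q6286, e3 q3842 (flp_e L110823) q6287, e3 q3843 (flp_e L110827) q6288, e3 q3844 (flp_e L110831) q6289, e3 q3845 L111970 q6484, e3 q3846 (flp_e L93486) q2337, e3 q3847 (flp_e L111990) q6487, e3 q3848 L93496 q2339, e3 q3849 (flp_e L112006) q6489, e3 q3850 (flp_e L112014) q6490, e3 q3851 (flp_e L110873) q6296, e3 q3852 (flp_e L110879) q6297, e3 q3853 (flp_e L110883) q6298, e3 q3854 (flp_e L110887) q6299, e3 q3855 (flp_e L110893) q6300, e3 q3856 (flp_e L110897) q6301, e3 q3857 (flp_e L110907) q6302, e3 q3858 (flp_e L110915) q6303, e3 q3859 (flp_e L110919) q6304, e3 q3860 (flp_e L110925) q6305, e3 q3861 (flp_e L110935) q6306, e3 q3862 L112086 q6504, e3 q3863 (flp_e L110955) q6308, e3 q3864 (flp_e L110963) q6309, e3 q3865 (flp_e L93593) q2347, e3 q3866 (flp_e L112115) q6507, e3 q3867 (flp_e L110987) q6313, e3 q3868 (flp_e L110991) q6314, e3 q3869 (flp_e L110995) q6315, e3 q3870 (flp_e L110999) q6316, e3 q3871 L112200 q6517, e3 q3872 (flp_e L93625) q2350, e3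 q3873 (flp_e L112220) q6520, e3 q3874 L93635 q2352, e3 q3875 (flp_e L112236) q6522, e3 q3876 (flp_e L112244) q6523, e3 q3877 (flp_e L111041) q6323, e3 q3878 (flp_e L111047) q6324, e3 q3879 (flp_e L111051) q6325, e3 q3880 (flp_e L111055) q6326, e3 q3881 (flp_e L111061) q6327, e3 q3882 (flp_e L111065) q6328, e3 q3883 (flp_e L111071) q6329, e3 q3884 L112324 q6537, e3 q3885 (flp_e L111086) q6331, e3 q3886 (flp_e L111093) q6332, e3 q3887 L112344 q6542, e3 q3888 (flp_e L93693) q2357, e3 q3889 (flp_e L112358) q6544, e3 q3890 (flp_e L112362) q6545, e3 q3891 (flp_e L111114) q6337, e3 q3892 (flp_e L111120) q6338, e3 q3893 (flp_e L111129) q6339, e3 q3894 L93725 q2361, e3 q3895 (flp_e L112396) q6553, e3 q3896 (flp_e L111135) q6340, e3 q3897 (flp_e L111139) q6341, e3 q3898 L119290 q2989, e3 q3899 (flp_e L93741) q2363, e3 q3900 L119343 q2986, e3 q3901 (flp_e L119173) q5034, e3 q3902 (flp_e L119236) q3020, e3 q3903 L93755 q2365, trivial⟩ (by decide +kernel)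

theorem ce_e_61 : ∀ r, r < 64 → sm ge (Qf (3904 + r)) = Qf (tab Gen.e (3904 + r)) :=
  edges_tab (sm ge) Qf (tab Gen.e) 3904 [(3904, 6561), (3905, 2367), (3906, 6565), (3907, 6566), (3908, 6567), (3909, 6346), (3910, 6347), (3911, 6348), (3912, 6349), (3913, 6576), (3914, 6351), (3915, 6352), (3916, 6581), (3917, 2371), (3918, 6583), (3919, 6584), (3920, 6357), (3921, 6358), (3922, 6359), (3923, 2375), (3924, 6592), (3925, 6360), (3926, 6361), (3927, 2990), (3928, 2377), (3929, 5032), (3930, 3021), (3931, 2379), (3932, 6600), (3933, 2381), (3934, 6604), (3935, 6605), (3936, 6606), (3937, 6366), (3938, 6367), (3939, 6368), (3940, 4100), (3941, 6613), (3942, 3031), (3943, 4034), (3944, 6618), (3945, 6621), (3946, 2388), (3947, 4011), (3948, 6624), (3949, 2389), (3950, 6626), (3951, 6627), (3952, 6625), (3953, 2391), (3954, 2392), (3955, 6633), (3956, 6634), (3957, 6635), (3958, 2395), (3959, 2394), (3960, 6642), (3961, 6119), (3962, 6641), (3963, 2397), (3964, 6646), (3965, 6647), (3966, 6648), (3967, 2400)]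
    ⟨e3 q3904 (flp_e L112476) q6561, e3 q3905 L93763 q2367, e3 q3906 (flp_e L112490) q6565, e3 q3907 (flp_e L112494) q6566, e3 q3908 (flp_e L112498) q6567, e3 q3909 (flp_e L111163) q6346, e3 q3910 (flp_e L111171) q6347, e3 q3911 (flp_e L111181) q6348, e3 q3912 (flp_e L111187) q6349, e3 q3913 L112568 q6576, e3 q3914 (flp_e L111202) q6351, e3 q3915 (flp_e L111209) q6352, e3 q3916 L112588 q6581, e3 q3917 (flp_e L93813) q2371, e3 q3918 (flp_e L112602) q6583, e3 q3919 (flp_e L112606) q6584, e3 q3920 (flp_e L111229) q6357, e3 q3921 (flp_e L111236) q6358, e3 q3922 (flp_e L111245) q6359, e3 q3923 L93845 q2375, e3 q3924 (flp_e L112640) q6592, e3 q3925 (flp_e L111251) q6360, e3 q3926 (flp_e L111255) q6361, e3 q3927 (flp_e L148323) q2990, e3 q3928 (flp_e L93861) q2377, e3 q3929 (flp_e L146572) q5032, e3 q3930 L148283 q3021, e3 q3931 L93875 q2379, e3 q3932 (flp_e L112720) q6600, e3 q3933 L93883 q2381, e3 q3934 (flp_e L112734) q6604, e3 q3935 (flp_e L112738) q6605, e3 q3936 (flp_e L112742) q6606, e3 q3937 (flp_e L111279) q6366,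 e3 q3938 (flp_e L111287) q6367, e3 q3939 (flp_e L111297) q6368, e3 q3940 L130697 q4100, e3 q3941 L112815 q6613, e3 q3942 L119318 q3031, e3 q3943 L133828 q4034, e3 q3944 L112948 q6618, e3 q3945 L112960 q6621, e3 q3946 (flp_e L94018) q2388, e3 q3947 L120221 q4011, e3 q3948 (flp_e L113002) q6624, e3 q3949 (flp_e L94036) q2389, e3 q3950 (flp_e L113016) q6626, e3 q3951 (flp_e L113020) q6627, e3 q3952 (flp_e L113012) q6625, e3 q3953 L94056 q2391, e3 q3954 L94062 q2392, e3 q3955 (flp_e L113058) q6633, e3 q3956 (flp_e L113064) q6634, e3 q3957 (flp_e L113074) q6635, e3 q3958 L94086 q2395, e3 q3959 L94094 q2394, e3 q3960 (flp_e L113108) q6642, e3 q3961 (flp_e L109549) q6119, e3 q3962 (flp_e L113102) q6641, e3 q3963 L94122 q2397, e3 q3964 (flp_e L113134) q6646, e3 q3965 (flp_e L113138) q6647, e3 q3966 (flp_e L113144) q6648, e3 q3967 L94146 q2400, trivial⟩ (by decide +kernel)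

theorem ce_e_62 : ∀ r, r < 64 → sm ge (Qf (3968 + r)) = Qf (tab Gen.e (3968 + r)) :=
  edges_tab (sm ge) Qf (tab Gen.e) 3968 [(3968, 4864), (3969, 6658), (3970, 4116), (3971, 6661), (3972, 3029), (3973, 4080), (3974, 6666), (3975, 6669), (3976, 2405), (3977, 6672), (3978, 4057), (3979, 2406), (3980, 6674), (3981, 6675), (3982, 6673), (3983, 2408), (3984, 2409), (3985, 6681), (3986, 6682), (3987, 6636), (3988, 2412), (3989, 2411), (3990, 6687), (3991, 6128), (3992, 6686), (3993, 2414), (3994, 6691), (3995, 6692), (3996, 6693), (3997, 2417), (3998, 4835), (3999, 6700), (4000, 2484), (4001, 4003), (4002, 2421), (4003, 4001), (4004, 5095), (4005, 5094), (4006, 2423), (4007, 3358), (4008, 6709), (4009, 2426), (4010, 6713), (4011, 3947), (4012, 2432), (4013, 2430), (4014, 2431), (4015, 6718), (4016, 6719), (4017, 6720), (4018, 6721), (4019, 6717), (4020, 3364), (4021, 5738), (4022, 2437), (4023, 2438), (4024, 2439), (4025, 2440), (4026, 6736), (4027, 6737), (4028, 6738), (4029, 6752), (4030, 6740), (4031, 6741)]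
    ⟨e3 q3968 (flp_e L141140) q4864, e3 q3969 L113214 q6658, e3 q3970 (flp_e L137205) q4116, e3 q3971 L113243 q6661, e3 q3972 L148295 q3029, e3 q3973 L137258 q4080, e3 q3974 L113376 q6666, e3 q3975 L113388 q6669, e3 q3976 (flp_e L94269) q2405, e3 q3977 (flp_e L113422) q6672, e3 q3978 (flp_e L148532) q4057, e3 q3979 (flp_e L94287) q2406, e3 q3980 (flp_e L113444) q6674, e3 q3981 (flp_e L113448) q6675, e3 q3982 (flp_e L113440) q6673, e3 q3983 L94307 q2408, e3 q3984 L94313 q2409, e3 q3985 (flp_e L113484) q6681, e3 q3986 (flp_e L113492) q6682, e3 q3987 (flp_e L149033) q6636, e3 q3988 L94337 q2412, e3 q3989 L94345 q2411, e3 q3990 (flp_e L113536) q6687, e3 q3991 (flp_e L109608) q6128, e3 q3992 (flp_e L113530) q6686, e3 q3993 L94373 q2414, e3 q3994 (flp_e L113562) q6691, e3 q3995 (flp_e L113566) q6692, e3 q3996 (flp_e L113572) q6693, e3 q3997 L94397 q2417, e3 q3998 (flp_e L142015) q4835, e3 q3999 L113622 q6700, e3 q4000 L120184 q2484, e3 q4001 (flp_e L120048) q4003, e3 q4002 L94454 q2421, e3 q4003 L120048 q4001, e3 q4004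 (flp_e L119797) q5095, e3 q4005 (flp_e L119783) q5094, e3 q4006 (flp_e L94476) q2423, e3 q4007 (flp_e L120208) q3358, e3 q4008 (flp_e L113759) q6709, e3 q4009 L94498 q2426, e3 q4010 (flp_e L113801) q6713, e3 q4011 (flp_e L120221) q3947, e3 q4012 (flp_e L119992) q2432, e3 q4013 L94516 q2430, e3 q4014 L94522 q2431, e3 q4015 (flp_e L113859) q6718, e3 q4016 (flp_e L113863) q6719, e3 q4017 (flp_e L113869) q6720, e3 q4018 (flp_e L113875) q6721, e3 q4019 (flp_e L120161) q6717, e3 q4020 L94562 q3364, e3 q4021 (flp_e L107045) q5738, e3 q4022 L94572 q2437, e3 q4023 L94576 q2438, e3 q4024 L94582 q2439, e3 q4025 L94586 q2440, e3 q4026 (flp_e L113955) q6736, e3 q4027 (flp_e L113961) q6737, e3 q4028 (flp_e L113967) q6738, e3 q4029 L114037 q6752, e3 q4030 (flp_e L113979) q6740, e3 q4031 (flp_e L113983) q6741, trivial⟩ (by decide +kernel)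

theorem ce_e_63 : ∀ r, r < 64 → sm ge (Qf (4032 + r)) = Qf (tab Gen.e (4032 + r)) :=
  edges_tab (sm ge) Qf (tab Gen.e) 4032 [(4032, 5688), (4033, 6742), (4034, 3943), (4035, 6743), (4036, 2444), (4037, 6763), (4038, 5627), (4039, 6761), (4040, 6770), (4041, 6772), (4042, 2445), (4043, 6773), (4044, 4840), (4045, 6560), (4046, 2493), (4047, 4049), (4048, 2450), (4049, 4047), (4050, 5099), (4051, 5098), (4052, 2453), (4053, 6785), (4054, 3382), (4055, 2455), (4056, 6789), (4057, 3978), (4058, 2461), (4059, 2460), (4060, 2462), (4061, 6794), (4062, 6795), (4063, 6796), (4064, 6793), (4065, 6723), (4066, 3388), (4067, 5705), (4068, 2467), (4069, 2468), (4070, 2469), (4071, 2470), (4072, 6810), (4073, 6811), (4074, 6812), (4075, 6826), (4076, 6814), (4077, 6815), (4078, 5723), (4079, 6816), (4080, 3973), (4081, 6817), (4082, 2474), (4083, 6837), (4084, 5660), (4085, 6835), (4086, 6844), (4087, 6846), (4088, 2475), (4089, 6847), (4090, 4869), (4091, 6599), (4092, 2479), (4093, 6854), (4094, 6851), (4095, 6858)]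
    ⟨e3 q4032 (flp_e L151036) q5688, e3 q4033 (flp_e L113997) q6742, e3 q4034 (flp_e L133828) q3943, e3 q4035 (flp_e L114007) q6743, e3 q4036 L94638 q2444, e3 q4037 L114113 q6763, e3 q4038 (flp_e L139141) q5627, e3 q4039 (flp_e L114107) q6761, e3 q4040 L114155 q6770, e3 q4041 L114165 q6772, e3 q4042 (flp_e L94680) q2445, e3 q4043 (flp_e L114173) q6773, e3 q4044 L141062 q4840, e3 q4045 L140997 q6560, e3 q4046 L148391 q2493, e3 q4047 L148373 q4049, e3 q4048 L94728 q2450, e3 q4049 (flp_e L148373) q4047, e3 q4050 (flp_e L148348) q5099, e3 q4051 (flp_e L146499) q5098, e3 q4052 (flp_e L94755) q2453, e3 q4053 (flp_e L114322) q6785, e3 q4054 (flp_e L146466) q3382, e3 q4055 L94771 q2455, e3 q4056 (flp_e L114364) q6789, e3 q4057 L148532 q3978, e3 q4058 (flp_e L148461) q2461, e3 q4059 L94795 q2460, e3 q4060 L94809 q2462, e3 q4061 (flp_e L114420) q6794, e3 q4062 (flp_e L114426) q6795, e3 q4063 (flp_e L114432) q6796, e3 q4064 (flp_e L148452) q6793, e3 q4065 (flp_e L149758) q6723, e3 q4066 L94841 q3388, e3 q4067 (flp_e L106823)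 q5705, e3 q4068 L94851 q2467, e3 q4069 L94855 q2468, e3 q4070 L94861 q2469, e3 q4071 L94865 q2470, e3 q4072 (flp_e L114516) q6810, e3 q4073 (flp_e L114522) q6811, e3 q4074 (flp_e L114528) q6812, e3 q4075 L114598 q6826, e3 q4076 (flp_e L114540) q6814, e3 q4077 (flp_e L114544) q6815, e3 q4078 (flp_e L150574) q5723, e3 q4079 (flp_e L114558) q6816, e3 q4080 (flp_e L137258) q3973, e3 q4081 (flp_e L114568) q6817, e3 q4082 L94917 q2474, e3 q4083 L114676 q6837, e3 q4084 (flp_e L141837) q5660, e3 q4085 (flp_e L114668) q6835, e3 q4086 L114722 q6844, e3 q4087 L114732 q6846, e3 q4088 (flp_e L94963) q2475, e3 q4089 (flp_e L114744) q6847, e3 q4090 L136778 q4869, e3 q4091 L137033 q6599, e3 q4092 L95033 q2479, e3 q4093 L114835 q6854, e3 q4094 (flp_e L114816) q6851, e3 q4095 L114874 q6858, trivial⟩ (by decide +kernel)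

theorem ce_e_64 : ∀ r, r < 64 → sm ge (Qf (4096 + r)) = Qf (tab Gen.e (4096 + r)) :=
  edges_tab (sm ge) Qf (tab Gen.e) 4096 [(4096, 6702), (4097, 6853), (4098, 2480), (4099, 6863), (4100, 3940), (4101, 2483), (4102, 2485), (4103, 6864), (4104, 6701), (4105, 6865), (4106, 6703), (4107, 6866), (4108, 2487), (4109, 6875), (4110, 6872), (4111, 6879), (4112, 6874), (4113, 6778), (4114, 2488), (4115, 6884), (4116, 3970), (4117, 2491), (4118, 2492), (4119, 6885), (4120, 6886), (4121, 6777), (4122, 6887), (4123, 6779), (4124, 2920), (4125, 2641), (4126, 2642), (4127, 2643), (4128, 2644), (4129, 2497), (4130, 6483), (4131, 6516), (4132, 2649), (4133, 2650), (4134, 2651), (4135, 2652), (4136, 6164), (4137, 6165), (4138, 6166), (4139, 6167), (4140, 2653), (4141, 2654), (4142, 2655), (4143, 2656), (4144, 2657), (4145, 2658), (4146, 2659), (4147, 2660), (4148, 6172), (4149, 4149), (4150, 6173), (4151, 6174), (4152, 4152), (4153, 4153), (4154, 6175), (4155, 6176), (4156, 6177), (4157, 6178), (4158, 6179), (4159, 6180)]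
    ⟨e3 q4096 (flp_e L120198) q6702, e3 q4097 (flp_e L114833) q6853, e3 q4098 (flp_e L95067) q2480, e3 q4099 (flp_e L114909) q6863, e3 q4100 (flp_e L130697) q3940, e3 q4101 L95083 q2483, e3 q4102 L95093 q2485, e3 q4103 (flp_e L114923) q6864, e3 q4104 (flp_e L120202) q6701, e3 q4105 (flp_e L114935) q6865, e3 q4106 (flp_e L120193) q6703, e3 q4107 (flp_e L114947) q6866, e3 q4108 L95127 q2487, e3 q4109 L115008 q6875, e3 q4110 (flp_e L114989) q6872, e3 q4111 L115047 q6879, e3 q4112 (flp_e L114999) q6874, e3 q4113 (flp_e L148405) q6778, e3 q4114 (flp_e L95161) q2488, e3 q4115 (flp_e L115082) q6884, e3 q4116 L137205 q3970, e3 q4117 L95177 q2491, e3 q4118 L95181 q2492, e3 q4119 (flp_e L115096) q6885, e3 q4120 (flp_e L115102) q6886, e3 q4121 (flp_e L148351) q6777, e3 q4122 (flp_e L115112) q6887, e3 q4123 (flp_e L148400) q6779, e3 q4124 (flp_e L95227) q2920, e3 q4125 L95235 q2641, e3 q4126 L95243 q2642, e3 q4127 L95247 q2643, e3 q4128 L95251 q2644, e3 q4129 (flp_e L95253) q2497, e3 q4130 (flp_e L119216) q6483, e3 q4131 (flp_e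 L148327) q6516, e3 q4132 L95276 q2649, e3 q4133 L95283 q2650, e3 q4134 L95289 q2651, e3 q4135 L95298 q2652, e3 q4136 (flp_e L110065) q6164, e3 q4137 (flp_e L110075) q6165, e3 q4138 (flp_e L110083) q6166, e3 q4139 (flp_e L110095) q6167, e3 q4140 L95334 q2653, e3 q4141 L95340 q2654, e3 q4142 L95346 q2655, e3 q4143 L95350 q2656, e3 q4144 L95354 q2657, e3 q4145 L95360 q2658, e3 q4146 L95366 q2659, e3 q4147 L95370 q2660, e3 q4148 (flp_e L110130) q6172, e3 q4149 L95378 q4149, e3 q4150 (flp_e L110135) q6173, e3 q4151 (flp_e L110140) q6174, e3 q4152 L95392 q4152, e3 q4153 L95401 q4153, e3 q4154 (flp_e L110145) q6175, e3 q4155 (flp_e L110150) q6176, e3 q4156 (flp_e L110156) q6177, e3 q4157 (flp_e L110160) q6178, e3 q4158 (flp_e L110166) q6179, e3 q4159 (flp_e L110172) q6180, trivial⟩ (by decide +kernel)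

theorem ce_e_65 : ∀ r, r < 64 → sm ge (Qf (4160 + r)) = Qf (tab Gen.e (4160 + r)) :=
  edges_tab (sm ge) Qf (tab Gen.e) 4160 [(4160, 6181), (4161, 6182), (4162, 2661), (4163, 2662), (4164, 2663), (4165, 6970), (4166, 2665), (4167, 2666), (4168, 2667), (4169, 2668), (4170, 2669), (4171, 6981), (4172, 2671), (4173, 2672), (4174, 4174), (4175, 4175), (4176, 4176), (4177, 4177), (4178, 6191), (4179, 6192), (4180, 6193), (4181, 6194), (4182, 6195), (4183, 6196), (4184, 6197), (4185, 6198), (4186, 7003), (4187, 6200), (4188, 6201), (4189, 6202), (4190, 6203), (4191, 6204), (4192, 6205), (4193, 6206), (4194, 7019), (4195, 6208), (4196, 6209), (4197, 6210), (4198, 6211), (4199, 6212), (4200, 2675), (4201, 2676), (4202, 2677), (4203, 7038), (4204, 2958), (4205, 2534), (4206, 7041), (4207, 2682), (4208, 2683), (4209, 2684), (4210, 2685), (4211, 2686), (4212, 2687), (4213, 2688), (4214, 7054), (4215, 2690), (4216, 2691), (4217, 2694), (4218, 2695), (4219, 2696), (4220, 7066), (4221, 2961), (4222, 2542), (4223, 7069)]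
    ⟨e3 q4160 (flp_e L110176) q6181, e3 q4161 (flp_e L110182) q6182, e3 q4162 L95428 q2661, e3 q4163 L95434 q2662, e3 q4164 L95440 q2663, e3 q4165 L115615 q6970, e3 q4166 L95451 q2665, e3 q4167 L95457 q2666, e3 q4168 L95463 q2667, e3 q4169 L95469 q2668, e3 q4170 L95475 q2669, e3 q4171 L115689 q6981, e3 q4172 L95486 q2671, e3 q4173 L95492 q2672, e3 q4174 L95500 q4174, e3 q4175 L95506 q4175, e3 q4176 L95513 q4176, e3 q4177 L95523 q4177, e3 q4178 (flp_e L110259) q6191, e3 q4179 (flp_e L110268) q6192, e3 q4180 (flp_e L110274) q6193, e3 q4181 (flp_e L110284) q6194, e3 q4182 (flp_e L110292) q6195, e3 q4183 (flp_e L110297) q6196, e3 q4184 (flp_e L110303) q6197, e3 q4185 (flp_e L110309) q6198, e3 q4186 L115840 q7003, e3 q4187 (flp_e L110321) q6200, e3 q4188 (flp_e L110327) q6201, e3 q4189 (flp_e L110335) q6202, e3 q4190 (flp_e L110339) q6203, e3 q4191 (flp_e L110345) q6204, e3 q4192 (flp_e L110353) q6205, e3 q4193 (flp_e L110359) q6206, e3 q4194 L115924 q7019, e3 q4195 (flp_e L110371) q6208, e3 q4196 (flp_e L110377) q6209,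 e3 q4197 (flp_e L110385) q6210, e3 q4198 (flp_e L110389) q6211, e3 q4199 (flp_e L110395) q6212, e3 q4200 L95624 q2675, e3 q4201 L95630 q2676, e3 q4202 L95634 q2677, e3 q4203 L116022 q7038, e3 q4204 L116050 q2958, e3 q4205 (flp_e L95646) q2534, e3 q4206 (flp_e L116096) q7041, e3 q4207 L95659 q2682, e3 q4208 L95664 q2683, e3 q4209 L95670 q2684, e3 q4210 L95676 q2685, e3 q4211 L95680 q2686, e3 q4212 L95686 q2687, e3 q4213 L95692 q2688, e3 q4214 L116179 q7054, e3 q4215 L95703 q2690, e3 q4216 L95709 q2691, e3 q4217 L95723 q2694, e3 q4218 L95727 q2695, e3 q4219 L95733 q2696, e3 q4220 L116295 q7066, e3 q4221 L148974 q2961, e3 q4222 (flp_e L95745) q2542, e3 q4223 (flp_e L116328) q7069, trivial⟩ (by decide +kernel)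

theorem ce_e_66 : ∀ r, r < 64 → sm ge (Qf (4224 + r)) = Qf (tab Gen.e (4224 + r)) :=
  edges_tab (sm ge) Qf (tab Gen.e) 4224 [(4224, 2701), (4225, 2702), (4226, 2703), (4227, 2704), (4228, 2705), (4229, 2706), (4230, 2707), (4231, 7082), (4232, 2709), (4233, 2710), (4234, 6251), (4235, 6252), (4236, 6253), (4237, 7091), (4238, 6255), (4239, 6256), (4240, 7099), (4241, 2551), (4242, 7101), (4243, 6260), (4244, 6261), (4245, 4272), (4246, 4274), (4247, 4275), (4248, 6262), (4249, 4270), (4250, 4271), (4251, 4266), (4252, 7122), (4253, 4267), (4254, 4268), (4255, 6263), (4256, 6264), (4257, 6265), (4258, 7132), (4259, 6267), (4260, 6268), (4261, 7139), (4262, 2561), (4263, 7141), (4264, 6272), (4265, 6273), (4266, 4251), (4267, 4253), (4268, 4254), (4269, 6274), (4270, 4249), (4271, 4250), (4272, 4245), (4273, 7162), (4274, 4246), (4275, 4247), (4276, 2711), (4277, 2712), (4278, 2713), (4279, 7171), (4280, 2715), (4281, 2716), (4282, 2717), (4283, 2718), (4284, 2719), (4285, 2720), (4286, 7184), (4287, 2722)]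
    ⟨e3 q4224 L95758 q2701, e3 q4225 L95763 q2702, e3 q4226 L95769 q2703, e3 q4227 L95775 q2704, e3 q4228 L95779 q2705, e3 q4229 L95785 q2706, e3 q4230 L95791 q2707, e3 q4231 L116413 q7082, e3 q4232 L95802 q2709, e3 q4233 L95808 q2710, e3 q4234 (flp_e L110603) q6251, e3 q4235 (flp_e L110609) q6252, e3 q4236 (flp_e L110613) q6253, e3 q4237 (flp_e L116479) q7091, e3 q4238 (flp_e L110625) q6255, e3 q4239 (flp_e L110633) q6256, e3 q4240 L116508 q7099, e3 q4241 (flp_e L95846) q2551, e3 q4242 (flp_e L116518) q7101, e3 q4243 (flp_e L110648) q6260, e3 q4244 (flp_e L110657) q6261, e3 q4245 (flp_e L96007) q4272, e3 q4246 (flp_e L96018) q4274, e3 q4247 (flp_e L96026) q4275, e3 q4248 (flp_e L110665) q6262, e3 q4249 (flp_e L95993) q4270, e3 q4250 (flp_e L95999) q4271, e3 q4251 (flp_e L95969) q4266, e3 q4252 L116619 q7122, e3 q4253 (flp_e L95975) q4267, e3 q4254 (flp_e L95983) q4268, e3 q4255 (flp_e L110671) q6263, e3 q4256 (flp_e L110677) q6264, e3 q4257 (flp_e L110681) q6265, e3 q4258 (flp_e L149705) q7132, e3 q4259 (flp_e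 L110693) q6267, e3 q4260 (flp_e L110701) q6268, e3 q4261 L116708 q7139, e3 q4262 (flp_e L95947) q2561, e3 q4263 (flp_e L116718) q7141, e3 q4264 (flp_e L110716) q6272, e3 q4265 (flp_e L110725) q6273, e3 q4266 L95969 q4251, e3 q4267 L95975 q4253, e3 q4268 L95983 q4254, e3 q4269 (flp_e L110733) q6274, e3 q4270 L95993 q4249, e3 q4271 L95999 q4250, e3 q4272 L96007 q4245, e3 q4273 L116841 q7162, e3 q4274 L96018 q4246, e3 q4275 L96026 q4247, e3 q4276 L96034 q2711, e3 q4277 L96040 q2712, e3 q4278 L96044 q2713, e3 q4279 L116913 q7171, e3 q4280 L96054 q2715, e3 q4281 L96060 q2716, e3 q4282 L96064 q2717, e3 q4283 L96070 q2718, e3 q4284 L96078 q2719, e3 q4285 L96084 q2720, e3 q4286 L117005 q7184, e3 q4287 L96093 q2722, trivial⟩ (by decide +kernel)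

theorem ce_e_67 : ∀ r, r < 64 → sm ge (Qf (4288 + r)) = Qf (tab Gen.e (4288 + r)) :=
  edges_tab (sm ge) Qf (tab Gen.e) 4288 [(4288, 2723), (4289, 7191), (4290, 2573), (4291, 7193), (4292, 2727), (4293, 2728), (4294, 2729), (4295, 2730), (4296, 7205), (4297, 7208), (4298, 2576), (4299, 7210), (4300, 2578), (4301, 7213), (4302, 7214), (4303, 2737), (4304, 2739), (4305, 2740), (4306, 2741), (4307, 2742), (4308, 7230), (4309, 2744), (4310, 2745), (4311, 2746), (4312, 2747), (4313, 2748), (4314, 2749), (4315, 2750), (4316, 2751), (4317, 2752), (4318, 2753), (4319, 7255), (4320, 2755), (4321, 2756), (4322, 7261), (4323, 2588), (4324, 7263), (4325, 2760), (4326, 2761), (4327, 2762), (4328, 2763), (4329, 2764), (4330, 7273), (4331, 2766), (4332, 2767), (4333, 2768), (4334, 2769), (4335, 2770), (4336, 2771), (4337, 7285), (4338, 2773), (4339, 2774), (4340, 7292), (4341, 2596), (4342, 7294), (4343, 2778), (4344, 2779), (4345, 2780), (4346, 2781), (4347, 7305), (4348, 7308), (4349, 2599), (4350, 7310), (4351, 2601)]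
    ⟨e3 q4288 L96097 q2723, e3 q4289 L117043 q7191, e3 q4290 (flp_e L96105) q2573, e3 q4291 (flp_e L117069) q7193, e3 q4292 L96121 q2727, e3 q4293 L96125 q2728, e3 q4294 L96129 q2729, e3 q4295 L96133 q2730, e3 q4296 L117131 q7205, e3 q4297 L117153 q7208, e3 q4298 (flp_e L96159) q2576, e3 q4299 (flp_e L117177) q7210, e3 q4300 L96171 q2578, e3 q4301 (flp_e L117193) q7213, e3 q4302 (flp_e L117203) q7214, e3 q4303 L96189 q2737, e3 q4304 L96195 q2739, e3 q4305 L96199 q2740, e3 q4306 L96203 q2741, e3 q4307 L96209 q2742, e3 q4308 L117285 q7230, e3 q4309 L96221 q2744, e3 q4310 L96225 q2745, e3 q4311 L96231 q2746, e3 q4312 L96235 q2747, e3 q4313 L96239 q2748, e3 q4314 L96245 q2749, e3 q4315 L96249 q2750, e3 q4316 L96253 q2751, e3 q4317 L96257 q2752, e3 q4318 L96261 q2753, e3 q4319 L117433 q7255, e3 q4320 L96273 q2755, e3 q4321 L96279 q2756, e3 q4322 L117465 q7261, e3 q4323 (flp_e L96283) q2588, e3 q4324 (flp_e L117477) q7263, e3 q4325 L96299 q2760, e3 q4326 L96305 q2761, e3 q4327 L96319 q2762, e3 q4328 L96325 q2763, e3 q4329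 L96329 q2764, e3 q4330 L117551 q7273, e3 q4331 L96339 q2766, e3 q4332 L96345 q2767, e3 q4333 L96349 q2768, e3 q4334 L96355 q2769, e3 q4335 L96363 q2770, e3 q4336 L96369 q2771, e3 q4337 L117639 q7285, e3 q4338 L96378 q2773, e3 q4339 L96382 q2774, e3 q4340 L117677 q7292, e3 q4341 (flp_e L96390) q2596, e3 q4342 (flp_e L117699) q7294, e3 q4343 L96406 q2778, e3 q4344 L96410 q2779, e3 q4345 L96414 q2780, e3 q4346 L96418 q2781, e3 q4347 L117753 q7305, e3 q4348 L117767 q7308, e3 q4349 (flp_e L96444) q2599, e3 q4350 (flp_e L117787) q7310, e3 q4351 L96456 q2601, trivial⟩ (by decide +kernel)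

theorem ce_e_68 : ∀ r, r < 64 → sm ge (Qf (4352 + r)) = Qf (tab Gen.e (4352 + r)) :=
  edges_tab (sm ge) Qf (tab Gen.e) 4352 [(4352, 7313), (4353, 7314), (4354, 2788), (4355, 2790), (4356, 2791), (4357, 2792), (4358, 2793), (4359, 7330), (4360, 2795), (4361, 2796), (4362, 2797), (4363, 2798), (4364, 2799), (4365, 2800), (4366, 2801), (4367, 2802), (4368, 2803), (4369, 2804), (4370, 7355), (4371, 2806), (4372, 2807), (4373, 7361), (4374, 2611), (4375, 7363), (4376, 2811), (4377, 2812), (4378, 7370), (4379, 2614), (4380, 7372), (4381, 2816), (4382, 2818), (4383, 2821), (4384, 2823), (4385, 2824), (4386, 7385), (4387, 2826), (4388, 7391), (4389, 2828), (4390, 2829), (4391, 2621), (4392, 7397), (4393, 2622), (4394, 7401), (4395, 2624), (4396, 7403), (4397, 2836), (4398, 2838), (4399, 2841), (4400, 2843), (4401, 2844), (4402, 7416), (4403, 2846), (4404, 7422), (4405, 2848), (4406, 2849), (4407, 2631), (4408, 7428), (4409, 2632), (4410, 2638), (4411, 5362), (4412, 5363), (4413, 2639), (4414, 5372), (4415, 5373)]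
    ⟨e3 q4352 (flp_e L117803) q7313, e3 q4353 (flp_e L117813) q7314, e3 q4354 L96474 q2788, e3 q4355 L96480 q2790, e3 q4356 L96484 q2791, e3 q4357 L96488 q2792, e3 q4358 L96494 q2793, e3 q4359 L117895 q7330, e3 q4360 L96506 q2795, e3 q4361 L96510 q2796, e3 q4362 L96516 q2797, e3 q4363 L96520 q2798, e3 q4364 L96524 q2799, e3 q4365 L96530 q2800, e3 q4366 L96536 q2801, e3 q4367 L96540 q2802, e3 q4368 L96544 q2803, e3 q4369 L96548 q2804, e3 q4370 L118047 q7355, e3 q4371 L96560 q2806, e3 q4372 L96566 q2807, e3 q4373 L118079 q7361, e3 q4374 (flp_e L96570) q2611, e3 q4375 (flp_e L118091) q7363, e3 q4376 L96586 q2811, e3 q4377 L96592 q2812, e3 q4378 L118129 q7370, e3 q4379 (flp_e L96600) q2614, e3 q4380 (flp_e L118149) q7372, e3 q4381 L96613 q2816, e3 q4382 L96619 q2818, e3 q4383 L96627 q2821, e3 q4384 L96635 q2823, e3 q4385 L96643 q2824, e3 q4386 L118270 q7385, e3 q4387 L96653 q2826, e3 q4388 L118300 q7391, e3 q4389 L96661 q2828, e3 q4390 L96665 q2829, e3 q4391 (flp_e L96669) q2621, e3 q4392 L118334 q7397, e3 q4393 (flp_e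 L96683) q2622, e3 q4394 L118356 q7401, e3 q4395 (flp_e L96699) q2624, e3 q4396 (flp_e L118374) q7403, e3 q4397 L96712 q2836, e3 q4398 L96718 q2838, e3 q4399 L96726 q2841, e3 q4400 L96734 q2843, e3 q4401 L96742 q2844, e3 q4402 L118459 q7416, e3 q4403 L96752 q2846, e3 q4404 L118489 q7422, e3 q4405 L96760 q2848, e3 q4406 L96766 q2849, e3 q4407 (flp_e L96768) q2631, e3 q4408 L118523 q7428, e3 q4409 (flp_e L96782) q2632, e3 q4410 L96796 q2638, e3 q4411 (flp_e L132471) q5362, e3 q4412 (flp_e L141633) q5363, e3 q4413 L96819 q2639, e3 q4414 (flp_e L137791) q5372, e3 q4415 (flp_e L141608) q5373, trivial⟩ (by decide +kernel)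

theorem ce_e_69 : ∀ r, r < 64 → sm ge (Qf (4416 + r)) = Qf (tab Gen.e (4416 + r)) :=
  edges_tab (sm ge) Qf (tab Gen.e) 4416 [(4416, 7439), (4417, 2640), (4418, 4578), (4419, 4679), (4420, 6486), (4421, 6519), (4422, 6893), (4423, 6894), (4424, 6895), (4425, 6896), (4426, 6897), (4427, 6898), (4428, 7453), (4429, 3433), (4430, 2645), (4431, 7457), (4432, 7458), (4433, 2647), (4434, 2648), (4435, 7461), (4436, 7462), (4437, 7463), (4438, 7464), (4439, 6903), (4440, 6904), (4441, 6905), (4442, 6906), (4443, 6907), (4444, 6908), (4445, 6917), (4446, 6918), (4447, 7481), (4448, 6920), (4449, 6921), (4450, 6922), (4451, 6923), (4452, 6924), (4453, 6925), (4454, 6926), (4455, 7490), (4456, 6928), (4457, 6929), (4458, 6930), (4459, 6931), (4460, 6932), (4461, 5775), (4462, 5774), (4463, 6963), (4464, 6964), (4465, 6965), (4466, 7502), (4467, 6967), (4468, 6968), (4469, 2664), (4470, 7506), (4471, 6972), (4472, 6973), (4473, 5778), (4474, 5777), (4475, 6974), (4476, 6975), (4477, 6976), (4478, 7516), (4479, 6978)]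
    ⟨e3 q4416 L118687 q7439, e3 q4417 (flp_e L96912) q2640, e3 q4418 (flp_e L119207) q4578, e3 q4419 L147654 q4679, e3 q4420 (flp_e L119733) q6486, e3 q4421 (flp_e L147671) q6519, e3 q4422 (flp_e L115188) q6893, e3 q4423 (flp_e L115194) q6894, e3 q4424 (flp_e L115198) q6895, e3 q4425 (flp_e L115202) q6896, e3 q4426 (flp_e L115208) q6897, e3 q4427 (flp_e L115212) q6898, e3 q4428 L118800 q7453, e3 q4429 (flp_e L96957) q3433, e3 q4430 (flp_e L96959) q2645, e3 q4431 (flp_e L118844) q7457, e3 q4432 (flp_e L118850) q7458, e3 q4433 L96973 q2647, e3 q4434 L96977 q2648, e3 q4435 (flp_e L118872) q7461, e3 q4436 (flp_e L118878) q7462, e3 q4437 (flp_e L118884) q7463, e3 q4438 (flp_e L118891) q7464, e3 q4439 (flp_e L115266) q6903, e3 q4440 (flp_e L115274) q6904, e3 q4441 (flp_e L115279) q6905, e3 q4442 (flp_e L115288) q6906, e3 q4443 (flp_e L115295) q6907, e3 q4444 (flp_e L115299) q6908, e3 q4445 (flp_e L115341) q6917, e3 q4446 (flp_e L115351) q6918, e3 q4447 L120738 q7481, e3 q4448 (flp_e L115365) q6920, e3 q4449 (flp_e L115369)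 q6921, e3 q4450 (flp_e L115375) q6922, e3 q4451 (flp_e L115381) q6923, e3 q4452 (flp_e L115387) q6924, e3 q4453 (flp_e L115393) q6925, e3 q4454 (flp_e L115403) q6926, e3 q4455 L120796 q7490, e3 q4456 (flp_e L115415) q6928, e3 q4457 (flp_e L115419) q6929, e3 q4458 (flp_e L115425) q6930, e3 q4459 (flp_e L115431) q6931, e3 q4460 (flp_e L115437) q6932, e3 q4461 (flp_e L107320) q5775, e3 q4462 (flp_e L107312) q5774, e3 q4463 (flp_e L115579) q6963, e3 q4464 (flp_e L115585) q6964, e3 q4465 (flp_e L115589) q6965, e3 q4466 L120862 q7502, e3 q4467 (flp_e L115603) q6967, e3 q4468 (flp_e L115609) q6968, e3 q4469 (flp_e L97140) q2664, e3 q4470 (flp_e L120892) q7506, e3 q4471 (flp_e L115626) q6972, e3 q4472 (flp_e L115635) q6973, e3 q4473 (flp_e L150303) q5778, e3 q4474 (flp_e L150950) q5777, e3 q4475 (flp_e L115653) q6974, e3 q4476 (flp_e L115659) q6975, e3 q4477 (flp_e L115665) q6976, e3 q4478 L120981 q7516, e3 q4479 (flp_e L115677) q6978, trivial⟩ (by decide +kernel)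

theorem ce_e_70 : ∀ r, r < 64 → sm ge (Qf (4480 + r)) = Qf (tab Gen.e (4480 + r)) :=
  edges_tab (sm ge) Qf (tab Gen.e) 4480 [(4480, 6979), (4481, 2670), (4482, 7520), (4483, 6983), (4484, 6984), (4485, 5875), (4486, 5872), (4487, 5873), (4488, 7031), (4489, 7032), (4490, 7033), (4491, 7533), (4492, 7035), (4493, 7036), (4494, 7538), (4495, 2678), (4496, 7465), (4497, 7540), (4498, 2679), (4499, 7466), (4500, 2681), (4501, 7541), (4502, 7043), (4503, 7044), (4504, 7045), (4505, 7046), (4506, 7551), (4507, 7048), (4508, 5888), (4509, 5887), (4510, 7049), (4511, 7050), (4512, 7560), (4513, 7052), (4514, 5050), (4515, 2689), (4516, 7564), (4517, 7056), (4518, 7057), (4519, 7058), (4520, 5884), (4521, 5881), (4522, 5882), (4523, 7059), (4524, 7060), (4525, 7061), (4526, 7578), (4527, 7063), (4528, 7064), (4529, 7583), (4530, 2697), (4531, 7467), (4532, 7585), (4533, 2698), (4534, 7468), (4535, 2700), (4536, 7586), (4537, 7071), (4538, 7072), (4539, 7073), (4540, 7074), (4541, 7596), (4542, 7076), (4543, 5879)]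
    ⟨e3 q4480 (flp_e L115683) q6979, e3 q4481 (flp_e L97188) q2670, e3 q4482 (flp_e L121018) q7520, e3 q4483 (flp_e L115700) q6983, e3 q4484 (flp_e L115709) q6984, e3 q4485 (flp_e L107945) q5875, e3 q4486 (flp_e L107919) q5872, e3 q4487 (flp_e L107931) q5873, e3 q4488 (flp_e L115982) q7031, e3 q4489 (flp_e L115992) q7032, e3 q4490 (flp_e L115998) q7033, e3 q4491 L121101 q7533, e3 q4492 (flp_e L116006) q7035, e3 q4493 (flp_e L116012) q7036, e3 q4494 L121135 q7538, e3 q4495 (flp_e L97256) q2678, e3 q4496 (flp_e L120623) q7465, e3 q4497 L121153 q7540, e3 q4498 (flp_e L97274) q2679, e3 q4499 (flp_e L120627) q7466, e3 q4500 L97286 q2681, e3 q4501 (flp_e L121163) q7541, e3 q4502 (flp_e L116110) q7043, e3 q4503 (flp_e L116117) q7044, e3 q4504 (flp_e L116121) q7045, e3 q4505 (flp_e L116127) q7046, e3 q4506 L121206 q7551, e3 q4507 (flp_e L116139) q7048, e3 q4508 (flp_e L151210) q5888, e3 q4509 (flp_e L151201) q5887, e3 q4510 (flp_e L116155) q7049, e3 q4511 (flp_e L116161) q7050, e3 q4512 L121250 q7560, e3 q4513 (flp_e L116173)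 q7052, e3 q4514 (flp_e L163238) q5050, e3 q4515 (flp_e L97347) q2689, e3 q4516 (flp_e L121283) q7564, e3 q4517 (flp_e L116190) q7056, e3 q4518 (flp_e L116201) q7057, e3 q4519 (flp_e L116207) q7058, e3 q4520 (flp_e L150295) q5884, e3 q4521 (flp_e L150444) q5881, e3 q4522 L150355 q5882, e3 q4523 (flp_e L116257) q7059, e3 q4524 (flp_e L116265) q7060, e3 q4525 (flp_e L116271) q7061, e3 q4526 L121398 q7578, e3 q4527 (flp_e L116279) q7063, e3 q4528 (flp_e L116283) q7064, e3 q4529 L121426 q7583, e3 q4530 (flp_e L97427) q2697, e3 q4531 (flp_e L149177) q7467, e3 q4532 L121452 q7585, e3 q4533 (flp_e L97445) q2698, e3 q4534 (flp_e L149154) q7468, e3 q4535 L97457 q2700, e3 q4536 (flp_e L121474) q7586, e3 q4537 (flp_e L116342) q7071, e3 q4538 (flp_e L116349) q7072, e3 q4539 (flp_e L116353) q7073, e3 q4540 (flp_e L116359) q7074, e3 q4541 L121535 q7596, e3 q4542 (flp_e L116371) q7076, e3 q4543 (flp_e L151216) q5879, trivial⟩ (by decide +kernel)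

theorem ce_e_71 : ∀ r, r < 64 → sm ge (Qf (4544 + r)) = Qf (tab Gen.e (4544 + r)) :=
  edges_tab (sm ge) Qf (tab Gen.e) 4544 [(4544, 5878), (4545, 7077), (4546, 7078), (4547, 7605), (4548, 7080), (4549, 5046), (4550, 2708), (4551, 7609), (4552, 7084), (4553, 7085), (4554, 7086), (4555, 7167), (4556, 7168), (4557, 7170), (4558, 2714), (4559, 7619), (4560, 7174), (4561, 7175), (4562, 7176), (4563, 7177), (4564, 7178), (4565, 7179), (4566, 7180), (4567, 7181), (4568, 7633), (4569, 7182), (4570, 7183), (4571, 7639), (4572, 2721), (4573, 7642), (4574, 7643), (4575, 7187), (4576, 7188), (4577, 7189), (4578, 4418), (4579, 2724), (4580, 7650), (4581, 2726), (4582, 7651), (4583, 7195), (4584, 7196), (4585, 7197), (4586, 7198), (4587, 7199), (4588, 7200), (4589, 7665), (4590, 7202), (4591, 2731), (4592, 7669), (4593, 7668), (4594, 2733), (4595, 7672), (4596, 7673), (4597, 2735), (4598, 2736), (4599, 7678), (4600, 7679), (4601, 7680), (4602, 7681), (4603, 7218), (4604, 6372), (4605, 7694), (4606, 6378), (4607, 7219)]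
    ⟨e3 q4544 (flp_e L151309) q5878, e3 q4545 (flp_e L116389) q7077, e3 q4546 (flp_e L116395) q7078, e3 q4547 L121581 q7605, e3 q4548 (flp_e L116407) q7080, e3 q4549 (flp_e L163385) q5046, e3 q4550 (flp_e L97520) q2708, e3 q4551 (flp_e L121614) q7609, e3 q4552 (flp_e L116424) q7084, e3 q4553 (flp_e L116435) q7085, e3 q4554 (flp_e L116441) q7086, e3 q4555 (flp_e L116877) q7167, e3 q4556 (flp_e L116885) q7168, e3 q4557 (flp_e L116911) q7170, e3 q4558 (flp_e L97566) q2714, e3 q4559 (flp_e L121678) q7619, e3 q4560 (flp_e L116939) q7174, e3 q4561 (flp_e L116945) q7175, e3 q4562 (flp_e L116953) q7176, e3 q4563 (flp_e L116959) q7177, e3 q4564 (flp_e L116967) q7178, e3 q4565 (flp_e L116975) q7179, e3 q4566 (flp_e L116983) q7180, e3 q4567 (flp_e L116987) q7181, e3 q4568 L121749 q7633, e3 q4569 (flp_e L116997) q7182, e3 q4570 (flp_e L117003) q7183, e3 q4571 L121787 q7639, e3 q4572 (flp_e L97634) q2721, e3 q4573 (flp_e L121807) q7642, e3 q4574 (flp_e L121811) q7643, e3 q4575 (flp_e L117021) q7187, e3 q4576 (flp_e L117027)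 q7188, e3 q4577 (flp_e L117035) q7189, e3 q4578 L119207 q4418, e3 q4579 (flp_e L97664) q2724, e3 q4580 (flp_e L121853) q7650, e3 q4581 L97684 q2726, e3 q4582 (flp_e L121863) q7651, e3 q4583 (flp_e L117079) q7195, e3 q4584 (flp_e L117083) q7196, e3 q4585 (flp_e L117089) q7197, e3 q4586 (flp_e L117095) q7198, e3 q4587 (flp_e L117103) q7199, e3 q4588 (flp_e L117109) q7200, e3 q4589 L121927 q7665, e3 q4590 (flp_e L117121) q7202, e3 q4591 (flp_e L97722) q2731, e3 q4592 (flp_e L121950) q7669, e3 q4593 (flp_e L121942) q7668, e3 q4594 L97744 q2733, e3 q4595 (flp_e L121967) q7672, e3 q4596 (flp_e L121978) q7673, e3 q4597 L97759 q2735, e3 q4598 L97767 q2736, e3 q4599 (flp_e L121998) q7678, e3 q4600 (flp_e L122004) q7679, e3 q4601 (flp_e L122042) q7680, e3 q4602 (flp_e L122046) q7681, e3 q4603 (flp_e L117223) q7218, e3 q4604 (flp_e L111323) q6372, e3 q4605 L122096 q7694, e3 q4606 (flp_e L111361) q6378, e3 q4607 (flp_e L117227) q7219, trivial⟩ (by decide +kernel)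

theorem ce_e_72 : ∀ r, r < 64 → sm ge (Qf (4608 + r)) = Qf (tab Gen.e (4608 + r)) :=
  edges_tab (sm ge) Qf (tab Gen.e) 4608 [(4608, 7220), (4609, 7221), (4610, 7222), (4611, 7223), (4612, 7224), (4613, 7225), (4614, 7226), (4615, 7227), (4616, 7713), (4617, 7716), (4618, 2743), (4619, 7718), (4620, 7232), (4621, 7233), (4622, 7234), (4623, 7235), (4624, 7236), (4625, 7237), (4626, 7729), (4627, 7239), (4628, 7240), (4629, 7241), (4630, 7242), (4631, 7243), (4632, 7244), (4633, 7740), (4634, 7246), (4635, 7247), (4636, 7248), (4637, 7249), (4638, 7250), (4639, 7750), (4640, 7252), (4641, 7253), (4642, 7757), (4643, 2754), (4644, 7759), (4645, 7257), (4646, 7258), (4647, 7765), (4648, 7768), (4649, 2757), (4650, 7771), (4651, 2759), (4652, 7773), (4653, 7265), (4654, 7266), (4655, 7267), (4656, 7268), (4657, 7269), (4658, 7270), (4659, 7272), (4660, 2765), (4661, 7785), (4662, 7276), (4663, 7277), (4664, 7278), (4665, 7279), (4666, 7280), (4667, 7281), (4668, 7282), (4669, 7798), (4670, 7283), (4671, 7284)]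
    ⟨e3 q4608 (flp_e L117233) q7220, e3 q4609 (flp_e L117237) q7221, e3 q4610 (flp_e L117243) q7222, e3 q4611 (flp_e L117249) q7223, e3 q4612 (flp_e L117255) q7224, e3 q4613 (flp_e L117261) q7225, e3 q4614 (flp_e L117267) q7226, e3 q4615 (flp_e L117273) q7227, e3 q4616 L122184 q7713, e3 q4617 L122200 q7716, e3 q4618 (flp_e L97843) q2743, e3 q4619 (flp_e L122212) q7718, e3 q4620 (flp_e L117297) q7232, e3 q4621 (flp_e L117301) q7233, e3 q4622 (flp_e L117309) q7234, e3 q4623 (flp_e L117315) q7235, e3 q4624 (flp_e L117323) q7236, e3 q4625 (flp_e L117329) q7237, e3 q4626 L122256 q7729, e3 q4627 (flp_e L117341) q7239, e3 q4628 (flp_e L117347) q7240, e3 q4629 (flp_e L117355) q7241, e3 q4630 (flp_e L117361) q7242, e3 q4631 (flp_e L117367) q7243, e3 q4632 (flp_e L117375) q7244, e3 q4633 L122312 q7740, e3 q4634 (flp_e L117385) q7246, e3 q4635 (flp_e L117391) q7247, e3 q4636 (flp_e L117395) q7248, e3 q4637 (flp_e L117405) q7249, e3 q4638 (flp_e L117413) q7250, e3 q4639 L122358 q7750, e3 q4640 (flp_e L117421) q7252, e3 q4641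 (flp_e L117425) q7253, e3 q4642 L122388 q7757, e3 q4643 (flp_e L98005) q2754, e3 q4644 (flp_e L122408) q7759, e3 q4645 (flp_e L117449) q7257, e3 q4646 (flp_e L117453) q7258, e3 q4647 L122430 q7765, e3 q4648 L122444 q7768, e3 q4649 (flp_e L98031) q2757, e3 q4650 (flp_e L122464) q7771, e3 q4651 L98041 q2759, e3 q4652 (flp_e L122480) q7773, e3 q4653 (flp_e L117489) q7265, e3 q4654 (flp_e L117493) q7266, e3 q4655 (flp_e L117499) q7267, e3 q4656 (flp_e L117505) q7268, e3 q4657 (flp_e L117513) q7269, e3 q4658 (flp_e L117519) q7270, e3 q4659 (flp_e L117543) q7272, e3 q4660 (flp_e L98135) q2765, e3 q4661 (flp_e L122570) q7785, e3 q4662 (flp_e L117571) q7276, e3 q4663 (flp_e L117577) q7277, e3 q4664 (flp_e L117591) q7278, e3 q4665 (flp_e L117597) q7279, e3 q4666 (flp_e L117605) q7280, e3 q4667 (flp_e L117613) q7281, e3 q4668 (flp_e L117621) q7282, e3 q4669 L122653 q7798, e3 q4670 (flp_e L117631) q7283, e3 q4671 (flp_e L117637) q7284, trivial⟩ (by decide +kernel)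

theorem ce_e_73 : ∀ r, r < 64 → sm ge (Qf (4672 + r)) = Qf (tab Gen.e (4672 + r)) :=
  edges_tab (sm ge) Qf (tab Gen.e) 4672 [(4672, 7804), (4673, 2772), (4674, 7807), (4675, 7808), (4676, 7288), (4677, 7289), (4678, 7290), (4679, 4419), (4680, 2775), (4681, 7815), (4682, 2777), (4683, 7816), (4684, 7296), (4685, 7297), (4686, 7298), (4687, 7299), (4688, 7300), (4689, 7829), (4690, 7302), (4691, 2782), (4692, 7833), (4693, 7832), (4694, 2784), (4695, 7836), (4696, 7837), (4697, 2786), (4698, 2787), (4699, 7842), (4700, 7843), (4701, 7844), (4702, 7845), (4703, 7318), (4704, 6381), (4705, 7858), (4706, 6387), (4707, 7319), (4708, 7320), (4709, 7321), (4710, 7322), (4711, 7323), (4712, 7324), (4713, 7325), (4714, 7326), (4715, 7327), (4716, 7876), (4717, 7878), (4718, 2794), (4719, 7880), (4720, 7332), (4721, 7333), (4722, 7334), (4723, 7335), (4724, 7336), (4725, 7337), (4726, 7891), (4727, 7339), (4728, 7340), (4729, 7341), (4730, 7342), (4731, 7343), (4732, 7344), (4733, 7901), (4734, 7346), (4735, 7347)]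
    ⟨e3 q4672 L122688 q7804, e3 q4673 (flp_e L98208) q2772, e3 q4674 (flp_e L122706) q7807, e3 q4675 (flp_e L122710) q7808, e3 q4676 (flp_e L117655) q7288, e3 q4677 (flp_e L117661) q7289, e3 q4678 (flp_e L117669) q7290, e3 q4679 (flp_e L147654) q4419, e3 q4680 (flp_e L98238) q2775, e3 q4681 (flp_e L122774) q7815, e3 q4682 L98258 q2777, e3 q4683 (flp_e L122784) q7816, e3 q4684 (flp_e L117709) q7296, e3 q4685 (flp_e L117713) q7297, e3 q4686 (flp_e L117719) q7298, e3 q4687 (flp_e L117725) q7299, e3 q4688 (flp_e L117735) q7300, e3 q4689 L122846 q7829, e3 q4690 (flp_e L117743) q7302, e3 q4691 (flp_e L98292) q2782, e3 q4692 (flp_e L122869) q7833, e3 q4693 (flp_e L122861) q7832, e3 q4694 L98314 q2784, e3 q4695 (flp_e L122884) q7836, e3 q4696 (flp_e L122893) q7837, e3 q4697 L98329 q2786, e3 q4698 L98337 q2787, e3 q4699 (flp_e L122911) q7842, e3 q4700 (flp_e L122917) q7843, e3 q4701 (flp_e L122923) q7844, e3 q4702 (flp_e L122927) q7845, e3 q4703 (flp_e L117833) q7318, e3 q4704 (flp_e L111379) q6381, e3 q4705 L122987 q7858,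 e3 q4706 (flp_e L111415) q6387, e3 q4707 (flp_e L117837) q7319, e3 q4708 (flp_e L117843) q7320, e3 q4709 (flp_e L117847) q7321, e3 q4710 (flp_e L117853) q7322, e3 q4711 (flp_e L117859) q7323, e3 q4712 (flp_e L117865) q7324, e3 q4713 (flp_e L117869) q7325, e3 q4714 (flp_e L117877) q7326, e3 q4715 (flp_e L117883) q7327, e3 q4716 L123079 q7876, e3 q4717 L123087 q7878, e3 q4718 (flp_e L98423) q2794, e3 q4719 (flp_e L123103) q7880, e3 q4720 (flp_e L117907) q7332, e3 q4721 (flp_e L117911) q7333, e3 q4722 (flp_e L117919) q7334, e3 q4723 (flp_e L117925) q7335, e3 q4724 (flp_e L117933) q7336, e3 q4725 (flp_e L117941) q7337, e3 q4726 L123149 q7891, e3 q4727 (flp_e L117953) q7339, e3 q4728 (flp_e L117959) q7340, e3 q4729 (flp_e L117969) q7341, e3 q4730 (flp_e L117975) q7342, e3 q4731 (flp_e L117985) q7343, e3 q4732 (flp_e L117989) q7344, e3 q4733 L123207 q7901, e3 q4734 (flp_e L117999) q7346, e3 q4735 (flp_e L118005) q7347, trivial⟩ (by decide +kernel)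

theorem ce_e_74 : ∀ r, r < 64 → sm ge (Qf (4736 + r)) = Qf (tab Gen.e (4736 + r)) :=
  edges_tab (sm ge) Qf (tab Gen.e) 4736 [(4736, 7348), (4737, 7349), (4738, 7350), (4739, 7910), (4740, 7352), (4741, 7353), (4742, 2805), (4743, 7916), (4744, 7357), (4745, 7358), (4746, 7921), (4747, 2808), (4748, 7925), (4749, 2810), (4750, 7927), (4751, 7365), (4752, 7366), (4753, 7367), (4754, 7368), (4755, 2814), (4756, 2815), (4757, 7935), (4758, 7936), (4759, 7374), (4760, 7375), (4761, 7376), (4762, 6369), (4763, 7944), (4764, 6371), (4765, 7945), (4766, 2819), (4767, 7946), (4768, 6377), (4769, 7377), (4770, 7378), (4771, 7955), (4772, 7380), (4773, 7960), (4774, 7382), (4775, 7383), (4776, 7966), (4777, 2825), (4778, 7386), (4779, 7971), (4780, 7388), (4781, 7389), (4782, 7977), (4783, 2827), (4784, 7979), (4785, 7980), (4786, 7394), (4787, 7395), (4788, 7985), (4789, 2831), (4790, 7989), (4791, 7990), (4792, 4847), (4793, 2834), (4794, 2835), (4795, 7993), (4796, 7994), (4797, 7405), (4798, 7406), (4799, 7407)]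
    ⟨e3 q4736 (flp_e L118011) q7348, e3 q4737 (flp_e L118019) q7349, e3 q4738 (flp_e L118027) q7350, e3 q4739 L123253 q7910, e3 q4740 (flp_e L118035) q7352, e3 q4741 (flp_e L118039) q7353, e3 q4742 (flp_e L98555) q2805, e3 q4743 (flp_e L123283) q7916, e3 q4744 (flp_e L118063) q7357, e3 q4745 (flp_e L118067) q7358, e3 q4746 L123307 q7921, e3 q4747 (flp_e L98575) q2808, e3 q4748 (flp_e L123327) q7925, e3 q4749 L98585 q2810, e3 q4750 (flp_e L123345) q7927, e3 q4751 (flp_e L118103) q7365, e3 q4752 (flp_e L118107) q7366, e3 q4753 (flp_e L118113) q7367, e3 q4754 (flp_e L118119) q7368, e3 q4755 L98619 q2814, e3 q4756 L98623 q2815, e3 q4757 (flp_e L123381) q7935, e3 q4758 (flp_e L123387) q7936, e3 q4759 (flp_e L118214) q7374, e3 q4760 (flp_e L118219) q7375, e3 q4761 (flp_e L118223) q7376, e3 q4762 (flp_e L111303) q6369, e3 q4763 L123440 q7944, e3 q4764 (flp_e L111315) q6371, e3 q4765 L123444 q7945, e3 q4766 (flp_e L98685) q2819, e3 q4767 (flp_e L123456) q7946, e3 q4768 (flp_e L111351) q6377, e3 q4769 (flp_e L118227) q7377,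 e3 q4770 (flp_e L118232) q7378, e3 q4771 L123498 q7955, e3 q4772 (flp_e L118246) q7380, e3 q4773 L123526 q7960, e3 q4774 (flp_e L118256) q7382, e3 q4775 (flp_e L118262) q7383, e3 q4776 L123556 q7966, e3 q4777 (flp_e L98738) q2825, e3 q4778 (flp_e L118278) q7386, e3 q4779 L123576 q7971, e3 q4780 (flp_e L118288) q7388, e3 q4781 (flp_e L118294) q7389, e3 q4782 L123598 q7977, e3 q4783 (flp_e L98758) q2827, e3 q4784 (flp_e L123612) q7979, e3 q4785 (flp_e L123616) q7980, e3 q4786 (flp_e L118318) q7394, e3 q4787 (flp_e L118326) q7395, e3 q4788 L123642 q7985, e3 q4789 (flp_e L98784) q2831, e3 q4790 (flp_e L123660) q7989, e3 q4791 (flp_e L123664) q7990, e3 q4792 (flp_e L99139) q4847, e3 q4793 L98796 q2834, e3 q4794 L98800 q2835, e3 q4795 (flp_e L123678) q7993, e3 q4796 (flp_e L123684) q7994, e3 q4797 (flp_e L118387) q7405, e3 q4798 (flp_e L118396) q7406, e3 q4799 (flp_e L118402) q7407, trivial⟩ (by decide +kernel)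

theorem ce_e_75 : ∀ r, r < 64 → sm ge (Qf (4800 + r)) = Qf (tab Gen.e (4800 + r)) :=
  edges_tab (sm ge) Qf (tab Gen.e) 4800 [(4800, 6379), (4801, 8002), (4802, 6382), (4803, 8003), (4804, 2839), (4805, 8004), (4806, 6388), (4807, 7408), (4808, 7409), (4809, 8013), (4810, 7411), (4811, 8018), (4812, 7413), (4813, 7414), (4814, 8024), (4815, 2845), (4816, 7417), (4817, 8029), (4818, 7419), (4819, 7420), (4820, 8035), (4821, 2847), (4822, 8037), (4823, 8038), (4824, 7425), (4825, 7426), (4826, 8043), (4827, 2851), (4828, 8047), (4829, 8048), (4830, 4876), (4831, 2853), (4832, 3013), (4833, 4862), (4834, 3327), (4835, 3998), (4836, 8054), (4837, 8057), (4838, 2857), (4839, 2904), (4840, 4044), (4841, 8064), (4842, 2902), (4843, 8067), (4844, 2862), (4845, 8071), (4846, 8072), (4847, 4792), (4848, 8076), (4849, 8079), (4850, 2864), (4851, 2886), (4852, 4879), (4853, 8085), (4854, 2865), (4855, 8089), (4856, 8090), (4857, 8088), (4858, 2867), (4859, 2882), (4860, 2870), (4861, 2871), (4862, 4833), (4863, 3349)]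
    ⟨e3 q4800 (flp_e L111367) q6379, e3 q4801 L123850 q8002, e3 q4802 (flp_e L111387) q6382, e3 q4803 L123880 q8003, e3 q4804 (flp_e L98866) q2839, e3 q4805 (flp_e L123890) q8004, e3 q4806 (flp_e L111425) q6388, e3 q4807 (flp_e L118414) q7408, e3 q4808 (flp_e L118419) q7409, e3 q4809 L123936 q8013, e3 q4810 (flp_e L118435) q7411, e3 q4811 L123989 q8018, e3 q4812 (flp_e L118445) q7413, e3 q4813 (flp_e L118453) q7414, e3 q4814 L124019 q8024, e3 q4815 (flp_e L98921) q2845, e3 q4816 (flp_e L118467) q7417, e3 q4817 L124037 q8029, e3 q4818 (flp_e L118477) q7419, e3 q4819 (flp_e L118483) q7420, e3 q4820 L124067 q8035, e3 q4821 (flp_e L98941) q2847, e3 q4822 (flp_e L124081) q8037, e3 q4823 (flp_e L124087) q8038, e3 q4824 (flp_e L118507) q7425, e3 q4825 (flp_e L118515) q7426, e3 q4826 L124111 q8043, e3 q4827 (flp_e L98967) q2851, e3 q4828 (flp_e L124129) q8047, e3 q4829 (flp_e L124133) q8048, e3 q4830 (flp_e L99367) q4876, e3 q4831 L119355 q2853, e3 q4832 L119075 q3013, e3 q4833 L146796 q4862, e3 q4834 (flp_e L141816) q3327,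 e3 q4835 L142015 q3998, e3 q4836 L124219 q8054, e3 q4837 L124229 q8057, e3 q4838 (flp_e L99047) q2857, e3 q4839 L141098 q2904, e3 q4840 (flp_e L141062) q4044, e3 q4841 L124313 q8064, e3 q4842 L133619 q2902, e3 q4843 L124353 q8067, e3 q4844 (flp_e L99119) q2862, e3 q4845 (flp_e L124377) q8071, e3 q4846 (flp_e L124381) q8072, e3 q4847 L99139 q4792, e3 q4848 L124409 q8076, e3 q4849 L124421 q8079, e3 q4850 (flp_e L99147) q2864, e3 q4851 L147432 q2886, e3 q4852 L147465 q4879, e3 q4853 L124465 q8085, e3 q4854 (flp_e L99169) q2865, e3 q4855 (flp_e L124487) q8089, e3 q4856 (flp_e L124491) q8090, e3 q4857 (flp_e L124483) q8088, e3 q4858 L99189 q2867, e3 q4859 (flp_e L146868) q2882, e3 q4860 L99215 q2870, e3 q4861 (flp_e L147497) q2871, e3 q4862 (flp_e L146796) q4833, e3 q4863 L133407 q3349, trivial⟩ (by decide +kernel)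

theorem ce_e_76 : ∀ r, r < 64 → sm ge (Qf (4864 + r)) = Qf (tab Gen.e (4864 + r)) :=
  edges_tab (sm ge) Qf (tab Gen.e) 4864 [(4864, 3968), (4865, 8098), (4866, 8101), (4867, 2875), (4868, 2916), (4869, 4090), (4870, 8108), (4871, 2914), (4872, 8111), (4873, 2880), (4874, 8115), (4875, 8116), (4876, 4830), (4877, 8094), (4878, 8122), (4879, 4852), (4880, 8126), (4881, 2883), (4882, 8130), (4883, 8131), (4884, 8129), (4885, 2888), (4886, 2893), (4887, 2896), (4888, 2898), (4889, 2899), (4890, 2900), (4891, 8142), (4892, 8133), (4893, 8134), (4894, 2909), (4895, 4915), (4896, 8135), (4897, 8136), (4898, 2907), (4899, 8137), (4900, 8138), (4901, 8161), (4902, 8140), (4903, 8141), (4904, 3093), (4905, 8066), (4906, 2903), (4907, 8170), (4908, 8058), (4909, 2910), (4910, 2911), (4911, 2912), (4912, 8177), (4913, 8154), (4914, 8145), (4915, 4895), (4916, 8146), (4917, 8147), (4918, 8150), (4919, 8173), (4920, 8191), (4921, 8175), (4922, 8176), (4923, 3103), (4924, 8110), (4925, 2915), (4926, 8200), (4927, 8102)]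
    ⟨e3 q4864 L141140 q3968, e3 q4865 L124620 q8098, e3 q4866 L124630 q8101, e3 q4867 (flp_e L99281) q2875, e3 q4868 L142032 q2916, e3 q4869 (flp_e L136778) q4090, e3 q4870 L124696 q8108, e3 q4871 L142000 q2914, e3 q4872 L124746 q8111, e3 q4873 (flp_e L99347) q2880, e3 q4874 (flp_e L124770) q8115, e3 q4875 (flp_e L124776) q8116, e3 q4876 L99367 q4830, e3 q4877 (flp_e L147418) q8094, e3 q4878 L124814 q8122, e3 q4879 (flp_e L147465) q4852, e3 q4880 L124858 q8126, e3 q4881 (flp_e L99397) q2883, e3 q4882 (flp_e L124880) q8130, e3 q4883 (flp_e L124884) q8131, e3 q4884 (flp_e L124876) q8129, e3 q4885 L99443 q2888, e3 q4886 L142394 q2893, e3 q4887 (flp_e L134552) q2896, e3 q4888 (flp_e L134560) q2898, e3 q4889 (flp_e L134558) q2899, e3 q4890 L134469 q2900, e3 q4891 L125560 q8142, e3 q4892 (flp_e L142406) q8133, e3 q4893 (flp_e L142404) q8134, e3 q4894 (flp_e L147130) q2909, e3 q4895 (flp_e L147105) q4915, e3 q4896 (flp_e L134486) q8135, e3 q4897 (flp_e L134533) q8136, e3 q4898 L147206 q2907, e3 q4899 (flp_e L134536) q8137,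 e3 q4900 (flp_e L134519) q8138, e3 q4901 L125844 q8161, e3 q4902 (flp_e L134547) q8140, e3 q4903 (flp_e L134478) q8141, e3 q4904 (flp_e L139035) q3093, e3 q4905 (flp_e L141048) q8066, e3 q4906 (flp_e L100083) q2903, e3 q4907 (flp_e L125924) q8170, e3 q4908 (flp_e L141102) q8058, e3 q4909 (flp_e L136832) q2910, e3 q4910 (flp_e L136830) q2911, e3 q4911 (flp_e L136825) q2912, e3 q4912 L126372 q8177, e3 q4913 (flp_e L147222) q8154, e3 q4914 (flp_e L148813) q8145, e3 q4915 L147105 q4895, e3 q4916 (flp_e L147057) q8146, e3 q4917 (flp_e L147051) q8147, e3 q4918 (flp_e L148752) q8150, e3 q4919 (flp_e L136706) q8173, e3 q4920 L126656 q8191, e3 q4921 (flp_e L136722) q8175, e3 q4922 (flp_e L136818) q8176, e3 q4923 (flp_e L139764) q3103, e3 q4924 (flp_e L142003) q8110, e3 q4925 (flp_e L100507) q2915, e3 q4926 (flp_e L126722) q8200, e3 q4927 (flp_e L142036) q8102, trivial⟩ (by decide +kernel)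

theorem ce_e_77 : ∀ r, r < 64 → sm ge (Qf (4928 + r)) = Qf (tab Gen.e (4928 + r)) :=
  edges_tab (sm ge) Qf (tab Gen.e) 4928 [(4928, 2922), (4929, 2923), (4930, 2927), (4931, 2928), (4932, 5747), (4933, 5748), (4934, 5752), (4935, 5753), (4936, 5754), (4937, 5755), (4938, 8203), (4939, 8204), (4940, 2946), (4941, 2947), (4942, 3107), (4943, 2948), (4944, 2949), (4945, 3110), (4946, 3111), (4947, 2950), (4948, 2951), (4949, 3114), (4950, 3115), (4951, 3116), (4952, 3117), (4953, 3118), (4954, 3119), (4955, 2952), (4956, 2953), (4957, 2954), (4958, 2955), (4959, 2956), (4960, 2957), (4961, 3128), (4962, 3129), (4963, 3130), (4964, 3132), (4965, 3133), (4966, 3134), (4967, 2959), (4968, 2960), (4969, 2962), (4970, 2963), (4971, 8212), (4972, 8213), (4973, 8216), (4974, 8217), (4975, 8220), (4976, 8221), (4977, 8222), (4978, 8223), (4979, 7206), (4980, 8234), (4981, 8235), (4982, 8236), (4983, 8237), (4984, 7307), (4985, 8238), (4986, 8239), (4987, 8240), (4988, 8241), (4989, 7037), (4990, 7040), (4991, 8248)]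
    ⟨e3 q4928 L101751 q2922, e3 q4929 L101759 q2923, e3 q4930 L101765 q2927, e3 q4931 L101775 q2928, e3 q4932 (flp_e L107133) q5747, e3 q4933 (flp_e L107141) q5748, e3 q4934 (flp_e L107158) q5752, e3 q4935 (flp_e L107164) q5753, e3 q4936 (flp_e L107170) q5754, e3 q4937 (flp_e L107180) q5755, e3 q4938 (flp_e L128559) q8203, e3 q4939 (flp_e L128564) q8204, e3 q4940 L101839 q2946, e3 q4941 L101849 q2947, e3 q4942 L101859 q3107, e3 q4943 L101865 q2948, e3 q4944 L101869 q2949, e3 q4945 L101879 q3110, e3 q4946 L101889 q3111, e3 q4947 L101893 q2950, e3 q4948 L101897 q2951, e3 q4949 L101907 q3114, e3 q4950 L101917 q3115, e3 q4951 L101923 q3116, e3 q4952 L101931 q3117, e3 q4953 L101939 q3118, e3 q4954 L101949 q3119, e3 q4955 L101956 q2952, e3 q4956 L101963 q2953, e3 q4957 L101967 q2954, e3 q4958 L101972 q2955, e3 q4959 L101979 q2956, e3 q4960 L101983 q2957, e3 q4961 L101989 q3128, e3 q4962 L101997 q3129, e3 q4963 L102007 q3130, e3 q4964 L102013 q3132, e3 q4965 L102108 q3133, e3 q4966 L102118 q3134, e3 q4967 L102129 q2959,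 e3 q4968 L102138 q2960, e3 q4969 L102151 q2962, e3 q4970 L102160 q2963, e3 q4971 (flp_e L128675) q8212, e3 q4972 (flp_e L128683) q8213, e3 q4973 (flp_e L128713) q8216, e3 q4974 (flp_e L128727) q8217, e3 q4975 (flp_e L128745) q8220, e3 q4976 (flp_e L128749) q8221, e3 q4977 (flp_e L128753) q8222, e3 q4978 (flp_e L128761) q8223, e3 q4979 (flp_e L117145) q7206, e3 q4980 (flp_e L128845) q8234, e3 q4981 (flp_e L128851) q8235, e3 q4982 (flp_e L128855) q8236, e3 q4983 (flp_e L128859) q8237, e3 q4984 (flp_e L149717) q7307, e3 q4985 (flp_e L128869) q8238, e3 q4986 (flp_e L128875) q8239, e3 q4987 (flp_e L128879) q8240, e3 q4988 (flp_e L128883) q8241, e3 q4989 L116055 q7037, e3 q4990 (flp_e L116088) q7040, e3 q4991 (flp_e L128961) q8248, trivial⟩ (by decide +kernel)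

theorem ce_e_78 : ∀ r, r < 64 → sm ge (Qf (4992 + r)) = Qf (tab Gen.e (4992 + r)) :=
  edges_tab (sm ge) Qf (tab Gen.e) 4992 [(4992, 8249), (4993, 7065), (4994, 7068), (4995, 8250), (4996, 8251), (4997, 2973), (4998, 2975), (4999, 2977), (5000, 2978), (5001, 2979), (5002, 2980), (5003, 2981), (5004, 2982), (5005, 8318), (5006, 8319), (5007, 2995), (5008, 2997), (5009, 8300), (5010, 8301), (5011, 8302), (5012, 8303), (5013, 8304), (5014, 8305), (5015, 8306), (5016, 8307), (5017, 8308), (5018, 8336), (5019, 8310), (5020, 8311), (5021, 8312), (5022, 8313), (5023, 8314), (5024, 8344), (5025, 8316), (5026, 8317), (5027, 2983), (5028, 2984), (5029, 3014), (5030, 3015), (5031, 6558), (5032, 3929), (5033, 6597), (5034, 3901), (5035, 3032), (5036, 3033), (5037, 3034), (5038, 3035), (5039, 3036), (5040, 3037), (5041, 3038), (5042, 3039), (5043, 8320), (5044, 8321), (5045, 8322), (5046, 4549), (5047, 8323), (5048, 8324), (5049, 8325), (5050, 4514), (5051, 3052), (5052, 3053), (5053, 3054), (5054, 8393), (5055, 3056)]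
    ⟨e3 q4992 (flp_e L128965) q8249, e3 q4993 (flp_e L149003) q7065, e3 q4994 (flp_e L148979) q7068, e3 q4995 (flp_e L128988) q8250, e3 q4996 (flp_e L128992) q8251, e3 q4997 L102345 q2973, e3 q4998 L102353 q2975, e3 q4999 L102359 q2977, e3 q5000 L102363 q2978, e3 q5001 L102369 q2979, e3 q5002 L102373 q2980, e3 q5003 L102377 q2981, e3 q5004 L102383 q2982, e3 q5005 L129476 q8318, e3 q5006 L129488 q8319, e3 q5007 L102409 q2995, e3 q5008 L102415 q2997, e3 q5009 (flp_e L129340) q8300, e3 q5010 (flp_e L129352) q8301, e3 q5011 (flp_e L129363) q8302, e3 q5012 (flp_e L129369) q8303, e3 q5013 (flp_e L129375) q8304, e3 q5014 (flp_e L129384) q8305, e3 q5015 (flp_e L129390) q8306, e3 q5016 (flp_e L129396) q8307, e3 q5017 (flp_e L129408) q8308, e3 q5018 L129767 q8336, e3 q5019 (flp_e L129426) q8310, e3 q5020 (flp_e L129434) q8311, e3 q5021 (flp_e L129440) q8312, e3 q5022 (flp_e L129446) q8313, e3 q5023 (flp_e L129452) q8314, e3 q5024 L129826 q8344, e3 q5025 (flp_e L129464) q8316, e3 q5026 (flp_e L129472) q8317, e3 q5027 (flp_e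 L102495) q2983, e3 q5028 (flp_e L102500) q2984, e3 q5029 L102507 q3014, e3 q5030 L102511 q3015, e3 q5031 L119771 q6558, e3 q5032 L146572 q3929, e3 q5033 (flp_e L146517) q6597, e3 q5034 L119173 q3901, e3 q5035 L102561 q3032, e3 q5036 L102567 q3033, e3 q5037 L102575 q3034, e3 q5038 L102579 q3035, e3 q5039 L102583 q3036, e3 q5040 L102589 q3037, e3 q5041 L102597 q3038, e3 q5042 L102601 q3039, e3 q5043 (flp_e L129506) q8320, e3 q5044 (flp_e L129518) q8321, e3 q5045 (flp_e L129527) q8322, e3 q5046 L163385 q4549, e3 q5047 (flp_e L129533) q8323, e3 q5048 (flp_e L129650) q8324, e3 q5049 (flp_e L129659) q8325, e3 q5050 L163238 q4514, e3 q5051 L102639 q3052, e3 q5052 L102645 q3053, e3 q5053 L102651 q3054, e3 q5054 L130194 q8393, e3 q5055 L102663 q3056, trivial⟩ (by decide +kernel)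

theorem ce_e_79 : ∀ r, r < 64 → sm ge (Qf (5056 + r)) = Qf (tab Gen.e (5056 + r)) :=
  edges_tab (sm ge) Qf (tab Gen.e) 5056 [(5056, 3057), (5057, 3058), (5058, 3059), (5059, 3060), (5060, 3061), (5061, 3062), (5062, 3063), (5063, 3064), (5064, 8412), (5065, 3066), (5066, 3067), (5067, 3068), (5068, 3069), (5069, 3070), (5070, 3071), (5071, 3007), (5072, 8426), (5073, 3077), (5074, 8430), (5075, 3010), (5076, 8431), (5077, 3084), (5078, 8435), (5079, 8348), (5080, 8349), (5081, 3016), (5082, 3022), (5083, 8437), (5084, 8438), (5085, 5798), (5086, 3024), (5087, 3025), (5088, 8441), (5089, 6660), (5090, 8442), (5091, 6612), (5092, 3028), (5093, 3030), (5094, 4005), (5095, 4004), (5096, 8443), (5097, 6662), (5098, 4051), (5099, 4050), (5100, 8444), (5101, 6614), (5102, 8358), (5103, 8359), (5104, 8361), (5105, 8362), (5106, 8363), (5107, 8364), (5108, 8365), (5109, 8366), (5110, 8367), (5111, 8369), (5112, 8370), (5113, 8371), (5114, 8372), (5115, 8373), (5116, 3044), (5117, 3045), (5118, 3046), (5119, 3047)]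
    ⟨e3 q5056 L102667 q3057, e3 q5057 L102675 q3058, e3 q5058 L102681 q3059, e3 q5059 L102685 q3060, e3 q5060 L102691 q3061, e3 q5061 L102697 q3062, e3 q5062 L102703 q3063, e3 q5063 L102709 q3064, e3 q5064 L130314 q8412, e3 q5065 L102721 q3066, e3 q5066 L102725 q3067, e3 q5067 L102733 q3068, e3 q5068 L102739 q3069, e3 q5069 L102743 q3070, e3 q5070 L102749 q3071, e3 q5071 (flp_e L102753) q3007, e3 q5072 (flp_e L130406) q8426, e3 q5073 L102769 q3077, e3 q5074 L130424 q8430, e3 q5075 (flp_e L102777) q3010, e3 q5076 (flp_e L130438) q8431, e3 q5077 L102795 q3084, e3 q5078 L130460 q8435, e3 q5079 (flp_e L129848) q8348, e3 q5080 (flp_e L129866) q8349, e3 q5081 (flp_e L102839) q3016, e3 q5082 (flp_e L102904) q3022, e3 q5083 (flp_e L130604) q8437, e3 q5084 (flp_e L130612) q8438, e3 q5085 L107455 q5798, e3 q5086 L102934 q3024, e3 q5087 L102940 q3025, e3 q5088 (flp_e L130630) q8441, e3 q5089 L146687 q6660, e3 q5090 (flp_e L130650) q8442, e3 q5091 (flp_e L119767) q6612, e3 q5092 L102962 q3028, e3 q5093 L102974 q3030, e3 q5094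 L119783 q4005, e3 q5095 L119797 q4004, e3 q5096 (flp_e L142823) q8443, e3 q5097 (flp_e L147403) q6662, e3 q5098 L146499 q4051, e3 q5099 L148348 q4050, e3 q5100 (flp_e L142849) q8444, e3 q5101 L119807 q6614, e3 q5102 (flp_e L129946) q8358, e3 q5103 (flp_e L129956) q8359, e3 q5104 (flp_e L129972) q8361, e3 q5105 (flp_e L129976) q8362, e3 q5106 (flp_e L129982) q8363, e3 q5107 (flp_e L129986) q8364, e3 q5108 (flp_e L129992) q8365, e3 q5109 (flp_e L129998) q8366, e3 q5110 (flp_e L130004) q8367, e3 q5111 (flp_e L130018) q8369, e3 q5112 (flp_e L130022) q8370, e3 q5113 (flp_e L130028) q8371, e3 q5114 (flp_e L130032) q8372, e3 q5115 (flp_e L130040) q8373, e3 q5116 L103088 q3044, e3 q5117 L103092 q3045, e3 q5118 L103096 q3046, e3 q5119 L103102 q3047, trivial⟩ (by decide +kernel)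

theorem ce_e_80 : ∀ r, r < 64 → sm ge (Qf (5120 + r)) = Qf (tab Gen.e (5120 + r)) :=
  edges_tab (sm ge) Qf (tab Gen.e) 5120 [(5120, 3048), (5121, 3049), (5122, 3050), (5123, 3051), (5124, 8473), (5125, 6712), (5126, 8474), (5127, 6708), (5128, 6463), (5129, 6461), (5130, 8475), (5131, 8476), (5132, 6787), (5133, 8477), (5134, 6784), (5135, 6432), (5136, 6430), (5137, 8478), (5138, 8388), (5139, 8389), (5140, 8497), (5141, 8391), (5142, 8392), (5143, 3055), (5144, 8502), (5145, 8395), (5146, 8396), (5147, 8397), (5148, 8398), (5149, 8399), (5150, 8400), (5151, 8401), (5152, 8402), (5153, 8403), (5154, 8520), (5155, 8405), (5156, 8406), (5157, 8407), (5158, 8408), (5159, 8526), (5160, 8410), (5161, 8411), (5162, 3065), (5163, 8531), (5164, 8414), (5165, 8415), (5166, 8416), (5167, 8417), (5168, 8418), (5169, 8419), (5170, 8420), (5171, 8421), (5172, 8422), (5173, 8549), (5174, 8424), (5175, 8425), (5176, 5357), (5177, 5359), (5178, 3073), (5179, 8554), (5180, 3074), (5181, 8556), (5182, 3076), (5183, 8557)]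
    ⟨e3 q5120 L103106 q3048, e3 q5121 L103110 q3049, e3 q5122 L103114 q3050, e3 q5123 L103120 q3051, e3 q5124 (flp_e L143047) q8473, e3 q5125 (flp_e L120377) q6712, e3 q5126 (flp_e L143055) q8474, e3 q5127 (flp_e L120365) q6708, e3 q5128 (flp_e L163339) q6463, e3 q5129 L163312 q6461, e3 q5130 (flp_e L143079) q8475, e3 q5131 (flp_e L143089) q8476, e3 q5132 (flp_e L146462) q6787, e3 q5133 (flp_e L143107) q8477, e3 q5134 (flp_e L146493) q6784, e3 q5135 L163158 q6432, e3 q5136 (flp_e L163182) q6430, e3 q5137 (flp_e L143135) q8478, e3 q5138 (flp_e L130168) q8388, e3 q5139 (flp_e L130174) q8389, e3 q5140 L143305 q8497, e3 q5141 (flp_e L130186) q8391, e3 q5142 (flp_e L130192) q8392, e3 q5143 (flp_e L103248) q3055, e3 q5144 (flp_e L143339) q8502, e3 q5145 (flp_e L130206) q8395, e3 q5146 (flp_e L130216) q8396, e3 q5147 (flp_e L130222) q8397, e3 q5148 (flp_e L130228) q8398, e3 q5149 (flp_e L130234) q8399, e3 q5150 (flp_e L130238) q8400, e3 q5151 (flp_e L130242) q8401, e3 q5152 (flp_e L130248) q8402, e3 q5153 (flp_e L130254)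 q8403, e3 q5154 L143461 q8520, e3 q5155 (flp_e L130266) q8405, e3 q5156 (flp_e L130274) q8406, e3 q5157 (flp_e L130286) q8407, e3 q5158 (flp_e L130294) q8408, e3 q5159 L143529 q8526, e3 q5160 (flp_e L130306) q8410, e3 q5161 (flp_e L130312) q8411, e3 q5162 (flp_e L103334) q3065, e3 q5163 (flp_e L143571) q8531, e3 q5164 (flp_e L130326) q8414, e3 q5165 (flp_e L130336) q8415, e3 q5166 (flp_e L130342) q8416, e3 q5167 (flp_e L130348) q8417, e3 q5168 (flp_e L130354) q8418, e3 q5169 (flp_e L130358) q8419, e3 q5170 (flp_e L130362) q8420, e3 q5171 (flp_e L130368) q8421, e3 q5172 (flp_e L130376) q8422, e3 q5173 L143675 q8549, e3 q5174 (flp_e L130388) q8424, e3 q5175 (flp_e L130396) q8425, e3 q5176 (flp_e L104540) q5357, e3 q5177 (flp_e L104556) q5359, e3 q5178 (flp_e L103409) q3073, e3 q5179 L143707 q8554, e3 q5180 (flp_e L103417) q3074, e3 q5181 (flp_e L143733) q8556, e3 q5182 L103433 q3076, e3 q5183 (flp_e L143739) q8557, trivial⟩ (by decide +kernel)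

theorem ce_e_81 : ∀ r, r < 64 → sm ge (Qf (5184 + r)) = Qf (tab Gen.e (5184 + r)) :=
  edges_tab (sm ge) Qf (tab Gen.e) 5184 [(5184, 8428), (5185, 8429), (5186, 3078), (5187, 5367), (5188, 5369), (5189, 3080), (5190, 8563), (5191, 3081), (5192, 8565), (5193, 3083), (5194, 8566), (5195, 8433), (5196, 8434), (5197, 3085), (5198, 3086), (5199, 3088), (5200, 3574), (5201, 3091), (5202, 8572), (5203, 8166), (5204, 8577), (5205, 3094), (5206, 3096), (5207, 3098), (5208, 3584), (5209, 3101), (5210, 8581), (5211, 8196), (5212, 8586), (5213, 3104), (5214, 8211), (5215, 3192), (5216, 3193), (5217, 8214), (5218, 8215), (5219, 3194), (5220, 3195), (5221, 3196), (5222, 3197), (5223, 8218), (5224, 8219), (5225, 3198), (5226, 3199), (5227, 3200), (5228, 3201), (5229, 3202), (5230, 3203), (5231, 8224), (5232, 8225), (5233, 8226), (5234, 8227), (5235, 8228), (5236, 8229), (5237, 8230), (5238, 8231), (5239, 8232), (5240, 8233), (5241, 3204), (5242, 3205), (5243, 8642), (5244, 3207), (5245, 3208), (5246, 3209), (5247, 3210)]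
    ⟨e3 q5184 (flp_e L130414) q8428, e3 q5185 (flp_e L130420) q8429, e3 q5186 (flp_e L103447) q3078, e3 q5187 (flp_e L104623) q5367, e3 q5188 (flp_e L104632) q5369, e3 q5189 (flp_e L103468) q3080, e3 q5190 L143807 q8563, e3 q5191 (flp_e L103476) q3081, e3 q5192 (flp_e L143831) q8565, e3 q5193 L103492 q3083, e3 q5194 (flp_e L143841) q8566, e3 q5195 (flp_e L130450) q8433, e3 q5196 (flp_e L130456) q8434, e3 q5197 (flp_e L103510) q3085, e3 q5198 L120431 q3086, e3 q5199 L119870 q3088, e3 q5200 L119515 q3574, e3 q5201 (flp_e L103572) q3091, e3 q5202 (flp_e L143885) q8572, e3 q5203 (flp_e L142748) q8166, e3 q5204 L143915 q8577, e3 q5205 (flp_e L103606) q3094, e3 q5206 L129636 q3096, e3 q5207 L129621 q3098, e3 q5208 L147772 q3584, e3 q5209 (flp_e L103668) q3101, e3 q5210 (flp_e L144035) q8581, e3 q5211 (flp_e L142766) q8196, e3 q5212 L144057 q8586, e3 q5213 (flp_e L103704) q3104, e3 q5214 (flp_e L128665) q8211, e3 q5215 L103740 q3192, e3 q5216 L103748 q3193, e3 q5217 (flp_e L128701) q8214, e3 q5218 (flp_e L128709) q8215,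 e3 q5219 L103764 q3194, e3 q5220 L103770 q3195, e3 q5221 L103776 q3196, e3 q5222 L103786 q3197, e3 q5223 (flp_e L128735) q8218, e3 q5224 (flp_e L128741) q8219, e3 q5225 L103800 q3198, e3 q5226 L103804 q3199, e3 q5227 L103808 q3200, e3 q5228 L103812 q3201, e3 q5229 L103816 q3202, e3 q5230 L103820 q3203, e3 q5231 (flp_e L128767) q8224, e3 q5232 (flp_e L128775) q8225, e3 q5233 (flp_e L128783) q8226, e3 q5234 (flp_e L128793) q8227, e3 q5235 (flp_e L128803) q8228, e3 q5236 (flp_e L128809) q8229, e3 q5237 (flp_e L128815) q8230, e3 q5238 (flp_e L128825) q8231, e3 q5239 (flp_e L128835) q8232, e3 q5240 (flp_e L128841) q8233, e3 q5241 L103889 q3204, e3 q5242 L103895 q3205, e3 q5243 L144407 q8642, e3 q5244 L103907 q3207, e3 q5245 L103911 q3208, e3 q5246 L103917 q3209, e3 q5247 L103921 q3210, trivial⟩ (by decide +kernel)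

theorem ce_e_82 : ∀ r, r < 64 → sm ge (Qf (5248 + r)) = Qf (tab Gen.e (5248 + r)) :=
  edges_tab (sm ge) Qf (tab Gen.e) 5248 [(5248, 3211), (5249, 3212), (5250, 3213), (5251, 8658), (5252, 3215), (5253, 3216), (5254, 3217), (5255, 3218), (5256, 3219), (5257, 7039), (5258, 8242), (5259, 8243), (5260, 5272), (5261, 8244), (5262, 5270), (5263, 5271), (5264, 5268), (5265, 7067), (5266, 8245), (5267, 8246), (5268, 5264), (5269, 8247), (5270, 5262), (5271, 5263), (5272, 5260), (5273, 3220), (5274, 3221), (5275, 3222), (5276, 3223), (5277, 3224), (5278, 8706), (5279, 3226), (5280, 3227), (5281, 3139), (5282, 8712), (5283, 3230), (5284, 3231), (5285, 3232), (5286, 3233), (5287, 3234), (5288, 3235), (5289, 3236), (5290, 3237), (5291, 3238), (5292, 8735), (5293, 3240), (5294, 3241), (5295, 3242), (5296, 3243), (5297, 3244), (5298, 3245), (5299, 3246), (5300, 8751), (5301, 3248), (5302, 3249), (5303, 3149), (5304, 8757), (5305, 3252), (5306, 3253), (5307, 3254), (5308, 3255), (5309, 3256), (5310, 3257), (5311, 3258)]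
    ⟨e3 q5248 L103925 q3211, e3 q5249 L103931 q3212, e3 q5250 L103937 q3213, e3 q5251 L144501 q8658, e3 q5252 L103949 q3215, e3 q5253 L103953 q3216, e3 q5254 L103959 q3217, e3 q5255 L103963 q3218, e3 q5256 L103967 q3219, e3 q5257 (flp_e L116041) q7039, e3 q5258 (flp_e L128895) q8242, e3 q5259 (flp_e L128907) q8243, e3 q5260 (flp_e L104077) q5272, e3 q5261 (flp_e L128915) q8244, e3 q5262 (flp_e L104065) q5270, e3 q5263 (flp_e L104069) q5271, e3 q5264 (flp_e L104049) q5268, e3 q5265 (flp_e L148986) q7067, e3 q5266 (flp_e L128935) q8245, e3 q5267 (flp_e L128947) q8246, e3 q5268 L104049 q5264, e3 q5269 (flp_e L128955) q8247, e3 q5270 L104065 q5262, e3 q5271 L104069 q5263, e3 q5272 L104077 q5260, e3 q5273 L104083 q3220, e3 q5274 L104087 q3221, e3 q5275 L104091 q3222, e3 q5276 L104095 q3223, e3 q5277 L104099 q3224, e3 q5278 L144807 q8706, e3 q5279 L104111 q3226, e3 q5280 L104117 q3227, e3 q5281 (flp_e L104119) q3139, e3 q5282 (flp_e L144843) q8712, e3 q5283 L104131 q3230, e3 q5284 L104141 q3231, e3 q5285 L104147 q3232,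 e3 q5286 L104153 q3233, e3 q5287 L104159 q3234, e3 q5288 L104163 q3235, e3 q5289 L104167 q3236, e3 q5290 L104173 q3237, e3 q5291 L104179 q3238, e3 q5292 L144973 q8735, e3 q5293 L104191 q3240, e3 q5294 L104198 q3241, e3 q5295 L104204 q3242, e3 q5296 L104208 q3243, e3 q5297 L104212 q3244, e3 q5298 L104216 q3245, e3 q5299 L104220 q3246, e3 q5300 L145074 q8751, e3 q5301 L104232 q3248, e3 q5302 L104238 q3249, e3 q5303 (flp_e L104240) q3149, e3 q5304 (flp_e L145110) q8757, e3 q5305 L104252 q3252, e3 q5306 L104262 q3253, e3 q5307 L104268 q3254, e3 q5308 L104274 q3255, e3 q5309 L104280 q3256, e3 q5310 L104284 q3257, e3 q5311 L104288 q3258, trivial⟩ (by decide +kernel)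

theorem ce_e_83 : ∀ r, r < 64 → sm ge (Qf (5312 + r)) = Qf (tab Gen.e (5312 + r)) :=
  edges_tab (sm ge) Qf (tab Gen.e) 5312 [(5312, 3259), (5313, 3260), (5314, 8780), (5315, 3262), (5316, 3263), (5317, 3264), (5318, 7528), (5319, 3266), (5320, 8789), (5321, 3268), (5322, 3269), (5323, 3158), (5324, 3160), (5325, 8794), (5326, 8795), (5327, 3277), (5328, 3278), (5329, 3279), (5330, 3280), (5331, 3281), (5332, 8812), (5333, 3283), (5334, 8817), (5335, 8819), (5336, 3166), (5337, 3287), (5338, 7573), (5339, 3289), (5340, 8826), (5341, 3291), (5342, 3292), (5343, 3169), (5344, 3171), (5345, 8831), (5346, 8832), (5347, 3300), (5348, 3301), (5349, 3302), (5350, 3303), (5351, 3304), (5352, 8849), (5353, 3306), (5354, 8854), (5355, 8856), (5356, 3177), (5357, 5176), (5358, 7172), (5359, 5177), (5360, 3179), (5361, 3190), (5362, 4411), (5363, 4412), (5364, 5942), (5365, 5943), (5366, 8870), (5367, 5187), (5368, 7275), (5369, 5188), (5370, 3185), (5371, 3191), (5372, 4414), (5373, 4415), (5374, 5945), (5375, 5946)]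
    ⟨e3 q5312 L104294 q3259, e3 q5313 L104300 q3260, e3 q5314 L145232 q8780, e3 q5315 L104312 q3262, e3 q5316 L104319 q3263, e3 q5317 L104325 q3264, e3 q5318 (flp_e L121060) q7528, e3 q5319 L104339 q3266, e3 q5320 L145302 q8789, e3 q5321 L104347 q3268, e3 q5322 L104351 q3269, e3 q5323 (flp_e L104353) q3158, e3 q5324 L104363 q3160, e3 q5325 (flp_e L145344) q8794, e3 q5326 (flp_e L145354) q8795, e3 q5327 L104381 q3277, e3 q5328 L104385 q3278, e3 q5329 L104391 q3279, e3 q5330 L104395 q3280, e3 q5331 L104401 q3281, e3 q5332 L145444 q8812, e3 q5333 L104413 q3283, e3 q5334 L145467 q8817, e3 q5335 L145476 q8819, e3 q5336 (flp_e L104423) q3166, e3 q5337 L104430 q3287, e3 q5338 (flp_e L151150) q7573, e3 q5339 L104444 q3289, e3 q5340 L145534 q8826, e3 q5341 L104452 q3291, e3 q5342 L104456 q3292, e3 q5343 (flp_e L104458) q3169, e3 q5344 L104468 q3171, e3 q5345 (flp_e L145566) q8831, e3 q5346 (flp_e L145576) q8832, e3 q5347 L104486 q3300, e3 q5348 L104490 q3301, e3 q5349 L104496 q3302, e3 q5350 L104500 q3303, e3 q5351 L104508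 q3304, e3 q5352 L145670 q8849, e3 q5353 L104520 q3306, e3 q5354 L145699 q8854, e3 q5355 L145708 q8856, e3 q5356 (flp_e L104532) q3177, e3 q5357 L104540 q5176, e3 q5358 (flp_e L120285) q7172, e3 q5359 L104556 q5177, e3 q5360 (flp_e L104558) q3179, e3 q5361 L104570 q3190, e3 q5362 L132471 q4411, e3 q5363 L141633 q4412, e3 q5364 (flp_e L142788) q5942, e3 q5365 (flp_e L142790) q5943, e3 q5366 L145794 q8870, e3 q5367 L104623 q5187, e3 q5368 (flp_e L150003) q7275, e3 q5369 L104632 q5188, e3 q5370 (flp_e L104641) q3185, e3 q5371 L104653 q3191, e3 q5372 L137791 q4414, e3 q5373 L141608 q4415, e3 q5374 L142784 q5945, e3 q5375 L142786 q5946, trivial⟩ (by decide +kernel)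

theorem ce_e_84 : ∀ r, r < 64 → sm ge (Qf (5376 + r)) = Qf (tab Gen.e (5376 + r)) :=
  edges_tab (sm ge) Qf (tab Gen.e) 5376 [(5376, 8883), (5377, 8591), (5378, 8592), (5379, 8597), (5380, 8598), (5381, 8599), (5382, 8600), (5383, 8601), (5384, 8602), (5385, 8603), (5386, 8604), (5387, 8611), (5388, 8612), (5389, 8613), (5390, 8614), (5391, 8615), (5392, 8616), (5393, 8617), (5394, 8618), (5395, 8619), (5396, 8620), (5397, 8637), (5398, 8638), (5399, 8639), (5400, 8640), (5401, 3206), (5402, 8917), (5403, 8644), (5404, 8645), (5405, 8646), (5406, 8647), (5407, 8648), (5408, 8649), (5409, 8650), (5410, 6532), (5411, 8651), (5412, 8652), (5413, 8653), (5414, 8654), (5415, 8655), (5416, 8656), (5417, 3214), (5418, 8933), (5419, 8660), (5420, 8661), (5421, 8662), (5422, 8663), (5423, 8664), (5424, 8665), (5425, 8666), (5426, 6499), (5427, 8667), (5428, 8668), (5429, 8693), (5430, 8694), (5431, 8695), (5432, 8696), (5433, 8953), (5434, 8698), (5435, 8699), (5436, 8700), (5437, 8701), (5438, 8702), (5439, 8963)]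
    ⟨e3 q5376 L145918 q8883, e3 q5377 (flp_e L144107) q8591, e3 q5378 (flp_e L144111) q8592, e3 q5379 (flp_e L144145) q8597, e3 q5380 (flp_e L144159) q8598, e3 q5381 (flp_e L144165) q8599, e3 q5382 (flp_e L144169) q8600, e3 q5383 (flp_e L144173) q8601, e3 q5384 (flp_e L144179) q8602, e3 q5385 (flp_e L144185) q8603, e3 q5386 (flp_e L144189) q8604, e3 q5387 (flp_e L144217) q8611, e3 q5388 (flp_e L144223) q8612, e3 q5389 (flp_e L144231) q8613, e3 q5390 (flp_e L144239) q8614, e3 q5391 (flp_e L144245) q8615, e3 q5392 (flp_e L144251) q8616, e3 q5393 (flp_e L144257) q8617, e3 q5394 (flp_e L144263) q8618, e3 q5395 (flp_e L144273) q8619, e3 q5396 (flp_e L144279) q8620, e3 q5397 (flp_e L144379) q8637, e3 q5398 (flp_e L144383) q8638, e3 q5399 (flp_e L144393) q8639, e3 q5400 (flp_e L144399) q8640, e3 q5401 (flp_e L104907) q3206, e3 q5402 (flp_e L151614) q8917, e3 q5403 (flp_e L144421) q8644, e3 q5404 (flp_e L144425) q8645, e3 q5405 (flp_e L144431) q8646, e3 q5406 (flp_e L144437) q8647, e3 q5407 (flp_e L144441) q8648, e3 q5408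 (flp_e L144447) q8649, e3 q5409 (flp_e L144453) q8650, e3 q5410 L163714 q6532, e3 q5411 (flp_e L144463) q8651, e3 q5412 (flp_e L144469) q8652, e3 q5413 (flp_e L144475) q8653, e3 q5414 (flp_e L144479) q8654, e3 q5415 (flp_e L144483) q8655, e3 q5416 (flp_e L144487) q8656, e3 q5417 (flp_e L104971) q3214, e3 q5418 (flp_e L151722) q8933, e3 q5419 (flp_e L144513) q8660, e3 q5420 (flp_e L144517) q8661, e3 q5421 (flp_e L144523) q8662, e3 q5422 (flp_e L144529) q8663, e3 q5423 (flp_e L144533) q8664, e3 q5424 (flp_e L144539) q8665, e3 q5425 (flp_e L144545) q8666, e3 q5426 L163540 q6499, e3 q5427 (flp_e L144555) q8667, e3 q5428 (flp_e L144561) q8668, e3 q5429 (flp_e L144735) q8693, e3 q5430 (flp_e L144745) q8694, e3 q5431 (flp_e L144751) q8695, e3 q5432 (flp_e L144755) q8696, e3 q5433 L151878 q8953, e3 q5434 (flp_e L144767) q8698, e3 q5435 (flp_e L144773) q8699, e3 q5436 (flp_e L144777) q8700, e3 q5437 (flp_e L144783) q8701, e3 q5438 (flp_e L144791) q8702, e3 q5439 L151940 q8963, trivial⟩ (by decide +kernel)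

theorem ce_e_85 : ∀ r, r < 64 → sm ge (Qf (5440 + r)) = Qf (tab Gen.e (5440 + r)) :=
  edges_tab (sm ge) Qf (tab Gen.e) 5440 [(5440, 8704), (5441, 8705), (5442, 3225), (5443, 8968), (5444, 8708), (5445, 8709), (5446, 8710), (5447, 8711), (5448, 3229), (5449, 8978), (5450, 8979), (5451, 8715), (5452, 8716), (5453, 8717), (5454, 8718), (5455, 8719), (5456, 8720), (5457, 8765), (5458, 8722), (5459, 8723), (5460, 8724), (5461, 8725), (5462, 8726), (5463, 8727), (5464, 8728), (5465, 8729), (5466, 8730), (5467, 8731), (5468, 8767), (5469, 8733), (5470, 8734), (5471, 3239), (5472, 8737), (5473, 8738), (5474, 8739), (5475, 8740), (5476, 8741), (5477, 9020), (5478, 8743), (5479, 8744), (5480, 8745), (5481, 8746), (5482, 8747), (5483, 9029), (5484, 8749), (5485, 8750), (5486, 3247), (5487, 9034), (5488, 8753), (5489, 8754), (5490, 8755), (5491, 8756), (5492, 3251), (5493, 9043), (5494, 9044), (5495, 8760), (5496, 8761), (5497, 8762), (5498, 8763), (5499, 8764), (5500, 8768), (5501, 8769), (5502, 8770), (5503, 8771)]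
    ⟨e3 q5440 (flp_e L144801) q8704, e3 q5441 (flp_e L144805) q8705, e3 q5442 (flp_e L105073) q3225, e3 q5443 (flp_e L151974) q8968, e3 q5444 (flp_e L144823) q8708, e3 q5445 (flp_e L144827) q8709, e3 q5446 (flp_e L144831) q8710, e3 q5447 (flp_e L144835) q8711, e3 q5448 L105101 q3229, e3 q5449 (flp_e L152020) q8978, e3 q5450 (flp_e L152030) q8979, e3 q5451 (flp_e L144861) q8715, e3 q5452 (flp_e L144867) q8716, e3 q5453 (flp_e L144875) q8717, e3 q5454 (flp_e L144879) q8718, e3 q5455 (flp_e L144883) q8719, e3 q5456 (flp_e L144889) q8720, e3 q5457 L151522 q8765, e3 q5458 (flp_e L144901) q8722, e3 q5459 (flp_e L144905) q8723, e3 q5460 (flp_e L144911) q8724, e3 q5461 (flp_e L144915) q8725, e3 q5462 (flp_e L144919) q8726, e3 q5463 (flp_e L144925) q8727, e3 q5464 (flp_e L144929) q8728, e3 q5465 (flp_e L144939) q8729, e3 q5466 (flp_e L144943) q8730, e3 q5467 (flp_e L144947) q8731, e3 q5468 L151538 q8767, e3 q5469 (flp_e L144963) q8733, e3 q5470 (flp_e L144969) q8734, e3 q5471 (flp_e L105187) q3239, e3 q5472 (flp_e L144996)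 q8737, e3 q5473 (flp_e L145004) q8738, e3 q5474 (flp_e L145012) q8739, e3 q5475 (flp_e L145018) q8740, e3 q5476 (flp_e L145022) q8741, e3 q5477 L152322 q9020, e3 q5478 (flp_e L145034) q8743, e3 q5479 (flp_e L145040) q8744, e3 q5480 (flp_e L145044) q8745, e3 q5481 (flp_e L145050) q8746, e3 q5482 (flp_e L145058) q8747, e3 q5483 L152384 q9029, e3 q5484 (flp_e L145068) q8749, e3 q5485 (flp_e L145072) q8750, e3 q5486 (flp_e L105266) q3247, e3 q5487 (flp_e L152418) q9034, e3 q5488 (flp_e L145090) q8753, e3 q5489 (flp_e L145094) q8754, e3 q5490 (flp_e L145098) q8755, e3 q5491 (flp_e L145102) q8756, e3 q5492 L105294 q3251, e3 q5493 (flp_e L152458) q9043, e3 q5494 (flp_e L152468) q9044, e3 q5495 (flp_e L145128) q8760, e3 q5496 (flp_e L145134) q8761, e3 q5497 (flp_e L145142) q8762, e3 q5498 (flp_e L145146) q8763, e3 q5499 (flp_e L145150) q8764, e3 q5500 (flp_e L145172) q8768, e3 q5501 (flp_e L145178) q8769, e3 q5502 (flp_e L145182) q8770, e3 q5503 (flp_e L145186) q8771, trivial⟩ (by decide +kernel)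

theorem ce_e_86 : ∀ r, r < 64 → sm ge (Qf (5504 + r)) = Qf (tab Gen.e (5504 + r)) :=
  edges_tab (sm ge) Qf (tab Gen.e) 5504 [(5504, 8772), (5505, 8773), (5506, 8774), (5507, 8775), (5508, 8776), (5509, 8778), (5510, 8779), (5511, 3261), (5512, 8782), (5513, 7034), (5514, 7529), (5515, 8783), (5516, 8784), (5517, 3265), (5518, 9081), (5519, 8786), (5520, 8787), (5521, 3267), (5522, 9083), (5523, 8792), (5524, 8793), (5525, 3271), (5526, 9086), (5527, 9087), (5528, 5604), (5529, 3273), (5530, 9092), (5531, 3275), (5532, 3276), (5533, 9093), (5534, 9094), (5535, 9095), (5536, 9096), (5537, 8800), (5538, 8801), (5539, 8802), (5540, 9104), (5541, 8804), (5542, 8805), (5543, 8806), (5544, 8807), (5545, 8808), (5546, 8809), (5547, 9115), (5548, 9117), (5549, 3282), (5550, 8813), (5551, 9122), (5552, 8815), (5553, 8816), (5554, 3284), (5555, 9126), (5556, 3285), (5557, 7062), (5558, 7574), (5559, 8820), (5560, 8821), (5561, 3288), (5562, 9135), (5563, 8823), (5564, 8824), (5565, 3290), (5566, 9137), (5567, 8829)]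
    ⟨e3 q5504 (flp_e L145192) q8772, e3 q5505 (flp_e L145198) q8773, e3 q5506 (flp_e L145202) q8774, e3 q5507 (flp_e L145206) q8775, e3 q5508 (flp_e L145210) q8776, e3 q5509 (flp_e L145222) q8778, e3 q5510 (flp_e L145228) q8779, e3 q5511 (flp_e L105394) q3261, e3 q5512 (flp_e L145255) q8782, e3 q5513 (flp_e L116074) q7034, e3 q5514 (flp_e L121072) q7529, e3 q5515 (flp_e L145263) q8783, e3 q5516 (flp_e L145270) q8784, e3 q5517 (flp_e L105436) q3265, e3 q5518 L152700 q9081, e3 q5519 (flp_e L145282) q8786, e3 q5520 (flp_e L145290) q8787, e3 q5521 (flp_e L105457) q3267, e3 q5522 (flp_e L152718) q9083, e3 q5523 (flp_e L145328) q8792, e3 q5524 (flp_e L145336) q8793, e3 q5525 (flp_e L105481) q3271, e3 q5526 (flp_e L152732) q9086, e3 q5527 (flp_e L152738) q9087, e3 q5528 (flp_e L105829) q5604, e3 q5529 L105495 q3273, e3 q5530 (flp_e L152766) q9092, e3 q5531 L105503 q3275, e3 q5532 L105509 q3276, e3 q5533 (flp_e L152770) q9093, e3 q5534 (flp_e L152776) q9094, e3 q5535 (flp_e L152786) q9095, e3 q5536 (flp_e L152790) q9096,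 e3 q5537 (flp_e L145374) q8800, e3 q5538 (flp_e L145384) q8801, e3 q5539 (flp_e L145390) q8802, e3 q5540 L152842 q9104, e3 q5541 (flp_e L145402) q8804, e3 q5542 (flp_e L145406) q8805, e3 q5543 (flp_e L145414) q8806, e3 q5544 (flp_e L145420) q8807, e3 q5545 (flp_e L145424) q8808, e3 q5546 (flp_e L145430) q8809, e3 q5547 L152888 q9115, e3 q5548 L152900 q9117, e3 q5549 (flp_e L105577) q3282, e3 q5550 (flp_e L145452) q8813, e3 q5551 L152924 q9122, e3 q5552 (flp_e L145460) q8815, e3 q5553 (flp_e L145465) q8816, e3 q5554 (flp_e L105592) q3284, e3 q5555 L152951 q9126, e3 q5556 (flp_e L105599) q3285, e3 q5557 (flp_e L149729) q7062, e3 q5558 L151141 q7574, e3 q5559 (flp_e L145495) q8820, e3 q5560 (flp_e L145503) q8821, e3 q5561 (flp_e L105623) q3288, e3 q5562 L153115 q9135, e3 q5563 (flp_e L145524) q8823, e3 q5564 (flp_e L145530) q8824, e3 q5565 (flp_e L105644) q3290, e3 q5566 (flp_e L153133) q9137, e3 q5567 (flp_e L145550) q8829, trivial⟩ (by decide +kernel)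

theorem ce_e_87 : ∀ r, r < 64 → sm ge (Qf (5568 + r)) = Qf (tab Gen.e (5568 + r)) :=
  edges_tab (sm ge) Qf (tab Gen.e) 5568 [(5568, 8830), (5569, 3294), (5570, 9141), (5571, 9140), (5572, 5641), (5573, 3296), (5574, 9146), (5575, 3298), (5576, 3299), (5577, 9147), (5578, 9148), (5579, 9149), (5580, 9150), (5581, 8837), (5582, 8838), (5583, 8839), (5584, 9158), (5585, 8841), (5586, 8842), (5587, 8843), (5588, 8844), (5589, 8845), (5590, 8846), (5591, 9169), (5592, 9171), (5593, 3305), (5594, 8850), (5595, 9176), (5596, 8852), (5597, 8853), (5598, 3307), (5599, 9180), (5600, 3308), (5601, 9182), (5602, 3310), (5603, 9184), (5604, 5528), (5605, 9186), (5606, 9187), (5607, 3312), (5608, 5657), (5609, 9189), (5610, 3313), (5611, 9192), (5612, 3316), (5613, 5655), (5614, 3337), (5615, 3343), (5616, 3319), (5617, 3318), (5618, 9197), (5619, 9196), (5620, 3321), (5621, 3322), (5622, 5649), (5623, 3386), (5624, 5646), (5625, 9199), (5626, 3326), (5627, 4038), (5628, 9204), (5629, 8051), (5630, 9209), (5631, 3651)]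
    ⟨e3 q5568 (flp_e L145558) q8830, e3 q5569 (flp_e L105668) q3294, e3 q5570 (flp_e L153153) q9141, e3 q5571 (flp_e L153147) q9140, e3 q5572 (flp_e L106148) q5641, e3 q5573 L105682 q3296, e3 q5574 (flp_e L153181) q9146, e3 q5575 L105690 q3298, e3 q5576 L105696 q3299, e3 q5577 (flp_e L153185) q9147, e3 q5578 (flp_e L153191) q9148, e3 q5579 (flp_e L153201) q9149, e3 q5580 (flp_e L153205) q9150, e3 q5581 (flp_e L145596) q8837, e3 q5582 (flp_e L145602) q8838, e3 q5583 (flp_e L145608) q8839, e3 q5584 L153257 q9158, e3 q5585 (flp_e L145620) q8841, e3 q5586 (flp_e L145624) q8842, e3 q5587 (flp_e L145634) q8843, e3 q5588 (flp_e L145642) q8844, e3 q5589 (flp_e L145648) q8845, e3 q5590 (flp_e L145654) q8846, e3 q5591 L153317 q9169, e3 q5592 L153329 q9171, e3 q5593 (flp_e L105772) q3305, e3 q5594 (flp_e L145680) q8850, e3 q5595 L153357 q9176, e3 q5596 (flp_e L145690) q8852, e3 q5597 (flp_e L145696) q8853, e3 q5598 (flp_e L105793) q3307, e3 q5599 L153388 q9180, e3 q5600 (flp_e L105800) q3308, e3 q5601 L153504 q9182, e3 q5602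 (flp_e L105810) q3310, e3 q5603 (flp_e L153527) q9184, e3 q5604 L105829 q5528, e3 q5605 L153542 q9186, e3 q5606 L153552 q9187, e3 q5607 (flp_e L105839) q3312, e3 q5608 (flp_e L150548) q5657, e3 q5609 (flp_e L153576) q9189, e3 q5610 (flp_e L105861) q3313, e3 q5611 (flp_e L153594) q9192, e3 q5612 L105887 q3316, e3 q5613 (flp_e L150534) q5655, e3 q5614 L147899 q3337, e3 q5615 L149301 q3343, e3 q5616 L105911 q3319, e3 q5617 L105919 q3318, e3 q5618 (flp_e L153632) q9197, e3 q5619 (flp_e L153628) q9196, e3 q5620 L105939 q3321, e3 q5621 L105947 q3322, e3 q5622 (flp_e L149261) q5649, e3 q5623 L149271 q3386, e3 q5624 (flp_e L149259) q5646, e3 q5625 (flp_e L153652) q9199, e3 q5626 L105973 q3326, e3 q5627 L139141 q4038, e3 q5628 L153688 q9204, e3 q5629 (flp_e L142796) q8051, e3 q5630 L153706 q9209, e3 q5631 L141787 q3651, trivial⟩ (by decide +kernel)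

theorem ce_e_88 : ∀ r, r < 64 → sm ge (Qf (5632 + r)) = Qf (tab Gen.e (5632 + r)) :=
  edges_tab (sm ge) Qf (tab Gen.e) 5632 [(5632, 9214), (5633, 9217), (5634, 3329), (5635, 9219), (5636, 9220), (5637, 3330), (5638, 9222), (5639, 3332), (5640, 9224), (5641, 5572), (5642, 9226), (5643, 9227), (5644, 3334), (5645, 9195), (5646, 5624), (5647, 3335), (5648, 9231), (5649, 5622), (5650, 3341), (5651, 3340), (5652, 9234), (5653, 9233), (5654, 3344), (5655, 5613), (5656, 3363), (5657, 5608), (5658, 9235), (5659, 3348), (5660, 4084), (5661, 9240), (5662, 8095), (5663, 9245), (5664, 3660), (5665, 9250), (5666, 9253), (5667, 3351), (5668, 9255), (5669, 9256), (5670, 3352), (5671, 9258), (5672, 3354), (5673, 9260), (5674, 3356), (5675, 3357), (5676, 9263), (5677, 6710), (5678, 3361), (5679, 3362), (5680, 9268), (5681, 9269), (5682, 3385), (5683, 3391), (5684, 6732), (5685, 3366), (5686, 3367), (5687, 3368), (5688, 4032), (5689, 5728), (5690, 5727), (5691, 9283), (5692, 5725), (5693, 5724), (5694, 9287), (5695, 5700)]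
    ⟨e3 q5632 L153757 q9214, e3 q5633 L153779 q9217, e3 q5634 (flp_e L106099) q3329, e3 q5635 (flp_e L153797) q9219, e3 q5636 (flp_e L153804) q9220, e3 q5637 (flp_e L106114) q3330, e3 q5638 L153816 q9222, e3 q5639 (flp_e L106129) q3332, e3 q5640 (flp_e L153839) q9224, e3 q5641 L106148 q5572, e3 q5642 L153854 q9226, e3 q5643 L153864 q9227, e3 q5644 (flp_e L106158) q3334, e3 q5645 (flp_e L153616) q9195, e3 q5646 L149259 q5624, e3 q5647 (flp_e L106180) q3335, e3 q5648 (flp_e L153896) q9231, e3 q5649 L149261 q5622, e3 q5650 L106230 q3341, e3 q5651 L106238 q3340, e3 q5652 (flp_e L153912) q9234, e3 q5653 (flp_e L153908) q9233, e3 q5654 L106266 q3344, e3 q5655 L150534 q5613, e3 q5656 L150522 q3363, e3 q5657 L150548 q5608, e3 q5658 (flp_e L153920) q9235, e3 q5659 L106292 q3348, e3 q5660 L141837 q4084, e3 q5661 L153960 q9240, e3 q5662 L142696 q8095, e3 q5663 L153978 q9245, e3 q5664 L133459 q3660, e3 q5665 L154023 q9250, e3 q5666 L154047 q9253, e3 q5667 (flp_e L106422) q3351, e3 q5668 (flp_e L154065) q9255, e3 q5669 (flp_e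 L154071) q9256, e3 q5670 (flp_e L106437) q3352, e3 q5671 L154084 q9258, e3 q5672 (flp_e L106621) q3354, e3 q5673 (flp_e L154104) q9260, e3 q5674 L106637 q3356, e3 q5675 L106643 q3357, e3 q5676 (flp_e L154126) q9263, e3 q5677 (flp_e L119917) q6710, e3 q5678 L106663 q3361, e3 q5679 L106669 q3362, e3 q5680 (flp_e L154150) q9268, e3 q5681 (flp_e L154160) q9269, e3 q5682 L149281 q3385, e3 q5683 L150586 q3391, e3 q5684 (flp_e L113941) q6732, e3 q5685 L106703 q3366, e3 q5686 L106707 q3367, e3 q5687 L106713 q3368, e3 q5688 L151036 q4032, e3 q5689 (flp_e L151046) q5728, e3 q5690 (flp_e L151064) q5727, e3 q5691 L154232 q9283, e3 q5692 (flp_e L151052) q5725, e3 q5693 (flp_e L151062) q5724, e3 q5694 L154264 q9287, e3 q5695 L142758 q5700, trivial⟩ (by decide +kernel)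

theorem ce_e_89 : ∀ r, r < 64 → sm ge (Qf (5696 + r)) = Qf (tab Gen.e (5696 + r)) :=
  edges_tab (sm ge) Qf (tab Gen.e) 5696 [(5696, 9292), (5697, 9294), (5698, 3371), (5699, 9295), (5700, 5695), (5701, 9298), (5702, 3373), (5703, 9302), (5704, 9303), (5705, 4067), (5706, 3375), (5707, 3376), (5708, 9308), (5709, 9309), (5710, 9311), (5711, 3378), (5712, 9313), (5713, 3380), (5714, 3381), (5715, 9316), (5716, 6788), (5717, 3387), (5718, 9274), (5719, 9320), (5720, 6806), (5721, 3390), (5722, 3392), (5723, 4078), (5724, 5693), (5725, 5692), (5726, 9330), (5727, 5690), (5728, 5689), (5729, 9334), (5730, 5733), (5731, 3395), (5732, 9337), (5733, 5730), (5734, 9340), (5735, 3397), (5736, 9344), (5737, 9345), (5738, 4021), (5739, 3399), (5740, 3400), (5741, 9350), (5742, 9351), (5743, 3406), (5744, 3407), (5745, 3411), (5746, 3412), (5747, 4932), (5748, 4933), (5749, 9352), (5750, 9353), (5751, 8436), (5752, 4934), (5753, 4935), (5754, 4936), (5755, 4937), (5756, 9354), (5757, 9355), (5758, 3431), (5759, 3432)]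
    ⟨e3 q5696 L154284 q9292, e3 q5697 L154296 q9294, e3 q5698 (flp_e L106789) q3371, e3 q5699 (flp_e L154308) q9295, e3 q5700 (flp_e L142758) q5695, e3 q5701 L154334 q9298, e3 q5702 (flp_e L106803) q3373, e3 q5703 (flp_e L154360) q9302, e3 q5704 (flp_e L154366) q9303, e3 q5705 L106823 q4067, e3 q5706 L106827 q3375, e3 q5707 L106833 q3376, e3 q5708 (flp_e L154392) q9308, e3 q5709 (flp_e L154402) q9309, e3 q5710 L154414 q9311, e3 q5711 (flp_e L106853) q3378, e3 q5712 (flp_e L154434) q9313, e3 q5713 L106869 q3380, e3 q5714 L106875 q3381, e3 q5715 (flp_e L154456) q9316, e3 q5716 (flp_e L146456) q6788, e3 q5717 L106909 q3387, e3 q5718 (flp_e L154192) q9274, e3 q5719 (flp_e L154484) q9320, e3 q5720 (flp_e L114502) q6806, e3 q5721 L106935 q3390, e3 q5722 L106945 q3392, e3 q5723 L150574 q4078, e3 q5724 L151062 q5693, e3 q5725 L151052 q5692, e3 q5726 L154606 q9330, e3 q5727 L151064 q5690, e3 q5728 L151046 q5689, e3 q5729 L154642 q9334, e3 q5730 (flp_e L142798) q5733, e3 q5731 (flp_e L107011) q3395, e3 q5732 (flp_e L154664)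 q9337, e3 q5733 L142798 q5730, e3 q5734 L154682 q9340, e3 q5735 (flp_e L107025) q3397, e3 q5736 (flp_e L154722) q9344, e3 q5737 (flp_e L154730) q9345, e3 q5738 L107045 q4021, e3 q5739 L107049 q3399, e3 q5740 L107055 q3400, e3 q5741 (flp_e L154760) q9350, e3 q5742 (flp_e L154770) q9351, e3 q5743 L107093 q3406, e3 q5744 L107103 q3407, e3 q5745 L107111 q3411, e3 q5746 L107123 q3412, e3 q5747 L107133 q4932, e3 q5748 L107141 q4933, e3 q5749 (flp_e L154780) q9352, e3 q5750 (flp_e L154790) q9353, e3 q5751 (flp_e L130541) q8436, e3 q5752 L107158 q4934, e3 q5753 L107164 q4935, e3 q5754 L107170 q4936, e3 q5755 L107180 q4937, e3 q5756 (flp_e L154800) q9354, e3 q5757 (flp_e L154807) q9355, e3 q5758 L107198 q3431, e3 q5759 L107208 q3432, trivial⟩ (by decide +kernel)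

theorem ce_e_90 : ∀ r, r < 64 → sm ge (Qf (5760 + r)) = Qf (tab Gen.e (5760 + r)) :=
  edges_tab (sm ge) Qf (tab Gen.e) 5760 [(5760, 3436), (5761, 3437), (5762, 3779), (5763, 3780), (5764, 3781), (5765, 3782), (5766, 3448), (5767, 3449), (5768, 3450), (5769, 3451), (5770, 3452), (5771, 3453), (5772, 3424), (5773, 3425), (5774, 4462), (5775, 4461), (5776, 9388), (5777, 4474), (5778, 4473), (5779, 9389), (5780, 3462), (5781, 3463), (5782, 3464), (5783, 3465), (5784, 3466), (5785, 3467), (5786, 3434), (5787, 3435), (5788, 9368), (5789, 9369), (5790, 7452), (5791, 7456), (5792, 7454), (5793, 7455), (5794, 9370), (5795, 9371), (5796, 9372), (5797, 9373), (5798, 5085), (5799, 3438), (5800, 9417), (5801, 9418), (5802, 3440), (5803, 3441), (5804, 9421), (5805, 9422), (5806, 3444), (5807, 3445), (5808, 3446), (5809, 3447), (5810, 9425), (5811, 9426), (5812, 9427), (5813, 9428), (5814, 9380), (5815, 9381), (5816, 9382), (5817, 9383), (5818, 9384), (5819, 9385), (5820, 9386), (5821, 9387), (5822, 3456), (5823, 3457)]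
    ⟨e3 q5760 L107212 q3436, e3 q5761 L107216 q3437, e3 q5762 L107222 q3779, e3 q5763 L107232 q3780, e3 q5764 L107240 q3781, e3 q5765 L107252 q3782, e3 q5766 L107259 q3448, e3 q5767 L107266 q3449, e3 q5768 L107270 q3450, e3 q5769 L107275 q3451, e3 q5770 L107282 q3452, e3 q5771 L107286 q3453, e3 q5772 L107292 q3424, e3 q5773 L107304 q3425, e3 q5774 L107312 q4462, e3 q5775 L107320 q4461, e3 q5776 (flp_e L155034) q9388, e3 q5777 L150950 q4474, e3 q5778 L150303 q4473, e3 q5779 (flp_e L155048) q9389, e3 q5780 L107342 q3462, e3 q5781 L107349 q3463, e3 q5782 L107358 q3464, e3 q5783 L107364 q3465, e3 q5784 L107371 q3466, e3 q5785 L107380 q3467, e3 q5786 L107390 q3434, e3 q5787 L107398 q3435, e3 q5788 (flp_e L154898) q9368, e3 q5789 (flp_e L154908) q9369, e3 q5790 L118791 q7452, e3 q5791 (flp_e L118838) q7456, e3 q5792 (flp_e L118822) q7454, e3 q5793 (flp_e L118832) q7455, e3 q5794 (flp_e L154918) q9370, e3 q5795 (flp_e L154926) q9371, e3 q5796 (flp_e L154932) q9372, e3 q5797 (flp_e L154940) q9373, e3 q5798 (flp_e L107455)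 q5085, e3 q5799 (flp_e L107457) q3438, e3 q5800 (flp_e L155298) q9417, e3 q5801 (flp_e L155308) q9418, e3 q5802 L107475 q3440, e3 q5803 L107481 q3441, e3 q5804 (flp_e L155332) q9421, e3 q5805 (flp_e L155344) q9422, e3 q5806 L107509 q3444, e3 q5807 L107517 q3445, e3 q5808 L107525 q3446, e3 q5809 L107535 q3447, e3 q5810 (flp_e L155358) q9425, e3 q5811 (flp_e L155364) q9426, e3 q5812 (flp_e L155370) q9427, e3 q5813 (flp_e L155376) q9428, e3 q5814 (flp_e L154988) q9380, e3 q5815 (flp_e L154994) q9381, e3 q5816 (flp_e L154998) q9382, e3 q5817 (flp_e L155002) q9383, e3 q5818 (flp_e L155008) q9384, e3 q5819 (flp_e L155014) q9385, e3 q5820 (flp_e L155018) q9386, e3 q5821 (flp_e L155022) q9387, e3 q5822 L107607 q3456, e3 q5823 L107611 q3457, trivial⟩ (by decide +kernel)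

theorem ce_e_91 : ∀ r, r < 64 → sm ge (Qf (5824 + r)) = Qf (tab Gen.e (5824 + r)) :=
  edges_tab (sm ge) Qf (tab Gen.e) 5824 [(5824, 3458), (5825, 3459), (5826, 3460), (5827, 3461), (5828, 9455), (5829, 9456), (5830, 9457), (5831, 9458), (5832, 9459), (5833, 9460), (5834, 9461), (5835, 9462), (5836, 9463), (5837, 9464), (5838, 9400), (5839, 9401), (5840, 9402), (5841, 9403), (5842, 9404), (5843, 9405), (5844, 9406), (5845, 9407), (5846, 3522), (5847, 3523), (5848, 3524), (5849, 3525), (5850, 3526), (5851, 3527), (5852, 3536), (5853, 3537), (5854, 9497), (5855, 3539), (5856, 3540), (5857, 3541), (5858, 3542), (5859, 3543), (5860, 3544), (5861, 3545), (5862, 9513), (5863, 3547), (5864, 3548), (5865, 3549), (5866, 3550), (5867, 3551), (5868, 3484), (5869, 3485), (5870, 3488), (5871, 3489), (5872, 4486), (5873, 4487), (5874, 9531), (5875, 4485), (5876, 9525), (5877, 5950), (5878, 4544), (5879, 4543), (5880, 6468), (5881, 4521), (5882, 4522), (5883, 9544), (5884, 4520), (5885, 9526), (5886, 5951), (5887, 4509)]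
    ⟨e3 q5824 L107617 q3458, e3 q5825 L107621 q3459, e3 q5826 L107625 q3460, e3 q5827 L107631 q3461, e3 q5828 (flp_e L155546) q9455, e3 q5829 (flp_e L155558) q9456, e3 q5830 (flp_e L155568) q9457, e3 q5831 (flp_e L155576) q9458, e3 q5832 (flp_e L155584) q9459, e3 q5833 (flp_e L155592) q9460, e3 q5834 (flp_e L155604) q9461, e3 q5835 (flp_e L155614) q9462, e3 q5836 (flp_e L155622) q9463, e3 q5837 (flp_e L155630) q9464, e3 q5838 (flp_e L155170) q9400, e3 q5839 (flp_e L155174) q9401, e3 q5840 (flp_e L155178) q9402, e3 q5841 (flp_e L155182) q9403, e3 q5842 (flp_e L155186) q9404, e3 q5843 (flp_e L155196) q9405, e3 q5844 (flp_e L155200) q9406, e3 q5845 (flp_e L155204) q9407, e3 q5846 L107731 q3522, e3 q5847 L107741 q3523, e3 q5848 L107751 q3524, e3 q5849 L107757 q3525, e3 q5850 L107763 q3526, e3 q5851 L107773 q3527, e3 q5852 L107777 q3536, e3 q5853 L107783 q3537, e3 q5854 L155842 q9497, e3 q5855 L107797 q3539, e3 q5856 L107801 q3540, e3 q5857 L107807 q3541, e3 q5858 L107811 q3542, e3 q5859 L107817 q3543, e3 q5860 L107823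 q3544, e3 q5861 L107829 q3545, e3 q5862 L155940 q9513, e3 q5863 L107843 q3547, e3 q5864 L107849 q3548, e3 q5865 L107857 q3549, e3 q5866 L107861 q3550, e3 q5867 L107869 q3551, e3 q5868 L107881 q3484, e3 q5869 L107887 q3485, e3 q5870 L107907 q3488, e3 q5871 L107913 q3489, e3 q5872 L107919 q4486, e3 q5873 L107931 q4487, e3 q5874 L156094 q9531, e3 q5875 L107945 q4485, e3 q5876 (flp_e L156024) q9525, e3 q5877 (flp_e L108455) q5950, e3 q5878 L151309 q4544, e3 q5879 L151216 q4543, e3 q5880 (flp_e L151319) q6468, e3 q5881 L150444 q4521, e3 q5882 (flp_e L150355) q4522, e3 q5883 L156204 q9544, e3 q5884 L150295 q4520, e3 q5885 (flp_e L156044) q9526, e3 q5886 (flp_e L108469) q5951, e3 q5887 L151201 q4509, trivial⟩ (by decide +kernel)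

theorem ce_e_92 : ∀ r, r < 64 → sm ge (Qf (5888 + r)) = Qf (tab Gen.e (5888 + r)) :=
  edges_tab (sm ge) Qf (tab Gen.e) 5888 [(5888, 4508), (5889, 6503), (5890, 3588), (5891, 3589), (5892, 3590), (5893, 3591), (5894, 3592), (5895, 9560), (5896, 3594), (5897, 3595), (5898, 9566), (5899, 3493), (5900, 9568), (5901, 3599), (5902, 3600), (5903, 3601), (5904, 3602), (5905, 3603), (5906, 3604), (5907, 3605), (5908, 3606), (5909, 9587), (5910, 3608), (5911, 3609), (5912, 3610), (5913, 3611), (5914, 3612), (5915, 3613), (5916, 3614), (5917, 9598), (5918, 3616), (5919, 3617), (5920, 9604), (5921, 3503), (5922, 9606), (5923, 3621), (5924, 3622), (5925, 3623), (5926, 3624), (5927, 3625), (5928, 3626), (5929, 3627), (5930, 3628), (5931, 9625), (5932, 3630), (5933, 3631), (5934, 3634), (5935, 9633), (5936, 9635), (5937, 3512), (5938, 3640), (5939, 9640), (5940, 9642), (5941, 3515), (5942, 5364), (5943, 5365), (5944, 9648), (5945, 5374), (5946, 5375), (5947, 9653), (5948, 3530), (5949, 3534), (5950, 5877), (5951, 5886)]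
    ⟨e3 q5888 L151210 q4508, e3 q5889 (flp_e L151230) q6503, e3 q5890 L108025 q3588, e3 q5891 L108029 q3589, e3 q5892 L108033 q3590, e3 q5893 L108037 q3591, e3 q5894 L108041 q3592, e3 q5895 L156344 q9560, e3 q5896 L108053 q3594, e3 q5897 L108059 q3595, e3 q5898 L156382 q9566, e3 q5899 (flp_e L108065) q3493, e3 q5900 (flp_e L156396) q9568, e3 q5901 L108081 q3599, e3 q5902 L108087 q3600, e3 q5903 L108093 q3601, e3 q5904 L108099 q3602, e3 q5905 L108103 q3603, e3 q5906 L108107 q3604, e3 q5907 L108113 q3605, e3 q5908 L108119 q3606, e3 q5909 L156502 q9587, e3 q5910 L108131 q3608, e3 q5911 L108138 q3609, e3 q5912 L108144 q3610, e3 q5913 L108148 q3611, e3 q5914 L108152 q3612, e3 q5915 L108156 q3613, e3 q5916 L108160 q3614, e3 q5917 L156591 q9598, e3 q5918 L108172 q3616, e3 q5919 L108178 q3617, e3 q5920 L156629 q9604, e3 q5921 (flp_e L108184) q3503, e3 q5922 (flp_e L156643) q9606, e3 q5923 L108200 q3621, e3 q5924 L108206 q3622, e3 q5925 L108212 q3623, e3 q5926 L108218 q3624, e3 q5927 L108222 q3625, e3 q5928 L108226 q3626,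 e3 q5929 L108232 q3627, e3 q5930 L108238 q3628, e3 q5931 L156755 q9625, e3 q5932 L108250 q3630, e3 q5933 L108257 q3631, e3 q5934 L108263 q3634, e3 q5935 L156888 q9633, e3 q5936 L156897 q9635, e3 q5937 (flp_e L108275) q3512, e3 q5938 L108282 q3640, e3 q5939 L156927 q9640, e3 q5940 L156936 q9642, e3 q5941 (flp_e L108294) q3515, e3 q5942 L142788 q5364, e3 q5943 L142790 q5365, e3 q5944 L156971 q9648, e3 q5945 (flp_e L142784) q5374, e3 q5946 (flp_e L142786) q5375, e3 q5947 L157008 q9653, e3 q5948 L108421 q3530, e3 q5949 L108443 q3534, e3 q5950 L108455 q5877, e3 q5951 L108469 q5886, trivial⟩ (by decide +kernel)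

theorem ce_e_93 : ∀ r, r < 64 → sm ge (Qf (5952 + r)) = Qf (tab Gen.e (5952 + r)) :=
  edges_tab (sm ge) Qf (tab Gen.e) 5952 [(5952, 6137), (5953, 5961), (5954, 5959), (5955, 5960), (5956, 5958), (5957, 6150), (5958, 5956), (5959, 5954), (5960, 5955), (5961, 5953), (5962, 9493), (5963, 9494), (5964, 9671), (5965, 3538), (5966, 9672), (5967, 9499), (5968, 9500), (5969, 9501), (5970, 9502), (5971, 9503), (5972, 9504), (5973, 9505), (5974, 9688), (5975, 9507), (5976, 9508), (5977, 9509), (5978, 9510), (5979, 9693), (5980, 3546), (5981, 9694), (5982, 9515), (5983, 9516), (5984, 9517), (5985, 9518), (5986, 9519), (5987, 9520), (5988, 9521), (5989, 9710), (5990, 9523), (5991, 9524), (5992, 3556), (5993, 3559), (5994, 5995), (5995, 5994), (5996, 5997), (5997, 5996), (5998, 3570), (5999, 3572), (6000, 3573), (6001, 3575), (6002, 3576), (6003, 3577), (6004, 3580), (6005, 3582), (6006, 3583), (6007, 3585), (6008, 3586), (6009, 3587), (6010, 6142), (6011, 9714), (6012, 3571), (6013, 9732), (6014, 8113), (6015, 3648)]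
    ⟨e3 q5952 L120247 q6137, e3 q5953 (flp_e L108567) q5961, e3 q5954 (flp_e L108555) q5959, e3 q5955 (flp_e L108559) q5960, e3 q5956 (flp_e L108547) q5958, e3 q5957 (flp_e L149214) q6150, e3 q5958 L108547 q5956, e3 q5959 L108555 q5954, e3 q5960 L108559 q5955, e3 q5961 L108567 q5953, e3 q5962 (flp_e L155820) q9493, e3 q5963 (flp_e L155826) q9494, e3 q5964 L157163 q9671, e3 q5965 (flp_e L108599) q3538, e3 q5966 (flp_e L157177) q9672, e3 q5967 (flp_e L155856) q9499, e3 q5968 (flp_e L155862) q9500, e3 q5969 (flp_e L155868) q9501, e3 q5970 (flp_e L155874) q9502, e3 q5971 (flp_e L155878) q9503, e3 q5972 (flp_e L155884) q9504, e3 q5973 (flp_e L155890) q9505, e3 q5974 L157243 q9688, e3 q5975 (flp_e L155902) q9507, e3 q5976 (flp_e L155908) q9508, e3 q5977 (flp_e L155918) q9509, e3 q5978 (flp_e L155924) q9510, e3 q5979 L157273 q9693, e3 q5980 (flp_e L108671) q3546, e3 q5981 (flp_e L157287) q9694, e3 q5982 (flp_e L155954) q9515, e3 q5983 (flp_e L155962) q9516, e3 q5984 (flp_e L155968) q9517, e3 q5985 (flp_e L155976) q9518,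 e3 q5986 (flp_e L155982) q9519, e3 q5987 (flp_e L155988) q9520, e3 q5988 (flp_e L155996) q9521, e3 q5989 L157355 q9710, e3 q5990 (flp_e L156008) q9523, e3 q5991 (flp_e L156016) q9524, e3 q5992 L108741 q3556, e3 q5993 L108763 q3559, e3 q5994 (flp_e L118994) q5995, e3 q5995 L118994 q5994, e3 q5996 (flp_e L148165) q5997, e3 q5997 L148165 q5996, e3 q5998 L108851 q3570, e3 q5999 L108861 q3572, e3 q6000 L108865 q3573, e3 q6001 L108881 q3575, e3 q6002 L108885 q3576, e3 q6003 L108889 q3577, e3 q6004 L108909 q3580, e3 q6005 L108919 q3582, e3 q6006 L108923 q3583, e3 q6007 L108939 q3585, e3 q6008 L108943 q3586, e3 q6009 L108947 q3587, e3 q6010 (flp_e L120251) q6142, e3 q6011 (flp_e L157381) q9714, e3 q6012 (flp_e L108985) q3571, e3 q6013 (flp_e L157563) q9732, e3 q6014 L150797 q8113, e3 q6015 L119693 q3648, trivial⟩ (by decide +kernel)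

theorem ce_e_94 : ∀ r, r < 64 → sm ge (Qf (6016 + r)) = Qf (tab Gen.e (6016 + r)) :=
  edges_tab (sm ge) Qf (tab Gen.e) 6016 [(6016, 9715), (6017, 9716), (6018, 9717), (6019, 8571), (6020, 9718), (6021, 9719), (6022, 9720), (6023, 9747), (6024, 9721), (6025, 6481), (6026, 6155), (6027, 9722), (6028, 3581), (6029, 9752), (6030, 8068), (6031, 3656), (6032, 9723), (6033, 9724), (6034, 9725), (6035, 8580), (6036, 9726), (6037, 9727), (6038, 9728), (6039, 9767), (6040, 9729), (6041, 6514), (6042, 9553), (6043, 9554), (6044, 9555), (6045, 9556), (6046, 9557), (6047, 9773), (6048, 3593), (6049, 9774), (6050, 9562), (6051, 9563), (6052, 9564), (6053, 9565), (6054, 3596), (6055, 9782), (6056, 3598), (6057, 9784), (6058, 9570), (6059, 9571), (6060, 9572), (6061, 9796), (6062, 9574), (6063, 9575), (6064, 9576), (6065, 9577), (6066, 9578), (6067, 9579), (6068, 9580), (6069, 9581), (6070, 9582), (6071, 9583), (6072, 9813), (6073, 9585), (6074, 9551), (6075, 9818), (6076, 3607), (6077, 9819), (6078, 9589), (6079, 9590)]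
    ⟨e3 q6016 (flp_e L157405) q9715, e3 q6017 (flp_e L157413) q9716, e3 q6018 (flp_e L157423) q9717, e3 q6019 (flp_e L143875) q8571, e3 q6020 (flp_e L157431) q9718, e3 q6021 (flp_e L157437) q9719, e3 q6022 (flp_e L157445) q9720, e3 q6023 L157659 q9747, e3 q6024 (flp_e L157457) q9721, e3 q6025 (flp_e L151437) q6481, e3 q6026 (flp_e L149498) q6155, e3 q6027 (flp_e L157463) q9722, e3 q6028 (flp_e L109083) q3581, e3 q6029 (flp_e L157695) q9752, e3 q6030 (flp_e L150508) q8068, e3 q6031 L147758 q3656, e3 q6032 (flp_e L157487) q9723, e3 q6033 (flp_e L157495) q9724, e3 q6034 (flp_e L157505) q9725, e3 q6035 L149216 q8580, e3 q6036 (flp_e L157513) q9726, e3 q6037 (flp_e L157519) q9727, e3 q6038 (flp_e L157527) q9728, e3 q6039 L157793 q9767, e3 q6040 (flp_e L157539) q9729, e3 q6041 (flp_e L151377) q6514, e3 q6042 (flp_e L156290) q9553, e3 q6043 (flp_e L156298) q9554, e3 q6044 (flp_e L156306) q9555, e3 q6045 (flp_e L156314) q9556, e3 q6046 (flp_e L156322) q9557, e3 q6047 L157823 q9773, e3 q6048 (flp_e L109203) q3593, e3 q6049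 (flp_e L157837) q9774, e3 q6050 (flp_e L156362) q9562, e3 q6051 (flp_e L156368) q9563, e3 q6052 (flp_e L156374) q9564, e3 q6053 (flp_e L156378) q9565, e3 q6054 (flp_e L109235) q3596, e3 q6055 (flp_e L157879) q9782, e3 q6056 L109245 q3598, e3 q6057 (flp_e L157895) q9784, e3 q6058 (flp_e L156408) q9570, e3 q6059 (flp_e L156412) q9571, e3 q6060 (flp_e L156418) q9572, e3 q6061 L157945 q9796, e3 q6062 (flp_e L156430) q9574, e3 q6063 (flp_e L156434) q9575, e3 q6064 (flp_e L156442) q9576, e3 q6065 (flp_e L156446) q9577, e3 q6066 (flp_e L156450) q9578, e3 q6067 (flp_e L156456) q9579, e3 q6068 (flp_e L156466) q9580, e3 q6069 (flp_e L156472) q9581, e3 q6070 (flp_e L156480) q9582, e3 q6071 (flp_e L156484) q9583, e3 q6072 L158039 q9813, e3 q6073 (flp_e L156496) q9585, e3 q6074 (flp_e L156270) q9551, e3 q6075 L158073 q9818, e3 q6076 (flp_e L109315) q3607, e3 q6077 (flp_e L158083) q9819, e3 q6078 (flp_e L156519) q9589, e3 q6079 (flp_e L156525) q9590, trivial⟩ (by decide +kernel)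

theorem ce_e_95 : ∀ r, r < 64 → sm ge (Qf (6080 + r)) = Qf (tab Gen.e (6080 + r)) :=
  edges_tab (sm ge) Qf (tab Gen.e) 6080 [(6080, 9591), (6081, 9592), (6082, 9593), (6083, 9594), (6084, 9595), (6085, 9827), (6086, 3615), (6087, 9828), (6088, 9600), (6089, 9601), (6090, 9602), (6091, 9603), (6092, 3618), (6093, 9835), (6094, 3620), (6095, 9837), (6096, 9608), (6097, 9609), (6098, 9610), (6099, 9849), (6100, 9612), (6101, 9613), (6102, 9614), (6103, 9615), (6104, 9616), (6105, 9617), (6106, 9618), (6107, 9619), (6108, 9620), (6109, 9621), (6110, 9866), (6111, 9623), (6112, 9538), (6113, 9871), (6114, 3629), (6115, 9872), (6116, 9627), (6117, 9628), (6118, 3632), (6119, 3961), (6120, 9629), (6121, 9882), (6122, 9631), (6123, 9632), (6124, 3635), (6125, 9886), (6126, 3636), (6127, 3638), (6128, 3991), (6129, 9636), (6130, 9891), (6131, 9638), (6132, 9639), (6133, 3641), (6134, 9893), (6135, 3642), (6136, 9897), (6137, 5952), (6138, 9900), (6139, 3645), (6140, 9902), (6141, 9903), (6142, 6010), (6143, 3650)]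
    ⟨e3 q6080 (flp_e L156537) q9591, e3 q6081 (flp_e L156545) q9592, e3 q6082 (flp_e L156549) q9593, e3 q6083 (flp_e L156555) q9594, e3 q6084 (flp_e L156567) q9595, e3 q6085 L158129 q9827, e3 q6086 (flp_e L109392) q3615, e3 q6087 (flp_e L158143) q9828, e3 q6088 (flp_e L156609) q9600, e3 q6089 (flp_e L156615) q9601, e3 q6090 (flp_e L156621) q9602, e3 q6091 (flp_e L156625) q9603, e3 q6092 (flp_e L109424) q3618, e3 q6093 (flp_e L158177) q9835, e3 q6094 L109434 q3620, e3 q6095 (flp_e L158193) q9837, e3 q6096 (flp_e L156655) q9608, e3 q6097 (flp_e L156659) q9609, e3 q6098 (flp_e L156665) q9610, e3 q6099 L158243 q9849, e3 q6100 (flp_e L156677) q9612, e3 q6101 (flp_e L156683) q9613, e3 q6102 (flp_e L156691) q9614, e3 q6103 (flp_e L156695) q9615, e3 q6104 (flp_e L156699) q9616, e3 q6105 (flp_e L156705) q9617, e3 q6106 (flp_e L156717) q9618, e3 q6107 (flp_e L156721) q9619, e3 q6108 (flp_e L156729) q9620, e3 q6109 (flp_e L156737) q9621, e3 q6110 L158339 q9866, e3 q6111 (flp_e L156749) q9623, e3 q6112 (flp_e L156160) q9538,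 e3 q6113 L158373 q9871, e3 q6114 (flp_e L109502) q3629, e3 q6115 (flp_e L158383) q9872, e3 q6116 (flp_e L156772) q9627, e3 q6117 (flp_e L156778) q9628, e3 q6118 (flp_e L109527) q3632, e3 q6119 L109549 q3961, e3 q6120 (flp_e L156786) q9629, e3 q6121 L158441 q9882, e3 q6122 (flp_e L156879) q9631, e3 q6123 (flp_e L156886) q9632, e3 q6124 (flp_e L109570) q3635, e3 q6125 L158471 q9886, e3 q6126 (flp_e L109577) q3636, e3 q6127 (flp_e L109586) q3638, e3 q6128 L109608 q3991, e3 q6129 (flp_e L156908) q9636, e3 q6130 L158498 q9891, e3 q6131 (flp_e L156918) q9638, e3 q6132 (flp_e L156924) q9639, e3 q6133 (flp_e L109629) q3641, e3 q6134 L158508 q9893, e3 q6135 (flp_e L109636) q3642, e3 q6136 L158533 q9897, e3 q6137 (flp_e L120247) q5952, e3 q6138 L158557 q9900, e3 q6139 (flp_e L109663) q3645, e3 q6140 (flp_e L158577) q9902, e3 q6141 (flp_e L158585) q9903, e3 q6142 L120251 q6010, e3 q6143 L109711 q3650, trivial⟩ (by decide +kernel)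

theorem ce_e_96 : ∀ r, r < 64 → sm ge (Qf (6144 + r)) = Qf (tab Gen.e (6144 + r)) :=
  edges_tab (sm ge) Qf (tab Gen.e) 6144 [(6144, 9210), (6145, 9909), (6146, 9211), (6147, 8168), (6148, 3652), (6149, 9914), (6150, 5957), (6151, 9917), (6152, 3654), (6153, 9919), (6154, 9920), (6155, 6026), (6156, 3659), (6157, 9246), (6158, 9926), (6159, 8199), (6160, 9247), (6161, 3661), (6162, 3777), (6163, 3778), (6164, 4136), (6165, 4137), (6166, 4138), (6167, 4139), (6168, 3783), (6169, 3784), (6170, 3785), (6171, 3786), (6172, 4148), (6173, 4150), (6174, 4151), (6175, 4154), (6176, 4155), (6177, 4156), (6178, 4157), (6179, 4158), (6180, 4159), (6181, 4160), (6182, 4161), (6183, 3787), (6184, 3788), (6185, 6909), (6186, 3789), (6187, 3790), (6188, 3791), (6189, 6913), (6190, 3792), (6191, 4178), (6192, 4179), (6193, 4180), (6194, 4181), (6195, 4182), (6196, 4183), (6197, 4184), (6198, 4185), (6199, 9987), (6200, 4187), (6201, 4188), (6202, 4189), (6203, 4190), (6204, 4191), (6205, 4192), (6206, 4193), (6207, 10004)]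
    ⟨e3 q6144 (flp_e L153722) q9210, e3 q6145 L158623 q9909, e3 q6146 (flp_e L153732) q9211, e3 q6147 (flp_e L150986) q8168, e3 q6148 (flp_e L109762) q3652, e3 q6149 L158660 q9914, e3 q6150 L149214 q5957, e3 q6151 L158684 q9917, e3 q6152 (flp_e L109794) q3654, e3 q6153 (flp_e L158700) q9919, e3 q6154 (flp_e L158712) q9920, e3 q6155 L149498 q6026, e3 q6156 L109842 q3659, e3 q6157 (flp_e L153994) q9246, e3 q6158 L158750 q9926, e3 q6159 (flp_e L151000) q8199, e3 q6160 (flp_e L154004) q9247, e3 q6161 (flp_e L109893) q3661, e3 q6162 L110051 q3777, e3 q6163 L110057 q3778, e3 q6164 L110065 q4136, e3 q6165 L110075 q4137, e3 q6166 L110083 q4138, e3 q6167 L110095 q4139, e3 q6168 L110101 q3783, e3 q6169 L110105 q3784, e3 q6170 L110121 q3785, e3 q6171 L110125 q3786, e3 q6172 L110130 q4148, e3 q6173 L110135 q4150, e3 q6174 L110140 q4151, e3 q6175 L110145 q4154, e3 q6176 L110150 q4155, e3 q6177 L110156 q4156, e3 q6178 L110160 q4157, e3 q6179 L110166 q4158, e3 q6180 L110172 q4159, e3 q6181 L110176 q4160, e3 q6182 L110182 q4161,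 e3 q6183 L110186 q3787, e3 q6184 L110198 q3788, e3 q6185 (flp_e L115305) q6909, e3 q6186 L110214 q3789, e3 q6187 L110222 q3790, e3 q6188 L110234 q3791, e3 q6189 (flp_e L150960) q6913, e3 q6190 L110244 q3792, e3 q6191 L110259 q4178, e3 q6192 L110268 q4179, e3 q6193 L110274 q4180, e3 q6194 L110284 q4181, e3 q6195 L110292 q4182, e3 q6196 L110297 q4183, e3 q6197 L110303 q4184, e3 q6198 L110309 q4185, e3 q6199 L159217 q9987, e3 q6200 L110321 q4187, e3 q6201 L110327 q4188, e3 q6202 L110335 q4189, e3 q6203 L110339 q4190, e3 q6204 L110345 q4191, e3 q6205 L110353 q4192, e3 q6206 L110359 q4193, e3 q6207 L159343 q10004, trivial⟩ (by decide +kernel)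

theorem ce_e_97 : ∀ r, r < 64 → sm ge (Qf (6208 + r)) = Qf (tab Gen.e (6208 + r)) :=
  edges_tab (sm ge) Qf (tab Gen.e) 6208 [(6208, 4195), (6209, 4196), (6210, 4197), (6211, 4198), (6212, 4199), (6213, 3793), (6214, 3794), (6215, 3795), (6216, 3796), (6217, 3797), (6218, 10027), (6219, 10030), (6220, 3695), (6221, 10032), (6222, 3802), (6223, 3803), (6224, 3804), (6225, 3805), (6226, 3806), (6227, 3807), (6228, 3808), (6229, 10046), (6230, 3810), (6231, 3811), (6232, 3812), (6233, 3813), (6234, 3814), (6235, 3815), (6236, 3816), (6237, 10061), (6238, 10064), (6239, 3703), (6240, 10066), (6241, 3821), (6242, 3822), (6243, 3823), (6244, 3824), (6245, 3825), (6246, 3826), (6247, 3827), (6248, 10080), (6249, 3829), (6250, 3830), (6251, 4234), (6252, 4235), (6253, 4236), (6254, 9984), (6255, 4238), (6256, 4239), (6257, 10092), (6258, 3712), (6259, 10094), (6260, 4243), (6261, 4244), (6262, 4248), (6263, 4255), (6264, 4256), (6265, 4257), (6266, 10001), (6267, 4259), (6268, 4260), (6269, 10111), (6270, 3718), (6271,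 10113)]
    ⟨e3 q6208 L110371 q4195, e3 q6209 L110377 q4196, e3 q6210 L110385 q4197, e3 q6211 L110389 q4198, e3 q6212 L110395 q4199, e3 q6213 L110401 q3793, e3 q6214 L110405 q3794, e3 q6215 L110409 q3795, e3 q6216 L110415 q3796, e3 q6217 L110419 q3797, e3 q6218 L159501 q10027, e3 q6219 L159519 q10030, e3 q6220 (flp_e L110431) q3695, e3 q6221 (flp_e L159533) q10032, e3 q6222 L110443 q3802, e3 q6223 L110447 q3803, e3 q6224 L110453 q3804, e3 q6225 L110459 q3805, e3 q6226 L110463 q3806, e3 q6227 L110471 q3807, e3 q6228 L110477 q3808, e3 q6229 L159605 q10046, e3 q6230 L110489 q3810, e3 q6231 L110495 q3811, e3 q6232 L110501 q3812, e3 q6233 L110505 q3813, e3 q6234 L110509 q3814, e3 q6235 L110513 q3815, e3 q6236 L110519 q3816, e3 q6237 L159701 q10061, e3 q6238 L159719 q10064, e3 q6239 (flp_e L110531) q3703, e3 q6240 (flp_e L159733) q10066, e3 q6241 L110543 q3821, e3 q6242 L110547 q3822, e3 q6243 L110553 q3823, e3 q6244 L110559 q3824, e3 q6245 L110563 q3825, e3 q6246 L110571 q3826, e3 q6247 L110577 q3827, e3 q6248 L159805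 q10080, e3 q6249 L110589 q3829, e3 q6250 L110595 q3830, e3 q6251 L110603 q4234, e3 q6252 L110609 q4235, e3 q6253 L110613 q4236, e3 q6254 (flp_e L159185) q9984, e3 q6255 L110625 q4238, e3 q6256 L110633 q4239, e3 q6257 L159892 q10092, e3 q6258 (flp_e L110637) q3712, e3 q6259 (flp_e L159904) q10094, e3 q6260 L110648 q4243, e3 q6261 L110657 q4244, e3 q6262 L110665 q4248, e3 q6263 L110671 q4255, e3 q6264 L110677 q4256, e3 q6265 L110681 q4257, e3 q6266 (flp_e L159321) q10001, e3 q6267 L110693 q4259, e3 q6268 L110701 q4260, e3 q6269 L160021 q10111, e3 q6270 (flp_e L110705) q3718, e3 q6271 (flp_e L160033) q10113, trivial⟩ (by decide +kernel)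

theorem ce_e_98 : ∀ r, r < 64 → sm ge (Qf (6272 + r)) = Qf (tab Gen.e (6272 + r)) :=
  edges_tab (sm ge) Qf (tab Gen.e) 6272 [(6272, 4264), (6273, 4265), (6274, 4269), (6275, 3831), (6276, 3832), (6277, 3833), (6278, 3834), (6279, 3835), (6280, 10121), (6281, 3837), (6282, 3838), (6283, 10126), (6284, 3725), (6285, 10128), (6286, 3841), (6287, 3842), (6288, 3843), (6289, 3844), (6290, 10134), (6291, 3728), (6292, 10137), (6293, 3730), (6294, 10140), (6295, 10141), (6296, 3851), (6297, 3852), (6298, 3853), (6299, 3854), (6300, 3855), (6301, 3856), (6302, 3857), (6303, 3858), (6304, 3859), (6305, 3860), (6306, 3861), (6307, 10154), (6308, 3863), (6309, 3864), (6310, 10159), (6311, 3738), (6312, 10161), (6313, 3867), (6314, 3868), (6315, 3869), (6316, 3870), (6317, 10167), (6318, 3741), (6319, 10170), (6320, 3743), (6321, 10173), (6322, 10174), (6323, 3877), (6324, 3878), (6325, 3879), (6326, 3880), (6327, 3881), (6328, 3882), (6329, 3883), (6330, 10190), (6331, 3885), (6332, 3886), (6333, 10196), (6334, 3748), (6335,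 10199)]
    ⟨e3 q6272 L110716 q4264, e3 q6273 L110725 q4265, e3 q6274 L110733 q4269, e3 q6275 L110741 q3831, e3 q6276 L110749 q3832, e3 q6277 L110753 q3833, e3 q6278 L110759 q3834, e3 q6279 L110769 q3835, e3 q6280 L160082 q10121, e3 q6281 L110787 q3837, e3 q6282 L110795 q3838, e3 q6283 L160128 q10126, e3 q6284 (flp_e L110803) q3725, e3 q6285 (flp_e L160150) q10128, e3 q6286 L110819 q3841, e3 q6287 L110823 q3842, e3 q6288 L110827 q3843, e3 q6289 L110831 q3844, e3 q6290 L160194 q10134, e3 q6291 (flp_e L110843) q3728, e3 q6292 (flp_e L160216) q10137, e3 q6293 L110855 q3730, e3 q6294 (flp_e L160232) q10140, e3 q6295 (flp_e L160242) q10141, e3 q6296 L110873 q3851, e3 q6297 L110879 q3852, e3 q6298 L110883 q3853, e3 q6299 L110887 q3854, e3 q6300 L110893 q3855, e3 q6301 L110897 q3856, e3 q6302 L110907 q3857, e3 q6303 L110915 q3858, e3 q6304 L110919 q3859, e3 q6305 L110925 q3860, e3 q6306 L110935 q3861, e3 q6307 L160312 q10154, e3 q6308 L110955 q3863, e3 q6309 L110963 q3864, e3 q6310 L160358 q10159, e3 q6311 (flp_e L110971)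 q3738, e3 q6312 (flp_e L160380) q10161, e3 q6313 L110987 q3867, e3 q6314 L110991 q3868, e3 q6315 L110995 q3869, e3 q6316 L110999 q3870, e3 q6317 L160424 q10167, e3 q6318 (flp_e L111011) q3741, e3 q6319 (flp_e L160446) q10170, e3 q6320 L111023 q3743, e3 q6321 (flp_e L160462) q10173, e3 q6322 (flp_e L160472) q10174, e3 q6323 L111041 q3877, e3 q6324 L111047 q3878, e3 q6325 L111051 q3879, e3 q6326 L111055 q3880, e3 q6327 L111061 q3881, e3 q6328 L111065 q3882, e3 q6329 L111071 q3883, e3 q6330 L160566 q10190, e3 q6331 L111086 q3885, e3 q6332 L111093 q3886, e3 q6333 L160596 q10196, e3 q6334 (flp_e L111097) q3748, e3 q6335 (flp_e L160612) q10199, trivial⟩ (by decide +kernel)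

theorem ce_e_99 : ∀ r, r < 64 → sm ge (Qf (6336 + r)) = Qf (tab Gen.e (6336 + r)) :=
  edges_tab (sm ge) Qf (tab Gen.e) 6336 [(6336, 10200), (6337, 3891), (6338, 3892), (6339, 3893), (6340, 3896), (6341, 3897), (6342, 3754), (6343, 10210), (6344, 10211), (6345, 10212), (6346, 3909), (6347, 3910), (6348, 3911), (6349, 3912), (6350, 10225), (6351, 3914), (6352, 3915), (6353, 10231), (6354, 3758), (6355, 10234), (6356, 10235), (6357, 3920), (6358, 3921), (6359, 3922), (6360, 3925), (6361, 3926), (6362, 3764), (6363, 10245), (6364, 10246), (6365, 10247), (6366, 3937), (6367, 3938), (6368, 3939), (6369, 4762), (6370, 10260), (6371, 4764), (6372, 4604), (6373, 10266), (6374, 3768), (6375, 10269), (6376, 10270), (6377, 4768), (6378, 4606), (6379, 4800), (6380, 10278), (6381, 4704), (6382, 4802), (6383, 10284), (6384, 3773), (6385, 10287), (6386, 10288), (6387, 4706), (6388, 4806), (6389, 9930), (6390, 9931), (6391, 9932), (6392, 9933), (6393, 9374), (6394, 9375), (6395, 9376), (6396, 9377), (6397, 9378), (6398, 9379),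 (6399, 9940)]
    ⟨e3 q6336 (flp_e L160618) q10200, e3 q6337 L111114 q3891, e3 q6338 L111120 q3892, e3 q6339 L111129 q3893, e3 q6340 L111135 q3896, e3 q6341 L111139 q3897, e3 q6342 L111147 q3754, e3 q6343 (flp_e L160678) q10210, e3 q6344 (flp_e L160682) q10211, e3 q6345 (flp_e L160688) q10212, e3 q6346 L111163 q3909, e3 q6347 L111171 q3910, e3 q6348 L111181 q3911, e3 q6349 L111187 q3912, e3 q6350 L160762 q10225, e3 q6351 L111202 q3914, e3 q6352 L111209 q3915, e3 q6353 L160792 q10231, e3 q6354 (flp_e L111213) q3758, e3 q6355 (flp_e L160808) q10234, e3 q6356 (flp_e L160814) q10235, e3 q6357 L111229 q3920, e3 q6358 L111236 q3921, e3 q6359 L111245 q3922, e3 q6360 L111251 q3925, e3 q6361 L111255 q3926, e3 q6362 L111263 q3764, e3 q6363 (flp_e L160874) q10245, e3 q6364 (flp_e L160878) q10246, e3 q6365 (flp_e L160884) q10247, e3 q6366 L111279 q3937, e3 q6367 L111287 q3938, e3 q6368 L111297 q3939, e3 q6369 L111303 q4762, e3 q6370 L160958 q10260, e3 q6371 L111315 q4764, e3 q6372 L111323 q4604, e3 q6373 L160994 q10266, e3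 q6374 (flp_e L111329) q3768, e3 q6375 (flp_e L161012) q10269, e3 q6376 (flp_e L161020) q10270, e3 q6377 L111351 q4768, e3 q6378 L111361 q4606, e3 q6379 L111367 q4800, e3 q6380 L161072 q10278, e3 q6381 L111379 q4704, e3 q6382 L111387 q4802, e3 q6383 L161108 q10284, e3 q6384 (flp_e L111393) q3773, e3 q6385 (flp_e L161126) q10287, e3 q6386 (flp_e L161134) q10288, e3 q6387 L111415 q4706, e3 q6388 L111425 q4806, e3 q6389 (flp_e L158779) q9930, e3 q6390 (flp_e L158787) q9931, e3 q6391 (flp_e L158793) q9932, e3 q6392 (flp_e L158801) q9933, e3 q6393 (flp_e L154948) q9374, e3 q6394 (flp_e L154956) q9375, e3 q6395 (flp_e L154962) q9376, e3 q6396 (flp_e L154970) q9377, e3 q6397 (flp_e L154978) q9378, e3 q6398 (flp_e L154984) q9379, e3 q6399 (flp_e L158843) q9940, trivial⟩ (by decide +kernel)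

theorem ce_e_100 : ∀ r, r < 64 → sm ge (Qf (6400 + r)) = Qf (tab Gen.e (6400 + r)) :=
  edges_tab (sm ge) Qf (tab Gen.e) 6400 [(6400, 9941), (6401, 9942), (6402, 9943), (6403, 9969), (6404, 9971), (6405, 10015), (6406, 10016), (6407, 10303), (6408, 10018), (6409, 10019), (6410, 10020), (6411, 10021), (6412, 10022), (6413, 10311), (6414, 10024), (6415, 10025), (6416, 3798), (6417, 3799), (6418, 10314), (6419, 3801), (6420, 10315), (6421, 10034), (6422, 10035), (6423, 10036), (6424, 10037), (6425, 10038), (6426, 8119), (6427, 10040), (6428, 10041), (6429, 10042), (6430, 5136), (6431, 10044), (6432, 5135), (6433, 3809), (6434, 10335), (6435, 10048), (6436, 10049), (6437, 10050), (6438, 10340), (6439, 10052), (6440, 10053), (6441, 10054), (6442, 10055), (6443, 10056), (6444, 10348), (6445, 10058), (6446, 10059), (6447, 3817), (6448, 3818), (6449, 10351), (6450, 3820), (6451, 10352), (6452, 10068), (6453, 10069), (6454, 10070), (6455, 10071), (6456, 10072), (6457, 8075), (6458, 10074), (6459, 10075), (6460, 10076),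 (6461, 5129), (6462, 10078), (6463, 5128)]
    ⟨e3 q6400 (flp_e L158853) q9941, e3 q6401 (flp_e L158857) q9942, e3 q6402 (flp_e L158867) q9943, e3 q6403 (flp_e L159059) q9969, e3 q6404 (flp_e L159077) q9971, e3 q6405 (flp_e L159427) q10015, e3 q6406 (flp_e L159433) q10016, e3 q6407 L161262 q10303, e3 q6408 (flp_e L159443) q10018, e3 q6409 (flp_e L159449) q10019, e3 q6410 (flp_e L159453) q10020, e3 q6411 (flp_e L159463) q10021, e3 q6412 (flp_e L159471) q10022, e3 q6413 L161316 q10311, e3 q6414 (flp_e L159485) q10024, e3 q6415 (flp_e L159491) q10025, e3 q6416 (flp_e L111623) q3798, e3 q6417 (flp_e L111631) q3799, e3 q6418 (flp_e L161340) q10314, e3 q6419 L111647 q3801, e3 q6420 (flp_e L161346) q10315, e3 q6421 (flp_e L159541) q10034, e3 q6422 (flp_e L159545) q10035, e3 q6423 (flp_e L159551) q10036, e3 q6424 (flp_e L159555) q10037, e3 q6425 (flp_e L159565) q10038, e3 q6426 (flp_e L163168) q8119, e3 q6427 (flp_e L159577) q10040, e3 q6428 (flp_e L159581) q10041, e3 q6429 (flp_e L159587) q10042, e3 q6430 L163182 q5136,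 e3 q6431 (flp_e L159599) q10044, e3 q6432 (flp_e L163158) q5135, e3 q6433 (flp_e L111703) q3809, e3 q6434 (flp_e L161478) q10335, e3 q6435 (flp_e L159619) q10048, e3 q6436 (flp_e L159627) q10049, e3 q6437 (flp_e L159633) q10050, e3 q6438 L161513 q10340, e3 q6439 (flp_e L159643) q10052, e3 q6440 (flp_e L159649) q10053, e3 q6441 (flp_e L159653) q10054, e3 q6442 (flp_e L159663) q10055, e3 q6443 (flp_e L159671) q10056, e3 q6444 L161567 q10348, e3 q6445 (flp_e L159681) q10058, e3 q6446 (flp_e L159689) q10059, e3 q6447 (flp_e L111769) q3817, e3 q6448 (flp_e L111777) q3818, e3 q6449 (flp_e L161591) q10351, e3 q6450 L111793 q3820, e3 q6451 (flp_e L161597) q10352, e3 q6452 (flp_e L159741) q10068, e3 q6453 (flp_e L159745) q10069, e3 q6454 (flp_e L159751) q10070, e3 q6455 (flp_e L159755) q10071, e3 q6456 (flp_e L159765) q10072, e3 q6457 (flp_e L163322) q8075, e3 q6458 (flp_e L159777) q10074, e3 q6459 (flp_e L159781) q10075, e3 q6460 (flp_e L159787) q10076, e3 q6461 (flp_e L163312) q5129, e3 q6462 (flp_e L159799) q10078, e3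 q6463 L163339 q5128, trivial⟩ (by decide +kernel)

theorem ce_e_101 : ∀ r, r < 64 → sm ge (Qf (6464 + r)) = Qf (tab Gen.e (6464 + r)) :=
  edges_tab (sm ge) Qf (tab Gen.e) 6464 [(6464, 3828), (6465, 10370), (6466, 10082), (6467, 9398), (6468, 5880), (6469, 9547), (6470, 3836), (6471, 8860), (6472, 10124), (6473, 3840), (6474, 10375), (6475, 10130), (6476, 10131), (6477, 10132), (6478, 10133), (6479, 9535), (6480, 9534), (6481, 6025), (6482, 9533), (6483, 4130), (6484, 3845), (6485, 6902), (6486, 4420), (6487, 3847), (6488, 10387), (6489, 3849), (6490, 3850), (6491, 10388), (6492, 10389), (6493, 10146), (6494, 10147), (6495, 10148), (6496, 10149), (6497, 10150), (6498, 10151), (6499, 5426), (6500, 10152), (6501, 10153), (6502, 9393), (6503, 5889), (6504, 3862), (6505, 8874), (6506, 10157), (6507, 3866), (6508, 10409), (6509, 10163), (6510, 10164), (6511, 10165), (6512, 10166), (6513, 9548), (6514, 6041), (6515, 9546), (6516, 4131), (6517, 3871), (6518, 6900), (6519, 4421), (6520, 3873), (6521, 10421), (6522, 3875),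 (6523, 3876), (6524, 10422), (6525, 10423), (6526, 10179), (6527, 10180)]
    ⟨e3 q6464 (flp_e L111849) q3828, e3 q6465 (flp_e L161729) q10370, e3 q6466 (flp_e L159819) q10082, e3 q6467 (flp_e L155144) q9398, e3 q6468 L151319 q5880, e3 q6469 (flp_e L156232) q9547, e3 q6470 (flp_e L111887) q3836, e3 q6471 (flp_e L145739) q8860, e3 q6472 (flp_e L160114) q10124, e3 q6473 L111916 q3840, e3 q6474 (flp_e L161758) q10375, e3 q6475 (flp_e L160160) q10130, e3 q6476 (flp_e L160170) q10131, e3 q6477 (flp_e L160180) q10132, e3 q6478 (flp_e L160186) q10133, e3 q6479 (flp_e L156138) q9535, e3 q6480 (flp_e L156122) q9534, e3 q6481 L151437 q6025, e3 q6482 (flp_e L156110) q9533, e3 q6483 L119216 q4130, e3 q6484 (flp_e L111970) q3845, e3 q6485 L119727 q6902, e3 q6486 L119733 q4420, e3 q6487 L111990 q3847, e3 q6488 (flp_e L161852) q10387, e3 q6489 L112006 q3849, e3 q6490 L112014 q3850, e3 q6491 (flp_e L161860) q10388, e3 q6492 (flp_e L161866) q10389, e3 q6493 (flp_e L160266) q10146, e3 q6494 (flp_e L160270) q10147, e3 q6495 (flp_e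 L160276) q10148, e3 q6496 (flp_e L160280) q10149, e3 q6497 (flp_e L160286) q10150, e3 q6498 (flp_e L160294) q10151, e3 q6499 (flp_e L163540) q5426, e3 q6500 (flp_e L160302) q10152, e3 q6501 (flp_e L160308) q10153, e3 q6502 (flp_e L155090) q9393, e3 q6503 L151230 q5889, e3 q6504 (flp_e L112086) q3862, e3 q6505 L149954 q8874, e3 q6506 (flp_e L160344) q10157, e3 q6507 L112115 q3866, e3 q6508 (flp_e L161988) q10409, e3 q6509 (flp_e L160390) q10163, e3 q6510 (flp_e L160400) q10164, e3 q6511 (flp_e L160410) q10165, e3 q6512 (flp_e L160416) q10166, e3 q6513 (flp_e L156248) q9548, e3 q6514 L151377 q6041, e3 q6515 (flp_e L156220) q9546, e3 q6516 L148327 q4131, e3 q6517 (flp_e L112200) q3871, e3 q6518 L148305 q6900, e3 q6519 L147671 q4421, e3 q6520 L112220 q3873, e3 q6521 (flp_e L162084) q10421, e3 q6522 L112236 q3875, e3 q6523 L112244 q3876, e3 q6524 (flp_e L162094) q10422, e3 q6525 (flp_e L162100) q10423, e3 q6526 (flp_e L160496) q10179, e3 q6527 (flp_e L160500) q10180, trivial⟩ (by decide +kernel)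

theorem ce_e_102 : ∀ r, r < 64 → sm ge (Qf (6528 + r)) = Qf (tab Gen.e (6528 + r)) :=
  edges_tab (sm ge) Qf (tab Gen.e) 6528 [(6528, 10181), (6529, 10182), (6530, 10183), (6531, 10184), (6532, 5410), (6533, 10185), (6534, 10186), (6535, 10188), (6536, 10442), (6537, 3884), (6538, 10444), (6539, 10445), (6540, 10193), (6541, 10194), (6542, 3887), (6543, 10450), (6544, 3889), (6545, 3890), (6546, 10452), (6547, 10453), (6548, 10454), (6549, 10203), (6550, 10204), (6551, 10205), (6552, 10206), (6553, 3895), (6554, 10463), (6555, 10207), (6556, 10208), (6557, 10209), (6558, 5031), (6559, 8357), (6560, 4045), (6561, 3904), (6562, 10472), (6563, 10473), (6564, 10474), (6565, 3906), (6566, 3907), (6567, 3908), (6568, 10478), (6569, 10479), (6570, 10481), (6571, 10219), (6572, 10220), (6573, 10221), (6574, 10223), (6575, 10492), (6576, 3913), (6577, 10494), (6578, 10495), (6579, 10228), (6580, 10229), (6581, 3916), (6582, 10500), (6583, 3918), (6584, 3919), (6585, 10502), (6586, 10503), (6587, 10504), (6588, 10238), (6589,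 10239), (6590, 10240), (6591, 10241)]
    ⟨e3 q6528 (flp_e L160506) q10181, e3 q6529 (flp_e L160510) q10182, e3 q6530 (flp_e L160516) q10183, e3 q6531 (flp_e L160524) q10184, e3 q6532 (flp_e L163714) q5410, e3 q6533 (flp_e L160532) q10185, e3 q6534 (flp_e L160538) q10186, e3 q6535 (flp_e L160558) q10188, e3 q6536 L162206 q10442, e3 q6537 (flp_e L112324) q3884, e3 q6538 (flp_e L162228) q10444, e3 q6539 (flp_e L162234) q10445, e3 q6540 (flp_e L160586) q10193, e3 q6541 (flp_e L160592) q10194, e3 q6542 (flp_e L112344) q3887, e3 q6543 (flp_e L162271) q10450, e3 q6544 L112358 q3889, e3 q6545 L112362 q3890, e3 q6546 (flp_e L162287) q10452, e3 q6547 (flp_e L162293) q10453, e3 q6548 (flp_e L162301) q10454, e3 q6549 (flp_e L160636) q10203, e3 q6550 (flp_e L160640) q10204, e3 q6551 (flp_e L160648) q10205, e3 q6552 (flp_e L160652) q10206, e3 q6553 L112396 q3895, e3 q6554 (flp_e L162352) q10463, e3 q6555 (flp_e L160656) q10207, e3 q6556 (flp_e L160662) q10208, e3 q6557 (flp_e L160670) q10209, e3 q6558 (flp_e L119771) q5031,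 e3 q6559 (flp_e L129940) q8357, e3 q6560 (flp_e L140997) q4045, e3 q6561 L112476 q3904, e3 q6562 (flp_e L162390) q10472, e3 q6563 (flp_e L162396) q10473, e3 q6564 (flp_e L162404) q10474, e3 q6565 L112490 q3906, e3 q6566 L112494 q3907, e3 q6567 L112498 q3908, e3 q6568 (flp_e L162434) q10478, e3 q6569 (flp_e L162440) q10479, e3 q6570 (flp_e L162458) q10481, e3 q6571 (flp_e L160726) q10219, e3 q6572 (flp_e L160732) q10220, e3 q6573 (flp_e L160736) q10221, e3 q6574 (flp_e L160754) q10223, e3 q6575 L162524 q10492, e3 q6576 (flp_e L112568) q3913, e3 q6577 (flp_e L162546) q10494, e3 q6578 (flp_e L162552) q10495, e3 q6579 (flp_e L160782) q10228, e3 q6580 (flp_e L160786) q10229, e3 q6581 (flp_e L112588) q3916, e3 q6582 (flp_e L162589) q10500, e3 q6583 L112602 q3918, e3 q6584 L112606 q3919, e3 q6585 (flp_e L162605) q10502, e3 q6586 (flp_e L162611) q10503, e3 q6587 (flp_e L162619) q10504, e3 q6588 (flp_e L160832) q10238, e3 q6589 (flp_e L160840) q10239, e3 q6590 (flp_e L160844) q10240, e3 q6591 (flp_e L160848) q10241, trivial⟩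 (by decide +kernel)

theorem ce_e_103 : ∀ r, r < 64 → sm ge (Qf (6592 + r)) = Qf (tab Gen.e (6592 + r)) :=
  edges_tab (sm ge) Qf (tab Gen.e) 6592 [(6592, 3924), (6593, 10513), (6594, 10242), (6595, 10243), (6596, 10244), (6597, 5033), (6598, 8353), (6599, 4091), (6600, 3932), (6601, 10522), (6602, 10523), (6603, 10524), (6604, 3934), (6605, 3935), (6606, 3936), (6607, 10528), (6608, 10254), (6609, 10255), (6610, 10256), (6611, 9356), (6612, 5091), (6613, 3941), (6614, 5101), (6615, 6758), (6616, 6755), (6617, 6619), (6618, 3944), (6619, 6617), (6620, 9916), (6621, 3945), (6622, 10546), (6623, 10545), (6624, 3948), (6625, 3952), (6626, 3950), (6627, 3951), (6628, 10551), (6629, 10552), (6630, 10548), (6631, 10549), (6632, 10550), (6633, 3955), (6634, 3956), (6635, 3957), (6636, 3987), (6637, 10558), (6638, 10559), (6639, 10560), (6640, 10561), (6641, 3962), (6642, 3960), (6643, 10568), (6644, 10569), (6645, 10567), (6646, 3964), (6647, 3965), (6648, 3966), (6649, 10573), (6650, 10574), (6651, 10581), (6652, 10576),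 (6653, 8491), (6654, 10584), (6655, 8096)]
    ⟨e3 q6592 L112640 q3924, e3 q6593 (flp_e L162670) q10513, e3 q6594 (flp_e L160852) q10242, e3 q6595 (flp_e L160858) q10243, e3 q6596 (flp_e L160866) q10244, e3 q6597 L146517 q5033, e3 q6598 L148568 q8353, e3 q6599 (flp_e L137033) q4091, e3 q6600 L112720 q3932, e3 q6601 (flp_e L162712) q10522, e3 q6602 (flp_e L162718) q10523, e3 q6603 (flp_e L162726) q10524, e3 q6604 L112734 q3934, e3 q6605 L112738 q3935, e3 q6606 L112742 q3936, e3 q6607 (flp_e L162756) q10528, e3 q6608 (flp_e L160920) q10254, e3 q6609 (flp_e L160926) q10255, e3 q6610 (flp_e L160932) q10256, e3 q6611 (flp_e L154814) q9356, e3 q6612 L119767 q5091, e3 q6613 (flp_e L112815) q3941, e3 q6614 (flp_e L119807) q5101, e3 q6615 (flp_e L140951) q6758, e3 q6616 (flp_e L133817) q6755, e3 q6617 (flp_e L120517) q6619, e3 q6618 (flp_e L112948) q3944, e3 q6619 L120517 q6617, e3 q6620 (flp_e L158678) q9916, e3 q6621 (flp_e L112960) q3945, e3 q6622 (flp_e L162921) q10546, e3 q6623 (flp_e L162913) q10545, e3 q6624 L113002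 q3948, e3 q6625 L113012 q3952, e3 q6626 L113016 q3950, e3 q6627 L113020 q3951, e3 q6628 (flp_e L162965) q10551, e3 q6629 (flp_e L162971) q10552, e3 q6630 (flp_e L162935) q10548, e3 q6631 (flp_e L162949) q10549, e3 q6632 (flp_e L162957) q10550, e3 q6633 L113058 q3955, e3 q6634 L113064 q3956, e3 q6635 L113074 q3957, e3 q6636 L149033 q3987, e3 q6637 (flp_e L163025) q10558, e3 q6638 (flp_e L163035) q10559, e3 q6639 (flp_e L163047) q10560, e3 q6640 (flp_e L163051) q10561, e3 q6641 L113102 q3962, e3 q6642 L113108 q3960, e3 q6643 (flp_e L163103) q10568, e3 q6644 (flp_e L163113) q10569, e3 q6645 (flp_e L163099) q10567, e3 q6646 L113134 q3964, e3 q6647 L113138 q3965, e3 q6648 L113144 q3966, e3 q6649 (flp_e L164023) q10573, e3 q6650 (flp_e L164029) q10574, e3 q6651 L164081 q10581, e3 q6652 (flp_e L164043) q10576, e3 q6653 (flp_e L143275) q8491, e3 q6654 L164101 q10584, e3 q6655 L142782 q8096, trivial⟩ (by decide +kernel)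

theorem ce_e_104 : ∀ r, r < 64 → sm ge (Qf (6656 + r)) = Qf (tab Gen.e (6656 + r)) :=
  edges_tab (sm ge) Qf (tab Gen.e) 6656 [(6656, 10589), (6657, 10591), (6658, 3969), (6659, 9357), (6660, 5089), (6661, 3971), (6662, 5097), (6663, 6832), (6664, 6829), (6665, 6668), (6666, 3974), (6667, 9899), (6668, 6665), (6669, 3975), (6670, 10601), (6671, 10600), (6672, 3977), (6673, 3982), (6674, 3980), (6675, 3981), (6676, 10606), (6677, 10607), (6678, 10603), (6679, 10604), (6680, 10605), (6681, 3985), (6682, 3986), (6683, 10611), (6684, 10612), (6685, 10613), (6686, 3992), (6687, 3990), (6688, 10619), (6689, 10620), (6690, 10618), (6691, 3994), (6692, 3995), (6693, 3996), (6694, 10624), (6695, 10630), (6696, 10626), (6697, 8483), (6698, 10633), (6699, 8052), (6700, 3999), (6701, 4104), (6702, 4096), (6703, 4106), (6704, 6705), (6705, 6704), (6706, 8445), (6707, 8350), (6708, 5127), (6709, 4008), (6710, 5677), (6711, 10649), (6712, 5125), (6713, 4010), (6714, 6746), (6715, 6744), (6716, 8374), (6717, 4019), (6718, 4015),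 (6719, 4016)]
    ⟨e3 q6656 L164135 q10589, e3 q6657 L164149 q10591, e3 q6658 (flp_e L113214) q3969, e3 q6659 (flp_e L154822) q9357, e3 q6660 (flp_e L146687) q5089, e3 q6661 (flp_e L113243) q3971, e3 q6662 L147403 q5097, e3 q6663 (flp_e L137260) q6832, e3 q6664 (flp_e L137019) q6829, e3 q6665 L148564 q6668, e3 q6666 (flp_e L113376) q3974, e3 q6667 (flp_e L158551) q9899, e3 q6668 (flp_e L148564) q6665, e3 q6669 (flp_e L113388) q3975, e3 q6670 (flp_e L164252) q10601, e3 q6671 (flp_e L164244) q10600, e3 q6672 L113422 q3977, e3 q6673 L113440 q3982, e3 q6674 L113444 q3980, e3 q6675 L113448 q3981, e3 q6676 (flp_e L164294) q10606, e3 q6677 (flp_e L164304) q10607, e3 q6678 (flp_e L164268) q10603, e3 q6679 (flp_e L164278) q10604, e3 q6680 (flp_e L164288) q10605, e3 q6681 L113484 q3985, e3 q6682 L113492 q3986, e3 q6683 (flp_e L164340) q10611, e3 q6684 (flp_e L164350) q10612, e3 q6685 (flp_e L164362) q10613, e3 q6686 L113530 q3992, e3 q6687 L113536 q3990, e3 q6688 (flp_e L164408) q10619, e3 q6689 (flp_e L164418) q10620, e3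 q6690 (flp_e L164404) q10618, e3 q6691 L113562 q3994, e3 q6692 L113566 q3995, e3 q6693 L113572 q3996, e3 q6694 (flp_e L164448) q10624, e3 q6695 L164484 q10630, e3 q6696 (flp_e L164458) q10626, e3 q6697 (flp_e L149023) q8483, e3 q6698 L164504 q10633, e3 q6699 L142806 q8052, e3 q6700 (flp_e L113622) q3999, e3 q6701 L120202 q4104, e3 q6702 L120198 q4096, e3 q6703 L120193 q4106, e3 q6704 L120447 q6705, e3 q6705 (flp_e L120447) q6704, e3 q6706 (flp_e L142859) q8445, e3 q6707 (flp_e L129894) q8350, e3 q6708 L120365 q5127, e3 q6709 L113759 q4008, e3 q6710 L119917 q5677, e3 q6711 (flp_e L164633) q10649, e3 q6712 L120377 q5125, e3 q6713 L113801 q4010, e3 q6714 (flp_e L154566) q6746, e3 q6715 (flp_e L154556) q6744, e3 q6716 (flp_e L130048) q8374, e3 q6717 L120161 q4019, e3 q6718 L113859 q4015, e3 q6719 L113863 q4016, trivial⟩ (by decide +kernel)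

theorem ce_e_105 : ∀ r, r < 64 → sm ge (Qf (6720 + r)) = Qf (tab Gen.e (6720 + r)) :=
  edges_tab (sm ge) Qf (tab Gen.e) 6720 [(6720, 4017), (6721, 4018), (6722, 9341), (6723, 4065), (6724, 9323), (6725, 10656), (6726, 7933), (6727, 10663), (6728, 10405), (6729, 7728), (6730, 10655), (6731, 7724), (6732, 5684), (6733, 9343), (6734, 9348), (6735, 9349), (6736, 4026), (6737, 4027), (6738, 4028), (6739, 10678), (6740, 4030), (6741, 4031), (6742, 4033), (6743, 4035), (6744, 6715), (6745, 10415), (6746, 6714), (6747, 10652), (6748, 10417), (6749, 10687), (6750, 10676), (6751, 10677), (6752, 4029), (6753, 8062), (6754, 10679), (6755, 6616), (6756, 9273), (6757, 10664), (6758, 6615), (6759, 10680), (6760, 10681), (6761, 4039), (6762, 10700), (6763, 4037), (6764, 9202), (6765, 10705), (6766, 10696), (6767, 10710), (6768, 10698), (6769, 10699), (6770, 4040), (6771, 10715), (6772, 4041), (6773, 4043), (6774, 10718), (6775, 8060), (6776, 8063), (6777, 4121), (6778, 4113), (6779, 4123), (6780, 6781), (6781, 6780), (6782, 8448),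 (6783, 8354)]
    ⟨e3 q6720 L113869 q4017, e3 q6721 L113875 q4018, e3 q6722 (flp_e L154700) q9341, e3 q6723 L149758 q4065, e3 q6724 (flp_e L154542) q9323, e3 q6725 (flp_e L164685) q10656, e3 q6726 (flp_e L163584) q7933, e3 q6727 L164725 q10663, e3 q6728 (flp_e L163614) q10405, e3 q6729 (flp_e L163578) q7728, e3 q6730 (flp_e L164677) q10655, e3 q6731 L163489 q7724, e3 q6732 L113941 q5684, e3 q6733 (flp_e L154714) q9343, e3 q6734 (flp_e L154744) q9348, e3 q6735 (flp_e L154754) q9349, e3 q6736 L113955 q4026, e3 q6737 L113961 q4027, e3 q6738 L113967 q4028, e3 q6739 L164843 q10678, e3 q6740 L113979 q4030, e3 q6741 L113983 q4031, e3 q6742 L113997 q4033, e3 q6743 L114007 q4035, e3 q6744 L154556 q6715, e3 q6745 (flp_e L162024) q10415, e3 q6746 L154566 q6714, e3 q6747 (flp_e L164657) q10652, e3 q6748 (flp_e L162040) q10417, e3 q6749 L164925 q10687, e3 q6750 (flp_e L164833) q10676, e3 q6751 (flp_e L164839) q10677, e3 q6752 (flp_e L114037) q4029, e3 q6753 L142710 q8062, e3 q6754 (flp_e L164857) q10679, e3 q6755 L133817 q6616,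 e3 q6756 (flp_e L154184) q9273, e3 q6757 (flp_e L164739) q10664, e3 q6758 L140951 q6615, e3 q6759 (flp_e L164869) q10680, e3 q6760 (flp_e L164883) q10681, e3 q6761 L114107 q4039, e3 q6762 L165007 q10700, e3 q6763 (flp_e L114113) q4037, e3 q6764 (flp_e L153674) q9202, e3 q6765 L165037 q10705, e3 q6766 (flp_e L164993) q10696, e3 q6767 L165055 q10710, e3 q6768 (flp_e L165001) q10698, e3 q6769 (flp_e L165005) q10699, e3 q6770 (flp_e L114155) q4040, e3 q6771 L165084 q10715, e3 q6772 (flp_e L114165) q4041, e3 q6773 L114173 q4043, e3 q6774 (flp_e L165110) q10718, e3 q6775 L142772 q8060, e3 q6776 L142768 q8063, e3 q6777 L148351 q4121, e3 q6778 L148405 q4113, e3 q6779 L148400 q4123, e3 q6780 (flp_e L149560) q6781, e3 q6781 L149560 q6780, e3 q6782 (flp_e L148558) q8448, e3 q6783 L148566 q8354, trivial⟩ (by decide +kernel)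

theorem ce_e_106 : ∀ r, r < 64 → sm ge (Qf (6784 + r)) = Qf (tab Gen.e (6784 + r)) :=
  edges_tab (sm ge) Qf (tab Gen.e) 6784 [(6784, 5134), (6785, 4053), (6786, 10734), (6787, 5132), (6788, 5716), (6789, 4056), (6790, 6821), (6791, 6818), (6792, 8381), (6793, 4064), (6794, 4061), (6795, 4062), (6796, 4063), (6797, 10740), (6798, 7779), (6799, 10745), (6800, 10439), (6801, 7890), (6802, 10739), (6803, 7886), (6804, 9300), (6805, 9271), (6806, 5720), (6807, 9301), (6808, 9306), (6809, 9307), (6810, 4072), (6811, 4073), (6812, 4074), (6813, 10762), (6814, 4076), (6815, 4077), (6816, 4079), (6817, 4081), (6818, 6791), (6819, 10381), (6820, 10736), (6821, 6790), (6822, 10383), (6823, 10771), (6824, 10760), (6825, 10761), (6826, 4075), (6827, 8107), (6828, 10763), (6829, 6664), (6830, 9321), (6831, 10746), (6832, 6663), (6833, 10764), (6834, 10765), (6835, 4085), (6836, 10784), (6837, 4083), (6838, 9238), (6839, 10787), (6840, 10780), (6841, 10792), (6842, 10782), (6843, 10783), (6844, 4086), (6845, 10796), (6846, 4087),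 (6847, 4089)]
    ⟨e3 q6784 L146493 q5134, e3 q6785 L114322 q4053, e3 q6786 (flp_e L165244) q10734, e3 q6787 L146462 q5132, e3 q6788 L146456 q5716, e3 q6789 L114364 q4056, e3 q6790 (flp_e L154520) q6821, e3 q6791 (flp_e L154514) q6818, e3 q6792 (flp_e L130109) q8381, e3 q6793 L148452 q4064, e3 q6794 L114420 q4061, e3 q6795 L114426 q4062, e3 q6796 L114432 q4063, e3 q6797 (flp_e L165294) q10740, e3 q6798 (flp_e L163780) q7779, e3 q6799 L165320 q10745, e3 q6800 (flp_e L163776) q10439, e3 q6801 (flp_e L163789) q7890, e3 q6802 (flp_e L165286) q10739, e3 q6803 (flp_e L163852) q7886, e3 q6804 L154506 q9300, e3 q6805 (flp_e L154174) q9271, e3 q6806 L114502 q5720, e3 q6807 (flp_e L154350) q9301, e3 q6808 (flp_e L154378) q9306, e3 q6809 (flp_e L154386) q9307, e3 q6810 L114516 q4072, e3 q6811 L114522 q4073, e3 q6812 L114528 q4074, e3 q6813 L165456 q10762, e3 q6814 L114540 q4076, e3 q6815 L114544 q4077, e3 q6816 L114558 q4079, e3 q6817 L114568 q4081, e3 q6818 L154514 q6791, e3 q6819 (flp_e L161794) q10381, e3 q6820 (flp_e L165264)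 q10736, e3 q6821 L154520 q6790, e3 q6822 (flp_e L161810) q10383, e3 q6823 L165546 q10771, e3 q6824 (flp_e L165446) q10760, e3 q6825 (flp_e L165452) q10761, e3 q6826 (flp_e L114598) q4075, e3 q6827 (flp_e L142720) q8107, e3 q6828 (flp_e L165470) q10763, e3 q6829 L137019 q6664, e3 q6830 (flp_e L154532) q9321, e3 q6831 (flp_e L165334) q10746, e3 q6832 L137260 q6663, e3 q6833 (flp_e L165482) q10764, e3 q6834 (flp_e L165496) q10765, e3 q6835 L114668 q4085, e3 q6836 L165632 q10784, e3 q6837 (flp_e L114676) q4083, e3 q6838 (flp_e L153946) q9238, e3 q6839 L165662 q10787, e3 q6840 (flp_e L165614) q10780, e3 q6841 L165690 q10792, e3 q6842 (flp_e L165622) q10782, e3 q6843 (flp_e L165628) q10783, e3 q6844 (flp_e L114722) q4086, e3 q6845 L165714 q10796, e3 q6846 (flp_e L114732) q4087, e3 q6847 L114744 q4089, trivial⟩ (by decide +kernel)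

theorem ce_e_107 : ∀ r, r < 64 → sm ge (Qf (6848 + r)) = Qf (tab Gen.e (6848 + r)) :=
  edges_tab (sm ge) Qf (tab Gen.e) 6848 [(6848, 10799), (6849, 8104), (6850, 8106), (6851, 4094), (6852, 7632), (6853, 4097), (6854, 4093), (6855, 7638), (6856, 10805), (6857, 9077), (6858, 4095), (6859, 9076), (6860, 10811), (6861, 10638), (6862, 10807), (6863, 4099), (6864, 4103), (6865, 4105), (6866, 4107), (6867, 10815), (6868, 10816), (6869, 10817), (6870, 10639), (6871, 10818), (6872, 4110), (6873, 7797), (6874, 4112), (6875, 4109), (6876, 7803), (6877, 10826), (6878, 9132), (6879, 4111), (6880, 10832), (6881, 9130), (6882, 10828), (6883, 10725), (6884, 4115), (6885, 4119), (6886, 4120), (6887, 4122), (6888, 10836), (6889, 10837), (6890, 10838), (6891, 10839), (6892, 10726), (6893, 4422), (6894, 4423), (6895, 4424), (6896, 4425), (6897, 4426), (6898, 4427), (6899, 10384), (6900, 6518), (6901, 10418), (6902, 6485), (6903, 4439), (6904, 4440), (6905, 4441), (6906, 4442), (6907, 4443), (6908, 4444), (6909, 6185), (6910, 9934),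 (6911, 9935)]
    ⟨e3 q6848 (flp_e L165742) q10799, e3 q6849 (flp_e L142716) q8104, e3 q6850 (flp_e L142718) q8106, e3 q6851 L114816 q4094, e3 q6852 L121747 q7632, e3 q6853 L114833 q4097, e3 q6854 (flp_e L114835) q4093, e3 q6855 L121785 q7638, e3 q6856 (flp_e L165786) q10805, e3 q6857 (flp_e L152677) q9077, e3 q6858 (flp_e L114874) q4095, e3 q6859 (flp_e L152666) q9076, e3 q6860 (flp_e L165826) q10811, e3 q6861 (flp_e L164543) q10638, e3 q6862 (flp_e L165802) q10807, e3 q6863 L114909 q4099, e3 q6864 L114923 q4103, e3 q6865 L114935 q4105, e3 q6866 L114947 q4107, e3 q6867 (flp_e L165855) q10815, e3 q6868 (flp_e L165867) q10816, e3 q6869 (flp_e L165873) q10817, e3 q6870 (flp_e L164549) q10639, e3 q6871 (flp_e L165881) q10818, e3 q6872 L114989 q4110, e3 q6873 (flp_e L122651) q7797, e3 q6874 L114999 q4112, e3 q6875 (flp_e L115008) q4109, e3 q6876 L122686 q7803, e3 q6877 (flp_e L165955) q10826, e3 q6878 (flp_e L153098) q9132, e3 q6879 (flp_e L115047) q4111, e3 q6880 (flp_e L165997) q10832, e3 q6881 (flp_e L153081) q9130,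 e3 q6882 (flp_e L165971) q10828, e3 q6883 (flp_e L165153) q10725, e3 q6884 L115082 q4115, e3 q6885 L115096 q4119, e3 q6886 L115102 q4120, e3 q6887 L115112 q4122, e3 q6888 (flp_e L166038) q10836, e3 q6889 (flp_e L166050) q10837, e3 q6890 (flp_e L166056) q10838, e3 q6891 (flp_e L166064) q10839, e3 q6892 (flp_e L165159) q10726, e3 q6893 L115188 q4422, e3 q6894 L115194 q4423, e3 q6895 L115198 q4424, e3 q6896 L115202 q4425, e3 q6897 L115208 q4426, e3 q6898 L115212 q4427, e3 q6899 (flp_e L161820) q10384, e3 q6900 (flp_e L148305) q6518, e3 q6901 (flp_e L162050) q10418, e3 q6902 (flp_e L119727) q6485, e3 q6903 L115266 q4439, e3 q6904 L115274 q4440, e3 q6905 L115279 q4441, e3 q6906 L115288 q4442, e3 q6907 L115295 q4443, e3 q6908 L115299 q4444, e3 q6909 L115305 q6185, e3 q6910 (flp_e L158807) q9934, e3 q6911 (flp_e L158815) q9935, trivial⟩ (by decide +kernel)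

theorem ce_e_108 : ∀ r, r < 64 → sm ge (Qf (6912 + r)) = Qf (tab Gen.e (6912 + r)) :=
  edges_tab (sm ge) Qf (tab Gen.e) 6912 [(6912, 9936), (6913, 6189), (6914, 9937), (6915, 9938), (6916, 9939), (6917, 4445), (6918, 4446), (6919, 10310), (6920, 4448), (6921, 4449), (6922, 4450), (6923, 4451), (6924, 4452), (6925, 4453), (6926, 4454), (6927, 10347), (6928, 4456), (6929, 4457), (6930, 4458), (6931, 4459), (6932, 4460), (6933, 9944), (6934, 6934), (6935, 9945), (6936, 9946), (6937, 6937), (6938, 6938), (6939, 9947), (6940, 9948), (6941, 9949), (6942, 9950), (6943, 6943), (6944, 6944), (6945, 9951), (6946, 9952), (6947, 9953), (6948, 9954), (6949, 9955), (6950, 9956), (6951, 9957), (6952, 9958), (6953, 9959), (6954, 10928), (6955, 9961), (6956, 9962), (6957, 9963), (6958, 9964), (6959, 9965), (6960, 10938), (6961, 9967), (6962, 9968), (6963, 4463), (6964, 4464), (6965, 4465), (6966, 8333), (6967, 4467), (6968, 4468), (6969, 8553), (6970, 4165), (6971, 10949), (6972, 4471), (6973, 4472), (6974, 4475), (6975, 4476)]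
    ⟨e3 q6912 (flp_e L158821) q9936, e3 q6913 L150960 q6189, e3 q6914 (flp_e L158825) q9937, e3 q6915 (flp_e L158833) q9938, e3 q6916 (flp_e L158839) q9939, e3 q6917 L115341 q4445, e3 q6918 L115351 q4446, e3 q6919 L161314 q10310, e3 q6920 L115365 q4448, e3 q6921 L115369 q4449, e3 q6922 L115375 q4450, e3 q6923 L115381 q4451, e3 q6924 L115387 q4452, e3 q6925 L115393 q4453, e3 q6926 L115403 q4454, e3 q6927 L161565 q10347, e3 q6928 L115415 q4456, e3 q6929 L115419 q4457, e3 q6930 L115425 q4458, e3 q6931 L115431 q4459, e3 q6932 L115437 q4460, e3 q6933 (flp_e L158872) q9944, e3 q6934 L115448 q6934, e3 q6935 (flp_e L158884) q9945, e3 q6936 (flp_e L158892) q9946, e3 q6937 L115463 q6937, e3 q6938 L115469 q6938, e3 q6939 (flp_e L158898) q9947, e3 q6940 (flp_e L158905) q9948, e3 q6941 (flp_e L158912) q9949, e3 q6942 (flp_e L158921) q9950, e3 q6943 L115492 q6943, e3 q6944 L115497 q6944, e3 q6945 (flp_e L158928) q9951, e3 q6946 (flp_e L158933) q9952, e3 q6947 (flp_e L158940) q9953, e3 q6948 (flp_e L158947) q9954, e3 q6949 (flp_e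 L158952) q9955, e3 q6950 (flp_e L158959) q9956, e3 q6951 (flp_e L158969) q9957, e3 q6952 (flp_e L158977) q9958, e3 q6953 (flp_e L158985) q9959, e3 q6954 L166724 q10928, e3 q6955 (flp_e L158995) q9961, e3 q6956 (flp_e L159003) q9962, e3 q6957 (flp_e L159013) q9963, e3 q6958 (flp_e L159021) q9964, e3 q6959 (flp_e L159029) q9965, e3 q6960 L166786 q10938, e3 q6961 (flp_e L159039) q9967, e3 q6962 (flp_e L159047) q9968, e3 q6963 L115579 q4463, e3 q6964 L115585 q4464, e3 q6965 L115589 q4465, e3 q6966 (flp_e L129739) q8333, e3 q6967 L115603 q4467, e3 q6968 L115609 q4468, e3 q6969 L161254 q8553, e3 q6970 (flp_e L115615) q4165, e3 q6971 (flp_e L166854) q10949, e3 q6972 L115626 q4471, e3 q6973 L115635 q4472, e3 q6974 L115653 q4475, e3 q6975 L115659 q4476, trivial⟩ (by decide +kernel)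

theorem ce_e_109 : ∀ r, r < 64 → sm ge (Qf (6976 + r)) = Qf (tab Gen.e (6976 + r)) :=
  edges_tab (sm ge) Qf (tab Gen.e) 6976 [(6976, 4477), (6977, 8341), (6978, 4479), (6979, 4480), (6980, 8562), (6981, 4171), (6982, 10961), (6983, 4483), (6984, 4484), (6985, 6985), (6986, 6986), (6987, 6987), (6988, 6988), (6989, 10968), (6990, 9973), (6991, 9974), (6992, 9975), (6993, 9976), (6994, 10973), (6995, 9977), (6996, 9978), (6997, 9979), (6998, 9980), (6999, 9981), (7000, 9982), (7001, 9983), (7002, 8669), (7003, 4186), (7004, 10983), (7005, 9988), (7006, 9989), (7007, 9990), (7008, 9991), (7009, 9992), (7010, 9993), (7011, 9994), (7012, 10997), (7013, 9996), (7014, 9997), (7015, 9998), (7016, 9999), (7017, 10000), (7018, 8681), (7019, 4194), (7020, 11007), (7021, 10005), (7022, 10006), (7023, 10007), (7024, 10008), (7025, 10009), (7026, 10010), (7027, 10011), (7028, 11021), (7029, 10013), (7030, 10014), (7031, 4488), (7032, 4489), (7033, 4490), (7034, 5513), (7035, 4492), (7036, 4493), (7037, 4989), (7038, 4203),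 (7039, 5257)]
    ⟨e3 q6976 L115665 q4477, e3 q6977 (flp_e L151337) q8341, e3 q6978 L115677 q4479, e3 q6979 L115683 q4480, e3 q6980 L161505 q8562, e3 q6981 (flp_e L115689) q4171, e3 q6982 (flp_e L166937) q10961, e3 q6983 L115700 q4483, e3 q6984 L115709 q4484, e3 q6985 L115716 q6985, e3 q6986 L115729 q6986, e3 q6987 L115738 q6987, e3 q6988 L115749 q6988, e3 q6989 L166990 q10968, e3 q6990 (flp_e L159212) q9973, e3 q6991 (flp_e L159106) q9974, e3 q6992 (flp_e L159117) q9975, e3 q6993 (flp_e L159123) q9976, e3 q6994 L167026 q10973, e3 q6995 (flp_e L167035) q9977, e3 q6996 (flp_e L159144) q9978, e3 q6997 (flp_e L159155) q9979, e3 q6998 (flp_e L159161) q9980, e3 q6999 (flp_e L159167) q9981, e3 q7000 (flp_e L159173) q9982, e3 q7001 (flp_e L159181) q9983, e3 q7002 (flp_e L144571) q8669, e3 q7003 (flp_e L115840) q4186, e3 q7004 (flp_e L167110) q10983, e3 q7005 (flp_e L159233) q9988, e3 q7006 (flp_e L159241) q9989, e3 q7007 (flp_e L159247) q9990, e3 q7008 (flp_e L159255) q9991, e3 q7009 (flp_e L159261) q9992, e3 q7010 (flp_e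 L159269) q9993, e3 q7011 (flp_e L159277) q9994, e3 q7012 L167182 q10997, e3 q7013 (flp_e L159289) q9996, e3 q7014 (flp_e L159297) q9997, e3 q7015 (flp_e L159303) q9998, e3 q7016 (flp_e L159309) q9999, e3 q7017 (flp_e L159315) q10000, e3 q7018 (flp_e L149733) q8681, e3 q7019 (flp_e L115924) q4194, e3 q7020 (flp_e L167248) q11007, e3 q7021 (flp_e L167046) q10005, e3 q7022 (flp_e L159363) q10006, e3 q7023 (flp_e L159369) q10007, e3 q7024 (flp_e L159377) q10008, e3 q7025 (flp_e L159383) q10009, e3 q7026 (flp_e L159391) q10010, e3 q7027 (flp_e L159399) q10011, e3 q7028 L167320 q11021, e3 q7029 (flp_e L159411) q10013, e3 q7030 (flp_e L159419) q10014, e3 q7031 L115982 q4488, e3 q7032 L115992 q4489, e3 q7033 L115998 q4490, e3 q7034 L116074 q5513, e3 q7035 L116006 q4492, e3 q7036 L116012 q4493, e3 q7037 (flp_e L116055) q4989, e3 q7038 (flp_e L116022) q4203, e3 q7039 L116041 q5257, trivial⟩ (by decide +kernel)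

theorem ce_e_110 : ∀ r, r < 64 → sm ge (Qf (7040 + r)) = Qf (tab Gen.e (7040 + r)) :=
  edges_tab (sm ge) Qf (tab Gen.e) 7040 [(7040, 4990), (7041, 4206), (7042, 11034), (7043, 4502), (7044, 4503), (7045, 4504), (7046, 4505), (7047, 11044), (7048, 4507), (7049, 4510), (7050, 4511), (7051, 11052), (7052, 4513), (7053, 11056), (7054, 4214), (7055, 11058), (7056, 4517), (7057, 4518), (7058, 4519), (7059, 4523), (7060, 4524), (7061, 4525), (7062, 5557), (7063, 4527), (7064, 4528), (7065, 4993), (7066, 4220), (7067, 5265), (7068, 4994), (7069, 4223), (7070, 11072), (7071, 4537), (7072, 4538), (7073, 4539), (7074, 4540), (7075, 11082), (7076, 4542), (7077, 4545), (7078, 4546), (7079, 11090), (7080, 4548), (7081, 11094), (7082, 4231), (7083, 11096), (7084, 4552), (7085, 4553), (7086, 4554), (7087, 10083), (7088, 10084), (7089, 10085), (7090, 9985), (7091, 4237), (7092, 7103), (7093, 11108), (7094, 10087), (7095, 10088), (7096, 10089), (7097, 10090), (7098, 11120), (7099, 4240), (7100, 11122), (7101, 4242), (7102, 11124),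 (7103, 7092)]
    ⟨e3 q7040 L116088 q4990, e3 q7041 L116096 q4206, e3 q7042 (flp_e L167425) q11034, e3 q7043 L116110 q4502, e3 q7044 L116117 q4503, e3 q7045 L116121 q4504, e3 q7046 L116127 q4505, e3 q7047 L167474 q11044, e3 q7048 L116139 q4507, e3 q7049 L116155 q4510, e3 q7050 L116161 q4511, e3 q7051 L167514 q11052, e3 q7052 L116173 q4513, e3 q7053 L167541 q11056, e3 q7054 (flp_e L116179) q4214, e3 q7055 (flp_e L167553) q11058, e3 q7056 L116190 q4517, e3 q7057 L116201 q4518, e3 q7058 L116207 q4519, e3 q7059 L116257 q4523, e3 q7060 L116265 q4524, e3 q7061 L116271 q4525, e3 q7062 L149729 q5557, e3 q7063 L116279 q4527, e3 q7064 L116283 q4528, e3 q7065 L149003 q4993, e3 q7066 (flp_e L116295) q4220, e3 q7067 L148986 q5265, e3 q7068 L148979 q4994, e3 q7069 L116328 q4223, e3 q7070 (flp_e L167665) q11072, e3 q7071 L116342 q4537, e3 q7072 L116349 q4538, e3 q7073 L116353 q4539, e3 q7074 L116359 q4540, e3 q7075 L167720 q11082, e3 q7076 L116371 q4542, e3 q7077 L116389 q4545, e3 q7078 L116395 q4546, e3 q7079 L167760 q11090,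 e3 q7080 L116407 q4548, e3 q7081 L167787 q11094, e3 q7082 (flp_e L116413) q4231, e3 q7083 (flp_e L167799) q11096, e3 q7084 L116424 q4552, e3 q7085 L116435 q4553, e3 q7086 L116441 q4554, e3 q7087 (flp_e L159829) q10083, e3 q7088 (flp_e L159839) q10084, e3 q7089 (flp_e L159853) q10085, e3 q7090 (flp_e L159201) q9985, e3 q7091 L116479 q4237, e3 q7092 (flp_e L116533) q7103, e3 q7093 (flp_e L167890) q11108, e3 q7094 (flp_e L159867) q10087, e3 q7095 (flp_e L159873) q10088, e3 q7096 (flp_e L159877) q10089, e3 q7097 (flp_e L159883) q10090, e3 q7098 L167951 q11120, e3 q7099 (flp_e L116508) q4240, e3 q7100 (flp_e L167967) q11122, e3 q7101 L116518 q4242, e3 q7102 (flp_e L167975) q11124, e3 q7103 L116533 q7092, trivial⟩ (by decide +kernel)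

theorem ce_e_111 : ∀ r, r < 64 → sm ge (Qf (7104 + r)) = Qf (tab Gen.e (7104 + r)) :=
  edges_tab (sm ge) Qf (tab Gen.e) 7104 [(7104, 7164), (7105, 10097), (7106, 10098), (7107, 7160), (7108, 7159), (7109, 11141), (7110, 7165), (7111, 7166), (7112, 10099), (7113, 10100), (7114, 10101), (7115, 7155), (7116, 7156), (7117, 7157), (7118, 11158), (7119, 7148), (7120, 7147), (7121, 11163), (7122, 4252), (7123, 11165), (7124, 7144), (7125, 7150), (7126, 7151), (7127, 10102), (7128, 10103), (7129, 10104), (7130, 10002), (7131, 7143), (7132, 4258), (7133, 11179), (7134, 10106), (7135, 10107), (7136, 10108), (7137, 10109), (7138, 11189), (7139, 4261), (7140, 11191), (7141, 4263), (7142, 11193), (7143, 7131), (7144, 7124), (7145, 10116), (7146, 10117), (7147, 7120), (7148, 7119), (7149, 11210), (7150, 7125), (7151, 7126), (7152, 10118), (7153, 10119), (7154, 10120), (7155, 7115), (7156, 7116), (7157, 7117), (7158, 11227), (7159, 7108), (7160, 7107), (7161, 11232), (7162, 4273), (7163, 11234), (7164, 7104), (7165, 7110), (7166,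 7111), (7167, 4555)]
    ⟨e3 q7104 (flp_e L116852) q7164, e3 q7105 (flp_e L159926) q10097, e3 q7106 (flp_e L159930) q10098, e3 q7107 (flp_e L116837) q7160, e3 q7108 (flp_e L116829) q7159, e3 q7109 L168118 q11141, e3 q7110 (flp_e L116863) q7165, e3 q7111 (flp_e L116871) q7166, e3 q7112 (flp_e L159936) q10099, e3 q7113 (flp_e L159942) q10100, e3 q7114 (flp_e L159948) q10101, e3 q7115 (flp_e L116807) q7155, e3 q7116 (flp_e L116813) q7156, e3 q7117 (flp_e L116817) q7157, e3 q7118 L168208 q11158, e3 q7119 (flp_e L116757) q7148, e3 q7120 (flp_e L116751) q7147, e3 q7121 L168227 q11163, e3 q7122 (flp_e L116619) q4252, e3 q7123 (flp_e L168237) q11165, e3 q7124 (flp_e L116738) q7144, e3 q7125 (flp_e L116769) q7150, e3 q7126 (flp_e L116775) q7151, e3 q7127 (flp_e L159956) q10102, e3 q7128 (flp_e L159968) q10103, e3 q7129 (flp_e L159980) q10104, e3 q7130 (flp_e L159337) q10002, e3 q7131 (flp_e L149746) q7143, e3 q7132 L149705 q4258, e3 q7133 (flp_e L168328) q11179, e3 q7134 (flp_e L159996) q10106, e3 q7135 (flp_e L160002) q10107,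 e3 q7136 (flp_e L160006) q10108, e3 q7137 (flp_e L160012) q10109, e3 q7138 L168375 q11189, e3 q7139 (flp_e L116708) q4261, e3 q7140 (flp_e L168391) q11191, e3 q7141 L116718 q4263, e3 q7142 (flp_e L168399) q11193, e3 q7143 L149746 q7131, e3 q7144 L116738 q7124, e3 q7145 (flp_e L160054) q10116, e3 q7146 (flp_e L160060) q10117, e3 q7147 L116751 q7120, e3 q7148 L116757 q7119, e3 q7149 L168506 q11210, e3 q7150 L116769 q7125, e3 q7151 L116775 q7126, e3 q7152 (flp_e L160066) q10118, e3 q7153 (flp_e L160072) q10119, e3 q7154 (flp_e L160078) q10120, e3 q7155 L116807 q7115, e3 q7156 L116813 q7116, e3 q7157 L116817 q7117, e3 q7158 L168616 q11227, e3 q7159 L116829 q7108, e3 q7160 L116837 q7107, e3 q7161 L168641 q11232, e3 q7162 (flp_e L116841) q4273, e3 q7163 (flp_e L168653) q11234, e3 q7164 L116852 q7104, e3 q7165 L116863 q7110, e3 q7166 L116871 q7111, e3 q7167 L116877 q4555, trivial⟩ (by decide +kernel)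

theorem ce_e_112 : ∀ r, r < 64 → sm ge (Qf (7168 + r)) = Qf (tab Gen.e (7168 + r)) :=
  edges_tab (sm ge) Qf (tab Gen.e) 7168 [(7168, 4556), (7169, 8790), (7170, 4557), (7171, 4279), (7172, 5358), (7173, 11246), (7174, 4560), (7175, 4561), (7176, 4562), (7177, 4563), (7178, 4564), (7179, 4565), (7180, 4566), (7181, 4567), (7182, 4569), (7183, 4570), (7184, 4286), (7185, 10646), (7186, 11261), (7187, 4575), (7188, 4576), (7189, 4577), (7190, 8884), (7191, 4289), (7192, 8284), (7193, 4291), (7194, 11271), (7195, 4583), (7196, 4584), (7197, 4585), (7198, 4586), (7199, 4587), (7200, 4588), (7201, 11286), (7202, 4590), (7203, 8888), (7204, 11293), (7205, 4296), (7206, 4979), (7207, 11296), (7208, 4297), (7209, 11300), (7210, 4299), (7211, 8930), (7212, 8282), (7213, 4301), (7214, 4302), (7215, 11303), (7216, 11304), (7217, 11305), (7218, 4603), (7219, 4607), (7220, 4608), (7221, 4609), (7222, 4610), (7223, 4611), (7224, 4612), (7225, 4613), (7226, 4614), (7227, 4615), (7228, 11332), (7229, 11335), (7230, 4308), (7231,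 11337)]
    ⟨e3 q7168 L116885 q4556, e3 q7169 (flp_e L145318) q8790, e3 q7170 L116911 q4557, e3 q7171 (flp_e L116913) q4279, e3 q7172 L120285 q5358, e3 q7173 (flp_e L168748) q11246, e3 q7174 L116939 q4560, e3 q7175 L116945 q4561, e3 q7176 L116953 q4562, e3 q7177 L116959 q4563, e3 q7178 L116967 q4564, e3 q7179 L116975 q4565, e3 q7180 L116983 q4566, e3 q7181 L116987 q4567, e3 q7182 L116997 q4569, e3 q7183 L117003 q4570, e3 q7184 (flp_e L117005) q4286, e3 q7185 (flp_e L164597) q10646, e3 q7186 (flp_e L168845) q11261, e3 q7187 L117021 q4575, e3 q7188 L117027 q4576, e3 q7189 L117035 q4577, e3 q7190 (flp_e L145929) q8884, e3 q7191 (flp_e L117043) q4289, e3 q7192 (flp_e L129227) q8284, e3 q7193 L117069 q4291, e3 q7194 (flp_e L168913) q11271, e3 q7195 L117079 q4583, e3 q7196 L117083 q4584, e3 q7197 L117089 q4585, e3 q7198 L117095 q4586, e3 q7199 L117103 q4587, e3 q7200 L117109 q4588, e3 q7201 L168993 q11286, e3 q7202 L117121 q4590, e3 q7203 (flp_e L145947) q8888, e3 q7204 L169035 q11293, e3 q7205 (flp_e L117131) q4296,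 e3 q7206 L117145 q4979, e3 q7207 (flp_e L169061) q11296, e3 q7208 (flp_e L117153) q4297, e3 q7209 (flp_e L169105) q11300, e3 q7210 L117177 q4299, e3 q7211 L151700 q8930, e3 q7212 (flp_e L129209) q8282, e3 q7213 L117193 q4301, e3 q7214 L117203 q4302, e3 q7215 (flp_e L169117) q11303, e3 q7216 (flp_e L169127) q11304, e3 q7217 (flp_e L169133) q11305, e3 q7218 L117223 q4603, e3 q7219 L117227 q4607, e3 q7220 L117233 q4608, e3 q7221 L117237 q4609, e3 q7222 L117243 q4610, e3 q7223 L117249 q4611, e3 q7224 L117255 q4612, e3 q7225 L117261 q4613, e3 q7226 L117267 q4614, e3 q7227 L117273 q4615, e3 q7228 L169291 q11332, e3 q7229 L169309 q11335, e3 q7230 (flp_e L117285) q4308, e3 q7231 (flp_e L169323) q11337, trivial⟩ (by decide +kernel)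

theorem ce_e_113 : ∀ r, r < 64 → sm ge (Qf (7232 + r)) = Qf (tab Gen.e (7232 + r)) :=
  edges_tab (sm ge) Qf (tab Gen.e) 7232 [(7232, 4620), (7233, 4621), (7234, 4622), (7235, 4623), (7236, 4624), (7237, 4625), (7238, 11348), (7239, 4627), (7240, 4628), (7241, 4629), (7242, 4630), (7243, 4631), (7244, 4632), (7245, 11360), (7246, 4634), (7247, 4635), (7248, 4636), (7249, 4637), (7250, 4638), (7251, 11371), (7252, 4640), (7253, 4641), (7254, 11378), (7255, 4319), (7256, 11380), (7257, 4645), (7258, 4646), (7259, 11387), (7260, 11390), (7261, 4322), (7262, 11393), (7263, 4324), (7264, 11396), (7265, 4653), (7266, 4654), (7267, 4655), (7268, 4656), (7269, 4657), (7270, 4658), (7271, 8828), (7272, 4659), (7273, 4330), (7274, 11407), (7275, 5368), (7276, 4662), (7277, 4663), (7278, 4664), (7279, 4665), (7280, 4666), (7281, 4667), (7282, 4668), (7283, 4670), (7284, 4671), (7285, 4337), (7286, 11421), (7287, 10731), (7288, 4676), (7289, 4677), (7290, 4678), (7291, 8886), (7292, 4340), (7293, 8293), (7294, 4342), (7295,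 11431)]
    ⟨e3 q7232 L117297 q4620, e3 q7233 L117301 q4621, e3 q7234 L117309 q4622, e3 q7235 L117315 q4623, e3 q7236 L117323 q4624, e3 q7237 L117329 q4625, e3 q7238 L169383 q11348, e3 q7239 L117341 q4627, e3 q7240 L117347 q4628, e3 q7241 L117355 q4629, e3 q7242 L117361 q4630, e3 q7243 L117367 q4631, e3 q7244 L117375 q4632, e3 q7245 L169467 q11360, e3 q7246 L117385 q4634, e3 q7247 L117391 q4635, e3 q7248 L117395 q4636, e3 q7249 L117405 q4637, e3 q7250 L117413 q4638, e3 q7251 L169527 q11371, e3 q7252 L117421 q4640, e3 q7253 L117425 q4641, e3 q7254 L169565 q11378, e3 q7255 (flp_e L117433) q4319, e3 q7256 (flp_e L169587) q11380, e3 q7257 L117449 q4645, e3 q7258 L117453 q4646, e3 q7259 L169617 q11387, e3 q7260 L169631 q11390, e3 q7261 (flp_e L117465) q4322, e3 q7262 (flp_e L169651) q11393, e3 q7263 L117477 q4324, e3 q7264 (flp_e L169669) q11396, e3 q7265 L117489 q4653, e3 q7266 L117493 q4654, e3 q7267 L117499 q4655, e3 q7268 L117505 q4656, e3 q7269 L117513 q4657, e3 q7270 L117519 q4658, e3 q7271 L150888 q8828, e3 q7272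 L117543 q4659, e3 q7273 (flp_e L117551) q4330, e3 q7274 (flp_e L169759) q11407, e3 q7275 L150003 q5368, e3 q7276 L117571 q4662, e3 q7277 L117577 q4663, e3 q7278 L117591 q4664, e3 q7279 L117597 q4665, e3 q7280 L117605 q4666, e3 q7281 L117613 q4667, e3 q7282 L117621 q4668, e3 q7283 L117631 q4670, e3 q7284 L117637 q4671, e3 q7285 (flp_e L117639) q4337, e3 q7286 (flp_e L169850) q11421, e3 q7287 (flp_e L165208) q10731, e3 q7288 L117655 q4676, e3 q7289 L117661 q4677, e3 q7290 L117669 q4678, e3 q7291 (flp_e L148542) q8886, e3 q7292 (flp_e L117677) q4340, e3 q7293 (flp_e L149686) q8293, e3 q7294 L117699 q4342, e3 q7295 (flp_e L169918) q11431, trivial⟩ (by decide +kernel)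

theorem ce_e_114 : ∀ r, r < 64 → sm ge (Qf (7296 + r)) = Qf (tab Gen.e (7296 + r)) :=
  edges_tab (sm ge) Qf (tab Gen.e) 7296 [(7296, 4684), (7297, 4685), (7298, 4686), (7299, 4687), (7300, 4688), (7301, 11445), (7302, 4690), (7303, 8894), (7304, 11452), (7305, 4347), (7306, 11455), (7307, 4984), (7308, 4348), (7309, 11459), (7310, 4350), (7311, 8914), (7312, 8291), (7313, 4352), (7314, 4353), (7315, 11462), (7316, 11463), (7317, 11464), (7318, 4703), (7319, 4707), (7320, 4708), (7321, 4709), (7322, 4710), (7323, 4711), (7324, 4712), (7325, 4713), (7326, 4714), (7327, 4715), (7328, 11491), (7329, 11494), (7330, 4359), (7331, 11496), (7332, 4720), (7333, 4721), (7334, 4722), (7335, 4723), (7336, 4724), (7337, 4725), (7338, 11507), (7339, 4727), (7340, 4728), (7341, 4729), (7342, 4730), (7343, 4731), (7344, 4732), (7345, 11519), (7346, 4734), (7347, 4735), (7348, 4736), (7349, 4737), (7350, 4738), (7351, 11530), (7352, 4740), (7353, 4741), (7354, 11537), (7355, 4370), (7356, 11539), (7357, 4744), (7358, 4745), (7359,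 11546)]
    ⟨e3 q7296 L117709 q4684, e3 q7297 L117713 q4685, e3 q7298 L117719 q4686, e3 q7299 L117725 q4687, e3 q7300 L117735 q4688, e3 q7301 L169998 q11445, e3 q7302 L117743 q4690, e3 q7303 (flp_e L150770) q8894, e3 q7304 L170040 q11452, e3 q7305 (flp_e L117753) q4347, e3 q7306 (flp_e L170066) q11455, e3 q7307 L149717 q4984, e3 q7308 (flp_e L117767) q4348, e3 q7309 (flp_e L170110) q11459, e3 q7310 L117787 q4350, e3 q7311 (flp_e L151592) q8914, e3 q7312 (flp_e L149690) q8291, e3 q7313 L117803 q4352, e3 q7314 L117813 q4353, e3 q7315 (flp_e L170122) q11462, e3 q7316 (flp_e L170132) q11463, e3 q7317 (flp_e L170138) q11464, e3 q7318 L117833 q4703, e3 q7319 L117837 q4707, e3 q7320 L117843 q4708, e3 q7321 L117847 q4709, e3 q7322 L117853 q4710, e3 q7323 L117859 q4711, e3 q7324 L117865 q4712, e3 q7325 L117869 q4713, e3 q7326 L117877 q4714, e3 q7327 L117883 q4715, e3 q7328 L170290 q11491, e3 q7329 L170308 q11494, e3 q7330 (flp_e L117895) q4359, e3 q7331 (flp_e L170322) q11496, e3 q7332 L117907 q4720, e3 q7333 L117911 q4721,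 e3 q7334 L117919 q4722, e3 q7335 L117925 q4723, e3 q7336 L117933 q4724, e3 q7337 L117941 q4725, e3 q7338 L170382 q11507, e3 q7339 L117953 q4727, e3 q7340 L117959 q4728, e3 q7341 L117969 q4729, e3 q7342 L117975 q4730, e3 q7343 L117985 q4731, e3 q7344 L117989 q4732, e3 q7345 L170472 q11519, e3 q7346 L117999 q4734, e3 q7347 L118005 q4735, e3 q7348 L118011 q4736, e3 q7349 L118019 q4737, e3 q7350 L118027 q4738, e3 q7351 L170542 q11530, e3 q7352 L118035 q4740, e3 q7353 L118039 q4741, e3 q7354 L170580 q11537, e3 q7355 (flp_e L118047) q4370, e3 q7356 (flp_e L170602) q11539, e3 q7357 L118063 q4744, e3 q7358 L118067 q4745, e3 q7359 L170632 q11546, trivial⟩ (by decide +kernel)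

theorem ce_e_115 : ∀ r, r < 64 → sm ge (Qf (7360 + r)) = Qf (tab Gen.e (7360 + r)) :=
  edges_tab (sm ge) Qf (tab Gen.e) 7360 [(7360, 11549), (7361, 4373), (7362, 11552), (7363, 4375), (7364, 11555), (7365, 4751), (7366, 4752), (7367, 4753), (7368, 4754), (7369, 8326), (7370, 4378), (7371, 11563), (7372, 4380), (7373, 11564), (7374, 4759), (7375, 4760), (7376, 4761), (7377, 4769), (7378, 4770), (7379, 11575), (7380, 4772), (7381, 11580), (7382, 4774), (7383, 4775), (7384, 11586), (7385, 4386), (7386, 4778), (7387, 11591), (7388, 4780), (7389, 4781), (7390, 11597), (7391, 4388), (7392, 11600), (7393, 11601), (7394, 4786), (7395, 4787), (7396, 11607), (7397, 4392), (7398, 11610), (7399, 11611), (7400, 8329), (7401, 4394), (7402, 11615), (7403, 4396), (7404, 11616), (7405, 4797), (7406, 4798), (7407, 4799), (7408, 4807), (7409, 4808), (7410, 11627), (7411, 4810), (7412, 11632), (7413, 4812), (7414, 4813), (7415, 11638), (7416, 4402), (7417, 4816), (7418, 11643), (7419, 4818), (7420, 4819), (7421, 11649), (7422, 4404),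 (7423, 11652)]
    ⟨e3 q7360 L170646 q11549, e3 q7361 (flp_e L118079) q4373, e3 q7362 (flp_e L170666) q11552, e3 q7363 L118091 q4375, e3 q7364 (flp_e L170684) q11555, e3 q7365 L118103 q4751, e3 q7366 L118107 q4752, e3 q7367 L118113 q4753, e3 q7368 L118119 q4754, e3 q7369 (flp_e L129665) q8326, e3 q7370 (flp_e L118129) q4378, e3 q7371 (flp_e L170750) q11563, e3 q7372 L118149 q4380, e3 q7373 (flp_e L170762) q11564, e3 q7374 L118214 q4759, e3 q7375 L118219 q4760, e3 q7376 L118223 q4761, e3 q7377 L118227 q4769, e3 q7378 L118232 q4770, e3 q7379 L170835 q11575, e3 q7380 L118246 q4772, e3 q7381 L170869 q11580, e3 q7382 L118256 q4774, e3 q7383 L118262 q4775, e3 q7384 L170905 q11586, e3 q7385 (flp_e L118270) q4386, e3 q7386 L118278 q4778, e3 q7387 L170929 q11591, e3 q7388 L118288 q4780, e3 q7389 L118294 q4781, e3 q7390 L170967 q11597, e3 q7391 (flp_e L118300) q4388, e3 q7392 (flp_e L170985) q11600, e3 q7393 (flp_e L170991) q11601, e3 q7394 L118318 q4786, e3 q7395 L118326 q4787, e3 q7396 L171023 q11607, e3 q7397 (flp_e L118334)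 q4392, e3 q7398 (flp_e L171045) q11610, e3 q7399 (flp_e L171053) q11611, e3 q7400 (flp_e L150506) q8329, e3 q7401 (flp_e L118356) q4394, e3 q7402 (flp_e L171089) q11615, e3 q7403 L118374 q4396, e3 q7404 (flp_e L171101) q11616, e3 q7405 L118387 q4797, e3 q7406 L118396 q4798, e3 q7407 L118402 q4799, e3 q7408 L118414 q4807, e3 q7409 L118419 q4808, e3 q7410 L171178 q11627, e3 q7411 L118435 q4810, e3 q7412 L171212 q11632, e3 q7413 L118445 q4812, e3 q7414 L118453 q4813, e3 q7415 L171248 q11638, e3 q7416 (flp_e L118459) q4402, e3 q7417 L118467 q4816, e3 q7418 L171272 q11643, e3 q7419 L118477 q4818, e3 q7420 L118483 q4819, e3 q7421 L171310 q11649, e3 q7422 (flp_e L118489) q4404, e3 q7423 (flp_e L171328) q11652, trivial⟩ (by decide +kernel)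

theorem ce_e_116 : ∀ r, r < 64 → sm ge (Qf (7424 + r)) = Qf (tab Gen.e (7424 + r)) :=
  edges_tab (sm ge) Qf (tab Gen.e) 7424 [(7424, 11653), (7425, 4824), (7426, 4825), (7427, 11659), (7428, 4408), (7429, 11662), (7430, 11663), (7431, 8861), (7432, 8862), (7433, 8863), (7434, 11672), (7435, 8875), (7436, 8876), (7437, 8877), (7438, 11679), (7439, 4416), (7440, 7637), (7441, 7802), (7442, 10385), (7443, 10386), (7444, 10419), (7445, 10420), (7446, 10847), (7447, 11682), (7448, 10849), (7449, 10850), (7450, 11685), (7451, 10852), (7452, 5790), (7453, 4428), (7454, 5792), (7455, 5793), (7456, 5791), (7457, 4431), (7458, 4432), (7459, 11689), (7460, 11690), (7461, 4435), (7462, 4436), (7463, 4437), (7464, 4438), (7465, 4496), (7466, 4499), (7467, 4531), (7468, 4534), (7469, 11693), (7470, 10858), (7471, 10859), (7472, 10860), (7473, 10861), (7474, 11695), (7475, 10863), (7476, 10864), (7477, 10865), (7478, 10866), (7479, 10263), (7480, 11697), (7481, 4447), (7482, 11698), (7483, 10885), (7484, 10886), (7485, 11701),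 (7486, 10888), (7487, 10889)]
    ⟨e3 q7424 (flp_e L171336) q11653, e3 q7425 L118507 q4824, e3 q7426 L118515 q4825, e3 q7427 L171366 q11659, e3 q7428 (flp_e L118523) q4408, e3 q7429 (flp_e L171388) q11662, e3 q7430 (flp_e L171396) q11663, e3 q7431 (flp_e L145748) q8861, e3 q7432 (flp_e L145754) q8862, e3 q7433 (flp_e L145764) q8863, e3 q7434 L171433 q11672, e3 q7435 (flp_e L145868) q8875, e3 q7436 (flp_e L145874) q8876, e3 q7437 (flp_e L145884) q8877, e3 q7438 L171466 q11679, e3 q7439 (flp_e L118687) q4416, e3 q7440 (flp_e L121775) q7637, e3 q7441 (flp_e L149142) q7802, e3 q7442 (flp_e L161830) q10385, e3 q7443 (flp_e L161840) q10386, e3 q7444 (flp_e L162060) q10419, e3 q7445 (flp_e L162070) q10420, e3 q7446 (flp_e L166138) q10847, e3 q7447 L171496 q11682, e3 q7448 (flp_e L166148) q10849, e3 q7449 (flp_e L166154) q10850, e3 q7450 L171512 q11685, e3 q7451 (flp_e L166164) q10852, e3 q7452 (flp_e L118791) q5790, e3 q7453 (flp_e L118800) q4428, e3 q7454 L118822 q5792, e3 q7455 L118832 q5793, e3 q7456 L118838 q5791,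 e3 q7457 L118844 q4431, e3 q7458 L118850 q4432, e3 q7459 (flp_e L171542) q11689, e3 q7460 (flp_e L171554) q11690, e3 q7461 L118872 q4435, e3 q7462 L118878 q4436, e3 q7463 L118884 q4437, e3 q7464 L118891 q4438, e3 q7465 L120623 q4496, e3 q7466 L120627 q4499, e3 q7467 L149177 q4531, e3 q7468 L149154 q4534, e3 q7469 L171574 q11693, e3 q7470 (flp_e L166215) q10858, e3 q7471 (flp_e L166224) q10859, e3 q7472 (flp_e L166236) q10860, e3 q7473 (flp_e L166242) q10861, e3 q7474 L171590 q11695, e3 q7475 (flp_e L166263) q10863, e3 q7476 (flp_e L166272) q10864, e3 q7477 (flp_e L166284) q10865, e3 q7478 (flp_e L166290) q10866, e3 q7479 (flp_e L160978) q10263, e3 q7480 L171606 q11697, e3 q7481 (flp_e L120738) q4447, e3 q7482 (flp_e L171620) q11698, e3 q7483 (flp_e L166408) q10885, e3 q7484 (flp_e L166416) q10886, e3 q7485 L171642 q11701, e3 q7486 (flp_e L166428) q10888, e3 q7487 (flp_e L166434) q10889, trivial⟩ (by decide +kernel)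

theorem ce_e_117 : ∀ r, r < 64 → sm ge (Qf (7488 + r)) = Qf (tab Gen.e (7488 + r)) :=
  edges_tab (sm ge) Qf (tab Gen.e) 7488 [(7488, 10282), (7489, 11703), (7490, 4455), (7491, 11704), (7492, 10892), (7493, 10893), (7494, 11707), (7495, 10895), (7496, 10896), (7497, 9390), (7498, 9391), (7499, 8309), (7500, 8334), (7501, 10942), (7502, 4466), (7503, 11710), (7504, 10945), (7505, 10946), (7506, 4470), (7507, 11713), (7508, 11714), (7509, 10952), (7510, 10953), (7511, 9395), (7512, 9396), (7513, 8315), (7514, 8342), (7515, 10954), (7516, 4478), (7517, 11719), (7518, 10957), (7519, 10958), (7520, 4482), (7521, 11722), (7522, 11723), (7523, 10964), (7524, 10965), (7525, 9527), (7526, 9528), (7527, 9529), (7528, 5318), (7529, 5514), (7530, 11026), (7531, 11027), (7532, 11728), (7533, 4491), (7534, 11729), (7535, 11730), (7536, 11030), (7537, 11031), (7538, 4494), (7539, 10854), (7540, 4497), (7541, 4501), (7542, 11691), (7543, 11734), (7544, 11738), (7545, 11038), (7546, 11039), (7547, 11040), (7548, 11041), (7549,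 11745), (7550, 8387), (7551, 4506)]
    ⟨e3 q7488 (flp_e L161096) q10282, e3 q7489 L171650 q11703, e3 q7490 (flp_e L120796) q4455, e3 q7491 (flp_e L171664) q11704, e3 q7492 (flp_e L166454) q10892, e3 q7493 (flp_e L166462) q10893, e3 q7494 L171686 q11707, e3 q7495 (flp_e L166474) q10895, e3 q7496 (flp_e L166480) q10896, e3 q7497 (flp_e L155058) q9390, e3 q7498 (flp_e L155072) q9391, e3 q7499 L129420 q8309, e3 q7500 (flp_e L129753) q8334, e3 q7501 (flp_e L166804) q10942, e3 q7502 (flp_e L120862) q4466, e3 q7503 (flp_e L171704) q11710, e3 q7504 (flp_e L166826) q10945, e3 q7505 (flp_e L166834) q10946, e3 q7506 L120892 q4470, e3 q7507 (flp_e L171726) q11713, e3 q7508 (flp_e L171737) q11714, e3 q7509 (flp_e L166875) q10952, e3 q7510 (flp_e L166881) q10953, e3 q7511 (flp_e L155112) q9395, e3 q7512 (flp_e L155126) q9396, e3 q7513 L151299 q8315, e3 q7514 L150750 q8342, e3 q7515 (flp_e L166887) q10954, e3 q7516 (flp_e L120981) q4478, e3 q7517 (flp_e L171774) q11719, e3 q7518 (flp_e L166909) q10957, e3 q7519 (flp_e L166917)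 q10958, e3 q7520 L121018 q4482, e3 q7521 (flp_e L171796) q11722, e3 q7522 (flp_e L171807) q11723, e3 q7523 (flp_e L166958) q10964, e3 q7524 (flp_e L166964) q10965, e3 q7525 (flp_e L156066) q9527, e3 q7526 (flp_e L156078) q9528, e3 q7527 (flp_e L156084) q9529, e3 q7528 L121060 q5318, e3 q7529 L121072 q5514, e3 q7530 (flp_e L167354) q11026, e3 q7531 (flp_e L167363) q11027, e3 q7532 L171844 q11728, e3 q7533 (flp_e L121101) q4491, e3 q7534 (flp_e L171864) q11729, e3 q7535 (flp_e L171874) q11730, e3 q7536 (flp_e L167391) q11030, e3 q7537 (flp_e L167399) q11031, e3 q7538 (flp_e L121135) q4494, e3 q7539 (flp_e L166177) q10854, e3 q7540 (flp_e L121153) q4497, e3 q7541 L121163 q4501, e3 q7542 (flp_e L171562) q11691, e3 q7543 (flp_e L171917) q11734, e3 q7544 L171933 q11738, e3 q7545 (flp_e L167444) q11038, e3 q7546 (flp_e L167448) q11039, e3 q7547 (flp_e L167454) q11040, e3 q7548 (flp_e L167462) q11041, e3 q7549 L171978 q11745, e3 q7550 L163227 q8387, e3 q7551 (flp_e L121206) q4506, trivial⟩ (by decide +kernel)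

theorem ce_e_118 : ∀ r, r < 64 → sm ge (Qf (7552 + r)) = Qf (tab Gen.e (7552 + r)) :=
  edges_tab (sm ge) Qf (tab Gen.e) 7552 [(7552, 11747), (7553, 11046), (7554, 9550), (7555, 11047), (7556, 11753), (7557, 11049), (7558, 11050), (7559, 8386), (7560, 4512), (7561, 11757), (7562, 11054), (7563, 8384), (7564, 4516), (7565, 11762), (7566, 11763), (7567, 11061), (7568, 11062), (7569, 11063), (7570, 9540), (7571, 9541), (7572, 9542), (7573, 5338), (7574, 5558), (7575, 11064), (7576, 11065), (7577, 11771), (7578, 4526), (7579, 11772), (7580, 11773), (7581, 11068), (7582, 11069), (7583, 4529), (7584, 10856), (7585, 4532), (7586, 4536), (7587, 11692), (7588, 11777), (7589, 11781), (7590, 11076), (7591, 11077), (7592, 11078), (7593, 11079), (7594, 11788), (7595, 8380), (7596, 4541), (7597, 11790), (7598, 11084), (7599, 9537), (7600, 11085), (7601, 11796), (7602, 11087), (7603, 11088), (7604, 8379), (7605, 4547), (7606, 11800), (7607, 11092), (7608, 8377), (7609, 4551), (7610, 11805), (7611, 11806), (7612, 11099), (7613,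 11100), (7614, 11101), (7615, 11242)]
    ⟨e3 q7552 (flp_e L171992) q11747, e3 q7553 (flp_e L167486) q11046, e3 q7554 (flp_e L156258) q9550, e3 q7555 (flp_e L167490) q11047, e3 q7556 L172023 q11753, e3 q7557 (flp_e L167498) q11049, e3 q7558 (flp_e L167504) q11050, e3 q7559 L163137 q8386, e3 q7560 (flp_e L121250) q4512, e3 q7561 (flp_e L172057) q11757, e3 q7562 (flp_e L167530) q11054, e3 q7563 L163233 q8384, e3 q7564 L121283 q4516, e3 q7565 (flp_e L172087) q11762, e3 q7566 (flp_e L172094) q11763, e3 q7567 (flp_e L167572) q11061, e3 q7568 (flp_e L167576) q11062, e3 q7569 (flp_e L167582) q11063, e3 q7570 (flp_e L156176) q9540, e3 q7571 (flp_e L156188) q9541, e3 q7572 (flp_e L156194) q9542, e3 q7573 L151150 q5338, e3 q7574 (flp_e L151141) q5558, e3 q7575 (flp_e L167592) q11064, e3 q7576 (flp_e L167602) q11065, e3 q7577 L172135 q11771, e3 q7578 (flp_e L121398) q4526, e3 q7579 (flp_e L172153) q11772, e3 q7580 (flp_e L172163) q11773, e3 q7581 (flp_e L167629) q11068, e3 q7582 (flp_e L167639) q11069, e3 q7583 (flp_e L121426)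 q4529, e3 q7584 (flp_e L166193) q10856, e3 q7585 (flp_e L121452) q4532, e3 q7586 L121474 q4536, e3 q7587 (flp_e L171569) q11692, e3 q7588 (flp_e L172208) q11777, e3 q7589 L172226 q11781, e3 q7590 (flp_e L167688) q11076, e3 q7591 (flp_e L167694) q11077, e3 q7592 (flp_e L167700) q11078, e3 q7593 (flp_e L167708) q11079, e3 q7594 L172277 q11788, e3 q7595 L163380 q8380, e3 q7596 (flp_e L121535) q4541, e3 q7597 (flp_e L172291) q11790, e3 q7598 (flp_e L167732) q11084, e3 q7599 (flp_e L156148) q9537, e3 q7600 (flp_e L167736) q11085, e3 q7601 L172328 q11796, e3 q7602 (flp_e L167746) q11087, e3 q7603 (flp_e L167752) q11088, e3 q7604 L163351 q8379, e3 q7605 (flp_e L121581) q4547, e3 q7606 (flp_e L172362) q11800, e3 q7607 (flp_e L167776) q11092, e3 q7608 L163374 q8377, e3 q7609 L121614 q4551, e3 q7610 (flp_e L172392) q11805, e3 q7611 (flp_e L172401) q11806, e3 q7612 (flp_e L167822) q11099, e3 q7613 (flp_e L167828) q11100, e3 q7614 (flp_e L167834) q11101, e3 q7615 (flp_e L168712) q11242, trivial⟩ (by decide +kernel)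

theorem ce_e_119 : ∀ r, r < 64 → sm ge (Qf (7616 + r)) = Qf (tab Gen.e (7616 + r)) :=
  edges_tab (sm ge) Qf (tab Gen.e) 7616 [(7616, 9399), (7617, 11244), (7618, 11245), (7619, 4559), (7620, 11817), (7621, 8858), (7622, 11250), (7623, 11251), (7624, 11252), (7625, 11253), (7626, 11254), (7627, 11255), (7628, 11256), (7629, 11835), (7630, 11258), (7631, 11259), (7632, 6852), (7633, 4568), (7634, 11841), (7635, 11842), (7636, 11260), (7637, 7440), (7638, 6855), (7639, 4571), (7640, 11848), (7641, 11849), (7642, 4573), (7643, 4574), (7644, 11852), (7645, 11853), (7646, 11854), (7647, 11265), (7648, 11266), (7649, 11267), (7650, 4580), (7651, 4582), (7652, 11861), (7653, 11862), (7654, 11275), (7655, 11276), (7656, 11277), (7657, 11871), (7658, 11279), (7659, 11280), (7660, 11281), (7661, 11282), (7662, 11874), (7663, 11284), (7664, 11879), (7665, 4589), (7666, 11880), (7667, 11288), (7668, 4593), (7669, 4592), (7670, 11884), (7671, 11883), (7672, 4595), (7673, 4596), (7674, 9360), (7675, 11887), (7676, 11888), (7677,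 11889), (7678, 4599), (7679, 4600)]
    ⟨e3 q7616 (flp_e L155158) q9399, e3 q7617 (flp_e L168726) q11244, e3 q7618 (flp_e L168736) q11245, e3 q7619 L121678 q4559, e3 q7620 (flp_e L172470) q11817, e3 q7621 (flp_e L145726) q8858, e3 q7622 (flp_e L168776) q11250, e3 q7623 (flp_e L168782) q11251, e3 q7624 (flp_e L168786) q11252, e3 q7625 (flp_e L168792) q11253, e3 q7626 (flp_e L168796) q11254, e3 q7627 (flp_e L168802) q11255, e3 q7628 (flp_e L168810) q11256, e3 q7629 L172577 q11835, e3 q7630 (flp_e L168826) q11258, e3 q7631 (flp_e L168832) q11259, e3 q7632 (flp_e L121747) q6852, e3 q7633 (flp_e L121749) q4568, e3 q7634 (flp_e L172626) q11841, e3 q7635 (flp_e L172634) q11842, e3 q7636 (flp_e L168838) q11260, e3 q7637 L121775 q7440, e3 q7638 (flp_e L121785) q6855, e3 q7639 (flp_e L121787) q4571, e3 q7640 (flp_e L172675) q11848, e3 q7641 (flp_e L172687) q11849, e3 q7642 L121807 q4573, e3 q7643 L121811 q4574, e3 q7644 (flp_e L172707) q11852, e3 q7645 (flp_e L172713) q11853, e3 q7646 (flp_e L172721) q11854, e3 q7647 (flp_e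 L168875) q11265, e3 q7648 (flp_e L168879) q11266, e3 q7649 (flp_e L168885) q11267, e3 q7650 L121853 q4580, e3 q7651 L121863 q4582, e3 q7652 (flp_e L172775) q11861, e3 q7653 (flp_e L172779) q11862, e3 q7654 (flp_e L168929) q11275, e3 q7655 (flp_e L168935) q11276, e3 q7656 (flp_e L168941) q11277, e3 q7657 L172839 q11871, e3 q7658 (flp_e L168955) q11279, e3 q7659 (flp_e L168961) q11280, e3 q7660 (flp_e L168969) q11281, e3 q7661 (flp_e L168975) q11282, e3 q7662 L172863 q11874, e3 q7663 (flp_e L168987) q11284, e3 q7664 L172895 q11879, e3 q7665 (flp_e L121927) q4589, e3 q7666 (flp_e L172901) q11880, e3 q7667 (flp_e L169003) q11288, e3 q7668 L121942 q4593, e3 q7669 L121950 q4592, e3 q7670 (flp_e L172939) q11884, e3 q7671 (flp_e L172933) q11883, e3 q7672 L121967 q4595, e3 q7673 L121978 q4596, e3 q7674 (flp_e L154848) q9360, e3 q7675 (flp_e L172967) q11887, e3 q7676 (flp_e L172974) q11888, e3 q7677 (flp_e L172980) q11889, e3 q7678 L121998 q4599, e3 q7679 L122004 q4600, trivial⟩ (by decide +kernel)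

theorem ce_e_120 : ∀ r, r < 64 → sm ge (Qf (7680 + r)) = Qf (tab Gen.e (7680 + r)) :=
  edges_tab (sm ge) Qf (tab Gen.e) 7680 [(7680, 4601), (7681, 4602), (7682, 11893), (7683, 11894), (7684, 11895), (7685, 11896), (7686, 11897), (7687, 11311), (7688, 11312), (7689, 11313), (7690, 11314), (7691, 10264), (7692, 11910), (7693, 11912), (7694, 4605), (7695, 10274), (7696, 11315), (7697, 11316), (7698, 11317), (7699, 11318), (7700, 11920), (7701, 11320), (7702, 11321), (7703, 11322), (7704, 11323), (7705, 11930), (7706, 11325), (7707, 11326), (7708, 11327), (7709, 11935), (7710, 11329), (7711, 11330), (7712, 11939), (7713, 4616), (7714, 11941), (7715, 11944), (7716, 4617), (7717, 11946), (7718, 4619), (7719, 11948), (7720, 11339), (7721, 11340), (7722, 11341), (7723, 11342), (7724, 6731), (7725, 11344), (7726, 11959), (7727, 11346), (7728, 6729), (7729, 4626), (7730, 11961), (7731, 11350), (7732, 11351), (7733, 11352), (7734, 11354), (7735, 11355), (7736, 11356), (7737, 11969), (7738, 11358), (7739, 11359), (7740, 4633),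 (7741, 11514), (7742, 11363), (7743, 11364)]
    ⟨e3 q7680 L122042 q4601, e3 q7681 L122046 q4602, e3 q7682 (flp_e L173012) q11893, e3 q7683 (flp_e L173016) q11894, e3 q7684 (flp_e L173022) q11895, e3 q7685 (flp_e L173026) q11896, e3 q7686 (flp_e L173030) q11897, e3 q7687 (flp_e L169159) q11311, e3 q7688 (flp_e L169163) q11312, e3 q7689 (flp_e L169169) q11313, e3 q7690 (flp_e L169175) q11314, e3 q7691 (flp_e L160988) q10264, e3 q7692 L173126 q11910, e3 q7693 L173140 q11912, e3 q7694 (flp_e L122096) q4605, e3 q7695 (flp_e L161046) q10274, e3 q7696 (flp_e L169181) q11315, e3 q7697 (flp_e L169187) q11316, e3 q7698 (flp_e L169195) q11317, e3 q7699 (flp_e L169203) q11318, e3 q7700 L173202 q11920, e3 q7701 (flp_e L169217) q11320, e3 q7702 (flp_e L169223) q11321, e3 q7703 (flp_e L169231) q11322, e3 q7704 (flp_e L169237) q11323, e3 q7705 L173294 q11930, e3 q7706 (flp_e L169249) q11325, e3 q7707 (flp_e L169257) q11326, e3 q7708 (flp_e L169261) q11327, e3 q7709 L173327 q11935, e3 q7710 (flp_e L169275) q11329, e3 q7711 (flp_e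 L169279) q11330, e3 q7712 L173349 q11939, e3 q7713 (flp_e L122184) q4616, e3 q7714 L173359 q11941, e3 q7715 L173371 q11944, e3 q7716 (flp_e L122200) q4617, e3 q7717 (flp_e L173387) q11946, e3 q7718 L122212 q4619, e3 q7719 (flp_e L173393) q11948, e3 q7720 (flp_e L169331) q11339, e3 q7721 (flp_e L169335) q11340, e3 q7722 (flp_e L169341) q11341, e3 q7723 (flp_e L169347) q11342, e3 q7724 (flp_e L163489) q6731, e3 q7725 (flp_e L169363) q11344, e3 q7726 L173481 q11959, e3 q7727 (flp_e L169377) q11346, e3 q7728 L163578 q6729, e3 q7729 (flp_e L122256) q4626, e3 q7730 (flp_e L173502) q11961, e3 q7731 (flp_e L169395) q11350, e3 q7732 (flp_e L169405) q11351, e3 q7733 (flp_e L169411) q11352, e3 q7734 (flp_e L169427) q11354, e3 q7735 (flp_e L169437) q11355, e3 q7736 (flp_e L169445) q11356, e3 q7737 L173558 q11969, e3 q7738 (flp_e L169459) q11358, e3 q7739 (flp_e L169465) q11359, e3 q7740 (flp_e L122312) q4633, e3 q7741 (flp_e L170438) q11514, e3 q7742 (flp_e L169487) q11363, e3 q7743 (flp_e L169491) q11364, trivial⟩ (by decide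 +kernel)

theorem ce_e_121 : ∀ r, r < 64 → sm ge (Qf (7744 + r)) = Qf (tab Gen.e (7744 + r)) :=
  edges_tab (sm ge) Qf (tab Gen.e) 7744 [(7744, 11365), (7745, 11366), (7746, 11980), (7747, 11368), (7748, 11369), (7749, 11984), (7750, 4639), (7751, 11986), (7752, 11987), (7753, 11374), (7754, 11375), (7755, 11376), (7756, 11993), (7757, 4642), (7758, 11997), (7759, 4644), (7760, 11382), (7761, 11383), (7762, 12000), (7763, 12003), (7764, 12007), (7765, 4647), (7766, 12011), (7767, 12012), (7768, 4648), (7769, 12016), (7770, 12015), (7771, 4650), (7772, 12019), (7773, 4652), (7774, 12021), (7775, 11398), (7776, 11399), (7777, 11400), (7778, 11401), (7779, 6798), (7780, 11402), (7781, 9394), (7782, 11403), (7783, 11405), (7784, 11406), (7785, 4661), (7786, 12032), (7787, 8872), (7788, 11411), (7789, 11412), (7790, 11413), (7791, 11414), (7792, 11415), (7793, 11416), (7794, 12049), (7795, 11418), (7796, 11419), (7797, 6873), (7798, 4669), (7799, 12054), (7800, 12055), (7801, 11420), (7802, 7441), (7803, 6876), (7804,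 4672), (7805, 12061), (7806, 12062), (7807, 4674)]
    ⟨e3 q7744 (flp_e L169495) q11365, e3 q7745 (flp_e L169503) q11366, e3 q7746 L173637 q11980, e3 q7747 (flp_e L169517) q11368, e3 q7748 (flp_e L169523) q11369, e3 q7749 L173655 q11984, e3 q7750 (flp_e L122358) q4639, e3 q7751 (flp_e L173673) q11986, e3 q7752 (flp_e L173677) q11987, e3 q7753 (flp_e L169543) q11374, e3 q7754 (flp_e L169549) q11375, e3 q7755 (flp_e L169557) q11376, e3 q7756 L173715 q11993, e3 q7757 (flp_e L122388) q4642, e3 q7758 (flp_e L173739) q11997, e3 q7759 L122408 q4644, e3 q7760 (flp_e L169597) q11382, e3 q7761 (flp_e L169603) q11383, e3 q7762 L173767 q12000, e3 q7763 L173775 q12003, e3 q7764 L173797 q12007, e3 q7765 (flp_e L122430) q4647, e3 q7766 (flp_e L173817) q12011, e3 q7767 (flp_e L173823) q12012, e3 q7768 (flp_e L122444) q4648, e3 q7769 (flp_e L173851) q12016, e3 q7770 (flp_e L173843) q12015, e3 q7771 L122464 q4650, e3 q7772 (flp_e L173865) q12019, e3 q7773 L122480 q4652, e3 q7774 (flp_e L173873) q12021, e3 q7775 (flp_e L169679) q11398,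 e3 q7776 (flp_e L169683) q11399, e3 q7777 (flp_e L169689) q11400, e3 q7778 (flp_e L169697) q11401, e3 q7779 L163780 q6798, e3 q7780 (flp_e L169713) q11402, e3 q7781 (flp_e L155104) q9394, e3 q7782 (flp_e L169721) q11403, e3 q7783 (flp_e L169737) q11405, e3 q7784 (flp_e L169747) q11406, e3 q7785 L122570 q4661, e3 q7786 (flp_e L173949) q12032, e3 q7787 L149976 q8872, e3 q7788 (flp_e L169787) q11411, e3 q7789 (flp_e L169791) q11412, e3 q7790 (flp_e L169797) q11413, e3 q7791 (flp_e L169801) q11414, e3 q7792 (flp_e L169805) q11415, e3 q7793 (flp_e L169813) q11416, e3 q7794 L174080 q12049, e3 q7795 (flp_e L169829) q11418, e3 q7796 (flp_e L169837) q11419, e3 q7797 L122651 q6873, e3 q7798 (flp_e L122653) q4669, e3 q7799 (flp_e L174125) q12054, e3 q7800 (flp_e L174135) q12055, e3 q7801 (flp_e L169843) q11420, e3 q7802 L149142 q7441, e3 q7803 (flp_e L122686) q6876, e3 q7804 (flp_e L122688) q4672, e3 q7805 (flp_e L174180) q12061, e3 q7806 (flp_e L174190) q12062, e3 q7807 L122706 q4674, trivial⟩ (by decide +kernel)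

theorem ce_e_122 : ∀ r, r < 64 → sm ge (Qf (7808 + r)) = Qf (tab Gen.e (7808 + r)) :=
  edges_tab (sm ge) Qf (tab Gen.e) 7808 [(7808, 4675), (7809, 12065), (7810, 12066), (7811, 12067), (7812, 11425), (7813, 11426), (7814, 11427), (7815, 4681), (7816, 4683), (7817, 12074), (7818, 12075), (7819, 11435), (7820, 11436), (7821, 11437), (7822, 12082), (7823, 11439), (7824, 11440), (7825, 11441), (7826, 11442), (7827, 12085), (7828, 12088), (7829, 4689), (7830, 12089), (7831, 11447), (7832, 4693), (7833, 4692), (7834, 12093), (7835, 12092), (7836, 4695), (7837, 4696), (7838, 9361), (7839, 12096), (7840, 12097), (7841, 12098), (7842, 4699), (7843, 4700), (7844, 4701), (7845, 4702), (7846, 12102), (7847, 12103), (7848, 12104), (7849, 12105), (7850, 12106), (7851, 11470), (7852, 11471), (7853, 11472), (7854, 11473), (7855, 10281), (7856, 12116), (7857, 12118), (7858, 4705), (7859, 10291), (7860, 11474), (7861, 11475), (7862, 11476), (7863, 11477), (7864, 12126), (7865, 11479), (7866, 11480), (7867, 11481), (7868, 11482),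 (7869, 12135), (7870, 11484), (7871, 11485)]
    ⟨e3 q7808 L122710 q4675, e3 q7809 (flp_e L174214) q12065, e3 q7810 (flp_e L174222) q12066, e3 q7811 (flp_e L174232) q12067, e3 q7812 (flp_e L169880) q11425, e3 q7813 (flp_e L169886) q11426, e3 q7814 (flp_e L169892) q11427, e3 q7815 L122774 q4681, e3 q7816 L122784 q4683, e3 q7817 (flp_e L174292) q12074, e3 q7818 (flp_e L174298) q12075, e3 q7819 (flp_e L169934) q11435, e3 q7820 (flp_e L169940) q11436, e3 q7821 (flp_e L169946) q11437, e3 q7822 L174344 q12082, e3 q7823 (flp_e L169960) q11439, e3 q7824 (flp_e L169966) q11440, e3 q7825 (flp_e L169974) q11441, e3 q7826 (flp_e L169984) q11442, e3 q7827 L174370 q12085, e3 q7828 L174390 q12088, e3 q7829 (flp_e L122846) q4689, e3 q7830 (flp_e L174396) q12089, e3 q7831 (flp_e L170008) q11447, e3 q7832 L122861 q4693, e3 q7833 L122869 q4692, e3 q7834 (flp_e L174436) q12093, e3 q7835 (flp_e L174430) q12092, e3 q7836 L122884 q4695, e3 q7837 L122893 q4696, e3 q7838 (flp_e L154857) q9361, e3 q7839 (flp_e L174466) q12096, e3 q7840 (flp_e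 L174475) q12097, e3 q7841 (flp_e L174485) q12098, e3 q7842 L122911 q4699, e3 q7843 L122917 q4700, e3 q7844 L122923 q4701, e3 q7845 L122927 q4702, e3 q7846 (flp_e L174535) q12102, e3 q7847 (flp_e L174539) q12103, e3 q7848 (flp_e L174545) q12104, e3 q7849 (flp_e L174549) q12105, e3 q7850 (flp_e L174557) q12106, e3 q7851 (flp_e L170164) q11470, e3 q7852 (flp_e L170168) q11471, e3 q7853 (flp_e L170176) q11472, e3 q7854 (flp_e L170182) q11473, e3 q7855 (flp_e L161092) q10281, e3 q7856 L174641 q12116, e3 q7857 L174655 q12118, e3 q7858 (flp_e L122987) q4705, e3 q7859 (flp_e L161154) q10291, e3 q7860 (flp_e L170186) q11474, e3 q7861 (flp_e L170192) q11475, e3 q7862 (flp_e L170200) q11476, e3 q7863 (flp_e L170208) q11477, e3 q7864 L174721 q12126, e3 q7865 (flp_e L170222) q11479, e3 q7866 (flp_e L170228) q11480, e3 q7867 (flp_e L170236) q11481, e3 q7868 (flp_e L170242) q11482, e3 q7869 L174813 q12135, e3 q7870 (flp_e L170252) q11484, e3 q7871 (flp_e L170260) q11485, trivial⟩ (by decide +kernel)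

theorem ce_e_123 : ∀ r, r < 64 → sm ge (Qf (7872 + r)) = Qf (tab Gen.e (7872 + r)) :=
  edges_tab (sm ge) Qf (tab Gen.e) 7872 [(7872, 11486), (7873, 12140), (7874, 11488), (7875, 11489), (7876, 4716), (7877, 12145), (7878, 4717), (7879, 12149), (7880, 4719), (7881, 12151), (7882, 11498), (7883, 11499), (7884, 11500), (7885, 11501), (7886, 6803), (7887, 11503), (7888, 12162), (7889, 11505), (7890, 6801), (7891, 4726), (7892, 12164), (7893, 11509), (7894, 11510), (7895, 11511), (7896, 11513), (7897, 11515), (7898, 12171), (7899, 11517), (7900, 11518), (7901, 4733), (7902, 11522), (7903, 11523), (7904, 11524), (7905, 11525), (7906, 12178), (7907, 11527), (7908, 11528), (7909, 12181), (7910, 4739), (7911, 12183), (7912, 12184), (7913, 11533), (7914, 11534), (7915, 11535), (7916, 4743), (7917, 11541), (7918, 11542), (7919, 12190), (7920, 12192), (7921, 4746), (7922, 12196), (7923, 12197), (7924, 11996), (7925, 4748), (7926, 12202), (7927, 4750), (7928, 12204), (7929, 11557), (7930, 11558), (7931, 11559), (7932, 11560),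 (7933, 6726), (7934, 11561), (7935, 4757)]
    ⟨e3 q7872 (flp_e L170266) q11486, e3 q7873 L174844 q12140, e3 q7874 (flp_e L170274) q11488, e3 q7875 (flp_e L170280) q11489, e3 q7876 (flp_e L123079) q4716, e3 q7877 L174868 q12145, e3 q7878 (flp_e L123087) q4717, e3 q7879 (flp_e L174888) q12149, e3 q7880 L123103 q4719, e3 q7881 (flp_e L174898) q12151, e3 q7882 (flp_e L170330) q11498, e3 q7883 (flp_e L170334) q11499, e3 q7884 (flp_e L170340) q11500, e3 q7885 (flp_e L170346) q11501, e3 q7886 L163852 q6803, e3 q7887 (flp_e L170362) q11503, e3 q7888 L174988 q12162, e3 q7889 (flp_e L170376) q11505, e3 q7890 L163789 q6801, e3 q7891 (flp_e L123149) q4726, e3 q7892 (flp_e L175009) q12164, e3 q7893 (flp_e L170394) q11509, e3 q7894 (flp_e L170404) q11510, e3 q7895 (flp_e L170410) q11511, e3 q7896 (flp_e L170428) q11513, e3 q7897 (flp_e L170446) q11515, e3 q7898 L175065 q12171, e3 q7899 (flp_e L170462) q11517, e3 q7900 (flp_e L170470) q11518, e3 q7901 (flp_e L123207) q4733, e3 q7902 (flp_e L170498) q11522, e3 q7903 (flp_e L170502)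 q11523, e3 q7904 (flp_e L170506) q11524, e3 q7905 (flp_e L170514) q11525, e3 q7906 L175122 q12178, e3 q7907 (flp_e L170528) q11527, e3 q7908 (flp_e L170536) q11528, e3 q7909 L175142 q12181, e3 q7910 (flp_e L123253) q4739, e3 q7911 (flp_e L175160) q12183, e3 q7912 (flp_e L175164) q12184, e3 q7913 (flp_e L170558) q11533, e3 q7914 (flp_e L170564) q11534, e3 q7915 (flp_e L170572) q11535, e3 q7916 L123283 q4743, e3 q7917 (flp_e L170612) q11541, e3 q7918 (flp_e L170618) q11542, e3 q7919 L175212 q12190, e3 q7920 L175216 q12192, e3 q7921 (flp_e L123307) q4746, e3 q7922 (flp_e L175242) q12196, e3 q7923 (flp_e L175248) q12197, e3 q7924 (flp_e L173731) q11996, e3 q7925 L123327 q4748, e3 q7926 (flp_e L175276) q12202, e3 q7927 L123345 q4750, e3 q7928 (flp_e L175286) q12204, e3 q7929 (flp_e L170694) q11557, e3 q7930 (flp_e L170698) q11558, e3 q7931 (flp_e L170704) q11559, e3 q7932 (flp_e L170712) q11560, e3 q7933 L163584 q6726, e3 q7934 (flp_e L170728) q11561, e3 q7935 L123381 q4757, trivial⟩ (by decide +kernel)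

theorem ce_e_124 : ∀ r, r < 64 → sm ge (Qf (7936 + r)) = Qf (tab Gen.e (7936 + r)) :=
  edges_tab (sm ge) Qf (tab Gen.e) 7936 [(7936, 4758), (7937, 8327), (7938, 12213), (7939, 11566), (7940, 9190), (7941, 11567), (7942, 11568), (7943, 10258), (7944, 4763), (7945, 4765), (7946, 4767), (7947, 12217), (7948, 10273), (7949, 11569), (7950, 11570), (7951, 11571), (7952, 12225), (7953, 11573), (7954, 11574), (7955, 4771), (7956, 12226), (7957, 11577), (7958, 11578), (7959, 12228), (7960, 4773), (7961, 12230), (7962, 12231), (7963, 11583), (7964, 11584), (7965, 12232), (7966, 4776), (7967, 12236), (7968, 11588), (7969, 11589), (7970, 12244), (7971, 4779), (7972, 12246), (7973, 12247), (7974, 11594), (7975, 11595), (7976, 12249), (7977, 4782), (7978, 12252), (7979, 4784), (7980, 4785), (7981, 12255), (7982, 12256), (7983, 11604), (7984, 11605), (7985, 4788), (7986, 12265), (7987, 12266), (7988, 8070), (7989, 4790), (7990, 4791), (7991, 12270), (7992, 12271), (7993, 4795), (7994, 4796), (7995, 8330), (7996, 12272), (7997,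 11618), (7998, 9230), (7999, 11619)]
    ⟨e3 q7936 L123387 q4758, e3 q7937 (flp_e L129680) q8327, e3 q7938 (flp_e L175346) q12213, e3 q7939 (flp_e L170777) q11566, e3 q7940 (flp_e L153584) q9190, e3 q7941 (flp_e L170787) q11567, e3 q7942 (flp_e L170797) q11568, e3 q7943 (flp_e L160950) q10258, e3 q7944 (flp_e L123440) q4763, e3 q7945 (flp_e L123444) q4765, e3 q7946 L123456 q4767, e3 q7947 (flp_e L175386) q12217, e3 q7948 (flp_e L161040) q10273, e3 q7949 (flp_e L170805) q11569, e3 q7950 (flp_e L170810) q11570, e3 q7951 (flp_e L170815) q11571, e3 q7952 L175424 q12225, e3 q7953 (flp_e L170825) q11573, e3 q7954 (flp_e L170831) q11574, e3 q7955 (flp_e L123498) q4771, e3 q7956 L175432 q12226, e3 q7957 (flp_e L170855) q11577, e3 q7958 (flp_e L170863) q11578, e3 q7959 L175444 q12228, e3 q7960 (flp_e L123526) q4773, e3 q7961 (flp_e L175501) q12230, e3 q7962 (flp_e L175509) q12231, e3 q7963 (flp_e L170889) q11583, e3 q7964 (flp_e L170899) q11584, e3 q7965 L175513 q12232, e3 q7966 (flp_e L123556) q4776, e3 q7967 L175531 q12236,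 e3 q7968 (flp_e L170917) q11588, e3 q7969 (flp_e L170921) q11589, e3 q7970 L175581 q12244, e3 q7971 (flp_e L123576) q4779, e3 q7972 (flp_e L175599) q12246, e3 q7973 (flp_e L175607) q12247, e3 q7974 (flp_e L170949) q11594, e3 q7975 (flp_e L170955) q11595, e3 q7976 L175619 q12249, e3 q7977 (flp_e L123598) q4782, e3 q7978 (flp_e L175631) q12252, e3 q7979 L123612 q4784, e3 q7980 L123616 q4785, e3 q7981 (flp_e L175647) q12255, e3 q7982 (flp_e L175655) q12256, e3 q7983 (flp_e L171011) q11604, e3 q7984 (flp_e L171015) q11605, e3 q7985 (flp_e L123642) q4788, e3 q7986 (flp_e L175727) q12265, e3 q7987 (flp_e L175733) q12266, e3 q7988 (flp_e L124373) q8070, e3 q7989 L123660 q4790, e3 q7990 L123664 q4791, e3 q7991 (flp_e L175751) q12270, e3 q7992 (flp_e L175761) q12271, e3 q7993 L123678 q4795, e3 q7994 L123684 q4796, e3 q7995 (flp_e L150752) q8330, e3 q7996 (flp_e L175769) q12272, e3 q7997 (flp_e L171116) q11618, e3 q7998 (flp_e L153886) q9230, e3 q7999 (flp_e L171126) q11619, trivial⟩ (by decide +kernel)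

theorem ce_e_125 : ∀ r, r < 64 → sm ge (Qf (8000 + r)) = Qf (tab Gen.e (8000 + r)) :=
  edges_tab (sm ge) Qf (tab Gen.e) 8000 [(8000, 11620), (8001, 10276), (8002, 4801), (8003, 4803), (8004, 4805), (8005, 12276), (8006, 10292), (8007, 11621), (8008, 11622), (8009, 11623), (8010, 12284), (8011, 11625), (8012, 11626), (8013, 4809), (8014, 12285), (8015, 11629), (8016, 11630), (8017, 12287), (8018, 4811), (8019, 12289), (8020, 12290), (8021, 11635), (8022, 11636), (8023, 12291), (8024, 4814), (8025, 12295), (8026, 11640), (8027, 11641), (8028, 12303), (8029, 4817), (8030, 12305), (8031, 12306), (8032, 11646), (8033, 11647), (8034, 12308), (8035, 4820), (8036, 12311), (8037, 4822), (8038, 4823), (8039, 12314), (8040, 12315), (8041, 11656), (8042, 11657), (8043, 4826), (8044, 12324), (8045, 12325), (8046, 8114), (8047, 4828), (8048, 4829), (8049, 12329), (8050, 12330), (8051, 5629), (8052, 6699), (8053, 12334), (8054, 4836), (8055, 12335), (8056, 10587), (8057, 4837), (8058, 4908), (8059, 12339), (8060, 6775), (8061,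 12343), (8062, 6753), (8063, 6776)]
    ⟨e3 q8000 (flp_e L171136) q11620, e3 q8001 (flp_e L161064) q10276, e3 q8002 (flp_e L123850) q4801, e3 q8003 (flp_e L123880) q4803, e3 q8004 L123890 q4805, e3 q8005 (flp_e L175809) q12276, e3 q8006 (flp_e L161160) q10292, e3 q8007 (flp_e L171144) q11621, e3 q8008 (flp_e L171149) q11622, e3 q8009 (flp_e L171154) q11623, e3 q8010 L175855 q12284, e3 q8011 (flp_e L171166) q11625, e3 q8012 (flp_e L171174) q11626, e3 q8013 (flp_e L123936) q4809, e3 q8014 L175863 q12285, e3 q8015 (flp_e L171198) q11629, e3 q8016 (flp_e L171208) q11630, e3 q8017 L175875 q12287, e3 q8018 (flp_e L123989) q4811, e3 q8019 (flp_e L175891) q12289, e3 q8020 (flp_e L175897) q12290, e3 q8021 (flp_e L171232) q11635, e3 q8022 (flp_e L171242) q11636, e3 q8023 L175903 q12291, e3 q8024 (flp_e L124019) q4814, e3 q8025 L175921 q12295, e3 q8026 (flp_e L171260) q11640, e3 q8027 (flp_e L171266) q11641, e3 q8028 L175975 q12303, e3 q8029 (flp_e L124037) q4817, e3 q8030 (flp_e L175993) q12305, e3 q8031 (flp_e L175999) q12306,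 e3 q8032 (flp_e L171292) q11646, e3 q8033 (flp_e L171302) q11647, e3 q8034 L176013 q12308, e3 q8035 (flp_e L124067) q4820, e3 q8036 (flp_e L176025) q12311, e3 q8037 L124081 q4822, e3 q8038 L124087 q4823, e3 q8039 (flp_e L176041) q12314, e3 q8040 (flp_e L176049) q12315, e3 q8041 (flp_e L171354) q11656, e3 q8042 (flp_e L171360) q11657, e3 q8043 (flp_e L124111) q4826, e3 q8044 (flp_e L176119) q12324, e3 q8045 (flp_e L176125) q12325, e3 q8046 (flp_e L124766) q8114, e3 q8047 L124129 q4828, e3 q8048 L124133 q4829, e3 q8049 (flp_e L176143) q12329, e3 q8050 (flp_e L176153) q12330, e3 q8051 L142796 q5629, e3 q8052 (flp_e L142806) q6699, e3 q8053 L176189 q12334, e3 q8054 (flp_e L124219) q4836, e3 q8055 (flp_e L176205) q12335, e3 q8056 (flp_e L164125) q10587, e3 q8057 (flp_e L124229) q4837, e3 q8058 L141102 q4908, e3 q8059 L176250 q12339, e3 q8060 (flp_e L142772) q6775, e3 q8061 L176290 q12343, e3 q8062 (flp_e L142710) q6753, e3 q8063 (flp_e L142768) q6776, trivial⟩ (by decide +kernel)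

theorem ce_e_126 : ∀ r, r < 64 → sm ge (Qf (8064 + r)) = Qf (tab Gen.e (8064 + r)) :=
  edges_tab (sm ge) Qf (tab Gen.e) 8064 [(8064, 4841), (8065, 10798), (8066, 4905), (8067, 4843), (8068, 6030), (8069, 12348), (8070, 7988), (8071, 4845), (8072, 4846), (8073, 12352), (8074, 9755), (8075, 6457), (8076, 4848), (8077, 12355), (8078, 12358), (8079, 4849), (8080, 12362), (8081, 12363), (8082, 12361), (8083, 8124), (8084, 12366), (8085, 4853), (8086, 12369), (8087, 12370), (8088, 4857), (8089, 4855), (8090, 4856), (8091, 12374), (8092, 12372), (8093, 12373), (8094, 4877), (8095, 5662), (8096, 6655), (8097, 12380), (8098, 4865), (8099, 10636), (8100, 12381), (8101, 4866), (8102, 4927), (8103, 12385), (8104, 6849), (8105, 12389), (8106, 6850), (8107, 6827), (8108, 4870), (8109, 10717), (8110, 4924), (8111, 4872), (8112, 12394), (8113, 6014), (8114, 8046), (8115, 4874), (8116, 4875), (8117, 9735), (8118, 12398), (8119, 6426), (8120, 12376), (8121, 12403), (8122, 4878), (8123, 12404), (8124, 8083), (8125, 12407), (8126,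 4880), (8127, 12409)]
    ⟨e3 q8064 (flp_e L124313) q4841, e3 q8065 (flp_e L165736) q10798, e3 q8066 L141048 q4905, e3 q8067 (flp_e L124353) q4843, e3 q8068 L150508 q6030, e3 q8069 (flp_e L176332) q12348, e3 q8070 L124373 q7988, e3 q8071 L124377 q4845, e3 q8072 L124381 q4846, e3 q8073 (flp_e L176374) q12352, e3 q8074 (flp_e L157715) q9755, e3 q8075 L163322 q6457, e3 q8076 (flp_e L124409) q4848, e3 q8077 (flp_e L176404) q12355, e3 q8078 L176428 q12358, e3 q8079 (flp_e L124421) q4849, e3 q8080 (flp_e L176466) q12362, e3 q8081 (flp_e L176474) q12363, e3 q8082 (flp_e L176456) q12361, e3 q8083 (flp_e L149041) q8124, e3 q8084 L176492 q12366, e3 q8085 (flp_e L124465) q4853, e3 q8086 (flp_e L176516) q12369, e3 q8087 (flp_e L176524) q12370, e3 q8088 L124483 q4857, e3 q8089 L124487 q4855, e3 q8090 L124491 q4856, e3 q8091 (flp_e L176554) q12374, e3 q8092 (flp_e L176536) q12372, e3 q8093 (flp_e L176544) q12373, e3 q8094 L147418 q4877, e3 q8095 (flp_e L142696) q5662, e3 q8096 (flp_e L142782) q6655, e3 q8097 L176610 q12380, e3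 q8098 (flp_e L124620) q4865, e3 q8099 (flp_e L164528) q10636, e3 q8100 (flp_e L176626) q12381, e3 q8101 (flp_e L124630) q4866, e3 q8102 L142036 q4927, e3 q8103 L176671 q12385, e3 q8104 L142716 q6849, e3 q8105 L176711 q12389, e3 q8106 L142718 q6850, e3 q8107 L142720 q6827, e3 q8108 (flp_e L124696) q4870, e3 q8109 (flp_e L165104) q10717, e3 q8110 L142003 q4924, e3 q8111 (flp_e L124746) q4872, e3 q8112 (flp_e L176753) q12394, e3 q8113 (flp_e L150797) q6014, e3 q8114 L124766 q8046, e3 q8115 L124770 q4874, e3 q8116 L124776 q4875, e3 q8117 (flp_e L157583) q9735, e3 q8118 (flp_e L176797) q12398, e3 q8119 L163168 q6426, e3 q8120 (flp_e L176574) q12376, e3 q8121 L176841 q12403, e3 q8122 (flp_e L124814) q4878, e3 q8123 (flp_e L176853) q12404, e3 q8124 L149041 q8083, e3 q8125 L176877 q12407, e3 q8126 (flp_e L124858) q4880, e3 q8127 (flp_e L176893) q12409, trivial⟩ (by decide +kernel)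

theorem ce_e_127 : ∀ r, r < 64 → sm ge (Qf (8128 + r)) = Qf (tab Gen.e (8128 + r)) :=
  edges_tab (sm ge) Qf (tab Gen.e) 8128 [(8128, 12410), (8129, 4884), (8130, 4882), (8131, 4883), (8132, 12412), (8133, 4892), (8134, 4893), (8135, 4896), (8136, 4897), (8137, 4899), (8138, 4900), (8139, 12421), (8140, 4902), (8141, 4903), (8142, 4891), (8143, 12424), (8144, 12413), (8145, 4914), (8146, 4916), (8147, 4917), (8148, 8180), (8149, 8181), (8150, 4918), (8151, 12414), (8152, 12415), (8153, 12443), (8154, 4913), (8155, 12417), (8156, 12418), (8157, 12419), (8158, 12420), (8159, 12452), (8160, 12453), (8161, 4901), (8162, 12454), (8163, 12336), (8164, 12422), (8165, 12423), (8166, 5203), (8167, 9912), (8168, 6147), (8169, 9907), (8170, 4907), (8171, 12464), (8172, 12338), (8173, 4919), (8174, 12466), (8175, 4921), (8176, 4922), (8177, 4912), (8178, 12469), (8179, 12427), (8180, 8148), (8181, 8149), (8182, 12428), (8183, 12429), (8184, 12479), (8185, 12433), (8186, 12434), (8187, 12435), (8188, 12465), (8189, 12488),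 (8190, 12489), (8191, 4920)]
    ⟨e3 q8128 (flp_e L176901) q12410, e3 q8129 L124876 q4884, e3 q8130 L124880 q4882, e3 q8131 L124884 q4883, e3 q8132 (flp_e L176917) q12412, e3 q8133 L142406 q4892, e3 q8134 L142404 q4893, e3 q8135 L134486 q4896, e3 q8136 L134533 q4897, e3 q8137 L134536 q4899, e3 q8138 L134519 q4900, e3 q8139 L176999 q12421, e3 q8140 L134547 q4902, e3 q8141 L134478 q4903, e3 q8142 (flp_e L125560) q4891, e3 q8143 L177023 q12424, e3 q8144 (flp_e L176927) q12413, e3 q8145 L148813 q4914, e3 q8146 L147057 q4916, e3 q8147 L147051 q4917, e3 q8148 L148844 q8180, e3 q8149 L148846 q8181, e3 q8150 L148752 q4918, e3 q8151 (flp_e L176937) q12414, e3 q8152 (flp_e L176943) q12415, e3 q8153 L177162 q12443, e3 q8154 L147222 q4913, e3 q8155 (flp_e L176961) q12417, e3 q8156 (flp_e L176971) q12418, e3 q8157 (flp_e L176987) q12419, e3 q8158 (flp_e L176995) q12420, e3 q8159 L177216 q12452, e3 q8160 L177222 q12453, e3 q8161 (flp_e L125844) q4901, e3 q8162 (flp_e L177234) q12454, e3 q8163 (flp_e L176215) q12336, e3 q8164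 (flp_e L177011) q12422, e3 q8165 (flp_e L177019) q12423, e3 q8166 L142748 q5203, e3 q8167 (flp_e L158646) q9912, e3 q8168 L150986 q6147, e3 q8169 (flp_e L158611) q9907, e3 q8170 L125924 q4907, e3 q8171 (flp_e L177326) q12464, e3 q8172 (flp_e L176245) q12338, e3 q8173 L136706 q4919, e3 q8174 L177336 q12466, e3 q8175 L136722 q4921, e3 q8176 L136818 q4922, e3 q8177 (flp_e L126372) q4912, e3 q8178 L177362 q12469, e3 q8179 (flp_e L177047) q12427, e3 q8180 (flp_e L148844) q8148, e3 q8181 (flp_e L148846) q8149, e3 q8182 (flp_e L177061) q12428, e3 q8183 (flp_e L177067) q12429, e3 q8184 L177437 q12479, e3 q8185 (flp_e L177096) q12433, e3 q8186 (flp_e L177108) q12434, e3 q8187 (flp_e L177120) q12435, e3 q8188 (flp_e L177332) q12465, e3 q8189 L177491 q12488, e3 q8190 L177497 q12489, e3 q8191 (flp_e L126656) q4920, trivial⟩ (by decide +kernel)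

theorem ce_e_128 : ∀ r, r < 64 → sm ge (Qf (8192 + r)) = Qf (tab Gen.e (8192 + r)) :=
  edges_tab (sm ge) Qf (tab Gen.e) 8192 [(8192, 12490), (8193, 12382), (8194, 12467), (8195, 12468), (8196, 5211), (8197, 9929), (8198, 9924), (8199, 6159), (8200, 4926), (8201, 12498), (8202, 12384), (8203, 4938), (8204, 4939), (8205, 9358), (8206, 9359), (8207, 12499), (8208, 12500), (8209, 12501), (8210, 12502), (8211, 5214), (8212, 4971), (8213, 4972), (8214, 5217), (8215, 5218), (8216, 4973), (8217, 4974), (8218, 5223), (8219, 5224), (8220, 4975), (8221, 4976), (8222, 4977), (8223, 4978), (8224, 5231), (8225, 5232), (8226, 5233), (8227, 5234), (8228, 5235), (8229, 5236), (8230, 5237), (8231, 5238), (8232, 5239), (8233, 5240), (8234, 4980), (8235, 4981), (8236, 4982), (8237, 4983), (8238, 4985), (8239, 4986), (8240, 4987), (8241, 4988), (8242, 5258), (8243, 5259), (8244, 5261), (8245, 5266), (8246, 5267), (8247, 5269), (8248, 4991), (8249, 4992), (8250, 4995), (8251, 4996), (8252, 12507), (8253, 12508), (8254, 12515), (8255,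 12516)]
    ⟨e3 q8192 (flp_e L177509) q12490, e3 q8193 (flp_e L176636) q12382, e3 q8194 (flp_e L177348) q12467, e3 q8195 (flp_e L177356) q12468, e3 q8196 L142766 q5211, e3 q8197 (flp_e L158773) q9929, e3 q8198 (flp_e L158738) q9924, e3 q8199 L151000 q6159, e3 q8200 L126722 q4926, e3 q8201 (flp_e L177589) q12498, e3 q8202 (flp_e L176666) q12384, e3 q8203 L128559 q4938, e3 q8204 L128564 q4939, e3 q8205 (flp_e L154830) q9358, e3 q8206 (flp_e L154840) q9359, e3 q8207 (flp_e L177593) q12499, e3 q8208 (flp_e L177602) q12500, e3 q8209 (flp_e L177608) q12501, e3 q8210 (flp_e L177617) q12502, e3 q8211 L128665 q5214, e3 q8212 L128675 q4971, e3 q8213 L128683 q4972, e3 q8214 L128701 q5217, e3 q8215 L128709 q5218, e3 q8216 L128713 q4973, e3 q8217 L128727 q4974, e3 q8218 L128735 q5223, e3 q8219 L128741 q5224, e3 q8220 L128745 q4975, e3 q8221 L128749 q4976, e3 q8222 L128753 q4977, e3 q8223 L128761 q4978, e3 q8224 L128767 q5231, e3 q8225 L128775 q5232, e3 q8226 L128783 q5233, e3 q8227 L128793 q5234, e3 q8228 L128803 q5235, e3 q8229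 L128809 q5236, e3 q8230 L128815 q5237, e3 q8231 L128825 q5238, e3 q8232 L128835 q5239, e3 q8233 L128841 q5240, e3 q8234 L128845 q4980, e3 q8235 L128851 q4981, e3 q8236 L128855 q4982, e3 q8237 L128859 q4983, e3 q8238 L128869 q4985, e3 q8239 L128875 q4986, e3 q8240 L128879 q4987, e3 q8241 L128883 q4988, e3 q8242 L128895 q5258, e3 q8243 L128907 q5259, e3 q8244 L128915 q5261, e3 q8245 L128935 q5266, e3 q8246 L128947 q5267, e3 q8247 L128955 q5269, e3 q8248 L128961 q4991, e3 q8249 L128965 q4992, e3 q8250 L128988 q4995, e3 q8251 L128992 q4996, e3 q8252 (flp_e L177665) q12507, e3 q8253 (flp_e L177669) q12508, e3 q8254 (flp_e L177709) q12515, e3 q8255 (flp_e L177717) q12516, trivial⟩ (by decide +kernel)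

theorem ce_e_129 : ∀ r, r < 64 → sm ge (Qf (8256 + r)) = Qf (tab Gen.e (8256 + r)) :=
  edges_tab (sm ge) Qf (tab Gen.e) 8256 [(8256, 12517), (8257, 12518), (8258, 12519), (8259, 12520), (8260, 11290), (8261, 11297), (8262, 12531), (8263, 12532), (8264, 12533), (8265, 12534), (8266, 12535), (8267, 12536), (8268, 12574), (8269, 12538), (8270, 12539), (8271, 11450), (8272, 11458), (8273, 12540), (8274, 12541), (8275, 12542), (8276, 12543), (8277, 12544), (8278, 12545), (8279, 12580), (8280, 12547), (8281, 12548), (8282, 7212), (8283, 11033), (8284, 7192), (8285, 12555), (8286, 12556), (8287, 12557), (8288, 12558), (8289, 12559), (8290, 12560), (8291, 7312), (8292, 11071), (8293, 7293), (8294, 12561), (8295, 12562), (8296, 12563), (8297, 12564), (8298, 12565), (8299, 12566), (8300, 5009), (8301, 5010), (8302, 5011), (8303, 5012), (8304, 5013), (8305, 5014), (8306, 5015), (8307, 5016), (8308, 5017), (8309, 7499), (8310, 5019), (8311, 5020), (8312, 5021), (8313, 5022), (8314, 5023), (8315, 7513), (8316, 5025), (8317,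 5026), (8318, 5005), (8319, 5006)]
    ⟨e3 q8256 (flp_e L177727) q12517, e3 q8257 (flp_e L177735) q12518, e3 q8258 (flp_e L177743) q12519, e3 q8259 (flp_e L177753) q12520, e3 q8260 (flp_e L169019) q11290, e3 q8261 (flp_e L169071) q11297, e3 q8262 (flp_e L177833) q12531, e3 q8263 (flp_e L177839) q12532, e3 q8264 (flp_e L177850) q12533, e3 q8265 (flp_e L177854) q12534, e3 q8266 (flp_e L177862) q12535, e3 q8267 (flp_e L177868) q12536, e3 q8268 L178161 q12574, e3 q8269 (flp_e L177886) q12538, e3 q8270 (flp_e L177892) q12539, e3 q8271 (flp_e L170030) q11450, e3 q8272 (flp_e L170098) q11458, e3 q8273 (flp_e L177898) q12540, e3 q8274 (flp_e L177904) q12541, e3 q8275 (flp_e L177915) q12542, e3 q8276 (flp_e L177919) q12543, e3 q8277 (flp_e L177927) q12544, e3 q8278 (flp_e L177933) q12545, e3 q8279 L178219 q12580, e3 q8280 (flp_e L177951) q12547, e3 q8281 (flp_e L177957) q12548, e3 q8282 L129209 q7212, e3 q8283 (flp_e L167417) q11033, e3 q8284 L129227 q7192, e3 q8285 (flp_e L178015) q12555, e3 q8286 (flp_e L178019) q12556,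 e3 q8287 (flp_e L178028) q12557, e3 q8288 (flp_e L178036) q12558, e3 q8289 (flp_e L178042) q12559, e3 q8290 (flp_e L178049) q12560, e3 q8291 L149690 q7312, e3 q8292 (flp_e L167657) q11071, e3 q8293 L149686 q7293, e3 q8294 (flp_e L178055) q12561, e3 q8295 (flp_e L178059) q12562, e3 q8296 (flp_e L178068) q12563, e3 q8297 (flp_e L178076) q12564, e3 q8298 (flp_e L178082) q12565, e3 q8299 (flp_e L178089) q12566, e3 q8300 L129340 q5009, e3 q8301 L129352 q5010, e3 q8302 L129363 q5011, e3 q8303 L129369 q5012, e3 q8304 L129375 q5013, e3 q8305 L129384 q5014, e3 q8306 L129390 q5015, e3 q8307 L129396 q5016, e3 q8308 L129408 q5017, e3 q8309 (flp_e L129420) q7499, e3 q8310 L129426 q5019, e3 q8311 L129434 q5020, e3 q8312 L129440 q5021, e3 q8313 L129446 q5022, e3 q8314 L129452 q5023, e3 q8315 (flp_e L151299) q7513, e3 q8316 L129464 q5025, e3 q8317 L129472 q5026, e3 q8318 (flp_e L129476) q5005, e3 q8319 (flp_e L129488) q5006, trivial⟩ (by decide +kernel)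

theorem ce_e_130 : ∀ r, r < 64 → sm ge (Qf (8320 + r)) = Qf (tab Gen.e (8320 + r)) :=
  edges_tab (sm ge) Qf (tab Gen.e) 8320 [(8320, 5043), (8321, 5044), (8322, 5045), (8323, 5047), (8324, 5048), (8325, 5049), (8326, 7369), (8327, 7937), (8328, 12593), (8329, 7400), (8330, 7995), (8331, 12594), (8332, 12595), (8333, 6966), (8334, 7500), (8335, 12596), (8336, 5018), (8337, 12215), (8338, 11562), (8339, 12323), (8340, 12597), (8341, 6977), (8342, 7514), (8343, 12598), (8344, 5024), (8345, 12274), (8346, 11614), (8347, 12264), (8348, 5079), (8349, 5080), (8350, 6707), (8351, 10468), (8352, 10469), (8353, 6598), (8354, 6783), (8355, 10518), (8356, 10519), (8357, 6559), (8358, 5102), (8359, 5103), (8360, 8788), (8361, 5104), (8362, 5105), (8363, 5106), (8364, 5107), (8365, 5108), (8366, 5109), (8367, 5110), (8368, 8825), (8369, 5111), (8370, 5112), (8371, 5113), (8372, 5114), (8373, 5115), (8374, 6716), (8375, 12599), (8376, 12600), (8377, 7608), (8378, 10647), (8379, 7604), (8380, 7595), (8381, 6792), (8382, 12601),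 (8383, 12602)]
    ⟨e3 q8320 L129506 q5043, e3 q8321 L129518 q5044, e3 q8322 L129527 q5045, e3 q8323 L129533 q5047, e3 q8324 L129650 q5048, e3 q8325 L129659 q5049, e3 q8326 L129665 q7369, e3 q8327 L129680 q7937, e3 q8328 (flp_e L178379) q12593, e3 q8329 L150506 q7400, e3 q8330 L150752 q7995, e3 q8331 (flp_e L178389) q12594, e3 q8332 (flp_e L178395) q12595, e3 q8333 L129739 q6966, e3 q8334 L129753 q7500, e3 q8335 (flp_e L178409) q12596, e3 q8336 (flp_e L129767) q5018, e3 q8337 (flp_e L175366) q12215, e3 q8338 (flp_e L170738) q11562, e3 q8339 (flp_e L176113) q12323, e3 q8340 (flp_e L178417) q12597, e3 q8341 L151337 q6977, e3 q8342 (flp_e L150750) q7514, e3 q8343 (flp_e L178431) q12598, e3 q8344 (flp_e L129826) q5024, e3 q8345 (flp_e L175789) q12274, e3 q8346 (flp_e L171077) q11614, e3 q8347 (flp_e L175721) q12264, e3 q8348 L129848 q5079, e3 q8349 L129866 q5080, e3 q8350 L129894 q6707, e3 q8351 (flp_e L162368) q10468, e3 q8352 (flp_e L162376) q10469, e3 q8353 (flp_e L148568) q6598, e3 q8354 (flp_e L148566) q6783, e3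 q8355 (flp_e L162686) q10518, e3 q8356 (flp_e L162694) q10519, e3 q8357 L129940 q6559, e3 q8358 L129946 q5102, e3 q8359 L129956 q5103, e3 q8360 L145298 q8788, e3 q8361 L129972 q5104, e3 q8362 L129976 q5105, e3 q8363 L129982 q5106, e3 q8364 L129986 q5107, e3 q8365 L129992 q5108, e3 q8366 L129998 q5109, e3 q8367 L130004 q5110, e3 q8368 (flp_e L150984) q8825, e3 q8369 L130018 q5111, e3 q8370 L130022 q5112, e3 q8371 L130028 q5113, e3 q8372 L130032 q5114, e3 q8373 L130040 q5115, e3 q8374 L130048 q6716, e3 q8375 (flp_e L178443) q12599, e3 q8376 (flp_e L178457) q12600, e3 q8377 (flp_e L163374) q7608, e3 q8378 (flp_e L164611) q10647, e3 q8379 (flp_e L163351) q7604, e3 q8380 (flp_e L163380) q7595, e3 q8381 L130109 q6792, e3 q8382 (flp_e L178469) q12601, e3 q8383 (flp_e L178483) q12602, trivial⟩ (by decide +kernel)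

theorem ce_e_131 : ∀ r, r < 64 → sm ge (Qf (8384 + r)) = Qf (tab Gen.e (8384 + r)) :=
  edges_tab (sm ge) Qf (tab Gen.e) 8384 [(8384, 7563), (8385, 10732), (8386, 7559), (8387, 7550), (8388, 5138), (8389, 5139), (8390, 12664), (8391, 5141), (8392, 5142), (8393, 5054), (8394, 12669), (8395, 5145), (8396, 5146), (8397, 5147), (8398, 5148), (8399, 5149), (8400, 5150), (8401, 5151), (8402, 5152), (8403, 5153), (8404, 12686), (8405, 5155), (8406, 5156), (8407, 5157), (8408, 5158), (8409, 12693), (8410, 5160), (8411, 5161), (8412, 5064), (8413, 12698), (8414, 5164), (8415, 5165), (8416, 5166), (8417, 5167), (8418, 5168), (8419, 5169), (8420, 5170), (8421, 5171), (8422, 5172), (8423, 12715), (8424, 5174), (8425, 5175), (8426, 5072), (8427, 12719), (8428, 5184), (8429, 5185), (8430, 5074), (8431, 5076), (8432, 12726), (8433, 5195), (8434, 5196), (8435, 5078), (8436, 5751), (8437, 5083), (8438, 5084), (8439, 9415), (8440, 9416), (8441, 5088), (8442, 5090), (8443, 5096), (8444, 5100), (8445, 6706), (8446, 10595), (8447,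 10594)]
    ⟨e3 q8384 (flp_e L163233) q7563, e3 q8385 (flp_e L165222) q10732, e3 q8386 (flp_e L163137) q7559, e3 q8387 (flp_e L163227) q7550, e3 q8388 L130168 q5138, e3 q8389 L130174 q5139, e3 q8390 L178985 q12664, e3 q8391 L130186 q5141, e3 q8392 L130192 q5142, e3 q8393 (flp_e L130194) q5054, e3 q8394 (flp_e L179025) q12669, e3 q8395 L130206 q5145, e3 q8396 L130216 q5146, e3 q8397 L130222 q5147, e3 q8398 L130228 q5148, e3 q8399 L130234 q5149, e3 q8400 L130238 q5150, e3 q8401 L130242 q5151, e3 q8402 L130248 q5152, e3 q8403 L130254 q5153, e3 q8404 L179131 q12686, e3 q8405 L130266 q5155, e3 q8406 L130274 q5156, e3 q8407 L130286 q5157, e3 q8408 L130294 q5158, e3 q8409 L179181 q12693, e3 q8410 L130306 q5160, e3 q8411 L130312 q5161, e3 q8412 (flp_e L130314) q5064, e3 q8413 (flp_e L179221) q12698, e3 q8414 L130326 q5164, e3 q8415 L130336 q5165, e3 q8416 L130342 q5166, e3 q8417 L130348 q5167, e3 q8418 L130354 q5168, e3 q8419 L130358 q5169, e3 q8420 L130362 q5170, e3 q8421 L130368 q5171, e3 q8422 L130376 q5172, e3 q8423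 L179329 q12715, e3 q8424 L130388 q5174, e3 q8425 L130396 q5175, e3 q8426 L130406 q5072, e3 q8427 (flp_e L179367) q12719, e3 q8428 L130414 q5184, e3 q8429 L130420 q5185, e3 q8430 (flp_e L130424) q5074, e3 q8431 L130438 q5076, e3 q8432 (flp_e L179417) q12726, e3 q8433 L130450 q5195, e3 q8434 L130456 q5196, e3 q8435 (flp_e L130460) q5078, e3 q8436 L130541 q5751, e3 q8437 L130604 q5083, e3 q8438 L130612 q5084, e3 q8439 (flp_e L155276) q9415, e3 q8440 (flp_e L155288) q9416, e3 q8441 L130630 q5088, e3 q8442 L130650 q5090, e3 q8443 L142823 q5096, e3 q8444 L142849 q5100, e3 q8445 L142859 q6706, e3 q8446 (flp_e L164190) q10595, e3 q8447 (flp_e L164182) q10594, trivial⟩ (by decide +kernel)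

theorem ce_e_132 : ∀ r, r < 64 → sm ge (Qf (8448 + r)) = Qf (tab Gen.e (8448 + r)) :=
  edges_tab (sm ge) Qf (tab Gen.e) 8448 [(8448, 6782), (8449, 10540), (8450, 10539), (8451, 10449), (8452, 12621), (8453, 12624), (8454, 12625), (8455, 12626), (8456, 12627), (8457, 12628), (8458, 12629), (8459, 10435), (8460, 12630), (8461, 12631), (8462, 10499), (8463, 12632), (8464, 12635), (8465, 12636), (8466, 12637), (8467, 12638), (8468, 12639), (8469, 12640), (8470, 10401), (8471, 12641), (8472, 12642), (8473, 5124), (8474, 5126), (8475, 5130), (8476, 5131), (8477, 5133), (8478, 5137), (8479, 9335), (8480, 10369), (8481, 10367), (8482, 10648), (8483, 6697), (8484, 10077), (8485, 10361), (8486, 12349), (8487, 9288), (8488, 10334), (8489, 10332), (8490, 10733), (8491, 6653), (8492, 10043), (8493, 10324), (8494, 12395), (8495, 12661), (8496, 12663), (8497, 5140), (8498, 12760), (8499, 12666), (8500, 12667), (8501, 12668), (8502, 5144), (8503, 12763), (8504, 12672), (8505, 12673), (8506, 10079), (8507, 12674), (8508, 12767),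 (8509, 12676), (8510, 12677), (8511, 12657)]
    ⟨e3 q8448 L148558 q6782, e3 q8449 (flp_e L162843) q10540, e3 q8450 (flp_e L162835) q10539, e3 q8451 (flp_e L162263) q10449, e3 q8452 (flp_e L178635) q12621, e3 q8453 (flp_e L178653) q12624, e3 q8454 (flp_e L178659) q12625, e3 q8455 (flp_e L178665) q12626, e3 q8456 (flp_e L178671) q12627, e3 q8457 (flp_e L178677) q12628, e3 q8458 (flp_e L178685) q12629, e3 q8459 (flp_e L163778) q10435, e3 q8460 (flp_e L178693) q12630, e3 q8461 (flp_e L178703) q12631, e3 q8462 (flp_e L162581) q10499, e3 q8463 (flp_e L178713) q12632, e3 q8464 (flp_e L178731) q12635, e3 q8465 (flp_e L178737) q12636, e3 q8466 (flp_e L178743) q12637, e3 q8467 (flp_e L178749) q12638, e3 q8468 (flp_e L178755) q12639, e3 q8469 (flp_e L178763) q12640, e3 q8470 (flp_e L163616) q10401, e3 q8471 (flp_e L178771) q12641, e3 q8472 (flp_e L178781) q12642, e3 q8473 L143047 q5124, e3 q8474 L143055 q5126, e3 q8475 L143079 q5130, e3 q8476 L143089 q5131, e3 q8477 L143107 q5133, e3 q8478 L143135 q5137, e3 q8479 (flp_e L154652)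 q9335, e3 q8480 L163469 q10369, e3 q8481 (flp_e L163451) q10367, e3 q8482 (flp_e L164621) q10648, e3 q8483 L149023 q6697, e3 q8484 (flp_e L163453) q10077, e3 q8485 (flp_e L163449) q10361, e3 q8486 (flp_e L176340) q12349, e3 q8487 L154466 q9288, e3 q8488 (flp_e L163258) q10334, e3 q8489 L163270 q10332, e3 q8490 (flp_e L165232) q10733, e3 q8491 L143275 q6653, e3 q8492 L163272 q10043, e3 q8493 (flp_e L163264) q10324, e3 q8494 (flp_e L176761) q12395, e3 q8495 (flp_e L178971) q12661, e3 q8496 (flp_e L178983) q12663, e3 q8497 (flp_e L143305) q5140, e3 q8498 (flp_e L179671) q12760, e3 q8499 (flp_e L179003) q12666, e3 q8500 (flp_e L179009) q12667, e3 q8501 (flp_e L179015) q12668, e3 q8502 L143339 q5144, e3 q8503 (flp_e L179699) q12763, e3 q8504 (flp_e L179043) q12672, e3 q8505 (flp_e L179049) q12673, e3 q8506 (flp_e L163556) q10079, e3 q8507 (flp_e L179055) q12674, e3 q8508 L179721 q12767, e3 q8509 (flp_e L179069) q12676, e3 q8510 (flp_e L179073) q12677, e3 q8511 (flp_e L178929) q12657, trivial⟩ (by decide +kernel)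

theorem ce_e_133 : ∀ r, r < 64 → sm ge (Qf (8512 + r)) = Qf (tab Gen.e (8512 + r)) :=
  edges_tab (sm ge) Qf (tab Gen.e) 8512 [(8512, 9522), (8513, 12678), (8514, 12679), (8515, 12680), (8516, 12681), (8517, 12682), (8518, 12684), (8519, 12778), (8520, 5154), (8521, 12780), (8522, 12688), (8523, 12689), (8524, 12690), (8525, 12692), (8526, 5159), (8527, 12785), (8528, 12695), (8529, 12696), (8530, 12697), (8531, 5163), (8532, 12788), (8533, 12701), (8534, 12702), (8535, 10045), (8536, 12703), (8537, 12792), (8538, 12705), (8539, 12706), (8540, 12648), (8541, 9506), (8542, 12707), (8543, 12708), (8544, 12709), (8545, 12710), (8546, 12711), (8547, 12713), (8548, 12803), (8549, 5173), (8550, 12805), (8551, 12717), (8552, 12718), (8553, 6969), (8554, 5179), (8555, 12810), (8556, 5181), (8557, 5183), (8558, 12811), (8559, 12723), (8560, 12724), (8561, 12725), (8562, 6980), (8563, 5190), (8564, 12814), (8565, 5192), (8566, 5194), (8567, 12815), (8568, 12730), (8569, 12731), (8570, 12732), (8571, 6019), (8572, 5202),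 (8573, 12817), (8574, 12460), (8575, 12461)]
    ⟨e3 q8512 L163635 q9522, e3 q8513 (flp_e L179079) q12678, e3 q8514 (flp_e L179085) q12679, e3 q8515 (flp_e L179089) q12680, e3 q8516 (flp_e L179097) q12681, e3 q8517 (flp_e L179107) q12682, e3 q8518 (flp_e L179125) q12684, e3 q8519 L179813 q12778, e3 q8520 (flp_e L143461) q5154, e3 q8521 (flp_e L179837) q12780, e3 q8522 (flp_e L179151) q12688, e3 q8523 (flp_e L179159) q12689, e3 q8524 (flp_e L179167) q12690, e3 q8525 (flp_e L179179) q12692, e3 q8526 (flp_e L143529) q5159, e3 q8527 (flp_e L179889) q12785, e3 q8528 (flp_e L179199) q12695, e3 q8529 (flp_e L179205) q12696, e3 q8530 (flp_e L179211) q12697, e3 q8531 L143571 q5163, e3 q8532 (flp_e L179917) q12788, e3 q8533 (flp_e L179239) q12701, e3 q8534 (flp_e L179245) q12702, e3 q8535 L163429 q10045, e3 q8536 (flp_e L179251) q12703, e3 q8537 L179939 q12792, e3 q8538 (flp_e L179265) q12705, e3 q8539 (flp_e L179269) q12706, e3 q8540 (flp_e L178838) q12648, e3 q8541 (flp_e L163519) q9506, e3 q8542 (flp_e L179275) q12707,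 e3 q8543 (flp_e L179281) q12708, e3 q8544 (flp_e L179287) q12709, e3 q8545 (flp_e L179295) q12710, e3 q8546 (flp_e L179303) q12711, e3 q8547 (flp_e L179323) q12713, e3 q8548 L180031 q12803, e3 q8549 (flp_e L143675) q5173, e3 q8550 (flp_e L180055) q12805, e3 q8551 (flp_e L179349) q12717, e3 q8552 (flp_e L179357) q12718, e3 q8553 (flp_e L161254) q6969, e3 q8554 (flp_e L143707) q5179, e3 q8555 (flp_e L180107) q12810, e3 q8556 L143733 q5181, e3 q8557 L143739 q5183, e3 q8558 (flp_e L180113) q12811, e3 q8559 (flp_e L179385) q12723, e3 q8560 (flp_e L179399) q12724, e3 q8561 (flp_e L179409) q12725, e3 q8562 (flp_e L161505) q6980, e3 q8563 (flp_e L143807) q5190, e3 q8564 (flp_e L180139) q12814, e3 q8565 L143831 q5192, e3 q8566 L143841 q5194, e3 q8567 (flp_e L180145) q12815, e3 q8568 (flp_e L179435) q12730, e3 q8569 (flp_e L179449) q12731, e3 q8570 (flp_e L179459) q12732, e3 q8571 L143875 q6019, e3 q8572 L143885 q5202, e3 q8573 (flp_e L180159) q12817, e3 q8574 (flp_e L177293) q12460, e3 q8575 (flp_e L177307) q12461, trivial⟩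 (by decide +kernel)

theorem ce_e_134 : ∀ r, r < 64 → sm ge (Qf (8576 + r)) = Qf (tab Gen.e (8576 + r)) :=
  edges_tab (sm ge) Qf (tab Gen.e) 8576 [(8576, 9740), (8577, 5204), (8578, 9741), (8579, 9145), (8580, 6035), (8581, 5210), (8582, 12819), (8583, 12494), (8584, 12495), (8585, 9760), (8586, 5212), (8587, 9761), (8588, 9091), (8589, 12503), (8590, 12504), (8591, 5377), (8592, 5378), (8593, 9781), (8594, 12505), (8595, 9834), (8596, 12506), (8597, 5379), (8598, 5380), (8599, 5381), (8600, 5382), (8601, 5383), (8602, 5384), (8603, 5385), (8604, 5386), (8605, 12509), (8606, 12510), (8607, 12511), (8608, 12512), (8609, 12513), (8610, 12514), (8611, 5387), (8612, 5388), (8613, 5389), (8614, 5390), (8615, 5391), (8616, 5392), (8617, 5393), (8618, 5394), (8619, 5395), (8620, 5396), (8621, 8622), (8622, 8621), (8623, 12521), (8624, 8625), (8625, 8624), (8626, 12522), (8627, 11294), (8628, 12523), (8629, 12524), (8630, 12525), (8631, 12526), (8632, 11454), (8633, 12527), (8634, 12528), (8635, 12529), (8636, 12530),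 (8637, 5397), (8638, 5398), (8639, 5399)]
    ⟨e3 q8576 (flp_e L157613) q9740, e3 q8577 (flp_e L143915) q5204, e3 q8578 (flp_e L157629) q9741, e3 q8579 (flp_e L153177) q9145, e3 q8580 (flp_e L149216) q6035, e3 q8581 L144035 q5210, e3 q8582 (flp_e L180183) q12819, e3 q8583 (flp_e L177554) q12494, e3 q8584 (flp_e L177568) q12495, e3 q8585 (flp_e L157747) q9760, e3 q8586 (flp_e L144057) q5212, e3 q8587 (flp_e L157763) q9761, e3 q8588 (flp_e L152762) q9091, e3 q8589 (flp_e L177629) q12503, e3 q8590 (flp_e L177639) q12504, e3 q8591 L144107 q5377, e3 q8592 L144111 q5378, e3 q8593 (flp_e L157873) q9781, e3 q8594 (flp_e L177647) q12505, e3 q8595 (flp_e L158171) q9834, e3 q8596 (flp_e L177659) q12506, e3 q8597 L144145 q5379, e3 q8598 L144159 q5380, e3 q8599 L144165 q5381, e3 q8600 L144169 q5382, e3 q8601 L144173 q5383, e3 q8602 L144179 q5384, e3 q8603 L144185 q5385, e3 q8604 L144189 q5386, e3 q8605 (flp_e L177675) q12509, e3 q8606 (flp_e L177679) q12510, e3 q8607 (flp_e L177687) q12511, e3 q8608 (flp_e L177693) q12512, e3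 q8609 (flp_e L177697) q12513, e3 q8610 (flp_e L177705) q12514, e3 q8611 L144217 q5387, e3 q8612 L144223 q5388, e3 q8613 L144231 q5389, e3 q8614 L144239 q5390, e3 q8615 L144245 q5391, e3 q8616 L144251 q5392, e3 q8617 L144257 q5393, e3 q8618 L144263 q5394, e3 q8619 L144273 q5395, e3 q8620 L144279 q5396, e3 q8621 (flp_e L144295) q8622, e3 q8622 L144295 q8621, e3 q8623 (flp_e L177765) q12521, e3 q8624 (flp_e L144321) q8625, e3 q8625 L144321 q8624, e3 q8626 (flp_e L177775) q12522, e3 q8627 (flp_e L169047) q11294, e3 q8628 (flp_e L177783) q12523, e3 q8629 (flp_e L177791) q12524, e3 q8630 (flp_e L177795) q12525, e3 q8631 (flp_e L177801) q12526, e3 q8632 (flp_e L170056) q11454, e3 q8633 (flp_e L177809) q12527, e3 q8634 (flp_e L177817) q12528, e3 q8635 (flp_e L177821) q12529, e3 q8636 (flp_e L177827) q12530, e3 q8637 L144379 q5397, e3 q8638 L144383 q5398, e3 q8639 L144393 q5399, trivial⟩ (by decide +kernel)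

theorem ce_e_135 : ∀ r, r < 64 → sm ge (Qf (8640 + r)) = Qf (tab Gen.e (8640 + r)) :=
  edges_tab (sm ge) Qf (tab Gen.e) 8640 [(8640, 5400), (8641, 9558), (8642, 5243), (8643, 12893), (8644, 5403), (8645, 5404), (8646, 5405), (8647, 5406), (8648, 5407), (8649, 5408), (8650, 5409), (8651, 5411), (8652, 5412), (8653, 5413), (8654, 5414), (8655, 5415), (8656, 5416), (8657, 9596), (8658, 5251), (8659, 12908), (8660, 5419), (8661, 5420), (8662, 5421), (8663, 5422), (8664, 5423), (8665, 5424), (8666, 5425), (8667, 5427), (8668, 5428), (8669, 7002), (8670, 11032), (8671, 12549), (8672, 12550), (8673, 8690), (8674, 8691), (8675, 8692), (8676, 12551), (8677, 8689), (8678, 8685), (8679, 8686), (8680, 8687), (8681, 7018), (8682, 11070), (8683, 12552), (8684, 12553), (8685, 8678), (8686, 8679), (8687, 8680), (8688, 12554), (8689, 8677), (8690, 8673), (8691, 8674), (8692, 8675), (8693, 5429), (8694, 5430), (8695, 5431), (8696, 5432), (8697, 12961), (8698, 5434), (8699, 5435), (8700, 5436), (8701, 5437), (8702, 5438), (8703,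 12971)]
    ⟨e3 q8640 L144399 q5400, e3 q8641 (flp_e L156334) q9558, e3 q8642 (flp_e L144407) q5243, e3 q8643 (flp_e L180721) q12893, e3 q8644 L144421 q5403, e3 q8645 L144425 q5404, e3 q8646 L144431 q5405, e3 q8647 L144437 q5406, e3 q8648 L144441 q5407, e3 q8649 L144447 q5408, e3 q8650 L144453 q5409, e3 q8651 L144463 q5411, e3 q8652 L144469 q5412, e3 q8653 L144475 q5413, e3 q8654 L144479 q5414, e3 q8655 L144483 q5415, e3 q8656 L144487 q5416, e3 q8657 (flp_e L156581) q9596, e3 q8658 (flp_e L144501) q5251, e3 q8659 (flp_e L180829) q12908, e3 q8660 L144513 q5419, e3 q8661 L144517 q5420, e3 q8662 L144523 q5421, e3 q8663 L144529 q5422, e3 q8664 L144533 q5423, e3 q8665 L144539 q5424, e3 q8666 L144545 q5425, e3 q8667 L144555 q5427, e3 q8668 L144561 q5428, e3 q8669 L144571 q7002, e3 q8670 (flp_e L167411) q11032, e3 q8671 (flp_e L177965) q12549, e3 q8672 (flp_e L177971) q12550, e3 q8673 (flp_e L144707) q8690, e3 q8674 (flp_e L144719) q8691, e3 q8675 (flp_e L144727) q8692, e3 q8676 (flp_e L177985) q12551, e3 q8677 (flp_e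 L144693) q8689, e3 q8678 (flp_e L144669) q8685, e3 q8679 (flp_e L144675) q8686, e3 q8680 (flp_e L144683) q8687, e3 q8681 L149733 q7018, e3 q8682 (flp_e L167651) q11070, e3 q8683 (flp_e L177991) q12552, e3 q8684 (flp_e L177997) q12553, e3 q8685 L144669 q8678, e3 q8686 L144675 q8679, e3 q8687 L144683 q8680, e3 q8688 (flp_e L178011) q12554, e3 q8689 L144693 q8677, e3 q8690 L144707 q8673, e3 q8691 L144719 q8674, e3 q8692 L144727 q8675, e3 q8693 L144735 q5429, e3 q8694 L144745 q5430, e3 q8695 L144751 q5431, e3 q8696 L144755 q5432, e3 q8697 L181181 q12961, e3 q8698 L144767 q5434, e3 q8699 L144773 q5435, e3 q8700 L144777 q5436, e3 q8701 L144783 q5437, e3 q8702 L144791 q5438, e3 q8703 L181249 q12971, trivial⟩ (by decide +kernel)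

theorem ce_e_136 : ∀ r, r < 64 → sm ge (Qf (8704 + r)) = Qf (tab Gen.e (8704 + r)) :=
  edges_tab (sm ge) Qf (tab Gen.e) 8704 [(8704, 5440), (8705, 5441), (8706, 5278), (8707, 12977), (8708, 5444), (8709, 5445), (8710, 5446), (8711, 5447), (8712, 5282), (8713, 12987), (8714, 12988), (8715, 5451), (8716, 5452), (8717, 5453), (8718, 5454), (8719, 5455), (8720, 5456), (8721, 13007), (8722, 5458), (8723, 5459), (8724, 5460), (8725, 5461), (8726, 5462), (8727, 5463), (8728, 5464), (8729, 5465), (8730, 5466), (8731, 5467), (8732, 13025), (8733, 5469), (8734, 5470), (8735, 5292), (8736, 8781), (8737, 5472), (8738, 5473), (8739, 5474), (8740, 5475), (8741, 5476), (8742, 13037), (8743, 5478), (8744, 5479), (8745, 5480), (8746, 5481), (8747, 5482), (8748, 13046), (8749, 5484), (8750, 5485), (8751, 5300), (8752, 13052), (8753, 5488), (8754, 5489), (8755, 5490), (8756, 5491), (8757, 5304), (8758, 13061), (8759, 13062), (8760, 5495), (8761, 5496), (8762, 5497), (8763, 5498), (8764, 5499), (8765, 5457), (8766, 13006), (8767,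 5468)]
    ⟨e3 q8704 L144801 q5440, e3 q8705 L144805 q5441, e3 q8706 (flp_e L144807) q5278, e3 q8707 (flp_e L181291) q12977, e3 q8708 L144823 q5444, e3 q8709 L144827 q5445, e3 q8710 L144831 q5446, e3 q8711 L144835 q5447, e3 q8712 L144843 q5282, e3 q8713 (flp_e L181355) q12987, e3 q8714 (flp_e L181365) q12988, e3 q8715 L144861 q5451, e3 q8716 L144867 q5452, e3 q8717 L144875 q5453, e3 q8718 L144879 q5454, e3 q8719 L144883 q5455, e3 q8720 L144889 q5456, e3 q8721 L181479 q13007, e3 q8722 L144901 q5458, e3 q8723 L144905 q5459, e3 q8724 L144911 q5460, e3 q8725 L144915 q5461, e3 q8726 L144919 q5462, e3 q8727 L144925 q5463, e3 q8728 L144929 q5464, e3 q8729 L144939 q5465, e3 q8730 L144943 q5466, e3 q8731 L144947 q5467, e3 q8732 L181613 q13025, e3 q8733 L144963 q5469, e3 q8734 L144969 q5470, e3 q8735 (flp_e L144973) q5292, e3 q8736 L151558 q8781, e3 q8737 L144996 q5472, e3 q8738 L145004 q5473, e3 q8739 L145012 q5474, e3 q8740 L145018 q5475, e3 q8741 L145022 q5476, e3 q8742 L181703 q13037, e3 q8743 L145034 q5478, e3 q8744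 L145040 q5479, e3 q8745 L145044 q5480, e3 q8746 L145050 q5481, e3 q8747 L145058 q5482, e3 q8748 L181767 q13046, e3 q8749 L145068 q5484, e3 q8750 L145072 q5485, e3 q8751 (flp_e L145074) q5300, e3 q8752 (flp_e L181809) q13052, e3 q8753 L145090 q5488, e3 q8754 L145094 q5489, e3 q8755 L145098 q5490, e3 q8756 L145102 q5491, e3 q8757 L145110 q5304, e3 q8758 (flp_e L181863) q13061, e3 q8759 (flp_e L181873) q13062, e3 q8760 L145128 q5495, e3 q8761 L145134 q5496, e3 q8762 L145142 q5497, e3 q8763 L145146 q5498, e3 q8764 L145150 q5499, e3 q8765 (flp_e L151522) q5457, e3 q8766 (flp_e L181477) q13006, e3 q8767 (flp_e L151538) q5468, trivial⟩ (by decide +kernel)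

theorem ce_e_137 : ∀ r, r < 64 → sm ge (Qf (8768 + r)) = Qf (tab Gen.e (8768 + r)) :=
  edges_tab (sm ge) Qf (tab Gen.e) 8768 [(8768, 5500), (8769, 5501), (8770, 5502), (8771, 5503), (8772, 5504), (8773, 5505), (8774, 5506), (8775, 5507), (8776, 5508), (8777, 13008), (8778, 5509), (8779, 5510), (8780, 5314), (8781, 8736), (8782, 5512), (8783, 5515), (8784, 5516), (8785, 13101), (8786, 5519), (8787, 5520), (8788, 8360), (8789, 5320), (8790, 7169), (8791, 13106), (8792, 5523), (8793, 5524), (8794, 5325), (8795, 5326), (8796, 13111), (8797, 13112), (8798, 13113), (8799, 13114), (8800, 5537), (8801, 5538), (8802, 5539), (8803, 13129), (8804, 5541), (8805, 5542), (8806, 5543), (8807, 5544), (8808, 5545), (8809, 5546), (8810, 13141), (8811, 13143), (8812, 5332), (8813, 5550), (8814, 13149), (8815, 5552), (8816, 5553), (8817, 5334), (8818, 13155), (8819, 5335), (8820, 5559), (8821, 5560), (8822, 13160), (8823, 5563), (8824, 5564), (8825, 8368), (8826, 5340), (8827, 13165), (8828, 7271), (8829, 5567), (8830, 5568), (8831,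 5345)]
    ⟨e3 q8768 L145172 q5500, e3 q8769 L145178 q5501, e3 q8770 L145182 q5502, e3 q8771 L145186 q5503, e3 q8772 L145192 q5504, e3 q8773 L145198 q5505, e3 q8774 L145202 q5506, e3 q8775 L145206 q5507, e3 q8776 L145210 q5508, e3 q8777 (flp_e L181495) q13008, e3 q8778 L145222 q5509, e3 q8779 L145228 q5510, e3 q8780 (flp_e L145232) q5314, e3 q8781 (flp_e L151558) q8736, e3 q8782 L145255 q5512, e3 q8783 L145263 q5515, e3 q8784 L145270 q5516, e3 q8785 L182143 q13101, e3 q8786 L145282 q5519, e3 q8787 L145290 q5520, e3 q8788 (flp_e L145298) q8360, e3 q8789 (flp_e L145302) q5320, e3 q8790 L145318 q7169, e3 q8791 (flp_e L182195) q13106, e3 q8792 L145328 q5523, e3 q8793 L145336 q5524, e3 q8794 L145344 q5325, e3 q8795 L145354 q5326, e3 q8796 (flp_e L182229) q13111, e3 q8797 (flp_e L182235) q13112, e3 q8798 (flp_e L182241) q13113, e3 q8799 (flp_e L182247) q13114, e3 q8800 L145374 q5537, e3 q8801 L145384 q5538, e3 q8802 L145390 q5539, e3 q8803 L182331 q13129, e3 q8804 L145402 q5541, e3 q8805 L145406 q5542, e3 q8806 L145414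 q5543, e3 q8807 L145420 q5544, e3 q8808 L145424 q5545, e3 q8809 L145430 q5546, e3 q8810 L182401 q13141, e3 q8811 L182413 q13143, e3 q8812 (flp_e L145444) q5332, e3 q8813 L145452 q5550, e3 q8814 L182443 q13149, e3 q8815 L145460 q5552, e3 q8816 L145465 q5553, e3 q8817 (flp_e L145467) q5334, e3 q8818 L182474 q13155, e3 q8819 (flp_e L145476) q5335, e3 q8820 L145495 q5559, e3 q8821 L145503 q5560, e3 q8822 L182505 q13160, e3 q8823 L145524 q5563, e3 q8824 L145530 q5564, e3 q8825 L150984 q8368, e3 q8826 (flp_e L145534) q5340, e3 q8827 (flp_e L182557) q13165, e3 q8828 (flp_e L150888) q7271, e3 q8829 L145550 q5567, e3 q8830 L145558 q5568, e3 q8831 L145566 q5345, trivial⟩ (by decide +kernel)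

theorem ce_e_138 : ∀ r, r < 64 → sm ge (Qf (8832 + r)) = Qf (tab Gen.e (8832 + r)) :=
  edges_tab (sm ge) Qf (tab Gen.e) 8832 [(8832, 5346), (8833, 13170), (8834, 13171), (8835, 13172), (8836, 13173), (8837, 5581), (8838, 5582), (8839, 5583), (8840, 13188), (8841, 5585), (8842, 5586), (8843, 5587), (8844, 5588), (8845, 5589), (8846, 5590), (8847, 13200), (8848, 13202), (8849, 5352), (8850, 5594), (8851, 13208), (8852, 5596), (8853, 5597), (8854, 5354), (8855, 13214), (8856, 5355), (8857, 10122), (8858, 7621), (8859, 11247), (8860, 6471), (8861, 7431), (8862, 7432), (8863, 7433), (8864, 13227), (8865, 9643), (8866, 9644), (8867, 13234), (8868, 9646), (8869, 9647), (8870, 5366), (8871, 10156), (8872, 7787), (8873, 11410), (8874, 6505), (8875, 7435), (8876, 7436), (8877, 7437), (8878, 13247), (8879, 9649), (8880, 9650), (8881, 13253), (8882, 9652), (8883, 5376), (8884, 7190), (8885, 12821), (8886, 7291), (8887, 12822), (8888, 7203), (8889, 12831), (8890, 12832), (8891, 12833), (8892, 12834), (8893, 12835), (8894,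 7303), (8895, 12836)]
    ⟨e3 q8832 L145576 q5346, e3 q8833 (flp_e L182591) q13170, e3 q8834 (flp_e L182597) q13171, e3 q8835 (flp_e L182603) q13172, e3 q8836 (flp_e L182609) q13173, e3 q8837 L145596 q5581, e3 q8838 L145602 q5582, e3 q8839 L145608 q5583, e3 q8840 L182693 q13188, e3 q8841 L145620 q5585, e3 q8842 L145624 q5586, e3 q8843 L145634 q5587, e3 q8844 L145642 q5588, e3 q8845 L145648 q5589, e3 q8846 L145654 q5590, e3 q8847 L182783 q13200, e3 q8848 L182795 q13202, e3 q8849 (flp_e L145670) q5352, e3 q8850 L145680 q5594, e3 q8851 L182829 q13208, e3 q8852 L145690 q5596, e3 q8853 L145696 q5597, e3 q8854 (flp_e L145699) q5354, e3 q8855 L182864 q13214, e3 q8856 (flp_e L145708) q5355, e3 q8857 (flp_e L160102) q10122, e3 q8858 L145726 q7621, e3 q8859 (flp_e L168756) q11247, e3 q8860 L145739 q6471, e3 q8861 L145748 q7431, e3 q8862 L145754 q7432, e3 q8863 L145764 q7433, e3 q8864 L182942 q13227, e3 q8865 (flp_e L156947) q9643, e3 q8866 (flp_e L156954) q9644, e3 q8867 L182987 q13234, e3 q8868 (flp_e L156963) q9646, e3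 q8869 (flp_e L156969) q9647, e3 q8870 (flp_e L145794) q5366, e3 q8871 (flp_e L160340) q10156, e3 q8872 (flp_e L149976) q7787, e3 q8873 (flp_e L169781) q11410, e3 q8874 (flp_e L149954) q6505, e3 q8875 L145868 q7435, e3 q8876 L145874 q7436, e3 q8877 L145884 q7437, e3 q8878 L183091 q13247, e3 q8879 (flp_e L156984) q9649, e3 q8880 (flp_e L156991) q9650, e3 q8881 L183142 q13253, e3 q8882 (flp_e L157000) q9652, e3 q8883 (flp_e L145918) q5376, e3 q8884 L145929 q7190, e3 q8885 (flp_e L180207) q12821, e3 q8886 L148542 q7291, e3 q8887 (flp_e L180213) q12822, e3 q8888 L145947 q7203, e3 q8889 (flp_e L180265) q12831, e3 q8890 (flp_e L180271) q12832, e3 q8891 (flp_e L180281) q12833, e3 q8892 (flp_e L180291) q12834, e3 q8893 (flp_e L180305) q12835, e3 q8894 L150770 q7303, e3 q8895 (flp_e L180317) q12836, trivial⟩ (by decide +kernel)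

theorem ce_e_139 : ∀ r, r < 64 → sm ge (Qf (8896 + r)) = Qf (tab Gen.e (8896 + r)) :=
  edges_tab (sm ge) Qf (tab Gen.e) 8896 [(8896, 12837), (8897, 12838), (8898, 12839), (8899, 12840), (8900, 12853), (8901, 12854), (8902, 12855), (8903, 12856), (8904, 12857), (8905, 12858), (8906, 12269), (8907, 12859), (8908, 12860), (8909, 12861), (8910, 12862), (8911, 12863), (8912, 12864), (8913, 12327), (8914, 7311), (8915, 12892), (8916, 11456), (8917, 5402), (8918, 13257), (8919, 12895), (8920, 12896), (8921, 12897), (8922, 12898), (8923, 12899), (8924, 12900), (8925, 12901), (8926, 12902), (8927, 12903), (8928, 12904), (8929, 12905), (8930, 7211), (8931, 12907), (8932, 11298), (8933, 5418), (8934, 13270), (8935, 12910), (8936, 12911), (8937, 12912), (8938, 12913), (8939, 12914), (8940, 12915), (8941, 12916), (8942, 12917), (8943, 12918), (8944, 12919), (8945, 12920), (8946, 13283), (8947, 12954), (8948, 12955), (8949, 11268), (8950, 12956), (8951, 12958), (8952, 12959), (8953, 5433), (8954, 13284), (8955, 12964), (8956,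 12965), (8957, 12966), (8958, 11457), (8959, 12967)]
    ⟨e3 q8896 (flp_e L180323) q12837, e3 q8897 (flp_e L180333) q12838, e3 q8898 (flp_e L180343) q12839, e3 q8899 (flp_e L180359) q12840, e3 q8900 (flp_e L180431) q12853, e3 q8901 (flp_e L180445) q12854, e3 q8902 (flp_e L180451) q12855, e3 q8903 (flp_e L180459) q12856, e3 q8904 (flp_e L180467) q12857, e3 q8905 (flp_e L180475) q12858, e3 q8906 (flp_e L175745) q12269, e3 q8907 (flp_e L180483) q12859, e3 q8908 (flp_e L180497) q12860, e3 q8909 (flp_e L180503) q12861, e3 q8910 (flp_e L180509) q12862, e3 q8911 (flp_e L180519) q12863, e3 q8912 (flp_e L180527) q12864, e3 q8913 (flp_e L176133) q12327, e3 q8914 L151592 q7311, e3 q8915 (flp_e L180711) q12892, e3 q8916 (flp_e L170074) q11456, e3 q8917 L151614 q5402, e3 q8918 (flp_e L183185) q13257, e3 q8919 (flp_e L180729) q12895, e3 q8920 (flp_e L180733) q12896, e3 q8921 (flp_e L180741) q12897, e3 q8922 (flp_e L180745) q12898, e3 q8923 (flp_e L180749) q12899, e3 q8924 (flp_e L180757) q12900, e3 q8925 (flp_e L180765) q12901,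 e3 q8926 (flp_e L180771) q12902, e3 q8927 (flp_e L180781) q12903, e3 q8928 (flp_e L180787) q12904, e3 q8929 (flp_e L180797) q12905, e3 q8930 (flp_e L151700) q7211, e3 q8931 (flp_e L180819) q12907, e3 q8932 (flp_e L169077) q11298, e3 q8933 L151722 q5418, e3 q8934 (flp_e L183283) q13270, e3 q8935 (flp_e L180837) q12910, e3 q8936 (flp_e L180841) q12911, e3 q8937 (flp_e L180849) q12912, e3 q8938 (flp_e L180853) q12913, e3 q8939 (flp_e L180857) q12914, e3 q8940 (flp_e L180867) q12915, e3 q8941 (flp_e L180875) q12916, e3 q8942 (flp_e L180881) q12917, e3 q8943 (flp_e L180891) q12918, e3 q8944 (flp_e L180897) q12919, e3 q8945 (flp_e L180907) q12920, e3 q8946 L183363 q13283, e3 q8947 (flp_e L181135) q12954, e3 q8948 (flp_e L181145) q12955, e3 q8949 (flp_e L168897) q11268, e3 q8950 (flp_e L181151) q12956, e3 q8951 (flp_e L181169) q12958, e3 q8952 (flp_e L181177) q12959, e3 q8953 (flp_e L151878) q5433, e3 q8954 (flp_e L183381) q13284, e3 q8955 (flp_e L181197) q12964, e3 q8956 (flp_e L181203) q12965, e3 q8957 (flp_e L181211)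 q12966, e3 q8958 (flp_e L170086) q11457, e3 q8959 (flp_e L181217) q12967, trivial⟩ (by decide +kernel)

theorem ce_e_140 : ∀ r, r < 64 → sm ge (Qf (8960 + r)) = Qf (tab Gen.e (8960 + r)) :=
  edges_tab (sm ge) Qf (tab Gen.e) 8960 [(8960, 12968), (8961, 12969), (8962, 12970), (8963, 5439), (8964, 13290), (8965, 12974), (8966, 12975), (8967, 12976), (8968, 5443), (8969, 13298), (8970, 12979), (8971, 12980), (8972, 12981), (8973, 12982), (8974, 12983), (8975, 12984), (8976, 13307), (8977, 12986), (8978, 5449), (8979, 5450), (8980, 13309), (8981, 13310), (8982, 13311), (8983, 12993), (8984, 12994), (8985, 13079), (8986, 12996), (8987, 12997), (8988, 12998), (8989, 12999), (8990, 13000), (8991, 13001), (8992, 13002), (8993, 13003), (8994, 13004), (8995, 13005), (8996, 13009), (8997, 13010), (8998, 13011), (8999, 13012), (9000, 13013), (9001, 13014), (9002, 13016), (9003, 13017), (9004, 13018), (9005, 13019), (9006, 13020), (9007, 13021), (9008, 13022), (9009, 13080), (9010, 13024), (9011, 13027), (9012, 13028), (9013,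 13344), (9014, 13030), (9015, 13031), (9016, 13032), (9017, 11429), (9018, 13034), (9019, 13035), (9020, 5477), (9021, 13345), (9022, 13040), (9023, 13041)]
    ⟨e3 q8960 (flp_e L181231) q12968, e3 q8961 (flp_e L181239) q12969, e3 q8962 (flp_e L181243) q12970, e3 q8963 (flp_e L151940) q5439, e3 q8964 (flp_e L183465) q13290, e3 q8965 (flp_e L181265) q12974, e3 q8966 (flp_e L181271) q12975, e3 q8967 (flp_e L181281) q12976, e3 q8968 L151974 q5443, e3 q8969 (flp_e L183513) q13298, e3 q8970 (flp_e L181301) q12979, e3 q8971 (flp_e L181305) q12980, e3 q8972 (flp_e L181311) q12981, e3 q8973 (flp_e L181317) q12982, e3 q8974 (flp_e L181327) q12983, e3 q8975 (flp_e L181337) q12984, e3 q8976 L183601 q13307, e3 q8977 (flp_e L181349) q12986, e3 q8978 L152020 q5449, e3 q8979 L152030 q5450, e3 q8980 (flp_e L183611) q13309, e3 q8981 (flp_e L183617) q13310, e3 q8982 (flp_e L183625) q13311, e3 q8983 (flp_e L181389) q12993, e3 q8984 (flp_e L181399) q12994, e3 q8985 (flp_e L181973) q13079, e3 q8986 (flp_e L181415) q12996, e3 q8987 (flp_e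 L181419) q12997, e3 q8988 (flp_e L181425) q12998, e3 q8989 (flp_e L181429) q12999, e3 q8990 (flp_e L181435) q13000, e3 q8991 (flp_e L181441) q13001, e3 q8992 (flp_e L181447) q13002, e3 q8993 (flp_e L181453) q13003, e3 q8994 (flp_e L181459) q13004, e3 q8995 (flp_e L181465) q13005, e3 q8996 (flp_e L181499) q13009, e3 q8997 (flp_e L181505) q13010, e3 q8998 (flp_e L181513) q13011, e3 q8999 (flp_e L181523) q13012, e3 q9000 (flp_e L181531) q13013, e3 q9001 (flp_e L181537) q13014, e3 q9002 (flp_e L181549) q13016, e3 q9003 (flp_e L181555) q13017, e3 q9004 (flp_e L181565) q13018, e3 q9005 (flp_e L181571) q13019, e3 q9006 (flp_e L181581) q13020, e3 q9007 (flp_e L181587) q13021, e3 q9008 (flp_e L181597) q13022, e3 q9009 (flp_e L181979) q13080, e3 q9010 (flp_e L181611) q13024, e3 q9011 (flp_e L181631) q13027, e3 q9012 (flp_e L181639) q13028, e3 q9013 L183869 q13344, e3 q9014 (flp_e L181657) q13030, e3 q9015 (flp_e L181667) q13031, e3 q9016 (flp_e L181673) q13032, e3 q9017 (flp_e L169906) q11429, e3 q9018 (flp_e L181691) q13034,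 e3 q9019 (flp_e L181699) q13035, e3 q9020 (flp_e L152322) q5477, e3 q9021 (flp_e L183887) q13345, e3 q9022 (flp_e L181717) q13040, e3 q9023 (flp_e L181723) q13041, trivial⟩ (by decide +kernel)

theorem ce_e_141 : ∀ r, r < 64 → sm ge (Qf (9024 + r)) = Qf (tab Gen.e (9024 + r)) :=
  edges_tab (sm ge) Qf (tab Gen.e) 9024 [(9024, 13042), (9025, 13043), (9026, 13044), (9027, 13045), (9028, 11299), (9029, 5483), (9030, 13350), (9031, 13049), (9032, 13050), (9033, 13051), (9034, 5487), (9035, 13358), (9036, 13054), (9037, 13055), (9038, 13056), (9039, 13057), (9040, 13058), (9041, 13366), (9042, 13060), (9043, 5493), (9044, 5494), (9045, 13368), (9046, 13369), (9047, 13370), (9048, 13067), (9049, 13068), (9050, 13070), (9051, 13071), (9052, 13072), (9053, 13073), (9054, 13074), (9055, 13075), (9056, 13076), (9057, 13077), (9058, 13078), (9059, 13081), (9060, 13082), (9061, 13083), (9062, 13084), (9063, 13085), (9064, 13087), (9065, 13088), (9066, 13089), (9067, 13090), (9068, 13091), (9069, 13092), (9070, 13093), (9071,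 13095), (9072, 13097), (9073, 13098), (9074, 11028), (9075, 11029), (9076, 6859), (9077, 6857), (9078, 11727), (9079, 13099), (9080, 13100), (9081, 5518), (9082, 13104), (9083, 5522), (9084, 13109), (9085, 13110), (9086, 5526), (9087, 5527)]
    ⟨e3 q9024 (flp_e L181733) q13042, e3 q9025 (flp_e L181739) q13043, e3 q9026 (flp_e L181753) q13044, e3 q9027 (flp_e L181761) q13045, e3 q9028 (flp_e L169091) q11299, e3 q9029 (flp_e L152384) q5483, e3 q9030 (flp_e L183933) q13350, e3 q9031 (flp_e L181783) q13049, e3 q9032 (flp_e L181789) q13050, e3 q9033 (flp_e L181799) q13051, e3 q9034 L152418 q5487, e3 q9035 (flp_e L183981) q13358, e3 q9036 (flp_e L181819) q13054, e3 q9037 (flp_e L181823) q13055, e3 q9038 (flp_e L181829) q13056, e3 q9039 (flp_e L181835) q13057, e3 q9040 (flp_e L181845) q13058, e3 q9041 L184043 q13366, e3 q9042 (flp_e L181857) q13060, e3 q9043 L152458 q5493, e3 q9044 L152468 q5494, e3 q9045 (flp_e L184053) q13368, e3 q9046 (flp_e L184059) q13369, e3 q9047 (flp_e L184067) q13370, e3 q9048 (flp_e L181897)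 q13067, e3 q9049 (flp_e L181907) q13068, e3 q9050 (flp_e L181923) q13070, e3 q9051 (flp_e L181927) q13071, e3 q9052 (flp_e L181933) q13072, e3 q9053 (flp_e L181937) q13073, e3 q9054 (flp_e L181943) q13074, e3 q9055 (flp_e L181949) q13075, e3 q9056 (flp_e L181955) q13076, e3 q9057 (flp_e L181959) q13077, e3 q9058 (flp_e L181967) q13078, e3 q9059 (flp_e L181985) q13081, e3 q9060 (flp_e L181993) q13082, e3 q9061 (flp_e L182003) q13083, e3 q9062 (flp_e L182011) q13084, e3 q9063 (flp_e L182017) q13085, e3 q9064 (flp_e L182029) q13087, e3 q9065 (flp_e L182035) q13088, e3 q9066 (flp_e L182045) q13089, e3 q9067 (flp_e L182057) q13090, e3 q9068 (flp_e L182063) q13091, e3 q9069 (flp_e L182069) q13092, e3 q9070 (flp_e L182079) q13093, e3 q9071 (flp_e L182093) q13095, e3 q9072 (flp_e L182107) q13097, e3 q9073 (flp_e L182115) q13098, e3 q9074 (flp_e L167373) q11028, e3 q9075 (flp_e L167385) q11029, e3 q9076 L152666 q6859, e3 q9077 L152677 q6857, e3 q9078 (flp_e L171842) q11727, e3 q9079 (flp_e L182127) q13099, e3 q9080 (flp_e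 L182139) q13100, e3 q9081 (flp_e L152700) q5518, e3 q9082 (flp_e L182173) q13104, e3 q9083 L152718 q5522, e3 q9084 (flp_e L182217) q13109, e3 q9085 (flp_e L182223) q13110, e3 q9086 L152732 q5526, e3 q9087 L152738 q5527, trivial⟩ (by decide +kernel)

theorem ce_e_142 : ∀ r, r < 64 → sm ge (Qf (9088 + r)) = Qf (tab Gen.e (9088 + r)) :=
  edges_tab (sm ge) Qf (tab Gen.e) 9088 [(9088, 13397), (9089, 13398), (9090, 13399), (9091, 8588), (9092, 5530), (9093, 5533), (9094, 5534), (9095, 5535), (9096, 5536), (9097, 13402), (9098, 13403), (9099, 13404), (9100, 13407), (9101, 13126), (9102, 13127), (9103, 13413), (9104, 5540), (9105, 13131), (9106, 13132), (9107, 13133), (9108, 13134), (9109, 13135), (9110, 13136), (9111, 13137), (9112, 13138), (9113, 13422), (9114, 13140), (9115, 5547), (9116, 13425), (9117, 5548), (9118, 13144), (9119, 13430), (9120, 13146), (9121, 13147), (9122, 5551), (9123, 13152), (9124, 13153), (9125, 13436), (9126, 5555), (9127, 13438), (9128, 11066), (9129, 11067), (9130, 6881), (9131, 11770), (9132,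 6878), (9133, 13158), (9134, 13159), (9135, 5562), (9136, 13163), (9137, 5566), (9138, 13168), (9139, 13169), (9140, 5571), (9141, 5570), (9142, 13450), (9143, 13451), (9144, 13449), (9145, 8579), (9146, 5574), (9147, 5577), (9148, 5578), (9149, 5579), (9150, 5580), (9151, 13454)]
    ⟨e3 q9088 (flp_e L184258) q13397, e3 q9089 (flp_e L184268) q13398, e3 q9090 (flp_e L184282) q13399, e3 q9091 L152762 q8588, e3 q9092 L152766 q5530, e3 q9093 L152770 q5533, e3 q9094 L152776 q5534, e3 q9095 L152786 q5535, e3 q9096 L152790 q5536, e3 q9097 (flp_e L184306) q13402, e3 q9098 (flp_e L184318) q13403, e3 q9099 (flp_e L184324) q13404, e3 q9100 L184354 q13407, e3 q9101 (flp_e L182319) q13126, e3 q9102 (flp_e L182325) q13127, e3 q9103 L184392 q13413, e3 q9104 (flp_e L152842) q5540, e3 q9105 (flp_e L182343) q13131, e3 q9106 (flp_e L182353) q13132, e3 q9107 (flp_e L182359) q13133, e3 q9108 (flp_e L182365) q13134, e3 q9109 (flp_e L182369) q13135, e3 q9110 (flp_e L182375) q13136, e3 q9111 (flp_e L182383) q13137, e3 q9112 (flp_e L182389)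 q13138, e3 q9113 L184450 q13422, e3 q9114 (flp_e L182397) q13140, e3 q9115 (flp_e L152888) q5547, e3 q9116 L184470 q13425, e3 q9117 (flp_e L152900) q5548, e3 q9118 (flp_e L182423) q13144, e3 q9119 L184500 q13430, e3 q9120 (flp_e L182433) q13146, e3 q9121 (flp_e L182439) q13147, e3 q9122 (flp_e L152924) q5551, e3 q9123 (flp_e L182460) q13152, e3 q9124 (flp_e L182468) q13153, e3 q9125 L184525 q13436, e3 q9126 (flp_e L152951) q5555, e3 q9127 (flp_e L184545) q13438, e3 q9128 (flp_e L167613) q11066, e3 q9129 (flp_e L167623) q11067, e3 q9130 L153081 q6881, e3 q9131 (flp_e L172133) q11770, e3 q9132 L153098 q6878, e3 q9133 (flp_e L182489) q13158, e3 q9134 (flp_e L182501) q13159, e3 q9135 (flp_e L153115) q5562, e3 q9136 (flp_e L182535) q13163, e3 q9137 L153133 q5566, e3 q9138 (flp_e L182579) q13168, e3 q9139 (flp_e L182583) q13169, e3 q9140 L153147 q5571, e3 q9141 L153153 q5570, e3 q9142 (flp_e L184644) q13450, e3 q9143 (flp_e L184658) q13451, e3 q9144 (flp_e L184634) q13449, e3 q9145 L153177 q8579, e3 q9146 L153181 q5574,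 e3 q9147 L153185 q5577, e3 q9148 L153191 q5578, e3 q9149 L153201 q5579, e3 q9150 L153205 q5580, e3 q9151 (flp_e L184682) q13454, trivial⟩ (by decide +kernel)

theorem ce_e_143 : ∀ r, r < 64 → sm ge (Qf (9152 + r)) = Qf (tab Gen.e (9152 + r)) :=
  edges_tab (sm ge) Qf (tab Gen.e) 9152 [(9152, 13455), (9153, 13456), (9154, 13459), (9155, 13185), (9156, 13186), (9157, 13465), (9158, 5584), (9159, 13190), (9160, 13191), (9161, 13192), (9162, 13193), (9163, 13194), (9164, 13195), (9165, 13196), (9166, 13197), (9167, 13474), (9168, 13199), (9169, 5591), (9170, 13477), (9171, 5592), (9172, 13203), (9173, 13482), (9174, 13205), (9175, 13206), (9176, 5595), (9177, 13211), (9178, 13212), (9179, 13488), (9180, 5599), (9181, 13490), (9182, 5601), (9183, 9185), (9184, 5603), (9185, 9183), (9186, 5605), (9187, 5606), (9188, 13492), (9189, 5609), (9190, 7940), (9191, 13493), (9192, 5611), (9193, 13496), (9194, 9236), (9195, 5645), (9196, 5619), (9197, 5618), (9198, 13499), (9199, 5625), (9200, 9232), (9201, 13500), (9202, 6764),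 (9203, 13502), (9204, 5628), (9205, 12331), (9206, 13506), (9207, 12332), (9208, 12333), (9209, 5630), (9210, 6144), (9211, 6146), (9212, 13512), (9213, 13514), (9214, 5632), (9215, 13515)]
    ⟨e3 q9152 (flp_e L184694) q13455, e3 q9153 (flp_e L184700) q13456, e3 q9154 L184730 q13459, e3 q9155 (flp_e L182681) q13185, e3 q9156 (flp_e L182687) q13186, e3 q9157 L184768 q13465, e3 q9158 (flp_e L153257) q5584, e3 q9159 (flp_e L182705) q13190, e3 q9160 (flp_e L182717) q13191, e3 q9161 (flp_e L182725) q13192, e3 q9162 (flp_e L182733) q13193, e3 q9163 (flp_e L182737) q13194, e3 q9164 (flp_e L182751) q13195, e3 q9165 (flp_e L182761) q13196, e3 q9166 (flp_e L182769) q13197, e3 q9167 L184838 q13474, e3 q9168 (flp_e L182779) q13199, e3 q9169 (flp_e L153317) q5591, e3 q9170 L184862 q13477, e3 q9171 (flp_e L153329) q5592, e3 q9172 (flp_e L182805) q13203, e3 q9173 L184892 q13482, e3 q9174 (flp_e L182817) q13205, e3 q9175 (flp_e L182825) q13206, e3 q9176 (flp_e L153357) q5595, e3 q9177 (flp_e L182848) q13211, e3 q9178 (flp_e L182858)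 q13212, e3 q9179 L184925 q13488, e3 q9180 (flp_e L153388) q5599, e3 q9181 (flp_e L184945) q13490, e3 q9182 (flp_e L153504) q5601, e3 q9183 (flp_e L153538) q9185, e3 q9184 L153527 q5603, e3 q9185 L153538 q9183, e3 q9186 (flp_e L153542) q5605, e3 q9187 (flp_e L153552) q5606, e3 q9188 (flp_e L184967) q13492, e3 q9189 L153576 q5609, e3 q9190 L153584 q7940, e3 q9191 (flp_e L184975) q13493, e3 q9192 L153594 q5611, e3 q9193 (flp_e L185013) q13496, e3 q9194 (flp_e L153932) q9236, e3 q9195 L153616 q5645, e3 q9196 L153628 q5619, e3 q9197 L153632 q5618, e3 q9198 (flp_e L185045) q13499, e3 q9199 L153652 q5625, e3 q9200 (flp_e L153900) q9232, e3 q9201 (flp_e L185061) q13500, e3 q9202 L153674 q6764, e3 q9203 L185077 q13502, e3 q9204 (flp_e L153688) q5628, e3 q9205 (flp_e L176165) q12331, e3 q9206 L185113 q13506, e3 q9207 (flp_e L176175) q12332, e3 q9208 (flp_e L176185) q12333, e3 q9209 (flp_e L153706) q5630, e3 q9210 L153722 q6144, e3 q9211 L153732 q6146, e3 q9212 L185147 q13512, e3 q9213 L185157 q13514, e3 q9214 (flp_e L153757)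 q5632, e3 q9215 (flp_e L185171) q13515, trivial⟩ (by decide +kernel)

theorem ce_e_144 : ∀ r, r < 64 → sm ge (Qf (9216 + r)) = Qf (tab Gen.e (9216 + r)) :=
  edges_tab (sm ge) Qf (tab Gen.e) 9216 [(9216, 13516), (9217, 5633), (9218, 13518), (9219, 5635), (9220, 5636), (9221, 13519), (9222, 5638), (9223, 9225), (9224, 5640), (9225, 9223), (9226, 5642), (9227, 5643), (9228, 13522), (9229, 13498), (9230, 7998), (9231, 5648), (9232, 9200), (9233, 5653), (9234, 5652), (9235, 5658), (9236, 9194), (9237, 13524), (9238, 6838), (9239, 13526), (9240, 5661), (9241, 12377), (9242, 13530), (9243, 12378), (9244, 12379), (9245, 5663), (9246, 6157), (9247, 6160), (9248, 13536), (9249, 13538), (9250, 5665), (9251, 13539), (9252, 13540), (9253, 5666), (9254, 13542), (9255, 5668), (9256, 5669), (9257, 13543), (9258, 5671), (9259, 9262), (9260, 5673), (9261, 13546), (9262, 9259), (9263, 5676), (9264, 9338), (9265, 13550), (9266, 13551), (9267, 10650), (9268, 5680), (9269, 5681), (9270, 13554), (9271, 6805), (9272, 9342), (9273, 6756),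 (9274, 5718), (9275, 10737), (9276, 10669), (9277, 10670), (9278, 10671), (9279, 9333)]
    ⟨e3 q9216 (flp_e L185179) q13516, e3 q9217 (flp_e L153779) q5633, e3 q9218 (flp_e L185201) q13518, e3 q9219 L153797 q5635, e3 q9220 L153804 q5636, e3 q9221 (flp_e L185211) q13519, e3 q9222 (flp_e L153816) q5638, e3 q9223 (flp_e L153850) q9225, e3 q9224 L153839 q5640, e3 q9225 L153850 q9223, e3 q9226 (flp_e L153854) q5642, e3 q9227 (flp_e L153864) q5643, e3 q9228 (flp_e L185237) q13522, e3 q9229 (flp_e L185033) q13498, e3 q9230 L153886 q7998, e3 q9231 L153896 q5648, e3 q9232 L153900 q9200, e3 q9233 L153908 q5653, e3 q9234 L153912 q5652, e3 q9235 L153920 q5658, e3 q9236 L153932 q9194, e3 q9237 (flp_e L185261) q13524, e3 q9238 L153946 q6838, e3 q9239 L185279 q13526, e3 q9240 (flp_e L153960) q5661, e3 q9241 (flp_e L176586) q12377, e3 q9242 L185315 q13530, e3 q9243 (flp_e L176596) q12378, e3 q9244 (flp_e L176606) q12379, e3 q9245 (flp_e L153978) q5663, e3 q9246 L153994 q6157, e3 q9247 L154004 q6160, e3 q9248 L185349 q13536, e3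 q9249 L185359 q13538, e3 q9250 (flp_e L154023) q5665, e3 q9251 (flp_e L185373) q13539, e3 q9252 (flp_e L185385) q13540, e3 q9253 (flp_e L154047) q5666, e3 q9254 (flp_e L185403) q13542, e3 q9255 L154065 q5668, e3 q9256 L154071 q5669, e3 q9257 (flp_e L185413) q13543, e3 q9258 (flp_e L154084) q5671, e3 q9259 (flp_e L154118) q9262, e3 q9260 L154104 q5673, e3 q9261 (flp_e L185427) q13546, e3 q9262 L154118 q9259, e3 q9263 L154126 q5676, e3 q9264 L154672 q9338, e3 q9265 (flp_e L185447) q13550, e3 q9266 (flp_e L185463) q13551, e3 q9267 (flp_e L164643) q10650, e3 q9268 L154150 q5680, e3 q9269 L154160 q5681, e3 q9270 (flp_e L185499) q13554, e3 q9271 L154174 q6805, e3 q9272 (flp_e L154706) q9342, e3 q9273 L154184 q6756, e3 q9274 L154192 q5718, e3 q9275 (flp_e L165272) q10737, e3 q9276 (flp_e L164767) q10669, e3 q9277 (flp_e L164775) q10670, e3 q9278 (flp_e L164783) q10671, e3 q9279 (flp_e L154632) q9333, trivial⟩ (by decide +kernel)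

theorem ce_e_145 : ∀ r, r < 64 → sm ge (Qf (9280 + r)) = Qf (tab Gen.e (9280 + r)) :=
  edges_tab (sm ge) Qf (tab Gen.e) 9280 [(9280, 10779), (9281, 9332), (9282, 13558), (9283, 5691), (9284, 13559), (9285, 9290), (9286, 9327), (9287, 5694), (9288, 8487), (9289, 10841), (9290, 9285), (9291, 9297), (9292, 5696), (9293, 10820), (9294, 5697), (9295, 5699), (9296, 9317), (9297, 9291), (9298, 5701), (9299, 9324), (9300, 6804), (9301, 6807), (9302, 5703), (9303, 5704), (9304, 13570), (9305, 13571), (9306, 6808), (9307, 6809), (9308, 5708), (9309, 5709), (9310, 10753), (9311, 5710), (9312, 9315), (9313, 5712), (9314, 13577), (9315, 9312), (9316, 5715), (9317, 9296), (9318, 13565), (9319, 13564), (9320, 5719), (9321, 6830), (9322, 13568), (9323, 6724), (9324, 9299), (9325, 10754), (9326, 10755), (9327, 9286), (9328, 10695), (9329, 13584), (9330, 5726), (9331, 13585), (9332, 9281), (9333, 9279), (9334, 5729), (9335, 8479), (9336, 9339), (9337, 5732), (9338, 9264), (9339, 9336), (9340, 5734), (9341, 6722), (9342, 9272),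 (9343, 6733)]
    ⟨e3 q9280 (flp_e L165604) q10779, e3 q9281 (flp_e L154620) q9332, e3 q9282 L185535 q13558, e3 q9283 (flp_e L154232) q5691, e3 q9284 (flp_e L185545) q13559, e3 q9285 (flp_e L154278) q9290, e3 q9286 (flp_e L154594) q9327, e3 q9287 (flp_e L154264) q5694, e3 q9288 (flp_e L154466) q8487, e3 q9289 (flp_e L166084) q10841, e3 q9290 L154278 q9285, e3 q9291 (flp_e L154324) q9297, e3 q9292 (flp_e L154284) q5696, e3 q9293 (flp_e L165899) q10820, e3 q9294 (flp_e L154296) q5697, e3 q9295 L154308 q5699, e3 q9296 (flp_e L154474) q9317, e3 q9297 L154324 q9291, e3 q9298 (flp_e L154334) q5701, e3 q9299 (flp_e L154572) q9324, e3 q9300 (flp_e L154506) q6804, e3 q9301 L154350 q6807, e3 q9302 L154360 q5703, e3 q9303 L154366 q5704, e3 q9304 (flp_e L185667) q13570, e3 q9305 (flp_e L185675) q13571, e3 q9306 L154378 q6808, e3 q9307 L154386 q6809, e3 q9308 L154392 q5708, e3 q9309 L154402 q5709, e3 q9310 (flp_e L165376) q10753, e3 q9311 (flp_e L154414) q5710, e3 q9312 (flp_e L154448) q9315, e3 q9313 L154434 q5712, e3 q9314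 (flp_e L185721) q13577, e3 q9315 L154448 q9312, e3 q9316 L154456 q5715, e3 q9317 L154474 q9296, e3 q9318 (flp_e L185605) q13565, e3 q9319 (flp_e L185587) q13564, e3 q9320 L154484 q5719, e3 q9321 L154532 q6830, e3 q9322 (flp_e L185649) q13568, e3 q9323 L154542 q6724, e3 q9324 L154572 q9299, e3 q9325 (flp_e L165384) q10754, e3 q9326 (flp_e L165392) q10755, e3 q9327 L154594 q9286, e3 q9328 (flp_e L164983) q10695, e3 q9329 L185797 q13584, e3 q9330 (flp_e L154606) q5726, e3 q9331 (flp_e L185807) q13585, e3 q9332 L154620 q9281, e3 q9333 L154632 q9279, e3 q9334 (flp_e L154642) q5729, e3 q9335 L154652 q8479, e3 q9336 (flp_e L154680) q9339, e3 q9337 L154664 q5732, e3 q9338 (flp_e L154672) q9264, e3 q9339 L154680 q9336, e3 q9340 (flp_e L154682) q5734, e3 q9341 L154700 q6722, e3 q9342 L154706 q9272, e3 q9343 L154714 q6733, trivial⟩ (by decide +kernel)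

theorem ce_e_146 : ∀ r, r < 64 → sm ge (Qf (9344 + r)) = Qf (tab Gen.e (9344 + r)) :=
  edges_tab (sm ge) Qf (tab Gen.e) 9344 [(9344, 5736), (9345, 5737), (9346, 13592), (9347, 13553), (9348, 6734), (9349, 6735), (9350, 5741), (9351, 5742), (9352, 5749), (9353, 5750), (9354, 5756), (9355, 5757), (9356, 6611), (9357, 6659), (9358, 8205), (9359, 8206), (9360, 7674), (9361, 7838), (9362, 13597), (9363, 13598), (9364, 13599), (9365, 13600), (9366, 13601), (9367, 13602), (9368, 5788), (9369, 5789), (9370, 5794), (9371, 5795), (9372, 5796), (9373, 5797), (9374, 6393), (9375, 6394), (9376, 6395), (9377, 6396), (9378, 6397), (9379, 6398), (9380, 5814), (9381, 5815), (9382, 5816), (9383, 5817), (9384, 5818), (9385, 5819), (9386, 5820), (9387, 5821), (9388, 5776), (9389, 5779), (9390, 7497), (9391, 7498), (9392, 10922), (9393, 6502), (9394, 7781), (9395, 7511), (9396, 7512), (9397, 10933), (9398, 6467), (9399, 7616), (9400, 5838), (9401, 5839), (9402, 5840), (9403, 5841), (9404, 5842), (9405, 5843), (9406, 5844), (9407,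 5845)]
    ⟨e3 q9344 L154722 q5736, e3 q9345 L154730 q5737, e3 q9346 (flp_e L185887) q13592, e3 q9347 (flp_e L185487) q13553, e3 q9348 L154744 q6734, e3 q9349 L154754 q6735, e3 q9350 L154760 q5741, e3 q9351 L154770 q5742, e3 q9352 L154780 q5749, e3 q9353 L154790 q5750, e3 q9354 L154800 q5756, e3 q9355 L154807 q5757, e3 q9356 L154814 q6611, e3 q9357 L154822 q6659, e3 q9358 L154830 q8205, e3 q9359 L154840 q8206, e3 q9360 L154848 q7674, e3 q9361 L154857 q7838, e3 q9362 (flp_e L185937) q13597, e3 q9363 (flp_e L185944) q13598, e3 q9364 (flp_e L185953) q13599, e3 q9365 (flp_e L185961) q13600, e3 q9366 (flp_e L185968) q13601, e3 q9367 (flp_e L185977) q13602, e3 q9368 L154898 q5788, e3 q9369 L154908 q5789, e3 q9370 L154918 q5794, e3 q9371 L154926 q5795, e3 q9372 L154932 q5796, e3 q9373 L154940 q5797, e3 q9374 L154948 q6393, e3 q9375 L154956 q6394, e3 q9376 L154962 q6395, e3 q9377 L154970 q6396, e3 q9378 L154978 q6397, e3 q9379 L154984 q6398, e3 q9380 L154988 q5814, e3 q9381 L154994 q5815, e3 q9382 L154998 q5816, e3 q9383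 L155002 q5817, e3 q9384 L155008 q5818, e3 q9385 L155014 q5819, e3 q9386 L155018 q5820, e3 q9387 L155022 q5821, e3 q9388 L155034 q5776, e3 q9389 L155048 q5779, e3 q9390 L155058 q7497, e3 q9391 L155072 q7498, e3 q9392 (flp_e L166686) q10922, e3 q9393 L155090 q6502, e3 q9394 L155104 q7781, e3 q9395 L155112 q7511, e3 q9396 L155126 q7512, e3 q9397 (flp_e L166754) q10933, e3 q9398 L155144 q6467, e3 q9399 L155158 q7616, e3 q9400 L155170 q5838, e3 q9401 L155174 q5839, e3 q9402 L155178 q5840, e3 q9403 L155182 q5841, e3 q9404 L155186 q5842, e3 q9405 L155196 q5843, e3 q9406 L155200 q5844, e3 q9407 L155204 q5845, trivial⟩ (by decide +kernel)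

theorem ce_e_147 : ∀ r, r < 64 → sm ge (Qf (9408 + r)) = Qf (tab Gen.e (9408 + r)) :=
  edges_tab (sm ge) Qf (tab Gen.e) 9408 [(9408, 13615), (9409, 13616), (9410, 11688), (9411, 10537), (9412, 10592), (9413, 13618), (9414, 13620), (9415, 8439), (9416, 8440), (9417, 5800), (9418, 5801), (9419, 13663), (9420, 13664), (9421, 5804), (9422, 5805), (9423, 13667), (9424, 13668), (9425, 5810), (9426, 5811), (9427, 5812), (9428, 5813), (9429, 13671), (9430, 13672), (9431, 13673), (9432, 13521), (9433, 13674), (9434, 13675), (9435, 13676), (9436, 13491), (9437, 13629), (9438, 13630), (9439, 13631), (9440, 13632), (9441, 13633), (9442, 13634), (9443, 12447), (9444, 13636), (9445, 13637), (9446, 13638), (9447, 13639), (9448, 13640), (9449, 13641), (9450, 13642), (9451, 13643), (9452, 12483), (9453, 13645), (9454, 13646), (9455, 5828), (9456, 5829), (9457, 5830), (9458, 5831), (9459, 5832), (9460, 5833), (9461, 5834), (9462, 5835), (9463, 5836), (9464, 5837), (9465, 13701), (9466, 12446), (9467, 13557), (9468, 13702), (9469,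 9750), (9470, 13703), (9471, 12482)]
    ⟨e3 q9408 (flp_e L186083) q13615, e3 q9409 (flp_e L186093) q13616, e3 q9410 (flp_e L171535) q11688, e3 q9411 (flp_e L162818) q10537, e3 q9412 (flp_e L164163) q10592, e3 q9413 (flp_e L186113) q13618, e3 q9414 (flp_e L186131) q13620, e3 q9415 L155276 q8439, e3 q9416 L155288 q8440, e3 q9417 L155298 q5800, e3 q9418 L155308 q5801, e3 q9419 (flp_e L186463) q13663, e3 q9420 (flp_e L186477) q13664, e3 q9421 L155332 q5804, e3 q9422 L155344 q5805, e3 q9423 (flp_e L186505) q13667, e3 q9424 (flp_e L186512) q13668, e3 q9425 L155358 q5810, e3 q9426 L155364 q5811, e3 q9427 L155370 q5812, e3 q9428 L155376 q5813, e3 q9429 (flp_e L186535) q13671, e3 q9430 (flp_e L186549) q13672, e3 q9431 (flp_e L186557) q13673, e3 q9432 (flp_e L185223) q13521, e3 q9433 (flp_e L186565) q13674, e3 q9434 (flp_e L186579) q13675, e3 q9435 (flp_e L186587) q13676, e3 q9436 (flp_e L184953) q13491, e3 q9437 (flp_e L186203) q13629, e3 q9438 (flp_e L186211) q13630, e3 q9439 (flp_e L186218) q13631, e3 q9440 (flp_e L186222)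 q13632, e3 q9441 (flp_e L186234) q13633, e3 q9442 (flp_e L186240) q13634, e3 q9443 (flp_e L177196) q12447, e3 q9444 (flp_e L186252) q13636, e3 q9445 (flp_e L186258) q13637, e3 q9446 (flp_e L186266) q13638, e3 q9447 (flp_e L186274) q13639, e3 q9448 (flp_e L186281) q13640, e3 q9449 (flp_e L186285) q13641, e3 q9450 (flp_e L186297) q13642, e3 q9451 (flp_e L186303) q13643, e3 q9452 (flp_e L177471) q12483, e3 q9453 (flp_e L186319) q13645, e3 q9454 (flp_e L186325) q13646, e3 q9455 L155546 q5828, e3 q9456 L155558 q5829, e3 q9457 L155568 q5830, e3 q9458 L155576 q5831, e3 q9459 L155584 q5832, e3 q9460 L155592 q5833, e3 q9461 L155604 q5834, e3 q9462 L155614 q5835, e3 q9463 L155622 q5836, e3 q9464 L155630 q5837, e3 q9465 (flp_e L186827) q13701, e3 q9466 (flp_e L177190) q12446, e3 q9467 (flp_e L185529) q13557, e3 q9468 (flp_e L186841) q13702, e3 q9469 (flp_e L157679) q9750, e3 q9470 (flp_e L186853) q13703, e3 q9471 (flp_e L177465) q12482, trivial⟩ (by decide +kernel)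

theorem ce_e_148 : ∀ r, r < 64 → sm ge (Qf (9472 + r)) = Qf (tab Gen.e (9472 + r)) :=
  edges_tab (sm ge) Qf (tab Gen.e) 9472 [(9472, 13561), (9473, 13704), (9474, 9730), (9475, 13651), (9476, 13652), (9477, 13647), (9478, 13650), (9479, 13653), (9480, 13654), (9481, 13655), (9482, 13656), (9483, 13657), (9484, 13649), (9485, 13658), (9486, 13648), (9487, 13659), (9488, 13660), (9489, 13661), (9490, 13662), (9491, 10867), (9492, 10875), (9493, 5962), (9494, 5963), (9495, 13724), (9496, 13726), (9497, 5854), (9498, 13728), (9499, 5967), (9500, 5968), (9501, 5969), (9502, 5970), (9503, 5971), (9504, 5972), (9505, 5973), (9506, 8541), (9507, 5975), (9508, 5976), (9509, 5977), (9510, 5978), (9511, 13749), (9512, 13751), (9513, 5862), (9514, 13753), (9515, 5982), (9516, 5983), (9517, 5984), (9518, 5985), (9519, 5986), (9520, 5987), (9521, 5988), (9522, 8512), (9523, 5990), (9524, 5991), (9525, 5876), (9526, 5885), (9527, 7525), (9528, 7526), (9529, 7527), (9530, 13772), (9531, 5874), (9532, 11176), (9533, 6482), (9534,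 6480), (9535, 6479)]
    ⟨e3 q9472 (flp_e L185563) q13561, e3 q9473 (flp_e L186867) q13704, e3 q9474 (flp_e L157547) q9730, e3 q9475 (flp_e L186373) q13651, e3 q9476 (flp_e L186381) q13652, e3 q9477 (flp_e L186335) q13647, e3 q9478 (flp_e L186361) q13650, e3 q9479 (flp_e L186387) q13653, e3 q9480 (flp_e L186392) q13654, e3 q9481 (flp_e L186402) q13655, e3 q9482 (flp_e L186407) q13656, e3 q9483 (flp_e L186413) q13657, e3 q9484 (flp_e L186353) q13649, e3 q9485 (flp_e L186425) q13658, e3 q9486 (flp_e L186343) q13648, e3 q9487 (flp_e L186433) q13659, e3 q9488 (flp_e L186438) q13660, e3 q9489 (flp_e L186448) q13661, e3 q9490 (flp_e L186453) q13662, e3 q9491 (flp_e L166298) q10867, e3 q9492 (flp_e L166348) q10875, e3 q9493 L155820 q5962, e3 q9494 L155826 q5963, e3 q9495 L187043 q13724, e3 q9496 L187061 q13726, e3 q9497 (flp_e L155842) q5854, e3 q9498 (flp_e L187075) q13728, e3 q9499 L155856 q5967, e3 q9500 L155862 q5968, e3 q9501 L155868 q5969, e3 q9502 L155874 q5970, e3 q9503 L155878 q5971, e3 q9504 L155884 q5972, e3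 q9505 L155890 q5973, e3 q9506 L163519 q8541, e3 q9507 L155902 q5975, e3 q9508 L155908 q5976, e3 q9509 L155918 q5977, e3 q9510 L155924 q5978, e3 q9511 L187227 q13749, e3 q9512 L187245 q13751, e3 q9513 (flp_e L155940) q5862, e3 q9514 (flp_e L187259) q13753, e3 q9515 L155954 q5982, e3 q9516 L155962 q5983, e3 q9517 L155968 q5984, e3 q9518 L155976 q5985, e3 q9519 L155982 q5986, e3 q9520 L155988 q5987, e3 q9521 L155996 q5988, e3 q9522 (flp_e L163635) q8512, e3 q9523 L156008 q5990, e3 q9524 L156016 q5991, e3 q9525 L156024 q5876, e3 q9526 L156044 q5885, e3 q9527 L156066 q7525, e3 q9528 L156078 q7526, e3 q9529 L156084 q7527, e3 q9530 L187401 q13772, e3 q9531 (flp_e L156094) q5874, e3 q9532 (flp_e L168306) q11176, e3 q9533 L156110 q6482, e3 q9534 L156122 q6480, e3 q9535 L156138 q6479, trivial⟩ (by decide +kernel)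

theorem ce_e_149 : ∀ r, r < 64 → sm ge (Qf (9536 + r)) = Qf (tab Gen.e (9536 + r)) :=
  edges_tab (sm ge) Qf (tab Gen.e) 9536 [(9536, 9654), (9537, 7599), (9538, 6112), (9539, 11105), (9540, 7570), (9541, 7571), (9542, 7572), (9543, 13780), (9544, 5883), (9545, 11102), (9546, 6515), (9547, 6469), (9548, 6513), (9549, 9655), (9550, 7554), (9551, 6074), (9552, 11175), (9553, 6042), (9554, 6043), (9555, 6044), (9556, 6045), (9557, 6046), (9558, 8641), (9559, 13790), (9560, 5895), (9561, 13792), (9562, 6050), (9563, 6051), (9564, 6052), (9565, 6053), (9566, 5898), (9567, 13801), (9568, 5900), (9569, 13804), (9570, 6058), (9571, 6059), (9572, 6060), (9573, 13814), (9574, 6062), (9575, 6063), (9576, 6064), (9577, 6065), (9578, 6066), (9579, 6067), (9580, 6068), (9581, 6069), (9582, 6070), (9583, 6071), (9584, 13827), (9585, 6073), (9586, 13831), (9587, 5909), (9588, 13833), (9589, 6078), (9590, 6079), (9591, 6080), (9592, 6081), (9593, 6082), (9594, 6083), (9595, 6084), (9596, 8657), (9597, 13840), (9598, 5917), (9599,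 13842)]
    ⟨e3 q9536 (flp_e L157021) q9654, e3 q9537 L156148 q7599, e3 q9538 L156160 q6112, e3 q9539 (flp_e L167868) q11105, e3 q9540 L156176 q7570, e3 q9541 L156188 q7571, e3 q9542 L156194 q7572, e3 q9543 L187473 q13780, e3 q9544 (flp_e L156204) q5883, e3 q9545 (flp_e L167842) q11102, e3 q9546 L156220 q6515, e3 q9547 L156232 q6469, e3 q9548 L156248 q6513, e3 q9549 (flp_e L157033) q9655, e3 q9550 L156258 q7554, e3 q9551 L156270 q6074, e3 q9552 (flp_e L168296) q11175, e3 q9553 L156290 q6042, e3 q9554 L156298 q6043, e3 q9555 L156306 q6044, e3 q9556 L156314 q6045, e3 q9557 L156322 q6046, e3 q9558 L156334 q8641, e3 q9559 L187559 q13790, e3 q9560 (flp_e L156344) q5895, e3 q9561 (flp_e L187581) q13792, e3 q9562 L156362 q6050, e3 q9563 L156368 q6051, e3 q9564 L156374 q6052, e3 q9565 L156378 q6053, e3 q9566 (flp_e L156382) q5898, e3 q9567 (flp_e L187635) q13801, e3 q9568 L156396 q5900, e3 q9569 (flp_e L187655) q13804, e3 q9570 L156408 q6058, e3 q9571 L156412 q6059, e3 q9572 L156418 q6060, e3 q9573 L187707 q13814, e3 q9574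 L156430 q6062, e3 q9575 L156434 q6063, e3 q9576 L156442 q6064, e3 q9577 L156446 q6065, e3 q9578 L156450 q6066, e3 q9579 L156456 q6067, e3 q9580 L156466 q6068, e3 q9581 L156472 q6069, e3 q9582 L156480 q6070, e3 q9583 L156484 q6071, e3 q9584 L187827 q13827, e3 q9585 L156496 q6073, e3 q9586 L187857 q13831, e3 q9587 (flp_e L156502) q5909, e3 q9588 (flp_e L187869) q13833, e3 q9589 L156519 q6078, e3 q9590 L156525 q6079, e3 q9591 L156537 q6080, e3 q9592 L156545 q6081, e3 q9593 L156549 q6082, e3 q9594 L156555 q6083, e3 q9595 L156567 q6084, e3 q9596 L156581 q8657, e3 q9597 L187917 q13840, e3 q9598 (flp_e L156591) q5917, e3 q9599 (flp_e L187939) q13842, trivial⟩ (by decide +kernel)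

theorem ce_e_150 : ∀ r, r < 64 → sm ge (Qf (9600 + r)) = Qf (tab Gen.e (9600 + r)) :=
  edges_tab (sm ge) Qf (tab Gen.e) 9600 [(9600, 6088), (9601, 6089), (9602, 6090), (9603, 6091), (9604, 5920), (9605, 13850), (9606, 5922), (9607, 13853), (9608, 6096), (9609, 6097), (9610, 6098), (9611, 13863), (9612, 6100), (9613, 6101), (9614, 6102), (9615, 6103), (9616, 6104), (9617, 6105), (9618, 6106), (9619, 6107), (9620, 6108), (9621, 6109), (9622, 13876), (9623, 6111), (9624, 13880), (9625, 5931), (9626, 13882), (9627, 6116), (9628, 6117), (9629, 6120), (9630, 13892), (9631, 6122), (9632, 6123), (9633, 5935), (9634, 13897), (9635, 5936), (9636, 6129), (9637, 13905), (9638, 6131), (9639, 6132), (9640, 5939), (9641, 13910), (9642, 5940), (9643, 8865), (9644, 8866), (9645, 13919), (9646, 8868), (9647, 8869), (9648, 5944), (9649, 8879), (9650, 8880), (9651, 13927), (9652, 8882), (9653, 5947), (9654, 9536), (9655, 9549), (9656, 9666), (9657, 9668), (9658, 9669), (9659, 9663), (9660, 13931), (9661, 9664), (9662, 9665), (9663,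 9659)]
    ⟨e3 q9600 L156609 q6088, e3 q9601 L156615 q6089, e3 q9602 L156621 q6090, e3 q9603 L156625 q6091, e3 q9604 (flp_e L156629) q5920, e3 q9605 (flp_e L187981) q13850, e3 q9606 L156643 q5922, e3 q9607 (flp_e L188001) q13853, e3 q9608 L156655 q6096, e3 q9609 L156659 q6097, e3 q9610 L156665 q6098, e3 q9611 L188053 q13863, e3 q9612 L156677 q6100, e3 q9613 L156683 q6101, e3 q9614 L156691 q6102, e3 q9615 L156695 q6103, e3 q9616 L156699 q6104, e3 q9617 L156705 q6105, e3 q9618 L156717 q6106, e3 q9619 L156721 q6107, e3 q9620 L156729 q6108, e3 q9621 L156737 q6109, e3 q9622 L188173 q13876, e3 q9623 L156749 q6111, e3 q9624 L188203 q13880, e3 q9625 (flp_e L156755) q5931, e3 q9626 (flp_e L188215) q13882, e3 q9627 L156772 q6116, e3 q9628 L156778 q6117, e3 q9629 L156786 q6120, e3 q9630 L188275 q13892, e3 q9631 L156879 q6122, e3 q9632 L156886 q6123, e3 q9633 (flp_e L156888) q5935, e3 q9634 L188302 q13897, e3 q9635 (flp_e L156897) q5936, e3 q9636 L156908 q6129, e3 q9637 L188341 q13905, e3 q9638 L156918 q6131, e3 q9639 L156924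 q6132, e3 q9640 (flp_e L156927) q5939, e3 q9641 L188374 q13910, e3 q9642 (flp_e L156936) q5940, e3 q9643 L156947 q8865, e3 q9644 L156954 q8866, e3 q9645 L188436 q13919, e3 q9646 L156963 q8868, e3 q9647 L156969 q8869, e3 q9648 (flp_e L156971) q5944, e3 q9649 L156984 q8879, e3 q9650 L156991 q8880, e3 q9651 L188518 q13927, e3 q9652 L157000 q8882, e3 q9653 (flp_e L157008) q5947, e3 q9654 L157021 q9536, e3 q9655 L157033 q9549, e3 q9656 (flp_e L157131) q9666, e3 q9657 (flp_e L157143) q9668, e3 q9658 (flp_e L157151) q9669, e3 q9659 (flp_e L157109) q9663, e3 q9660 L188567 q13931, e3 q9661 (flp_e L157115) q9664, e3 q9662 (flp_e L157123) q9665, e3 q9663 L157109 q9659, trivial⟩ (by decide +kernel)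

theorem ce_e_151 : ∀ r, r < 64 → sm ge (Qf (9664 + r)) = Qf (tab Gen.e (9664 + r)) :=
  edges_tab (sm ge) Qf (tab Gen.e) 9664 [(9664, 9661), (9665, 9662), (9666, 9656), (9667, 13934), (9668, 9657), (9669, 9658), (9670, 13722), (9671, 5964), (9672, 5966), (9673, 13935), (9674, 13730), (9675, 13731), (9676, 13732), (9677, 13733), (9678, 13734), (9679, 12471), (9680, 13736), (9681, 13737), (9682, 13738), (9683, 13739), (9684, 13740), (9685, 13950), (9686, 13742), (9687, 13954), (9688, 5974), (9689, 13956), (9690, 13744), (9691, 13745), (9692, 13747), (9693, 5979), (9694, 5981), (9695, 13959), (9696, 13755), (9697, 13756), (9698, 13757), (9699, 13758), (9700, 13759), (9701, 12426), (9702, 13761), (9703, 13762), (9704, 13763), (9705, 13764), (9706, 13765), (9707, 13971), (9708, 13767), (9709, 13940), (9710, 5989), (9711, 13976), (9712, 13769), (9713, 13770), (9714, 6011), (9715, 6016), (9716, 6017), (9717, 6018), (9718, 6020), (9719, 6021), (9720, 6022), (9721, 6024), (9722, 6027), (9723, 6032), (9724, 6033), (9725,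 6034), (9726, 6036), (9727, 6037)]
    ⟨e3 q9664 L157115 q9661, e3 q9665 L157123 q9662, e3 q9666 L157131 q9656, e3 q9667 L188589 q13934, e3 q9668 L157143 q9657, e3 q9669 L157151 q9658, e3 q9670 (flp_e L187031) q13722, e3 q9671 (flp_e L157163) q5964, e3 q9672 L157177 q5966, e3 q9673 (flp_e L188599) q13935, e3 q9674 (flp_e L187085) q13730, e3 q9675 (flp_e L187091) q13731, e3 q9676 (flp_e L187099) q13732, e3 q9677 (flp_e L187105) q13733, e3 q9678 (flp_e L187115) q13734, e3 q9679 (flp_e L177376) q12471, e3 q9680 (flp_e L187131) q13736, e3 q9681 (flp_e L187135) q13737, e3 q9682 (flp_e L187141) q13738, e3 q9683 (flp_e L187149) q13739, e3 q9684 (flp_e L187155) q13740, e3 q9685 L188703 q13950, e3 q9686 (flp_e L187171) q13742, e3 q9687 L188727 q13954, e3 q9688 (flp_e L157243) q5974, e3 q9689 (flp_e L188745) q13956, e3 q9690 (flp_e L187189) q13744, e3 q9691 (flp_e L187197) q13745, e3 q9692 (flp_e L187215) q13747, e3 q9693 (flp_e L157273) q5979, e3 q9694 L157287 q5981, e3 q9695 (flp_e L188763) q13959, e3 q9696 (flp_e L187269)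 q13755, e3 q9697 (flp_e L187275) q13756, e3 q9698 (flp_e L187283) q13757, e3 q9699 (flp_e L187289) q13758, e3 q9700 (flp_e L187299) q13759, e3 q9701 (flp_e L177037) q12426, e3 q9702 (flp_e L187315) q13761, e3 q9703 (flp_e L187321) q13762, e3 q9704 (flp_e L187329) q13763, e3 q9705 (flp_e L187337) q13764, e3 q9706 (flp_e L187343) q13765, e3 q9707 L188845 q13971, e3 q9708 (flp_e L187359) q13767, e3 q9709 (flp_e L188645) q13940, e3 q9710 (flp_e L157355) q5989, e3 q9711 (flp_e L188895) q13976, e3 q9712 (flp_e L187377) q13769, e3 q9713 (flp_e L187385) q13770, e3 q9714 L157381 q6011, e3 q9715 L157405 q6016, e3 q9716 L157413 q6017, e3 q9717 L157423 q6018, e3 q9718 L157431 q6020, e3 q9719 L157437 q6021, e3 q9720 L157445 q6022, e3 q9721 L157457 q6024, e3 q9722 L157463 q6027, e3 q9723 L157487 q6032, e3 q9724 L157495 q6033, e3 q9725 L157505 q6034, e3 q9726 L157513 q6036, e3 q9727 L157519 q6037, trivial⟩ (by decide +kernel)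

theorem ce_e_152 : ∀ r, r < 64 → sm ge (Qf (9728 + r)) = Qf (tab Gen.e (9728 + r)) :=
  edges_tab (sm ge) Qf (tab Gen.e) 9728 [(9728, 6038), (9729, 6040), (9730, 9474), (9731, 13523), (9732, 6013), (9733, 13987), (9734, 12387), (9735, 8117), (9736, 13686), (9737, 13979), (9738, 13991), (9739, 11878), (9740, 8576), (9741, 8578), (9742, 12497), (9743, 13980), (9744, 13999), (9745, 13981), (9746, 14002), (9747, 6023), (9748, 14004), (9749, 13982), (9750, 9469), (9751, 13494), (9752, 6029), (9753, 14006), (9754, 12340), (9755, 8074), (9756, 13677), (9757, 13983), (9758, 14010), (9759, 12087), (9760, 8585), (9761, 8587), (9762, 12463), (9763, 13984), (9764, 14018), (9765, 13985), (9766, 14021), (9767, 6039), (9768, 14023), (9769, 13986), (9770, 13787), (9771, 13788), (9772, 13789), (9773, 6047), (9774, 6049), (9775, 13794), (9776, 13795), (9777, 13796), (9778, 13797), (9779, 14032), (9780, 13799), (9781, 8593), (9782, 6055), (9783, 14036), (9784, 6057), (9785, 14037), (9786, 13806), (9787, 13807), (9788, 13808), (9789,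 13625), (9790, 13809), (9791, 13626)]
    ⟨e3 q9728 L157527 q6038, e3 q9729 L157539 q6040, e3 q9730 L157547 q9474, e3 q9731 (flp_e L185247) q13523, e3 q9732 L157563 q6013, e3 q9733 (flp_e L188997) q13987, e3 q9734 (flp_e L176699) q12387, e3 q9735 L157583 q8117, e3 q9736 (flp_e L186680) q13686, e3 q9737 (flp_e L188921) q13979, e3 q9738 L189027 q13991, e3 q9739 L172893 q11878, e3 q9740 L157613 q8576, e3 q9741 L157629 q8578, e3 q9742 (flp_e L177583) q12497, e3 q9743 (flp_e L188929) q13980, e3 q9744 L189057 q13999, e3 q9745 (flp_e L188939) q13981, e3 q9746 L189085 q14002, e3 q9747 (flp_e L157659) q6023, e3 q9748 (flp_e L189103) q14004, e3 q9749 (flp_e L188947) q13982, e3 q9750 L157679 q9469, e3 q9751 (flp_e L184989) q13494, e3 q9752 L157695 q6029, e3 q9753 (flp_e L189119) q14006, e3 q9754 (flp_e L176270) q12340, e3 q9755 L157715 q8074, e3 q9756 (flp_e L186595) q13677, e3 q9757 (flp_e L188959) q13983, e3 q9758 L189149 q14010, e3 q9759 L174388 q12087, e3 q9760 L157747 q8585, e3 q9761 L157763 q8587, e3 q9762 (flp_e L177320)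 q12463, e3 q9763 (flp_e L188967) q13984, e3 q9764 L189179 q14018, e3 q9765 (flp_e L188977) q13985, e3 q9766 L189207 q14021, e3 q9767 (flp_e L157793) q6039, e3 q9768 (flp_e L189225) q14023, e3 q9769 (flp_e L188985) q13986, e3 q9770 (flp_e L187539) q13787, e3 q9771 (flp_e L187547) q13788, e3 q9772 (flp_e L187553) q13789, e3 q9773 (flp_e L157823) q6047, e3 q9774 L157837 q6049, e3 q9775 (flp_e L187591) q13794, e3 q9776 (flp_e L187595) q13795, e3 q9777 (flp_e L187601) q13796, e3 q9778 (flp_e L187611) q13797, e3 q9779 L189309 q14032, e3 q9780 (flp_e L187623) q13799, e3 q9781 L157873 q8593, e3 q9782 L157879 q6055, e3 q9783 (flp_e L189337) q14036, e3 q9784 L157895 q6057, e3 q9785 (flp_e L189347) q14037, e3 q9786 (flp_e L187665) q13806, e3 q9787 (flp_e L187669) q13807, e3 q9788 (flp_e L187675) q13808, e3 q9789 (flp_e L186171) q13625, e3 q9790 (flp_e L187681) q13809, e3 q9791 (flp_e L186181) q13626, trivial⟩ (by decide +kernel)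

theorem ce_e_153 : ∀ r, r < 64 → sm ge (Qf (9792 + r)) = Qf (tab Gen.e (9792 + r)) :=
  edges_tab (sm ge) Qf (tab Gen.e) 9792 [(9792, 13810), (9793, 13811), (9794, 14050), (9795, 14052), (9796, 6061), (9797, 14054), (9798, 13816), (9799, 13452), (9800, 13817), (9801, 13785), (9802, 13819), (9803, 13784), (9804, 13820), (9805, 14058), (9806, 13822), (9807, 13823), (9808, 13118), (9809, 14065), (9810, 13824), (9811, 13825), (9812, 14069), (9813, 6072), (9814, 14070), (9815, 13829), (9816, 14073), (9817, 14075), (9818, 6075), (9819, 6077), (9820, 14077), (9821, 13835), (9822, 13771), (9823, 13836), (9824, 13837), (9825, 13838), (9826, 13839), (9827, 6085), (9828, 6087), (9829, 13844), (9830, 13845), (9831, 13846), (9832, 14089), (9833, 13848), (9834, 8595), (9835, 6093), (9836, 14093), (9837, 6095), (9838, 14094), (9839, 13855), (9840, 13856), (9841, 13857), (9842, 13621), (9843, 13858), (9844, 13859), (9845, 13622), (9846, 13860), (9847, 14104), (9848, 14106), (9849, 6099), (9850, 14108), (9851, 13865), (9852, 13400),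 (9853, 13866), (9854, 13777), (9855, 13868)]
    ⟨e3 q9792 (flp_e L187687) q13810, e3 q9793 (flp_e L187695) q13811, e3 q9794 L189437 q14050, e3 q9795 L189455 q14052, e3 q9796 (flp_e L157945) q6061, e3 q9797 (flp_e L189477) q14054, e3 q9798 (flp_e L187719) q13816, e3 q9799 (flp_e L184666) q13452, e3 q9800 (flp_e L187729) q13817, e3 q9801 (flp_e L187527) q13785, e3 q9802 (flp_e L187743) q13819, e3 q9803 (flp_e L187511) q13784, e3 q9804 (flp_e L187749) q13820, e3 q9805 L189505 q14058, e3 q9806 (flp_e L187765) q13822, e3 q9807 (flp_e L187775) q13823, e3 q9808 (flp_e L187821) q13118, e3 q9809 L189551 q14065, e3 q9810 (flp_e L187789) q13824, e3 q9811 (flp_e L187795) q13825, e3 q9812 L189577 q14069, e3 q9813 (flp_e L158039) q6072, e3 q9814 (flp_e L189589) q14070, e3 q9815 (flp_e L187843) q13829, e3 q9816 L189613 q14073, e3 q9817 L189631 q14075, e3 q9818 (flp_e L158073) q6075, e3 q9819 L158083 q6077, e3 q9820 (flp_e L189643) q14077, e3 q9821 (flp_e L187882) q13835, e3 q9822 (flp_e L187395) q13771, e3 q9823 (flp_e L187887)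 q13836, e3 q9824 (flp_e L187895) q13837, e3 q9825 (flp_e L187903) q13838, e3 q9826 (flp_e L187911) q13839, e3 q9827 (flp_e L158129) q6085, e3 q9828 L158143 q6087, e3 q9829 (flp_e L187949) q13844, e3 q9830 (flp_e L187953) q13845, e3 q9831 (flp_e L187959) q13846, e3 q9832 L189741 q14089, e3 q9833 (flp_e L187969) q13848, e3 q9834 L158171 q8595, e3 q9835 L158177 q6093, e3 q9836 (flp_e L189769) q14093, e3 q9837 L158193 q6095, e3 q9838 (flp_e L189779) q14094, e3 q9839 (flp_e L188011) q13855, e3 q9840 (flp_e L188015) q13856, e3 q9841 (flp_e L188021) q13857, e3 q9842 (flp_e L186139) q13621, e3 q9843 (flp_e L188027) q13858, e3 q9844 (flp_e L188033) q13859, e3 q9845 (flp_e L186149) q13622, e3 q9846 (flp_e L188041) q13860, e3 q9847 L189869 q14104, e3 q9848 L189887 q14106, e3 q9849 (flp_e L158243) q6099, e3 q9850 (flp_e L189909) q14108, e3 q9851 (flp_e L188065) q13865, e3 q9852 (flp_e L184290) q13400, e3 q9853 (flp_e L188075) q13866, e3 q9854 (flp_e L187453) q13777, e3 q9855 (flp_e L188089) q13868, trivial⟩ (by decide +kernel)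

theorem ce_e_154 : ∀ r, r < 64 → sm ge (Qf (9856 + r)) = Qf (tab Gen.e (9856 + r)) :=
  edges_tab (sm ge) Qf (tab Gen.e) 9856 [(9856, 13776), (9857, 13869), (9858, 14111), (9859, 13871), (9860, 13872), (9861, 13177), (9862, 14118), (9863, 13873), (9864, 13874), (9865, 14120), (9866, 6110), (9867, 14121), (9868, 13878), (9869, 14124), (9870, 14126), (9871, 6113), (9872, 6115), (9873, 14128), (9874, 13884), (9875, 13779), (9876, 13885), (9877, 13886), (9878, 13887), (9879, 13908), (9880, 13889), (9881, 13890), (9882, 6121), (9883, 13902), (9884, 13895), (9885, 14138), (9886, 6125), (9887, 14141), (9888, 14142), (9889, 13900), (9890, 13903), (9891, 6130), (9892, 14147), (9893, 6134), (9894, 14150), (9895, 14151), (9896, 14153), (9897, 6136), (9898, 14154), (9899, 6667), (9900, 6138), (9901, 14156), (9902, 6140), (9903, 6141), (9904, 14158), (9905, 13508), (9906, 14165), (9907, 8169), (9908, 14168), (9909, 6145), (9910, 14170), (9911, 14171), (9912, 8167), (9913, 14174), (9914, 6149), (9915, 14175), (9916, 6620), (9917,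 6151), (9918, 14177), (9919, 6153)]
    ⟨e3 q9856 (flp_e L187439) q13776, e3 q9857 (flp_e L188095) q13869, e3 q9858 L189929 q14111, e3 q9859 (flp_e L188111) q13871, e3 q9860 (flp_e L188119) q13872, e3 q9861 (flp_e L188167) q13177, e3 q9862 L189991 q14118, e3 q9863 (flp_e L188135) q13873, e3 q9864 (flp_e L188139) q13874, e3 q9865 L190003 q14120, e3 q9866 (flp_e L158339) q6110, e3 q9867 (flp_e L190015) q14121, e3 q9868 (flp_e L188189) q13878, e3 q9869 L190039 q14124, e3 q9870 L190057 q14126, e3 q9871 (flp_e L158373) q6113, e3 q9872 L158383 q6115, e3 q9873 (flp_e L190069) q14128, e3 q9874 (flp_e L188228) q13884, e3 q9875 (flp_e L187467) q13779, e3 q9876 (flp_e L188233) q13885, e3 q9877 (flp_e L188241) q13886, e3 q9878 (flp_e L188249) q13887, e3 q9879 (flp_e L188368) q13908, e3 q9880 (flp_e L188261) q13889, e3 q9881 (flp_e L188269) q13890, e3 q9882 (flp_e L158441) q6121, e3 q9883 (flp_e L188327) q13902, e3 q9884 (flp_e L188296) q13895, e3 q9885 L190123 q14138, e3 q9886 (flp_e L158471) q6125, e3 q9887 (flp_e L190155)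 q14141, e3 q9888 (flp_e L190164) q14142, e3 q9889 (flp_e L188315) q13900, e3 q9890 (flp_e L188337) q13903, e3 q9891 (flp_e L158498) q6130, e3 q9892 L190196 q14147, e3 q9893 (flp_e L158508) q6134, e3 q9894 (flp_e L190226) q14150, e3 q9895 (flp_e L190234) q14151, e3 q9896 L190249 q14153, e3 q9897 (flp_e L158533) q6136, e3 q9898 (flp_e L190265) q14154, e3 q9899 L158551 q6667, e3 q9900 (flp_e L158557) q6138, e3 q9901 (flp_e L190277) q14156, e3 q9902 L158577 q6140, e3 q9903 L158585 q6141, e3 q9904 (flp_e L190295) q14158, e3 q9905 (flp_e L185131) q13508, e3 q9906 L190333 q14165, e3 q9907 L158611 q8169, e3 q9908 L190363 q14168, e3 q9909 (flp_e L158623) q6145, e3 q9910 (flp_e L190385) q14170, e3 q9911 (flp_e L190392) q14171, e3 q9912 L158646 q8167, e3 q9913 L190415 q14174, e3 q9914 (flp_e L158660) q6149, e3 q9915 (flp_e L190431) q14175, e3 q9916 L158678 q6620, e3 q9917 (flp_e L158684) q6151, e3 q9918 (flp_e L190443) q14177, e3 q9919 L158700 q6153, trivial⟩ (by decide +kernel)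

theorem ce_e_155 : ∀ r, r < 64 → sm ge (Qf (9920 + r)) = Qf (tab Gen.e (9920 + r)) :=
  edges_tab (sm ge) Qf (tab Gen.e) 9920 [(9920, 6154), (9921, 14179), (9922, 13532), (9923, 14186), (9924, 8198), (9925, 14189), (9926, 6158), (9927, 14191), (9928, 14192), (9929, 8197), (9930, 6389), (9931, 6390), (9932, 6391), (9933, 6392), (9934, 6910), (9935, 6911), (9936, 6912), (9937, 6914), (9938, 6915), (9939, 6916), (9940, 6399), (9941, 6400), (9942, 6401), (9943, 6402), (9944, 6933), (9945, 6935), (9946, 6936), (9947, 6939), (9948, 6940), (9949, 6941), (9950, 6942), (9951, 6945), (9952, 6946), (9953, 6947), (9954, 6948), (9955, 6949), (9956, 6950), (9957, 6951), (9958, 6952), (9959, 6953), (9960, 14223), (9961, 6955), (9962, 6956), (9963, 6957), (9964, 6958), (9965, 6959), (9966, 14229), (9967, 6961), (9968, 6962), (9969, 6403), (9970, 10868), (9971, 6404), (9972, 10876), (9973, 6990), (9974, 6991), (9975, 6992), (9976, 6993), (9977, 6995), (9978, 6996), (9979, 6997), (9980, 6998), (9981, 6999), (9982, 7000), (9983,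 7001)]
    ⟨e3 q9920 L158712 q6154, e3 q9921 (flp_e L190461) q14179, e3 q9922 (flp_e L185333) q13532, e3 q9923 L190529 q14186, e3 q9924 L158738 q8198, e3 q9925 L190559 q14189, e3 q9926 (flp_e L158750) q6158, e3 q9927 (flp_e L190579) q14191, e3 q9928 (flp_e L190587) q14192, e3 q9929 L158773 q8197, e3 q9930 L158779 q6389, e3 q9931 L158787 q6390, e3 q9932 L158793 q6391, e3 q9933 L158801 q6392, e3 q9934 L158807 q6910, e3 q9935 L158815 q6911, e3 q9936 L158821 q6912, e3 q9937 L158825 q6914, e3 q9938 L158833 q6915, e3 q9939 L158839 q6916, e3 q9940 L158843 q6399, e3 q9941 L158853 q6400, e3 q9942 L158857 q6401, e3 q9943 L158867 q6402, e3 q9944 L158872 q6933, e3 q9945 L158884 q6935, e3 q9946 L158892 q6936, e3 q9947 L158898 q6939, e3 q9948 L158905 q6940, e3 q9949 L158912 q6941, e3 q9950 L158921 q6942, e3 q9951 L158928 q6945, e3 q9952 L158933 q6946, e3 q9953 L158940 q6947, e3 q9954 L158947 q6948, e3 q9955 L158952 q6949, e3 q9956 L158959 q6950, e3 q9957 L158969 q6951, e3 q9958 L158977 q6952, e3 q9959 L158985 q6953, e3 q9960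 L190799 q14223, e3 q9961 L158995 q6955, e3 q9962 L159003 q6956, e3 q9963 L159013 q6957, e3 q9964 L159021 q6958, e3 q9965 L159029 q6959, e3 q9966 L190835 q14229, e3 q9967 L159039 q6961, e3 q9968 L159047 q6962, e3 q9969 L159059 q6403, e3 q9970 (flp_e L166308) q10868, e3 q9971 L159077 q6404, e3 q9972 (flp_e L166358) q10876, e3 q9973 L159212 q6990, e3 q9974 L159106 q6991, e3 q9975 L159117 q6992, e3 q9976 L159123 q6993, e3 q9977 L167035 q6995, e3 q9978 L159144 q6996, e3 q9979 L159155 q6997, e3 q9980 L159161 q6998, e3 q9981 L159167 q6999, e3 q9982 L159173 q7000, e3 q9983 L159181 q7001, trivial⟩ (by decide +kernel)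

theorem ce_e_156 : ∀ r, r < 64 → sm ge (Qf (9984 + r)) = Qf (tab Gen.e (9984 + r)) :=
  edges_tab (sm ge) Qf (tab Gen.e) 9984 [(9984, 6254), (9985, 7090), (9986, 14250), (9987, 6199), (9988, 7005), (9989, 7006), (9990, 7007), (9991, 7008), (9992, 7009), (9993, 7010), (9994, 7011), (9995, 14261), (9996, 7013), (9997, 7014), (9998, 7015), (9999, 7016), (10000, 7017), (10001, 6266), (10002, 7130), (10003, 14270), (10004, 6207), (10005, 7021), (10006, 7022), (10007, 7023), (10008, 7024), (10009, 7025), (10010, 7026), (10011, 7027), (10012, 14281), (10013, 7029), (10014, 7030), (10015, 6405), (10016, 6406), (10017, 14289), (10018, 6408), (10019, 6409), (10020, 6410), (10021, 6411), (10022, 6412), (10023, 14298), (10024, 6414), (10025, 6415), (10026, 14303), (10027, 6218), (10028, 14306), (10029, 11107), (10030, 6219), (10031, 14310), (10032, 6221), (10033, 14312), (10034, 6421), (10035, 6422), (10036, 6423), (10037, 6424), (10038, 6425), (10039, 12399), (10040, 6427), (10041, 6428), (10042, 6429), (10043, 8492), (10044,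 6431), (10045, 8535), (10046, 6229), (10047, 14337)]
    ⟨e3 q9984 L159185 q6254, e3 q9985 L159201 q7090, e3 q9986 L190977 q14250, e3 q9987 (flp_e L159217) q6199, e3 q9988 L159233 q7005, e3 q9989 L159241 q7006, e3 q9990 L159247 q7007, e3 q9991 L159255 q7008, e3 q9992 L159261 q7009, e3 q9993 L159269 q7010, e3 q9994 L159277 q7011, e3 q9995 L191059 q14261, e3 q9996 L159289 q7013, e3 q9997 L159297 q7014, e3 q9998 L159303 q7015, e3 q9999 L159309 q7016, e3 q10000 L159315 q7017, e3 q10001 L159321 q6266, e3 q10002 L159337 q7130, e3 q10003 L191121 q14270, e3 q10004 (flp_e L159343) q6207, e3 q10005 L167046 q7021, e3 q10006 L159363 q7022, e3 q10007 L159369 q7023, e3 q10008 L159377 q7024, e3 q10009 L159383 q7025, e3 q10010 L159391 q7026, e3 q10011 L159399 q7027, e3 q10012 L191203 q14281, e3 q10013 L159411 q7029, e3 q10014 L159419 q7030, e3 q10015 L159427 q6405, e3 q10016 L159433 q6406, e3 q10017 L191253 q14289, e3 q10018 L159443 q6408, e3 q10019 L159449 q6409, e3 q10020 L159453 q6410, e3 q10021 L159463 q6411, e3 q10022 L159471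 q6412, e3 q10023 L191311 q14298, e3 q10024 L159485 q6414, e3 q10025 L159491 q6415, e3 q10026 L191349 q14303, e3 q10027 (flp_e L159501) q6218, e3 q10028 L191371 q14306, e3 q10029 (flp_e L167880) q11107, e3 q10030 (flp_e L159519) q6219, e3 q10031 (flp_e L191395) q14310, e3 q10032 L159533 q6221, e3 q10033 (flp_e L191403) q14312, e3 q10034 L159541 q6421, e3 q10035 L159545 q6422, e3 q10036 L159551 q6423, e3 q10037 L159555 q6424, e3 q10038 L159565 q6425, e3 q10039 (flp_e L176809) q12399, e3 q10040 L159577 q6427, e3 q10041 L159581 q6428, e3 q10042 L159587 q6429, e3 q10043 (flp_e L163272) q8492, e3 q10044 L159599 q6431, e3 q10045 (flp_e L163429) q8535, e3 q10046 (flp_e L159605) q6229, e3 q10047 (flp_e L191595) q14337, trivial⟩ (by decide +kernel)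

theorem ce_e_157 : ∀ r, r < 64 → sm ge (Qf (10048 + r)) = Qf (tab Gen.e (10048 + r)) :=
  edges_tab (sm ge) Qf (tab Gen.e) 10048 [(10048, 6435), (10049, 6436), (10050, 6437), (10051, 14344), (10052, 6439), (10053, 6440), (10054, 6441), (10055, 6442), (10056, 6443), (10057, 14353), (10058, 6445), (10059, 6446), (10060, 14358), (10061, 6237), (10062, 14361), (10063, 11177), (10064, 6238), (10065, 14365), (10066, 6240), (10067, 14367), (10068, 6452), (10069, 6453), (10070, 6454), (10071, 6455), (10072, 6456), (10073, 12353), (10074, 6458), (10075, 6459), (10076, 6460), (10077, 8484), (10078, 6462), (10079, 8506), (10080, 6248), (10081, 14392), (10082, 6466), (10083, 7087), (10084, 7088), (10085, 7089), (10086, 10986), (10087, 7094), (10088, 7095), (10089, 7096), (10090, 7097), (10091, 14402), (10092, 6257), (10093, 14406), (10094, 6259), (10095, 14408), (10096, 10984), (10097, 7105), (10098, 7106), (10099, 7112), (10100, 7113), (10101, 7114), (10102, 7127), (10103, 7128), (10104, 7129), (10105, 11010), (10106, 7134),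 (10107, 7135), (10108, 7136), (10109, 7137), (10110, 14424), (10111, 6269)]
    ⟨e3 q10048 L159619 q6435, e3 q10049 L159627 q6436, e3 q10050 L159633 q6437, e3 q10051 L191636 q14344, e3 q10052 L159643 q6439, e3 q10053 L159649 q6440, e3 q10054 L159653 q6441, e3 q10055 L159663 q6442, e3 q10056 L159671 q6443, e3 q10057 L191694 q14353, e3 q10058 L159681 q6445, e3 q10059 L159689 q6446, e3 q10060 L191732 q14358, e3 q10061 (flp_e L159701) q6237, e3 q10062 L191752 q14361, e3 q10063 (flp_e L168314) q11177, e3 q10064 (flp_e L159719) q6238, e3 q10065 (flp_e L191776) q14365, e3 q10066 L159733 q6240, e3 q10067 (flp_e L191784) q14367, e3 q10068 L159741 q6452, e3 q10069 L159745 q6453, e3 q10070 L159751 q6454, e3 q10071 L159755 q6455, e3 q10072 L159765 q6456, e3 q10073 (flp_e L176386) q12353, e3 q10074 L159777 q6458, e3 q10075 L159781 q6459, e3 q10076 L159787 q6460, e3 q10077 L163453 q8484, e3 q10078 L159799 q6462, e3 q10079 L163556 q8506, e3 q10080 (flp_e L159805) q6248, e3 q10081 (flp_e L191976) q14392, e3 q10082 L159819 q6466,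 e3 q10083 L159829 q7087, e3 q10084 L159839 q7088, e3 q10085 L159853 q7089, e3 q10086 (flp_e L167132) q10986, e3 q10087 L159867 q7094, e3 q10088 L159873 q7095, e3 q10089 L159877 q7096, e3 q10090 L159883 q7097, e3 q10091 L192040 q14402, e3 q10092 (flp_e L159892) q6257, e3 q10093 (flp_e L192069) q14406, e3 q10094 L159904 q6259, e3 q10095 (flp_e L192077) q14408, e3 q10096 (flp_e L167118) q10984, e3 q10097 L159926 q7105, e3 q10098 L159930 q7106, e3 q10099 L159936 q7112, e3 q10100 L159942 q7113, e3 q10101 L159948 q7114, e3 q10102 L159956 q7127, e3 q10103 L159968 q7128, e3 q10104 L159980 q7129, e3 q10105 (flp_e L167270) q11010, e3 q10106 L159996 q7134, e3 q10107 L160002 q7135, e3 q10108 L160006 q7136, e3 q10109 L160012 q7137, e3 q10110 L192186 q14424, e3 q10111 (flp_e L160021) q6269, trivial⟩ (by decide +kernel)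

theorem ce_e_158 : ∀ r, r < 64 → sm ge (Qf (10112 + r)) = Qf (tab Gen.e (10112 + r)) :=
  edges_tab (sm ge) Qf (tab Gen.e) 10112 [(10112, 14428), (10113, 6271), (10114, 14430), (10115, 11008), (10116, 7145), (10117, 7146), (10118, 7152), (10119, 7153), (10120, 7154), (10121, 6280), (10122, 8857), (10123, 13219), (10124, 6472), (10125, 14442), (10126, 6283), (10127, 14446), (10128, 6285), (10129, 14448), (10130, 6475), (10131, 6476), (10132, 6477), (10133, 6478), (10134, 6290), (10135, 14456), (10136, 14455), (10137, 6292), (10138, 14460), (10139, 14461), (10140, 6294), (10141, 6295), (10142, 14465), (10143, 14466), (10144, 10529), (10145, 14467), (10146, 6493), (10147, 6494), (10148, 6495), (10149, 6496), (10150, 6497), (10151, 6498), (10152, 6500), (10153, 6501), (10154, 6307), (10155, 13239), (10156, 8871), (10157, 6506), (10158, 14491), (10159, 6310), (10160, 14495), (10161, 6312), (10162, 14497), (10163, 6509), (10164, 6510), (10165, 6511), (10166, 6512), (10167, 6317), (10168, 14505), (10169, 14504), (10170,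 6319), (10171, 14509), (10172, 14510), (10173, 6321), (10174, 6322), (10175, 14514)]
    ⟨e3 q10112 (flp_e L192215) q14428, e3 q10113 L160033 q6271, e3 q10114 (flp_e L192223) q14430, e3 q10115 (flp_e L167256) q11008, e3 q10116 L160054 q7145, e3 q10117 L160060 q7146, e3 q10118 L160066 q7152, e3 q10119 L160072 q7153, e3 q10120 L160078 q7154, e3 q10121 (flp_e L160082) q6280, e3 q10122 L160102 q8857, e3 q10123 (flp_e L182897) q13219, e3 q10124 L160114 q6472, e3 q10125 L192307 q14442, e3 q10126 (flp_e L160128) q6283, e3 q10127 (flp_e L192337) q14446, e3 q10128 L160150 q6285, e3 q10129 (flp_e L192349) q14448, e3 q10130 L160160 q6475, e3 q10131 L160170 q6476, e3 q10132 L160180 q6477, e3 q10133 L160186 q6478, e3 q10134 (flp_e L160194) q6290, e3 q10135 (flp_e L192407) q14456, e3 q10136 (flp_e L192399) q14455, e3 q10137 L160216 q6292, e3 q10138 (flp_e L192427) q14460, e3 q10139 (flp_e L192435) q14461, e3 q10140 L160232 q6294, e3 q10141 L160242 q6295, e3 q10142 (flp_e L192451) q14465, e3 q10143 (flp_e L192457) q14466, e3 q10144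 (flp_e L162762) q10529, e3 q10145 (flp_e L192465) q14467, e3 q10146 L160266 q6493, e3 q10147 L160270 q6494, e3 q10148 L160276 q6495, e3 q10149 L160280 q6496, e3 q10150 L160286 q6497, e3 q10151 L160294 q6498, e3 q10152 L160302 q6500, e3 q10153 L160308 q6501, e3 q10154 (flp_e L160312) q6307, e3 q10155 (flp_e L183036) q13239, e3 q10156 L160340 q8871, e3 q10157 L160344 q6506, e3 q10158 L192617 q14491, e3 q10159 (flp_e L160358) q6310, e3 q10160 (flp_e L192647) q14495, e3 q10161 L160380 q6312, e3 q10162 (flp_e L192659) q14497, e3 q10163 L160390 q6509, e3 q10164 L160400 q6510, e3 q10165 L160410 q6511, e3 q10166 L160416 q6512, e3 q10167 (flp_e L160424) q6317, e3 q10168 (flp_e L192717) q14505, e3 q10169 (flp_e L192709) q14504, e3 q10170 L160446 q6319, e3 q10171 (flp_e L192737) q14509, e3 q10172 (flp_e L192745) q14510, e3 q10173 L160462 q6321, e3 q10174 L160472 q6322, e3 q10175 (flp_e L192761) q14514, trivial⟩ (by decide +kernel)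

theorem ce_e_159 : ∀ r, r < 64 → sm ge (Qf (10176 + r)) = Qf (tab Gen.e (10176 + r)) :=
  edges_tab (sm ge) Qf (tab Gen.e) 10176 [(10176, 14515), (10177, 10480), (10178, 14516), (10179, 6526), (10180, 6527), (10181, 6528), (10182, 6529), (10183, 6530), (10184, 6531), (10185, 6533), (10186, 6534), (10187, 13102), (10188, 6535), (10189, 14541), (10190, 6330), (10191, 14544), (10192, 14545), (10193, 6540), (10194, 6541), (10195, 14549), (10196, 6333), (10197, 14551), (10198, 14552), (10199, 6335), (10200, 6336), (10201, 14556), (10202, 14557), (10203, 6549), (10204, 6550), (10205, 6551), (10206, 6552), (10207, 6555), (10208, 6556), (10209, 6557), (10210, 6343), (10211, 6344), (10212, 6345), (10213, 14567), (10214, 14568), (10215, 13115), (10216, 14579), (10217, 14570), (10218, 14571), (10219, 6571), (10220, 6572), (10221, 6573), (10222, 13162), (10223, 6574), (10224, 14592), (10225, 6350), (10226, 14595), (10227, 14596), (10228, 6579), (10229, 6580), (10230, 14600), (10231, 6353), (10232, 14603), (10233, 14602), (10234,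 6355), (10235, 6356), (10236, 14607), (10237, 14608), (10238, 6588), (10239, 6589)]
    ⟨e3 q10176 (flp_e L192767) q14515, e3 q10177 (flp_e L162450) q10480, e3 q10178 (flp_e L192775) q14516, e3 q10179 L160496 q6526, e3 q10180 L160500 q6527, e3 q10181 L160506 q6528, e3 q10182 L160510 q6529, e3 q10183 L160516 q6530, e3 q10184 L160524 q6531, e3 q10185 L160532 q6533, e3 q10186 L160538 q6534, e3 q10187 (flp_e L182161) q13102, e3 q10188 L160558 q6535, e3 q10189 L192947 q14541, e3 q10190 (flp_e L160566) q6330, e3 q10191 (flp_e L192971) q14544, e3 q10192 (flp_e L192979) q14545, e3 q10193 L160586 q6540, e3 q10194 L160592 q6541, e3 q10195 L193003 q14549, e3 q10196 (flp_e L160596) q6333, e3 q10197 (flp_e L193017) q14551, e3 q10198 (flp_e L193031) q14552, e3 q10199 L160612 q6335, e3 q10200 L160618 q6336, e3 q10201 (flp_e L193053) q14556, e3 q10202 (flp_e L193063) q14557, e3 q10203 L160636 q6549, e3 q10204 L160640 q6550, e3 q10205 L160648 q6551, e3 q10206 L160652 q6552, e3 q10207 L160656 q6555, e3 q10208 L160662 q6556, e3 q10209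 L160670 q6557, e3 q10210 L160678 q6343, e3 q10211 L160682 q6344, e3 q10212 L160688 q6345, e3 q10213 (flp_e L193113) q14567, e3 q10214 (flp_e L193119) q14568, e3 q10215 (flp_e L182253) q13115, e3 q10216 L193175 q14579, e3 q10217 (flp_e L193127) q14570, e3 q10218 (flp_e L193135) q14571, e3 q10219 L160726 q6571, e3 q10220 L160732 q6572, e3 q10221 L160736 q6573, e3 q10222 (flp_e L182529) q13162, e3 q10223 L160754 q6574, e3 q10224 L193261 q14592, e3 q10225 (flp_e L160762) q6350, e3 q10226 (flp_e L193285) q14595, e3 q10227 (flp_e L193293) q14596, e3 q10228 L160782 q6579, e3 q10229 L160786 q6580, e3 q10230 L193317 q14600, e3 q10231 (flp_e L160792) q6353, e3 q10232 (flp_e L193345) q14603, e3 q10233 (flp_e L193331) q14602, e3 q10234 L160808 q6355, e3 q10235 L160814 q6356, e3 q10236 (flp_e L193369) q14607, e3 q10237 (flp_e L193379) q14608, e3 q10238 L160832 q6588, e3 q10239 L160840 q6589, trivial⟩ (by decide +kernel)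

theorem ce_e_160 : ∀ r, r < 64 → sm ge (Qf (10240 + r)) = Qf (tab Gen.e (10240 + r)) :=
  edges_tab (sm ge) Qf (tab Gen.e) 10240 [(10240, 6590), (10241, 6591), (10242, 6594), (10243, 6595), (10244, 6596), (10245, 6363), (10246, 6364), (10247, 6365), (10248, 14618), (10249, 14619), (10250, 13174), (10251, 14628), (10252, 14621), (10253, 14622), (10254, 6608), (10255, 6609), (10256, 6610), (10257, 12622), (10258, 7943), (10259, 14639), (10260, 6370), (10261, 12216), (10262, 14642), (10263, 7479), (10264, 7691), (10265, 14647), (10266, 6373), (10267, 14651), (10268, 14652), (10269, 6375), (10270, 6376), (10271, 14657), (10272, 14658), (10273, 7948), (10274, 7695), (10275, 12633), (10276, 8001), (10277, 14668), (10278, 6380), (10279, 14671), (10280, 12275), (10281, 7855), (10282, 7488), (10283, 14676), (10284, 6383), (10285, 14680), (10286, 14681), (10287, 6385), (10288, 6386), (10289, 14686), (10290, 14687), (10291, 7859), (10292, 8006), (10293, 14695), (10294, 14196), (10295, 14697), (10296, 14198), (10297, 13623),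 (10298, 13624), (10299, 13627), (10300, 13628), (10301, 10943), (10302, 14287), (10303, 6407)]
    ⟨e3 q10240 L160844 q6590, e3 q10241 L160848 q6591, e3 q10242 L160852 q6594, e3 q10243 L160858 q6595, e3 q10244 L160866 q6596, e3 q10245 L160874 q6363, e3 q10246 L160878 q6364, e3 q10247 L160884 q6365, e3 q10248 (flp_e L193429) q14618, e3 q10249 (flp_e L193435) q14619, e3 q10250 (flp_e L182615) q13174, e3 q10251 L193479 q14628, e3 q10252 (flp_e L193443) q14621, e3 q10253 (flp_e L193451) q14622, e3 q10254 L160920 q6608, e3 q10255 L160926 q6609, e3 q10256 L160932 q6610, e3 q10257 (flp_e L178645) q12622, e3 q10258 L160950 q7943, e3 q10259 L193559 q14639, e3 q10260 (flp_e L160958) q6370, e3 q10261 (flp_e L175378) q12216, e3 q10262 (flp_e L193587) q14642, e3 q10263 L160978 q7479, e3 q10264 L160988 q7691, e3 q10265 L193617 q14647, e3 q10266 (flp_e L160994) q6373, e3 q10267 (flp_e L193647) q14651, e3 q10268 (flp_e L193653) q14652, e3 q10269 L161012 q6375, e3 q10270 L161020 q6376, e3 q10271 (flp_e L193687) q14657, e3 q10272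 (flp_e L193697) q14658, e3 q10273 L161040 q7948, e3 q10274 L161046 q7695, e3 q10275 (flp_e L178723) q12633, e3 q10276 L161064 q8001, e3 q10277 L193771 q14668, e3 q10278 (flp_e L161072) q6380, e3 q10279 (flp_e L193799) q14671, e3 q10280 (flp_e L175801) q12275, e3 q10281 L161092 q7855, e3 q10282 L161096 q7488, e3 q10283 L193829 q14676, e3 q10284 (flp_e L161108) q6383, e3 q10285 (flp_e L193863) q14680, e3 q10286 (flp_e L193869) q14681, e3 q10287 L161126 q6385, e3 q10288 L161134 q6386, e3 q10289 (flp_e L193903) q14686, e3 q10290 (flp_e L193913) q14687, e3 q10291 L161154 q7859, e3 q10292 L161160 q8006, e3 q10293 L193963 q14695, e3 q10294 (flp_e L190623) q14196, e3 q10295 L193981 q14697, e3 q10296 (flp_e L190637) q14198, e3 q10297 (flp_e L186155) q13623, e3 q10298 (flp_e L186163) q13624, e3 q10299 (flp_e L186187) q13627, e3 q10300 (flp_e L186195) q13628, e3 q10301 (flp_e L166810) q10943, e3 q10302 (flp_e L191247) q14287, e3 q10303 (flp_e L161262) q6407, trivial⟩ (by decide +kernel)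

theorem ce_e_161 : ∀ r, r < 64 → sm ge (Qf (10304 + r)) = Qf (tab Gen.e (10304 + r)) :=
  edges_tab (sm ge) Qf (tab Gen.e) 10304 [(10304, 14703), (10305, 14292), (10306, 14293), (10307, 14294), (10308, 14705), (10309, 14296), (10310, 6919), (10311, 6413), (10312, 14708), (10313, 14301), (10314, 6418), (10315, 6420), (10316, 14709), (10317, 14316), (10318, 14317), (10319, 14318), (10320, 14319), (10321, 14320), (10322, 14321), (10323, 14322), (10324, 8493), (10325, 12400), (10326, 14326), (10327, 14327), (10328, 14382), (10329, 14329), (10330, 14330), (10331, 14331), (10332, 8489), (10333, 14334), (10334, 8488), (10335, 6434), (10336, 12758), (10337, 14339), (10338, 10955), (10339, 14342), (10340, 6438), (10341, 14722), (10342, 14347), (10343, 14348), (10344, 14349), (10345, 14724), (10346, 14351), (10347, 6927), (10348, 6444), (10349, 14727), (10350, 14356), (10351, 6449), (10352, 6451), (10353, 14728), (10354, 14371), (10355, 14372), (10356, 14373), (10357, 14374), (10358, 14375), (10359, 14376), (10360, 14377),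 (10361, 8485), (10362, 12354), (10363, 14381), (10364, 14384), (10365, 14385), (10366, 14386), (10367, 8481)]
    ⟨e3 q10304 (flp_e L194045) q14703, e3 q10305 (flp_e L191273) q14292, e3 q10306 (flp_e L191281) q14293, e3 q10307 (flp_e L191291) q14294, e3 q10308 L194055 q14705, e3 q10309 (flp_e L191305) q14296, e3 q10310 (flp_e L161314) q6919, e3 q10311 (flp_e L161316) q6413, e3 q10312 (flp_e L194087) q14708, e3 q10313 (flp_e L191339) q14301, e3 q10314 L161340 q6418, e3 q10315 L161346 q6420, e3 q10316 (flp_e L194093) q14709, e3 q10317 (flp_e L191417) q14316, e3 q10318 (flp_e L191427) q14317, e3 q10319 (flp_e L191439) q14318, e3 q10320 (flp_e L191451) q14319, e3 q10321 (flp_e L191459) q14320, e3 q10322 (flp_e L191467) q14321, e3 q10323 (flp_e L191475) q14322, e3 q10324 L163264 q8493, e3 q10325 (flp_e L176815) q12400, e3 q10326 (flp_e L191501) q14326, e3 q10327 (flp_e L191511) q14327, e3 q10328 (flp_e L191892) q14382, e3 q10329 (flp_e L191525) q14329, e3 q10330 (flp_e L191531) q14330, e3 q10331 (flp_e L191539) q14331,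 e3 q10332 (flp_e L163270) q8489, e3 q10333 (flp_e L191565) q14334, e3 q10334 L163258 q8488, e3 q10335 L161478 q6434, e3 q10336 (flp_e L179651) q12758, e3 q10337 (flp_e L191607) q14339, e3 q10338 (flp_e L166893) q10955, e3 q10339 (flp_e L191630) q14342, e3 q10340 (flp_e L161513) q6438, e3 q10341 (flp_e L194207) q14722, e3 q10342 (flp_e L191654) q14347, e3 q10343 (flp_e L191662) q14348, e3 q10344 (flp_e L191672) q14349, e3 q10345 L194217 q14724, e3 q10346 (flp_e L191688) q14351, e3 q10347 (flp_e L161565) q6927, e3 q10348 (flp_e L161567) q6444, e3 q10349 (flp_e L194249) q14727, e3 q10350 (flp_e L191722) q14356, e3 q10351 L161591 q6449, e3 q10352 L161597 q6451, e3 q10353 (flp_e L194255) q14728, e3 q10354 (flp_e L191798) q14371, e3 q10355 (flp_e L191808) q14372, e3 q10356 (flp_e L191820) q14373, e3 q10357 (flp_e L191832) q14374, e3 q10358 (flp_e L191840) q14375, e3 q10359 (flp_e L191848) q14376, e3 q10360 (flp_e L191856) q14377, e3 q10361 L163449 q8485, e3 q10362 (flp_e L176392) q12354, e3 q10363 (flp_e L191882) q14381,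 e3 q10364 (flp_e L191906) q14384, e3 q10365 (flp_e L191914) q14385, e3 q10366 (flp_e L191922) q14386, e3 q10367 L163451 q8481, trivial⟩ (by decide +kernel)

theorem ce_e_162 : ∀ r, r < 64 → sm ge (Qf (10368 + r)) = Qf (tab Gen.e (10368 + r)) :=
  edges_tab (sm ge) Qf (tab Gen.e) 10368 [(10368, 14389), (10369, 8480), (10370, 6465), (10371, 12754), (10372, 14394), (10373, 13220), (10374, 14440), (10375, 6474), (10376, 14740), (10377, 14741), (10378, 14742), (10379, 14452), (10380, 14453), (10381, 6819), (10382, 14454), (10383, 6822), (10384, 6899), (10385, 7442), (10386, 7443), (10387, 6488), (10388, 6491), (10389, 6492), (10390, 14748), (10391, 14749), (10392, 14750), (10393, 14476), (10394, 14477), (10395, 14478), (10396, 14479), (10397, 14480), (10398, 14481), (10399, 14482), (10400, 14483), (10401, 8470), (10402, 14484), (10403, 14485), (10404, 14486), (10405, 6728), (10406, 14487), (10407, 13240), (10408, 14489), (10409, 6508), (10410, 14761), (10411, 14762), (10412, 14763), (10413, 14501), (10414, 14502), (10415,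 6745), (10416, 14503), (10417, 6748), (10418, 6901), (10419, 7444), (10420, 7445), (10421, 6521), (10422, 6524), (10423, 6525), (10424, 14769), (10425, 14770), (10426, 14771), (10427, 14525), (10428, 14526), (10429, 14527), (10430, 14528), (10431, 14529)]
    ⟨e3 q10368 (flp_e L191946) q14389, e3 q10369 (flp_e L163469) q8480, e3 q10370 L161729 q6465, e3 q10371 (flp_e L179623) q12754, e3 q10372 (flp_e L191988) q14394, e3 q10373 (flp_e L182903) q13220, e3 q10374 (flp_e L192299) q14440, e3 q10375 L161758 q6474, e3 q10376 (flp_e L194368) q14740, e3 q10377 (flp_e L194374) q14741, e3 q10378 (flp_e L194382) q14742, e3 q10379 (flp_e L192367) q14452, e3 q10380 (flp_e L192377) q14453, e3 q10381 L161794 q6819, e3 q10382 (flp_e L192385) q14454, e3 q10383 L161810 q6822, e3 q10384 L161820 q6899, e3 q10385 L161830 q7442, e3 q10386 L161840 q7443, e3 q10387 L161852 q6488, e3 q10388 L161860 q6491, e3 q10389 L161866 q6492, e3 q10390 (flp_e L194440) q14748, e3 q10391 (flp_e L194452) q14749, e3 q10392 (flp_e L194458) q14750, e3 q10393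 (flp_e L192505) q14476, e3 q10394 (flp_e L192509) q14477, e3 q10395 (flp_e L192515) q14478, e3 q10396 (flp_e L192523) q14479, e3 q10397 (flp_e L192531) q14480, e3 q10398 (flp_e L192537) q14481, e3 q10399 (flp_e L192547) q14482, e3 q10400 (flp_e L192555) q14483, e3 q10401 L163616 q8470, e3 q10402 (flp_e L192565) q14484, e3 q10403 (flp_e L192571) q14485, e3 q10404 (flp_e L192579) q14486, e3 q10405 L163614 q6728, e3 q10406 (flp_e L192589) q14487, e3 q10407 (flp_e L183042) q13240, e3 q10408 (flp_e L192609) q14489, e3 q10409 L161988 q6508, e3 q10410 (flp_e L194561) q14761, e3 q10411 (flp_e L194567) q14762, e3 q10412 (flp_e L194575) q14763, e3 q10413 (flp_e L192677) q14501, e3 q10414 (flp_e L192687) q14502, e3 q10415 L162024 q6745, e3 q10416 (flp_e L192695) q14503, e3 q10417 L162040 q6748, e3 q10418 L162050 q6901, e3 q10419 L162060 q7444, e3 q10420 L162070 q7445, e3 q10421 L162084 q6521, e3 q10422 L162094 q6524, e3 q10423 L162100 q6525, e3 q10424 (flp_e L194633) q14769, e3 q10425 (flp_e L194645) q14770, e3 q10426 (flp_e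 L194651) q14771, e3 q10427 (flp_e L192827) q14525, e3 q10428 (flp_e L192831) q14526, e3 q10429 (flp_e L192837) q14527, e3 q10430 (flp_e L192845) q14528, e3 q10431 (flp_e L192853) q14529, trivial⟩ (by decide +kernel)

theorem ce_e_163 : ∀ r, r < 64 → sm ge (Qf (10432 + r)) = Qf (tab Gen.e (10432 + r)) :=
  edges_tab (sm ge) Qf (tab Gen.e) 10432 [(10432, 14530), (10433, 14531), (10434, 14532), (10435, 8459), (10436, 14533), (10437, 14534), (10438, 14535), (10439, 6800), (10440, 14536), (10441, 14538), (10442, 6536), (10443, 14781), (10444, 6538), (10445, 6539), (10446, 14782), (10447, 14547), (10448, 14548), (10449, 8451), (10450, 6543), (10451, 14784), (10452, 6546), (10453, 6547), (10454, 6548), (10455, 14785), (10456, 14786), (10457, 14787), (10458, 14788), (10459, 14560), (10460, 14561), (10461, 14562), (10462, 14563), (10463, 6554), (10464, 14793), (10465, 14564), (10466, 14565), (10467, 14566), (10468, 8351), (10469, 8352), (10470, 12620), (10471, 12619), (10472, 6562), (10473, 6563), (10474, 6564), (10475,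 14801), (10476, 14802), (10477, 14804), (10478, 6568), (10479, 6569), (10480, 10177), (10481, 6570), (10482, 14805), (10483, 14806), (10484, 14807), (10485, 14809), (10486, 14584), (10487, 13783), (10488, 14585), (10489, 14586), (10490, 14587), (10491, 14589), (10492, 6575), (10493, 14815), (10494, 6577), (10495, 6578)]
    ⟨e3 q10432 (flp_e L192859) q14530, e3 q10433 (flp_e L192869) q14531, e3 q10434 (flp_e L192877) q14532, e3 q10435 L163778 q8459, e3 q10436 (flp_e L192887) q14533, e3 q10437 (flp_e L192893) q14534, e3 q10438 (flp_e L192901) q14535, e3 q10439 L163776 q6800, e3 q10440 (flp_e L192911) q14536, e3 q10441 (flp_e L192931) q14538, e3 q10442 (flp_e L162206) q6536, e3 q10443 (flp_e L194751) q14781, e3 q10444 L162228 q6538, e3 q10445 L162234 q6539, e3 q10446 (flp_e L194757) q14782, e3 q10447 (flp_e L192991) q14547, e3 q10448 (flp_e L192999) q14548, e3 q10449 L162263 q8451, e3 q10450 L162271 q6543, e3 q10451 (flp_e L194783) q14784, e3 q10452 L162287 q6546, e3 q10453 L162293 q6547, e3 q10454 L162301 q6548,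 e3 q10455 (flp_e L194791) q14785, e3 q10456 (flp_e L194799) q14786, e3 q10457 (flp_e L194811) q14787, e3 q10458 (flp_e L194817) q14788, e3 q10459 (flp_e L193077) q14560, e3 q10460 (flp_e L193083) q14561, e3 q10461 (flp_e L193087) q14562, e3 q10462 (flp_e L193091) q14563, e3 q10463 L162352 q6554, e3 q10464 (flp_e L194863) q14793, e3 q10465 (flp_e L193097) q14564, e3 q10466 (flp_e L193101) q14565, e3 q10467 (flp_e L193105) q14566, e3 q10468 L162368 q8351, e3 q10469 L162376 q8352, e3 q10470 (flp_e L178627) q12620, e3 q10471 (flp_e L178619) q12619, e3 q10472 L162390 q6562, e3 q10473 L162396 q6563, e3 q10474 L162404 q6564, e3 q10475 (flp_e L194943) q14801, e3 q10476 (flp_e L194953) q14802, e3 q10477 (flp_e L194973) q14804, e3 q10478 L162434 q6568, e3 q10479 L162440 q6569, e3 q10480 L162450 q10177, e3 q10481 L162458 q6570, e3 q10482 (flp_e L194981) q14805, e3 q10483 (flp_e L194985) q14806, e3 q10484 (flp_e L194989) q14807, e3 q10485 (flp_e L195003) q14809, e3 q10486 (flp_e L193205) q14584, e3 q10487 (flp_e L187501) q13783,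 e3 q10488 (flp_e L193211) q14585, e3 q10489 (flp_e L193219) q14586, e3 q10490 (flp_e L193227) q14587, e3 q10491 (flp_e L193245) q14589, e3 q10492 (flp_e L162524) q6575, e3 q10493 (flp_e L195061) q14815, e3 q10494 L162546 q6577, e3 q10495 L162552 q6578, trivial⟩ (by decide +kernel)

theorem ce_e_164 : ∀ r, r < 64 → sm ge (Qf (10496 + r)) = Qf (tab Gen.e (10496 + r)) :=
  edges_tab (sm ge) Qf (tab Gen.e) 10496 [(10496, 14816), (10497, 14598), (10498, 14599), (10499, 8462), (10500, 6582), (10501, 14818), (10502, 6585), (10503, 6586), (10504, 6587), (10505, 14819), (10506, 14820), (10507, 14821), (10508, 14822), (10509, 14611), (10510, 14612), (10511, 14613), (10512, 14614), (10513, 6593), (10514, 14825), (10515, 14615), (10516, 14616), (10517, 14617), (10518, 8355), (10519, 8356), (10520, 12618), (10521, 12617), (10522, 6601), (10523, 6602), (10524, 6603), (10525, 14833), (10526, 14834), (10527, 14836), (10528, 6607), (10529, 10144), (10530, 14837), (10531, 14838), (10532, 13775), (10533, 14633), (10534, 14634), (10535,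 14635), (10536, 14636), (10537, 9411), (10538, 13603), (10539, 8450), (10540, 8449), (10541, 10562), (10542, 10694), (10543, 10544), (10544, 10543), (10545, 6623), (10546, 6622), (10547, 14843), (10548, 6630), (10549, 6631), (10550, 6632), (10551, 6628), (10552, 6629), (10553, 14848), (10554, 14845), (10555, 14846), (10556, 14847), (10557, 12643), (10558, 6637), (10559, 6638)]
    ⟨e3 q10496 (flp_e L195067) q14816, e3 q10497 (flp_e L193305) q14598, e3 q10498 (flp_e L193313) q14599, e3 q10499 L162581 q8462, e3 q10500 L162589 q6582, e3 q10501 (flp_e L195093) q14818, e3 q10502 L162605 q6585, e3 q10503 L162611 q6586, e3 q10504 L162619 q6587, e3 q10505 (flp_e L195103) q14819, e3 q10506 (flp_e L195115) q14820, e3 q10507 (flp_e L195121) q14821, e3 q10508 (flp_e L195125) q14822, e3 q10509 (flp_e L193393) q14611, e3 q10510 (flp_e L193397) q14612, e3 q10511 (flp_e L193401) q14613, e3 q10512 (flp_e L193407) q14614, e3 q10513 L162670 q6593, e3 q10514 (flp_e L195149) q14825, e3 q10515 (flp_e L193413) q14615, e3 q10516 (flp_e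 L193417) q14616, e3 q10517 (flp_e L193421) q14617, e3 q10518 L162686 q8355, e3 q10519 L162694 q8356, e3 q10520 (flp_e L178611) q12618, e3 q10521 (flp_e L178603) q12617, e3 q10522 L162712 q6601, e3 q10523 L162718 q6602, e3 q10524 L162726 q6603, e3 q10525 (flp_e L195229) q14833, e3 q10526 (flp_e L195239) q14834, e3 q10527 (flp_e L195259) q14836, e3 q10528 L162756 q6607, e3 q10529 L162762 q10144, e3 q10530 (flp_e L195267) q14837, e3 q10531 (flp_e L195271) q14838, e3 q10532 (flp_e L187429) q13775, e3 q10533 (flp_e L193509) q14633, e3 q10534 (flp_e L193515) q14634, e3 q10535 (flp_e L193523) q14635, e3 q10536 (flp_e L193531) q14636, e3 q10537 L162818 q9411, e3 q10538 (flp_e L185987) q13603, e3 q10539 L162835 q8450, e3 q10540 L162843 q8449, e3 q10541 (flp_e L163061) q10562, e3 q10542 (flp_e L164973) q10694, e3 q10543 (flp_e L162883) q10544, e3 q10544 L162883 q10543, e3 q10545 L162913 q6623, e3 q10546 L162921 q6622, e3 q10547 (flp_e L195307) q14843, e3 q10548 L162935 q6630, e3 q10549 L162949 q6631, e3 q10550 L162957 q6632,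 e3 q10551 L162965 q6628, e3 q10552 L162971 q6629, e3 q10553 (flp_e L195364) q14848, e3 q10554 (flp_e L195328) q14845, e3 q10555 (flp_e L195342) q14846, e3 q10556 (flp_e L195352) q14847, e3 q10557 (flp_e L178793) q12643, e3 q10558 L163025 q6637, e3 q10559 L163035 q6638, trivial⟩ (by decide +kernel)

theorem ce_e_165 : ∀ r, r < 64 → sm ge (Qf (10560 + r)) = Qf (tab Gen.e (10560 + r)) :=
  edges_tab (sm ge) Qf (tab Gen.e) 10560 [(10560, 6639), (10561, 6640), (10562, 10541), (10563, 14850), (10564, 14855), (10565, 14851), (10566, 11954), (10567, 6645), (10568, 6643), (10569, 6644), (10570, 12658), (10571, 12653), (10572, 14859), (10573, 6649), (10574, 6650), (10575, 14862), (10576, 6652), (10577, 14754), (10578, 14864), (10579, 12157), (10580, 14868), (10581, 6651), (10582, 14870), (10583, 12756), (10584, 6654), (10585, 11919), (10586, 14873), (10587, 8056), (10588, 12127), (10589, 6656), (10590, 14875), (10591, 6657), (10592, 9412), (10593, 13604), (10594, 8447), (10595, 8446), (10596, 10614), (10597, 10778), (10598,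 10599), (10599, 10598), (10600, 6671), (10601, 6670), (10602, 14877), (10603, 6678), (10604, 6679), (10605, 6680), (10606, 6676), (10607, 6677), (10608, 14879), (10609, 14880), (10610, 12652), (10611, 6683), (10612, 6684), (10613, 6685), (10614, 10596), (10615, 14882), (10616, 14887), (10617, 14883), (10618, 6690), (10619, 6688), (10620, 6689), (10621, 12649), (10622, 12644), (10623, 14890)]
    ⟨e3 q10560 L163047 q6639, e3 q10561 L163051 q6640, e3 q10562 L163061 q10541, e3 q10563 (flp_e L195386) q14850, e3 q10564 L195426 q14855, e3 q10565 (flp_e L195400) q14851, e3 q10566 L173425 q11954, e3 q10567 L163099 q6645, e3 q10568 L163103 q6643, e3 q10569 L163113 q6644, e3 q10570 (flp_e L178937) q12658, e3 q10571 (flp_e L178892) q12653, e3 q10572 (flp_e L195462) q14859, e3 q10573 L164023 q6649, e3 q10574 L164029 q6650, e3 q10575 L195478 q14862, e3 q10576 L164043 q6652, e3 q10577 (flp_e L194496) q14754, e3 q10578 L195494 q14864, e3 q10579 L174936 q12157, e3 q10580 L195534 q14868, e3 q10581 (flp_e L164081) q6651, e3 q10582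 (flp_e L195548) q14870, e3 q10583 (flp_e L179633) q12756, e3 q10584 (flp_e L164101) q6654, e3 q10585 L173198 q11919, e3 q10586 L195572 q14873, e3 q10587 L164125 q8056, e3 q10588 (flp_e L174739) q12127, e3 q10589 (flp_e L164135) q6656, e3 q10590 L195590 q14875, e3 q10591 (flp_e L164149) q6657, e3 q10592 L164163 q9412, e3 q10593 (flp_e L186001) q13604, e3 q10594 L164182 q8447, e3 q10595 L164190 q8446, e3 q10596 (flp_e L164372) q10614, e3 q10597 (flp_e L165594) q10778, e3 q10598 (flp_e L164230) q10599, e3 q10599 L164230 q10598, e3 q10600 L164244 q6671, e3 q10601 L164252 q6670, e3 q10602 (flp_e L195616) q14877, e3 q10603 L164268 q6678, e3 q10604 L164278 q6679, e3 q10605 L164288 q6680, e3 q10606 L164294 q6676, e3 q10607 L164304 q6677, e3 q10608 (flp_e L195639) q14879, e3 q10609 (flp_e L195649) q14880, e3 q10610 (flp_e L178884) q12652, e3 q10611 L164340 q6683, e3 q10612 L164350 q6684, e3 q10613 L164362 q6685, e3 q10614 L164372 q10596, e3 q10615 (flp_e L195671) q14882, e3 q10616 L195711 q14887, e3 q10617 (flp_e L195685)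 q14883, e3 q10618 L164404 q6690, e3 q10619 L164408 q6688, e3 q10620 L164418 q6689, e3 q10621 (flp_e L178846) q12649, e3 q10622 (flp_e L178801) q12644, e3 q10623 (flp_e L195741) q14890, trivial⟩ (by decide +kernel)

theorem ce_e_166 : ∀ r, r < 64 → sm ge (Qf (10624 + r)) = Qf (tab Gen.e (10624 + r)) :=
  edges_tab (sm ge) Qf (tab Gen.e) 10624 [(10624, 6694), (10625, 14893), (10626, 6696), (10627, 14775), (10628, 14895), (10629, 14897), (10630, 6695), (10631, 14899), (10632, 12752), (10633, 6698), (10634, 12125), (10635, 11921), (10636, 8099), (10637, 11839), (10638, 6861), (10639, 6870), (10640, 10643), (10641, 10644), (10642, 10645), (10643, 10640), (10644, 10641), (10645, 10642), (10646, 7185), (10647, 8378), (10648, 8482), (10649, 6711), (10650, 9267), (10651, 10685), (10652, 6747), (10653, 10684), (10654, 10682), (10655, 6730), (10656, 6725), (10657, 13590), (10658, 13582), (10659, 13588), (10660, 14908), (10661, 13587), (10662, 12209), (10663, 6727), (10664, 6757), (10665, 10674), (10666, 14907), (10667, 11957),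 (10668, 11343), (10669, 9276), (10670, 9277), (10671, 9278), (10672, 13589), (10673, 13591), (10674, 10665), (10675, 13596), (10676, 6750), (10677, 6751), (10678, 6739), (10679, 6754), (10680, 6759), (10681, 6760), (10682, 10654), (10683, 13680), (10684, 10653), (10685, 10651), (10686, 14924), (10687, 6749)]
    ⟨e3 q10624 L164448 q6694, e3 q10625 L195757 q14893, e3 q10626 L164458 q6696, e3 q10627 (flp_e L194689) q14775, e3 q10628 L195773 q14895, e3 q10629 L195791 q14897, e3 q10630 (flp_e L164484) q6695, e3 q10631 (flp_e L195805) q14899, e3 q10632 (flp_e L179605) q12752, e3 q10633 (flp_e L164504) q6698, e3 q10634 L174717 q12125, e3 q10635 (flp_e L173220) q11921, e3 q10636 L164528 q8099, e3 q10637 (flp_e L172605) q11839, e3 q10638 L164543 q6861, e3 q10639 L164549 q6870, e3 q10640 (flp_e L164574) q10643, e3 q10641 (flp_e L164578) q10644, e3 q10642 (flp_e L164587) q10645, e3 q10643 L164574 q10640, e3 q10644 L164578 q10641, e3 q10645 L164587 q10642, e3 q10646 L164597 q7185, e3 q10647 L164611 q8378, e3 q10648 L164621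 q8482, e3 q10649 L164633 q6711, e3 q10650 L164643 q9267, e3 q10651 (flp_e L164913) q10685, e3 q10652 L164657 q6747, e3 q10653 (flp_e L164903) q10684, e3 q10654 (flp_e L164893) q10682, e3 q10655 L164677 q6730, e3 q10656 L164685 q6725, e3 q10657 (flp_e L185865) q13590, e3 q10658 (flp_e L185781) q13582, e3 q10659 (flp_e L185845) q13588, e3 q10660 (flp_e L195886) q14908, e3 q10661 (flp_e L185835) q13587, e3 q10662 L175320 q12209, e3 q10663 (flp_e L164725) q6727, e3 q10664 L164739 q6757, e3 q10665 (flp_e L164811) q10674, e3 q10666 (flp_e L195880) q14907, e3 q10667 L173469 q11957, e3 q10668 (flp_e L169357) q11343, e3 q10669 L164767 q9276, e3 q10670 L164775 q9277, e3 q10671 L164783 q9278, e3 q10672 (flp_e L185859) q13589, e3 q10673 (flp_e L185877) q13591, e3 q10674 L164811 q10665, e3 q10675 (flp_e L185929) q13596, e3 q10676 L164833 q6750, e3 q10677 L164839 q6751, e3 q10678 (flp_e L164843) q6739, e3 q10679 L164857 q6754, e3 q10680 L164869 q6759, e3 q10681 L164883 q6760, e3 q10682 L164893 q10654, e3 q10683 (flp_e L186623)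 q13680, e3 q10684 L164903 q10653, e3 q10685 L164913 q10651, e3 q10686 L196043 q14924, e3 q10687 (flp_e L164925) q6749, trivial⟩ (by decide +kernel)

theorem ce_e_167 : ∀ r, r < 64 → sm ge (Qf (10688 + r)) = Qf (tab Gen.e (10688 + r)) :=
  edges_tab (sm ge) Qf (tab Gen.e) 10688 [(10688, 14921), (10689, 13706), (10690, 14922), (10691, 14919), (10692, 12345), (10693, 14916), (10694, 10542), (10695, 9328), (10696, 6766), (10697, 14928), (10698, 6768), (10699, 6769), (10700, 6762), (10701, 10846), (10702, 10766), (10703, 10730), (10704, 10844), (10705, 6765), (10706, 14926), (10707, 14934), (10708, 14927), (10709, 10845), (10710, 6767), (10711, 14938), (10712, 10729), (10713, 12165), (10714, 14940), (10715, 6771), (10716, 14942), (10717, 8109), (10718, 6774), (10719, 14943), (10720, 14944), (10721, 14945), (10722, 12341), (10723, 12346), (10724, 12053), (10725, 6883), (10726, 6892), (10727, 10728), (10728, 10727), (10729, 10712), (10730, 10703), (10731, 7287), (10732, 8385), (10733, 8490), (10734, 6786), (10735, 10769),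 (10736, 6820), (10737, 9275), (10738, 10768), (10739, 6802), (10740, 6797), (10741, 13563), (10742, 14956), (10743, 13562), (10744, 12026), (10745, 6799), (10746, 6831), (10747, 10758), (10748, 14955), (10749, 12160), (10750, 11502), (10751, 13567)]
    ⟨e3 q10688 (flp_e L196005) q14921, e3 q10689 (flp_e L186887) q13706, e3 q10690 (flp_e L196019) q14922, e3 q10691 (flp_e L195984) q14919, e3 q10692 (flp_e L176304) q12345, e3 q10693 (flp_e L195960) q14916, e3 q10694 L164973 q10542, e3 q10695 L164983 q9328, e3 q10696 L164993 q6766, e3 q10697 L196081 q14928, e3 q10698 L165001 q6768, e3 q10699 L165005 q6769, e3 q10700 (flp_e L165007) q6762, e3 q10701 (flp_e L166130) q10846, e3 q10702 (flp_e L165506) q10766, e3 q10703 (flp_e L165198) q10730, e3 q10704 (flp_e L166100) q10844, e3 q10705 (flp_e L165037) q6765, e3 q10706 (flp_e L196061) q14926, e3 q10707 L196119 q14934, e3 q10708 (flp_e L196077) q14927, e3 q10709 (flp_e L166114) q10845, e3 q10710 (flp_e L165055) q6767, e3 q10711 (flp_e L196146) q14938, e3 q10712 (flp_e L165185)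 q10729, e3 q10713 (flp_e L175017) q12165, e3 q10714 L196153 q14940, e3 q10715 (flp_e L165084) q6771, e3 q10716 (flp_e L196175) q14942, e3 q10717 L165104 q8109, e3 q10718 L165110 q6774, e3 q10719 (flp_e L196183) q14943, e3 q10720 (flp_e L196189) q14944, e3 q10721 (flp_e L196201) q14945, e3 q10722 (flp_e L176280) q12341, e3 q10723 (flp_e L176314) q12346, e3 q10724 (flp_e L174116) q12053, e3 q10725 L165153 q6883, e3 q10726 L165159 q6892, e3 q10727 (flp_e L165181) q10728, e3 q10728 L165181 q10727, e3 q10729 L165185 q10712, e3 q10730 L165198 q10703, e3 q10731 L165208 q7287, e3 q10732 L165222 q8385, e3 q10733 L165232 q8490, e3 q10734 L165244 q6786, e3 q10735 (flp_e L165528) q10769, e3 q10736 L165264 q6820, e3 q10737 L165272 q9275, e3 q10738 (flp_e L165518) q10768, e3 q10739 L165286 q6802, e3 q10740 L165294 q6797, e3 q10741 (flp_e L185581) q13563, e3 q10742 (flp_e L196297) q14956, e3 q10743 (flp_e L185571) q13562, e3 q10744 L173907 q12026, e3 q10745 (flp_e L165320) q6799, e3 q10746 L165334 q6831, e3 q10747 (flp_e L165424)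 q10758, e3 q10748 (flp_e L196289) q14955, e3 q10749 L174976 q12160, e3 q10750 (flp_e L170356) q11502, e3 q10751 (flp_e L185625) q13567, trivial⟩ (by decide +kernel)

theorem ce_e_168 : ∀ r, r < 64 → sm ge (Qf (10752 + r)) = Qf (tab Gen.e (10752 + r)) :=
  edges_tab (sm ge) Qf (tab Gen.e) 10752 [(10752, 13555), (10753, 9310), (10754, 9325), (10755, 9326), (10756, 13566), (10757, 13569), (10758, 10747), (10759, 13575), (10760, 6824), (10761, 6825), (10762, 6813), (10763, 6828), (10764, 6833), (10765, 6834), (10766, 10702), (10767, 13689), (10768, 10738), (10769, 10735), (10770, 14972), (10771, 6823), (10772, 14969), (10773, 13708), (10774, 14970), (10775, 14967), (10776, 12392), (10777, 14963), (10778, 10597), (10779, 9280), (10780, 6840), (10781, 14976), (10782, 6842), (10783, 6843), (10784, 6836), (10785, 10825), (10786, 10823), (10787, 6839), (10788, 14974), (10789, 14982), (10790, 10824), (10791, 14975), (10792, 6841), (10793, 14986), (10794, 11962), (10795, 14988), (10796, 6845), (10797, 14990), (10798, 8065),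 (10799, 6848), (10800, 14991), (10801, 14992), (10802, 14993), (10803, 12386), (10804, 12391), (10805, 6856), (10806, 11840), (10807, 6862), (10808, 11847), (10809, 14997), (10810, 13389), (10811, 6860), (10812, 13388), (10813, 15002), (10814, 14902), (10815, 6867)]
    ⟨e3 q10752 (flp_e L185513) q13555, e3 q10753 L165376 q9310, e3 q10754 L165384 q9325, e3 q10755 L165392 q9326, e3 q10756 (flp_e L185619) q13566, e3 q10757 (flp_e L185657) q13569, e3 q10758 L165424 q10747, e3 q10759 (flp_e L185711) q13575, e3 q10760 L165446 q6824, e3 q10761 L165452 q6825, e3 q10762 (flp_e L165456) q6813, e3 q10763 L165470 q6828, e3 q10764 L165482 q6833, e3 q10765 L165496 q6834, e3 q10766 L165506 q10702, e3 q10767 (flp_e L186708) q13689, e3 q10768 L165518 q10738, e3 q10769 L165528 q10735, e3 q10770 L196456 q14972, e3 q10771 (flp_e L165546) q6823, e3 q10772 (flp_e L196418) q14969, e3 q10773 (flp_e L186911) q13708, e3 q10774 (flp_e L196432) q14970, e3 q10775 (flp_e L196397) q14967, e3 q10776 (flp_e L176735) q12392, e3 q10777 (flp_e L196359)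 q14963, e3 q10778 L165594 q10597, e3 q10779 L165604 q9280, e3 q10780 L165614 q6840, e3 q10781 L196494 q14976, e3 q10782 L165622 q6842, e3 q10783 L165628 q6843, e3 q10784 (flp_e L165632) q6836, e3 q10785 (flp_e L165945) q10825, e3 q10786 (flp_e L165915) q10823, e3 q10787 (flp_e L165662) q6839, e3 q10788 (flp_e L196474) q14974, e3 q10789 L196540 q14982, e3 q10790 (flp_e L165929) q10824, e3 q10791 (flp_e L196490) q14975, e3 q10792 (flp_e L165690) q6841, e3 q10793 (flp_e L196565) q14986, e3 q10794 (flp_e L173510) q11962, e3 q10795 L196572 q14988, e3 q10796 (flp_e L165714) q6845, e3 q10797 (flp_e L196594) q14990, e3 q10798 L165736 q8065, e3 q10799 L165742 q6848, e3 q10800 (flp_e L196604) q14991, e3 q10801 (flp_e L196610) q14992, e3 q10802 (flp_e L196624) q14993, e3 q10803 (flp_e L176689) q12386, e3 q10804 (flp_e L176725) q12391, e3 q10805 L165786 q6856, e3 q10806 (flp_e L172616) q11840, e3 q10807 L165802 q6862, e3 q10808 (flp_e L172665) q11847, e3 q10809 (flp_e L196655) q14997, e3 q10810 (flp_e L184207) q13389, e3 q10811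 L165826 q6860, e3 q10812 (flp_e L184197) q13388, e3 q10813 (flp_e L196697) q15002, e3 q10814 (flp_e L195831) q14902, e3 q10815 L165855 q6867, trivial⟩ (by decide +kernel)

theorem ce_e_169 : ∀ r, r < 64 → sm ge (Qf (10816 + r)) = Qf (tab Gen.e (10816 + r)) :=
  edges_tab (sm ge) Qf (tab Gen.e) 10816 [(10816, 6868), (10817, 6869), (10818, 6871), (10819, 14925), (10820, 9293), (10821, 15006), (10822, 14977), (10823, 10786), (10824, 10790), (10825, 10785), (10826, 6877), (10827, 12052), (10828, 6882), (10829, 12060), (10830, 15011), (10831, 13442), (10832, 6880), (10833, 15015), (10834, 13440), (10835, 14950), (10836, 6888), (10837, 6889), (10838, 6890), (10839, 6891), (10840, 14973), (10841, 9289), (10842, 15018), (10843, 14929), (10844, 10704), (10845, 10709), (10846, 10701), (10847, 7446), (10848, 15024), (10849, 7448), (10850, 7449), (10851, 15028), (10852, 7451), (10853, 14745), (10854, 7539), (10855, 14766), (10856, 7584), (10857, 11733), (10858, 7470), (10859, 7471), (10860, 7472), (10861, 7473), (10862, 11776),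 (10863, 7475), (10864, 7476), (10865, 7477), (10866, 7478), (10867, 9491), (10868, 9970), (10869, 15037), (10870, 14200), (10871, 14201), (10872, 11136), (10873, 14202), (10874, 11134), (10875, 9492), (10876, 9972), (10877, 15049), (10878, 14204), (10879, 14205)]
    ⟨e3 q10816 L165867 q6868, e3 q10817 L165873 q6869, e3 q10818 L165881 q6871, e3 q10819 (flp_e L196053) q14925, e3 q10820 L165899 q9293, e3 q10821 (flp_e L196731) q15006, e3 q10822 (flp_e L196504) q14977, e3 q10823 L165915 q10786, e3 q10824 L165929 q10790, e3 q10825 L165945 q10785, e3 q10826 L165955 q6877, e3 q10827 (flp_e L174106) q12052, e3 q10828 L165971 q6882, e3 q10829 (flp_e L174170) q12060, e3 q10830 (flp_e L196767) q15011, e3 q10831 (flp_e L184589) q13442, e3 q10832 L165997 q6880, e3 q10833 (flp_e L196805) q15015, e3 q10834 (flp_e L184567) q13440, e3 q10835 (flp_e L196238) q14950, e3 q10836 L166038 q6888, e3 q10837 L166050 q6889, e3 q10838 L166056 q6890, e3 q10839 L166064 q6891, e3 q10840 (flp_e L196466) q14973, e3 q10841 L166084 q9289, e3 q10842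 (flp_e L196833) q15018, e3 q10843 (flp_e L196091) q14929, e3 q10844 L166100 q10704, e3 q10845 L166114 q10709, e3 q10846 L166130 q10701, e3 q10847 L166138 q7446, e3 q10848 L196873 q15024, e3 q10849 L166148 q7448, e3 q10850 L166154 q7449, e3 q10851 L196899 q15028, e3 q10852 L166164 q7451, e3 q10853 (flp_e L194409) q14745, e3 q10854 L166177 q7539, e3 q10855 (flp_e L194602) q14766, e3 q10856 L166193 q7584, e3 q10857 (flp_e L171908) q11733, e3 q10858 L166215 q7470, e3 q10859 L166224 q7471, e3 q10860 L166236 q7472, e3 q10861 L166242 q7473, e3 q10862 (flp_e L172199) q11776, e3 q10863 L166263 q7475, e3 q10864 L166272 q7476, e3 q10865 L166284 q7477, e3 q10866 L166290 q7478, e3 q10867 L166298 q9491, e3 q10868 L166308 q9970, e3 q10869 L196959 q15037, e3 q10870 (flp_e L190649) q14200, e3 q10871 (flp_e L190655) q14201, e3 q10872 (flp_e L168096) q11136, e3 q10873 (flp_e L190665) q14202, e3 q10874 (flp_e L168084) q11134, e3 q10875 L166348 q9492, e3 q10876 L166358 q9972, e3 q10877 L197037 q15049, e3 q10878 (flp_e L190679) q14204,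 e3 q10879 (flp_e L190685) q14205, trivial⟩ (by decide +kernel)

theorem ce_e_170 : ∀ r, r < 64 → sm ge (Qf (10880 + r)) = Qf (tab Gen.e (10880 + r)) :=
  edges_tab (sm ge) Qf (tab Gen.e) 10880 [(10880, 11206), (10881, 14206), (10882, 11203), (10883, 12605), (10884, 14707), (10885, 7483), (10886, 7484), (10887, 15060), (10888, 7486), (10889, 7487), (10890, 12612), (10891, 14726), (10892, 7492), (10893, 7493), (10894, 15065), (10895, 7495), (10896, 7496), (10897, 10897), (10898, 10898), (10899, 10899), (10900, 10900), (10901, 10901), (10902, 10902), (10903, 10903), (10904, 14209), (10905, 14210), (10906, 14211), (10907, 14212), (10908, 10908), (10909, 10909), (10910, 10910), (10911, 10911), (10912, 10912), (10913, 10913), (10914, 14213), (10915, 14214), (10916, 15080), (10917, 14216), (10918, 14217), (10919, 14218), (10920, 15085), (10921, 14220), (10922, 9392), (10923, 12942), (10924, 15088), (10925, 14222), (10926, 11153), (10927, 14286), (10928, 6954), (10929, 15092), (10930, 14225), (10931, 14226), (10932, 12926),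 (10933, 9397), (10934, 15098), (10935, 14228), (10936, 11221), (10937, 14341), (10938, 6960), (10939, 15102), (10940, 14231), (10941, 14232), (10942, 7501), (10943, 10301)]
    ⟨e3 q10880 (flp_e L168488) q11206, e3 q10881 (flp_e L190695) q14206, e3 q10882 (flp_e L168466) q11203, e3 q10883 (flp_e L178515) q12605, e3 q10884 (flp_e L194079) q14707, e3 q10885 L166408 q7483, e3 q10886 L166416 q7484, e3 q10887 L197095 q15060, e3 q10888 L166428 q7486, e3 q10889 L166434 q7487, e3 q10890 (flp_e L178569) q12612, e3 q10891 (flp_e L194241) q14726, e3 q10892 L166454 q7492, e3 q10893 L166462 q7493, e3 q10894 L197117 q15065, e3 q10895 L166474 q7495, e3 q10896 L166480 q7496, e3 q10897 L166493 q10897, e3 q10898 L166501 q10898, e3 q10899 L166510 q10899, e3 q10900 L166516 q10900, e3 q10901 L166524 q10901, e3 q10902 L166531 q10902, e3 q10903 L166541 q10903, e3 q10904 (flp_e L190705) q14209, e3 q10905 (flp_e L190714) q14210, e3 q10906 (flp_e L190719) q14211, e3 q10907 (flp_e L190728) q14212, e3 q10908 L166562 q10908, e3 q10909 L166566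 q10909, e3 q10910 L166594 q10910, e3 q10911 L166601 q10911, e3 q10912 L166605 q10912, e3 q10913 L166612 q10913, e3 q10914 (flp_e L190735) q14213, e3 q10915 (flp_e L190742) q14214, e3 q10916 L197210 q15080, e3 q10917 (flp_e L190754) q14216, e3 q10918 (flp_e L190762) q14217, e3 q10919 (flp_e L190769) q14218, e3 q10920 L197243 q15085, e3 q10921 (flp_e L190781) q14220, e3 q10922 L166686 q9392, e3 q10923 (flp_e L181047) q12942, e3 q10924 L197261 q15088, e3 q10925 (flp_e L190795) q14222, e3 q10926 (flp_e L168192) q11153, e3 q10927 (flp_e L191239) q14286, e3 q10928 (flp_e L166724) q6954, e3 q10929 (flp_e L197289) q15092, e3 q10930 (flp_e L190809) q14225, e3 q10931 (flp_e L190817) q14226, e3 q10932 (flp_e L180951) q12926, e3 q10933 L166754 q9397, e3 q10934 L197311 q15098, e3 q10935 (flp_e L190831) q14228, e3 q10936 (flp_e L168584) q11221, e3 q10937 (flp_e L191622) q14341, e3 q10938 (flp_e L166786) q6960, e3 q10939 (flp_e L197339) q15102, e3 q10940 (flp_e L190845) q14231, e3 q10941 (flp_e L190853) q14232, e3 q10942 L166804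 q7501, e3 q10943 L166810 q10301, trivial⟩ (by decide +kernel)

theorem ce_e_171 : ∀ r, r < 64 → sm ge (Qf (10944 + r)) = Qf (tab Gen.e (10944 + r)) :=
  edges_tab (sm ge) Qf (tab Gen.e) 10944 [(10944, 12606), (10945, 7504), (10946, 7505), (10947, 14299), (10948, 12809), (10949, 6971), (10950, 15115), (10951, 15116), (10952, 7509), (10953, 7510), (10954, 7515), (10955, 10338), (10956, 12611), (10957, 7518), (10958, 7519), (10959, 14355), (10960, 12813), (10961, 6982), (10962, 15127), (10963, 15128), (10964, 7523), (10965, 7524), (10966, 10966), (10967, 10967), (10968, 6989), (10969, 14237), (10970, 14238), (10971, 14239), (10972, 15140), (10973, 6994), (10974, 14241), (10975, 14242), (10976, 14243), (10977, 15147), (10978, 14246), (10979, 14247), (10980, 14248), (10981, 14249), (10982, 12921), (10983, 7004), (10984, 10096), (10985, 14251), (10986, 10086), (10987, 14252), (10988, 14253), (10989, 15160), (10990, 14255), (10991, 14256), (10992, 11173), (10993, 14257), (10994, 15169), (10995, 14259), (10996, 15173),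 (10997, 7012), (10998, 15175), (10999, 14263), (11000, 14264), (11001, 11148), (11002, 14266), (11003, 14267), (11004, 14268), (11005, 14269), (11006, 12937), (11007, 7020)]
    ⟨e3 q10944 (flp_e L178525) q12606, e3 q10945 L166826 q7504, e3 q10946 L166834 q7505, e3 q10947 (flp_e L191325) q14299, e3 q10948 (flp_e L180097) q12809, e3 q10949 L166854 q6971, e3 q10950 (flp_e L197425) q15115, e3 q10951 (flp_e L197438) q15116, e3 q10952 L166875 q7509, e3 q10953 L166881 q7510, e3 q10954 L166887 q7515, e3 q10955 L166893 q10338, e3 q10956 (flp_e L178559) q12611, e3 q10957 L166909 q7518, e3 q10958 L166917 q7519, e3 q10959 (flp_e L191712) q14355, e3 q10960 (flp_e L180129) q12813, e3 q10961 L166937 q6982, e3 q10962 (flp_e L197525) q15127, e3 q10963 (flp_e L197538) q15128, e3 q10964 L166958 q7523, e3 q10965 L166964 q7524, e3 q10966 L166972 q10966, e3 q10967 L166979 q10967, e3 q10968 (flp_e L166990) q6989, e3 q10969 (flp_e L190881) q14237, e3 q10970 (flp_e L190892) q14238, e3 q10971 (flp_e L190900) q14239, e3 q10972 L197627 q15140,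 e3 q10973 (flp_e L167026) q6994, e3 q10974 (flp_e L190912) q14241, e3 q10975 (flp_e L190923) q14242, e3 q10976 (flp_e L190931) q14243, e3 q10977 L197675 q15147, e3 q10978 (flp_e L190947) q14246, e3 q10979 (flp_e L190953) q14247, e3 q10980 (flp_e L190959) q14248, e3 q10981 (flp_e L190971) q14249, e3 q10982 (flp_e L180923) q12921, e3 q10983 L167110 q7004, e3 q10984 L167118 q10096, e3 q10985 (flp_e L190997) q14251, e3 q10986 L167132 q10086, e3 q10987 (flp_e L191007) q14252, e3 q10988 (flp_e L191017) q14253, e3 q10989 L197759 q15160, e3 q10990 (flp_e L191031) q14255, e3 q10991 (flp_e L191035) q14256, e3 q10992 (flp_e L168280) q11173, e3 q10993 (flp_e L191041) q14257, e3 q10994 L197795 q15169, e3 q10995 (flp_e L191053) q14259, e3 q10996 L197811 q15173, e3 q10997 (flp_e L167182) q7012, e3 q10998 (flp_e L197821) q15175, e3 q10999 (flp_e L191069) q14263, e3 q11000 (flp_e L191079) q14264, e3 q11001 (flp_e L168156) q11148, e3 q11002 (flp_e L191091) q14266, e3 q11003 (flp_e L191097) q14267, e3 q11004 (flp_e L191103) q14268,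 e3 q11005 (flp_e L191115) q14269, e3 q11006 (flp_e L181019) q12937, e3 q11007 L167248 q7020, trivial⟩ (by decide +kernel)

theorem ce_e_172 : ∀ r, r < 64 → sm ge (Qf (11008 + r)) = Qf (tab Gen.e (11008 + r)) :=
  edges_tab (sm ge) Qf (tab Gen.e) 11008 [(11008, 10115), (11009, 14271), (11010, 10105), (11011, 14272), (11012, 14273), (11013, 15194), (11014, 14275), (11015, 14276), (11016, 11103), (11017, 14277), (11018, 15203), (11019, 14279), (11020, 15207), (11021, 7028), (11022, 15209), (11023, 14283), (11024, 14284), (11025, 11217), (11026, 7530), (11027, 7531), (11028, 9074), (11029, 9075), (11030, 7536), (11031, 7537), (11032, 8670), (11033, 8283), (11034, 7042), (11035, 15219), (11036, 15220), (11037, 15224), (11038, 7545), (11039, 7546), (11040, 7547), (11041, 7548), (11042, 15232), (11043, 15235), (11044, 7047), (11045, 15237), (11046, 7553), (11047, 7555), (11048, 15244), (11049, 7557), (11050, 7558), (11051, 15249), (11052, 7051), (11053, 15251), (11054, 7562), (11055, 15255), (11056, 7053), (11057, 15258),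 (11058, 7055), (11059, 15261), (11060, 15262), (11061, 7567), (11062, 7568), (11063, 7569), (11064, 7575), (11065, 7576), (11066, 9128), (11067, 9129), (11068, 7581), (11069, 7582), (11070, 8682), (11071, 8292)]
    ⟨e3 q11008 L167256 q10115, e3 q11009 (flp_e L191141) q14271, e3 q11010 L167270 q10105, e3 q11011 (flp_e L191151) q14272, e3 q11012 (flp_e L191161) q14273, e3 q11013 L197939 q15194, e3 q11014 (flp_e L191175) q14275, e3 q11015 (flp_e L191179) q14276, e3 q11016 (flp_e L167852) q11103, e3 q11017 (flp_e L191185) q14277, e3 q11018 L197975 q15203, e3 q11019 (flp_e L191197) q14279, e3 q11020 L197991 q15207, e3 q11021 (flp_e L167320) q7028, e3 q11022 (flp_e L198001) q15209, e3 q11023 (flp_e L191213) q14283, e3 q11024 (flp_e L191223) q14284, e3 q11025 (flp_e L168554) q11217, e3 q11026 L167354 q7530, e3 q11027 L167363 q7531, e3 q11028 L167373 q9074, e3 q11029 L167385 q9075, e3 q11030 L167391 q7536, e3 q11031 L167399 q7537, e3 q11032 L167411 q8670, e3 q11033 L167417 q8283, e3 q11034 L167425 q7042, e3 q11035 (flp_e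 L198067) q15219, e3 q11036 (flp_e L198078) q15220, e3 q11037 L198090 q15224, e3 q11038 L167444 q7545, e3 q11039 L167448 q7546, e3 q11040 L167454 q7547, e3 q11041 L167462 q7548, e3 q11042 L198141 q15232, e3 q11043 L198159 q15235, e3 q11044 (flp_e L167474) q7047, e3 q11045 (flp_e L198173) q15237, e3 q11046 L167486 q7553, e3 q11047 L167490 q7555, e3 q11048 L198218 q15244, e3 q11049 L167498 q7557, e3 q11050 L167504 q7558, e3 q11051 L198244 q15249, e3 q11052 (flp_e L167514) q7051, e3 q11053 (flp_e L198268) q15251, e3 q11054 L167530 q7562, e3 q11055 L198310 q15255, e3 q11056 (flp_e L167541) q7053, e3 q11057 (flp_e L198334) q15258, e3 q11058 L167553 q7055, e3 q11059 (flp_e L198350) q15261, e3 q11060 (flp_e L198359) q15262, e3 q11061 L167572 q7567, e3 q11062 L167576 q7568, e3 q11063 L167582 q7569, e3 q11064 L167592 q7575, e3 q11065 L167602 q7576, e3 q11066 L167613 q9128, e3 q11067 L167623 q9129, e3 q11068 L167629 q7581, e3 q11069 L167639 q7582, e3 q11070 L167651 q8682, e3 q11071 L167657 q8292, trivial⟩ (by decide +kernel)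

theorem ce_e_173 : ∀ r, r < 64 → sm ge (Qf (11072 + r)) = Qf (tab Gen.e (11072 + r)) :=
  edges_tab (sm ge) Qf (tab Gen.e) 11072 [(11072, 7070), (11073, 15272), (11074, 15273), (11075, 15277), (11076, 7590), (11077, 7591), (11078, 7592), (11079, 7593), (11080, 15285), (11081, 15288), (11082, 7075), (11083, 15290), (11084, 7598), (11085, 7600), (11086, 15297), (11087, 7602), (11088, 7603), (11089, 15302), (11090, 7079), (11091, 15304), (11092, 7607), (11093, 15308), (11094, 7081), (11095, 15311), (11096, 7083), (11097, 15314), (11098, 15315), (11099, 7612), (11100, 7613), (11101, 7614), (11102, 9545), (11103, 11016), (11104, 14395), (11105, 9539), (11106, 13782), (11107, 10029), (11108, 7093), (11109, 11127), (11110, 15327), (11111, 14396), (11112, 14397), (11113, 11133), (11114, 12866), (11115, 14398), (11116, 13774), (11117, 15338), (11118, 14400), (11119, 14844), (11120, 7098), (11121, 15342), (11122, 7100), (11123, 15345), (11124, 7102), (11125, 15349), (11126, 15350), (11127, 11109), (11128, 15355), (11129,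 11237), (11130, 14412), (11131, 14413), (11132, 14414), (11133, 11113), (11134, 10874), (11135, 11230)]
    ⟨e3 q11072 L167665 q7070, e3 q11073 (flp_e L198424) q15272, e3 q11074 (flp_e L198435) q15273, e3 q11075 L198449 q15277, e3 q11076 L167688 q7590, e3 q11077 L167694 q7591, e3 q11078 L167700 q7592, e3 q11079 L167708 q7593, e3 q11080 L198506 q15285, e3 q11081 L198524 q15288, e3 q11082 (flp_e L167720) q7075, e3 q11083 (flp_e L198538) q15290, e3 q11084 L167732 q7598, e3 q11085 L167736 q7600, e3 q11086 L198589 q15297, e3 q11087 L167746 q7602, e3 q11088 L167752 q7603, e3 q11089 L198615 q15302, e3 q11090 (flp_e L167760) q7079, e3 q11091 (flp_e L198639) q15304, e3 q11092 L167776 q7607, e3 q11093 L198681 q15308, e3 q11094 (flp_e L167787) q7081, e3 q11095 (flp_e L198705) q15311, e3 q11096 L167799 q7083, e3 q11097 (flp_e L198721) q15314, e3 q11098 (flp_e L198732) q15315, e3 q11099 L167822 q7612, e3 q11100 L167828 q7613, e3 q11101 L167834 q7614, e3 q11102 L167842 q9545, e3 q11103 L167852 q11016, e3 q11104 (flp_e L191993)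 q14395, e3 q11105 L167868 q9539, e3 q11106 (flp_e L187497) q13782, e3 q11107 L167880 q10029, e3 q11108 L167890 q7093, e3 q11109 (flp_e L167994) q11127, e3 q11110 (flp_e L198819) q15327, e3 q11111 (flp_e L192001) q14396, e3 q11112 (flp_e L192009) q14397, e3 q11113 (flp_e L168034) q11133, e3 q11114 (flp_e L180555) q12866, e3 q11115 (flp_e L192017) q14398, e3 q11116 (flp_e L187425) q13774, e3 q11117 L198871 q15338, e3 q11118 (flp_e L192031) q14400, e3 q11119 (flp_e L195319) q14844, e3 q11120 (flp_e L167951) q7098, e3 q11121 (flp_e L198893) q15342, e3 q11122 L167967 q7100, e3 q11123 (flp_e L198924) q15345, e3 q11124 L167975 q7102, e3 q11125 (flp_e L198954) q15349, e3 q11126 (flp_e L198959) q15350, e3 q11127 L167994 q11109, e3 q11128 L198979 q15355, e3 q11129 (flp_e L168676) q11237, e3 q11130 (flp_e L192101) q14412, e3 q11131 (flp_e L192111) q14413, e3 q11132 (flp_e L192117) q14414, e3 q11133 L168034 q11113, e3 q11134 L168084 q10874, e3 q11135 (flp_e L168636) q11230, trivial⟩ (by decide +kernel)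

theorem ce_e_174 : ∀ r, r < 64 → sm ge (Qf (11136 + r)) = Qf (tab Gen.e (11136 + r)) :=
  edges_tab (sm ge) Qf (tab Gen.e) 11136 [(11136, 10872), (11137, 11222), (11138, 11229), (11139, 15372), (11140, 15374), (11141, 7109), (11142, 15376), (11143, 11238), (11144, 11239), (11145, 11240), (11146, 11241), (11147, 12888), (11148, 11001), (11149, 15387), (11150, 14415), (11151, 14416), (11152, 11205), (11153, 10926), (11154, 11223), (11155, 15397), (11156, 11225), (11157, 11226), (11158, 7118), (11159, 15403), (11160, 11207), (11161, 11204), (11162, 15410), (11163, 7121), (11164, 15414), (11165, 7123), (11166, 15417), (11167, 15418), (11168, 11198), (11169, 11212), (11170, 11213), (11171, 11214), (11172, 11215), (11173, 10992), (11174, 14417), (11175, 9552), (11176, 9532), (11177, 10063), (11178, 11196), (11179, 7133), (11180, 15433), (11181, 14418), (11182, 14419), (11183, 11202), (11184, 12865), (11185, 14420), (11186, 15442), (11187, 14422), (11188, 14878), (11189, 7138), (11190, 15446), (11191, 7140), (11192, 15449),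 (11193, 7142), (11194, 15453), (11195, 15454), (11196, 11178), (11197, 15459), (11198, 11168), (11199, 14434)]
    ⟨e3 q11136 L168096 q10872, e3 q11137 (flp_e L168594) q11222, e3 q11138 (flp_e L168632) q11229, e3 q11139 L199070 q15372, e3 q11140 L199078 q15374, e3 q11141 (flp_e L168118) q7109, e3 q11142 (flp_e L199094) q15376, e3 q11143 (flp_e L168682) q11238, e3 q11144 (flp_e L168688) q11239, e3 q11145 (flp_e L168694) q11240, e3 q11146 (flp_e L168702) q11241, e3 q11147 L180683 q12888, e3 q11148 L168156 q11001, e3 q11149 L199142 q15387, e3 q11150 (flp_e L192125) q14415, e3 q11151 (flp_e L192133) q14416, e3 q11152 (flp_e L168478) q11205, e3 q11153 L168192 q10926, e3 q11154 (flp_e L168602) q11223, e3 q11155 L199183 q15397, e3 q11156 (flp_e L168610) q11225, e3 q11157 (flp_e L168614) q11226, e3 q11158 (flp_e L168208) q7118, e3 q11159 (flp_e L199213) q15403, e3 q11160 (flp_e L168494) q11207, e3 q11161 (flp_e L168472) q11204, e3 q11162 L199236 q15410, e3 q11163 (flp_e L168227) q7121, e3 q11164 (flp_e L199253) q15414,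 e3 q11165 L168237 q7123, e3 q11166 (flp_e L199269) q15417, e3 q11167 (flp_e L199276) q15418, e3 q11168 (flp_e L168430) q11198, e3 q11169 (flp_e L168518) q11212, e3 q11170 (flp_e L168524) q11213, e3 q11171 (flp_e L168532) q11214, e3 q11172 (flp_e L168540) q11215, e3 q11173 L168280 q10992, e3 q11174 (flp_e L192139) q14417, e3 q11175 L168296 q9552, e3 q11176 L168306 q9532, e3 q11177 L168314 q10063, e3 q11178 (flp_e L168413) q11196, e3 q11179 L168328 q7133, e3 q11180 (flp_e L199385) q15433, e3 q11181 (flp_e L192147) q14418, e3 q11182 (flp_e L192155) q14419, e3 q11183 (flp_e L168448) q11202, e3 q11184 (flp_e L180541) q12865, e3 q11185 (flp_e L192163) q14420, e3 q11186 L199423 q15442, e3 q11187 (flp_e L192177) q14422, e3 q11188 (flp_e L195630) q14878, e3 q11189 (flp_e L168375) q7138, e3 q11190 (flp_e L199445) q15446, e3 q11191 L168391 q7140, e3 q11192 (flp_e L199476) q15449, e3 q11193 L168399 q7142, e3 q11194 (flp_e L199508) q15453, e3 q11195 (flp_e L199513) q15454, e3 q11196 L168413 q11178, e3 q11197 L199535 q15459,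 e3 q11198 L168430 q11168, e3 q11199 (flp_e L192247) q14434, trivial⟩ (by decide +kernel)

theorem ce_e_175 : ∀ r, r < 64 → sm ge (Qf (11200 + r)) = Qf (tab Gen.e (11200 + r)) :=
  edges_tab (sm ge) Qf (tab Gen.e) 11200 [(11200, 14435), (11201, 14436), (11202, 11183), (11203, 10882), (11204, 11161), (11205, 11152), (11206, 10880), (11207, 11160), (11208, 15476), (11209, 15478), (11210, 7149), (11211, 15480), (11212, 11169), (11213, 11170), (11214, 11171), (11215, 11172), (11216, 12876), (11217, 11025), (11218, 15491), (11219, 14437), (11220, 14438), (11221, 10936), (11222, 11137), (11223, 11154), (11224, 15501), (11225, 11156), (11226, 11157), (11227, 7158), (11228, 15507), (11229, 11138), (11230, 11135), (11231, 15514), (11232, 7161), (11233, 15517), (11234, 7163), (11235, 15520), (11236, 15521), (11237, 11129), (11238, 11143), (11239, 11144), (11240, 11145), (11241, 11146), (11242, 7615), (11243, 13107), (11244, 7617), (11245, 7618), (11246, 7173), (11247, 8859), (11248, 15537), (11249, 13217), (11250, 7622), (11251,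 7623), (11252, 7624), (11253, 7625), (11254, 7626), (11255, 7627), (11256, 7628), (11257, 15557), (11258, 7630), (11259, 7631), (11260, 7636), (11261, 7186), (11262, 14905), (11263, 15564)]
    ⟨e3 q11200 (flp_e L192257) q14435, e3 q11201 (flp_e L192263) q14436, e3 q11202 L168448 q11183, e3 q11203 L168466 q10882, e3 q11204 L168472 q11161, e3 q11205 L168478 q11152, e3 q11206 L168488 q10880, e3 q11207 L168494 q11160, e3 q11208 L199654 q15476, e3 q11209 L199664 q15478, e3 q11210 (flp_e L168506) q7149, e3 q11211 (flp_e L199682) q15480, e3 q11212 L168518 q11169, e3 q11213 L168524 q11170, e3 q11214 L168532 q11171, e3 q11215 L168540 q11172, e3 q11216 L180615 q12876, e3 q11217 L168554 q11025, e3 q11218 L199738 q15491, e3 q11219 (flp_e L192271) q14437, e3 q11220 (flp_e L192279) q14438, e3 q11221 L168584 q10936, e3 q11222 L168594 q11137, e3 q11223 L168602 q11154, e3 q11224 L199797 q15501, e3 q11225 L168610 q11156, e3 q11226 L168614 q11157, e3 q11227 (flp_e L168616) q7158, e3 q11228 (flp_e L199837) q15507, e3 q11229 L168632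 q11138, e3 q11230 L168636 q11135, e3 q11231 L199870 q15514, e3 q11232 (flp_e L168641) q7161, e3 q11233 (flp_e L199887) q15517, e3 q11234 L168653 q7163, e3 q11235 (flp_e L199905) q15520, e3 q11236 (flp_e L199916) q15521, e3 q11237 L168676 q11129, e3 q11238 L168682 q11143, e3 q11239 L168688 q11144, e3 q11240 L168694 q11145, e3 q11241 L168702 q11146, e3 q11242 L168712 q7615, e3 q11243 (flp_e L182203) q13107, e3 q11244 L168726 q7617, e3 q11245 L168736 q7618, e3 q11246 L168748 q7173, e3 q11247 L168756 q8859, e3 q11248 (flp_e L200045) q15537, e3 q11249 (flp_e L182881) q13217, e3 q11250 L168776 q7622, e3 q11251 L168782 q7623, e3 q11252 L168786 q7624, e3 q11253 L168792 q7625, e3 q11254 L168796 q7626, e3 q11255 L168802 q7627, e3 q11256 L168810 q7628, e3 q11257 L200173 q15557, e3 q11258 L168826 q7630, e3 q11259 L168832 q7631, e3 q11260 L168838 q7636, e3 q11261 L168845 q7186, e3 q11262 (flp_e L195860) q14905, e3 q11263 (flp_e L200225) q15564, trivial⟩ (by decide +kernel)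

theorem ce_e_176 : ∀ r, r < 64 → sm ge (Qf (11264 + r)) = Qf (tab Gen.e (11264 + r)) :=
  edges_tab (sm ge) Qf (tab Gen.e) 11264 [(11264, 14800), (11265, 7647), (11266, 7648), (11267, 7649), (11268, 8949), (11269, 12590), (11270, 12583), (11271, 7194), (11272, 15572), (11273, 13479), (11274, 15573), (11275, 7654), (11276, 7655), (11277, 7656), (11278, 15585), (11279, 7658), (11280, 7659), (11281, 7660), (11282, 7661), (11283, 15590), (11284, 7663), (11285, 15595), (11286, 7201), (11287, 15597), (11288, 7667), (11289, 12891), (11290, 8260), (11291, 12569), (11292, 14305), (11293, 7204), (11294, 8627), (11295, 15605), (11296, 7207), (11297, 8261), (11298, 8932), (11299, 9028), (11300, 7209), (11301, 15609), (11302, 12581), (11303, 7215), (11304, 7216), (11305, 7217), (11306, 15612), (11307, 15613), (11308, 15614), (11309, 15615), (11310, 13387), (11311, 7687), (11312, 7688), (11313, 7689), (11314, 7690), (11315, 7696), (11316, 7697), (11317, 7698), (11318, 7699), (11319, 13476), (11320, 7701), (11321, 7702), (11322,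 7703), (11323, 7704), (11324, 15644), (11325, 7706), (11326, 7707), (11327, 7708)]
    ⟨e3 q11264 (flp_e L194933) q14800, e3 q11265 L168875 q7647, e3 q11266 L168879 q7648, e3 q11267 L168885 q7649, e3 q11268 L168897 q8949, e3 q11269 (flp_e L178343) q12590, e3 q11270 (flp_e L178253) q12583, e3 q11271 L168913 q7194, e3 q11272 (flp_e L200281) q15572, e3 q11273 L184886 q13479, e3 q11274 (flp_e L200291) q15573, e3 q11275 L168929 q7654, e3 q11276 L168935 q7655, e3 q11277 L168941 q7656, e3 q11278 L200357 q15585, e3 q11279 L168955 q7658, e3 q11280 L168961 q7659, e3 q11281 L168969 q7660, e3 q11282 L168975 q7661, e3 q11283 L200381 q15590, e3 q11284 L168987 q7663, e3 q11285 L200409 q15595, e3 q11286 (flp_e L168993) q7201, e3 q11287 (flp_e L200421) q15597, e3 q11288 L169003 q7667, e3 q11289 (flp_e L180703) q12891, e3 q11290 L169019 q8260, e3 q11291 (flp_e L178121) q12569, e3 q11292 L191369 q14305, e3 q11293 (flp_e L169035) q7204, e3 q11294 L169047 q8627, e3 q11295 (flp_e L200491) q15605, e3 q11296 L169061 q7207, e3 q11297 L169071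 q8261, e3 q11298 L169077 q8932, e3 q11299 L169091 q9028, e3 q11300 L169105 q7209, e3 q11301 (flp_e L200531) q15609, e3 q11302 (flp_e L178233) q12581, e3 q11303 L169117 q7215, e3 q11304 L169127 q7216, e3 q11305 L169133 q7217, e3 q11306 (flp_e L200551) q15612, e3 q11307 (flp_e L200561) q15613, e3 q11308 (flp_e L200571) q15614, e3 q11309 (flp_e L200581) q15615, e3 q11310 (flp_e L184183) q13387, e3 q11311 L169159 q7687, e3 q11312 L169163 q7688, e3 q11313 L169169 q7689, e3 q11314 L169175 q7690, e3 q11315 L169181 q7696, e3 q11316 L169187 q7697, e3 q11317 L169195 q7698, e3 q11318 L169203 q7699, e3 q11319 L184860 q13476, e3 q11320 L169217 q7701, e3 q11321 L169223 q7702, e3 q11322 L169231 q7703, e3 q11323 L169237 q7704, e3 q11324 L200819 q15644, e3 q11325 L169249 q7706, e3 q11326 L169257 q7707, e3 q11327 L169261 q7708, trivial⟩ (by decide +kernel)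

theorem ce_e_177 : ∀ r, r < 64 → sm ge (Qf (11328 + r)) = Qf (tab Gen.e (11328 + r)) :=
  edges_tab (sm ge) Qf (tab Gen.e) 11328 [(11328, 15651), (11329, 7710), (11330, 7711), (11331, 15656), (11332, 7228), (11333, 15659), (11334, 15662), (11335, 7229), (11336, 15664), (11337, 7231), (11338, 15666), (11339, 7720), (11340, 7721), (11341, 7722), (11342, 7723), (11343, 10668), (11344, 7725), (11345, 15680), (11346, 7727), (11347, 13468), (11348, 7238), (11349, 15685), (11350, 7731), (11351, 7732), (11352, 7733), (11353, 15111), (11354, 7734), (11355, 7735), (11356, 7736), (11357, 15699), (11358, 7738), (11359, 7739), (11360, 7245), (11361, 15705), (11362, 11520), (11363, 7742), (11364, 7743), (11365, 7744), (11366, 7745), (11367, 15714), (11368, 7747), (11369, 7748), (11370, 15719), (11371, 7251), (11372, 15722), (11373, 15723), (11374, 7753), (11375, 7754), (11376, 7755), (11377, 15729), (11378, 7254), (11379, 15733), (11380, 7256), (11381, 12712), (11382, 7760), (11383, 7761), (11384, 15740), (11385, 15743), (11386,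 15747), (11387, 7259), (11388, 15751), (11389, 15752), (11390, 7260), (11391, 15757)]
    ⟨e3 q11328 L200866 q15651, e3 q11329 L169275 q7710, e3 q11330 L169279 q7711, e3 q11331 L200896 q15656, e3 q11332 (flp_e L169291) q7228, e3 q11333 L200910 q15659, e3 q11334 L200922 q15662, e3 q11335 (flp_e L169309) q7229, e3 q11336 (flp_e L200938) q15664, e3 q11337 L169323 q7231, e3 q11338 (flp_e L200946) q15666, e3 q11339 L169331 q7720, e3 q11340 L169335 q7721, e3 q11341 L169341 q7722, e3 q11342 L169347 q7723, e3 q11343 L169357 q10668, e3 q11344 L169363 q7725, e3 q11345 L201064 q15680, e3 q11346 L169377 q7727, e3 q11347 (flp_e L184788) q13468, e3 q11348 (flp_e L169383) q7238, e3 q11349 (flp_e L201107) q15685, e3 q11350 L169395 q7731, e3 q11351 L169405 q7732, e3 q11352 L169411 q7733, e3 q11353 (flp_e L197395) q15111, e3 q11354 L169427 q7734, e3 q11355 L169437 q7735, e3 q11356 L169445 q7736, e3 q11357 L201219 q15699, e3 q11358 L169459 q7738, e3 q11359 L169465 q7739, e3 q11360 (flp_e L169467) q7245, e3 q11361 (flp_e L201276) q15705,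 e3 q11362 (flp_e L170486) q11520, e3 q11363 L169487 q7742, e3 q11364 L169491 q7743, e3 q11365 L169495 q7744, e3 q11366 L169503 q7745, e3 q11367 L201334 q15714, e3 q11368 L169517 q7747, e3 q11369 L169523 q7748, e3 q11370 L201362 q15719, e3 q11371 (flp_e L169527) q7251, e3 q11372 (flp_e L201378) q15722, e3 q11373 (flp_e L201384) q15723, e3 q11374 L169543 q7753, e3 q11375 L169549 q7754, e3 q11376 L169557 q7755, e3 q11377 L201416 q15729, e3 q11378 (flp_e L169565) q7254, e3 q11379 (flp_e L201440) q15733, e3 q11380 L169587 q7256, e3 q11381 (flp_e L179315) q12712, e3 q11382 L169597 q7760, e3 q11383 L169603 q7761, e3 q11384 L201482 q15740, e3 q11385 L201498 q15743, e3 q11386 L201520 q15747, e3 q11387 (flp_e L169617) q7259, e3 q11388 (flp_e L201540) q15751, e3 q11389 (flp_e L201546) q15752, e3 q11390 (flp_e L169631) q7260, e3 q11391 (flp_e L201578) q15757, trivial⟩ (by decide +kernel)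

theorem ce_e_178 : ∀ r, r < 64 → sm ge (Qf (11392 + r)) = Qf (tab Gen.e (11392 + r)) :=
  edges_tab (sm ge) Qf (tab Gen.e) 11392 [(11392, 15756), (11393, 7262), (11394, 15761), (11395, 15762), (11396, 7264), (11397, 15765), (11398, 7775), (11399, 7776), (11400, 7777), (11401, 7778), (11402, 7780), (11403, 7782), (11404, 13167), (11405, 7783), (11406, 7784), (11407, 7274), (11408, 15779), (11409, 13237), (11410, 8873), (11411, 7788), (11412, 7789), (11413, 7790), (11414, 7791), (11415, 7792), (11416, 7793), (11417, 15797), (11418, 7795), (11419, 7796), (11420, 7801), (11421, 7286), (11422, 15804), (11423, 14832), (11424, 14953), (11425, 7812), (11426, 7813), (11427, 7814), (11428, 12584), (11429, 9017), (11430, 12586), (11431, 7295), (11432, 15812), (11433, 13427), (11434, 15813), (11435, 7819), (11436, 7820), (11437, 7821), (11438, 15825), (11439, 7823), (11440, 7824), (11441, 7825), (11442, 7826), (11443, 15830), (11444, 15833), (11445, 7301), (11446, 15835), (11447, 7831), (11448, 12906), (11449, 12575), (11450,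 8271), (11451, 14360), (11452, 7304), (11453, 15607), (11454, 8632), (11455, 7306)]
    ⟨e3 q11392 (flp_e L201570) q15756, e3 q11393 L169651 q7262, e3 q11394 (flp_e L201592) q15761, e3 q11395 (flp_e L201600) q15762, e3 q11396 L169669 q7264, e3 q11397 (flp_e L201614) q15765, e3 q11398 L169679 q7775, e3 q11399 L169683 q7776, e3 q11400 L169689 q7777, e3 q11401 L169697 q7778, e3 q11402 L169713 q7780, e3 q11403 L169721 q7782, e3 q11404 (flp_e L182573) q13167, e3 q11405 L169737 q7783, e3 q11406 L169747 q7784, e3 q11407 L169759 q7274, e3 q11408 (flp_e L201726) q15779, e3 q11409 (flp_e L183020) q13237, e3 q11410 L169781 q8873, e3 q11411 L169787 q7788, e3 q11412 L169791 q7789, e3 q11413 L169797 q7790, e3 q11414 L169801 q7791, e3 q11415 L169805 q7792, e3 q11416 L169813 q7793, e3 q11417 L201852 q15797, e3 q11418 L169829 q7795, e3 q11419 L169837 q7796, e3 q11420 L169843 q7801, e3 q11421 L169850 q7286, e3 q11422 (flp_e L201908) q15804, e3 q11423 (flp_e L195219) q14832, e3 q11424 (flp_e L196269) q14953, e3 q11425 L169880 q7812,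 e3 q11426 L169886 q7813, e3 q11427 L169892 q7814, e3 q11428 (flp_e L178281) q12584, e3 q11429 L169906 q9017, e3 q11430 (flp_e L178305) q12586, e3 q11431 L169918 q7295, e3 q11432 (flp_e L201964) q15812, e3 q11433 (flp_e L184494) q13427, e3 q11434 (flp_e L201970) q15813, e3 q11435 L169934 q7819, e3 q11436 L169940 q7820, e3 q11437 L169946 q7821, e3 q11438 L202040 q15825, e3 q11439 L169960 q7823, e3 q11440 L169966 q7824, e3 q11441 L169974 q7825, e3 q11442 L169984 q7826, e3 q11443 L202072 q15830, e3 q11444 L202086 q15833, e3 q11445 (flp_e L169998) q7301, e3 q11446 (flp_e L202098) q15835, e3 q11447 L170008 q7831, e3 q11448 (flp_e L180811) q12906, e3 q11449 (flp_e L178179) q12575, e3 q11450 L170030 q8271, e3 q11451 L191750 q14360, e3 q11452 (flp_e L170040) q7304, e3 q11453 (flp_e L200509) q15607, e3 q11454 L170056 q8632, e3 q11455 L170066 q7306, trivial⟩ (by decide +kernel)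

theorem ce_e_179 : ∀ r, r < 64 → sm ge (Qf (11456 + r)) = Qf (tab Gen.e (11456 + r)) :=
  edges_tab (sm ge) Qf (tab Gen.e) 11456 [(11456, 8916), (11457, 8958), (11458, 8272), (11459, 7309), (11460, 15608), (11461, 12588), (11462, 7315), (11463, 7316), (11464, 7317), (11465, 15846), (11466, 15847), (11467, 15848), (11468, 15849), (11469, 13439), (11470, 7851), (11471, 7852), (11472, 7853), (11473, 7854), (11474, 7860), (11475, 7861), (11476, 7862), (11477, 7863), (11478, 13424), (11479, 7865), (11480, 7866), (11481, 7867), (11482, 7868), (11483, 15878), (11484, 7870), (11485, 7871), (11486, 7872), (11487, 15650), (11488, 7874), (11489, 7875), (11490, 15655), (11491, 7328), (11492, 15889), (11493, 15892), (11494, 7329), (11495, 15894), (11496, 7331), (11497, 15896), (11498, 7882), (11499, 7883), (11500, 7884), (11501, 7885), (11502, 10750), (11503, 7887), (11504, 15910), (11505, 7889), (11506, 13416), (11507, 7338), (11508, 15915), (11509, 7893), (11510, 7894), (11511, 7895), (11512, 15123), (11513, 7896), (11514,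 7741), (11515, 7897), (11516, 15928), (11517, 7899), (11518, 7900), (11519, 7345)]
    ⟨e3 q11456 L170074 q8916, e3 q11457 L170086 q8958, e3 q11458 L170098 q8272, e3 q11459 L170110 q7309, e3 q11460 (flp_e L200521) q15608, e3 q11461 (flp_e L178323) q12588, e3 q11462 L170122 q7315, e3 q11463 L170132 q7316, e3 q11464 L170138 q7317, e3 q11465 (flp_e L202192) q15846, e3 q11466 (flp_e L202202) q15847, e3 q11467 (flp_e L202212) q15848, e3 q11468 (flp_e L202222) q15849, e3 q11469 (flp_e L184553) q13439, e3 q11470 L170164 q7851, e3 q11471 L170168 q7852, e3 q11472 L170176 q7853, e3 q11473 L170182 q7854, e3 q11474 L170186 q7860, e3 q11475 L170192 q7861, e3 q11476 L170200 q7862, e3 q11477 L170208 q7863, e3 q11478 L184468 q13424, e3 q11479 L170222 q7865, e3 q11480 L170228 q7866, e3 q11481 L170236 q7867, e3 q11482 L170242 q7868, e3 q11483 L202460 q15878, e3 q11484 L170252 q7870, e3 q11485 L170260 q7871, e3 q11486 L170266 q7872, e3 q11487 (flp_e L223813) q15650, e3 q11488 L170274 q7874, e3 q11489 L170280 q7875, e3 q11490 (flp_e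 L223799) q15655, e3 q11491 (flp_e L170290) q7328, e3 q11492 L202557 q15889, e3 q11493 L202569 q15892, e3 q11494 (flp_e L170308) q7329, e3 q11495 (flp_e L202585) q15894, e3 q11496 L170322 q7331, e3 q11497 (flp_e L202593) q15896, e3 q11498 L170330 q7882, e3 q11499 L170334 q7883, e3 q11500 L170340 q7884, e3 q11501 L170346 q7885, e3 q11502 L170356 q10750, e3 q11503 L170362 q7887, e3 q11504 L202711 q15910, e3 q11505 L170376 q7889, e3 q11506 (flp_e L184410) q13416, e3 q11507 (flp_e L170382) q7338, e3 q11508 (flp_e L202754) q15915, e3 q11509 L170394 q7893, e3 q11510 L170404 q7894, e3 q11511 L170410 q7895, e3 q11512 (flp_e L197495) q15123, e3 q11513 L170428 q7896, e3 q11514 L170438 q7741, e3 q11515 L170446 q7897, e3 q11516 L202864 q15928, e3 q11517 L170462 q7899, e3 q11518 L170470 q7900, e3 q11519 (flp_e L170472) q7345, trivial⟩ (by decide +kernel)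

theorem ce_e_180 : ∀ r, r < 64 → sm ge (Qf (11520 + r)) = Qf (tab Gen.e (11520 + r)) :=
  edges_tab (sm ge) Qf (tab Gen.e) 11520 [(11520, 11362), (11521, 15693), (11522, 7902), (11523, 7903), (11524, 7904), (11525, 7905), (11526, 15940), (11527, 7907), (11528, 7908), (11529, 15945), (11530, 7351), (11531, 15948), (11532, 15949), (11533, 7913), (11534, 7914), (11535, 7915), (11536, 15955), (11537, 7354), (11538, 15958), (11539, 7356), (11540, 12683), (11541, 7917), (11542, 7918), (11543, 15965), (11544, 15968), (11545, 15972), (11546, 7359), (11547, 15976), (11548, 15977), (11549, 7360), (11550, 15982), (11551, 15981), (11552, 7362), (11553, 15986), (11554, 15987), (11555, 7364), (11556, 15990), (11557, 7929), (11558, 7930), (11559, 7931), (11560, 7932), (11561, 7934), (11562, 8338), (11563, 7371), (11564, 7373), (11565, 16000), (11566, 7939), (11567, 7941), (11568, 7942), (11569, 7949), (11570, 7950), (11571, 7951), (11572, 16007), (11573, 7953), (11574, 7954), (11575, 7379), (11576, 16012), (11577, 7957), (11578,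 7958), (11579, 16017), (11580, 7381), (11581, 16020), (11582, 16021), (11583, 7963)]
    ⟨e3 q11520 L170486 q11362, e3 q11521 (flp_e L201167) q15693, e3 q11522 L170498 q7902, e3 q11523 L170502 q7903, e3 q11524 L170506 q7904, e3 q11525 L170514 q7905, e3 q11526 L202969 q15940, e3 q11527 L170528 q7907, e3 q11528 L170536 q7908, e3 q11529 L202999 q15945, e3 q11530 (flp_e L170542) q7351, e3 q11531 (flp_e L203015) q15948, e3 q11532 (flp_e L203021) q15949, e3 q11533 L170558 q7913, e3 q11534 L170564 q7914, e3 q11535 L170572 q7915, e3 q11536 L203053 q15955, e3 q11537 (flp_e L170580) q7354, e3 q11538 (flp_e L203077) q15958, e3 q11539 L170602 q7356, e3 q11540 (flp_e L179117) q12683, e3 q11541 L170612 q7917, e3 q11542 L170618 q7918, e3 q11543 L203119 q15965, e3 q11544 L203135 q15968, e3 q11545 L203157 q15972, e3 q11546 (flp_e L170632) q7359, e3 q11547 (flp_e L203177) q15976, e3 q11548 (flp_e L203183) q15977, e3 q11549 (flp_e L170646) q7360, e3 q11550 (flp_e L203215) q15982, e3 q11551 (flp_e L203207) q15981, e3 q11552 L170666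 q7362, e3 q11553 (flp_e L203229) q15986, e3 q11554 (flp_e L203237) q15987, e3 q11555 L170684 q7364, e3 q11556 (flp_e L203251) q15990, e3 q11557 L170694 q7929, e3 q11558 L170698 q7930, e3 q11559 L170704 q7931, e3 q11560 L170712 q7932, e3 q11561 L170728 q7934, e3 q11562 L170738 q8338, e3 q11563 L170750 q7371, e3 q11564 L170762 q7373, e3 q11565 (flp_e L203323) q16000, e3 q11566 L170777 q7939, e3 q11567 L170787 q7941, e3 q11568 L170797 q7942, e3 q11569 L170805 q7949, e3 q11570 L170810 q7950, e3 q11571 L170815 q7951, e3 q11572 L203369 q16007, e3 q11573 L170825 q7953, e3 q11574 L170831 q7954, e3 q11575 (flp_e L170835) q7379, e3 q11576 L203407 q16012, e3 q11577 L170855 q7957, e3 q11578 L170863 q7958, e3 q11579 L203435 q16017, e3 q11580 (flp_e L170869) q7381, e3 q11581 (flp_e L203451) q16020, e3 q11582 (flp_e L203461) q16021, e3 q11583 L170889 q7963, trivial⟩ (by decide +kernel)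

theorem ce_e_181 : ∀ r, r < 64 → sm ge (Qf (11584 + r)) = Qf (tab Gen.e (11584 + r)) :=
  edges_tab (sm ge) Qf (tab Gen.e) 11584 [(11584, 7964), (11585, 16025), (11586, 7384), (11587, 16029), (11588, 7968), (11589, 7969), (11590, 16037), (11591, 7387), (11592, 16040), (11593, 16041), (11594, 7974), (11595, 7975), (11596, 16046), (11597, 7390), (11598, 16050), (11599, 16051), (11600, 7392), (11601, 7393), (11602, 16056), (11603, 16057), (11604, 7983), (11605, 7984), (11606, 16065), (11607, 7396), (11608, 16068), (11609, 16069), (11610, 7398), (11611, 7399), (11612, 16072), (11613, 16073), (11614, 8346), (11615, 7402), (11616, 7404), (11617, 16076), (11618, 7997), (11619, 7999), (11620, 8000), (11621, 8007), (11622, 8008), (11623, 8009), (11624, 16083), (11625, 8011), (11626, 8012), (11627, 7410), (11628, 16088), (11629, 8015), (11630, 8016), (11631, 16093), (11632, 7412), (11633, 16096), (11634, 16097), (11635, 8021), (11636, 8022), (11637, 16101), (11638, 7415), (11639, 16105), (11640, 8026), (11641, 8027), (11642,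 16113), (11643, 7418), (11644, 16116), (11645, 16117), (11646, 8032), (11647, 8033)]
    ⟨e3 q11584 L170899 q7964, e3 q11585 L203485 q16025, e3 q11586 (flp_e L170905) q7384, e3 q11587 L203501 q16029, e3 q11588 L170917 q7968, e3 q11589 L170921 q7969, e3 q11590 L203555 q16037, e3 q11591 (flp_e L170929) q7387, e3 q11592 (flp_e L203579) q16040, e3 q11593 (flp_e L203589) q16041, e3 q11594 L170949 q7974, e3 q11595 L170955 q7975, e3 q11596 L203623 q16046, e3 q11597 (flp_e L170967) q7390, e3 q11598 (flp_e L203643) q16050, e3 q11599 (flp_e L203649) q16051, e3 q11600 L170985 q7392, e3 q11601 L170991 q7393, e3 q11602 (flp_e L203681) q16056, e3 q11603 (flp_e L203691) q16057, e3 q11604 L171011 q7983, e3 q11605 L171015 q7984, e3 q11606 L203745 q16065, e3 q11607 (flp_e L171023) q7396, e3 q11608 (flp_e L203765) q16068, e3 q11609 (flp_e L203775) q16069, e3 q11610 L171045 q7398, e3 q11611 L171053 q7399, e3 q11612 (flp_e L203793) q16072, e3 q11613 (flp_e L203803) q16073, e3 q11614 L171077 q8346, e3 q11615 L171089 q7402, e3 q11616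 L171101 q7404, e3 q11617 (flp_e L203823) q16076, e3 q11618 L171116 q7997, e3 q11619 L171126 q7999, e3 q11620 L171136 q8000, e3 q11621 L171144 q8007, e3 q11622 L171149 q8008, e3 q11623 L171154 q8009, e3 q11624 L203869 q16083, e3 q11625 L171166 q8011, e3 q11626 L171174 q8012, e3 q11627 (flp_e L171178) q7410, e3 q11628 L203907 q16088, e3 q11629 L171198 q8015, e3 q11630 L171208 q8016, e3 q11631 L203935 q16093, e3 q11632 (flp_e L171212) q7412, e3 q11633 (flp_e L203951) q16096, e3 q11634 (flp_e L203959) q16097, e3 q11635 L171232 q8021, e3 q11636 L171242 q8022, e3 q11637 L203985 q16101, e3 q11638 (flp_e L171248) q7415, e3 q11639 L204001 q16105, e3 q11640 L171260 q8026, e3 q11641 L171266 q8027, e3 q11642 L204059 q16113, e3 q11643 (flp_e L171272) q7418, e3 q11644 (flp_e L204083) q16116, e3 q11645 (flp_e L204091) q16117, e3 q11646 L171292 q8032, e3 q11647 L171302 q8033, trivial⟩ (by decide +kernel)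

theorem ce_e_182 : ∀ r, r < 64 → sm ge (Qf (11648 + r)) = Qf (tab Gen.e (11648 + r)) :=
  edges_tab (sm ge) Qf (tab Gen.e) 11648 [(11648, 16122), (11649, 7421), (11650, 16126), (11651, 16127), (11652, 7423), (11653, 7424), (11654, 16132), (11655, 16133), (11656, 8041), (11657, 8042), (11658, 16141), (11659, 7427), (11660, 16144), (11661, 16145), (11662, 7429), (11663, 7430), (11664, 16148), (11665, 16149), (11666, 13221), (11667, 13222), (11668, 13223), (11669, 16162), (11670, 13225), (11671, 13226), (11672, 7434), (11673, 13241), (11674, 13242), (11675, 13243), (11676, 16177), (11677, 13245), (11678, 13246), (11679, 7438), (11680, 14747), (11681, 14768), (11682, 7447), (11683, 15845), (11684, 15026), (11685, 7450), (11686, 15611), (11687, 15030), (11688, 9410), (11689, 7459), (11690, 7460), (11691, 7542), (11692, 7587), (11693, 7469), (11694, 16186), (11695, 7474), (11696, 16187), (11697, 7480), (11698, 7482), (11699, 16188), (11700, 16189), (11701, 7485), (11702, 16190), (11703, 7489), (11704, 7491), (11705,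 16191), (11706, 16192), (11707, 7494), (11708, 16193), (11709, 12607), (11710, 7503), (11711, 16194)]
    ⟨e3 q11648 L204127 q16122, e3 q11649 (flp_e L171310) q7421, e3 q11650 (flp_e L204147) q16126, e3 q11651 (flp_e L204153) q16127, e3 q11652 L171328 q7423, e3 q11653 L171336 q7424, e3 q11654 (flp_e L204185) q16132, e3 q11655 (flp_e L204195) q16133, e3 q11656 L171354 q8041, e3 q11657 L171360 q8042, e3 q11658 L204249 q16141, e3 q11659 (flp_e L171366) q7427, e3 q11660 (flp_e L204269) q16144, e3 q11661 (flp_e L204277) q16145, e3 q11662 L171388 q7429, e3 q11663 L171396 q7430, e3 q11664 (flp_e L204297) q16148, e3 q11665 (flp_e L204307) q16149, e3 q11666 (flp_e L182910) q13221, e3 q11667 (flp_e L182916) q13222, e3 q11668 (flp_e L182920) q13223, e3 q11669 L204378 q16162, e3 q11670 (flp_e L182934) q13225, e3 q11671 (flp_e L182938) q13226, e3 q11672 (flp_e L171433) q7434, e3 q11673 (flp_e L183049) q13241, e3 q11674 (flp_e L183059) q13242, e3 q11675 (flp_e L183065) q13243, e3 q11676 L204465 q16177, e3 q11677 (flp_e L183081)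 q13245, e3 q11678 (flp_e L183089) q13246, e3 q11679 (flp_e L171466) q7438, e3 q11680 (flp_e L194434) q14747, e3 q11681 (flp_e L194627) q14768, e3 q11682 (flp_e L171496) q7447, e3 q11683 (flp_e L202182) q15845, e3 q11684 (flp_e L196885) q15026, e3 q11685 (flp_e L171512) q7450, e3 q11686 (flp_e L200541) q15611, e3 q11687 (flp_e L196911) q15030, e3 q11688 L171535 q9410, e3 q11689 L171542 q7459, e3 q11690 L171554 q7460, e3 q11691 L171562 q7542, e3 q11692 L171569 q7587, e3 q11693 (flp_e L171574) q7469, e3 q11694 (flp_e L204539) q16186, e3 q11695 (flp_e L171590) q7474, e3 q11696 (flp_e L204550) q16187, e3 q11697 (flp_e L171606) q7480, e3 q11698 L171620 q7482, e3 q11699 L204555 q16188, e3 q11700 L204567 q16189, e3 q11701 (flp_e L171642) q7485, e3 q11702 (flp_e L204579) q16190, e3 q11703 (flp_e L171650) q7489, e3 q11704 L171664 q7491, e3 q11705 L204581 q16191, e3 q11706 L204593 q16192, e3 q11707 (flp_e L171686) q7494, e3 q11708 (flp_e L204605) q16193, e3 q11709 (flp_e L178535) q12607, e3 q11710 L171704 q7503, e3 q11711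 (flp_e L204609) q16194, trivial⟩ (by decide +kernel)

theorem ce_e_183 : ∀ r, r < 64 → sm ge (Qf (11712 + r)) = Qf (tab Gen.e (11712 + r)) :=
  edges_tab (sm ge) Qf (tab Gen.e) 11712 [(11712, 15110), (11713, 7507), (11714, 7508), (11715, 16182), (11716, 16195), (11717, 16196), (11718, 12613), (11719, 7517), (11720, 16199), (11721, 15122), (11722, 7521), (11723, 7522), (11724, 16184), (11725, 16200), (11726, 16201), (11727, 9078), (11728, 7532), (11729, 7534), (11730, 7535), (11731, 13390), (11732, 15216), (11733, 10857), (11734, 7543), (11735, 13666), (11736, 16183), (11737, 16208), (11738, 7544), (11739, 16210), (11740, 15226), (11741, 16212), (11742, 15229), (11743, 15230), (11744, 12659), (11745, 7549), (11746, 12660), (11747, 7552), (11748, 16214), (11749, 15239), (11750, 15240), (11751, 16218), (11752, 15242), (11753, 7556), (11754, 16219), (11755, 15247), (11756, 12655), (11757, 7561), (11758, 16221), (11759, 15253), (11760, 15254), (11761, 12656), (11762, 7565), (11763, 7566), (11764, 12654), (11765, 16226),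 (11766, 16227), (11767, 15266), (11768, 15267), (11769, 15268), (11770, 9131), (11771, 7577), (11772, 7579), (11773, 7580), (11774, 13441), (11775, 15269)]
    ⟨e3 q11712 (flp_e L197383) q15110, e3 q11713 L171726 q7507, e3 q11714 L171737 q7508, e3 q11715 (flp_e L204497) q16182, e3 q11716 (flp_e L204617) q16195, e3 q11717 (flp_e L204623) q16196, e3 q11718 (flp_e L178581) q12613, e3 q11719 L171774 q7517, e3 q11720 (flp_e L204650) q16199, e3 q11721 (flp_e L197483) q15122, e3 q11722 L171796 q7521, e3 q11723 L171807 q7522, e3 q11724 (flp_e L204518) q16184, e3 q11725 (flp_e L204658) q16200, e3 q11726 (flp_e L204664) q16201, e3 q11727 L171842 q9078, e3 q11728 (flp_e L171844) q7532, e3 q11729 L171864 q7534, e3 q11730 L171874 q7535, e3 q11731 (flp_e L184219) q13390, e3 q11732 (flp_e L198041) q15216, e3 q11733 L171908 q10857, e3 q11734 L171917 q7543, e3 q11735 (flp_e L186496) q13666, e3 q11736 (flp_e L204508) q16183, e3 q11737 L204729 q16208, e3 q11738 (flp_e L171933) q7544, e3 q11739 (flp_e L204754) q16210, e3 q11740 (flp_e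 L198103) q15226, e3 q11741 L204768 q16212, e3 q11742 (flp_e L198119) q15229, e3 q11743 (flp_e L198129) q15230, e3 q11744 (flp_e L178949) q12659, e3 q11745 (flp_e L171978) q7549, e3 q11746 (flp_e L178963) q12660, e3 q11747 L171992 q7552, e3 q11748 (flp_e L204784) q16214, e3 q11749 (flp_e L198181) q15239, e3 q11750 (flp_e L198187) q15240, e3 q11751 L204815 q16218, e3 q11752 (flp_e L198206) q15242, e3 q11753 (flp_e L172023) q7556, e3 q11754 (flp_e L204833) q16219, e3 q11755 (flp_e L198236) q15247, e3 q11756 (flp_e L178911) q12655, e3 q11757 L172057 q7561, e3 q11758 (flp_e L204847) q16221, e3 q11759 (flp_e L198280) q15253, e3 q11760 (flp_e L198286) q15254, e3 q11761 (flp_e L178923) q12656, e3 q11762 L172087 q7565, e3 q11763 L172094 q7566, e3 q11764 (flp_e L178900) q12654, e3 q11765 (flp_e L204881) q16226, e3 q11766 (flp_e L204885) q16227, e3 q11767 (flp_e L198376) q15266, e3 q11768 (flp_e L198386) q15267, e3 q11769 (flp_e L198392) q15268, e3 q11770 L172133 q9131, e3 q11771 (flp_e L172135) q7577, e3 q11772 L172153 q7579,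 e3 q11773 L172163 q7580, e3 q11774 (flp_e L184577) q13441, e3 q11775 (flp_e L198398) q15269, trivial⟩ (by decide +kernel)

theorem ce_e_184 : ∀ r, r < 64 → sm ge (Qf (11776 + r)) = Qf (tab Gen.e (11776 + r)) :=
  edges_tab (sm ge) Qf (tab Gen.e) 11776 [(11776, 10862), (11777, 7588), (11778, 13665), (11779, 16185), (11780, 16238), (11781, 7589), (11782, 16240), (11783, 15279), (11784, 16242), (11785, 15282), (11786, 15283), (11787, 12650), (11788, 7594), (11789, 12651), (11790, 7597), (11791, 16244), (11792, 15292), (11793, 15293), (11794, 16248), (11795, 15295), (11796, 7601), (11797, 16249), (11798, 15300), (11799, 12646), (11800, 7606), (11801, 16251), (11802, 15306), (11803, 15307), (11804, 12647), (11805, 7610), (11806, 7611), (11807, 12645), (11808, 16256), (11809, 16257), (11810, 15319), (11811, 15320), (11812, 15321), (11813, 16264), (11814, 15534), (11815, 15535), (11816, 15536), (11817, 7620), (11818, 16267), (11819, 16268), (11820, 16269), (11821, 13218), (11822, 15543), (11823, 15544), (11824, 15545),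 (11825, 15546), (11826, 15547), (11827, 15548), (11828, 16278), (11829, 15550), (11830, 15551), (11831, 15552), (11832, 15553), (11833, 16280), (11834, 16281), (11835, 7629), (11836, 16282), (11837, 15559), (11838, 16285), (11839, 10637)]
    ⟨e3 q11776 L172199 q10862, e3 q11777 L172208 q7588, e3 q11778 (flp_e L186487) q13665, e3 q11779 (flp_e L204529) q16185, e3 q11780 L204963 q16238, e3 q11781 (flp_e L172226) q7589, e3 q11782 (flp_e L204994) q16240, e3 q11783 (flp_e L198468) q15279, e3 q11784 L205010 q16242, e3 q11785 (flp_e L198488) q15282, e3 q11786 (flp_e L198494) q15283, e3 q11787 (flp_e L178858) q12650, e3 q11788 (flp_e L172277) q7594, e3 q11789 (flp_e L178872) q12651, e3 q11790 L172291 q7597, e3 q11791 (flp_e L205026) q16244, e3 q11792 (flp_e L198546) q15292, e3 q11793 (flp_e L198552) q15293, e3 q11794 L205063 q16248, e3 q11795 (flp_e L198577) q15295, e3 q11796 (flp_e L172328) q7601, e3 q11797 (flp_e L205081) q16249, e3 q11798 (flp_e L198607) q15300, e3 q11799 (flp_e L178820) q12646, e3 q11800 L172362 q7606,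 e3 q11801 (flp_e L205095) q16251, e3 q11802 (flp_e L198651) q15306, e3 q11803 (flp_e L198657) q15307, e3 q11804 (flp_e L178832) q12647, e3 q11805 L172392 q7610, e3 q11806 L172401 q7611, e3 q11807 (flp_e L178809) q12645, e3 q11808 (flp_e L205131) q16256, e3 q11809 (flp_e L205137) q16257, e3 q11810 (flp_e L198755) q15319, e3 q11811 (flp_e L198765) q15320, e3 q11812 (flp_e L198771) q15321, e3 q11813 L205181 q16264, e3 q11814 (flp_e L200017) q15534, e3 q11815 (flp_e L200025) q15535, e3 q11816 (flp_e L200037) q15536, e3 q11817 L172470 q7620, e3 q11818 (flp_e L205227) q16267, e3 q11819 (flp_e L205231) q16268, e3 q11820 (flp_e L205240) q16269, e3 q11821 (flp_e L182887) q13218, e3 q11822 (flp_e L200073) q15543, e3 q11823 (flp_e L200083) q15544, e3 q11824 (flp_e L200091) q15545, e3 q11825 (flp_e L200097) q15546, e3 q11826 (flp_e L200109) q15547, e3 q11827 (flp_e L200115) q15548, e3 q11828 L205312 q16278, e3 q11829 (flp_e L200129) q15550, e3 q11830 (flp_e L200135) q15551, e3 q11831 (flp_e L200143) q15552, e3 q11832 (flp_e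 L200149) q15553, e3 q11833 L205328 q16280, e3 q11834 L205340 q16281, e3 q11835 (flp_e L172577) q7629, e3 q11836 (flp_e L205358) q16282, e3 q11837 (flp_e L200187) q15559, e3 q11838 L205376 q16285, e3 q11839 L172605 q10637, trivial⟩ (by decide +kernel)

theorem ce_e_185 : ∀ r, r < 64 → sm ge (Qf (11840 + r)) = Qf (tab Gen.e (11840 + r)) :=
  edges_tab (sm ge) Qf (tab Gen.e) 11840 [(11840, 10806), (11841, 7634), (11842, 7635), (11843, 16205), (11844, 15561), (11845, 15562), (11846, 15563), (11847, 10808), (11848, 7640), (11849, 7641), (11850, 14998), (11851, 14901), (11852, 7644), (11853, 7645), (11854, 7646), (11855, 16290), (11856, 16291), (11857, 15568), (11858, 15569), (11859, 15570), (11860, 15691), (11861, 7652), (11862, 7653), (11863, 16293), (11864, 16294), (11865, 16295), (11866, 15580), (11867, 15581), (11868, 16086), (11869, 15583), (11870, 16010), (11871, 7657), (11872, 16302), (11873, 15774), (11874, 7662), (11875, 16303), (11876, 15592), (11877, 16305), (11878, 9739), (11879, 7664), (11880, 7666), (11881,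 15599), (11882, 15600), (11883, 7671), (11884, 7670), (11885, 16308), (11886, 16309), (11887, 7675), (11888, 7676), (11889, 7677), (11890, 13605), (11891, 16310), (11892, 16311), (11893, 7682), (11894, 7683), (11895, 7684), (11896, 7685), (11897, 7686), (11898, 16312), (11899, 16313), (11900, 16314), (11901, 16315), (11902, 16316), (11903, 16317)]
    ⟨e3 q11840 L172616 q10806, e3 q11841 L172626 q7634, e3 q11842 L172634 q7635, e3 q11843 (flp_e L204705) q16205, e3 q11844 (flp_e L200197) q15561, e3 q11845 (flp_e L200206) q15562, e3 q11846 (flp_e L200215) q15563, e3 q11847 L172665 q10808, e3 q11848 L172675 q7640, e3 q11849 L172687 q7641, e3 q11850 (flp_e L196667) q14998, e3 q11851 (flp_e L195825) q14901, e3 q11852 L172707 q7644, e3 q11853 L172713 q7645, e3 q11854 L172721 q7646, e3 q11855 (flp_e L205436) q16290, e3 q11856 (flp_e L205440) q16291, e3 q11857 (flp_e L200247) q15568, e3 q11858 (flp_e L200253) q15569, e3 q11859 (flp_e L200265) q15570, e3 q11860 (flp_e L201149) q15691, e3 q11861 L172775 q7652, e3 q11862 L172779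 q7653, e3 q11863 (flp_e L205460) q16293, e3 q11864 (flp_e L205470) q16294, e3 q11865 (flp_e L205482) q16295, e3 q11866 (flp_e L200333) q15580, e3 q11867 (flp_e L200337) q15581, e3 q11868 (flp_e L203899) q16086, e3 q11869 (flp_e L200351) q15583, e3 q11870 (flp_e L203399) q16010, e3 q11871 (flp_e L172839) q7657, e3 q11872 L205546 q16302, e3 q11873 (flp_e L201674) q15774, e3 q11874 (flp_e L172863) q7662, e3 q11875 (flp_e L205558) q16303, e3 q11876 (flp_e L200397) q15592, e3 q11877 L205572 q16305, e3 q11878 (flp_e L172893) q9739, e3 q11879 (flp_e L172895) q7664, e3 q11880 L172901 q7666, e3 q11881 (flp_e L200431) q15599, e3 q11882 (flp_e L200445) q15600, e3 q11883 L172933 q7671, e3 q11884 L172939 q7670, e3 q11885 (flp_e L205602) q16308, e3 q11886 (flp_e L205617) q16309, e3 q11887 L172967 q7675, e3 q11888 L172974 q7676, e3 q11889 L172980 q7677, e3 q11890 (flp_e L186011) q13605, e3 q11891 (flp_e L205625) q16310, e3 q11892 (flp_e L205629) q16311, e3 q11893 L173012 q7682, e3 q11894 L173016 q7683, e3 q11895 L173022 q7684,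 e3 q11896 L173026 q7685, e3 q11897 L173030 q7686, e3 q11898 (flp_e L205637) q16312, e3 q11899 (flp_e L205643) q16313, e3 q11900 (flp_e L205649) q16314, e3 q11901 (flp_e L205657) q16315, e3 q11902 (flp_e L205663) q16316, e3 q11903 (flp_e L205675) q16317, trivial⟩ (by decide +kernel)

theorem ce_e_186 : ∀ r, r < 64 → sm ge (Qf (11904 + r)) = Qf (tab Gen.e (11904 + r)) :=
  edges_tab (sm ge) Qf (tab Gen.e) 11904 [(11904, 16318), (11905, 15627), (11906, 15629), (11907, 14645), (11908, 14391), (11909, 14646), (11910, 7692), (11911, 16325), (11912, 7693), (11913, 14663), (11914, 14664), (11915, 14665), (11916, 15630), (11917, 14889), (11918, 15632), (11919, 10585), (11920, 7700), (11921, 10635), (11922, 15635), (11923, 15636), (11924, 15637), (11925, 15933), (11926, 15639), (11927, 16327), (11928, 15641), (11929, 15642), (11930, 7705), (11931, 15647), (11932, 16331), (11933, 15649), (11934, 16332), (11935, 7709), (11936, 16334), (11937, 16335), (11938, 15654), (11939, 7712), (11940, 16338), (11941, 7714), (11942, 16341),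 (11943, 16342), (11944, 7715), (11945, 16345), (11946, 7717), (11947, 16348), (11948, 7719), (11949, 16350), (11950, 16351), (11951, 15670), (11952, 15671), (11953, 15672), (11954, 10566), (11955, 15674), (11956, 15675), (11957, 10667), (11958, 15678), (11959, 7726), (11960, 15682), (11961, 7730), (11962, 10794), (11963, 15688), (11964, 15689), (11965, 15692), (11966, 15695), (11967, 15696)]
    ⟨e3 q11904 (flp_e L205689) q16318, e3 q11905 (flp_e L200679) q15627, e3 q11906 (flp_e L200697) q15629, e3 q11907 (flp_e L193607) q14645, e3 q11908 (flp_e L191964) q14391, e3 q11909 (flp_e L193613) q14646, e3 q11910 (flp_e L173126) q7692, e3 q11911 L205749 q16325, e3 q11912 (flp_e L173140) q7693, e3 q11913 (flp_e L193727) q14663, e3 q11914 (flp_e L193735) q14664, e3 q11915 (flp_e L193743) q14665, e3 q11916 (flp_e L200707) q15630, e3 q11917 (flp_e L195729) q14889, e3 q11918 (flp_e L200727) q15632, e3 q11919 (flp_e L173198) q10585, e3 q11920 (flp_e L173202) q7700, e3 q11921 L173220 q10635, e3 q11922 (flp_e L200751) q15635,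 e3 q11923 (flp_e L200769) q15636, e3 q11924 (flp_e L200777) q15637, e3 q11925 (flp_e L202923) q15933, e3 q11926 (flp_e L200795) q15639, e3 q11927 L205767 q16327, e3 q11928 (flp_e L200809) q15641, e3 q11929 (flp_e L200815) q15642, e3 q11930 (flp_e L173294) q7705, e3 q11931 (flp_e L200843) q15647, e3 q11932 L205802 q16331, e3 q11933 (flp_e L200862) q15649, e3 q11934 L205810 q16332, e3 q11935 (flp_e L173327) q7709, e3 q11936 (flp_e L205824) q16334, e3 q11937 (flp_e L205828) q16335, e3 q11938 (flp_e L200888) q15654, e3 q11939 (flp_e L173349) q7712, e3 q11940 L205854 q16338, e3 q11941 (flp_e L173359) q7714, e3 q11942 (flp_e L205876) q16341, e3 q11943 (flp_e L205880) q16342, e3 q11944 (flp_e L173371) q7715, e3 q11945 (flp_e L205907) q16345, e3 q11946 L173387 q7717, e3 q11947 (flp_e L205919) q16348, e3 q11948 L173393 q7719, e3 q11949 (flp_e L205929) q16350, e3 q11950 (flp_e L205933) q16351, e3 q11951 (flp_e L200960) q15670, e3 q11952 (flp_e L200970) q15671, e3 q11953 (flp_e L200982) q15672, e3 q11954 (flp_e L173425) q10566,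 e3 q11955 (flp_e L201004) q15674, e3 q11956 (flp_e L201012) q15675, e3 q11957 (flp_e L173469) q10667, e3 q11958 (flp_e L201038) q15678, e3 q11959 (flp_e L173481) q7726, e3 q11960 (flp_e L201086) q15682, e3 q11961 L173502 q7730, e3 q11962 L173510 q10794, e3 q11963 (flp_e L201133) q15688, e3 q11964 (flp_e L201137) q15689, e3 q11965 (flp_e L201157) q15692, e3 q11966 (flp_e L201183) q15695, e3 q11967 (flp_e L201193) q15696, trivial⟩ (by decide +kernel)

theorem ce_e_187 : ∀ r, r < 64 → sm ge (Qf (11968 + r)) = Qf (tab Gen.e (11968 + r)) :=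
  edges_tab (sm ge) Qf (tab Gen.e) 11968 [(11968, 15698), (11969, 7737), (11970, 15702), (11971, 15703), (11972, 15704), (11973, 15925), (11974, 15708), (11975, 15709), (11976, 15710), (11977, 16361), (11978, 15859), (11979, 15713), (11980, 7746), (11981, 16363), (11982, 15717), (11983, 16365), (11984, 7749), (11985, 16368), (11986, 7751), (11987, 7752), (11988, 16369), (11989, 16370), (11990, 14674), (11991, 15727), (11992, 16374), (11993, 7756), (11994, 16378), (11995, 16379), (11996, 7924), (11997, 7758), (11998, 14332), (11999, 15738), (12000, 7762), (12001, 16386), (12002, 16390), (12003, 7763), (12004, 16394), (12005, 16395), (12006, 16396), (12007, 7764), (12008, 16399), (12009, 16400), (12010, 16398), (12011, 7766), (12012, 7767), (12013, 16405), (12014, 16406), (12015, 7770), (12016, 7769), (12017, 16408), (12018, 16409), (12019, 7772), (12020, 16412), (12021, 7774), (12022, 16413), (12023, 16414), (12024, 15769), (12025, 15770), (12026, 10744), (12027, 15771), (12028, 15772), (12029, 15773), (12030, 16421),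 (12031, 15778)]
    ⟨e3 q11968 (flp_e L201215) q15698, e3 q11969 (flp_e L173558) q7737, e3 q11970 (flp_e L201247) q15702, e3 q11971 (flp_e L201257) q15703, e3 q11972 (flp_e L201263) q15704, e3 q11973 (flp_e L202834) q15925, e3 q11974 (flp_e L201292) q15708, e3 q11975 (flp_e L201296) q15709, e3 q11976 (flp_e L201306) q15710, e3 q11977 L206022 q16361, e3 q11978 (flp_e L202304) q15859, e3 q11979 (flp_e L201332) q15713, e3 q11980 (flp_e L173637) q7746, e3 q11981 (flp_e L206044) q16363, e3 q11982 (flp_e L201354) q15717, e3 q11983 L206058 q16365, e3 q11984 (flp_e L173655) q7749, e3 q11985 (flp_e L206082) q16368, e3 q11986 L173673 q7751, e3 q11987 L173677 q7752, e3 q11988 (flp_e L206092) q16369, e3 q11989 (flp_e L206104) q16370, e3 q11990 (flp_e L193819) q14674, e3 q11991 (flp_e L201408) q15727, e3 q11992 L206138 q16374, e3 q11993 (flp_e L173715) q7756, e3 q11994 (flp_e L206170) q16378, e3 q11995 (flp_e L206174) q16379, e3 q11996 L173731 q7924, e3 q11997 L173739 q7758, e3 q11998 (flp_e L191547) q14332, e3 q11999 (flp_e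 L201474) q15738, e3 q12000 (flp_e L173767) q7762, e3 q12001 L206236 q16386, e3 q12002 L206276 q16390, e3 q12003 (flp_e L173775) q7763, e3 q12004 (flp_e L206310) q16394, e3 q12005 (flp_e L206318) q16395, e3 q12006 L206320 q16396, e3 q12007 (flp_e L173797) q7764, e3 q12008 (flp_e L206344) q16399, e3 q12009 (flp_e L206348) q16400, e3 q12010 (flp_e L206340) q16398, e3 q12011 L173817 q7766, e3 q12012 L173823 q7767, e3 q12013 (flp_e L206398) q16405, e3 q12014 (flp_e L206408) q16406, e3 q12015 L173843 q7770, e3 q12016 L173851 q7769, e3 q12017 (flp_e L206422) q16408, e3 q12018 (flp_e L206432) q16409, e3 q12019 L173865 q7772, e3 q12020 (flp_e L206450) q16412, e3 q12021 L173873 q7774, e3 q12022 (flp_e L206458) q16413, e3 q12023 (flp_e L206466) q16414, e3 q12024 (flp_e L201632) q15769, e3 q12025 (flp_e L201640) q15770, e3 q12026 (flp_e L173907) q10744, e3 q12027 (flp_e L201648) q15771, e3 q12028 (flp_e L201654) q15772, e3 q12029 (flp_e L201662) q15773, e3 q12030 L206532 q16421, e3 q12031 (flp_e L201716) q15778, trivial⟩ (by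 decide +kernel)

theorem ce_e_188 : ∀ r, r < 64 → sm ge (Qf (12032 + r)) = Qf (tab Gen.e (12032 + r)) :=
  edges_tab (sm ge) Qf (tab Gen.e) 12032 [(12032, 7786), (12033, 16422), (12034, 16423), (12035, 16424), (12036, 13238), (12037, 15785), (12038, 15786), (12039, 15787), (12040, 16433), (12041, 15789), (12042, 15790), (12043, 15791), (12044, 15792), (12045, 15793), (12046, 15794), (12047, 16435), (12048, 16436), (12049, 7794), (12050, 16437), (12051, 15799), (12052, 10827), (12053, 10724), (12054, 7799), (12055, 7800), (12056, 16228), (12057, 15801), (12058, 15802), (12059, 15803), (12060, 10829), (12061, 7805), (12062, 7806), (12063, 14949), (12064, 15012), (12065, 7809), (12066, 7810), (12067, 7811), (12068, 16444), (12069, 16445), (12070, 15808), (12071, 15809), (12072, 15922), (12073, 15811), (12074, 7817), (12075, 7818), (12076, 16446), (12077, 16447), (12078, 16448), (12079, 15820), (12080, 15821), (12081, 15823), (12082, 7822), (12083, 16452), (12084, 15999), (12085, 7827), (12086, 16454), (12087, 9759),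 (12088, 7828), (12089, 7830), (12090, 15837), (12091, 15838), (12092, 7835), (12093, 7834), (12094, 16457), (12095, 16458)]
    ⟨e3 q12032 L173949 q7786, e3 q12033 (flp_e L206546) q16422, e3 q12034 (flp_e L206550) q16423, e3 q12035 (flp_e L206559) q16424, e3 q12036 (flp_e L183026) q13238, e3 q12037 (flp_e L201754) q15785, e3 q12038 (flp_e L201766) q15786, e3 q12039 (flp_e L201776) q15787, e3 q12040 L206633 q16433, e3 q12041 (flp_e L201792) q15789, e3 q12042 (flp_e L201802) q15790, e3 q12043 (flp_e L201810) q15791, e3 q12044 (flp_e L201818) q15792, e3 q12045 (flp_e L201828) q15793, e3 q12046 (flp_e L201836) q15794, e3 q12047 L206649 q16435, e3 q12048 L206661 q16436, e3 q12049 (flp_e L174080) q7794, e3 q12050 (flp_e L206679) q16437, e3 q12051 (flp_e L201868) q15799, e3 q12052 L174106 q10827, e3 q12053 L174116 q10724, e3 q12054 L174125 q7799, e3 q12055 L174135 q7800, e3 q12056 (flp_e L204892) q16228, e3 q12057 (flp_e L201880) q15801, e3 q12058 (flp_e L201889) q15802, e3 q12059 (flp_e L201898) q15803, e3 q12060 L174170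 q10829, e3 q12061 L174180 q7805, e3 q12062 L174190 q7806, e3 q12063 (flp_e L196232) q14949, e3 q12064 (flp_e L196779) q15012, e3 q12065 L174214 q7809, e3 q12066 L174222 q7810, e3 q12067 L174232 q7811, e3 q12068 (flp_e L206755) q16444, e3 q12069 (flp_e L206761) q16445, e3 q12070 (flp_e L201928) q15808, e3 q12071 (flp_e L201940) q15809, e3 q12072 (flp_e L202808) q15922, e3 q12073 (flp_e L201956) q15811, e3 q12074 L174292 q7817, e3 q12075 L174298 q7818, e3 q12076 (flp_e L206769) q16446, e3 q12077 (flp_e L206781) q16447, e3 q12078 (flp_e L206793) q16448, e3 q12079 (flp_e L202016) q15820, e3 q12080 (flp_e L202020) q15821, e3 q12081 (flp_e L202034) q15823, e3 q12082 (flp_e L174344) q7822, e3 q12083 L206829 q16452, e3 q12084 (flp_e L203311) q15999, e3 q12085 (flp_e L174370) q7827, e3 q12086 L206847 q16454, e3 q12087 (flp_e L174388) q9759, e3 q12088 (flp_e L174390) q7828, e3 q12089 L174396 q7830, e3 q12090 (flp_e L202108) q15837, e3 q12091 (flp_e L202122) q15838, e3 q12092 L174430 q7835, e3 q12093 L174436 q7834, e3 q12094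 (flp_e L206877) q16457, e3 q12095 (flp_e L206892) q16458, trivial⟩ (by decide +kernel)

theorem ce_e_189 : ∀ r, r < 64 → sm ge (Qf (12096 + r)) = Qf (tab Gen.e (12096 + r)) :=
  edges_tab (sm ge) Qf (tab Gen.e) 12096 [(12096, 7839), (12097, 7840), (12098, 7841), (12099, 13606), (12100, 16459), (12101, 16460), (12102, 7846), (12103, 7847), (12104, 7848), (12105, 7849), (12106, 7850), (12107, 16461), (12108, 16462), (12109, 16463), (12110, 16464), (12111, 16465), (12112, 15861), (12113, 15863), (12114, 14336), (12115, 14675), (12116, 7856), (12117, 16469), (12118, 7857), (12119, 14690), (12120, 14691), (12121, 14692), (12122, 15864), (12123, 14857), (12124, 15866), (12125, 10634), (12126, 7864), (12127, 10588), (12128, 15869), (12129, 15870), (12130, 15871), (12131, 15873), (12132, 16470), (12133, 15875), (12134, 15876), (12135, 7869), (12136, 15881), (12137, 16473), (12138, 15883), (12139, 16474), (12140, 7873), (12141, 16476), (12142, 16477), (12143, 15886), (12144, 16479), (12145, 7877), (12146, 16482), (12147,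 16483), (12148, 16383), (12149, 7879), (12150, 16488), (12151, 7881), (12152, 16490), (12153, 16491), (12154, 15900), (12155, 15901), (12156, 15902), (12157, 10579), (12158, 15904), (12159, 15905)]
    ⟨e3 q12096 L174466 q7839, e3 q12097 L174475 q7840, e3 q12098 L174485 q7841, e3 q12099 (flp_e L186022) q13606, e3 q12100 (flp_e L206904) q16459, e3 q12101 (flp_e L206912) q16460, e3 q12102 L174535 q7846, e3 q12103 L174539 q7847, e3 q12104 L174545 q7848, e3 q12105 L174549 q7849, e3 q12106 L174557 q7850, e3 q12107 (flp_e L206922) q16461, e3 q12108 (flp_e L206928) q16462, e3 q12109 (flp_e L206938) q16463, e3 q12110 (flp_e L206948) q16464, e3 q12111 (flp_e L206962) q16465, e3 q12112 (flp_e L202320) q15861, e3 q12113 (flp_e L202338) q15863, e3 q12114 (flp_e L191583) q14336, e3 q12115 (flp_e L193825) q14675, e3 q12116 (flp_e L174641) q7856, e3 q12117 L206990 q16469, e3 q12118 (flp_e L174655) q7857, e3 q12119 (flp_e L193931) q14690, e3 q12120 (flp_e L193939) q14691, e3 q12121 (flp_e L193947) q14692, e3 q12122 (flp_e L202348)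 q15864, e3 q12123 (flp_e L195442) q14857, e3 q12124 (flp_e L202368) q15866, e3 q12125 (flp_e L174717) q10634, e3 q12126 (flp_e L174721) q7864, e3 q12127 L174739 q10588, e3 q12128 (flp_e L202392) q15869, e3 q12129 (flp_e L202410) q15870, e3 q12130 (flp_e L202418) q15871, e3 q12131 (flp_e L202436) q15873, e3 q12132 L206998 q16470, e3 q12133 (flp_e L202448) q15875, e3 q12134 (flp_e L202456) q15876, e3 q12135 (flp_e L174813) q7869, e3 q12136 (flp_e L202490) q15881, e3 q12137 L207025 q16473, e3 q12138 (flp_e L202509) q15883, e3 q12139 L207033 q16474, e3 q12140 (flp_e L174844) q7873, e3 q12141 (flp_e L207045) q16476, e3 q12142 (flp_e L207055) q16477, e3 q12143 (flp_e L202535) q15886, e3 q12144 L207069 q16479, e3 q12145 (flp_e L174868) q7877, e3 q12146 (flp_e L207089) q16482, e3 q12147 (flp_e L207097) q16483, e3 q12148 (flp_e L206208) q16383, e3 q12149 L174888 q7879, e3 q12150 (flp_e L207132) q16488, e3 q12151 L174898 q7881, e3 q12152 (flp_e L207144) q16490, e3 q12153 (flp_e L207148) q16491, e3 q12154 (flp_e L202607) q15900,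 e3 q12155 (flp_e L202617) q15901, e3 q12156 (flp_e L202629) q15902, e3 q12157 (flp_e L174936) q10579, e3 q12158 (flp_e L202651) q15904, e3 q12159 (flp_e L202659) q15905, trivial⟩ (by decide +kernel)

theorem ce_e_190 : ∀ r, r < 64 → sm ge (Qf (12160 + r)) = Qf (tab Gen.e (12160 + r)) :=
  edges_tab (sm ge) Qf (tab Gen.e) 12160 [(12160, 10749), (12161, 15908), (12162, 7888), (12163, 15912), (12164, 7892), (12165, 10713), (12166, 15918), (12167, 15919), (12168, 15921), (12169, 15924), (12170, 15927), (12171, 7898), (12172, 15931), (12173, 15932), (12174, 15936), (12175, 16498), (12176, 15625), (12177, 15939), (12178, 7906), (12179, 16500), (12180, 15943), (12181, 7909), (12182, 16502), (12183, 7911), (12184, 7912), (12185, 16503), (12186, 16504), (12187, 15953), (12188, 14387), (12189, 15963), (12190, 7919), (12191, 16506), (12192, 7920), (12193, 16510), (12194, 16511), (12195, 16377), (12196, 7922), (12197, 7923), (12198, 16514), (12199, 16515), (12200, 16382), (12201, 16337), (12202, 7926), (12203, 16519), (12204,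 7928), (12205, 16520), (12206, 16521), (12207, 15994), (12208, 15995), (12209, 10662), (12210, 15996), (12211, 15997), (12212, 15998), (12213, 7938), (12214, 12603), (12215, 8337), (12216, 10261), (12217, 7947), (12218, 15909), (12219, 14661), (12220, 12537), (12221, 14662), (12222, 16004), (12223, 12457)]
    ⟨e3 q12160 (flp_e L174976) q10749, e3 q12161 (flp_e L202685) q15908, e3 q12162 (flp_e L174988) q7888, e3 q12163 (flp_e L202733) q15912, e3 q12164 L175009 q7892, e3 q12165 L175017 q10713, e3 q12166 (flp_e L202780) q15918, e3 q12167 (flp_e L202784) q15919, e3 q12168 (flp_e L202800) q15921, e3 q12169 (flp_e L202826) q15924, e3 q12170 (flp_e L202860) q15927, e3 q12171 (flp_e L175065) q7898, e3 q12172 (flp_e L202900) q15931, e3 q12173 (flp_e L202907) q15932, e3 q12174 (flp_e L202943) q15936, e3 q12175 L207205 q16498, e3 q12176 (flp_e L200663) q15625, e3 q12177 (flp_e L202967) q15939, e3 q12178 (flp_e L175122) q7906, e3 q12179 (flp_e L207227) q16500, e3 q12180 (flp_e L202991) q15943, e3 q12181 (flp_e L175142) q7909,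 e3 q12182 (flp_e L207239) q16502, e3 q12183 L175160 q7911, e3 q12184 L175164 q7912, e3 q12185 (flp_e L207249) q16503, e3 q12186 (flp_e L207261) q16504, e3 q12187 (flp_e L203045) q15953, e3 q12188 (flp_e L191928) q14387, e3 q12189 (flp_e L203111) q15963, e3 q12190 (flp_e L175212) q7919, e3 q12191 L207281 q16506, e3 q12192 (flp_e L175216) q7920, e3 q12193 (flp_e L207321) q16510, e3 q12194 (flp_e L207329) q16511, e3 q12195 (flp_e L206166) q16377, e3 q12196 L175242 q7922, e3 q12197 L175248 q7923, e3 q12198 (flp_e L207345) q16514, e3 q12199 (flp_e L207355) q16515, e3 q12200 (flp_e L206198) q16382, e3 q12201 (flp_e L205852) q16337, e3 q12202 L175276 q7926, e3 q12203 (flp_e L207387) q16519, e3 q12204 L175286 q7928, e3 q12205 (flp_e L207395) q16520, e3 q12206 (flp_e L207403) q16521, e3 q12207 (flp_e L203269) q15994, e3 q12208 (flp_e L203277) q15995, e3 q12209 (flp_e L175320) q10662, e3 q12210 (flp_e L203285) q15996, e3 q12211 (flp_e L203291) q15997, e3 q12212 (flp_e L203299) q15998, e3 q12213 L175346 q7938, e3 q12214 (flp_e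 L178495) q12603, e3 q12215 L175366 q8337, e3 q12216 L175378 q10261, e3 q12217 L175386 q7947, e3 q12218 L202703 q15909, e3 q12219 (flp_e L193715) q14661, e3 q12220 L177878 q12537, e3 q12221 (flp_e L193721) q14662, e3 q12222 (flp_e L203356) q16004, e3 q12223 (flp_e L177268) q12457, trivial⟩ (by decide +kernel)

theorem ce_e_191 : ∀ r, r < 64 → sm ge (Qf (12224 + r)) = Qf (tab Gen.e (12224 + r)) :=
  edges_tab (sm ge) Qf (tab Gen.e) 12224 [(12224, 16005), (12225, 7952), (12226, 7956), (12227, 16530), (12228, 7959), (12229, 16533), (12230, 7961), (12231, 7962), (12232, 7965), (12233, 16534), (12234, 16535), (12235, 15857), (12236, 7967), (12237, 15856), (12238, 16538), (12239, 16032), (12240, 16033), (12241, 16034), (12242, 16542), (12243, 16544), (12244, 7970), (12245, 16547), (12246, 7972), (12247, 7973), (12248, 16044), (12249, 7976), (12250, 16549), (12251, 16548), (12252, 7978), (12253, 16553), (12254, 16554), (12255, 7981), (12256, 7982), (12257, 16555), (12258, 16556), (12259, 16060), (12260, 16061), (12261,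 16062), (12262, 16063), (12263, 16064), (12264, 8347), (12265, 7986), (12266, 7987), (12267, 12350), (12268, 12351), (12269, 8906), (12270, 7991), (12271, 7992), (12272, 7996), (12273, 12604), (12274, 8345), (12275, 10280), (12276, 8005), (12277, 15679), (12278, 14693), (12279, 12546), (12280, 14694), (12281, 16080), (12282, 12493), (12283, 16081), (12284, 8010), (12285, 8014), (12286, 16565), (12287, 8017)]
    ⟨e3 q12224 (flp_e L203363) q16005, e3 q12225 (flp_e L175424) q7952, e3 q12226 (flp_e L175432) q7956, e3 q12227 L207485 q16530, e3 q12228 (flp_e L175444) q7959, e3 q12229 (flp_e L207509) q16533, e3 q12230 L175501 q7961, e3 q12231 L175509 q7962, e3 q12232 (flp_e L175513) q7965, e3 q12233 (flp_e L207517) q16534, e3 q12234 (flp_e L207525) q16535, e3 q12235 (flp_e L202290) q15857, e3 q12236 (flp_e L175531) q7967, e3 q12237 (flp_e L202276) q15856, e3 q12238 (flp_e L207561) q16538, e3 q12239 (flp_e L203519) q16032, e3 q12240 (flp_e L203531) q16033, e3 q12241 (flp_e L203541) q16034, e3 q12242 L207591 q16542, e3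 q12243 L207612 q16544, e3 q12244 (flp_e L175581) q7970, e3 q12245 (flp_e L207638) q16547, e3 q12246 L175599 q7972, e3 q12247 L175607 q7973, e3 q12248 (flp_e L203611) q16044, e3 q12249 (flp_e L175619) q7976, e3 q12250 (flp_e L207648) q16549, e3 q12251 (flp_e L207644) q16548, e3 q12252 L175631 q7978, e3 q12253 (flp_e L207668) q16553, e3 q12254 (flp_e L207678) q16554, e3 q12255 L175647 q7981, e3 q12256 L175655 q7982, e3 q12257 (flp_e L207684) q16555, e3 q12258 (flp_e L207692) q16556, e3 q12259 (flp_e L203709) q16060, e3 q12260 (flp_e L203719) q16061, e3 q12261 (flp_e L203725) q16062, e3 q12262 (flp_e L203733) q16063, e3 q12263 (flp_e L203741) q16064, e3 q12264 L175721 q8347, e3 q12265 L175727 q7986, e3 q12266 L175733 q7987, e3 q12267 (flp_e L176350) q12350, e3 q12268 (flp_e L176364) q12351, e3 q12269 L175745 q8906, e3 q12270 L175751 q7991, e3 q12271 L175761 q7992, e3 q12272 L175769 q7996, e3 q12273 (flp_e L178505) q12604, e3 q12274 L175789 q8345, e3 q12275 L175801 q10280, e3 q12276 L175809 q8005, e3 q12277 L201056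 q15679, e3 q12278 (flp_e L193953) q14693, e3 q12279 L177943 q12546, e3 q12280 (flp_e L193959) q14694, e3 q12281 (flp_e L203856) q16080, e3 q12282 (flp_e L177543) q12493, e3 q12283 (flp_e L203863) q16081, e3 q12284 (flp_e L175855) q8010, e3 q12285 (flp_e L175863) q8014, e3 q12286 L207770 q16565, e3 q12287 (flp_e L175875) q8017, trivial⟩ (by decide +kernel)

theorem ce_e_192 : ∀ r, r < 64 → sm ge (Qf (12288 + r)) = Qf (tab Gen.e (12288 + r)) :=
  edges_tab (sm ge) Qf (tab Gen.e) 12288 [(12288, 16568), (12289, 8019), (12290, 8020), (12291, 8023), (12292, 16569), (12293, 16570), (12294, 15623), (12295, 8025), (12296, 16573), (12297, 15622), (12298, 16108), (12299, 16109), (12300, 16110), (12301, 16577), (12302, 16579), (12303, 8028), (12304, 16582), (12305, 8030), (12306, 8031), (12307, 16120), (12308, 8034), (12309, 16584), (12310, 16583), (12311, 8036), (12312, 16588), (12313, 16589), (12314, 8039), (12315, 8040), (12316, 16590), (12317, 16591), (12318, 16136), (12319, 16137), (12320, 16138), (12321, 16139), (12322,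 16140), (12323, 8339), (12324, 8044), (12325, 8045), (12326, 12396), (12327, 8913), (12328, 12397), (12329, 8049), (12330, 8050), (12331, 9205), (12332, 9207), (12333, 9208), (12334, 8053), (12335, 8055), (12336, 8163), (12337, 16599), (12338, 8172), (12339, 8059), (12340, 9754), (12341, 10722), (12342, 16601), (12343, 8061), (12344, 16602), (12345, 10692), (12346, 10723), (12347, 14989), (12348, 8069), (12349, 8486), (12350, 12267), (12351, 12268)]
    ⟨e3 q12288 (flp_e L207794) q16568, e3 q12289 L175891 q8019, e3 q12290 L175897 q8020, e3 q12291 (flp_e L175903) q8023, e3 q12292 (flp_e L207800) q16569, e3 q12293 (flp_e L207808) q16570, e3 q12294 (flp_e L200649) q15623, e3 q12295 (flp_e L175921) q8025, e3 q12296 (flp_e L207846) q16573, e3 q12297 (flp_e L200635) q15622, e3 q12298 (flp_e L204021) q16108, e3 q12299 (flp_e L204029) q16109, e3 q12300 (flp_e L204045) q16110, e3 q12301 L207876 q16577, e3 q12302 L207897 q16579, e3 q12303 (flp_e L175975) q8028, e3 q12304 (flp_e L207923) q16582, e3 q12305 L175993 q8030, e3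 q12306 L175999 q8031, e3 q12307 (flp_e L204115) q16120, e3 q12308 (flp_e L176013) q8034, e3 q12309 (flp_e L207933) q16584, e3 q12310 (flp_e L207929) q16583, e3 q12311 L176025 q8036, e3 q12312 (flp_e L207953) q16588, e3 q12313 (flp_e L207963) q16589, e3 q12314 L176041 q8039, e3 q12315 L176049 q8040, e3 q12316 (flp_e L207969) q16590, e3 q12317 (flp_e L207979) q16591, e3 q12318 (flp_e L204211) q16136, e3 q12319 (flp_e L204219) q16137, e3 q12320 (flp_e L204227) q16138, e3 q12321 (flp_e L204235) q16139, e3 q12322 (flp_e L204245) q16140, e3 q12323 L176113 q8339, e3 q12324 L176119 q8044, e3 q12325 L176125 q8045, e3 q12326 (flp_e L176773) q12396, e3 q12327 L176133 q8913, e3 q12328 (flp_e L176787) q12397, e3 q12329 L176143 q8049, e3 q12330 L176153 q8050, e3 q12331 L176165 q9205, e3 q12332 L176175 q9207, e3 q12333 L176185 q9208, e3 q12334 (flp_e L176189) q8053, e3 q12335 L176205 q8055, e3 q12336 L176215 q8163, e3 q12337 L208057 q16599, e3 q12338 L176245 q8172, e3 q12339 (flp_e L176250) q8059, e3 q12340 L176270 q9754, e3 q12341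 L176280 q10722, e3 q12342 L208082 q16601, e3 q12343 (flp_e L176290) q8061, e3 q12344 (flp_e L208096) q16602, e3 q12345 L176304 q10692, e3 q12346 L176314 q10723, e3 q12347 (flp_e L196586) q14989, e3 q12348 L176332 q8069, e3 q12349 L176340 q8486, e3 q12350 L176350 q12267, e3 q12351 L176364 q12268, trivial⟩ (by decide +kernel)

theorem ce_e_193 : ∀ r, r < 64 → sm ge (Qf (12352 + r)) = Qf (tab Gen.e (12352 + r)) :=
  edges_tab (sm ge) Qf (tab Gen.e) 12352 [(12352, 8073), (12353, 10073), (12354, 10362), (12355, 8077), (12356, 12406), (12357, 16604), (12358, 8078), (12359, 16606), (12360, 16607), (12361, 8082), (12362, 8080), (12363, 8081), (12364, 16610), (12365, 12401), (12366, 8084), (12367, 16612), (12368, 16611), (12369, 8086), (12370, 8087), (12371, 16617), (12372, 8092), (12373, 8093), (12374, 8091), (12375, 16619), (12376, 8120), (12377, 9241), (12378, 9243), (12379, 9244), (12380, 8097), (12381, 8100), (12382, 8193), (12383, 16622), (12384, 8202), (12385, 8103), (12386, 10803), (12387, 9734), (12388, 16624),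 (12389, 8105), (12390, 16625), (12391, 10804), (12392, 10776), (12393, 14941), (12394, 8112), (12395, 8494), (12396, 12326), (12397, 12328), (12398, 8118), (12399, 10039), (12400, 10325), (12401, 12365), (12402, 16627), (12403, 8121), (12404, 8123), (12405, 16629), (12406, 12356), (12407, 8125), (12408, 16630), (12409, 8127), (12410, 8128), (12411, 16634), (12412, 8132), (12413, 8144), (12414, 8151), (12415, 8152)]
    ⟨e3 q12352 L176374 q8073, e3 q12353 L176386 q10073, e3 q12354 L176392 q10362, e3 q12355 L176404 q8077, e3 q12356 (flp_e L176871) q12406, e3 q12357 L208108 q16604, e3 q12358 (flp_e L176428) q8078, e3 q12359 (flp_e L208126) q16606, e3 q12360 (flp_e L208136) q16607, e3 q12361 L176456 q8082, e3 q12362 L176466 q8080, e3 q12363 L176474 q8081, e3 q12364 (flp_e L208161) q16610, e3 q12365 (flp_e L176823) q12401, e3 q12366 (flp_e L176492) q8084, e3 q12367 (flp_e L208179) q16612, e3 q12368 (flp_e L208171) q16611, e3 q12369 L176516 q8086, e3 q12370 L176524 q8087, e3 q12371 (flp_e L208207) q16617, e3 q12372 L176536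 q8092, e3 q12373 L176544 q8093, e3 q12374 L176554 q8091, e3 q12375 (flp_e L208225) q16619, e3 q12376 L176574 q8120, e3 q12377 L176586 q9241, e3 q12378 L176596 q9243, e3 q12379 L176606 q9244, e3 q12380 (flp_e L176610) q8097, e3 q12381 L176626 q8100, e3 q12382 L176636 q8193, e3 q12383 L208254 q16622, e3 q12384 L176666 q8202, e3 q12385 (flp_e L176671) q8103, e3 q12386 L176689 q10803, e3 q12387 L176699 q9734, e3 q12388 L208279 q16624, e3 q12389 (flp_e L176711) q8105, e3 q12390 (flp_e L208293) q16625, e3 q12391 L176725 q10804, e3 q12392 L176735 q10776, e3 q12393 (flp_e L196167) q14941, e3 q12394 L176753 q8112, e3 q12395 L176761 q8494, e3 q12396 L176773 q12326, e3 q12397 L176787 q12328, e3 q12398 L176797 q8118, e3 q12399 L176809 q10039, e3 q12400 L176815 q10325, e3 q12401 L176823 q12365, e3 q12402 L208305 q16627, e3 q12403 (flp_e L176841) q8121, e3 q12404 L176853 q8123, e3 q12405 (flp_e L208321) q16629, e3 q12406 L176871 q12356, e3 q12407 (flp_e L176877) q8125, e3 q12408 (flp_e L208333) q16630, e3 q12409 L176893 q8127,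 e3 q12410 L176901 q8128, e3 q12411 (flp_e L208355) q16634, e3 q12412 L176917 q8132, e3 q12413 L176927 q8144, e3 q12414 L176937 q8151, e3 q12415 L176943 q8152, trivial⟩ (by decide +kernel)

theorem ce_e_194 : ∀ r, r < 64 → sm ge (Qf (12416 + r)) = Qf (tab Gen.e (12416 + r)) :=
  edges_tab (sm ge) Qf (tab Gen.e) 12416 [(12416, 16638), (12417, 8155), (12418, 8156), (12419, 8157), (12420, 8158), (12421, 8139), (12422, 8164), (12423, 8165), (12424, 8143), (12425, 16641), (12426, 9701), (12427, 8179), (12428, 8182), (12429, 8183), (12430, 16643), (12431, 12472), (12432, 12473), (12433, 8185), (12434, 8186), (12435, 8187), (12436, 12439), (12437, 14909), (12438, 16636), (12439, 12436), (12440, 16637), (12441, 16649), (12442, 16650), (12443, 8153), (12444, 16639), (12445, 13679), (12446, 9466), (12447, 9443), (12448, 16652), (12449, 13678), (12450, 14732), (12451, 16656), (12452, 8159), (12453, 8160), (12454, 8162), (12455, 16658), (12456, 16659), (12457, 12223), (12458, 16640), (12459, 12475), (12460, 8574), (12461, 8575),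 (12462, 14173), (12463, 9762), (12464, 8171), (12465, 8188), (12466, 8174), (12467, 8194), (12468, 8195), (12469, 8178), (12470, 16662), (12471, 9679), (12472, 12431), (12473, 12432), (12474, 14964), (12475, 12459), (12476, 16642), (12477, 16667), (12478, 16668), (12479, 8184)]
    ⟨e3 q12416 L208395 q16638, e3 q12417 L176961 q8155, e3 q12418 L176971 q8156, e3 q12419 L176987 q8157, e3 q12420 L176995 q8158, e3 q12421 (flp_e L176999) q8139, e3 q12422 L177011 q8164, e3 q12423 L177019 q8165, e3 q12424 (flp_e L177023) q8143, e3 q12425 (flp_e L208439) q16641, e3 q12426 L177037 q9701, e3 q12427 L177047 q8179, e3 q12428 L177061 q8182, e3 q12429 L177067 q8183, e3 q12430 L208457 q16643, e3 q12431 (flp_e L177388) q12472, e3 q12432 (flp_e L177399) q12473, e3 q12433 L177096 q8185, e3 q12434 L177108 q8186, e3 q12435 L177120 q8187, e3 q12436 (flp_e L177144) q12439, e3 q12437 (flp_e L195894) q14909, e3 q12438 (flp_e L208377) q16636, e3 q12439 L177144 q12436, e3 q12440 (flp_e L208385) q16637, e3 q12441 L208533 q16649, e3 q12442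 L208539 q16650, e3 q12443 (flp_e L177162) q8153, e3 q12444 (flp_e L208411) q16639, e3 q12445 (flp_e L186615) q13679, e3 q12446 L177190 q9466, e3 q12447 L177196 q9443, e3 q12448 L208554 q16652, e3 q12449 (flp_e L186603) q13678, e3 q12450 (flp_e L194289) q14732, e3 q12451 L208594 q16656, e3 q12452 (flp_e L177216) q8159, e3 q12453 (flp_e L177222) q8160, e3 q12454 L177234 q8162, e3 q12455 (flp_e L208612) q16658, e3 q12456 (flp_e L208628) q16659, e3 q12457 L177268 q12223, e3 q12458 (flp_e L208427) q16640, e3 q12459 (flp_e L177415) q12475, e3 q12460 L177293 q8574, e3 q12461 L177307 q8575, e3 q12462 (flp_e L190410) q14173, e3 q12463 L177320 q9762, e3 q12464 L177326 q8171, e3 q12465 L177332 q8188, e3 q12466 (flp_e L177336) q8174, e3 q12467 L177348 q8194, e3 q12468 L177356 q8195, e3 q12469 (flp_e L177362) q8178, e3 q12470 (flp_e L208650) q16662, e3 q12471 L177376 q9679, e3 q12472 L177388 q12431, e3 q12473 L177399 q12432, e3 q12474 (flp_e L196369) q14964, e3 q12475 L177415 q12459, e3 q12476 (flp_e L208447) q16642, e3 q12477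 L208706 q16667, e3 q12478 L208712 q16668, e3 q12479 (flp_e L177437) q8184, trivial⟩ (by decide +kernel)

theorem ce_e_195 : ∀ r, r < 64 → sm ge (Qf (12480 + r)) = Qf (tab Gen.e (12480 + r)) :=
  edges_tab (sm ge) Qf (tab Gen.e) 12480 [(12480, 16644), (12481, 13688), (12482, 9471), (12483, 9452), (12484, 16670), (12485, 14713), (12486, 13687), (12487, 16674), (12488, 8189), (12489, 8190), (12490, 8192), (12491, 16676), (12492, 16677), (12493, 12282), (12494, 8583), (12495, 8584), (12496, 14194), (12497, 9742), (12498, 8201), (12499, 8207), (12500, 8208), (12501, 8209), (12502, 8210), (12503, 8589), (12504, 8590), (12505, 8594), (12506, 8596), (12507, 8252), (12508, 8253), (12509, 8605), (12510, 8606), (12511, 8607), (12512, 8608), (12513, 8609), (12514, 8610), (12515, 8254), (12516, 8255), (12517, 8256), (12518, 8257), (12519, 8258), (12520, 8259), (12521, 8623), (12522, 8626), (12523, 8628), (12524, 8629), (12525, 8630), (12526, 8631), (12527, 8633), (12528, 8634), (12529, 8635), (12530, 8636), (12531, 8262), (12532,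 8263), (12533, 8264), (12534, 8265), (12535, 8266), (12536, 8267), (12537, 12220), (12538, 8269), (12539, 8270), (12540, 8273), (12541, 8274), (12542, 8275), (12543, 8276)]
    ⟨e3 q12480 (flp_e L208477) q16644, e3 q12481 (flp_e L186700) q13688, e3 q12482 L177465 q9471, e3 q12483 L177471 q9452, e3 q12484 L208727 q16670, e3 q12485 (flp_e L194127) q14713, e3 q12486 (flp_e L186688) q13687, e3 q12487 L208767 q16674, e3 q12488 (flp_e L177491) q8189, e3 q12489 (flp_e L177497) q8190, e3 q12490 L177509 q8192, e3 q12491 (flp_e L208785) q16676, e3 q12492 (flp_e L208801) q16677, e3 q12493 L177543 q12282, e3 q12494 L177554 q8583, e3 q12495 L177568 q8584, e3 q12496 (flp_e L190606) q14194, e3 q12497 L177583 q9742, e3 q12498 L177589 q8201, e3 q12499 L177593 q8207, e3 q12500 L177602 q8208, e3 q12501 L177608 q8209, e3 q12502 L177617 q8210, e3 q12503 L177629 q8589, e3 q12504 L177639 q8590, e3 q12505 L177647 q8594, e3 q12506 L177659 q8596, e3 q12507 L177665 q8252, e3 q12508 L177669 q8253, e3 q12509 L177675 q8605, e3 q12510 L177679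 q8606, e3 q12511 L177687 q8607, e3 q12512 L177693 q8608, e3 q12513 L177697 q8609, e3 q12514 L177705 q8610, e3 q12515 L177709 q8254, e3 q12516 L177717 q8255, e3 q12517 L177727 q8256, e3 q12518 L177735 q8257, e3 q12519 L177743 q8258, e3 q12520 L177753 q8259, e3 q12521 L177765 q8623, e3 q12522 L177775 q8626, e3 q12523 L177783 q8628, e3 q12524 L177791 q8629, e3 q12525 L177795 q8630, e3 q12526 L177801 q8631, e3 q12527 L177809 q8633, e3 q12528 L177817 q8634, e3 q12529 L177821 q8635, e3 q12530 L177827 q8636, e3 q12531 L177833 q8262, e3 q12532 L177839 q8263, e3 q12533 L177850 q8264, e3 q12534 L177854 q8265, e3 q12535 L177862 q8266, e3 q12536 L177868 q8267, e3 q12537 (flp_e L177878) q12220, e3 q12538 L177886 q8269, e3 q12539 L177892 q8270, e3 q12540 L177898 q8273, e3 q12541 L177904 q8274, e3 q12542 L177915 q8275, e3 q12543 L177919 q8276, trivial⟩ (by decide +kernel)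

theorem ce_e_196 : ∀ r, r < 64 → sm ge (Qf (12544 + r)) = Qf (tab Gen.e (12544 + r)) :=
  edges_tab (sm ge) Qf (tab Gen.e) 12544 [(12544, 8277), (12545, 8278), (12546, 12279), (12547, 8280), (12548, 8281), (12549, 8671), (12550, 8672), (12551, 8676), (12552, 8683), (12553, 8684), (12554, 8688), (12555, 8285), (12556, 8286), (12557, 8287), (12558, 8288), (12559, 8289), (12560, 8290), (12561, 8294), (12562, 8295), (12563, 8296), (12564, 8297), (12565, 8298), (12566, 8299), (12567, 16694), (12568, 16695), (12569, 11291), (12570, 16714), (12571, 16715), (12572, 16716), (12573, 16717), (12574, 8268), (12575, 11449), (12576, 16720), (12577, 16721), (12578, 16722), (12579, 16723), (12580, 8279), (12581, 11302), (12582, 15218), (12583, 11270), (12584, 11428), (12585, 16734), (12586, 11430), (12587, 16736), (12588, 11461), (12589, 15271), (12590, 11269), (12591, 16737), (12592, 16739), (12593, 8328), (12594, 8331), (12595, 8332), (12596, 8335), (12597, 8340), (12598, 8343), (12599, 8375), (12600, 8376), (12601, 8382), (12602,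 8383), (12603, 12214), (12604, 12273), (12605, 10883), (12606, 10944), (12607, 11709)]
    ⟨e3 q12544 L177927 q8277, e3 q12545 L177933 q8278, e3 q12546 (flp_e L177943) q12279, e3 q12547 L177951 q8280, e3 q12548 L177957 q8281, e3 q12549 L177965 q8671, e3 q12550 L177971 q8672, e3 q12551 L177985 q8676, e3 q12552 L177991 q8683, e3 q12553 L177997 q8684, e3 q12554 L178011 q8688, e3 q12555 L178015 q8285, e3 q12556 L178019 q8286, e3 q12557 L178028 q8287, e3 q12558 L178036 q8288, e3 q12559 L178042 q8289, e3 q12560 L178049 q8290, e3 q12561 L178055 q8294, e3 q12562 L178059 q8295, e3 q12563 L178068 q8296, e3 q12564 L178076 q8297, e3 q12565 L178082 q8298, e3 q12566 L178089 q8299, e3 q12567 (flp_e L208935) q16694, e3 q12568 (flp_e L208945) q16695, e3 q12569 L178121 q11291, e3 q12570 (flp_e L209097) q16714, e3 q12571 (flp_e L209111) q16715, e3 q12572 (flp_e L209121) q16716, e3 q12573 (flp_e L209129) q16717, e3 q12574 (flp_e L178161) q8268, e3 q12575 L178179 q11449, e3 q12576 (flp_e L209155) q16720, e3 q12577 (flp_e L209169) q16721,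 e3 q12578 (flp_e L209179) q16722, e3 q12579 (flp_e L209187) q16723, e3 q12580 (flp_e L178219) q8279, e3 q12581 L178233 q11302, e3 q12582 (flp_e L198059) q15218, e3 q12583 L178253 q11270, e3 q12584 L178281 q11428, e3 q12585 (flp_e L209275) q16734, e3 q12586 L178305 q11430, e3 q12587 (flp_e L209290) q16736, e3 q12588 L178323 q11461, e3 q12589 (flp_e L198416) q15271, e3 q12590 L178343 q11269, e3 q12591 (flp_e L209298) q16737, e3 q12592 (flp_e L209313) q16739, e3 q12593 L178379 q8328, e3 q12594 L178389 q8331, e3 q12595 L178395 q8332, e3 q12596 L178409 q8335, e3 q12597 L178417 q8340, e3 q12598 L178431 q8343, e3 q12599 L178443 q8375, e3 q12600 L178457 q8376, e3 q12601 L178469 q8382, e3 q12602 L178483 q8383, e3 q12603 L178495 q12214, e3 q12604 L178505 q12273, e3 q12605 L178515 q10883, e3 q12606 L178525 q10944, e3 q12607 L178535 q11709, trivial⟩ (by decide +kernel)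

theorem ce_e_197 : ∀ r, r < 64 → sm ge (Qf (12608 + r)) = Qf (tab Gen.e (12608 + r)) :=
  edges_tab (sm ge) Qf (tab Gen.e) 12608 [(12608, 15576), (12609, 15619), (12610, 16594), (12611, 10956), (12612, 10890), (12613, 11718), (12614, 15816), (12615, 15852), (12616, 16559), (12617, 10521), (12618, 10520), (12619, 10471), (12620, 10470), (12621, 8452), (12622, 10257), (12623, 13105), (12624, 8453), (12625, 8454), (12626, 8455), (12627, 8456), (12628, 8457), (12629, 8458), (12630, 8460), (12631, 8461), (12632, 8463), (12633, 10275), (12634, 13164), (12635, 8464), (12636, 8465), (12637, 8466), (12638, 8467), (12639, 8468), (12640, 8469), (12641, 8471), (12642, 8472), (12643, 10557), (12644, 10622), (12645, 11807), (12646, 11799), (12647, 11804), (12648, 8540), (12649, 10621), (12650, 11787), (12651, 11789), (12652, 10610), (12653, 10571), (12654, 11764), (12655, 11756), (12656, 11761), (12657, 8511), (12658, 10570), (12659, 11744), (12660, 11746), (12661, 8495), (12662, 14285), (12663, 8496), (12664, 8390), (12665,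 16780), (12666, 8499), (12667, 8500), (12668, 8501), (12669, 8394), (12670, 16783), (12671, 14637)]
    ⟨e3 q12608 (flp_e L200309) q15576, e3 q12609 (flp_e L200613) q15619, e3 q12610 (flp_e L208007) q16594, e3 q12611 L178559 q10956, e3 q12612 L178569 q10890, e3 q12613 L178581 q11718, e3 q12614 (flp_e L201992) q15816, e3 q12615 (flp_e L202248) q15852, e3 q12616 (flp_e L207718) q16559, e3 q12617 L178603 q10521, e3 q12618 L178611 q10520, e3 q12619 L178619 q10471, e3 q12620 L178627 q10470, e3 q12621 L178635 q8452, e3 q12622 L178645 q10257, e3 q12623 (flp_e L182187) q13105, e3 q12624 L178653 q8453, e3 q12625 L178659 q8454, e3 q12626 L178665 q8455, e3 q12627 L178671 q8456, e3 q12628 L178677 q8457, e3 q12629 L178685 q8458, e3 q12630 L178693 q8460, e3 q12631 L178703 q8461, e3 q12632 L178713 q8463, e3 q12633 L178723 q10275, e3 q12634 (flp_e L182549) q13164, e3 q12635 L178731 q8464, e3 q12636 L178737 q8465, e3 q12637 L178743 q8466, e3 q12638 L178749 q8467, e3 q12639 L178755 q8468, e3 q12640 L178763 q8469, e3 q12641 L178771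 q8471, e3 q12642 L178781 q8472, e3 q12643 L178793 q10557, e3 q12644 L178801 q10622, e3 q12645 L178809 q11807, e3 q12646 L178820 q11799, e3 q12647 L178832 q11804, e3 q12648 L178838 q8540, e3 q12649 L178846 q10621, e3 q12650 L178858 q11787, e3 q12651 L178872 q11789, e3 q12652 L178884 q10610, e3 q12653 L178892 q10571, e3 q12654 L178900 q11764, e3 q12655 L178911 q11756, e3 q12656 L178923 q11761, e3 q12657 L178929 q8511, e3 q12658 L178937 q10570, e3 q12659 L178949 q11744, e3 q12660 L178963 q11746, e3 q12661 L178971 q8495, e3 q12662 (flp_e L191233) q14285, e3 q12663 L178983 q8496, e3 q12664 (flp_e L178985) q8390, e3 q12665 (flp_e L209707) q16780, e3 q12666 L179003 q8499, e3 q12667 L179009 q8500, e3 q12668 L179015 q8501, e3 q12669 L179025 q8394, e3 q12670 (flp_e L209723) q16783, e3 q12671 (flp_e L193543) q14637, trivial⟩ (by decide +kernel)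

theorem ce_e_198 : ∀ r, r < 64 → sm ge (Qf (12672 + r)) = Qf (tab Gen.e (12672 + r)) :=
  edges_tab (sm ge) Qf (tab Gen.e) 12672 [(12672, 8504), (12673, 8505), (12674, 8507), (12675, 16790), (12676, 8509), (12677, 8510), (12678, 8513), (12679, 8514), (12680, 8515), (12681, 8516), (12682, 8517), (12683, 11540), (12684, 8518), (12685, 16798), (12686, 8404), (12687, 16800), (12688, 8522), (12689, 8523), (12690, 8524), (12691, 14340), (12692, 8525), (12693, 8409), (12694, 16806), (12695, 8528), (12696, 8529), (12697, 8530), (12698, 8413), (12699, 16809), (12700, 14666), (12701, 8533), (12702, 8534), (12703, 8536), (12704, 16816), (12705, 8538), (12706, 8539), (12707, 8542), (12708, 8543), (12709, 8544), (12710, 8545), (12711, 8546), (12712, 11381), (12713, 8547), (12714, 16824), (12715, 8423), (12716, 16826), (12717, 8551), (12718, 8552), (12719, 8427), (12720, 16070), (12721, 16830), (12722, 15862), (12723, 8559), (12724, 8560), (12725, 8561), (12726, 8432), (12727, 16147), (12728, 16837), (12729, 15628), (12730,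 8568), (12731, 8569), (12732, 8570), (12733, 16753), (12734, 16754), (12735, 16755)]
    ⟨e3 q12672 L179043 q8504, e3 q12673 L179049 q8505, e3 q12674 L179055 q8507, e3 q12675 L209763 q16790, e3 q12676 L179069 q8509, e3 q12677 L179073 q8510, e3 q12678 L179079 q8513, e3 q12679 L179085 q8514, e3 q12680 L179089 q8515, e3 q12681 L179097 q8516, e3 q12682 L179107 q8517, e3 q12683 L179117 q11540, e3 q12684 L179125 q8518, e3 q12685 L209831 q16798, e3 q12686 (flp_e L179131) q8404, e3 q12687 (flp_e L209849) q16800, e3 q12688 L179151 q8522, e3 q12689 L179159 q8523, e3 q12690 L179167 q8524, e3 q12691 (flp_e L191616) q14340, e3 q12692 L179179 q8525, e3 q12693 (flp_e L179181) q8409, e3 q12694 (flp_e L209909) q16806, e3 q12695 L179199 q8528, e3 q12696 L179205 q8529, e3 q12697 L179211 q8530, e3 q12698 L179221 q8413, e3 q12699 (flp_e L209925) q16809, e3 q12700 (flp_e L193755) q14666, e3 q12701 L179239 q8533, e3 q12702 L179245 q8534, e3 q12703 L179251 q8536, e3 q12704 L209965 q16816, e3 q12705 L179265 q8538, e3 q12706 L179269 q8539,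 e3 q12707 L179275 q8542, e3 q12708 L179281 q8543, e3 q12709 L179287 q8544, e3 q12710 L179295 q8545, e3 q12711 L179303 q8546, e3 q12712 L179315 q11381, e3 q12713 L179323 q8547, e3 q12714 L210033 q16824, e3 q12715 (flp_e L179329) q8423, e3 q12716 (flp_e L210051) q16826, e3 q12717 L179349 q8551, e3 q12718 L179357 q8552, e3 q12719 L179367 q8427, e3 q12720 (flp_e L203781) q16070, e3 q12721 (flp_e L210089) q16830, e3 q12722 (flp_e L202332) q15862, e3 q12723 L179385 q8559, e3 q12724 L179399 q8560, e3 q12725 L179409 q8561, e3 q12726 L179417 q8432, e3 q12727 (flp_e L204289) q16147, e3 q12728 (flp_e L210139) q16837, e3 q12729 (flp_e L200691) q15628, e3 q12730 L179435 q8568, e3 q12731 L179449 q8569, e3 q12732 L179459 q8570, e3 q12733 (flp_e L209431) q16753, e3 q12734 (flp_e L209437) q16754, e3 q12735 (flp_e L209451) q16755, trivial⟩ (by decide +kernel)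

theorem ce_e_199 : ∀ r, r < 64 → sm ge (Qf (12736 + r)) = Qf (tab Gen.e (12736 + r)) :=
  edges_tab (sm ge) Qf (tab Gen.e) 12736 [(12736, 16756), (12737, 14773), (12738, 16757), (12739, 16758), (12740, 14777), (12741, 16759), (12742, 16761), (12743, 16762), (12744, 16763), (12745, 16764), (12746, 14752), (12747, 16765), (12748, 16766), (12749, 14756), (12750, 16767), (12751, 14388), (12752, 10632), (12753, 14378), (12754, 10371), (12755, 14333), (12756, 10583), (12757, 14323), (12758, 10336), (12759, 16779), (12760, 8498), (12761, 16852), (12762, 16853), (12763, 8503), (12764, 16854), (12765, 16787), (12766, 14379), (12767, 8508), (12768, 16792), (12769, 16777), (12770, 13760), (12771, 13766), (12772, 16776), (12773, 13768), (12774, 16793), (12775, 16768), (12776, 16795), (12777, 16796), (12778, 8519), (12779, 16860), (12780, 8521), (12781, 16802), (12782, 16803), (12783, 16562), (12784, 16805), (12785, 8527), (12786, 16861), (12787, 16862), (12788, 8532), (12789, 16863), (12790, 16813), (12791, 14324), (12792,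 8537), (12793, 16818), (12794, 16772), (12795, 13735), (12796, 13741), (12797, 16771), (12798, 13743), (12799, 16819)]
    ⟨e3 q12736 (flp_e L209459) q16756, e3 q12737 (flp_e L194671) q14773, e3 q12738 (flp_e L209471) q16757, e3 q12739 (flp_e L209481) q16758, e3 q12740 (flp_e L194713) q14777, e3 q12741 (flp_e L209491) q16759, e3 q12742 (flp_e L209503) q16761, e3 q12743 (flp_e L209509) q16762, e3 q12744 (flp_e L209523) q16763, e3 q12745 (flp_e L209531) q16764, e3 q12746 (flp_e L194478) q14752, e3 q12747 (flp_e L209543) q16765, e3 q12748 (flp_e L209553) q16766, e3 q12749 (flp_e L194520) q14756, e3 q12750 (flp_e L209563) q16767, e3 q12751 (flp_e L191940) q14388, e3 q12752 L179605 q10632, e3 q12753 (flp_e L191866) q14378, e3 q12754 L179623 q10371, e3 q12755 (flp_e L191559) q14333, e3 q12756 L179633 q10583, e3 q12757 (flp_e L191485) q14323, e3 q12758 L179651 q10336, e3 q12759 (flp_e L209695) q16779, e3 q12760 L179671 q8498, e3 q12761 (flp_e L210253) q16852, e3 q12762 L210263 q16853, e3 q12763 L179699 q8503, e3 q12764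 (flp_e L210277) q16854, e3 q12765 (flp_e L209743) q16787, e3 q12766 (flp_e L191870) q14379, e3 q12767 (flp_e L179721) q8508, e3 q12768 (flp_e L209779) q16792, e3 q12769 (flp_e L209677) q16777, e3 q12770 (flp_e L187307) q13760, e3 q12771 L187351 q13766, e3 q12772 (flp_e L209663) q16776, e3 q12773 (flp_e L187369) q13768, e3 q12774 (flp_e L209793) q16793, e3 q12775 (flp_e L209571) q16768, e3 q12776 (flp_e L209807) q16795, e3 q12777 (flp_e L209815) q16796, e3 q12778 (flp_e L179813) q8519, e3 q12779 (flp_e L210335) q16860, e3 q12780 L179837 q8521, e3 q12781 (flp_e L209863) q16802, e3 q12782 (flp_e L209875) q16803, e3 q12783 (flp_e L207748) q16562, e3 q12784 (flp_e L209897) q16805, e3 q12785 L179889 q8527, e3 q12786 (flp_e L210341) q16861, e3 q12787 L210351 q16862, e3 q12788 L179917 q8532, e3 q12789 (flp_e L210365) q16863, e3 q12790 (flp_e L209945) q16813, e3 q12791 (flp_e L191489) q14324, e3 q12792 (flp_e L179939) q8537, e3 q12793 (flp_e L209981) q16818, e3 q12794 (flp_e L209619) q16772, e3 q12795 (flp_e L187123) q13735,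 e3 q12796 L187163 q13741, e3 q12797 (flp_e L209605) q16771, e3 q12798 (flp_e L187181) q13743, e3 q12799 (flp_e L209995) q16819, trivial⟩ (by decide +kernel)

theorem ce_e_200 : ∀ r, r < 64 → sm ge (Qf (12800 + r)) = Qf (tab Gen.e (12800 + r)) :=
  edges_tab (sm ge) Qf (tab Gen.e) 12800 [(12800, 16773), (12801, 16821), (12802, 16822), (12803, 8548), (12804, 16869), (12805, 8550), (12806, 16828), (12807, 16829), (12808, 16597), (12809, 10948), (12810, 8555), (12811, 8558), (12812, 16836), (12813, 10960), (12814, 8564), (12815, 8567), (12816, 16843), (12817, 8573), (12818, 13685), (12819, 8582), (12820, 13694), (12821, 8885), (12822, 8887), (12823, 14027), (12824, 14034), (12825, 14035), (12826, 16680), (12827, 14084), (12828, 14091), (12829, 14092), (12830, 16681), (12831, 8889), (12832, 8890), (12833, 8891), (12834, 8892), (12835, 8893), (12836, 8895), (12837, 8896), (12838, 8897), (12839, 8898), (12840, 8899), (12841, 16682), (12842, 16683), (12843, 16684), (12844, 16893), (12845, 16686), (12846, 16687), (12847,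 16688), (12848, 16689), (12849, 16690), (12850, 16904), (12851, 16692), (12852, 16693), (12853, 8900), (12854, 8901), (12855, 8902), (12856, 8903), (12857, 8904), (12858, 8905), (12859, 8907), (12860, 8908), (12861, 8909), (12862, 8910), (12863, 8911)]
    ⟨e3 q12800 (flp_e L209629) q16773, e3 q12801 (flp_e L210009) q16821, e3 q12802 (flp_e L210019) q16822, e3 q12803 (flp_e L180031) q8548, e3 q12804 (flp_e L210423) q16869, e3 q12805 L180055 q8550, e3 q12806 (flp_e L210065) q16828, e3 q12807 (flp_e L210077) q16829, e3 q12808 (flp_e L208037) q16597, e3 q12809 L180097 q10948, e3 q12810 L180107 q8555, e3 q12811 L180113 q8558, e3 q12812 (flp_e L210133) q16836, e3 q12813 L180129 q10960, e3 q12814 L180139 q8564, e3 q12815 L180145 q8567, e3 q12816 (flp_e L210183) q16843, e3 q12817 L180159 q8573, e3 q12818 (flp_e L186670) q13685, e3 q12819 L180183 q8582, e3 q12820 (flp_e L186755) q13694, e3 q12821 L180207 q8885, e3 q12822 L180213 q8887, e3 q12823 (flp_e L189265) q14027, e3 q12824 (flp_e L189325) q14034, e3 q12825 (flp_e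 L189333) q14035, e3 q12826 (flp_e L208829) q16680, e3 q12827 (flp_e L189697) q14084, e3 q12828 (flp_e L189757) q14091, e3 q12829 (flp_e L189765) q14092, e3 q12830 (flp_e L208835) q16681, e3 q12831 L180265 q8889, e3 q12832 L180271 q8890, e3 q12833 L180281 q8891, e3 q12834 L180291 q8892, e3 q12835 L180305 q8893, e3 q12836 L180317 q8895, e3 q12837 L180323 q8896, e3 q12838 L180333 q8897, e3 q12839 L180343 q8898, e3 q12840 L180359 q8899, e3 q12841 (flp_e L208841) q16682, e3 q12842 (flp_e L208847) q16683, e3 q12843 (flp_e L208861) q16684, e3 q12844 L210621 q16893, e3 q12845 (flp_e L208873) q16686, e3 q12846 (flp_e L208881) q16687, e3 q12847 (flp_e L208891) q16688, e3 q12848 (flp_e L208897) q16689, e3 q12849 (flp_e L208905) q16690, e3 q12850 L210717 q16904, e3 q12851 (flp_e L208917) q16692, e3 q12852 (flp_e L208925) q16693, e3 q12853 L180431 q8900, e3 q12854 L180445 q8901, e3 q12855 L180451 q8902, e3 q12856 L180459 q8903, e3 q12857 L180467 q8904, e3 q12858 L180475 q8905, e3 q12859 L180483 q8907, e3 q12860 L180497 q8908,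 e3 q12861 L180503 q8909, e3 q12862 L180509 q8910, e3 q12863 L180519 q8911, trivial⟩ (by decide +kernel)

theorem ce_e_201 : ∀ r, r < 64 → sm ge (Qf (12864 + r)) = Qf (tab Gen.e (12864 + r)) :=
  edges_tab (sm ge) Qf (tab Gen.e) 12864 [(12864, 8912), (12865, 11184), (12866, 11114), (12867, 15601), (12868, 15603), (12869, 15606), (12870, 16696), (12871, 16697), (12872, 16698), (12873, 16699), (12874, 16700), (12875, 16701), (12876, 11216), (12877, 16703), (12878, 16704), (12879, 15840), (12880, 15842), (12881, 15843), (12882, 16705), (12883, 16706), (12884, 16707), (12885, 16708), (12886, 16709), (12887, 16710), (12888, 11147), (12889, 16712), (12890, 16713), (12891, 11289), (12892, 8915), (12893, 8643), (12894, 16936), (12895, 8919), (12896, 8920), (12897, 8921), (12898, 8922), (12899, 8923), (12900, 8924), (12901, 8925), (12902, 8926), (12903, 8927), (12904, 8928), (12905, 8929), (12906, 11448), (12907, 8931), (12908, 8659), (12909, 16951), (12910, 8935), (12911, 8936), (12912, 8937), (12913, 8938), (12914, 8939),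 (12915, 8940), (12916, 8941), (12917, 8942), (12918, 8943), (12919, 8944), (12920, 8945), (12921, 10982), (12922, 15217), (12923, 15447), (12924, 16726), (12925, 15450), (12926, 10932), (12927, 12951)]
    ⟨e3 q12864 L180527 q8912, e3 q12865 L180541 q11184, e3 q12866 L180555 q11114, e3 q12867 (flp_e L200457) q15601, e3 q12868 (flp_e L200475) q15603, e3 q12869 (flp_e L200501) q15606, e3 q12870 (flp_e L208955) q16696, e3 q12871 (flp_e L208961) q16697, e3 q12872 (flp_e L208969) q16698, e3 q12873 (flp_e L208977) q16699, e3 q12874 (flp_e L208985) q16700, e3 q12875 (flp_e L208995) q16701, e3 q12876 (flp_e L180615) q11216, e3 q12877 (flp_e L209011) q16703, e3 q12878 (flp_e L209019) q16704, e3 q12879 (flp_e L202142) q15840, e3 q12880 (flp_e L202162) q15842, e3 q12881 (flp_e L202172) q15843, e3 q12882 (flp_e L209027) q16705, e3 q12883 (flp_e L209033) q16706, e3 q12884 (flp_e L209041) q16707, e3 q12885 (flp_e L209049) q16708, e3 q12886 (flp_e L209057) q16709, e3 q12887 (flp_e L209067) q16710, e3 q12888 (flp_e L180683) q11147,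 e3 q12889 (flp_e L209083) q16712, e3 q12890 (flp_e L209091) q16713, e3 q12891 L180703 q11289, e3 q12892 L180711 q8915, e3 q12893 L180721 q8643, e3 q12894 (flp_e L210945) q16936, e3 q12895 L180729 q8919, e3 q12896 L180733 q8920, e3 q12897 L180741 q8921, e3 q12898 L180745 q8922, e3 q12899 L180749 q8923, e3 q12900 L180757 q8924, e3 q12901 L180765 q8925, e3 q12902 L180771 q8926, e3 q12903 L180781 q8927, e3 q12904 L180787 q8928, e3 q12905 L180797 q8929, e3 q12906 L180811 q11448, e3 q12907 L180819 q8931, e3 q12908 L180829 q8659, e3 q12909 (flp_e L211053) q16951, e3 q12910 L180837 q8935, e3 q12911 L180841 q8936, e3 q12912 L180849 q8937, e3 q12913 L180853 q8938, e3 q12914 L180857 q8939, e3 q12915 L180867 q8940, e3 q12916 L180875 q8941, e3 q12917 L180881 q8942, e3 q12918 L180891 q8943, e3 q12919 L180897 q8944, e3 q12920 L180907 q8945, e3 q12921 L180923 q10982, e3 q12922 (flp_e L198053) q15217, e3 q12923 (flp_e L199455) q15447, e3 q12924 (flp_e L209213) q16726, e3 q12925 (flp_e L199486) q15450, e3 q12926 L180951 q10932, e3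 q12927 (flp_e L181113) q12951, trivial⟩ (by decide +kernel)

theorem ce_e_202 : ∀ r, r < 64 → sm ge (Qf (12928 + r)) = Qf (tab Gen.e (12928 + r)) :=
  edges_tab (sm ge) Qf (tab Gen.e) 12928 [(12928, 12952), (12929, 16727), (12930, 16728), (12931, 16729), (12932, 12948), (12933, 12949), (12934, 12950), (12935, 12943), (12936, 12944), (12937, 11006), (12938, 15270), (12939, 15343), (12940, 16730), (12941, 15346), (12942, 10923), (12943, 12935), (12944, 12936), (12945, 16731), (12946, 16732), (12947, 16733), (12948, 12932), (12949, 12933), (12950, 12934), (12951, 12927), (12952, 12928), (12953, 17016), (12954, 8947), (12955, 8948), (12956, 8950), (12957, 13617), (12958, 8951), (12959, 8952), (12960, 17021), (12961, 8697), (12962, 14746), (12963, 17022), (12964, 8955), (12965, 8956), (12966, 8957), (12967, 8959), (12968, 8960), (12969, 8961), (12970, 8962), (12971, 8703), (12972, 13721), (12973, 17031), (12974, 8965), (12975, 8966), (12976, 8967), (12977, 8707), (12978, 17040), (12979, 8970), (12980, 8971), (12981,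 8972), (12982, 8973), (12983, 8974), (12984, 8975), (12985, 17052), (12986, 8977), (12987, 8713), (12988, 8714), (12989, 17055), (12990, 17056), (12991, 17057)]
    ⟨e3 q12928 (flp_e L181119) q12952, e3 q12929 (flp_e L209221) q16727, e3 q12930 (flp_e L209227) q16728, e3 q12931 (flp_e L209237) q16729, e3 q12932 (flp_e L181089) q12948, e3 q12933 (flp_e L181099) q12949, e3 q12934 (flp_e L181107) q12950, e3 q12935 (flp_e L181061) q12943, e3 q12936 (flp_e L181067) q12944, e3 q12937 L181019 q11006, e3 q12938 (flp_e L198410) q15270, e3 q12939 (flp_e L198903) q15343, e3 q12940 (flp_e L209243) q16730, e3 q12941 (flp_e L198934) q15346, e3 q12942 L181047 q10923, e3 q12943 L181061 q12935, e3 q12944 L181067 q12936, e3 q12945 (flp_e L209251) q16731, e3 q12946 (flp_e L209257) q16732, e3 q12947 (flp_e L209267) q16733, e3 q12948 L181089 q12932, e3 q12949 L181099 q12933, e3 q12950 L181107 q12934, e3 q12951 L181113 q12927, e3 q12952 L181119 q12928, e3 q12953 L211559 q17016, e3 q12954 L181135 q8947, e3 q12955 L181145 q8948, e3 q12956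 L181151 q8950, e3 q12957 (flp_e L186105) q13617, e3 q12958 L181169 q8951, e3 q12959 L181177 q8952, e3 q12960 L211607 q17021, e3 q12961 (flp_e L181181) q8697, e3 q12962 (flp_e L194424) q14746, e3 q12963 (flp_e L211623) q17022, e3 q12964 L181197 q8955, e3 q12965 L181203 q8956, e3 q12966 L181211 q8957, e3 q12967 L181217 q8959, e3 q12968 L181231 q8960, e3 q12969 L181239 q8961, e3 q12970 L181243 q8962, e3 q12971 (flp_e L181249) q8703, e3 q12972 (flp_e L187025) q13721, e3 q12973 (flp_e L211695) q17031, e3 q12974 L181265 q8965, e3 q12975 L181271 q8966, e3 q12976 L181281 q8967, e3 q12977 L181291 q8707, e3 q12978 (flp_e L211753) q17040, e3 q12979 L181301 q8970, e3 q12980 L181305 q8971, e3 q12981 L181311 q8972, e3 q12982 L181317 q8973, e3 q12983 L181327 q8974, e3 q12984 L181337 q8975, e3 q12985 L211827 q17052, e3 q12986 L181349 q8977, e3 q12987 L181355 q8713, e3 q12988 L181365 q8714, e3 q12989 (flp_e L211847) q17055, e3 q12990 (flp_e L211853) q17056, e3 q12991 (flp_e L211861) q17057, trivial⟩ (by decide +kernel)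

theorem ce_e_203 : ∀ r, r < 64 → sm ge (Qf (12992 + r)) = Qf (tab Gen.e (12992 + r)) :=
  edges_tab (sm ge) Qf (tab Gen.e) 12992 [(12992, 17058), (12993, 8983), (12994, 8984), (12995, 17071), (12996, 8986), (12997, 8987), (12998, 8988), (12999, 8989), (13000, 8990), (13001, 8991), (13002, 8992), (13003, 8993), (13004, 8994), (13005, 8995), (13006, 8766), (13007, 8721), (13008, 8777), (13009, 8996), (13010, 8997), (13011, 8998), (13012, 8999), (13013, 9000), (13014, 9001), (13015, 13818), (13016, 9002), (13017, 9003), (13018, 9004), (13019, 9005), (13020, 9006), (13021, 9007), (13022, 9008), (13023, 17105), (13024, 9010), (13025, 8732), (13026, 13096), (13027, 9011), (13028, 9012), (13029, 17107), (13030, 9014), (13031, 9015), (13032, 9016), (13033, 13619), (13034, 9018), (13035, 9019), (13036, 17112), (13037, 8742), (13038, 17113), (13039, 14767), (13040, 9022), (13041, 9023), (13042, 9024), (13043, 9025), (13044, 9026), (13045, 9027), (13046, 8748), (13047, 17121), (13048, 13746), (13049, 9031), (13050, 9032),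 (13051, 9033), (13052, 8752), (13053, 17130), (13054, 9036), (13055, 9037)]
    ⟨e3 q12992 (flp_e L211869) q17058, e3 q12993 L181389 q8983, e3 q12994 L181399 q8984, e3 q12995 L211969 q17071, e3 q12996 L181415 q8986, e3 q12997 L181419 q8987, e3 q12998 L181425 q8988, e3 q12999 L181429 q8989, e3 q13000 L181435 q8990, e3 q13001 L181441 q8991, e3 q13002 L181447 q8992, e3 q13003 L181453 q8993, e3 q13004 L181459 q8994, e3 q13005 L181465 q8995, e3 q13006 L181477 q8766, e3 q13007 (flp_e L181479) q8721, e3 q13008 L181495 q8777, e3 q13009 L181499 q8996, e3 q13010 L181505 q8997, e3 q13011 L181513 q8998, e3 q13012 L181523 q8999, e3 q13013 L181531 q9000, e3 q13014 L181537 q9001, e3 q13015 (flp_e L187735) q13818, e3 q13016 L181549 q9002, e3 q13017 L181555 q9003, e3 q13018 L181565 q9004, e3 q13019 L181571 q9005, e3 q13020 L181581 q9006, e3 q13021 L181587 q9007, e3 q13022 L181597 q9008, e3 q13023 L212215 q17105, e3 q13024 L181611 q9010, e3 q13025 (flp_e L181613) q8732, e3 q13026 (flp_e L182101) q13096, e3 q13027 L181631 q9011, e3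 q13028 L181639 q9012, e3 q13029 L212227 q17107, e3 q13030 L181657 q9014, e3 q13031 L181667 q9015, e3 q13032 L181673 q9016, e3 q13033 (flp_e L186123) q13619, e3 q13034 L181691 q9018, e3 q13035 L181699 q9019, e3 q13036 L212275 q17112, e3 q13037 (flp_e L181703) q8742, e3 q13038 (flp_e L212291) q17113, e3 q13039 (flp_e L194617) q14767, e3 q13040 L181717 q9022, e3 q13041 L181723 q9023, e3 q13042 L181733 q9024, e3 q13043 L181739 q9025, e3 q13044 L181753 q9026, e3 q13045 L181761 q9027, e3 q13046 (flp_e L181767) q8748, e3 q13047 (flp_e L212351) q17121, e3 q13048 (flp_e L187209) q13746, e3 q13049 L181783 q9031, e3 q13050 L181789 q9032, e3 q13051 L181799 q9033, e3 q13052 L181809 q8752, e3 q13053 (flp_e L212409) q17130, e3 q13054 L181819 q9036, e3 q13055 L181823 q9037, trivial⟩ (by decide +kernel)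

theorem ce_e_204 : ∀ r, r < 64 → sm ge (Qf (13056 + r)) = Qf (tab Gen.e (13056 + r)) :=
  edges_tab (sm ge) Qf (tab Gen.e) 13056 [(13056, 9038), (13057, 9039), (13058, 9040), (13059, 17141), (13060, 9042), (13061, 8758), (13062, 8759), (13063, 17144), (13064, 17145), (13065, 17146), (13066, 17147), (13067, 9048), (13068, 9049), (13069, 17089), (13070, 9050), (13071, 9051), (13072, 9052), (13073, 9053), (13074, 9054), (13075, 9055), (13076, 9056), (13077, 9057), (13078, 9058), (13079, 8985), (13080, 9009), (13081, 9059), (13082, 9060), (13083, 9061), (13084, 9062), (13085, 9063), (13086, 13867), (13087, 9064), (13088, 9065), (13089, 9066), (13090, 9067), (13091, 9068), (13092, 9069), (13093, 9070), (13094, 17091), (13095, 9071), (13096, 13026), (13097, 9072), (13098, 9073), (13099, 9079), (13100, 9080), (13101, 8785), (13102, 10187), (13103, 15533), (13104, 9082), (13105, 12623), (13106, 8791), (13107, 11243), (13108, 14537), (13109, 9084), (13110, 9085), (13111, 8796), (13112, 8797), (13113, 8798), (13114, 8799),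 (13115, 10215), (13116, 17193), (13117, 13401), (13118, 9808), (13119, 17195)]
    ⟨e3 q13056 L181829 q9038, e3 q13057 L181835 q9039, e3 q13058 L181845 q9040, e3 q13059 L212471 q17141, e3 q13060 L181857 q9042, e3 q13061 L181863 q8758, e3 q13062 L181873 q8759, e3 q13063 (flp_e L212491) q17144, e3 q13064 (flp_e L212497) q17145, e3 q13065 (flp_e L212505) q17146, e3 q13066 (flp_e L212513) q17147, e3 q13067 L181897 q9048, e3 q13068 L181907 q9049, e3 q13069 (flp_e L212097) q17089, e3 q13070 L181923 q9050, e3 q13071 L181927 q9051, e3 q13072 L181933 q9052, e3 q13073 L181937 q9053, e3 q13074 L181943 q9054, e3 q13075 L181949 q9055, e3 q13076 L181955 q9056, e3 q13077 L181959 q9057, e3 q13078 L181967 q9058, e3 q13079 L181973 q8985, e3 q13080 L181979 q9009, e3 q13081 L181985 q9059, e3 q13082 L181993 q9060, e3 q13083 L182003 q9061, e3 q13084 L182011 q9062, e3 q13085 L182017 q9063, e3 q13086 (flp_e L188081) q13867, e3 q13087 L182029 q9064, e3 q13088 L182035 q9065, e3 q13089 L182045 q9066, e3 q13090 L182057 q9067, e3 q13091 L182063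 q9068, e3 q13092 L182069 q9069, e3 q13093 L182079 q9070, e3 q13094 (flp_e L212113) q17091, e3 q13095 L182093 q9071, e3 q13096 L182101 q13026, e3 q13097 L182107 q9072, e3 q13098 L182115 q9073, e3 q13099 L182127 q9079, e3 q13100 L182139 q9080, e3 q13101 (flp_e L182143) q8785, e3 q13102 L182161 q10187, e3 q13103 (flp_e L200009) q15533, e3 q13104 L182173 q9082, e3 q13105 L182187 q12623, e3 q13106 L182195 q8791, e3 q13107 L182203 q11243, e3 q13108 (flp_e L192925) q14537, e3 q13109 L182217 q9084, e3 q13110 L182223 q9085, e3 q13111 L182229 q8796, e3 q13112 L182235 q8797, e3 q13113 L182241 q8798, e3 q13114 L182247 q8799, e3 q13115 L182253 q10215, e3 q13116 (flp_e L212857) q17193, e3 q13117 (flp_e L184302) q13401, e3 q13118 L187821 q9808, e3 q13119 (flp_e L212873) q17195, trivial⟩ (by decide +kernel)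

theorem ce_e_205 : ∀ r, r < 64 → sm ge (Qf (13120 + r)) = Qf (tab Gen.e (13120 + r)) :=
  edges_tab (sm ge) Qf (tab Gen.e) 13120 [(13120, 17196), (13121, 17197), (13122, 16042), (13123, 17198), (13124, 15538), (13125, 17214), (13126, 9101), (13127, 9102), (13128, 17220), (13129, 8803), (13130, 17222), (13131, 9105), (13132, 9106), (13133, 9107), (13134, 9108), (13135, 9109), (13136, 9110), (13137, 9111), (13138, 9112), (13139, 17232), (13140, 9114), (13141, 8810), (13142, 17235), (13143, 8811), (13144, 9118), (13145, 17242), (13146, 9120), (13147, 9121), (13148, 17248), (13149, 8814), (13150, 16735), (13151, 16962), (13152, 9123), (13153, 9124), (13154, 17255), (13155, 8818), (13156, 17258), (13157, 17259), (13158, 9133), (13159, 9134), (13160, 8822), (13161, 15777), (13162, 10222), (13163, 9136), (13164, 12634), (13165, 8827), (13166, 14588), (13167, 11404), (13168, 9138), (13169, 9139), (13170, 8833), (13171, 8834), (13172, 8835), (13173, 8836), (13174, 10250), (13175, 17269), (13176, 13453), (13177, 9861), (13178,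 17271), (13179, 17272), (13180, 17273), (13181, 16119), (13182, 17274), (13183, 15784)]
    ⟨e3 q13120 (flp_e L212879) q17196, e3 q13121 (flp_e L212889) q17197, e3 q13122 (flp_e L203595) q16042, e3 q13123 (flp_e L212895) q17198, e3 q13124 (flp_e L200051) q15538, e3 q13125 L213003 q17214, e3 q13126 L182319 q9101, e3 q13127 L182325 q9102, e3 q13128 L213049 q17220, e3 q13129 (flp_e L182331) q8803, e3 q13130 (flp_e L213065) q17222, e3 q13131 L182343 q9105, e3 q13132 L182353 q9106, e3 q13133 L182359 q9107, e3 q13134 L182365 q9108, e3 q13135 L182369 q9109, e3 q13136 L182375 q9110, e3 q13137 L182383 q9111, e3 q13138 L182389 q9112, e3 q13139 L213131 q17232, e3 q13140 L182397 q9114, e3 q13141 (flp_e L182401) q8810, e3 q13142 L213151 q17235, e3 q13143 (flp_e L182413) q8811, e3 q13144 L182423 q9118, e3 q13145 L213183 q17242, e3 q13146 L182433 q9120, e3 q13147 L182439 q9121, e3 q13148 L213223 q17248, e3 q13149 (flp_e L182443) q8814, e3 q13150 (flp_e L209284) q16735, e3 q13151 (flp_e L211127) q16962, e3 q13152 L182460 q9123,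 e3 q13153 L182468 q9124, e3 q13154 L213256 q17255, e3 q13155 (flp_e L182474) q8818, e3 q13156 (flp_e L213276) q17258, e3 q13157 (flp_e L213285) q17259, e3 q13158 L182489 q9133, e3 q13159 L182501 q9134, e3 q13160 (flp_e L182505) q8822, e3 q13161 (flp_e L201708) q15777, e3 q13162 L182529 q10222, e3 q13163 L182535 q9136, e3 q13164 L182549 q12634, e3 q13165 L182557 q8827, e3 q13166 (flp_e L193239) q14588, e3 q13167 L182573 q11404, e3 q13168 L182579 q9138, e3 q13169 L182583 q9139, e3 q13170 L182591 q8833, e3 q13171 L182597 q8834, e3 q13172 L182603 q8835, e3 q13173 L182609 q8836, e3 q13174 L182615 q10250, e3 q13175 (flp_e L213359) q17269, e3 q13176 (flp_e L184678) q13453, e3 q13177 L188167 q9861, e3 q13178 (flp_e L213375) q17271, e3 q13179 (flp_e L213381) q17272, e3 q13180 (flp_e L213391) q17273, e3 q13181 (flp_e L204107) q16119, e3 q13182 (flp_e L213397) q17274, e3 q13183 (flp_e L201748) q15784, trivial⟩ (by decide +kernel)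

theorem ce_e_206 : ∀ r, r < 64 → sm ge (Qf (13184 + r)) = Qf (tab Gen.e (13184 + r)) :=
  edges_tab (sm ge) Qf (tab Gen.e) 13184 [(13184, 17290), (13185, 9155), (13186, 9156), (13187, 17296), (13188, 8840), (13189, 17298), (13190, 9159), (13191, 9160), (13192, 9161), (13193, 9162), (13194, 9163), (13195, 9164), (13196, 9165), (13197, 9166), (13198, 17308), (13199, 9168), (13200, 8847), (13201, 17311), (13202, 8848), (13203, 9172), (13204, 17318), (13205, 9174), (13206, 9175), (13207, 17324), (13208, 8851), (13209, 16947), (13210, 16738), (13211, 9177), (13212, 9178), (13213, 17331), (13214, 8855), (13215, 17334), (13216, 17335), (13217, 11249), (13218, 11821), (13219, 10123), (13220, 10373), (13221, 11666), (13222, 11667), (13223, 11668), (13224, 17347), (13225, 11670), (13226, 11671), (13227, 8864), (13228, 13913), (13229, 13914), (13230, 13915), (13231, 17357), (13232, 13917), (13233, 17361), (13234, 8867), (13235, 17364), (13236, 17365), (13237, 11409), (13238, 12036), (13239, 10155), (13240, 10407), (13241,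 11673), (13242, 11674), (13243, 11675), (13244, 17375), (13245, 11677), (13246, 11678), (13247, 8878)]
    ⟨e3 q13184 L213505 q17290, e3 q13185 L182681 q9155, e3 q13186 L182687 q9156, e3 q13187 L213551 q17296, e3 q13188 (flp_e L182693) q8840, e3 q13189 (flp_e L213567) q17298, e3 q13190 L182705 q9159, e3 q13191 L182717 q9160, e3 q13192 L182725 q9161, e3 q13193 L182733 q9162, e3 q13194 L182737 q9163, e3 q13195 L182751 q9164, e3 q13196 L182761 q9165, e3 q13197 L182769 q9166, e3 q13198 L213639 q17308, e3 q13199 L182779 q9168, e3 q13200 (flp_e L182783) q8847, e3 q13201 L213661 q17311, e3 q13202 (flp_e L182795) q8848, e3 q13203 L182805 q9172, e3 q13204 L213693 q17318, e3 q13205 L182817 q9174, e3 q13206 L182825 q9175, e3 q13207 L213733 q17324, e3 q13208 (flp_e L182829) q8851, e3 q13209 (flp_e L211019) q16947, e3 q13210 (flp_e L209307) q16738, e3 q13211 L182848 q9177, e3 q13212 L182858 q9178, e3 q13213 L213766 q17331, e3 q13214 (flp_e L182864) q8855, e3 q13215 (flp_e L213786) q17334, e3 q13216 (flp_e L213792) q17335, e3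 q13217 L182881 q11249, e3 q13218 L182887 q11821, e3 q13219 L182897 q10123, e3 q13220 L182903 q10373, e3 q13221 L182910 q11666, e3 q13222 L182916 q11667, e3 q13223 L182920 q11668, e3 q13224 L213883 q17347, e3 q13225 L182934 q11670, e3 q13226 L182938 q11671, e3 q13227 (flp_e L182942) q8864, e3 q13228 (flp_e L188391) q13913, e3 q13229 (flp_e L188399) q13914, e3 q13230 (flp_e L188408) q13915, e3 q13231 L213974 q17357, e3 q13232 (flp_e L188423) q13917, e3 q13233 L214074 q17361, e3 q13234 (flp_e L182987) q8867, e3 q13235 (flp_e L214090) q17364, e3 q13236 (flp_e L214095) q17365, e3 q13237 L183020 q11409, e3 q13238 L183026 q12036, e3 q13239 L183036 q10155, e3 q13240 L183042 q10407, e3 q13241 L183049 q11673, e3 q13242 L183059 q11674, e3 q13243 L183065 q11675, e3 q13244 L214192 q17375, e3 q13245 L183081 q11677, e3 q13246 L183089 q11678, e3 q13247 (flp_e L183091) q8878, trivial⟩ (by decide +kernel)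

theorem ce_e_207 : ∀ r, r < 64 → sm ge (Qf (13248 + r)) = Qf (tab Gen.e (13248 + r)) :=
  edges_tab (sm ge) Qf (tab Gen.e) 13248 [(13248, 13922), (13249, 13923), (13250, 13924), (13251, 17385), (13252, 17387), (13253, 8881), (13254, 17389), (13255, 16909), (13256, 16911), (13257, 8918), (13258, 17390), (13259, 16940), (13260, 16941), (13261, 16942), (13262, 16943), (13263, 16944), (13264, 16945), (13265, 16946), (13266, 16948), (13267, 16949), (13268, 15631), (13269, 16950), (13270, 8934), (13271, 17394), (13272, 16955), (13273, 16956), (13274, 16957), (13275, 16958), (13276, 16959), (13277, 16960), (13278, 16961), (13279, 16963), (13280, 15865), (13281, 16964), (13282, 16965), (13283, 8946), (13284, 8954), (13285, 15855), (13286, 17026), (13287, 17027), (13288, 17028), (13289, 17030), (13290, 8964), (13291, 17398), (13292, 17399), (13293, 17035), (13294, 17036), (13295, 17037), (13296, 17038), (13297, 17039), (13298, 8969), (13299, 17401), (13300, 17402), (13301, 17403), (13302, 17044), (13303, 17045), (13304,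 17047), (13305, 17048), (13306, 17050), (13307, 8976), (13308, 17054), (13309, 8980), (13310, 8981), (13311, 8982)]
    ⟨e3 q13248 (flp_e L188473) q13922, e3 q13249 (flp_e L188481) q13923, e3 q13250 (flp_e L188489) q13924, e3 q13251 L214295 q17385, e3 q13252 L214395 q17387, e3 q13253 (flp_e L183142) q8881, e3 q13254 (flp_e L214411) q17389, e3 q13255 (flp_e L210755) q16909, e3 q13256 (flp_e L210771) q16911, e3 q13257 L183185 q8918, e3 q13258 (flp_e L214439) q17390, e3 q13259 (flp_e L210961) q16940, e3 q13260 (flp_e L210969) q16941, e3 q13261 (flp_e L210979) q16942, e3 q13262 (flp_e L210985) q16943, e3 q13263 (flp_e L210995) q16944, e3 q13264 (flp_e L211001) q16945, e3 q13265 (flp_e L211009) q16946, e3 q13266 (flp_e L211027) q16948, e3 q13267 (flp_e L211039) q16949, e3 q13268 (flp_e L200719) q15631, e3 q13269 (flp_e L211047) q16950, e3 q13270 L183283 q8934, e3 q13271 (flp_e L214475) q17394, e3 q13272 (flp_e L211069) q16955, e3 q13273 (flp_e L211077) q16956, e3 q13274 (flp_e L211087) q16957, e3 q13275 (flp_e L211093)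 q16958, e3 q13276 (flp_e L211103) q16959, e3 q13277 (flp_e L211109) q16960, e3 q13278 (flp_e L211117) q16961, e3 q13279 (flp_e L211135) q16963, e3 q13280 (flp_e L202360) q15865, e3 q13281 (flp_e L211147) q16964, e3 q13282 (flp_e L211155) q16965, e3 q13283 (flp_e L183363) q8946, e3 q13284 L183381 q8954, e3 q13285 (flp_e L202266) q15855, e3 q13286 (flp_e L211645) q17026, e3 q13287 (flp_e L211657) q17027, e3 q13288 (flp_e L211665) q17028, e3 q13289 (flp_e L211683) q17030, e3 q13290 L183465 q8964, e3 q13291 (flp_e L214513) q17398, e3 q13292 (flp_e L214525) q17399, e3 q13293 (flp_e L211719) q17035, e3 q13294 (flp_e L211725) q17036, e3 q13295 (flp_e L211733) q17037, e3 q13296 (flp_e L211743) q17038, e3 q13297 (flp_e L211747) q17039, e3 q13298 L183513 q8969, e3 q13299 (flp_e L214541) q17401, e3 q13300 (flp_e L214549) q17402, e3 q13301 (flp_e L214561) q17403, e3 q13302 (flp_e L211769) q17044, e3 q13303 (flp_e L211777) q17045, e3 q13304 (flp_e L211793) q17047, e3 q13305 (flp_e L211799) q17048, e3 q13306 (flp_e L211819) q17050,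 e3 q13307 (flp_e L183601) q8976, e3 q13308 (flp_e L211837) q17054, e3 q13309 L183611 q8980, e3 q13310 L183617 q8981, e3 q13311 L183625 q8982, trivial⟩ (by decide +kernel)

theorem ce_e_208 : ∀ r, r < 64 → sm ge (Qf (13312 + r)) = Qf (tab Gen.e (13312 + r)) :=
  edges_tab (sm ge) Qf (tab Gen.e) 13312 [(13312, 17404), (13313, 17067), (13314, 17068), (13315, 17173), (13316, 17169), (13317, 17174), (13318, 17073), (13319, 17074), (13320, 17075), (13321, 17076), (13322, 17077), (13323, 17078), (13324, 17079), (13325, 17081), (13326, 17082), (13327, 17083), (13328, 17084), (13329, 17303), (13330, 17086), (13331, 17087), (13332, 17088), (13333, 17090), (13334, 17092), (13335, 17093), (13336, 17094), (13337, 17096), (13338, 17100), (13339, 17101), (13340, 17102), (13341, 17175), (13342, 17176), (13343, 17159), (13344, 9013), (13345, 9021), (13346, 17117), (13347, 17118), (13348, 17119), (13349, 15621), (13350, 9030), (13351, 17416), (13352, 17417), (13353, 17125), (13354, 17126), (13355, 17127), (13356, 17128), (13357,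 17129), (13358, 9035), (13359, 17419), (13360, 17420), (13361, 17421), (13362, 17134), (13363, 17135), (13364, 17137), (13365, 17138), (13366, 9041), (13367, 17143), (13368, 9045), (13369, 9046), (13370, 9047), (13371, 17422), (13372, 17154), (13373, 17155), (13374, 17160), (13375, 17161)]
    ⟨e3 q13312 (flp_e L214571) q17404, e3 q13313 (flp_e L211933) q17067, e3 q13314 (flp_e L211945) q17068, e3 q13315 (flp_e L212711) q17173, e3 q13316 (flp_e L212683) q17169, e3 q13317 (flp_e L212725) q17174, e3 q13318 (flp_e L211983) q17073, e3 q13319 (flp_e L211989) q17074, e3 q13320 (flp_e L211995) q17075, e3 q13321 (flp_e L212001) q17076, e3 q13322 (flp_e L212005) q17077, e3 q13323 (flp_e L212015) q17078, e3 q13324 (flp_e L212021) q17079, e3 q13325 (flp_e L212033) q17081, e3 q13326 (flp_e L212041) q17082, e3 q13327 (flp_e L212049) q17083, e3 q13328 (flp_e L212055) q17084, e3 q13329 (flp_e L213601) q17303, e3 q13330 (flp_e L212069) q17086, e3 q13331 (flp_e L212077) q17087, e3 q13332 (flp_e L212083) q17088, e3 q13333 (flp_e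 L212105) q17090, e3 q13334 (flp_e L212119) q17092, e3 q13335 (flp_e L212127) q17093, e3 q13336 (flp_e L212137) q17094, e3 q13337 (flp_e L212155) q17096, e3 q13338 (flp_e L212179) q17100, e3 q13339 (flp_e L212191) q17101, e3 q13340 (flp_e L212199) q17102, e3 q13341 (flp_e L212731) q17175, e3 q13342 (flp_e L212739) q17176, e3 q13343 (flp_e L212619) q17159, e3 q13344 (flp_e L183869) q9013, e3 q13345 L183887 q9021, e3 q13346 (flp_e L212313) q17117, e3 q13347 (flp_e L212325) q17118, e3 q13348 (flp_e L212333) q17119, e3 q13349 (flp_e L200625) q15621, e3 q13350 L183933 q9030, e3 q13351 (flp_e L214685) q17416, e3 q13352 (flp_e L214697) q17417, e3 q13353 (flp_e L212375) q17125, e3 q13354 (flp_e L212383) q17126, e3 q13355 (flp_e L212389) q17127, e3 q13356 (flp_e L212393) q17128, e3 q13357 (flp_e L212397) q17129, e3 q13358 L183981 q9035, e3 q13359 (flp_e L214713) q17419, e3 q13360 (flp_e L214721) q17420, e3 q13361 (flp_e L214733) q17421, e3 q13362 (flp_e L212425) q17134, e3 q13363 (flp_e L212433) q17135, e3 q13364 (flp_e L212449)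 q17137, e3 q13365 (flp_e L212455) q17138, e3 q13366 (flp_e L184043) q9041, e3 q13367 (flp_e L212481) q17143, e3 q13368 L184053 q9045, e3 q13369 L184059 q9046, e3 q13370 L184067 q9047, e3 q13371 (flp_e L214743) q17422, e3 q13372 (flp_e L212577) q17154, e3 q13373 (flp_e L212589) q17155, e3 q13374 (flp_e L212625) q17160, e3 q13375 (flp_e L212631) q17161, trivial⟩ (by decide +kernel)

theorem ce_e_209 : ∀ r, r < 64 → sm ge (Qf (13376 + r)) = Qf (tab Gen.e (13376 + r)) :=
  edges_tab (sm ge) Qf (tab Gen.e) 13376 [(13376, 17162), (13377, 17163), (13378, 17164), (13379, 17165), (13380, 17167), (13381, 17168), (13382, 17227), (13383, 17171), (13384, 17172), (13385, 17181), (13386, 17182), (13387, 11310), (13388, 10812), (13389, 10810), (13390, 11731), (13391, 16001), (13392, 17186), (13393, 17191), (13394, 13635), (13395, 17192), (13396, 16307), (13397, 9088), (13398, 9089), (13399, 9090), (13400, 9852), (13401, 13117), (13402, 9097), (13403, 9098), (13404, 9099), (13405, 17437), (13406, 17439), (13407, 9100), (13408, 17216),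 (13409, 17217), (13410, 17218), (13411, 17219), (13412, 17441), (13413, 9103), (13414, 17225), (13415, 17226), (13416, 11506), (13417, 17228), (13418, 17229), (13419, 17230), (13420, 17443), (13421, 17231), (13422, 9113), (13423, 17234), (13424, 11478), (13425, 9116), (13426, 17444), (13427, 11433), (13428, 17239), (13429, 17240), (13430, 9119), (13431, 17245), (13432, 17246), (13433, 17253), (13434, 15633), (13435, 15851), (13436, 9125), (13437, 17453), (13438, 9127), (13439, 11469)]
    ⟨e3 q13376 (flp_e L212637) q17162, e3 q13377 (flp_e L212641) q17163, e3 q13378 (flp_e L212651) q17164, e3 q13379 (flp_e L212657) q17165, e3 q13380 (flp_e L212669) q17167, e3 q13381 (flp_e L212677) q17168, e3 q13382 (flp_e L213095) q17227, e3 q13383 (flp_e L212695) q17171, e3 q13384 (flp_e L212705) q17172, e3 q13385 (flp_e L212771) q17181, e3 q13386 (flp_e L212779) q17182, e3 q13387 L184183 q11310, e3 q13388 L184197 q10812, e3 q13389 L184207 q10810, e3 q13390 L184219 q11731, e3 q13391 (flp_e L203334) q16001, e3 q13392 (flp_e L212803)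 q17186, e3 q13393 (flp_e L212843) q17191, e3 q13394 (flp_e L205209) q13635, e3 q13395 (flp_e L212849) q17192, e3 q13396 (flp_e L205594) q16307, e3 q13397 L184258 q9088, e3 q13398 L184268 q9089, e3 q13399 L184282 q9090, e3 q13400 L184290 q9852, e3 q13401 L184302 q13117, e3 q13402 L184306 q9097, e3 q13403 L184318 q9098, e3 q13404 L184324 q9099, e3 q13405 (flp_e L214904) q17437, e3 q13406 L214916 q17439, e3 q13407 (flp_e L184354) q9100, e3 q13408 (flp_e L213025) q17216, e3 q13409 (flp_e L213031) q17217, e3 q13410 (flp_e L213039) q17218, e3 q13411 (flp_e L213045) q17219, e3 q13412 L214940 q17441, e3 q13413 (flp_e L184392) q9103, e3 q13414 (flp_e L213083) q17225, e3 q13415 (flp_e L213091) q17226, e3 q13416 L184410 q11506, e3 q13417 (flp_e L213103) q17228, e3 q13418 (flp_e L213109) q17229, e3 q13419 (flp_e L213119) q17230, e3 q13420 L214964 q17443, e3 q13421 (flp_e L213127) q17231, e3 q13422 (flp_e L184450) q9113, e3 q13423 (flp_e L213147) q17234, e3 q13424 (flp_e L184468) q11478, e3 q13425 (flp_e L184470) q9116, e3 q13426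 (flp_e L214980) q17444, e3 q13427 L184494 q11433, e3 q13428 (flp_e L213171) q17239, e3 q13429 (flp_e L213175) q17240, e3 q13430 (flp_e L184500) q9119, e3 q13431 (flp_e L213205) q17245, e3 q13432 (flp_e L213215) q17246, e3 q13433 (flp_e L213251) q17253, e3 q13434 (flp_e L200733) q15633, e3 q13435 (flp_e L202240) q15851, e3 q13436 (flp_e L184525) q9125, e3 q13437 (flp_e L215058) q17453, e3 q13438 L184545 q9127, e3 q13439 L184553 q11469, trivial⟩ (by decide +kernel)

theorem ce_e_210 : ∀ r, r < 64 → sm ge (Qf (13440 + r)) = Qf (tab Gen.e (13440 + r)) :=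
  edges_tab (sm ge) Qf (tab Gen.e) 13440 [(13440, 10834), (13441, 11774), (13442, 10831), (13443, 17262), (13444, 16077), (13445, 16456), (13446, 17267), (13447, 13644), (13448, 17268), (13449, 9144), (13450, 9142), (13451, 9143), (13452, 9799), (13453, 13176), (13454, 9151), (13455, 9152), (13456, 9153), (13457, 17462), (13458, 17464), (13459, 9154), (13460, 17292), (13461, 17293), (13462, 17294), (13463, 17295), (13464, 17466), (13465, 9157), (13466, 17301), (13467, 17302), (13468, 11347), (13469, 17304), (13470, 17305), (13471, 17306), (13472, 17468), (13473, 17307), (13474, 9167), (13475, 17310), (13476, 11319), (13477, 9170), (13478, 17469), (13479, 11273), (13480, 17315), (13481, 17316), (13482, 9173), (13483, 17321), (13484, 17322), (13485, 15867), (13486, 17329), (13487, 15617), (13488, 9179), (13489, 17478), (13490, 9181), (13491, 9436), (13492, 9188), (13493, 9191), (13494, 9751), (13495, 13501), (13496, 9193), (13497, 13525), (13498, 9229), (13499, 9198), (13500, 9201), (13501, 13495), (13502, 9203),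 (13503, 17481)]
    ⟨e3 q13440 L184567 q10834, e3 q13441 L184577 q11774, e3 q13442 L184589 q10831, e3 q13443 (flp_e L213305) q17262, e3 q13444 (flp_e L203834) q16077, e3 q13445 (flp_e L206869) q16456, e3 q13446 (flp_e L213345) q17267, e3 q13447 (flp_e L186311) q13644, e3 q13448 (flp_e L213351) q17268, e3 q13449 L184634 q9144, e3 q13450 L184644 q9142, e3 q13451 L184658 q9143, e3 q13452 L184666 q9799, e3 q13453 L184678 q13176, e3 q13454 L184682 q9151, e3 q13455 L184694 q9152, e3 q13456 L184700 q9153, e3 q13457 (flp_e L215143) q17462, e3 q13458 L215155 q17464, e3 q13459 (flp_e L184730) q9154, e3 q13460 (flp_e L213527) q17292, e3 q13461 (flp_e L213533) q17293, e3 q13462 (flp_e L213541) q17294, e3 q13463 (flp_e L213547) q17295, e3 q13464 L215179 q17466, e3 q13465 (flp_e L184768) q9157, e3 q13466 (flp_e L213587) q17301, e3 q13467 (flp_e L213597) q17302, e3 q13468 L184788 q11347, e3 q13469 (flp_e L213609) q17304, e3 q13470 (flp_e L213615) q17305, e3 q13471 (flp_e L213625) q17306, e3 q13472 L215203 q17468, e3 q13473 (flp_e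 L213635) q17307, e3 q13474 (flp_e L184838) q9167, e3 q13475 (flp_e L213657) q17310, e3 q13476 (flp_e L184860) q11319, e3 q13477 (flp_e L184862) q9170, e3 q13478 (flp_e L215219) q17469, e3 q13479 (flp_e L184886) q11273, e3 q13480 (flp_e L213681) q17315, e3 q13481 (flp_e L213687) q17316, e3 q13482 (flp_e L184892) q9173, e3 q13483 (flp_e L213715) q17321, e3 q13484 (flp_e L213723) q17322, e3 q13485 (flp_e L202374) q15867, e3 q13486 (flp_e L213761) q17329, e3 q13487 (flp_e L200599) q15617, e3 q13488 (flp_e L184925) q9179, e3 q13489 (flp_e L215305) q17478, e3 q13490 L184945 q9181, e3 q13491 L184953 q9436, e3 q13492 L184967 q9188, e3 q13493 L184975 q9191, e3 q13494 L184989 q9751, e3 q13495 (flp_e L185073) q13501, e3 q13496 L185013 q9193, e3 q13497 (flp_e L185273) q13525, e3 q13498 L185033 q9229, e3 q13499 L185045 q9198, e3 q13500 L185061 q9201, e3 q13501 L185073 q13495, e3 q13502 (flp_e L185077) q9203, e3 q13503 L215325 q17481, trivial⟩ (by decide +kernel)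

theorem ce_e_211 : ∀ r, r < 64 → sm ge (Qf (13504 + r)) = Qf (tab Gen.e (13504 + r)) :=
  edges_tab (sm ge) Qf (tab Gen.e) 13504 [(13504, 16598), (13505, 17482), (13506, 9206), (13507, 17483), (13508, 9905), (13509, 15010), (13510, 13552), (13511, 17485), (13512, 9212), (13513, 15008), (13514, 9213), (13515, 9215), (13516, 9216), (13517, 17486), (13518, 9218), (13519, 9221), (13520, 17487), (13521, 9432), (13522, 9228), (13523, 9731), (13524, 9237), (13525, 13497), (13526, 9239), (13527, 17490), (13528, 16621), (13529, 17491), (13530, 9242), (13531, 17492), (13532, 9922), (13533, 15022), (13534, 13581), (13535, 17494), (13536, 9248), (13537, 15020), (13538, 9249), (13539, 9251), (13540, 9252), (13541, 17495), (13542, 9254), (13543, 9257), (13544, 17496), (13545, 13549), (13546, 9261), (13547, 13586), (13548, 13594), (13549, 13545), (13550, 9265), (13551, 9266), (13552, 13510), (13553, 9347), (13554, 9270), (13555, 10752), (13556, 14917), (13557, 9467), (13558, 9282), (13559, 9284), (13560, 13578), (13561, 9472),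 (13562, 10743), (13563, 10741), (13564, 9319), (13565, 9318), (13566, 10756), (13567, 10751)]
    ⟨e3 q13504 (flp_e L208051) q16598, e3 q13505 L215333 q17482, e3 q13506 (flp_e L185113) q9206, e3 q13507 (flp_e L215351) q17483, e3 q13508 L185131 q9905, e3 q13509 (flp_e L196759) q15010, e3 q13510 (flp_e L185475) q13552, e3 q13511 L215365 q17485, e3 q13512 (flp_e L185147) q9212, e3 q13513 (flp_e L196745) q15008, e3 q13514 (flp_e L185157) q9213, e3 q13515 L185171 q9215, e3 q13516 L185179 q9216, e3 q13517 (flp_e L215373) q17486, e3 q13518 L185201 q9218, e3 q13519 L185211 q9221, e3 q13520 (flp_e L215387) q17487, e3 q13521 L185223 q9432, e3 q13522 L185237 q9228, e3 q13523 L185247 q9731, e3 q13524 L185261 q9237, e3 q13525 L185273 q13497, e3 q13526 (flp_e L185279) q9239, e3 q13527 L215413 q17490, e3 q13528 (flp_e L208248) q16621, e3 q13529 L215421 q17491, e3 q13530 (flp_e L185315) q9242, e3 q13531 (flp_e L215439) q17492, e3 q13532 L185333 q9922, e3 q13533 (flp_e L196861) q15022, e3 q13534 (flp_e L185769) q13581, e3 q13535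 L215453 q17494, e3 q13536 (flp_e L185349) q9248, e3 q13537 (flp_e L196847) q15020, e3 q13538 (flp_e L185359) q9249, e3 q13539 L185373 q9251, e3 q13540 L185385 q9252, e3 q13541 (flp_e L215461) q17495, e3 q13542 L185403 q9254, e3 q13543 L185413 q9257, e3 q13544 (flp_e L215475) q17496, e3 q13545 (flp_e L185443) q13549, e3 q13546 L185427 q9261, e3 q13547 (flp_e L185817) q13586, e3 q13548 (flp_e L185909) q13594, e3 q13549 L185443 q13545, e3 q13550 L185447 q9265, e3 q13551 L185463 q9266, e3 q13552 L185475 q13510, e3 q13553 L185487 q9347, e3 q13554 L185499 q9270, e3 q13555 L185513 q10752, e3 q13556 (flp_e L195972) q14917, e3 q13557 L185529 q9467, e3 q13558 (flp_e L185535) q9282, e3 q13559 L185545 q9284, e3 q13560 (flp_e L185733) q13578, e3 q13561 L185563 q9472, e3 q13562 L185571 q10743, e3 q13563 L185581 q10741, e3 q13564 L185587 q9319, e3 q13565 L185605 q9318, e3 q13566 L185619 q10756, e3 q13567 L185625 q10751, trivial⟩ (by decide +kernel)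

theorem ce_e_212 : ∀ r, r < 64 → sm ge (Qf (13568 + r)) = Qf (tab Gen.e (13568 + r)) :=
  edges_tab (sm ge) Qf (tab Gen.e) 13568 [(13568, 9322), (13569, 10757), (13570, 9304), (13571, 9305), (13572, 13579), (13573, 13707), (13574, 15907), (13575, 10759), (13576, 13580), (13577, 9314), (13578, 13560), (13579, 13572), (13580, 13576), (13581, 13534), (13582, 10658), (13583, 14965), (13584, 9329), (13585, 9331), (13586, 13547), (13587, 10661), (13588, 10659), (13589, 10672), (13590, 10657), (13591, 10673), (13592, 9346), (13593, 13705), (13594, 13548), (13595, 15677), (13596, 10675), (13597, 9362), (13598, 9363), (13599, 9364), (13600, 9365), (13601, 9366), (13602, 9367), (13603, 10538), (13604, 10593), (13605, 11890), (13606, 12099), (13607, 17508), (13608, 17509), (13609, 16651), (13610, 17511), (13611, 17512), (13612, 17513), (13613, 16669), (13614, 17515), (13615, 9408), (13616, 9409), (13617, 12957), (13618, 9413), (13619, 13033), (13620, 9414), (13621, 9842), (13622, 9845), (13623, 10297), (13624, 10298), (13625,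 9789), (13626, 9791), (13627, 10299), (13628, 10300), (13629, 9437), (13630, 9438), (13631, 9439)]
    ⟨e3 q13568 L185649 q9322, e3 q13569 L185657 q10757, e3 q13570 L185667 q9304, e3 q13571 L185675 q9305, e3 q13572 (flp_e L185747) q13579, e3 q13573 (flp_e L186901) q13707, e3 q13574 (flp_e L202681) q15907, e3 q13575 L185711 q10759, e3 q13576 (flp_e L185755) q13580, e3 q13577 L185721 q9314, e3 q13578 L185733 q13560, e3 q13579 L185747 q13572, e3 q13580 L185755 q13576, e3 q13581 L185769 q13534, e3 q13582 L185781 q10658, e3 q13583 (flp_e L196383) q14965, e3 q13584 (flp_e L185797) q9329, e3 q13585 L185807 q9331, e3 q13586 L185817 q13547, e3 q13587 L185835 q10661, e3 q13588 L185845 q10659, e3 q13589 L185859 q10672, e3 q13590 L185865 q10657, e3 q13591 L185877 q10673, e3 q13592 L185887 q9346, e3 q13593 (flp_e L186877) q13705, e3 q13594 L185909 q13548, e3 q13595 (flp_e L201034) q15677, e3 q13596 L185929 q10675, e3 q13597 L185937 q9362, e3 q13598 L185944 q9363, e3 q13599 L185953 q9364, e3 q13600 L185961 q9365, e3 q13601 L185968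 q9366, e3 q13602 L185977 q9367, e3 q13603 L185987 q10538, e3 q13604 L186001 q10593, e3 q13605 L186011 q11890, e3 q13606 L186022 q12099, e3 q13607 (flp_e L215595) q17508, e3 q13608 (flp_e L215606) q17509, e3 q13609 (flp_e L208547) q16651, e3 q13610 (flp_e L215625) q17511, e3 q13611 (flp_e L215631) q17512, e3 q13612 (flp_e L215642) q17513, e3 q13613 (flp_e L208720) q16669, e3 q13614 (flp_e L215663) q17515, e3 q13615 L186083 q9408, e3 q13616 L186093 q9409, e3 q13617 L186105 q12957, e3 q13618 L186113 q9413, e3 q13619 L186123 q13033, e3 q13620 L186131 q9414, e3 q13621 L186139 q9842, e3 q13622 L186149 q9845, e3 q13623 L186155 q10297, e3 q13624 L186163 q10298, e3 q13625 L186171 q9789, e3 q13626 L186181 q9791, e3 q13627 L186187 q10299, e3 q13628 L186195 q10300, e3 q13629 L186203 q9437, e3 q13630 L186211 q9438, e3 q13631 L186218 q9439, trivial⟩ (by decide +kernel)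

theorem ce_e_213 : ∀ r, r < 64 → sm ge (Qf (13632 + r)) = Qf (tab Gen.e (13632 + r)) :=
  edges_tab (sm ge) Qf (tab Gen.e) 13632 [(13632, 9440), (13633, 9441), (13634, 9442), (13635, 13394), (13636, 9444), (13637, 9445), (13638, 9446), (13639, 9447), (13640, 9448), (13641, 9449), (13642, 9450), (13643, 9451), (13644, 13447), (13645, 9453), (13646, 9454), (13647, 9477), (13648, 9486), (13649, 9484), (13650, 9478), (13651, 9475), (13652, 9476), (13653, 9479), (13654, 9480), (13655, 9481), (13656, 9482), (13657, 9483), (13658, 9485), (13659, 9487), (13660, 9488), (13661, 9489), (13662, 9490), (13663, 9419), (13664, 9420), (13665, 11778), (13666, 11735), (13667, 9423), (13668, 9424), (13669, 17554), (13670, 17555), (13671, 9429), (13672, 9430), (13673, 9431), (13674, 9433), (13675, 9434), (13676, 9435), (13677, 9756), (13678, 12449), (13679, 12445), (13680, 10683), (13681, 16654), (13682, 13929), (13683, 17534), (13684, 16273), (13685, 12818), (13686, 9736), (13687, 12486), (13688, 12481), (13689, 10767), (13690, 16672),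 (13691, 13932), (13692, 17538), (13693, 16428), (13694, 12820), (13695, 17535)]
    ⟨e3 q13632 L186222 q9440, e3 q13633 L186234 q9441, e3 q13634 L186240 q9442, e3 q13635 L205209 q13394, e3 q13636 L186252 q9444, e3 q13637 L186258 q9445, e3 q13638 L186266 q9446, e3 q13639 L186274 q9447, e3 q13640 L186281 q9448, e3 q13641 L186285 q9449, e3 q13642 L186297 q9450, e3 q13643 L186303 q9451, e3 q13644 L186311 q13447, e3 q13645 L186319 q9453, e3 q13646 L186325 q9454, e3 q13647 L186335 q9477, e3 q13648 L186343 q9486, e3 q13649 L186353 q9484, e3 q13650 L186361 q9478, e3 q13651 L186373 q9475, e3 q13652 L186381 q9476, e3 q13653 L186387 q9479, e3 q13654 L186392 q9480, e3 q13655 L186402 q9481, e3 q13656 L186407 q9482, e3 q13657 L186413 q9483, e3 q13658 L186425 q9485, e3 q13659 L186433 q9487, e3 q13660 L186438 q9488, e3 q13661 L186448 q9489, e3 q13662 L186453 q9490, e3 q13663 L186463 q9419, e3 q13664 L186477 q9420, e3 q13665 L186487 q11778, e3 q13666 L186496 q11735, e3 q13667 L186505 q9423, e3 q13668 L186512 q9424, e3 q13669 (flp_e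 L216007) q17554, e3 q13670 (flp_e L216016) q17555, e3 q13671 L186535 q9429, e3 q13672 L186549 q9430, e3 q13673 L186557 q9431, e3 q13674 L186565 q9433, e3 q13675 L186579 q9434, e3 q13676 L186587 q9435, e3 q13677 L186595 q9756, e3 q13678 L186603 q12449, e3 q13679 L186615 q12445, e3 q13680 L186623 q10683, e3 q13681 (flp_e L208576) q16654, e3 q13682 (flp_e L188553) q13929, e3 q13683 (flp_e L215821) q17534, e3 q13684 (flp_e L205273) q16273, e3 q13685 L186670 q12818, e3 q13686 L186680 q9736, e3 q13687 L186688 q12486, e3 q13688 L186700 q12481, e3 q13689 L186708 q10767, e3 q13690 (flp_e L208749) q16672, e3 q13691 (flp_e L188575) q13932, e3 q13692 (flp_e L215857) q17538, e3 q13693 (flp_e L206594) q16428, e3 q13694 L186755 q12820, e3 q13695 (flp_e L215829) q17535, trivial⟩ (by decide +kernel)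

theorem ce_e_214 : ∀ r, r < 64 → sm ge (Qf (13696 + r)) = Qf (tab Gen.e (13696 + r)) :=
  edges_tab (sm ge) Qf (tab Gen.e) 13696 [(13696, 14007), (13697, 17537), (13698, 17539), (13699, 13988), (13700, 17541), (13701, 9465), (13702, 9468), (13703, 9470), (13704, 9473), (13705, 13593), (13706, 10689), (13707, 13573), (13708, 10773), (13709, 17544), (13710, 17542), (13711, 17543), (13712, 17546), (13713, 17547), (13714, 17548), (13715, 17549), (13716, 17551), (13717, 17552), (13718, 17553), (13719, 15033), (13720, 15045), (13721, 12972), (13722, 9670), (13723, 17565), (13724, 9495), (13725, 17566), (13726, 9496), (13727, 17569), (13728, 9498), (13729, 17571), (13730, 9674), (13731, 9675), (13732, 9676), (13733, 9677), (13734, 9678), (13735, 12795), (13736, 9680), (13737, 9681), (13738, 9682), (13739, 9683), (13740, 9684), (13741, 12796), (13742, 9686), (13743, 12798), (13744, 9690), (13745, 9691), (13746, 13048), (13747, 9692), (13748, 17593), (13749, 9511), (13750, 17594), (13751, 9512), (13752, 17597), (13753,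 9514), (13754, 17599), (13755, 9696), (13756, 9697), (13757, 9698), (13758, 9699), (13759, 9700)]
    ⟨e3 q13696 (flp_e L189129) q14007, e3 q13697 (flp_e L215849) q17537, e3 q13698 (flp_e L215865) q17539, e3 q13699 (flp_e L189007) q13988, e3 q13700 (flp_e L215885) q17541, e3 q13701 L186827 q9465, e3 q13702 L186841 q9468, e3 q13703 L186853 q9470, e3 q13704 L186867 q9473, e3 q13705 L186877 q13593, e3 q13706 L186887 q10689, e3 q13707 L186901 q13573, e3 q13708 L186911 q10773, e3 q13709 (flp_e L215915) q17544, e3 q13710 (flp_e L215893) q17542, e3 q13711 (flp_e L215905) q17543, e3 q13712 (flp_e L215926) q17546, e3 q13713 (flp_e L215938) q17547, e3 q13714 (flp_e L215952) q17548, e3 q13715 (flp_e L215958) q17549, e3 q13716 (flp_e L215971) q17551, e3 q13717 (flp_e L215983) q17552, e3 q13718 (flp_e L215997) q17553, e3 q13719 (flp_e L196931) q15033, e3 q13720 (flp_e L197009) q15045, e3 q13721 L187025 q12972, e3 q13722 L187031 q9670, e3 q13723 L216087 q17565, e3 q13724 (flp_e L187043) q9495, e3 q13725 L216095 q17566, e3 q13726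 (flp_e L187061) q9496, e3 q13727 (flp_e L216121) q17569, e3 q13728 L187075 q9498, e3 q13729 (flp_e L216129) q17571, e3 q13730 L187085 q9674, e3 q13731 L187091 q9675, e3 q13732 L187099 q9676, e3 q13733 L187105 q9677, e3 q13734 L187115 q9678, e3 q13735 L187123 q12795, e3 q13736 L187131 q9680, e3 q13737 L187135 q9681, e3 q13738 L187141 q9682, e3 q13739 L187149 q9683, e3 q13740 L187155 q9684, e3 q13741 (flp_e L187163) q12796, e3 q13742 L187171 q9686, e3 q13743 L187181 q12798, e3 q13744 L187189 q9690, e3 q13745 L187197 q9691, e3 q13746 L187209 q13048, e3 q13747 L187215 q9692, e3 q13748 L216285 q17593, e3 q13749 (flp_e L187227) q9511, e3 q13750 L216293 q17594, e3 q13751 (flp_e L187245) q9512, e3 q13752 (flp_e L216319) q17597, e3 q13753 L187259 q9514, e3 q13754 (flp_e L216327) q17599, e3 q13755 L187269 q9696, e3 q13756 L187275 q9697, e3 q13757 L187283 q9698, e3 q13758 L187289 q9699, e3 q13759 L187299 q9700, trivial⟩ (by decide +kernel)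

theorem ce_e_215 : ∀ r, r < 64 → sm ge (Qf (13760 + r)) = Qf (tab Gen.e (13760 + r)) :=
  edges_tab (sm ge) Qf (tab Gen.e) 13760 [(13760, 12770), (13761, 9702), (13762, 9703), (13763, 9704), (13764, 9705), (13765, 9706), (13766, 12771), (13767, 9708), (13768, 12773), (13769, 9712), (13770, 9713), (13771, 9822), (13772, 9530), (13773, 15431), (13774, 11116), (13775, 10532), (13776, 9856), (13777, 9854), (13778, 15325), (13779, 9875), (13780, 9543), (13781, 15322), (13782, 11106), (13783, 10487), (13784, 9803), (13785, 9801), (13786, 15430), (13787, 9770), (13788, 9771), (13789, 9772), (13790, 9559), (13791, 17629), (13792, 9561), (13793, 17066), (13794, 9775), (13795, 9776), (13796, 9777), (13797, 9778), (13798, 17638), (13799, 9780), (13800, 14245), (13801, 9567), (13802, 17642), (13803, 17643), (13804, 9569), (13805, 17647), (13806, 9786), (13807, 9787), (13808, 9788), (13809, 9790), (13810, 9792), (13811, 9793), (13812, 17664), (13813, 17666), (13814, 9573), (13815, 17667), (13816, 9798), (13817, 9800), (13818,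 13015), (13819, 9802), (13820, 9804), (13821, 17674), (13822, 9806), (13823, 9807)]
    ⟨e3 q13760 L187307 q12770, e3 q13761 L187315 q9702, e3 q13762 L187321 q9703, e3 q13763 L187329 q9704, e3 q13764 L187337 q9705, e3 q13765 L187343 q9706, e3 q13766 (flp_e L187351) q12771, e3 q13767 L187359 q9708, e3 q13768 L187369 q12773, e3 q13769 L187377 q9712, e3 q13770 L187385 q9713, e3 q13771 L187395 q9822, e3 q13772 (flp_e L187401) q9530, e3 q13773 (flp_e L199371) q15431, e3 q13774 L187425 q11116, e3 q13775 L187429 q10532, e3 q13776 L187439 q9856, e3 q13777 L187453 q9854, e3 q13778 (flp_e L198805) q15325, e3 q13779 L187467 q9875, e3 q13780 (flp_e L187473) q9543, e3 q13781 (flp_e L198779) q15322, e3 q13782 L187497 q11106, e3 q13783 L187501 q10487, e3 q13784 L187511 q9803, e3 q13785 L187527 q9801, e3 q13786 (flp_e L199363) q15430, e3 q13787 L187539 q9770, e3 q13788 L187547 q9771, e3 q13789 L187553 q9772, e3 q13790 (flp_e L187559) q9559, e3 q13791 (flp_e L216549) q17629, e3 q13792 L187581 q9561, e3 q13793 (flp_e L211925) q17066,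 e3 q13794 L187591 q9775, e3 q13795 L187595 q9776, e3 q13796 L187601 q9777, e3 q13797 L187611 q9778, e3 q13798 L216623 q17638, e3 q13799 L187623 q9780, e3 q13800 (flp_e L190941) q14245, e3 q13801 L187635 q9567, e3 q13802 (flp_e L216655) q17642, e3 q13803 (flp_e L216665) q17643, e3 q13804 L187655 q9569, e3 q13805 (flp_e L216681) q17647, e3 q13806 L187665 q9786, e3 q13807 L187669 q9787, e3 q13808 L187675 q9788, e3 q13809 L187681 q9790, e3 q13810 L187687 q9792, e3 q13811 L187695 q9793, e3 q13812 L216809 q17664, e3 q13813 L216821 q17666, e3 q13814 (flp_e L187707) q9573, e3 q13815 (flp_e L216831) q17667, e3 q13816 L187719 q9798, e3 q13817 L187729 q9800, e3 q13818 L187735 q13015, e3 q13819 L187743 q9802, e3 q13820 L187749 q9804, e3 q13821 L216891 q17674, e3 q13822 L187765 q9806, e3 q13823 L187775 q9807, trivial⟩ (by decide +kernel)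

theorem ce_e_216 : ∀ r, r < 64 → sm ge (Qf (13824 + r)) = Qf (tab Gen.e (13824 + r)) :=
  edges_tab (sm ge) Qf (tab Gen.e) 13824 [(13824, 9810), (13825, 9811), (13826, 17679), (13827, 9584), (13828, 17681), (13829, 9815), (13830, 17684), (13831, 9586), (13832, 17688), (13833, 9588), (13834, 17691), (13835, 9821), (13836, 9823), (13837, 9824), (13838, 9825), (13839, 9826), (13840, 9597), (13841, 17701), (13842, 9599), (13843, 17153), (13844, 9829), (13845, 9830), (13846, 9831), (13847, 17710), (13848, 9833), (13849, 14265), (13850, 9605), (13851, 17714), (13852, 17715), (13853, 9607), (13854, 17719), (13855, 9839), (13856, 9840), (13857, 9841), (13858, 9843), (13859, 9844), (13860, 9846), (13861, 17733), (13862, 17735), (13863, 9611), (13864, 17736), (13865, 9851), (13866, 9853), (13867, 13086), (13868, 9855), (13869, 9857), (13870, 17742), (13871, 9859), (13872, 9860), (13873, 9863), (13874, 9864), (13875, 17747), (13876, 9622), (13877, 17749), (13878, 9868), (13879, 17752), (13880, 9624), (13881, 17756), (13882,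 9626), (13883, 17759), (13884, 9874), (13885, 9876), (13886, 9877), (13887, 9878)]
    ⟨e3 q13824 L187789 q9810, e3 q13825 L187795 q9811, e3 q13826 L216948 q17679, e3 q13827 (flp_e L187827) q9584, e3 q13828 (flp_e L216972) q17681, e3 q13829 L187843 q9815, e3 q13830 L216990 q17684, e3 q13831 (flp_e L187857) q9586, e3 q13832 (flp_e L217016) q17688, e3 q13833 L187869 q9588, e3 q13834 (flp_e L217037) q17691, e3 q13835 L187882 q9821, e3 q13836 L187887 q9823, e3 q13837 L187895 q9824, e3 q13838 L187903 q9825, e3 q13839 L187911 q9826, e3 q13840 (flp_e L187917) q9597, e3 q13841 (flp_e L217122) q17701, e3 q13842 L187939 q9599, e3 q13843 (flp_e L212569) q17153, e3 q13844 L187949 q9829, e3 q13845 L187953 q9830, e3 q13846 L187959 q9831, e3 q13847 L217196 q17710, e3 q13848 L187969 q9833, e3 q13849 (flp_e L191085) q14265, e3 q13850 L187981 q9605, e3 q13851 (flp_e L217228) q17714, e3 q13852 (flp_e L217238) q17715, e3 q13853 L188001 q9607, e3 q13854 (flp_e L217254) q17719, e3 q13855 L188011 q9839, e3 q13856 L188015 q9840, e3 q13857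 L188021 q9841, e3 q13858 L188027 q9843, e3 q13859 L188033 q9844, e3 q13860 L188041 q9846, e3 q13861 L217374 q17733, e3 q13862 L217392 q17735, e3 q13863 (flp_e L188053) q9611, e3 q13864 (flp_e L217402) q17736, e3 q13865 L188065 q9851, e3 q13866 L188075 q9853, e3 q13867 L188081 q13086, e3 q13868 L188089 q9855, e3 q13869 L188095 q9857, e3 q13870 L217454 q17742, e3 q13871 L188111 q9859, e3 q13872 L188119 q9860, e3 q13873 L188135 q9863, e3 q13874 L188139 q9864, e3 q13875 L217504 q17747, e3 q13876 (flp_e L188173) q9622, e3 q13877 (flp_e L217528) q17749, e3 q13878 L188189 q9868, e3 q13879 L217546 q17752, e3 q13880 (flp_e L188203) q9624, e3 q13881 (flp_e L217572) q17756, e3 q13882 L188215 q9626, e3 q13883 (flp_e L217593) q17759, e3 q13884 L188228 q9874, e3 q13885 L188233 q9876, e3 q13886 L188241 q9877, e3 q13887 L188249 q9878, trivial⟩ (by decide +kernel)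

theorem ce_e_217 : ∀ r, r < 64 → sm ge (Qf (13888 + r)) = Qf (tab Gen.e (13888 + r)) :=
  edges_tab (sm ge) Qf (tab Gen.e) 13888 [(13888, 17768), (13889, 9880), (13890, 9881), (13891, 17773), (13892, 9630), (13893, 13907), (13894, 17776), (13895, 9884), (13896, 17779), (13897, 9634), (13898, 17782), (13899, 17783), (13900, 9889), (13901, 17777), (13902, 9883), (13903, 9890), (13904, 17791), (13905, 9637), (13906, 17770), (13907, 13893), (13908, 9879), (13909, 17795), (13910, 9641), (13911, 17798), (13912, 17799), (13913, 13228), (13914, 13229), (13915, 13230), (13916, 17808), (13917, 13232), (13918, 17812), (13919, 9645), (13920, 17815), (13921, 17816), (13922, 13248), (13923, 13249), (13924, 13250), (13925, 17823), (13926, 17825), (13927, 9651), (13928, 17827), (13929, 13682), (13930, 17616), (13931, 9660), (13932, 13691), (13933, 17588), (13934, 9667), (13935, 9673), (13936, 17830), (13937, 17575), (13938, 17526), (13939, 14001), (13940, 9709), (13941, 17578), (13942, 17579), (13943, 17580), (13944, 17607), (13945,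 17582), (13946, 17583), (13947, 17833), (13948, 17585), (13949, 13977), (13950, 9685), (13951, 13975)]
    ⟨e3 q13888 L217660 q17768, e3 q13889 L188261 q9880, e3 q13890 L188269 q9881, e3 q13891 L217700 q17773, e3 q13892 (flp_e L188275) q9630, e3 q13893 (flp_e L188357) q13907, e3 q13894 (flp_e L217718) q17776, e3 q13895 L188296 q9884, e3 q13896 L217736 q17779, e3 q13897 (flp_e L188302) q9634, e3 q13898 (flp_e L217754) q17782, e3 q13899 (flp_e L217761) q17783, e3 q13900 L188315 q9889, e3 q13901 (flp_e L217728) q17777, e3 q13902 L188327 q9883, e3 q13903 L188337 q9890, e3 q13904 L217813 q17791, e3 q13905 (flp_e L188341) q9637, e3 q13906 (flp_e L217680) q17770, e3 q13907 L188357 q13893, e3 q13908 L188368 q9879, e3 q13909 L217837 q17795, e3 q13910 (flp_e L188374) q9641, e3 q13911 (flp_e L217855) q17798, e3 q13912 (flp_e L217861) q17799, e3 q13913 L188391 q13228, e3 q13914 L188399 q13229, e3 q13915 L188408 q13230, e3 q13916 L217934 q17808, e3 q13917 L188423 q13232, e3 q13918 L217968 q17812, e3 q13919 (flp_e L188436) q9645,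 e3 q13920 (flp_e L217988) q17815, e3 q13921 (flp_e L217995) q17816, e3 q13922 L188473 q13248, e3 q13923 L188481 q13249, e3 q13924 L188489 q13250, e3 q13925 L218080 q17823, e3 q13926 L218114 q17825, e3 q13927 (flp_e L188518) q9651, e3 q13928 (flp_e L218134) q17827, e3 q13929 L188553 q13682, e3 q13930 (flp_e L216453) q17616, e3 q13931 (flp_e L188567) q9660, e3 q13932 L188575 q13691, e3 q13933 (flp_e L216255) q17588, e3 q13934 (flp_e L188589) q9667, e3 q13935 L188599 q9673, e3 q13936 (flp_e L218190) q17830, e3 q13937 (flp_e L216151) q17575, e3 q13938 (flp_e L215755) q17526, e3 q13939 (flp_e L189073) q14001, e3 q13940 L188645 q9709, e3 q13941 (flp_e L216179) q17578, e3 q13942 (flp_e L216191) q17579, e3 q13943 (flp_e L216197) q17580, e3 q13944 (flp_e L216389) q17607, e3 q13945 (flp_e L216209) q17582, e3 q13946 (flp_e L216217) q17583, e3 q13947 L218212 q17833, e3 q13948 (flp_e L216229) q17585, e3 q13949 (flp_e L188909) q13977, e3 q13950 (flp_e L188703) q9685, e3 q13951 (flp_e L188883) q13975, trivial⟩ (by decide +kernel)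

theorem ce_e_218 : ∀ r, r < 64 → sm ge (Qf (13952 + r)) = Qf (tab Gen.e (13952 + r)) :=
  edges_tab (sm ge) Qf (tab Gen.e) 13952 [(13952, 17587), (13953, 17605), (13954, 9687), (13955, 13972), (13956, 9689), (13957, 13970), (13958, 17589), (13959, 9695), (13960, 17840), (13961, 17603), (13962, 17530), (13963, 14020), (13964, 17606), (13965, 17608), (13966, 17610), (13967, 17611), (13968, 17843), (13969, 17613), (13970, 13957), (13971, 9707), (13972, 13955), (13973, 17615), (13974, 17577), (13975, 13951), (13976, 9711), (13977, 13949), (13978, 17617), (13979, 9737), (13980, 9743), (13981, 9745), (13982, 9749), (13983, 9757), (13984, 9763), (13985, 9765), (13986, 9769), (13987, 9733), (13988, 13699), (13989, 16419), (13990, 17854), (13991, 9738), (13992, 14160), (13993, 16679), (13994, 17856), (13995, 17850), (13996, 17859), (13997, 17838), (13998, 17851), (13999, 9744), (14000, 17862), (14001, 13939), (14002, 9746), (14003, 17864), (14004, 9748), (14005, 17865), (14006, 9753), (14007, 13696), (14008, 16526), (14009,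 17866), (14010, 9758), (14011, 14181), (14012, 16661), (14013, 17868), (14014, 17852), (14015, 17871)]
    ⟨e3 q13952 (flp_e L216245) q17587, e3 q13953 (flp_e L216373) q17605, e3 q13954 (flp_e L188727) q9687, e3 q13955 (flp_e L188863) q13972, e3 q13956 L188745 q9689, e3 q13957 L188841 q13970, e3 q13958 (flp_e L216261) q17589, e3 q13959 L188763 q9695, e3 q13960 (flp_e L218292) q17840, e3 q13961 (flp_e L216349) q17603, e3 q13962 (flp_e L215789) q17530, e3 q13963 (flp_e L189195) q14020, e3 q13964 (flp_e L216377) q17606, e3 q13965 (flp_e L216395) q17608, e3 q13966 (flp_e L216407) q17610, e3 q13967 (flp_e L216415) q17611, e3 q13968 L218314 q17843, e3 q13969 (flp_e L216427) q17613, e3 q13970 (flp_e L188841) q13957, e3 q13971 (flp_e L188845) q9707, e3 q13972 L188863 q13955, e3 q13973 (flp_e L216443) q17615, e3 q13974 (flp_e L216175) q17577, e3 q13975 L188883 q13951, e3 q13976 L188895 q9711, e3 q13977 L188909 q13949, e3 q13978 (flp_e L216459) q17617, e3 q13979 L188921 q9737, e3 q13980 L188929 q9743, e3 q13981 L188939 q9745,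 e3 q13982 L188947 q9749, e3 q13983 L188959 q9757, e3 q13984 L188967 q9763, e3 q13985 L188977 q9765, e3 q13986 L188985 q9769, e3 q13987 L188997 q9733, e3 q13988 L189007 q13699, e3 q13989 (flp_e L206520) q16419, e3 q13990 L218420 q17854, e3 q13991 (flp_e L189027) q9738, e3 q13992 (flp_e L190303) q14160, e3 q13993 (flp_e L208811) q16679, e3 q13994 L218440 q17856, e3 q13995 (flp_e L218394) q17850, e3 q13996 L218464 q17859, e3 q13997 (flp_e L218266) q17838, e3 q13998 (flp_e L218402) q17851, e3 q13999 (flp_e L189057) q9744, e3 q14000 (flp_e L218494) q17862, e3 q14001 L189073 q13939, e3 q14002 (flp_e L189085) q9746, e3 q14003 (flp_e L218508) q17864, e3 q14004 L189103 q9748, e3 q14005 (flp_e L218516) q17865, e3 q14006 L189119 q9753, e3 q14007 L189129 q13696, e3 q14008 (flp_e L207457) q16526, e3 q14009 L218524 q17866, e3 q14010 (flp_e L189149) q9758, e3 q14011 (flp_e L190469) q14181, e3 q14012 (flp_e L208638) q16661, e3 q14013 L218544 q17868, e3 q14014 (flp_e L218410) q17852, e3 q14015 L218568 q17871, trivial⟩ (by decide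 +kernel)

theorem ce_e_219 : ∀ r, r < 64 → sm ge (Qf (14016 + r)) = Qf (tab Gen.e (14016 + r)) :=
  edges_tab (sm ge) Qf (tab Gen.e) 14016 [(14016, 17853), (14017, 17848), (14018, 9764), (14019, 17874), (14020, 13963), (14021, 9766), (14022, 17876), (14023, 9768), (14024, 17877), (14025, 17626), (14026, 17627), (14027, 12823), (14028, 17634), (14029, 17635), (14030, 17637), (14031, 15916), (14032, 9779), (14033, 17879), (14034, 12824), (14035, 12825), (14036, 9783), (14037, 9785), (14038, 17651), (14039, 17652), (14040, 17654), (14041, 17655), (14042, 17656), (14043, 17531), (14044, 17658), (14045, 17659), (14046, 17745), (14047, 17661), (14048, 17662), (14049, 17885), (14050, 9794), (14051, 17886), (14052, 9795), (14053, 17888), (14054, 9797), (14055, 17669), (14056, 17890), (14057, 17673), (14058, 9805), (14059, 17891), (14060, 16833), (14061, 17194), (14062, 17202), (14063, 17061), (14064, 17893), (14065, 9809), (14066, 17730), (14067, 17677), (14068, 17678), (14069, 9812), (14070, 9814), (14071, 17895), (14072,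 17896), (14073, 9816), (14074, 17898), (14075, 9817), (14076, 17899), (14077, 9820), (14078, 17693), (14079, 17694)]
    ⟨e3 q14016 (flp_e L218418) q17853, e3 q14017 (flp_e L218368) q17848, e3 q14018 (flp_e L189179) q9764, e3 q14019 (flp_e L218598) q17874, e3 q14020 L189195 q13963, e3 q14021 (flp_e L189207) q9766, e3 q14022 (flp_e L218612) q17876, e3 q14023 L189225 q9768, e3 q14024 (flp_e L218620) q17877, e3 q14025 (flp_e L216519) q17626, e3 q14026 (flp_e L216533) q17627, e3 q14027 L189265 q12823, e3 q14028 (flp_e L216573) q17634, e3 q14029 (flp_e L216587) q17635, e3 q14030 (flp_e L216617) q17637, e3 q14031 (flp_e L202762) q15916, e3 q14032 (flp_e L189309) q9779, e3 q14033 (flp_e L218646) q17879, e3 q14034 L189325 q12824, e3 q14035 L189333 q12825, e3 q14036 L189337 q9783, e3 q14037 L189347 q9785, e3 q14038 (flp_e L216699) q17651, e3 q14039 (flp_e L216707) q17652, e3 q14040 (flp_e L216721) q17654, e3 q14041 (flp_e L216729) q17655, e3 q14042 (flp_e L216737) q17656, e3 q14043 (flp_e L215799) q17531, e3 q14044 (flp_e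 L216757) q17658, e3 q14045 (flp_e L216763) q17659, e3 q14046 (flp_e L217486) q17745, e3 q14047 (flp_e L216785) q17661, e3 q14048 (flp_e L216795) q17662, e3 q14049 L218698 q17885, e3 q14050 (flp_e L189437) q9794, e3 q14051 L218710 q17886, e3 q14052 (flp_e L189455) q9795, e3 q14053 (flp_e L218734) q17888, e3 q14054 L189477 q9797, e3 q14055 (flp_e L216847) q17669, e3 q14056 L218752 q17890, e3 q14057 (flp_e L216887) q17673, e3 q14058 (flp_e L189505) q9805, e3 q14059 (flp_e L218766) q17891, e3 q14060 L210115 q16833, e3 q14061 (flp_e L212867) q17194, e3 q14062 (flp_e L212939) q17202, e3 q14063 L211895 q17061, e3 q14064 L218782 q17893, e3 q14065 (flp_e L189551) q9809, e3 q14066 (flp_e L217350) q17730, e3 q14067 (flp_e L216930) q17677, e3 q14068 (flp_e L216942) q17678, e3 q14069 (flp_e L189577) q9812, e3 q14070 L189589 q9814, e3 q14071 L218804 q17895, e3 q14072 L218816 q17896, e3 q14073 (flp_e L189613) q9816, e3 q14074 (flp_e L218840) q17898, e3 q14075 (flp_e L189631) q9817, e3 q14076 (flp_e L218850) q17899, e3 q14077 L189643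 q9820, e3 q14078 (flp_e L217048) q17693, e3 q14079 (flp_e L217055) q17694, trivial⟩ (by decide +kernel)

theorem ce_e_220 : ∀ r, r < 64 → sm ge (Qf (14080 + r)) = Qf (tab Gen.e (14080 + r)) :=
  edges_tab (sm ge) Qf (tab Gen.e) 14080 [(14080, 17695), (14081, 17697), (14082, 17698), (14083, 17699), (14084, 12827), (14085, 17706), (14086, 17707), (14087, 17709), (14088, 15686), (14089, 9832), (14090, 17903), (14091, 12828), (14092, 12829), (14093, 9836), (14094, 9838), (14095, 17721), (14096, 17722), (14097, 17724), (14098, 17725), (14099, 17727), (14100, 17527), (14101, 17728), (14102, 17731), (14103, 17908), (14104, 9847), (14105, 17909), (14106, 9848), (14107, 17911), (14108, 9850), (14109, 17912), (14110, 17741), (14111, 9858), (14112, 17913), (14113, 16840), (14114, 17270), (14115, 17150), (14116, 17278), (14117, 17915), (14118, 9862), (14119, 17746), (14120, 9865), (14121, 9867), (14122, 17917), (14123, 17918), (14124, 9869), (14125, 17920), (14126, 9870), (14127, 17921), (14128, 9873), (14129, 17761), (14130,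 17762), (14131, 17763), (14132, 17765), (14133, 17794), (14134, 17766), (14135, 17771), (14136, 17778), (14137, 17927), (14138, 9885), (14139, 17928), (14140, 16719), (14141, 9887), (14142, 9888), (14143, 16718)]
    ⟨e3 q14080 (flp_e L217062) q17695, e3 q14081 (flp_e L217086) q17697, e3 q14082 (flp_e L217092) q17698, e3 q14083 (flp_e L217106) q17699, e3 q14084 L189697 q12827, e3 q14085 (flp_e L217146) q17706, e3 q14086 (flp_e L217160) q17707, e3 q14087 (flp_e L217190) q17709, e3 q14088 (flp_e L201115) q15686, e3 q14089 (flp_e L189741) q9832, e3 q14090 (flp_e L218878) q17903, e3 q14091 L189757 q12828, e3 q14092 L189765 q12829, e3 q14093 L189769 q9836, e3 q14094 L189779 q9838, e3 q14095 (flp_e L217272) q17721, e3 q14096 (flp_e L217280) q17722, e3 q14097 (flp_e L217294) q17724, e3 q14098 (flp_e L217302) q17725, e3 q14099 (flp_e L217322) q17727, e3 q14100 (flp_e L215765) q17527, e3 q14101 (flp_e L217328) q17728, e3 q14102 (flp_e L217362) q17731, e3 q14103 L218920 q17908, e3 q14104 (flp_e L189869) q9847, e3 q14105 L218932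 q17909, e3 q14106 (flp_e L189887) q9848, e3 q14107 (flp_e L218956) q17911, e3 q14108 L189909 q9850, e3 q14109 L218962 q17912, e3 q14110 (flp_e L217450) q17741, e3 q14111 (flp_e L189929) q9858, e3 q14112 (flp_e L218976) q17913, e3 q14113 L210167 q16840, e3 q14114 (flp_e L213369) q17270, e3 q14115 L212539 q17150, e3 q14116 (flp_e L213441) q17278, e3 q14117 L218994 q17915, e3 q14118 (flp_e L189991) q9862, e3 q14119 (flp_e L217498) q17746, e3 q14120 (flp_e L190003) q9865, e3 q14121 L190015 q9867, e3 q14122 L219016 q17917, e3 q14123 L219028 q17918, e3 q14124 (flp_e L190039) q9869, e3 q14125 (flp_e L219052) q17920, e3 q14126 (flp_e L190057) q9870, e3 q14127 (flp_e L219062) q17921, e3 q14128 L190069 q9873, e3 q14129 (flp_e L217604) q17761, e3 q14130 (flp_e L217611) q17762, e3 q14131 (flp_e L217618) q17763, e3 q14132 (flp_e L217642) q17765, e3 q14133 (flp_e L217835) q17794, e3 q14134 (flp_e L217648) q17766, e3 q14135 (flp_e L217686) q17771, e3 q14136 (flp_e L217734) q17778, e3 q14137 L219108 q17927, e3 q14138 (flp_e L190123)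 q9885, e3 q14139 (flp_e L219122) q17928, e3 q14140 (flp_e L209149) q16719, e3 q14141 L190155 q9887, e3 q14142 L190164 q9888, e3 q14143 (flp_e L209137) q16718, trivial⟩ (by decide +kernel)

theorem ce_e_221 : ∀ r, r < 64 → sm ge (Qf (14144 + r)) = Qf (tab Gen.e (14144 + r)) :=
  edges_tab (sm ge) Qf (tab Gen.e) 14144 [(14144, 17786), (14145, 17789), (14146, 17930), (14147, 9892), (14148, 16725), (14149, 17931), (14150, 9894), (14151, 9895), (14152, 16724), (14153, 9896), (14154, 9898), (14155, 14643), (14156, 9901), (14157, 17933), (14158, 9904), (14159, 14978), (14160, 13992), (14161, 17935), (14162, 14948), (14163, 14932), (14164, 17936), (14165, 9906), (14166, 17937), (14167, 17938), (14168, 9908), (14169, 17939), (14170, 9910), (14171, 9911), (14172, 17940), (14173, 12462), (14174, 9913), (14175, 9915), (14176, 14673), (14177, 9918), (14178, 17943), (14179, 9921), (14180, 14930), (14181, 14011), (14182, 17945), (14183, 14981), (14184, 14996), (14185, 17946), (14186, 9923), (14187, 17947), (14188, 17948), (14189,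 9925), (14190, 17949), (14191, 9927), (14192, 9928), (14193, 17950), (14194, 12496), (14195, 17952), (14196, 10294), (14197, 17954), (14198, 10296), (14199, 17956), (14200, 10870), (14201, 10871), (14202, 10873), (14203, 17961), (14204, 10878), (14205, 10879), (14206, 10881), (14207, 15930)]
    ⟨e3 q14144 (flp_e L217775) q17786, e3 q14145 (flp_e L217799) q17789, e3 q14146 L219138 q17930, e3 q14147 (flp_e L190196) q9892, e3 q14148 (flp_e L209207) q16725, e3 q14149 (flp_e L219152) q17931, e3 q14150 L190226 q9894, e3 q14151 L190234 q9895, e3 q14152 (flp_e L209195) q16724, e3 q14153 (flp_e L190249) q9896, e3 q14154 L190265 q9898, e3 q14155 (flp_e L193593) q14643, e3 q14156 L190277 q9901, e3 q14157 (flp_e L219162) q17933, e3 q14158 L190295 q9904, e3 q14159 (flp_e L196518) q14978, e3 q14160 L190303 q13992, e3 q14161 L219178 q17935, e3 q14162 (flp_e L196218) q14948, e3 q14163 (flp_e L196113) q14932, e3 q14164 L219188 q17936, e3 q14165 (flp_e L190333) q9906, e3 q14166 (flp_e L219206) q17937, e3 q14167 L219212 q17938, e3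 q14168 (flp_e L190363) q9908, e3 q14169 (flp_e L219228) q17939, e3 q14170 L190385 q9910, e3 q14171 L190392 q9911, e3 q14172 (flp_e L219240) q17940, e3 q14173 L190410 q12462, e3 q14174 (flp_e L190415) q9913, e3 q14175 L190431 q9915, e3 q14176 (flp_e L193809) q14673, e3 q14177 L190443 q9918, e3 q14178 (flp_e L219264) q17943, e3 q14179 L190461 q9921, e3 q14180 (flp_e L196103) q14930, e3 q14181 L190469 q14011, e3 q14182 L219282 q17945, e3 q14183 (flp_e L196536) q14981, e3 q14184 (flp_e L196643) q14996, e3 q14185 L219292 q17946, e3 q14186 (flp_e L190529) q9923, e3 q14187 (flp_e L219310) q17947, e3 q14188 L219316 q17948, e3 q14189 (flp_e L190559) q9925, e3 q14190 (flp_e L219332) q17949, e3 q14191 L190579 q9927, e3 q14192 L190587 q9928, e3 q14193 (flp_e L219344) q17950, e3 q14194 L190606 q12496, e3 q14195 L219362 q17952, e3 q14196 L190623 q10294, e3 q14197 L219382 q17954, e3 q14198 L190637 q10296, e3 q14199 L219402 q17956, e3 q14200 L190649 q10870, e3 q14201 L190655 q10871, e3 q14202 L190665 q10873, e3 q14203 L219434 q17961,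 e3 q14204 L190679 q10878, e3 q14205 L190685 q10879, e3 q14206 L190695 q10881, e3 q14207 (flp_e L202896) q15930, trivial⟩ (by decide +kernel)

theorem ce_e_222 : ∀ r, r < 64 → sm ge (Qf (14208 + r)) = Qf (tab Gen.e (14208 + r)) :=
  edges_tab (sm ge) Qf (tab Gen.e) 14208 [(14208, 15700), (14209, 10904), (14210, 10905), (14211, 10906), (14212, 10907), (14213, 10914), (14214, 10915), (14215, 17975), (14216, 10917), (14217, 10918), (14218, 10919), (14219, 17981), (14220, 10921), (14221, 17984), (14222, 10925), (14223, 9960), (14224, 17986), (14225, 10930), (14226, 10931), (14227, 17992), (14228, 10935), (14229, 9966), (14230, 17994), (14231, 10940), (14232, 10941), (14233, 15034), (14234, 18003), (14235, 15046), (14236, 18007), (14237, 10969), (14238, 10970), (14239, 10971), (14240, 18013), (14241, 10974), (14242, 10975), (14243, 10976), (14244, 18019), (14245, 13800), (14246, 10978), (14247, 10979), (14248, 10980), (14249, 10981), (14250, 9986), (14251, 10985), (14252, 10987), (14253, 10988), (14254, 18030), (14255,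 10990), (14256, 10991), (14257, 10993), (14258, 18039), (14259, 10995), (14260, 15737), (14261, 9995), (14262, 18043), (14263, 10999), (14264, 11000), (14265, 13849), (14266, 11002), (14267, 11003), (14268, 11004), (14269, 11005), (14270, 10003), (14271, 11009)]
    ⟨e3 q14208 (flp_e L201237) q15700, e3 q14209 L190705 q10904, e3 q14210 L190714 q10905, e3 q14211 L190719 q10906, e3 q14212 L190728 q10907, e3 q14213 L190735 q10914, e3 q14214 L190742 q10915, e3 q14215 L219528 q17975, e3 q14216 L190754 q10917, e3 q14217 L190762 q10918, e3 q14218 L190769 q10919, e3 q14219 L219568 q17981, e3 q14220 L190781 q10921, e3 q14221 L219590 q17984, e3 q14222 L190795 q10925, e3 q14223 (flp_e L190799) q9960, e3 q14224 (flp_e L219610) q17986, e3 q14225 L190809 q10930, e3 q14226 L190817 q10931, e3 q14227 L219658 q17992, e3 q14228 L190831 q10935, e3 q14229 (flp_e L190835) q9966, e3 q14230 (flp_e L219678) q17994, e3 q14231 L190845 q10940, e3 q14232 L190853 q10941, e3 q14233 (flp_e L196937) q15034, e3 q14234 L219724 q18003, e3 q14235 (flp_e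 L197015) q15046, e3 q14236 L219750 q18007, e3 q14237 L190881 q10969, e3 q14238 L190892 q10970, e3 q14239 L190900 q10971, e3 q14240 L219787 q18013, e3 q14241 L190912 q10974, e3 q14242 L190923 q10975, e3 q14243 L190931 q10976, e3 q14244 L219822 q18019, e3 q14245 L190941 q13800, e3 q14246 L190947 q10978, e3 q14247 L190953 q10979, e3 q14248 L190959 q10980, e3 q14249 L190971 q10981, e3 q14250 (flp_e L190977) q9986, e3 q14251 L190997 q10985, e3 q14252 L191007 q10987, e3 q14253 L191017 q10988, e3 q14254 L219892 q18030, e3 q14255 L191031 q10990, e3 q14256 L191035 q10991, e3 q14257 L191041 q10993, e3 q14258 L219960 q18039, e3 q14259 L191053 q10995, e3 q14260 (flp_e L201464) q15737, e3 q14261 (flp_e L191059) q9995, e3 q14262 (flp_e L219990) q18043, e3 q14263 L191069 q10999, e3 q14264 L191079 q11000, e3 q14265 L191085 q13849, e3 q14266 L191091 q11002, e3 q14267 L191097 q11003, e3 q14268 L191103 q11004, e3 q14269 L191115 q11005, e3 q14270 (flp_e L191121) q10003, e3 q14271 L191141 q11009, trivial⟩ (by decide +kernel)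

theorem ce_e_223 : ∀ r, r < 64 → sm ge (Qf (14272 + r)) = Qf (tab Gen.e (14272 + r)) :=
  edges_tab (sm ge) Qf (tab Gen.e) 14272 [(14272, 11011), (14273, 11012), (14274, 18059), (14275, 11014), (14276, 11015), (14277, 11017), (14278, 18068), (14279, 11019), (14280, 15962), (14281, 10012), (14282, 18072), (14283, 11023), (14284, 11024), (14285, 12662), (14286, 10927), (14287, 10302), (14288, 16873), (14289, 10017), (14290, 16892), (14291, 18084), (14292, 10305), (14293, 10306), (14294, 10307), (14295, 15036), (14296, 10309), (14297, 15035), (14298, 10023), (14299, 10947), (14300, 18091), (14301, 10313), (14302, 18093), (14303, 10026), (14304, 14650), (14305, 11292), (14306, 10028), (14307, 18096), (14308, 15153), (14309, 14638), (14310, 10031), (14311, 18101), (14312, 10033), (14313, 18105), (14314, 18106), (14315, 16675), (14316, 10317), (14317, 10318), (14318, 10319), (14319, 10320), (14320, 10321), (14321, 10322), (14322, 10323), (14323, 12757), (14324, 12791), (14325, 16626), (14326, 10326), (14327, 10327),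 (14328, 18122), (14329, 10329), (14330, 10330), (14331, 10331), (14332, 11998), (14333, 12755), (14334, 10333), (14335, 16868)]
    ⟨e3 q14272 L191151 q11011, e3 q14273 L191161 q11012, e3 q14274 L220108 q18059, e3 q14275 L191175 q11014, e3 q14276 L191179 q11015, e3 q14277 L191185 q11017, e3 q14278 L220176 q18068, e3 q14279 L191197 q11019, e3 q14280 (flp_e L203101) q15962, e3 q14281 (flp_e L191203) q10012, e3 q14282 (flp_e L220206) q18072, e3 q14283 L191213 q11023, e3 q14284 L191223 q11024, e3 q14285 L191233 q12662, e3 q14286 L191239 q10927, e3 q14287 L191247 q10302, e3 q14288 (flp_e L210471) q16873, e3 q14289 (flp_e L191253) q10017, e3 q14290 L210619 q16892, e3 q14291 (flp_e L220298) q18084, e3 q14292 L191273 q10305, e3 q14293 L191281 q10306, e3 q14294 L191291 q10307, e3 q14295 L196957 q15036, e3 q14296 L191305 q10309, e3 q14297 L196947 q15035, e3 q14298 (flp_e L191311) q10023, e3 q14299 L191325 q10947, e3 q14300 (flp_e L220354) q18091, e3 q14301 L191339 q10313, e3 q14302 L220368 q18093, e3 q14303 (flp_e L191349)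 q10026, e3 q14304 (flp_e L193641) q14650, e3 q14305 (flp_e L191369) q11292, e3 q14306 (flp_e L191371) q10028, e3 q14307 (flp_e L220392) q18096, e3 q14308 (flp_e L197719) q15153, e3 q14309 L193557 q14638, e3 q14310 L191395 q10031, e3 q14311 (flp_e L220420) q18101, e3 q14312 L191403 q10033, e3 q14313 (flp_e L220434) q18105, e3 q14314 (flp_e L220440) q18106, e3 q14315 (flp_e L208779) q16675, e3 q14316 L191417 q10317, e3 q14317 L191427 q10318, e3 q14318 L191439 q10319, e3 q14319 L191451 q10320, e3 q14320 L191459 q10321, e3 q14321 L191467 q10322, e3 q14322 L191475 q10323, e3 q14323 L191485 q12757, e3 q14324 L191489 q12791, e3 q14325 (flp_e L208299) q16626, e3 q14326 L191501 q10326, e3 q14327 L191511 q10327, e3 q14328 L220572 q18122, e3 q14329 L191525 q10329, e3 q14330 L191531 q10330, e3 q14331 L191539 q10331, e3 q14332 L191547 q11998, e3 q14333 L191559 q12755, e3 q14334 L191565 q10333, e3 q14335 (flp_e L210415) q16868, trivial⟩ (by decide +kernel)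

theorem ce_e_224 : ∀ r, r < 64 → sm ge (Qf (14336 + r)) = Qf (tab Gen.e (14336 + r)) :=
  edges_tab (sm ge) Qf (tab Gen.e) 14336 [(14336, 12114), (14337, 10047), (14338, 16850), (14339, 10337), (14340, 12691), (14341, 10937), (14342, 10339), (14343, 16880), (14344, 10051), (14345, 18138), (14346, 16903), (14347, 10342), (14348, 10343), (14349, 10344), (14350, 15048), (14351, 10346), (14352, 15047), (14353, 10057), (14354, 18145), (14355, 10959), (14356, 10350), (14357, 18147), (14358, 10060), (14359, 14679), (14360, 11451), (14361, 10062), (14362, 18150), (14363, 15187), (14364, 14667), (14365, 10065), (14366, 18155), (14367, 10067), (14368, 18159), (14369, 18160), (14370, 16657), (14371, 10354), (14372, 10355), (14373, 10356), (14374, 10357), (14375, 10358), (14376, 10359), (14377, 10360), (14378, 12753), (14379, 12766), (14380, 16603), (14381, 10363), (14382, 10328), (14383, 18120), (14384, 10364), (14385, 10365), (14386, 10366), (14387, 12188), (14388, 12751), (14389, 10368), (14390, 16859), (14391, 11908),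 (14392, 10081), (14393, 16848), (14394, 10372), (14395, 11104), (14396, 11111), (14397, 11112), (14398, 11115), (14399, 18186)]
    ⟨e3 q14336 L191583 q12114, e3 q14337 L191595 q10047, e3 q14338 (flp_e L210238) q16850, e3 q14339 L191607 q10337, e3 q14340 L191616 q12691, e3 q14341 L191622 q10937, e3 q14342 L191630 q10339, e3 q14343 (flp_e L210525) q16880, e3 q14344 (flp_e L191636) q10051, e3 q14345 (flp_e L220728) q18138, e3 q14346 L210715 q16903, e3 q14347 L191654 q10342, e3 q14348 L191662 q10343, e3 q14349 L191672 q10344, e3 q14350 L197035 q15048, e3 q14351 L191688 q10346, e3 q14352 L197025 q15047, e3 q14353 (flp_e L191694) q10057, e3 q14354 (flp_e L220784) q18145, e3 q14355 L191712 q10959, e3 q14356 L191722 q10350, e3 q14357 L220798 q18147, e3 q14358 (flp_e L191732) q10060, e3 q14359 (flp_e L193857) q14679, e3 q14360 (flp_e L191750) q11451, e3 q14361 (flp_e L191752) q10062, e3 q14362 (flp_e L220822) q18150, e3 q14363 (flp_e L197899) q15187, e3 q14364 L193769 q14667, e3 q14365 L191776 q10065, e3 q14366 (flp_e L220850)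 q18155, e3 q14367 L191784 q10067, e3 q14368 (flp_e L220864) q18159, e3 q14369 (flp_e L220870) q18160, e3 q14370 (flp_e L208606) q16657, e3 q14371 L191798 q10354, e3 q14372 L191808 q10355, e3 q14373 L191820 q10356, e3 q14374 L191832 q10357, e3 q14375 L191840 q10358, e3 q14376 L191848 q10359, e3 q14377 L191856 q10360, e3 q14378 L191866 q12753, e3 q14379 L191870 q12766, e3 q14380 (flp_e L208102) q16603, e3 q14381 L191882 q10363, e3 q14382 L191892 q10328, e3 q14383 (flp_e L220566) q18120, e3 q14384 L191906 q10364, e3 q14385 L191914 q10365, e3 q14386 L191922 q10366, e3 q14387 L191928 q12188, e3 q14388 L191940 q12751, e3 q14389 L191946 q10368, e3 q14390 (flp_e L210327) q16859, e3 q14391 L191964 q11908, e3 q14392 L191976 q10081, e3 q14393 (flp_e L210217) q16848, e3 q14394 L191988 q10372, e3 q14395 L191993 q11104, e3 q14396 L192001 q11111, e3 q14397 L192009 q11112, e3 q14398 L192017 q11115, e3 q14399 L221098 q18186, trivial⟩ (by decide +kernel)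

theorem ce_e_225 : ∀ r, r < 64 → sm ge (Qf (14400 + r)) = Qf (tab Gen.e (14400 + r)) :=
  edges_tab (sm ge) Qf (tab Gen.e) 14400 [(14400, 11118), (14401, 14403), (14402, 10091), (14403, 14401), (14404, 18190), (14405, 14445), (14406, 10093), (14407, 18194), (14408, 10095), (14409, 18198), (14410, 18199), (14411, 15152), (14412, 11130), (14413, 11131), (14414, 11132), (14415, 11150), (14416, 11151), (14417, 11174), (14418, 11181), (14419, 11182), (14420, 11185), (14421, 18211), (14422, 11187), (14423, 14426), (14424, 10110), (14425, 18215), (14426, 14423), (14427, 14494), (14428, 10112), (14429, 18219), (14430, 10114), (14431, 18223), (14432, 18224), (14433, 15186), (14434, 11199), (14435, 11200), (14436, 11201), (14437, 11219), (14438, 11220), (14439, 17340), (14440, 10374), (14441, 17522), (14442, 10125), (14443, 17562), (14444, 18237), (14445, 14405), (14446, 10127), (14447, 18242), (14448, 10129), (14449, 18246), (14450, 17711), (14451, 18247), (14452, 10379), (14453, 10380), (14454, 10382), (14455, 10136),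 (14456, 10135), (14457, 18254), (14458, 17017), (14459, 18253), (14460, 10138), (14461, 10139), (14462, 18260), (14463, 18261)]
    ⟨e3 q14400 L192031 q11118, e3 q14401 (flp_e L192052) q14403, e3 q14402 (flp_e L192040) q10091, e3 q14403 L192052 q14401, e3 q14404 (flp_e L221132) q18190, e3 q14405 (flp_e L192329) q14445, e3 q14406 L192069 q10093, e3 q14407 (flp_e L221157) q18194, e3 q14408 L192077 q10095, e3 q14409 (flp_e L221171) q18198, e3 q14410 (flp_e L221180) q18199, e3 q14411 (flp_e L197711) q15152, e3 q14412 L192101 q11130, e3 q14413 L192111 q11131, e3 q14414 L192117 q11132, e3 q14415 L192125 q11150, e3 q14416 L192133 q11151, e3 q14417 L192139 q11174, e3 q14418 L192147 q11181, e3 q14419 L192155 q11182, e3 q14420 L192163 q11185, e3 q14421 L221267 q18211, e3 q14422 L192177 q11187, e3 q14423 (flp_e L192201) q14426, e3 q14424 (flp_e L192186) q10110, e3 q14425 (flp_e L221301) q18215, e3 q14426 L192201 q14423, e3 q14427 (flp_e L192639) q14494, e3 q14428 L192215 q10112, e3 q14429 (flp_e L221326) q18219, e3 q14430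 L192223 q10114, e3 q14431 (flp_e L221340) q18223, e3 q14432 (flp_e L221349) q18224, e3 q14433 (flp_e L197891) q15186, e3 q14434 L192247 q11199, e3 q14435 L192257 q11200, e3 q14436 L192263 q11201, e3 q14437 L192271 q11219, e3 q14438 L192279 q11220, e3 q14439 (flp_e L213828) q17340, e3 q14440 L192299 q10374, e3 q14441 (flp_e L215721) q17522, e3 q14442 (flp_e L192307) q10125, e3 q14443 (flp_e L216069) q17562, e3 q14444 (flp_e L221454) q18237, e3 q14445 L192329 q14405, e3 q14446 L192337 q10127, e3 q14447 (flp_e L221492) q18242, e3 q14448 L192349 q10129, e3 q14449 (flp_e L221512) q18246, e3 q14450 (flp_e L217214) q17711, e3 q14451 (flp_e L221522) q18247, e3 q14452 L192367 q10379, e3 q14453 L192377 q10380, e3 q14454 L192385 q10382, e3 q14455 L192399 q10136, e3 q14456 L192407 q10135, e3 q14457 (flp_e L221588) q18254, e3 q14458 (flp_e L211581) q17017, e3 q14459 (flp_e L221582) q18253, e3 q14460 L192427 q10138, e3 q14461 L192435 q10139, e3 q14462 (flp_e L221636) q18260, e3 q14463 (flp_e L221640) q18261, trivial⟩ (by decide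 +kernel)

theorem ce_e_226 : ∀ r, r < 64 → sm ge (Qf (14464 + r)) = Qf (tab Gen.e (14464 + r)) :=
  edges_tab (sm ge) Qf (tab Gen.e) 14464 [(14464, 18262), (14465, 10142), (14466, 10143), (14467, 10145), (14468, 18269), (14469, 18270), (14470, 18279), (14471, 14839), (14472, 14835), (14473, 14523), (14474, 14522), (14475, 18272), (14476, 10393), (14477, 10394), (14478, 10395), (14479, 10396), (14480, 10397), (14481, 10398), (14482, 10399), (14483, 10400), (14484, 10402), (14485, 10403), (14486, 10404), (14487, 10406), (14488, 17368), (14489, 10408), (14490, 17524), (14491, 10158), (14492, 18296), (14493, 17590), (14494, 14427), (14495, 10160), (14496, 18301), (14497, 10162), (14498, 18305), (14499, 17639), (14500, 18251), (14501, 10413), (14502, 10414), (14503, 10416), (14504, 10169), (14505, 10168), (14506, 18311), (14507, 17109), (14508, 18310), (14509, 10171), (14510, 10172), (14511, 18317), (14512, 18318), (14513, 18319), (14514, 10175), (14515, 10176), (14516, 10178), (14517, 18326), (14518, 18327), (14519,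 18336), (14520, 14808), (14521, 14803), (14522, 14474), (14523, 14473), (14524, 18329), (14525, 10427), (14526, 10428), (14527, 10429)]
    ⟨e3 q14464 (flp_e L221646) q18262, e3 q14465 L192451 q10142, e3 q14466 L192457 q10143, e3 q14467 L192465 q10145, e3 q14468 (flp_e L221698) q18269, e3 q14469 (flp_e L221706) q18270, e3 q14470 L221754 q18279, e3 q14471 (flp_e L195275) q14839, e3 q14472 (flp_e L195251) q14835, e3 q14473 (flp_e L192817) q14523, e3 q14474 (flp_e L192809) q14522, e3 q14475 (flp_e L221718) q18272, e3 q14476 L192505 q10393, e3 q14477 L192509 q10394, e3 q14478 L192515 q10395, e3 q14479 L192523 q10396, e3 q14480 L192531 q10397, e3 q14481 L192537 q10398, e3 q14482 L192547 q10399, e3 q14483 L192555 q10400, e3 q14484 L192565 q10402, e3 q14485 L192571 q10403, e3 q14486 L192579 q10404, e3 q14487 L192589 q10406, e3 q14488 (flp_e L214133) q17368, e3 q14489 L192609 q10408, e3 q14490 (flp_e L215737) q17524, e3 q14491 (flp_e L192617) q10158, e3 q14492 (flp_e L221910) q18296, e3 q14493 (flp_e L216267) q17590, e3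 q14494 L192639 q14427, e3 q14495 L192647 q10160, e3 q14496 (flp_e L221948) q18301, e3 q14497 L192659 q10162, e3 q14498 (flp_e L221970) q18305, e3 q14499 (flp_e L216641) q17639, e3 q14500 (flp_e L221556) q18251, e3 q14501 L192677 q10413, e3 q14502 L192687 q10414, e3 q14503 L192695 q10416, e3 q14504 L192709 q10169, e3 q14505 L192717 q10168, e3 q14506 (flp_e L222024) q18311, e3 q14507 (flp_e L212259) q17109, e3 q14508 (flp_e L222018) q18310, e3 q14509 L192737 q10171, e3 q14510 L192745 q10172, e3 q14511 (flp_e L222072) q18317, e3 q14512 (flp_e L222076) q18318, e3 q14513 (flp_e L222082) q18319, e3 q14514 L192761 q10175, e3 q14515 L192767 q10176, e3 q14516 L192775 q10178, e3 q14517 (flp_e L222128) q18326, e3 q14518 (flp_e L222136) q18327, e3 q14519 L222190 q18336, e3 q14520 (flp_e L194997) q14808, e3 q14521 (flp_e L194965) q14803, e3 q14522 L192809 q14474, e3 q14523 L192817 q14473, e3 q14524 (flp_e L222152) q18329, e3 q14525 L192827 q10427, e3 q14526 L192831 q10428, e3 q14527 L192837 q10429, trivial⟩ (by decide +kernel)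

theorem ce_e_227 : ∀ r, r < 64 → sm ge (Qf (14528 + r)) = Qf (tab Gen.e (14528 + r)) :=
  edges_tab (sm ge) Qf (tab Gen.e) 14528 [(14528, 10430), (14529, 10431), (14530, 10432), (14531, 10433), (14532, 10434), (14533, 10436), (14534, 10437), (14535, 10438), (14536, 10440), (14537, 13108), (14538, 10441), (14539, 18078), (14540, 18352), (14541, 10189), (14542, 18354), (14543, 18355), (14544, 10191), (14545, 10192), (14546, 18357), (14547, 10447), (14548, 10448), (14549, 10195), (14550, 18361), (14551, 10197), (14552, 10198), (14553, 18364), (14554, 18365), (14555, 18366), (14556, 10201), (14557, 10202), (14558, 18371), (14559, 18372), (14560, 10459), (14561, 10460), (14562, 10461), (14563, 10462), (14564, 10465), (14565, 10466), (14566, 10467), (14567, 10213), (14568, 10214), (14569, 18388), (14570, 10217), (14571, 10218), (14572, 18383), (14573, 17201), (14574, 18384), (14575, 18385), (14576, 18401), (14577, 17199), (14578, 18403), (14579, 10216), (14580, 18404), (14581, 18390), (14582, 18391), (14583, 18392),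 (14584, 10486), (14585, 10488), (14586, 10489), (14587, 10490), (14588, 13166), (14589, 10491), (14590, 18132), (14591, 18414)]
    ⟨e3 q14528 L192845 q10430, e3 q14529 L192853 q10431, e3 q14530 L192859 q10432, e3 q14531 L192869 q10433, e3 q14532 L192877 q10434, e3 q14533 L192887 q10436, e3 q14534 L192893 q10437, e3 q14535 L192901 q10438, e3 q14536 L192911 q10440, e3 q14537 L192925 q13108, e3 q14538 L192931 q10441, e3 q14539 (flp_e L220246) q18078, e3 q14540 L222377 q18352, e3 q14541 (flp_e L192947) q10189, e3 q14542 (flp_e L222403) q18354, e3 q14543 (flp_e L222415) q18355, e3 q14544 L192971 q10191, e3 q14545 L192979 q10192, e3 q14546 (flp_e L222423) q18357, e3 q14547 L192991 q10447, e3 q14548 L192999 q10448, e3 q14549 (flp_e L193003) q10195, e3 q14550 (flp_e L222455) q18361, e3 q14551 L193017 q10197, e3 q14552 L193031 q10198, e3 q14553 (flp_e L222481) q18364, e3 q14554 (flp_e L222487) q18365, e3 q14555 (flp_e L222497) q18366, e3 q14556 L193053 q10201, e3 q14557 L193063 q10202, e3 q14558 (flp_e L222513) q18371,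 e3 q14559 (flp_e L222912) q18372, e3 q14560 L193077 q10459, e3 q14561 L193083 q10460, e3 q14562 L193087 q10461, e3 q14563 L193091 q10462, e3 q14564 L193097 q10465, e3 q14565 L193101 q10466, e3 q14566 L193105 q10467, e3 q14567 L193113 q10213, e3 q14568 L193119 q10214, e3 q14569 L223026 q18388, e3 q14570 L193127 q10217, e3 q14571 L193135 q10218, e3 q14572 (flp_e L223006) q18383, e3 q14573 (flp_e L212927) q17201, e3 q14574 (flp_e L223012) q18384, e3 q14575 (flp_e L223016) q18385, e3 q14576 L223096 q18401, e3 q14577 (flp_e L212903) q17199, e3 q14578 L223106 q18403, e3 q14579 (flp_e L193175) q10216, e3 q14580 (flp_e L223114) q18404, e3 q14581 (flp_e L223038) q18390, e3 q14582 (flp_e L223048) q18391, e3 q14583 (flp_e L223056) q18392, e3 q14584 L193205 q10486, e3 q14585 L193211 q10488, e3 q14586 L193219 q10489, e3 q14587 L193227 q10490, e3 q14588 L193239 q13166, e3 q14589 L193245 q10491, e3 q14590 (flp_e L220676) q18132, e3 q14591 L223191 q18414, trivial⟩ (by decide +kernel)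

theorem ce_e_228 : ∀ r, r < 64 → sm ge (Qf (14592 + r)) = Qf (tab Gen.e (14592 + r)) :=
  edges_tab (sm ge) Qf (tab Gen.e) 14592 [(14592, 10224), (14593, 18417), (14594, 18416), (14595, 10226), (14596, 10227), (14597, 18419), (14598, 10497), (14599, 10498), (14600, 10230), (14601, 18423), (14602, 10233), (14603, 10232), (14604, 18427), (14605, 18428), (14606, 18426), (14607, 10236), (14608, 10237), (14609, 18433), (14610, 18434), (14611, 10509), (14612, 10510), (14613, 10511), (14614, 10512), (14615, 10515), (14616, 10516), (14617, 10517), (14618, 10248), (14619, 10249), (14620, 18450), (14621, 10252), (14622, 10253), (14623, 18445), (14624, 18446), (14625, 17277), (14626, 18447), (14627, 17275), (14628, 10251), (14629, 18462), (14630, 18452), (14631, 18453), (14632, 18454), (14633, 10533), (14634, 10534), (14635, 10535), (14636, 10536), (14637, 12671), (14638, 14309), (14639, 10259), (14640, 16528), (14641, 18471), (14642, 10262), (14643, 14155), (14644, 18180), (14645, 11907), (14646, 11909), (14647, 10265),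 (14648, 16912), (14649, 18478), (14650, 14304), (14651, 10267), (14652, 10268), (14653, 18482), (14654, 18484), (14655, 18485)]
    ⟨e3 q14592 (flp_e L193261) q10224, e3 q14593 (flp_e L223229) q18417, e3 q14594 (flp_e L223217) q18416, e3 q14595 L193285 q10226, e3 q14596 L193293 q10227, e3 q14597 (flp_e L223237) q18419, e3 q14598 L193305 q10497, e3 q14599 L193313 q10498, e3 q14600 (flp_e L193317) q10230, e3 q14601 (flp_e L223269) q18423, e3 q14602 L193331 q10233, e3 q14603 L193345 q10232, e3 q14604 (flp_e L223301) q18427, e3 q14605 (flp_e L223311) q18428, e3 q14606 (flp_e L223295) q18426, e3 q14607 L193369 q10236, e3 q14608 L193379 q10237, e3 q14609 (flp_e L223327) q18433, e3 q14610 (flp_e L223333) q18434, e3 q14611 L193393 q10509, e3 q14612 L193397 q10510, e3 q14613 L193401 q10511, e3 q14614 L193407 q10512, e3 q14615 L193413 q10515, e3 q14616 L193417 q10516, e3 q14617 L193421 q10517, e3 q14618 L193429 q10248, e3 q14619 L193435 q10249, e3 q14620 L223457 q18450, e3 q14621 L193443 q10252, e3 q14622 L193451 q10253,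 e3 q14623 (flp_e L223433) q18445, e3 q14624 (flp_e L223439) q18446, e3 q14625 (flp_e L213429) q17277, e3 q14626 (flp_e L223443) q18447, e3 q14627 (flp_e L213405) q17275, e3 q14628 (flp_e L193479) q10251, e3 q14629 (flp_e L223531) q18462, e3 q14630 (flp_e L223473) q18452, e3 q14631 (flp_e L223485) q18453, e3 q14632 (flp_e L223493) q18454, e3 q14633 L193509 q10533, e3 q14634 L193515 q10534, e3 q14635 L193523 q10535, e3 q14636 L193531 q10536, e3 q14637 L193543 q12671, e3 q14638 (flp_e L193557) q14309, e3 q14639 (flp_e L193559) q10259, e3 q14640 (flp_e L207473) q16528, e3 q14641 (flp_e L223605) q18471, e3 q14642 L193587 q10262, e3 q14643 L193593 q14155, e3 q14644 (flp_e L221060) q18180, e3 q14645 L193607 q11907, e3 q14646 L193613 q11909, e3 q14647 (flp_e L193617) q10265, e3 q14648 (flp_e L210777) q16912, e3 q14649 (flp_e L223661) q18478, e3 q14650 L193641 q14304, e3 q14651 L193647 q10267, e3 q14652 L193653 q10268, e3 q14653 (flp_e L223697) q18482, e3 q14654 (flp_e L223717) q18484, e3 q14655 (flp_e L223723) q18485, trivial⟩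 (by decide +kernel)

theorem ce_e_229 : ∀ r, r < 64 → sm ge (Qf (14656 + r)) = Qf (tab Gen.e (14656 + r)) :=
  edges_tab (sm ge) Qf (tab Gen.e) 14656 [(14656, 18486), (14657, 10271), (14658, 10272), (14659, 15490), (14660, 18491), (14661, 12219), (14662, 12221), (14663, 11913), (14664, 11914), (14665, 11915), (14666, 12700), (14667, 14364), (14668, 10277), (14669, 18499), (14670, 16563), (14671, 10279), (14672, 18128), (14673, 14176), (14674, 11990), (14675, 12115), (14676, 10283), (14677, 18506), (14678, 16924), (14679, 14359), (14680, 10285), (14681, 10286), (14682, 18512), (14683, 18513), (14684, 18510), (14685, 18514), (14686, 10289), (14687, 10290), (14688, 18519), (14689, 15386), (14690, 12119), (14691, 12120), (14692, 12121), (14693, 12278), (14694, 12280), (14695, 10293), (14696, 18526), (14697, 10295), (14698, 18527), (14699, 17529), (14700, 17533), (14701, 15108), (14702, 18080), (14703, 10304), (14704, 18528), (14705, 10308), (14706, 15114), (14707, 10884), (14708, 10312), (14709, 10316), (14710, 18112),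 (14711, 18113), (14712, 18115), (14713, 12485), (14714, 18123), (14715, 18124), (14716, 18125), (14717, 18127), (14718, 16851), (14719, 18131)]
    ⟨e3 q14656 (flp_e L223735) q18486, e3 q14657 L193687 q10271, e3 q14658 L193697 q10272, e3 q14659 L202707 q15490, e3 q14660 (flp_e L223757) q18491, e3 q14661 L193715 q12219, e3 q14662 L193721 q12221, e3 q14663 L193727 q11913, e3 q14664 L193735 q11914, e3 q14665 L193743 q11915, e3 q14666 L193755 q12700, e3 q14667 (flp_e L193769) q14364, e3 q14668 (flp_e L193771) q10277, e3 q14669 (flp_e L223887) q18499, e3 q14670 (flp_e L207758) q16563, e3 q14671 L193799 q10279, e3 q14672 (flp_e L220646) q18128, e3 q14673 L193809 q14176, e3 q14674 L193819 q11990, e3 q14675 L193825 q12115, e3 q14676 (flp_e L193829) q10283, e3 q14677 (flp_e L223943) q18506, e3 q14678 (flp_e L210861) q16924, e3 q14679 L193857 q14359, e3 q14680 L193863 q10285, e3 q14681 L193869 q10286, e3 q14682 (flp_e L223997) q18512, e3 q14683 (flp_e L224007) q18513, e3 q14684 (flp_e L223979) q18510, e3 q14685 (flp_e L224017)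 q18514, e3 q14686 L193903 q10289, e3 q14687 L193913 q10290, e3 q14688 (flp_e L224039) q18519, e3 q14689 L201060 q15386, e3 q14690 L193931 q12119, e3 q14691 L193939 q12120, e3 q14692 L193947 q12121, e3 q14693 L193953 q12278, e3 q14694 L193959 q12280, e3 q14695 (flp_e L193963) q10293, e3 q14696 (flp_e L224105) q18526, e3 q14697 (flp_e L193981) q10295, e3 q14698 (flp_e L224115) q18527, e3 q14699 (flp_e L215781) q17529, e3 q14700 (flp_e L215815) q17533, e3 q14701 (flp_e L197369) q15108, e3 q14702 (flp_e L220264) q18080, e3 q14703 L194045 q10304, e3 q14704 (flp_e L224121) q18528, e3 q14705 (flp_e L194055) q10308, e3 q14706 (flp_e L197417) q15114, e3 q14707 L194079 q10884, e3 q14708 L194087 q10312, e3 q14709 L194093 q10316, e3 q14710 (flp_e L220478) q18112, e3 q14711 (flp_e L220496) q18113, e3 q14712 (flp_e L220516) q18115, e3 q14713 L194127 q12485, e3 q14714 (flp_e L220584) q18123, e3 q14715 (flp_e L220596) q18124, e3 q14716 (flp_e L220606) q18125, e3 q14717 (flp_e L220634) q18127, e3 q14718 (flp_e L210244) q16851, e3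 q14719 (flp_e L220668) q18131, trivial⟩ (by decide +kernel)

theorem ce_e_230 : ∀ r, r < 64 → sm ge (Qf (14720 + r)) = Qf (tab Gen.e (14720 + r)) :=
  edges_tab (sm ge) Qf (tab Gen.e) 14720 [(14720, 15120), (14721, 18134), (14722, 10341), (14723, 18530), (14724, 10345), (14725, 15126), (14726, 10891), (14727, 10349), (14728, 10353), (14729, 18166), (14730, 18167), (14731, 18169), (14732, 12450), (14733, 18175), (14734, 18176), (14735, 18177), (14736, 18179), (14737, 16849), (14738, 18183), (14739, 17341), (14740, 10376), (14741, 10377), (14742, 10378), (14743, 18532), (14744, 18533), (14745, 10853), (14746, 12962), (14747, 11680), (14748, 10390), (14749, 10391), (14750, 10392), (14751, 18170), (14752, 12746), (14753, 18289), (14754, 10577), (14755, 18290), (14756, 12749), (14757, 16560), (14758, 18291), (14759, 18292), (14760, 17369), (14761, 10410), (14762, 10411), (14763, 10412), (14764, 18536), (14765, 18537), (14766, 10855), (14767, 13039), (14768, 11681), (14769, 10424), (14770, 10425), (14771, 10426), (14772,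 18116), (14773, 12737), (14774, 18346), (14775, 10627), (14776, 18347), (14777, 12740), (14778, 16595), (14779, 18348), (14780, 18349), (14781, 10443), (14782, 10446), (14783, 18360)]
    ⟨e3 q14720 (flp_e L197469) q15120, e3 q14721 (flp_e L220694) q18134, e3 q14722 L194207 q10341, e3 q14723 (flp_e L224139) q18530, e3 q14724 (flp_e L194217) q10345, e3 q14725 (flp_e L197517) q15126, e3 q14726 L194241 q10891, e3 q14727 L194249 q10349, e3 q14728 L194255 q10353, e3 q14729 (flp_e L220908) q18166, e3 q14730 (flp_e L220926) q18167, e3 q14731 (flp_e L220946) q18169, e3 q14732 L194289 q12450, e3 q14733 (flp_e L220998) q18175, e3 q14734 (flp_e L221010) q18176, e3 q14735 (flp_e L221020) q18177, e3 q14736 (flp_e L221048) q18179, e3 q14737 (flp_e L210223) q16849, e3 q14738 (flp_e L221082) q18183, e3 q14739 (flp_e L213838) q17341, e3 q14740 L194368 q10376, e3 q14741 L194374 q10377, e3 q14742 L194382 q10378, e3 q14743 (flp_e L224159) q18532, e3 q14744 (flp_e L224173) q18533, e3 q14745 L194409 q10853, e3 q14746 L194424 q12962,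 e3 q14747 L194434 q11680, e3 q14748 L194440 q10390, e3 q14749 L194452 q10391, e3 q14750 L194458 q10392, e3 q14751 (flp_e L220954) q18170, e3 q14752 L194478 q12746, e3 q14753 (flp_e L221838) q18289, e3 q14754 L194496 q10577, e3 q14755 (flp_e L221850) q18290, e3 q14756 L194520 q12749, e3 q14757 (flp_e L207728) q16560, e3 q14758 (flp_e L221862) q18291, e3 q14759 (flp_e L221868) q18292, e3 q14760 (flp_e L214143) q17369, e3 q14761 L194561 q10410, e3 q14762 L194567 q10411, e3 q14763 L194575 q10412, e3 q14764 (flp_e L224205) q18536, e3 q14765 (flp_e L224219) q18537, e3 q14766 L194602 q10855, e3 q14767 L194617 q13039, e3 q14768 L194627 q11681, e3 q14769 L194633 q10424, e3 q14770 L194645 q10425, e3 q14771 L194651 q10426, e3 q14772 (flp_e L220524) q18116, e3 q14773 L194671 q12737, e3 q14774 (flp_e L222323) q18346, e3 q14775 L194689 q10627, e3 q14776 (flp_e L222335) q18347, e3 q14777 L194713 q12740, e3 q14778 (flp_e L208017) q16595, e3 q14779 (flp_e L222347) q18348, e3 q14780 (flp_e L222353) q18349, e3 q14781 L194751 q10443,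 e3 q14782 L194757 q10446, e3 q14783 (flp_e L222441) q18360, trivial⟩ (by decide +kernel)

theorem ce_e_231 : ∀ r, r < 64 → sm ge (Qf (14784 + r)) = Qf (tab Gen.e (14784 + r)) :=
  edges_tab (sm ge) Qf (tab Gen.e) 14784 [(14784, 10451), (14785, 10455), (14786, 10456), (14787, 10457), (14788, 10458), (14789, 15906), (14790, 18540), (14791, 18541), (14792, 18378), (14793, 10464), (14794, 18542), (14795, 18543), (14796, 18379), (14797, 18380), (14798, 18381), (14799, 18382), (14800, 11264), (14801, 10475), (14802, 10476), (14803, 14521), (14804, 10477), (14805, 10482), (14806, 10483), (14807, 10484), (14808, 14520), (14809, 10485), (14810, 18440), (14811, 18545), (14812, 18410), (14813, 14960), (14814, 18411), (14815, 10493), (14816, 10496), (14817, 18422), (14818, 10501), (14819, 10505), (14820, 10506), (14821, 10507), (14822, 10508), (14823, 18549), (14824, 15676), (14825, 10514), (14826, 18550), (14827, 18551), (14828, 18441), (14829, 18442), (14830, 18443), (14831, 18444), (14832, 11423), (14833, 10525), (14834,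 10526), (14835, 14472), (14836, 10527), (14837, 10530), (14838, 10531), (14839, 14471), (14840, 18468), (14841, 14913), (14842, 18469), (14843, 10547), (14844, 11119), (14845, 10554), (14846, 10555), (14847, 10556)]
    ⟨e3 q14784 L194783 q10451, e3 q14785 L194791 q10455, e3 q14786 L194799 q10456, e3 q14787 L194811 q10457, e3 q14788 L194817 q10458, e3 q14789 (flp_e L202673) q15906, e3 q14790 (flp_e L224249) q18540, e3 q14791 (flp_e L224261) q18541, e3 q14792 (flp_e L222952) q18378, e3 q14793 L194863 q10464, e3 q14794 (flp_e L224273) q18542, e3 q14795 (flp_e L224285) q18543, e3 q14796 (flp_e L222962) q18379, e3 q14797 (flp_e L222972) q18380, e3 q14798 (flp_e L222982) q18381, e3 q14799 (flp_e L222996) q18382, e3 q14800 L194933 q11264, e3 q14801 L194943 q10475, e3 q14802 L194953 q10476, e3 q14803 L194965 q14521, e3 q14804 L194973 q10477, e3 q14805 L194981 q10482, e3 q14806 L194985 q10483, e3 q14807 L194989 q10484, e3 q14808 L194997 q14520, e3 q14809 L195003 q10485, e3 q14810 (flp_e L223379) q18440, e3 q14811 (flp_e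 L224299) q18545, e3 q14812 (flp_e L223159) q18410, e3 q14813 (flp_e L196333) q14960, e3 q14814 (flp_e L223171) q18411, e3 q14815 L195061 q10493, e3 q14816 L195067 q10496, e3 q14817 (flp_e L223255) q18422, e3 q14818 L195093 q10501, e3 q14819 L195103 q10505, e3 q14820 L195115 q10506, e3 q14821 L195121 q10507, e3 q14822 L195125 q10508, e3 q14823 (flp_e L224331) q18549, e3 q14824 (flp_e L201026) q15676, e3 q14825 L195149 q10514, e3 q14826 (flp_e L224341) q18550, e3 q14827 (flp_e L224353) q18551, e3 q14828 (flp_e L223389) q18441, e3 q14829 (flp_e L223401) q18442, e3 q14830 (flp_e L223409) q18443, e3 q14831 (flp_e L223423) q18444, e3 q14832 L195219 q11423, e3 q14833 L195229 q10525, e3 q14834 L195239 q10526, e3 q14835 L195251 q14472, e3 q14836 L195259 q10527, e3 q14837 L195267 q10530, e3 q14838 L195271 q10531, e3 q14839 L195275 q14471, e3 q14840 (flp_e L223569) q18468, e3 q14841 (flp_e L195932) q14913, e3 q14842 (flp_e L223581) q18469, e3 q14843 L195307 q10547, e3 q14844 L195319 q11119, e3 q14845 L195328 q10554, e3 q14846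 L195342 q10555, e3 q14847 L195352 q10556, trivial⟩ (by decide +kernel)

theorem ce_e_232 : ∀ r, r < 64 → sm ge (Qf (14848 + r)) = Qf (tab Gen.e (14848 + r)) :=
  edges_tab (sm ge) Qf (tab Gen.e) 14848 [(14848, 10553), (14849, 18556), (14850, 10563), (14851, 10565), (14852, 18557), (14853, 18559), (14854, 18560), (14855, 10564), (14856, 18525), (14857, 12123), (14858, 15673), (14859, 10572), (14860, 17000), (14861, 16774), (14862, 10575), (14863, 18563), (14864, 10578), (14865, 15903), (14866, 18564), (14867, 18565), (14868, 10580), (14869, 18567), (14870, 10582), (14871, 18568), (14872, 18569), (14873, 10586), (14874, 15868), (14875, 10590), (14876, 15634), (14877, 10602), (14878, 11188), (14879, 10608), (14880, 10609), (14881, 18570), (14882, 10615), (14883, 10617), (14884, 18571), (14885, 18573), (14886, 18574), (14887, 10616), (14888, 18497), (14889, 11917), (14890, 10623), (14891, 16976), (14892, 16769), (14893, 10625), (14894, 18577), (14895, 10628), (14896, 18578), (14897, 10629), (14898, 18580), (14899, 10631),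 (14900, 18581), (14901, 11851), (14902, 10814), (14903, 14904), (14904, 14903), (14905, 11262), (14906, 14923), (14907, 10666), (14908, 10660), (14909, 12437), (14910, 16525), (14911, 18583)]
    ⟨e3 q14848 L195364 q10553, e3 q14849 (flp_e L224387) q18556, e3 q14850 L195386 q10563, e3 q14851 L195400 q10565, e3 q14852 (flp_e L224399) q18557, e3 q14853 L224419 q18559, e3 q14854 L224425 q18560, e3 q14855 (flp_e L195426) q10564, e3 q14856 (flp_e L224097) q18525, e3 q14857 L195442 q12123, e3 q14858 (flp_e L200992) q15673, e3 q14859 L195462 q10572, e3 q14860 (flp_e L211423) q17000, e3 q14861 (flp_e L209641) q16774, e3 q14862 (flp_e L195478) q10575, e3 q14863 L224441 q18563, e3 q14864 (flp_e L195494) q10578, e3 q14865 (flp_e L202639) q15903, e3 q14866 L224451 q18564, e3 q14867 L224461 q18565, e3 q14868 (flp_e L195534) q10580, e3 q14869 (flp_e L224481) q18567, e3 q14870 L195548 q10582, e3 q14871 (flp_e L224489) q18568, e3 q14872 L224495 q18569, e3 q14873 (flp_e L195572) q10586, e3 q14874 (flp_e L202382) q15868, e3 q14875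 (flp_e L195590) q10590, e3 q14876 (flp_e L200741) q15634, e3 q14877 L195616 q10602, e3 q14878 L195630 q11188, e3 q14879 L195639 q10608, e3 q14880 L195649 q10609, e3 q14881 (flp_e L224509) q18570, e3 q14882 L195671 q10615, e3 q14883 L195685 q10617, e3 q14884 (flp_e L224521) q18571, e3 q14885 L224541 q18573, e3 q14886 L224547 q18574, e3 q14887 (flp_e L195711) q10616, e3 q14888 (flp_e L223865) q18497, e3 q14889 L195729 q11917, e3 q14890 L195741 q10623, e3 q14891 (flp_e L211238) q16976, e3 q14892 (flp_e L209583) q16769, e3 q14893 (flp_e L195757) q10625, e3 q14894 L224563 q18577, e3 q14895 (flp_e L195773) q10628, e3 q14896 L224573 q18578, e3 q14897 (flp_e L195791) q10629, e3 q14898 (flp_e L224593) q18580, e3 q14899 L195805 q10631, e3 q14900 (flp_e L224601) q18581, e3 q14901 L195825 q11851, e3 q14902 L195831 q10814, e3 q14903 (flp_e L195848) q14904, e3 q14904 L195848 q14903, e3 q14905 L195860 q11262, e3 q14906 (flp_e L196037) q14923, e3 q14907 L195880 q10666, e3 q14908 L195886 q10660, e3 q14909 L195894 q12437, e3 q14910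 (flp_e L207441) q16525, e3 q14911 L224615 q18583, trivial⟩ (by decide +kernel)

theorem ce_e_233 : ∀ r, r < 64 → sm ge (Qf (14912 + r)) = Qf (tab Gen.e (14912 + r)) :=
  edges_tab (sm ge) Qf (tab Gen.e) 14912 [(14912, 16523), (14913, 14841), (14914, 16645), (14915, 16646), (14916, 10693), (14917, 13556), (14918, 17504), (14919, 10691), (14920, 17507), (14921, 10688), (14922, 10690), (14923, 14906), (14924, 10686), (14925, 10819), (14926, 10706), (14927, 10708), (14928, 10697), (14929, 10843), (14930, 14180), (14931, 18588), (14932, 14163), (14933, 17934), (14934, 10707), (14935, 17764), (14936, 18587), (14937, 15017), (14938, 10711), (14939, 16078), (14940, 10714), (14941, 12393), (14942, 10716), (14943, 10719), (14944, 10720), (14945, 10721), (14946, 16561), (14947, 16600), (14948, 14162), (14949, 12063), (14950, 10835), (14951, 14952), (14952, 14951), (14953, 11424), (14954, 14971), (14955, 10748), (14956, 10742), (14957, 16418), (14958, 18594), (14959, 16416), (14960, 14813), (14961, 16663), (14962, 16664), (14963,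 10777), (14964, 12474), (14965, 13583), (14966, 17499), (14967, 10775), (14968, 17502), (14969, 10772), (14970, 10774), (14971, 14954), (14972, 10770), (14973, 10840), (14974, 10788), (14975, 10791)]
    ⟨e3 q14912 L207427 q16523, e3 q14913 L195932 q14841, e3 q14914 (flp_e L208487) q16645, e3 q14915 (flp_e L208501) q16646, e3 q14916 L195960 q10693, e3 q14917 L195972 q13556, e3 q14918 (flp_e L215550) q17504, e3 q14919 L195984 q10691, e3 q14920 (flp_e L215582) q17507, e3 q14921 L196005 q10688, e3 q14922 L196019 q10690, e3 q14923 L196037 q14906, e3 q14924 (flp_e L196043) q10686, e3 q14925 L196053 q10819, e3 q14926 L196061 q10706, e3 q14927 L196077 q10708, e3 q14928 (flp_e L196081) q10697, e3 q14929 L196091 q10843, e3 q14930 L196103 q14180, e3 q14931 L224676 q18588, e3 q14932 L196113 q14163, e3 q14933 (flp_e L219174) q17934, e3 q14934 (flp_e L196119) q10707, e3 q14935 (flp_e L217628) q17764, e3 q14936 (flp_e L224666) q18587, e3 q14937 (flp_e L196822) q15017, e3 q14938 L196146 q10711, e3 q14939 (flp_e L203841) q16078,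 e3 q14940 (flp_e L196153) q10714, e3 q14941 L196167 q12393, e3 q14942 L196175 q10716, e3 q14943 L196183 q10719, e3 q14944 L196189 q10720, e3 q14945 L196201 q10721, e3 q14946 (flp_e L207736) q16561, e3 q14947 (flp_e L208075) q16600, e3 q14948 L196218 q14162, e3 q14949 L196232 q12063, e3 q14950 L196238 q10835, e3 q14951 (flp_e L196257) q14952, e3 q14952 L196257 q14951, e3 q14953 L196269 q11424, e3 q14954 (flp_e L196450) q14971, e3 q14955 L196289 q10748, e3 q14956 L196297 q10742, e3 q14957 (flp_e L206504) q16418, e3 q14958 L224719 q18594, e3 q14959 L206490 q16416, e3 q14960 L196333 q14813, e3 q14961 (flp_e L208660) q16663, e3 q14962 (flp_e L208674) q16664, e3 q14963 L196359 q10777, e3 q14964 L196369 q12474, e3 q14965 L196383 q13583, e3 q14966 (flp_e L215500) q17499, e3 q14967 L196397 q10775, e3 q14968 (flp_e L215532) q17502, e3 q14969 L196418 q10772, e3 q14970 L196432 q10774, e3 q14971 L196450 q14954, e3 q14972 (flp_e L196456) q10770, e3 q14973 L196466 q10840, e3 q14974 L196474 q10788, e3 q14975 L196490 q10791, trivial⟩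 (by decide +kernel)

theorem ce_e_234 : ∀ r, r < 64 → sm ge (Qf (14976 + r)) = Qf (tab Gen.e (14976 + r)) :=
  edges_tab (sm ge) Qf (tab Gen.e) 14976 [(14976, 10781), (14977, 10822), (14978, 14159), (14979, 18597), (14980, 17944), (14981, 14183), (14982, 10789), (14983, 17696), (14984, 15004), (14985, 18586), (14986, 10793), (14987, 16002), (14988, 10795), (14989, 12347), (14990, 10797), (14991, 10800), (14992, 10801), (14993, 10802), (14994, 16596), (14995, 16623), (14996, 14184), (14997, 10809), (14998, 11850), (14999, 16236), (15000, 18593), (15001, 18602), (15002, 10813), (15003, 16197), (15004, 14984), (15005, 18582), (15006, 10821), (15007, 16648), (15008, 13513), (15009, 18607), (15010, 13509), (15011, 10830), (15012, 12064), (15013, 16206), (15014, 18608), (15015, 10833), (15016, 16202), (15017, 14937), (15018, 10842), (15019, 16666), (15020, 13537), (15021, 18611), (15022, 13533), (15023, 16908), (15024, 10848), (15025, 18612), (15026, 11684), (15027, 16910), (15028, 10851), (15029, 18614), (15030, 11687),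 (15031, 17018), (15032, 17108), (15033, 13719), (15034, 14233), (15035, 14297), (15036, 14295), (15037, 10869), (15038, 18621), (15039, 17958)]
    ⟨e3 q14976 (flp_e L196494) q10781, e3 q14977 L196504 q10822, e3 q14978 L196518 q14159, e3 q14979 L224752 q18597, e3 q14980 (flp_e L219278) q17944, e3 q14981 L196536 q14183, e3 q14982 (flp_e L196540) q10789, e3 q14983 (flp_e L217072) q17696, e3 q14984 (flp_e L196712) q15004, e3 q14985 (flp_e L224656) q18586, e3 q14986 L196565 q10793, e3 q14987 (flp_e L203341) q16002, e3 q14988 (flp_e L196572) q10795, e3 q14989 L196586 q12347, e3 q14990 L196594 q10797, e3 q14991 L196604 q10800, e3 q14992 L196610 q10801, e3 q14993 L196624 q10802, e3 q14994 (flp_e L208025) q16596, e3 q14995 (flp_e L208272) q16623, e3 q14996 L196643 q14184, e3 q14997 L196655 q10809, e3 q14998 L196667 q11850, e3 q14999 (flp_e L204950) q16236, e3 q15000 (flp_e L224713) q18593, e3 q15001 (flp_e L224789) q18602, e3 q15002 L196697 q10813, e3 q15003 (flp_e L204638) q16197, e3 q15004 L196712 q14984, e3 q15005 (flp_e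 L224611) q18582, e3 q15006 L196731 q10821, e3 q15007 (flp_e L208527) q16648, e3 q15008 L196745 q13513, e3 q15009 L224845 q18607, e3 q15010 L196759 q13509, e3 q15011 L196767 q10830, e3 q15012 L196779 q12064, e3 q15013 (flp_e L204716) q16206, e3 q15014 (flp_e L224851) q18608, e3 q15015 L196805 q10833, e3 q15016 (flp_e L204679) q16202, e3 q15017 L196822 q14937, e3 q15018 L196833 q10842, e3 q15019 (flp_e L208700) q16666, e3 q15020 L196847 q13537, e3 q15021 L224879 q18611, e3 q15022 L196861 q13533, e3 q15023 (flp_e L210747) q16908, e3 q15024 (flp_e L196873) q10848, e3 q15025 (flp_e L224885) q18612, e3 q15026 L196885 q11684, e3 q15027 (flp_e L210763) q16910, e3 q15028 (flp_e L196899) q10851, e3 q15029 (flp_e L224905) q18614, e3 q15030 L196911 q11687, e3 q15031 (flp_e L211591) q17018, e3 q15032 (flp_e L212247) q17108, e3 q15033 L196931 q13719, e3 q15034 L196937 q14233, e3 q15035 (flp_e L196947) q14297, e3 q15036 (flp_e L196957) q14295, e3 q15037 (flp_e L196959) q10869, e3 q15038 (flp_e L224975) q18621, e3 q15039 (flp_e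 L219418) q17958, trivial⟩ (by decide +kernel)

theorem ce_e_235 : ∀ r, r < 64 → sm ge (Qf (15040 + r)) = Qf (tab Gen.e (15040 + r)) :=
  edges_tab (sm ge) Qf (tab Gen.e) 15040 [(15040, 17959), (15041, 15366), (15042, 15383), (15043, 15363), (15044, 15190), (15045, 13720), (15046, 14235), (15047, 14352), (15048, 14350), (15049, 10877), (15050, 18636), (15051, 17963), (15052, 17964), (15053, 15471), (15054, 15487), (15055, 15467), (15056, 15156), (15057, 17187), (15058, 18647), (15059, 18649), (15060, 10887), (15061, 18651), (15062, 17263), (15063, 18653), (15064, 18655), (15065, 10894), (15066, 18657), (15067, 15067), (15068, 15068), (15069, 15069), (15070, 18081), (15071, 17967), (15072, 17968), (15073, 18135), (15074, 17970), (15075, 17971), (15076, 15076), (15077, 15077), (15078, 18666), (15079, 17973), (15080, 10916), (15081, 18668), (15082, 17977), (15083, 18671), (15084, 17979), (15085, 10920), (15086, 18673), (15087, 17983), (15088, 10924), (15089, 18676), (15090, 17003), (15091, 18079), (15092, 10929), (15093,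 18681), (15094, 18090), (15095, 17989), (15096, 17990), (15097, 17991), (15098, 10934), (15099, 18687), (15100, 16978), (15101, 18133), (15102, 10939), (15103, 18692)]
    ⟨e3 q15040 (flp_e L219424) q17959, e3 q15041 (flp_e L199050) q15366, e3 q15042 (flp_e L199124) q15383, e3 q15043 (flp_e L199032) q15363, e3 q15044 (flp_e L197921) q15190, e3 q15045 L197009 q13720, e3 q15046 L197015 q14235, e3 q15047 (flp_e L197025) q14352, e3 q15048 (flp_e L197035) q14350, e3 q15049 (flp_e L197037) q10877, e3 q15050 (flp_e L225083) q18636, e3 q15051 (flp_e L219450) q17963, e3 q15052 (flp_e L219456) q17964, e3 q15053 (flp_e L199624) q15471, e3 q15054 (flp_e L199720) q15487, e3 q15055 (flp_e L199598) q15467, e3 q15056 (flp_e L197741) q15156, e3 q15057 (flp_e L212813) q17187, e3 q15058 L225147 q18647, e3 q15059 L225161 q18649, e3 q15060 (flp_e L197095) q10887, e3 q15061 (flp_e L225177) q18651, e3 q15062 (flp_e L213315) q17263, e3 q15063 L225189 q18653, e3 q15064 L225203 q18655, e3 q15065 (flp_e L197117) q10894, e3 q15066 (flp_e L225219)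 q18657, e3 q15067 L197130 q15067, e3 q15068 L197139 q15068, e3 q15069 L197145 q15069, e3 q15070 (flp_e L220274) q18081, e3 q15071 (flp_e L219477) q17967, e3 q15072 (flp_e L219484) q17968, e3 q15073 (flp_e L220704) q18135, e3 q15074 (flp_e L219498) q17970, e3 q15075 (flp_e L219505) q17971, e3 q15076 L197179 q15076, e3 q15077 L197190 q15077, e3 q15078 L225263 q18666, e3 q15079 (flp_e L219522) q17973, e3 q15080 (flp_e L197210) q10916, e3 q15081 (flp_e L225273) q18668, e3 q15082 (flp_e L219542) q17977, e3 q15083 L225291 q18671, e3 q15084 (flp_e L219562) q17979, e3 q15085 (flp_e L197243) q10920, e3 q15086 (flp_e L225301) q18673, e3 q15087 (flp_e L219582) q17983, e3 q15088 (flp_e L197261) q10924, e3 q15089 (flp_e L225327) q18676, e3 q15090 (flp_e L211449) q17003, e3 q15091 (flp_e L220258) q18079, e3 q15092 L197289 q10929, e3 q15093 (flp_e L225351) q18681, e3 q15094 (flp_e L220344) q18090, e3 q15095 (flp_e L219628) q17989, e3 q15096 (flp_e L219632) q17990, e3 q15097 (flp_e L219636) q17991, e3 q15098 (flp_e L197311) q10934,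 e3 q15099 (flp_e L225381) q18687, e3 q15100 (flp_e L211252) q16978, e3 q15101 (flp_e L220688) q18133, e3 q15102 L197339 q10939, e3 q15103 (flp_e L225405) q18692, trivial⟩ (by decide +kernel)

theorem ce_e_236 : ∀ r, r < 64 → sm ge (Qf (15104 + r)) = Qf (tab Gen.e (15104 + r)) :=
  edges_tab (sm ge) Qf (tab Gen.e) 15104 [(15104, 18144), (15105, 17997), (15106, 17998), (15107, 17999), (15108, 14701), (15109, 16746), (15110, 11712), (15111, 11353), (15112, 18092), (15113, 16277), (15114, 14706), (15115, 10950), (15116, 10951), (15117, 16578), (15118, 16571), (15119, 16572), (15120, 14720), (15121, 16749), (15122, 11721), (15123, 11512), (15124, 18146), (15125, 16432), (15126, 14725), (15127, 10962), (15128, 10963), (15129, 16543), (15130, 16536), (15131, 16537), (15132, 15132), (15133, 15133), (15134, 18716), (15135, 18008), (15136, 18009), (15137, 18010), (15138, 18724), (15139, 18726), (15140, 10972), (15141, 18727), (15142, 18014), (15143, 18015), (15144, 18016), (15145, 18735), (15146, 18737), (15147, 10977), (15148,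 18023), (15149, 18024), (15150, 18025), (15151, 16966), (15152, 14411), (15153, 14308), (15154, 18259), (15155, 18026), (15156, 15056), (15157, 18027), (15158, 18749), (15159, 18751), (15160, 10989), (15161, 18753), (15162, 18032), (15163, 18033), (15164, 15428), (15165, 18035), (15166, 18762), (15167, 18037)]
    ⟨e3 q15104 (flp_e L220774) q18144, e3 q15105 (flp_e L219696) q17997, e3 q15106 (flp_e L219700) q17998, e3 q15107 (flp_e L219704) q17999, e3 q15108 L197369 q14701, e3 q15109 (flp_e L209383) q16746, e3 q15110 L197383 q11712, e3 q15111 L197395 q11353, e3 q15112 (flp_e L220364) q18092, e3 q15113 (flp_e L205306) q16277, e3 q15114 L197417 q14706, e3 q15115 L197425 q10950, e3 q15116 L197438 q10951, e3 q15117 (flp_e L207894) q16578, e3 q15118 (flp_e L207818) q16571, e3 q15119 (flp_e L207836) q16572, e3 q15120 L197469 q14720, e3 q15121 (flp_e L209405) q16749, e3 q15122 L197483 q11721, e3 q15123 L197495 q11512, e3 q15124 (flp_e L220794) q18146, e3 q15125 (flp_e L206627) q16432, e3 q15126 L197517 q14725, e3 q15127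 L197525 q10962, e3 q15128 L197538 q10963, e3 q15129 (flp_e L207609) q16543, e3 q15130 (flp_e L207533) q16536, e3 q15131 (flp_e L207551) q16537, e3 q15132 L197565 q15132, e3 q15133 L197572 q15133, e3 q15134 L225585 q18716, e3 q15135 (flp_e L219763) q18008, e3 q15136 (flp_e L219771) q18009, e3 q15137 (flp_e L219777) q18010, e3 q15138 L225657 q18724, e3 q15139 L225671 q18726, e3 q15140 (flp_e L197627) q10972, e3 q15141 L225681 q18727, e3 q15142 (flp_e L219796) q18014, e3 q15143 (flp_e L219806) q18015, e3 q15144 (flp_e L219812) q18016, e3 q15145 L225757 q18735, e3 q15146 L225771 q18737, e3 q15147 (flp_e L197675) q10977, e3 q15148 (flp_e L219850) q18023, e3 q15149 (flp_e L219856) q18024, e3 q15150 (flp_e L219864) q18025, e3 q15151 (flp_e L211161) q16966, e3 q15152 L197711 q14411, e3 q15153 L197719 q14308, e3 q15154 (flp_e L221628) q18259, e3 q15155 (flp_e L219872) q18026, e3 q15156 L197741 q15056, e3 q15157 (flp_e L219878) q18027, e3 q15158 L225845 q18749, e3 q15159 L225855 q18751, e3 q15160 (flp_e L197759) q10989, e3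 q15161 (flp_e L225871) q18753, e3 q15162 (flp_e L219910) q18032, e3 q15163 (flp_e L219916) q18033, e3 q15164 (flp_e L199347) q15428, e3 q15165 (flp_e L219934) q18035, e3 q15166 L225915 q18762, e3 q15167 (flp_e L219954) q18037, trivial⟩ (by decide +kernel)

theorem ce_e_237 : ∀ r, r < 64 → sm ge (Qf (15168 + r)) = Qf (tab Gen.e (15168 + r)) :=
  edges_tab (sm ge) Qf (tab Gen.e) 15168 [(15168, 18038), (15169, 10994), (15170, 18768), (15171, 18041), (15172, 18772), (15173, 10996), (15174, 18775), (15175, 10998), (15176, 18778), (15177, 18779), (15178, 18046), (15179, 18047), (15180, 18048), (15181, 15385), (15182, 18052), (15183, 18053), (15184, 18054), (15185, 16991), (15186, 14433), (15187, 14363), (15188, 18316), (15189, 18055), (15190, 15044), (15191, 18056), (15192, 18800), (15193, 18802), (15194, 11013), (15195, 18804), (15196, 18061), (15197, 18062), (15198, 15323), (15199, 18064), (15200, 18813), (15201, 18066), (15202, 18067), (15203, 11018), (15204, 18819), (15205, 18070), (15206, 18823), (15207, 11020),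 (15208, 18826), (15209, 11022), (15210, 18829), (15211, 18830), (15212, 18075), (15213, 18076), (15214, 18077), (15215, 15489), (15216, 11732), (15217, 12922), (15218, 12582), (15219, 11035), (15220, 11036), (15221, 18843), (15222, 16575), (15223, 18847), (15224, 11037), (15225, 18849), (15226, 11740), (15227, 15697), (15228, 18852), (15229, 11742), (15230, 11743), (15231, 18856)]
    ⟨e3 q15168 (flp_e L219958) q18038, e3 q15169 (flp_e L197795) q10994, e3 q15170 (flp_e L225951) q18768, e3 q15171 (flp_e L219978) q18041, e3 q15172 L225965 q18772, e3 q15173 (flp_e L197811) q10996, e3 q15174 (flp_e L225979) q18775, e3 q15175 L197821 q10998, e3 q15176 (flp_e L225995) q18778, e3 q15177 (flp_e L226001) q18779, e3 q15178 (flp_e L220008) q18046, e3 q15179 (flp_e L220018) q18047, e3 q15180 (flp_e L220042) q18048, e3 q15181 (flp_e L199136) q15385, e3 q15182 (flp_e L220064) q18052, e3 q15183 (flp_e L220070) q18053, e3 q15184 (flp_e L220080) q18054, e3 q15185 (flp_e L211352) q16991, e3 q15186 L197891 q14433, e3 q15187 L197899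 q14363, e3 q15188 (flp_e L222064) q18316, e3 q15189 (flp_e L220088) q18055, e3 q15190 L197921 q15044, e3 q15191 (flp_e L220094) q18056, e3 q15192 L226117 q18800, e3 q15193 L226127 q18802, e3 q15194 (flp_e L197939) q11013, e3 q15195 (flp_e L226143) q18804, e3 q15196 (flp_e L220126) q18061, e3 q15197 (flp_e L220132) q18062, e3 q15198 (flp_e L198789) q15323, e3 q15199 (flp_e L220150) q18064, e3 q15200 L226187 q18813, e3 q15201 (flp_e L220166) q18066, e3 q15202 (flp_e L220174) q18067, e3 q15203 (flp_e L197975) q11018, e3 q15204 (flp_e L226223) q18819, e3 q15205 (flp_e L220194) q18070, e3 q15206 L226251 q18823, e3 q15207 (flp_e L197991) q11020, e3 q15208 (flp_e L226265) q18826, e3 q15209 L198001 q11022, e3 q15210 (flp_e L226281) q18829, e3 q15211 (flp_e L226287) q18830, e3 q15212 (flp_e L220224) q18075, e3 q15213 (flp_e L220234) q18076, e3 q15214 (flp_e L220240) q18077, e3 q15215 (flp_e L199732) q15489, e3 q15216 L198041 q11732, e3 q15217 L198053 q12922, e3 q15218 L198059 q12582, e3 q15219 L198067 q11035, e3 q15220 L198078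 q11036, e3 q15221 L226360 q18843, e3 q15222 L207870 q16575, e3 q15223 L226390 q18847, e3 q15224 (flp_e L198090) q11037, e3 q15225 (flp_e L226405) q18849, e3 q15226 L198103 q11740, e3 q15227 (flp_e L201205) q15697, e3 q15228 L226417 q18852, e3 q15229 L198119 q11742, e3 q15230 L198129 q11743, e3 q15231 L226441 q18856, trivial⟩ (by decide +kernel)

theorem ce_e_238 : ∀ r, r < 64 → sm ge (Qf (15232 + r)) = Qf (tab Gen.e (15232 + r)) :=
  edges_tab (sm ge) Qf (tab Gen.e) 15232 [(15232, 11042), (15233, 16180), (15234, 18858), (15235, 11043), (15236, 18860), (15237, 11045), (15238, 18862), (15239, 11749), (15240, 11750), (15241, 16167), (15242, 11752), (15243, 16169), (15244, 11048), (15245, 18869), (15246, 17095), (15247, 11755), (15248, 17211), (15249, 11051), (15250, 18873), (15251, 11053), (15252, 18875), (15253, 11759), (15254, 11760), (15255, 11055), (15256, 18880), (15257, 15735), (15258, 11057), (15259, 18883), (15260, 18884), (15261, 11059), (15262, 11060), (15263, 18889), (15264, 18890), (15265, 18891), (15266,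 11767), (15267, 11768), (15268, 11769), (15269, 11775), (15270, 12938), (15271, 12589), (15272, 11073), (15273, 11074), (15274, 18898), (15275, 16540), (15276, 18902), (15277, 11075), (15278, 18904), (15279, 11783), (15280, 15926), (15281, 18907), (15282, 11785), (15283, 11786), (15284, 18911), (15285, 11080), (15286, 16166), (15287, 18913), (15288, 11081), (15289, 18915), (15290, 11083), (15291, 18917), (15292, 11792), (15293, 11793), (15294, 16152), (15295, 11795)]
    ⟨e3 q15232 (flp_e L198141) q11042, e3 q15233 L222779 q16180, e3 q15234 L226461 q18858, e3 q15235 (flp_e L198159) q11043, e3 q15236 (flp_e L226481) q18860, e3 q15237 L198173 q11045, e3 q15238 (flp_e L226489) q18862, e3 q15239 L198181 q11749, e3 q15240 L198187 q11750, e3 q15241 (flp_e L204406) q16167, e3 q15242 L198206 q11752, e3 q15243 (flp_e L204427) q16169, e3 q15244 (flp_e L198218) q11048, e3 q15245 (flp_e L226545) q18869, e3 q15246 (flp_e L212151) q17095, e3 q15247 L198236 q11755, e3 q15248 L212989 q17211, e3 q15249 (flp_e L198244) q11051, e3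 q15250 (flp_e L226571) q18873, e3 q15251 L198268 q11053, e3 q15252 (flp_e L226583) q18875, e3 q15253 L198280 q11759, e3 q15254 L198286 q11760, e3 q15255 (flp_e L198310) q11055, e3 q15256 (flp_e L226635) q18880, e3 q15257 (flp_e L201450) q15735, e3 q15258 L198334 q11057, e3 q15259 (flp_e L226651) q18883, e3 q15260 (flp_e L226661) q18884, e3 q15261 L198350 q11059, e3 q15262 L198359 q11060, e3 q15263 (flp_e L226689) q18889, e3 q15264 (flp_e L226696) q18890, e3 q15265 (flp_e L226702) q18891, e3 q15266 L198376 q11767, e3 q15267 L198386 q11768, e3 q15268 L198392 q11769, e3 q15269 L198398 q11775, e3 q15270 L198410 q12938, e3 q15271 L198416 q12589, e3 q15272 L198424 q11073, e3 q15273 L198435 q11074, e3 q15274 L226753 q18898, e3 q15275 L207583 q16540, e3 q15276 L226789 q18902, e3 q15277 (flp_e L198449) q11075, e3 q15278 (flp_e L226814) q18904, e3 q15279 L198468 q11783, e3 q15280 (flp_e L202850) q15926, e3 q15281 L226828 q18907, e3 q15282 L198488 q11785, e3 q15283 L198494 q11786, e3 q15284 L226852 q18911, e3 q15285 (flp_e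 L198506) q11080, e3 q15286 L222840 q16166, e3 q15287 L226872 q18913, e3 q15288 (flp_e L198524) q11081, e3 q15289 (flp_e L226892) q18915, e3 q15290 L198538 q11083, e3 q15291 (flp_e L226900) q18917, e3 q15292 L198546 q11792, e3 q15293 L198552 q11793, e3 q15294 (flp_e L204325) q16152, e3 q15295 L198577 q11795, trivial⟩ (by decide +kernel)

theorem ce_e_239 : ∀ r, r < 64 → sm ge (Qf (15296 + r)) = Qf (tab Gen.e (15296 + r)) :=
  edges_tab (sm ge) Qf (tab Gen.e) 15296 [(15296, 16154), (15297, 11086), (15298, 17177), (15299, 18924), (15300, 11798), (15301, 17287), (15302, 11089), (15303, 18928), (15304, 11091), (15305, 18930), (15306, 11802), (15307, 11803), (15308, 11093), (15309, 18935), (15310, 15960), (15311, 11095), (15312, 18938), (15313, 18939), (15314, 11097), (15315, 11098), (15316, 18944), (15317, 18945), (15318, 18946), (15319, 11810), (15320, 11811), (15321, 11812), (15322, 13781), (15323, 15198), (15324, 18954), (15325, 13778), (15326, 17623), (15327, 11110), (15328, 15353), (15329, 18958), (15330, 18959),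 (15331, 18184), (15332, 15360), (15333, 18967), (15334, 15362), (15335, 18970), (15336, 17619), (15337, 18973), (15338, 11117), (15339, 18975), (15340, 18187), (15341, 15344), (15342, 11121), (15343, 12939), (15344, 15341), (15345, 11123), (15346, 12941), (15347, 18980), (15348, 16994), (15349, 11125), (15350, 11126), (15351, 18986), (15352, 18985), (15353, 15328), (15354, 18990), (15355, 11128), (15356, 18992), (15357, 15525), (15358, 18205), (15359, 18206)]
    ⟨e3 q15296 (flp_e L204340) q16154, e3 q15297 (flp_e L198589) q11086, e3 q15298 (flp_e L212751) q17177, e3 q15299 (flp_e L226956) q18924, e3 q15300 L198607 q11798, e3 q15301 L213491 q17287, e3 q15302 (flp_e L198615) q11089, e3 q15303 (flp_e L226982) q18928, e3 q15304 L198639 q11091, e3 q15305 (flp_e L227012) q18930, e3 q15306 L198651 q11802, e3 q15307 L198657 q11803, e3 q15308 (flp_e L198681) q11093, e3 q15309 (flp_e L227060) q18935, e3 q15310 (flp_e L203087) q15960, e3 q15311 L198705 q11095, e3 q15312 (flp_e L227076) q18938, e3 q15313 (flp_e L227086) q18939,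 e3 q15314 L198721 q11097, e3 q15315 L198732 q11098, e3 q15316 (flp_e L227124) q18944, e3 q15317 (flp_e L227133) q18945, e3 q15318 (flp_e L227141) q18946, e3 q15319 L198755 q11810, e3 q15320 L198765 q11811, e3 q15321 L198771 q11812, e3 q15322 L198779 q13781, e3 q15323 L198789 q15198, e3 q15324 L227196 q18954, e3 q15325 L198805 q13778, e3 q15326 (flp_e L216499) q17623, e3 q15327 L198819 q11110, e3 q15328 (flp_e L198972) q15353, e3 q15329 (flp_e L227222) q18958, e3 q15330 (flp_e L227232) q18959, e3 q15331 (flp_e L221090) q18184, e3 q15332 (flp_e L199010) q15360, e3 q15333 L227272 q18967, e3 q15334 (flp_e L199024) q15362, e3 q15335 L227292 q18970, e3 q15336 (flp_e L216473) q17619, e3 q15337 L227308 q18973, e3 q15338 (flp_e L198871) q11117, e3 q15339 (flp_e L227328) q18975, e3 q15340 (flp_e L221110) q18187, e3 q15341 (flp_e L198916) q15344, e3 q15342 L198893 q11121, e3 q15343 L198903 q12939, e3 q15344 L198916 q15341, e3 q15345 L198924 q11123, e3 q15346 L198934 q12941, e3 q15347 (flp_e L227365) q18980, e3 q15348 (flp_e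 L211384) q16994, e3 q15349 L198954 q11125, e3 q15350 L198959 q11126, e3 q15351 L227459 q18986, e3 q15352 (flp_e L227455) q18985, e3 q15353 L198972 q15328, e3 q15354 L227495 q18990, e3 q15355 (flp_e L198979) q11128, e3 q15356 (flp_e L227514) q18992, e3 q15357 (flp_e L199939) q15525, e3 q15358 (flp_e L221223) q18205, e3 q15359 (flp_e L221233) q18206, trivial⟩ (by decide +kernel)

theorem ce_e_240 : ∀ r, r < 64 → sm ge (Qf (15360 + r)) = Qf (tab Gen.e (15360 + r)) :=
  edges_tab (sm ge) Qf (tab Gen.e) 15360 [(15360, 15332), (15361, 18998), (15362, 15334), (15363, 15043), (15364, 15510), (15365, 19006), (15366, 15041), (15367, 15495), (15368, 15509), (15369, 19013), (15370, 15511), (15371, 15505), (15372, 11139), (15373, 19016), (15374, 11140), (15375, 19019), (15376, 11142), (15377, 19021), (15378, 15526), (15379, 15527), (15380, 15528), (15381, 18439), (15382, 15530), (15383, 15042), (15384, 16711), (15385, 15181), (15386, 14689), (15387, 11149), (15388, 19036), (15389, 18207), (15390, 18208), (15391, 15470), (15392,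 15496), (15393, 19041), (15394, 15498), (15395, 15499), (15396, 19045), (15397, 11155), (15398, 19048), (15399, 19049), (15400, 15474), (15401, 15504), (15402, 15506), (15403, 11159), (15404, 19056), (15405, 15472), (15406, 15468), (15407, 15475), (15408, 19065), (15409, 19067), (15410, 11162), (15411, 19070), (15412, 19071), (15413, 15732), (15414, 11164), (15415, 19075), (15416, 19076), (15417, 11166), (15418, 11167), (15419, 19081), (15420, 19082), (15421, 19083), (15422, 15461), (15423, 15482)]
    ⟨e3 q15360 L199010 q15332, e3 q15361 L227550 q18998, e3 q15362 L199024 q15334, e3 q15363 L199032 q15043, e3 q15364 (flp_e L199853) q15510, e3 q15365 L227596 q19006, e3 q15366 L199050 q15041, e3 q15367 (flp_e L199758) q15495, e3 q15368 (flp_e L199847) q15509, e3 q15369 L227640 q19013, e3 q15370 (flp_e L199859) q15511, e3 q15371 (flp_e L199819) q15505, e3 q15372 (flp_e L199070) q11139, e3 q15373 L227658 q19016, e3 q15374 (flp_e L199078) q11140, e3 q15375 (flp_e L227686) q19019, e3 q15376 L199094 q11142, e3 q15377 (flp_e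 L227696) q19021, e3 q15378 (flp_e L199949) q15526, e3 q15379 (flp_e L199955) q15527, e3 q15380 (flp_e L199963) q15528, e3 q15381 (flp_e L223369) q18439, e3 q15382 (flp_e L199981) q15530, e3 q15383 L199124 q15042, e3 q15384 (flp_e L209077) q16711, e3 q15385 L199136 q15181, e3 q15386 (flp_e L201060) q14689, e3 q15387 (flp_e L199142) q11149, e3 q15388 (flp_e L227794) q19036, e3 q15389 (flp_e L221239) q18207, e3 q15390 (flp_e L221251) q18208, e3 q15391 (flp_e L199616) q15470, e3 q15392 (flp_e L199766) q15496, e3 q15393 L227821 q19041, e3 q15394 (flp_e L199779) q15498, e3 q15395 (flp_e L199789) q15499, e3 q15396 L227851 q19045, e3 q15397 (flp_e L199183) q11155, e3 q15398 (flp_e L227869) q19048, e3 q15399 (flp_e L227873) q19049, e3 q15400 (flp_e L199644) q15474, e3 q15401 (flp_e L199813) q15504, e3 q15402 (flp_e L199827) q15506, e3 q15403 L199213 q11159, e3 q15404 (flp_e L227907) q19056, e3 q15405 (flp_e L199630) q15472, e3 q15406 (flp_e L199606) q15468, e3 q15407 (flp_e L199650) q15475, e3 q15408 L227967 q19065, e3 q15409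 L227975 q19067, e3 q15410 (flp_e L199236) q11162, e3 q15411 (flp_e L227999) q19070, e3 q15412 (flp_e L228004) q19071, e3 q15413 (flp_e L201432) q15732, e3 q15414 L199253 q11164, e3 q15415 (flp_e L228032) q19075, e3 q15416 (flp_e L228040) q19076, e3 q15417 L199269 q11166, e3 q15418 L199276 q11167, e3 q15419 (flp_e L228072) q19081, e3 q15420 (flp_e L228077) q19082, e3 q15421 (flp_e L228081) q19083, e3 q15422 (flp_e L199554) q15461, e3 q15423 (flp_e L199690) q15482, trivial⟩ (by decide +kernel)

theorem ce_e_241 : ∀ r, r < 64 → sm ge (Qf (15424 + r)) = Qf (tab Gen.e (15424 + r)) :=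
  edges_tab (sm ge) Qf (tab Gen.e) 15424 [(15424, 15483), (15425, 15484), (15426, 19089), (15427, 15486), (15428, 15164), (15429, 19094), (15430, 13786), (15431, 13773), (15432, 15457), (15433, 11180), (15434, 19099), (15435, 19100), (15436, 18209), (15437, 15464), (15438, 19107), (15439, 15466), (15440, 19110), (15441, 19112), (15442, 11186), (15443, 19114), (15444, 18212), (15445, 15448), (15446, 11190), (15447, 12923), (15448, 15445), (15449, 11192), (15450, 12925), (15451, 19119), (15452, 16969), (15453, 11194), (15454, 11195), (15455, 19125), (15456, 19124), (15457, 15432), (15458, 19129), (15459, 11197), (15460, 19131), (15461, 15422), (15462, 18230), (15463, 18231), (15464, 15437), (15465, 19137), (15466, 15439), (15467, 15055), (15468, 15406), (15469, 19145), (15470, 15391), (15471, 15053), (15472, 15405), (15473, 19152), (15474, 15400), (15475, 15407), (15476, 11208), (15477, 19018), (15478, 11209), (15479, 19156), (15480, 11211), (15481, 19158), (15482, 15423), (15483, 15424), (15484, 15425), (15485, 18374),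 (15486, 15427), (15487, 15054)]
    ⟨e3 q15424 (flp_e L199696) q15483, e3 q15425 (flp_e L199704) q15484, e3 q15426 L228113 q19089, e3 q15427 (flp_e L199716) q15486, e3 q15428 L199347 q15164, e3 q15429 L228144 q19094, e3 q15430 L199363 q13786, e3 q15431 L199371 q13773, e3 q15432 (flp_e L199526) q15457, e3 q15433 L199385 q11180, e3 q15434 (flp_e L228178) q19099, e3 q15435 (flp_e L228188) q19100, e3 q15436 (flp_e L221259) q18209, e3 q15437 (flp_e L199576) q15464, e3 q15438 L228224 q19107, e3 q15439 (flp_e L199590) q15466, e3 q15440 L228244 q19110, e3 q15441 L228250 q19112, e3 q15442 (flp_e L199423) q11186, e3 q15443 (flp_e L228270) q19114, e3 q15444 (flp_e L221279) q18212, e3 q15445 (flp_e L199468) q15448, e3 q15446 L199445 q11190, e3 q15447 L199455 q12923, e3 q15448 L199468 q15445, e3 q15449 L199476 q11192, e3 q15450 L199486 q12925, e3 q15451 (flp_e L228305) q19119, e3 q15452 (flp_e L211193) q16969, e3 q15453 L199508 q11194, e3 q15454 L199513 q11195, e3 q15455 L228364 q19125, e3 q15456 (flp_e L228360) q19124, e3 q15457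 L199526 q15432, e3 q15458 L228400 q19129, e3 q15459 (flp_e L199535) q11197, e3 q15460 (flp_e L228425) q19131, e3 q15461 L199554 q15422, e3 q15462 (flp_e L221392) q18230, e3 q15463 (flp_e L221402) q18231, e3 q15464 L199576 q15437, e3 q15465 L228465 q19137, e3 q15466 L199590 q15439, e3 q15467 L199598 q15055, e3 q15468 L199606 q15406, e3 q15469 L228517 q19145, e3 q15470 L199616 q15391, e3 q15471 L199624 q15053, e3 q15472 L199630 q15405, e3 q15473 L228567 q19152, e3 q15474 L199644 q15400, e3 q15475 L199650 q15407, e3 q15476 (flp_e L199654) q11208, e3 q15477 (flp_e L227680) q19018, e3 q15478 (flp_e L199664) q11209, e3 q15479 (flp_e L228599) q19156, e3 q15480 L199682 q11211, e3 q15481 (flp_e L228611) q19158, e3 q15482 L199690 q15423, e3 q15483 L199696 q15424, e3 q15484 L199704 q15425, e3 q15485 (flp_e L222924) q18374, e3 q15486 L199716 q15427, e3 q15487 L199720 q15054, trivial⟩ (by decide +kernel)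

theorem ce_e_242 : ∀ r, r < 64 → sm ge (Qf (15488 + r)) = Qf (tab Gen.e (15488 + r)) :=
  edges_tab (sm ge) Qf (tab Gen.e) 15488 [(15488, 16702), (15489, 15215), (15490, 14659), (15491, 11218), (15492, 19173), (15493, 18232), (15494, 18233), (15495, 15367), (15496, 15392), (15497, 19178), (15498, 15394), (15499, 15395), (15500, 19182), (15501, 11224), (15502, 19185), (15503, 19186), (15504, 15401), (15505, 15371), (15506, 15402), (15507, 11228), (15508, 19193), (15509, 15368), (15510, 15364), (15511, 15370), (15512, 19202), (15513, 19204), (15514, 11231), (15515, 19206), (15516, 15957), (15517, 11233), (15518, 19209), (15519, 19210), (15520, 11235), (15521, 11236), (15522, 19215), (15523, 19216), (15524, 19217), (15525, 15357), (15526, 15378), (15527, 15379), (15528, 15380), (15529, 19223), (15530, 15382), (15531, 18619), (15532, 17189), (15533, 13103), (15534, 11814), (15535, 11815), (15536, 11816), (15537, 11248), (15538, 13124), (15539, 19230), (15540, 17726), (15541, 19231), (15542, 17338), (15543, 11822),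 (15544, 11823), (15545, 11824), (15546, 11825), (15547, 11826), (15548, 11827), (15549, 19242), (15550, 11829), (15551, 11830)]
    ⟨e3 q15488 (flp_e L209005) q16702, e3 q15489 L199732 q15215, e3 q15490 (flp_e L202707) q14659, e3 q15491 (flp_e L199738) q11218, e3 q15492 (flp_e L228717) q19173, e3 q15493 (flp_e L221408) q18232, e3 q15494 (flp_e L221420) q18233, e3 q15495 L199758 q15367, e3 q15496 L199766 q15392, e3 q15497 L228748 q19178, e3 q15498 L199779 q15394, e3 q15499 L199789 q15395, e3 q15500 L228784 q19182, e3 q15501 (flp_e L199797) q11224, e3 q15502 (flp_e L228804) q19185, e3 q15503 (flp_e L228810) q19186, e3 q15504 L199813 q15401, e3 q15505 L199819 q15371, e3 q15506 L199827 q15402, e3 q15507 L199837 q11228, e3 q15508 (flp_e L228856) q19193, e3 q15509 L199847 q15368, e3 q15510 L199853 q15364, e3 q15511 L199859 q15370, e3 q15512 L228924 q19202, e3 q15513 L228936 q19204, e3 q15514 (flp_e L199870) q11231, e3 q15515 (flp_e L228958) q19206, e3 q15516 (flp_e L203069) q15957, e3 q15517 L199887 q11233, e3 q15518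 (flp_e L228991) q19209, e3 q15519 (flp_e L228999) q19210, e3 q15520 L199905 q11235, e3 q15521 L199916 q11236, e3 q15522 (flp_e L229033) q19215, e3 q15523 (flp_e L229042) q19216, e3 q15524 (flp_e L229050) q19217, e3 q15525 L199939 q15357, e3 q15526 L199949 q15378, e3 q15527 L199955 q15379, e3 q15528 L199963 q15380, e3 q15529 L229088 q19223, e3 q15530 L199981 q15382, e3 q15531 (flp_e L224949) q18619, e3 q15532 (flp_e L212831) q17189, e3 q15533 L200009 q13103, e3 q15534 L200017 q11814, e3 q15535 L200025 q11815, e3 q15536 L200037 q11816, e3 q15537 L200045 q11248, e3 q15538 L200051 q13124, e3 q15539 (flp_e L229154) q19230, e3 q15540 (flp_e L217314) q17726, e3 q15541 (flp_e L229160) q19231, e3 q15542 (flp_e L213815) q17338, e3 q15543 L200073 q11822, e3 q15544 L200083 q11823, e3 q15545 L200091 q11824, e3 q15546 L200097 q11825, e3 q15547 L200109 q11826, e3 q15548 L200115 q11827, e3 q15549 L229250 q19242, e3 q15550 L200129 q11829, e3 q15551 L200135 q11830, trivial⟩ (by decide +kernel)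

theorem ce_e_243 : ∀ r, r < 64 → sm ge (Qf (15552 + r)) = Qf (tab Gen.e (15552 + r)) :=
  edges_tab (sm ge) Qf (tab Gen.e) 15552 [(15552, 11831), (15553, 11832), (15554, 16804), (15555, 19247), (15556, 19250), (15557, 11257), (15558, 19252), (15559, 11837), (15560, 19256), (15561, 11844), (15562, 11845), (15563, 11846), (15564, 11263), (15565, 17435), (15566, 19260), (15567, 17470), (15568, 11857), (15569, 11858), (15570, 11859), (15571, 19267), (15572, 11272), (15573, 11274), (15574, 16209), (15575, 16507), (15576, 12608), (15577, 17314), (15578, 16505), (15579, 17446), (15580, 11866), (15581, 11867), (15582, 19275), (15583, 11869), (15584, 19280), (15585, 11278), (15586, 16085), (15587, 19282), (15588, 15645), (15589, 19284), (15590, 11283), (15591, 19286), (15592, 11876), (15593, 19290), (15594, 19293), (15595, 11285), (15596, 19296), (15597, 11287), (15598, 16099), (15599, 11881), (15600, 11882), (15601, 12867), (15602, 16914), (15603, 12868), (15604, 18095), (15605, 11295), (15606, 12869), (15607, 11453),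 (15608, 11460), (15609, 11301), (15610, 18509), (15611, 11686), (15612, 11306), (15613, 11307), (15614, 11308), (15615, 11309)]
    ⟨e3 q15552 L200143 q11831, e3 q15553 L200149 q11832, e3 q15554 (flp_e L209889) q16804, e3 q15555 L229292 q19247, e3 q15556 L229326 q19250, e3 q15557 (flp_e L200173) q11257, e3 q15558 (flp_e L229348) q19252, e3 q15559 L200187 q11837, e3 q15560 L229374 q19256, e3 q15561 L200197 q11844, e3 q15562 L200206 q11845, e3 q15563 L200215 q11846, e3 q15564 L200225 q11263, e3 q15565 (flp_e L214886) q17435, e3 q15566 (flp_e L229422) q19260, e3 q15567 (flp_e L215233) q17470, e3 q15568 L200247 q11857, e3 q15569 L200253 q11858, e3 q15570 L200265 q11859, e3 q15571 L229484 q19267, e3 q15572 L200281 q11272, e3 q15573 L200291 q11274, e3 q15574 (flp_e L204746) q16209, e3 q15575 (flp_e L207299) q16507, e3 q15576 L200309 q12608, e3 q15577 (flp_e L213677) q17314, e3 q15578 L207277 q16505, e3 q15579 (flp_e L215002) q17446, e3 q15580 L200333 q11866, e3 q15581 L200337 q11867, e3 q15582 L229542 q19275, e3 q15583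 L200351 q11869, e3 q15584 L229596 q19280, e3 q15585 (flp_e L200357) q11278, e3 q15586 (flp_e L203887) q16085, e3 q15587 L229618 q19282, e3 q15588 (flp_e L200831) q15645, e3 q15589 L229630 q19284, e3 q15590 (flp_e L200381) q11283, e3 q15591 (flp_e L229652) q19286, e3 q15592 L200397 q11876, e3 q15593 L229672 q19290, e3 q15594 L229710 q19293, e3 q15595 (flp_e L200409) q11285, e3 q15596 (flp_e L229738) q19296, e3 q15597 L200421 q11287, e3 q15598 (flp_e L203977) q16099, e3 q15599 L200431 q11881, e3 q15600 L200445 q11882, e3 q15601 L200457 q12867, e3 q15602 (flp_e L210799) q16914, e3 q15603 L200475 q12868, e3 q15604 (flp_e L220386) q18095, e3 q15605 L200491 q11295, e3 q15606 L200501 q12869, e3 q15607 L200509 q11453, e3 q15608 L200521 q11460, e3 q15609 L200531 q11301, e3 q15610 (flp_e L223971) q18509, e3 q15611 L200541 q11686, e3 q15612 L200551 q11306, e3 q15613 L200561 q11307, e3 q15614 L200571 q11308, e3 q15615 L200581 q11309, trivial⟩ (by decide +kernel)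

theorem ce_e_244 : ∀ r, r < 64 → sm ge (Qf (15616 + r)) = Qf (tab Gen.e (15616 + r)) :=
  edges_tab (sm ge) Qf (tab Gen.e) 15616 [(15616, 19302), (15617, 13487), (15618, 19303), (15619, 12609), (15620, 19304), (15621, 13349), (15622, 12297), (15623, 12294), (15624, 18615), (15625, 12176), (15626, 16466), (15627, 11905), (15628, 12729), (15629, 11906), (15630, 11916), (15631, 13268), (15632, 11918), (15633, 13434), (15634, 14876), (15635, 11922), (15636, 11923), (15637, 11924), (15638, 19321), (15639, 11926), (15640, 19324), (15641, 11928), (15642, 11929), (15643, 17260), (15644, 11324), (15645, 15588), (15646, 15929), (15647, 11931), (15648, 19334), (15649, 11933), (15650, 11487), (15651, 11328), (15652, 19338), (15653, 19339), (15654, 11938), (15655, 11490), (15656, 11331), (15657, 19342), (15658, 19346), (15659, 11333), (15660, 19349), (15661, 19350), (15662, 11334), (15663, 19354), (15664, 11336), (15665, 19357), (15666, 11338), (15667, 19361), (15668, 19362), (15669, 19363), (15670, 11951), (15671, 11952),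 (15672, 11953), (15673, 14858), (15674, 11955), (15675, 11956), (15676, 14824), (15677, 13595), (15678, 11958), (15679, 12277)]
    ⟨e3 q15616 (flp_e L229804) q19302, e3 q15617 L200599 q13487, e3 q15618 (flp_e L229820) q19303, e3 q15619 L200613 q12609, e3 q15620 (flp_e L229830) q19304, e3 q15621 L200625 q13349, e3 q15622 L200635 q12297, e3 q15623 L200649 q12294, e3 q15624 (flp_e L224913) q18615, e3 q15625 L200663 q12176, e3 q15626 (flp_e L206972) q16466, e3 q15627 L200679 q11905, e3 q15628 L200691 q12729, e3 q15629 L200697 q11906, e3 q15630 L200707 q11916, e3 q15631 L200719 q13268, e3 q15632 L200727 q11918, e3 q15633 L200733 q13434, e3 q15634 L200741 q14876, e3 q15635 L200751 q11922, e3 q15636 L200769 q11923, e3 q15637 L200777 q11924, e3 q15638 L230000 q19321, e3 q15639 L200795 q11926, e3 q15640 L230020 q19324, e3 q15641 L200809 q11928, e3 q15642 L200815 q11929, e3 q15643 (flp_e L213291) q17260, e3 q15644 (flp_e L200819) q11324, e3 q15645 L200831 q15588, e3 q15646 (flp_e L202884) q15929, e3 q15647 L200843 q11931,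 e3 q15648 L230108 q19334, e3 q15649 L200862 q11933, e3 q15650 L223813 q11487, e3 q15651 (flp_e L200866) q11328, e3 q15652 (flp_e L230160) q19338, e3 q15653 (flp_e L230168) q19339, e3 q15654 L200888 q11938, e3 q15655 L223799 q11490, e3 q15656 (flp_e L200896) q11331, e3 q15657 L230190 q19342, e3 q15658 L230212 q19346, e3 q15659 (flp_e L200910) q11333, e3 q15660 (flp_e L230228) q19349, e3 q15661 (flp_e L230234) q19350, e3 q15662 (flp_e L200922) q11334, e3 q15663 (flp_e L230264) q19354, e3 q15664 L200938 q11336, e3 q15665 (flp_e L230280) q19357, e3 q15666 L200946 q11338, e3 q15667 (flp_e L230296) q19361, e3 q15668 (flp_e L230306) q19362, e3 q15669 (flp_e L230314) q19363, e3 q15670 L200960 q11951, e3 q15671 L200970 q11952, e3 q15672 L200982 q11953, e3 q15673 L200992 q14858, e3 q15674 L201004 q11955, e3 q15675 L201012 q11956, e3 q15676 L201026 q14824, e3 q15677 L201034 q13595, e3 q15678 L201038 q11958, e3 q15679 (flp_e L201056) q12277, trivial⟩ (by decide +kernel)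

theorem ce_e_245 : ∀ r, r < 64 → sm ge (Qf (15680 + r)) = Qf (tab Gen.e (15680 + r)) :=
  edges_tab (sm ge) Qf (tab Gen.e) 15680 [(15680, 11345), (15681, 17506), (15682, 11960), (15683, 18523), (15684, 17467), (15685, 11349), (15686, 14088), (15687, 17505), (15688, 11963), (15689, 11964), (15690, 18700), (15691, 11860), (15692, 11965), (15693, 11521), (15694, 15923), (15695, 11966), (15696, 11967), (15697, 15227), (15698, 11968), (15699, 11357), (15700, 14208), (15701, 15879), (15702, 11970), (15703, 11971), (15704, 11972), (15705, 11361), (15706, 19389), (15707, 15934), (15708, 11974), (15709, 11975), (15710, 11976), (15711, 19394), (15712, 19395), (15713, 11979), (15714, 11367), (15715, 19397), (15716, 19398), (15717, 11982), (15718, 19401), (15719, 11370), (15720, 19405), (15721, 19406), (15722, 11372), (15723, 11373), (15724, 16814), (15725, 19410), (15726, 19411), (15727, 11991), (15728, 19415), (15729, 11377), (15730, 19418), (15731, 15989), (15732, 15413), (15733, 11379), (15734, 17807), (15735, 15257),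 (15736, 16823), (15737, 14260), (15738, 11999), (15739, 19425), (15740, 11384), (15741, 19428), (15742, 19430), (15743, 11385)]
    ⟨e3 q15680 (flp_e L201064) q11345, e3 q15681 (flp_e L215576) q17506, e3 q15682 L201086 q11960, e3 q15683 (flp_e L224079) q18523, e3 q15684 (flp_e L215197) q17467, e3 q15685 L201107 q11349, e3 q15686 L201115 q14088, e3 q15687 (flp_e L215564) q17505, e3 q15688 L201133 q11963, e3 q15689 L201137 q11964, e3 q15690 (flp_e L225457) q18700, e3 q15691 L201149 q11860, e3 q15692 L201157 q11965, e3 q15693 L201167 q11521, e3 q15694 (flp_e L202820) q15923, e3 q15695 L201183 q11966, e3 q15696 L201193 q11967, e3 q15697 L201205 q15227, e3 q15698 L201215 q11968, e3 q15699 (flp_e L201219) q11357, e3 q15700 L201237 q14208, e3 q15701 (flp_e L202472) q15879, e3 q15702 L201247 q11970, e3 q15703 L201257 q11971, e3 q15704 L201263 q11972, e3 q15705 L201276 q11361, e3 q15706 (flp_e L230552) q19389, e3 q15707 (flp_e L202931) q15934, e3 q15708 L201292 q11974, e3 q15709 L201296 q11975, e3 q15710 L201306 q11976,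 e3 q15711 L230596 q19394, e3 q15712 L230604 q19395, e3 q15713 L201332 q11979, e3 q15714 (flp_e L201334) q11367, e3 q15715 (flp_e L230630) q19397, e3 q15716 (flp_e L230638) q19398, e3 q15717 L201354 q11982, e3 q15718 L230654 q19401, e3 q15719 (flp_e L201362) q11370, e3 q15720 (flp_e L230680) q19405, e3 q15721 (flp_e L230686) q19406, e3 q15722 L201378 q11372, e3 q15723 L201384 q11373, e3 q15724 (flp_e L209959) q16814, e3 q15725 (flp_e L230706) q19410, e3 q15726 (flp_e L230718) q19411, e3 q15727 L201408 q11991, e3 q15728 L230745 q19415, e3 q15729 (flp_e L201416) q11377, e3 q15730 (flp_e L230772) q19418, e3 q15731 L223841 q15989, e3 q15732 L201432 q15413, e3 q15733 L201440 q11379, e3 q15734 L217932 q17807, e3 q15735 L201450 q15257, e3 q15736 (flp_e L210029) q16823, e3 q15737 L201464 q14260, e3 q15738 L201474 q11999, e3 q15739 L231000 q19425, e3 q15740 (flp_e L201482) q11384, e3 q15741 L231020 q19428, e3 q15742 L231036 q19430, e3 q15743 (flp_e L201498) q11385, trivial⟩ (by decide +kernel)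

theorem ce_e_246 : ∀ r, r < 64 → sm ge (Qf (15744 + r)) = Qf (tab Gen.e (15744 + r)) :=
  edges_tab (sm ge) Qf (tab Gen.e) 15744 [(15744, 19181), (15745, 19433), (15746, 19435), (15747, 11386), (15748, 19439), (15749, 19440), (15750, 19438), (15751, 11388), (15752, 11389), (15753, 19444), (15754, 19445), (15755, 19446), (15756, 11392), (15757, 11391), (15758, 19450), (15759, 19448), (15760, 19449), (15761, 11394), (15762, 11395), (15763, 19414), (15764, 15956), (15765, 11397), (15766, 19455), (15767, 19456), (15768, 19457), (15769, 12024), (15770, 12025), (15771, 12027), (15772, 12028), (15773, 12029), (15774, 11873), (15775, 18634), (15776, 17266), (15777, 13161), (15778, 12031), (15779, 11408), (15780, 19467), (15781, 17657), (15782, 19468), (15783, 17366), (15784, 13183), (15785, 12037), (15786, 12038), (15787, 12039), (15788, 19478), (15789, 12041), (15790, 12042), (15791, 12043), (15792, 12044), (15793, 12045), (15794, 12046), (15795, 19482), (15796, 19484), (15797, 11417), (15798, 19486), (15799, 12051),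 (15800, 16778), (15801, 12057), (15802, 12058), (15803, 12059), (15804, 11422), (15805, 19493), (15806, 17445), (15807, 17458)]
    ⟨e3 q15744 L228780 q19181, e3 q15745 (flp_e L231058) q19433, e3 q15746 L231070 q19435, e3 q15747 (flp_e L201520) q11386, e3 q15748 (flp_e L231092) q19439, e3 q15749 (flp_e L231096) q19440, e3 q15750 (flp_e L231088) q19438, e3 q15751 L201540 q11388, e3 q15752 L201546 q11389, e3 q15753 (flp_e L231124) q19444, e3 q15754 (flp_e L231136) q19445, e3 q15755 (flp_e L231150) q19446, e3 q15756 L201570 q11392, e3 q15757 L201578 q11391, e3 q15758 (flp_e L231178) q19450, e3 q15759 (flp_e L231164) q19448, e3 q15760 (flp_e L231174) q19449, e3 q15761 L201592 q11394, e3 q15762 L201600 q11395, e3 q15763 L230940 q19414, e3 q15764 L223839 q15956, e3 q15765 L201614 q11397, e3 q15766 (flp_e L231210) q19455, e3 q15767 (flp_e L231218) q19456, e3 q15768 (flp_e L231224) q19457, e3 q15769 L201632 q12024, e3 q15770 L201640 q12025, e3 q15771 L201648 q12027, e3 q15772 L201654 q12028, e3 q15773 L201662 q12029, e3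 q15774 L201674 q11873, e3 q15775 (flp_e L225057) q18634, e3 q15776 (flp_e L213337) q17266, e3 q15777 L201708 q13161, e3 q15778 L201716 q12031, e3 q15779 L201726 q11408, e3 q15780 (flp_e L231310) q19467, e3 q15781 (flp_e L216749) q17657, e3 q15782 (flp_e L231316) q19468, e3 q15783 (flp_e L214120) q17366, e3 q15784 L201748 q13183, e3 q15785 L201754 q12037, e3 q15786 L201766 q12038, e3 q15787 L201776 q12039, e3 q15788 L231406 q19478, e3 q15789 L201792 q12041, e3 q15790 L201802 q12042, e3 q15791 L201810 q12043, e3 q15792 L201818 q12044, e3 q15793 L201828 q12045, e3 q15794 L201836 q12046, e3 q15795 L231446 q19482, e3 q15796 L231472 q19484, e3 q15797 (flp_e L201852) q11417, e3 q15798 (flp_e L231496) q19486, e3 q15799 L201868 q12051, e3 q15800 (flp_e L209687) q16778, e3 q15801 L201880 q12057, e3 q15802 L201889 q12058, e3 q15803 L201898 q12059, e3 q15804 L201908 q11422, e3 q15805 (flp_e L231568) q19493, e3 q15806 (flp_e L214992) q17445, e3 q15807 (flp_e L215110) q17458, trivial⟩ (by decide +kernel)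

theorem ce_e_247 : ∀ r, r < 64 → sm ge (Qf (15808 + r)) = Qf (tab Gen.e (15808 + r)) :=
  edges_tab (sm ge) Qf (tab Gen.e) 15808 [(15808, 12070), (15809, 12071), (15810, 19499), (15811, 12073), (15812, 11432), (15813, 11434), (15814, 16239), (15815, 16388), (15816, 12614), (15817, 17238), (15818, 16384), (15819, 17471), (15820, 12079), (15821, 12080), (15822, 19508), (15823, 12081), (15824, 19512), (15825, 11438), (15826, 16008), (15827, 19514), (15828, 15880), (15829, 19516), (15830, 11443), (15831, 19519), (15832, 19521), (15833, 11444), (15834, 19524), (15835, 11446), (15836, 16022), (15837, 12090), (15838, 12091), (15839, 16926), (15840, 12879), (15841, 18149), (15842, 12880), (15843, 12881), (15844, 18479), (15845, 11683), (15846, 11465), (15847, 11466), (15848, 11467), (15849, 11468), (15850, 19530), (15851, 13435), (15852, 12615), (15853, 19531), (15854, 19532), (15855, 13285), (15856, 12237), (15857, 12235), (15858, 18613), (15859, 11978), (15860, 16319), (15861, 12112), (15862, 12722), (15863, 12113),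 (15864, 12122), (15865, 13280), (15866, 12124), (15867, 13485), (15868, 14874), (15869, 12128), (15870, 12129), (15871, 12130)]
    ⟨e3 q15808 L201928 q12070, e3 q15809 L201940 q12071, e3 q15810 L231622 q19499, e3 q15811 L201956 q12073, e3 q15812 L201964 q11432, e3 q15813 L201970 q11434, e3 q15814 (flp_e L204982) q16239, e3 q15815 (flp_e L206260) q16388, e3 q15816 L201992 q12614, e3 q15817 (flp_e L213167) q17238, e3 q15818 L206218 q16384, e3 q15819 (flp_e L215243) q17471, e3 q15820 L202016 q12079, e3 q15821 L202020 q12080, e3 q15822 L231690 q19508, e3 q15823 L202034 q12081, e3 q15824 L231732 q19512, e3 q15825 (flp_e L202040) q11438, e3 q15826 (flp_e L203381) q16008, e3 q15827 L231754 q19514, e3 q15828 (flp_e L202482) q15880, e3 q15829 L231768 q19516, e3 q15830 (flp_e L202072) q11443, e3 q15831 L231788 q19519, e3 q15832 L231812 q19521, e3 q15833 (flp_e L202086) q11444, e3 q15834 (flp_e L231840) q19524, e3 q15835 L202098 q11446, e3 q15836 (flp_e L203469) q16022, e3 q15837 L202108 q12090, e3 q15838 L202122 q12091,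 e3 q15839 (flp_e L210883) q16926, e3 q15840 L202142 q12879, e3 q15841 (flp_e L220816) q18149, e3 q15842 L202162 q12880, e3 q15843 L202172 q12881, e3 q15844 (flp_e L223671) q18479, e3 q15845 L202182 q11683, e3 q15846 L202192 q11465, e3 q15847 L202202 q11466, e3 q15848 L202212 q11467, e3 q15849 L202222 q11468, e3 q15850 (flp_e L231894) q19530, e3 q15851 L202240 q13435, e3 q15852 L202248 q12615, e3 q15853 (flp_e L231910) q19531, e3 q15854 (flp_e L231920) q19532, e3 q15855 L202266 q13285, e3 q15856 L202276 q12237, e3 q15857 L202290 q12235, e3 q15858 (flp_e L224893) q18613, e3 q15859 L202304 q11978, e3 q15860 (flp_e L205699) q16319, e3 q15861 L202320 q12112, e3 q15862 L202332 q12722, e3 q15863 L202338 q12113, e3 q15864 L202348 q12122, e3 q15865 L202360 q13280, e3 q15866 L202368 q12124, e3 q15867 L202374 q13485, e3 q15868 L202382 q14874, e3 q15869 L202392 q12128, e3 q15870 L202410 q12129, e3 q15871 L202418 q12130, trivial⟩ (by decide +kernel)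

theorem ce_e_248 : ∀ r, r < 64 → sm ge (Qf (15872 + r)) = Qf (tab Gen.e (15872 + r)) :=
  edges_tab (sm ge) Qf (tab Gen.e) 15872 [(15872, 19387), (15873, 12131), (15874, 19550), (15875, 12133), (15876, 12134), (15877, 17337), (15878, 11483), (15879, 15701), (15880, 15828), (15881, 12136), (15882, 19333), (15883, 12138), (15884, 19336), (15885, 19337), (15886, 12143), (15887, 19562), (15888, 19565), (15889, 11492), (15890, 19568), (15891, 19351), (15892, 11493), (15893, 19570), (15894, 11495), (15895, 19352), (15896, 11497), (15897, 19576), (15898, 19577), (15899, 19578), (15900, 12154), (15901, 12155), (15902, 12156), (15903, 14865), (15904, 12158), (15905, 12159), (15906, 14789), (15907, 13574), (15908, 12161), (15909, 12218), (15910, 11504), (15911, 17501), (15912, 12163), (15913, 18492), (15914, 17442), (15915, 11508), (15916, 14031), (15917, 17500), (15918, 12166), (15919, 12167), (15920, 18707), (15921, 12168), (15922, 12072), (15923, 15694), (15924, 12169), (15925, 11973), (15926, 15280), (15927, 12170),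 (15928, 11516), (15929, 15646), (15930, 14207), (15931, 12172), (15932, 12173), (15933, 11925), (15934, 15707), (15935, 19382)]
    ⟨e3 q15872 (flp_e L230534) q19387, e3 q15873 L202436 q12131, e3 q15874 L232086 q19550, e3 q15875 L202448 q12133, e3 q15876 L202456 q12134, e3 q15877 (flp_e L213807) q17337, e3 q15878 (flp_e L202460) q11483, e3 q15879 L202472 q15701, e3 q15880 L202482 q15828, e3 q15881 L202490 q12136, e3 q15882 L230104 q19333, e3 q15883 L202509 q12138, e3 q15884 (flp_e L230136) q19336, e3 q15885 (flp_e L230150) q19337, e3 q15886 L202535 q12143, e3 q15887 L232194 q19562, e3 q15888 L232220 q19565, e3 q15889 (flp_e L202557) q11492, e3 q15890 (flp_e L232244) q19568, e3 q15891 L230956 q19351, e3 q15892 (flp_e L202569) q11493, e3 q15893 (flp_e L232268) q19570, e3 q15894 L202585 q11495, e3 q15895 (flp_e L230944) q19352, e3 q15896 L202593 q11497, e3 q15897 (flp_e L232310) q19576, e3 q15898 (flp_e L232320) q19577, e3 q15899 (flp_e L232328) q19578, e3 q15900 L202607 q12154, e3 q15901 L202617 q12155, e3 q15902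 L202629 q12156, e3 q15903 L202639 q14865, e3 q15904 L202651 q12158, e3 q15905 L202659 q12159, e3 q15906 L202673 q14789, e3 q15907 L202681 q13574, e3 q15908 L202685 q12161, e3 q15909 (flp_e L202703) q12218, e3 q15910 (flp_e L202711) q11504, e3 q15911 (flp_e L215526) q17501, e3 q15912 L202733 q12163, e3 q15913 (flp_e L223771) q18492, e3 q15914 (flp_e L214958) q17442, e3 q15915 L202754 q11508, e3 q15916 L202762 q14031, e3 q15917 (flp_e L215514) q17500, e3 q15918 L202780 q12166, e3 q15919 L202784 q12167, e3 q15920 (flp_e L225520) q18707, e3 q15921 L202800 q12168, e3 q15922 L202808 q12072, e3 q15923 L202820 q15694, e3 q15924 L202826 q12169, e3 q15925 L202834 q11973, e3 q15926 L202850 q15280, e3 q15927 L202860 q12170, e3 q15928 (flp_e L202864) q11516, e3 q15929 L202884 q15646, e3 q15930 L202896 q14207, e3 q15931 L202900 q12172, e3 q15932 L202907 q12173, e3 q15933 L202923 q11925, e3 q15934 L202931 q15707, e3 q15935 (flp_e L230480) q19382, trivial⟩ (by decide +kernel)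

theorem ce_e_249 : ∀ r, r < 64 → sm ge (Qf (15936 + r)) = Qf (tab Gen.e (15936 + r)) :=
  edges_tab (sm ge) Qf (tab Gen.e) 15936 [(15936, 12174), (15937, 19601), (15938, 19313), (15939, 12177), (15940, 11526), (15941, 19603), (15942, 19604), (15943, 12180), (15944, 19607), (15945, 11529), (15946, 19610), (15947, 19611), (15948, 11531), (15949, 11532), (15950, 19615), (15951, 16788), (15952, 19616), (15953, 12187), (15954, 19620), (15955, 11536), (15956, 15764), (15957, 15516), (15958, 11538), (15959, 17822), (15960, 15310), (15961, 16797), (15962, 14280), (15963, 12189), (15964, 19626), (15965, 11543), (15966, 19629), (15967, 19631), (15968, 11544), (15969, 19634), (15970, 19044), (15971, 19636), (15972, 11545), (15973, 19640), (15974, 19641), (15975, 19639), (15976, 11547), (15977, 11548), (15978, 19645), (15979, 19646), (15980, 19647), (15981, 11551), (15982, 11550), (15983, 19650), (15984, 19648), (15985, 19649), (15986, 11553), (15987, 11554), (15988, 19619), (15989, 15731), (15990, 11556), (15991, 19655),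 (15992, 19656), (15993, 19657), (15994, 12207), (15995, 12208), (15996, 12210), (15997, 12211), (15998, 12212), (15999, 12084)]
    ⟨e3 q15936 L202943 q12174, e3 q15937 L232538 q19601, e3 q15938 (flp_e L229926) q19313, e3 q15939 L202967 q12177, e3 q15940 (flp_e L202969) q11526, e3 q15941 (flp_e L232560) q19603, e3 q15942 (flp_e L232570) q19604, e3 q15943 L202991 q12180, e3 q15944 L232588 q19607, e3 q15945 (flp_e L202999) q11529, e3 q15946 (flp_e L232620) q19610, e3 q15947 (flp_e L232628) q19611, e3 q15948 L203015 q11531, e3 q15949 L203021 q11532, e3 q15950 (flp_e L232654) q19615, e3 q15951 (flp_e L209757) q16788, e3 q15952 (flp_e L232666) q19616, e3 q15953 L203045 q12187, e3 q15954 L232699 q19620, e3 q15955 (flp_e L203053) q11536, e3 q15956 (flp_e L223839) q15764, e3 q15957 L203069 q15516, e3 q15958 L203077 q11538, e3 q15959 L218078 q17822, e3 q15960 L203087 q15310, e3 q15961 (flp_e L209827) q16797, e3 q15962 L203101 q14280, e3 q15963 L203111 q12189, e3 q15964 L232767 q19626, e3 q15965 (flp_e L203119) q11543, e3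 q15966 L232793 q19629, e3 q15967 L232815 q19631, e3 q15968 (flp_e L203135) q11544, e3 q15969 (flp_e L232839) q19634, e3 q15970 L227847 q19044, e3 q15971 L232853 q19636, e3 q15972 (flp_e L203157) q11545, e3 q15973 (flp_e L232875) q19640, e3 q15974 (flp_e L232879) q19641, e3 q15975 (flp_e L232871) q19639, e3 q15976 L203177 q11547, e3 q15977 L203183 q11548, e3 q15978 (flp_e L232911) q19645, e3 q15979 (flp_e L232917) q19646, e3 q15980 (flp_e L232933) q19647, e3 q15981 L203207 q11551, e3 q15982 L203215 q11550, e3 q15983 (flp_e L232957) q19650, e3 q15984 (flp_e L232943) q19648, e3 q15985 (flp_e L232953) q19649, e3 q15986 L203229 q11553, e3 q15987 L203237 q11554, e3 q15988 L232697 q19619, e3 q15989 (flp_e L223841) q15731, e3 q15990 L203251 q11556, e3 q15991 (flp_e L233001) q19655, e3 q15992 (flp_e L233009) q19656, e3 q15993 (flp_e L233021) q19657, e3 q15994 L203269 q12207, e3 q15995 L203277 q12208, e3 q15996 L203285 q12210, e3 q15997 L203291 q12211, e3 q15998 L203299 q12212, e3 q15999 L203311 q12084, trivial⟩ (by decide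 +kernel)

theorem ce_e_250 : ∀ r, r < 64 → sm ge (Qf (16000 + r)) = Qf (tab Gen.e (16000 + r)) :=
  edges_tab (sm ge) Qf (tab Gen.e) 16000 [(16000, 11565), (16001, 13391), (16002, 14987), (16003, 19665), (16004, 12222), (16005, 12224), (16006, 19667), (16007, 11572), (16008, 15826), (16009, 19497), (16010, 11870), (16011, 19671), (16012, 11576), (16013, 17737), (16014, 19528), (16015, 19676), (16016, 18625), (16017, 11579), (16018, 19680), (16019, 19681), (16020, 11581), (16021, 11582), (16022, 15836), (16023, 19526), (16024, 19684), (16025, 11585), (16026, 19687), (16027, 19688), (16028, 19692), (16029, 11587), (16030, 19539), (16031, 19695), (16032, 12239), (16033, 12240), (16034, 12241), (16035, 19701), (16036, 19704), (16037, 11590), (16038, 19708), (16039, 19709), (16040, 11592), (16041, 11593), (16042, 13122), (16043, 19712), (16044, 12248), (16045, 19717), (16046, 11596), (16047, 19721), (16048, 19722), (16049, 19720), (16050, 11598), (16051, 11599), (16052, 18719), (16053, 19727), (16054, 19728), (16055,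 19729), (16056, 11602), (16057, 11603), (16058, 19733), (16059, 19734), (16060, 12259), (16061, 12260), (16062, 12261), (16063, 12262)]
    ⟨e3 q16000 L203323 q11565, e3 q16001 L203334 q13391, e3 q16002 L203341 q14987, e3 q16003 (flp_e L233091) q19665, e3 q16004 L203356 q12222, e3 q16005 L203363 q12224, e3 q16006 L233103 q19667, e3 q16007 (flp_e L203369) q11572, e3 q16008 L203381 q15826, e3 q16009 (flp_e L231610) q19497, e3 q16010 L203399 q11870, e3 q16011 L233135 q19671, e3 q16012 (flp_e L203407) q11576, e3 q16013 (flp_e L217410) q17737, e3 q16014 (flp_e L231870) q19528, e3 q16015 L233167 q19676, e3 q16016 (flp_e L224991) q18625, e3 q16017 (flp_e L203435) q11579, e3 q16018 (flp_e L233195) q19680, e3 q16019 (flp_e L233203) q19681, e3 q16020 L203451 q11581, e3 q16021 L203461 q11582, e3 q16022 L203469 q15836, e3 q16023 (flp_e L231854) q19526, e3 q16024 L233221 q19684, e3 q16025 (flp_e L203485) q11585, e3 q16026 (flp_e L233237) q19687, e3 q16027 (flp_e L233241) q19688, e3 q16028 L233267 q19692, e3 q16029 (flp_e L203501)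 q11587, e3 q16030 (flp_e L231996) q19539, e3 q16031 (flp_e L233299) q19695, e3 q16032 L203519 q12239, e3 q16033 L203531 q12240, e3 q16034 L203541 q12241, e3 q16035 L233355 q19701, e3 q16036 L233367 q19704, e3 q16037 (flp_e L203555) q11590, e3 q16038 (flp_e L233405) q19708, e3 q16039 (flp_e L233415) q19709, e3 q16040 L203579 q11592, e3 q16041 L203589 q11593, e3 q16042 L203595 q13122, e3 q16043 (flp_e L233437) q19712, e3 q16044 L203611 q12248, e3 q16045 L233477 q19717, e3 q16046 (flp_e L203623) q11596, e3 q16047 (flp_e L233515) q19721, e3 q16048 (flp_e L233519) q19722, e3 q16049 (flp_e L233507) q19720, e3 q16050 L203643 q11598, e3 q16051 L203649 q11599, e3 q16052 (flp_e L225637) q18719, e3 q16053 (flp_e L233561) q19727, e3 q16054 (flp_e L233567) q19728, e3 q16055 (flp_e L233579) q19729, e3 q16056 L203681 q11602, e3 q16057 L203691 q11603, e3 q16058 (flp_e L233609) q19733, e3 q16059 (flp_e L233615) q19734, e3 q16060 L203709 q12259, e3 q16061 L203719 q12260, e3 q16062 L203725 q12261, e3 q16063 L203733 q12262, trivial⟩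 (by decide +kernel)

theorem ce_e_251 : ∀ r, r < 64 → sm ge (Qf (16064 + r)) = Qf (tab Gen.e (16064 + r)) :=
  edges_tab (sm ge) Qf (tab Gen.e) 16064 [(16064, 12263), (16065, 11606), (16066, 19742), (16067, 19743), (16068, 11608), (16069, 11609), (16070, 12720), (16071, 19747), (16072, 11612), (16073, 11613), (16074, 19752), (16075, 19753), (16076, 11617), (16077, 13444), (16078, 14939), (16079, 19759), (16080, 12281), (16081, 12283), (16082, 19761), (16083, 11624), (16084, 19265), (16085, 15586), (16086, 11868), (16087, 19765), (16088, 11628), (16089, 19300), (16090, 17668), (16091, 19770), (16092, 18640), (16093, 11631), (16094, 19774), (16095, 19775), (16096, 11633), (16097, 11634), (16098, 19298), (16099, 15598), (16100, 19778), (16101, 11637), (16102, 19781), (16103, 19782), (16104, 19786), (16105, 11639), (16106, 19789), (16107, 19311), (16108, 12298), (16109, 12299), (16110, 12300), (16111, 19795), (16112, 19798), (16113, 11642), (16114, 19802), (16115, 19803), (16116, 11644), (16117, 11645), (16118, 19806),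 (16119, 13181), (16120, 12307), (16121, 19811), (16122, 11648), (16123, 19815), (16124, 19816), (16125, 19814), (16126, 11650), (16127, 11651)]
    ⟨e3 q16064 L203741 q12263, e3 q16065 (flp_e L203745) q11606, e3 q16066 (flp_e L233681) q19742, e3 q16067 (flp_e L233689) q19743, e3 q16068 L203765 q11608, e3 q16069 L203775 q11609, e3 q16070 L203781 q12720, e3 q16071 (flp_e L233721) q19747, e3 q16072 L203793 q11612, e3 q16073 L203803 q11613, e3 q16074 (flp_e L233771) q19752, e3 q16075 (flp_e L233783) q19753, e3 q16076 L203823 q11617, e3 q16077 L203834 q13444, e3 q16078 L203841 q14939, e3 q16079 (flp_e L233839) q19759, e3 q16080 L203856 q12281, e3 q16081 L203863 q12283, e3 q16082 L233851 q19761, e3 q16083 (flp_e L203869) q11624, e3 q16084 (flp_e L229472) q19265, e3 q16085 L203887 q15586, e3 q16086 L203899 q11868, e3 q16087 L233883 q19765, e3 q16088 (flp_e L203907) q11628, e3 q16089 (flp_e L229768) q19300, e3 q16090 (flp_e L216839) q17668, e3 q16091 L233915 q19770, e3 q16092 (flp_e L225099) q18640, e3 q16093 (flp_e L203935)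 q11631, e3 q16094 (flp_e L233943) q19774, e3 q16095 (flp_e L233949) q19775, e3 q16096 L203951 q11633, e3 q16097 L203959 q11634, e3 q16098 (flp_e L229752) q19298, e3 q16099 L203977 q15598, e3 q16100 L233969 q19778, e3 q16101 (flp_e L203985) q11637, e3 q16102 (flp_e L233985) q19781, e3 q16103 (flp_e L233991) q19782, e3 q16104 L234021 q19786, e3 q16105 (flp_e L204001) q11639, e3 q16106 (flp_e L234053) q19789, e3 q16107 (flp_e L229906) q19311, e3 q16108 L204021 q12298, e3 q16109 L204029 q12299, e3 q16110 L204045 q12300, e3 q16111 L234109 q19795, e3 q16112 L234121 q19798, e3 q16113 (flp_e L204059) q11642, e3 q16114 (flp_e L234159) q19802, e3 q16115 (flp_e L234167) q19803, e3 q16116 L204083 q11644, e3 q16117 L204091 q11645, e3 q16118 (flp_e L234191) q19806, e3 q16119 L204107 q13181, e3 q16120 L204115 q12307, e3 q16121 L234231 q19811, e3 q16122 (flp_e L204127) q11648, e3 q16123 (flp_e L234265) q19815, e3 q16124 (flp_e L234275) q19816, e3 q16125 (flp_e L234261) q19814, e3 q16126 L204147 q11650, e3 q16127 L204153 q11651,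 trivial⟩ (by decide +kernel)

theorem ce_e_252 : ∀ r, r < 64 → sm ge (Qf (16128 + r)) = Qf (tab Gen.e (16128 + r)) :=
  edges_tab (sm ge) Qf (tab Gen.e) 16128 [(16128, 19821), (16129, 19822), (16130, 18730), (16131, 19823), (16132, 11654), (16133, 11655), (16134, 19827), (16135, 19828), (16136, 12318), (16137, 12319), (16138, 12320), (16139, 12321), (16140, 12322), (16141, 11658), (16142, 19836), (16143, 19837), (16144, 11660), (16145, 11661), (16146, 19841), (16147, 12727), (16148, 11664), (16149, 11665), (16150, 19846), (16151, 19847), (16152, 15294), (16153, 16247), (16154, 15296), (16155, 17342), (16156, 17343), (16157, 17344), (16158, 19404), (16159, 17345), (16160, 17346), (16161, 19864), (16162, 11669), (16163, 19867), (16164, 19868), (16165, 17350), (16166, 15286), (16167, 15241), (16168, 16217), (16169, 15243), (16170, 17370), (16171, 17371), (16172, 17372), (16173, 19609), (16174, 17373), (16175, 17374), (16176, 19882), (16177, 11676), (16178, 19885), (16179, 19886), (16180, 15233), (16181, 17378), (16182,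 11715), (16183, 11736), (16184, 11724), (16185, 11779), (16186, 11694), (16187, 11696), (16188, 11699), (16189, 11700), (16190, 11702), (16191, 11705)]
    ⟨e3 q16128 (flp_e L234313) q19821, e3 q16129 (flp_e L234323) q19822, e3 q16130 L225725 q18730, e3 q16131 (flp_e L234339) q19823, e3 q16132 L204185 q11654, e3 q16133 L204195 q11655, e3 q16134 (flp_e L234363) q19827, e3 q16135 (flp_e L234373) q19828, e3 q16136 L204211 q12318, e3 q16137 L204219 q12319, e3 q16138 L204227 q12320, e3 q16139 L204235 q12321, e3 q16140 L204245 q12322, e3 q16141 (flp_e L204249) q11658, e3 q16142 (flp_e L234445) q19836, e3 q16143 (flp_e L234451) q19837, e3 q16144 L204269 q11660, e3 q16145 L204277 q11661, e3 q16146 (flp_e L234487) q19841, e3 q16147 L204289 q12727, e3 q16148 L204297 q11664, e3 q16149 L204307 q11665, e3 q16150 (flp_e L234543) q19846, e3 q16151 (flp_e L234551) q19847, e3 q16152 L204325 q15294, e3 q16153 (flp_e L205059) q16247, e3 q16154 L204340 q15296, e3 q16155 (flp_e L213849) q17342, e3 q16156 (flp_e L213857) q17343, e3 q16157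 (flp_e L213865) q17344, e3 q16158 (flp_e L230672) q19404, e3 q16159 (flp_e L213873) q17345, e3 q16160 (flp_e L213881) q17346, e3 q16161 L234691 q19864, e3 q16162 (flp_e L204378) q11669, e3 q16163 (flp_e L234721) q19867, e3 q16164 (flp_e L234727) q19868, e3 q16165 (flp_e L213915) q17350, e3 q16166 (flp_e L222840) q15286, e3 q16167 L204406 q15241, e3 q16168 (flp_e L204813) q16217, e3 q16169 L204427 q15243, e3 q16170 (flp_e L214154) q17370, e3 q16171 (flp_e L214162) q17371, e3 q16172 (flp_e L214170) q17372, e3 q16173 (flp_e L232612) q19609, e3 q16174 (flp_e L214180) q17373, e3 q16175 (flp_e L214190) q17374, e3 q16176 L234837 q19882, e3 q16177 (flp_e L204465) q11676, e3 q16178 (flp_e L234867) q19885, e3 q16179 (flp_e L234873) q19886, e3 q16180 (flp_e L222779) q15233, e3 q16181 (flp_e L214236) q17378, e3 q16182 L204497 q11715, e3 q16183 L204508 q11736, e3 q16184 L204518 q11724, e3 q16185 L204529 q11779, e3 q16186 L204539 q11694, e3 q16187 L204550 q11696, e3 q16188 (flp_e L204555) q11699, e3 q16189 (flp_e L204567) q11700,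 e3 q16190 L204579 q11702, e3 q16191 (flp_e L204581) q11705, trivial⟩ (by decide +kernel)

theorem ce_e_253 : ∀ r, r < 64 → sm ge (Qf (16192 + r)) = Qf (tab Gen.e (16192 + r)) :=
  edges_tab (sm ge) Qf (tab Gen.e) 16192 [(16192, 11706), (16193, 11708), (16194, 11711), (16195, 11716), (16196, 11717), (16197, 15003), (16198, 19890), (16199, 11720), (16200, 11725), (16201, 11726), (16202, 15016), (16203, 19891), (16204, 17430), (16205, 11843), (16206, 15013), (16207, 16286), (16208, 11737), (16209, 15574), (16210, 11739), (16211, 19895), (16212, 11741), (16213, 19896), (16214, 11748), (16215, 19897), (16216, 19898), (16217, 16168), (16218, 11751), (16219, 11754), (16220, 19899), (16221, 11758), (16222, 19900), (16223, 19901), (16224, 19902), (16225, 18879), (16226, 11765), (16227, 11766), (16228, 12056), (16229, 16775), (16230, 19904), (16231, 19905), (16232, 19906), (16233, 18894), (16234, 18895), (16235, 17455), (16236, 14999), (16237, 16440), (16238, 11780), (16239, 15814), (16240, 11782), (16241, 19908), (16242,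 11784), (16243, 19909), (16244, 11791), (16245, 19910), (16246, 19911), (16247, 16153), (16248, 11794), (16249, 11797), (16250, 19912), (16251, 11801), (16252, 19913), (16253, 19914), (16254, 19915), (16255, 18934)]
    ⟨e3 q16192 (flp_e L204593) q11706, e3 q16193 L204605 q11708, e3 q16194 L204609 q11711, e3 q16195 L204617 q11716, e3 q16196 L204623 q11717, e3 q16197 L204638 q15003, e3 q16198 (flp_e L234903) q19890, e3 q16199 L204650 q11720, e3 q16200 L204658 q11725, e3 q16201 L204664 q11726, e3 q16202 L204679 q15016, e3 q16203 (flp_e L234915) q19891, e3 q16204 (flp_e L214835) q17430, e3 q16205 L204705 q11843, e3 q16206 L204716 q15013, e3 q16207 (flp_e L205390) q16286, e3 q16208 (flp_e L204729) q11737, e3 q16209 L204746 q15574, e3 q16210 L204754 q11739, e3 q16211 (flp_e L234963) q19895, e3 q16212 (flp_e L204768) q11741, e3 q16213 (flp_e L234977) q19896, e3 q16214 L204784 q11748, e3 q16215 (flp_e L234983) q19897, e3 q16216 (flp_e L234995) q19898, e3 q16217 L204813 q16168, e3 q16218 (flp_e L204815) q11751, e3 q16219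 L204833 q11754, e3 q16220 (flp_e L235005) q19899, e3 q16221 L204847 q11758, e3 q16222 (flp_e L235013) q19900, e3 q16223 (flp_e L235019) q19901, e3 q16224 (flp_e L235027) q19902, e3 q16225 (flp_e L226625) q18879, e3 q16226 L204881 q11765, e3 q16227 L204885 q11766, e3 q16228 L204892 q12056, e3 q16229 (flp_e L209653) q16775, e3 q16230 (flp_e L235045) q19904, e3 q16231 (flp_e L235055) q19905, e3 q16232 (flp_e L235061) q19906, e3 q16233 (flp_e L226719) q18894, e3 q16234 (flp_e L226729) q18895, e3 q16235 (flp_e L215070) q17455, e3 q16236 L204950 q14999, e3 q16237 (flp_e L206709) q16440, e3 q16238 (flp_e L204963) q11780, e3 q16239 L204982 q15814, e3 q16240 L204994 q11782, e3 q16241 (flp_e L235083) q19908, e3 q16242 (flp_e L205010) q11784, e3 q16243 (flp_e L235097) q19909, e3 q16244 L205026 q11791, e3 q16245 (flp_e L235103) q19910, e3 q16246 (flp_e L235115) q19911, e3 q16247 L205059 q16153, e3 q16248 (flp_e L205063) q11794, e3 q16249 L205081 q11797, e3 q16250 (flp_e L235125) q19912, e3 q16251 L205095 q11801, e3 q16252 (flp_e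 L235133) q19913, e3 q16253 (flp_e L235139) q19914, e3 q16254 (flp_e L235147) q19915, e3 q16255 (flp_e L227050) q18934, trivial⟩ (by decide +kernel)

theorem ce_e_254 : ∀ r, r < 64 → sm ge (Qf (16256 + r)) = Qf (tab Gen.e (16256 + r)) :=
  edges_tab (sm ge) Qf (tab Gen.e) 16256 [(16256, 11808), (16257, 11809), (16258, 16770), (16259, 19917), (16260, 19918), (16261, 19919), (16262, 18948), (16263, 18949), (16264, 11813), (16265, 19228), (16266, 19381), (16267, 11818), (16268, 11819), (16269, 11820), (16270, 19920), (16271, 18173), (16272, 19921), (16273, 13684), (16274, 19922), (16275, 19923), (16276, 17339), (16277, 15113), (16278, 11828), (16279, 19243), (16280, 11833), (16281, 11834), (16282, 11836), (16283, 19926), (16284, 19254), (16285, 11838), (16286, 16207), (16287, 19894), (16288, 19257), (16289, 19259), (16290, 11855), (16291, 11856), (16292, 19927), (16293, 11863), (16294, 11864), (16295, 11865), (16296, 19892), (16297, 19271), (16298, 19928), (16299, 19763), (16300, 19277), (16301, 19669), (16302, 11872),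 (16303, 11875), (16304, 19929), (16305, 11877), (16306, 19931), (16307, 13396), (16308, 11885), (16309, 11886), (16310, 11891), (16311, 11892), (16312, 11898), (16313, 11899), (16314, 11900), (16315, 11901), (16316, 11902), (16317, 11903), (16318, 11904), (16319, 15860)]
    ⟨e3 q16256 L205131 q11808, e3 q16257 L205137 q11809, e3 q16258 (flp_e L209595) q16770, e3 q16259 (flp_e L235165) q19917, e3 q16260 (flp_e L235175) q19918, e3 q16261 (flp_e L235181) q19919, e3 q16262 (flp_e L227151) q18948, e3 q16263 (flp_e L227161) q18949, e3 q16264 (flp_e L205181) q11813, e3 q16265 (flp_e L229134) q19228, e3 q16266 (flp_e L230466) q19381, e3 q16267 L205227 q11818, e3 q16268 L205231 q11819, e3 q16269 L205240 q11820, e3 q16270 (flp_e L235189) q19920, e3 q16271 (flp_e L220982) q18173, e3 q16272 (flp_e L235199) q19921, e3 q16273 L205273 q13684, e3 q16274 (flp_e L235211) q19922, e3 q16275 (flp_e L235217) q19923, e3 q16276 (flp_e L213821) q17339, e3 q16277 L205306 q15113, e3 q16278 (flp_e L205312) q11828, e3 q16279 (flp_e L229260)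 q19243, e3 q16280 (flp_e L205328) q11833, e3 q16281 (flp_e L205340) q11834, e3 q16282 L205358 q11836, e3 q16283 (flp_e L235246) q19926, e3 q16284 (flp_e L229360) q19254, e3 q16285 (flp_e L205376) q11838, e3 q16286 L205390 q16207, e3 q16287 (flp_e L234955) q19894, e3 q16288 (flp_e L229386) q19257, e3 q16289 (flp_e L229410) q19259, e3 q16290 L205436 q11855, e3 q16291 L205440 q11856, e3 q16292 (flp_e L235256) q19927, e3 q16293 L205460 q11863, e3 q16294 L205470 q11864, e3 q16295 L205482 q11865, e3 q16296 (flp_e L234929) q19892, e3 q16297 (flp_e L229508) q19271, e3 q16298 L235266 q19928, e3 q16299 (flp_e L233869) q19763, e3 q16300 (flp_e L229560) q19277, e3 q16301 (flp_e L233121) q19669, e3 q16302 (flp_e L205546) q11872, e3 q16303 L205558 q11875, e3 q16304 L235274 q19929, e3 q16305 (flp_e L205572) q11877, e3 q16306 (flp_e L235304) q19931, e3 q16307 L205594 q13396, e3 q16308 L205602 q11885, e3 q16309 L205617 q11886, e3 q16310 L205625 q11891, e3 q16311 L205629 q11892, e3 q16312 L205637 q11898, e3 q16313 L205643 q11899,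 e3 q16314 L205649 q11900, e3 q16315 L205657 q11901, e3 q16316 L205663 q11902, e3 q16317 L205675 q11903, e3 q16318 L205689 q11904, e3 q16319 L205699 q15860, trivial⟩ (by decide +kernel)

theorem ce_e_255 : ∀ r, r < 64 → sm ge (Qf (16320 + r)) = Qf (tab Gen.e (16320 + r)) :=
  edges_tab (sm ge) Qf (tab Gen.e) 16320 [(16320, 19932), (16321, 18178), (16322, 18477), (16323, 18181), (16324, 19933), (16325, 11911), (16326, 19554), (16327, 11927), (16328, 19327), (16329, 19328), (16330, 19934), (16331, 11932), (16332, 11934), (16333, 19936), (16334, 11936), (16335, 11937), (16336, 18702), (16337, 12201), (16338, 11940), (16339, 19938), (16340, 16794), (16341, 11942), (16342, 11943), (16343, 19942), (16344, 19943), (16345, 11945), (16346, 19426), (16347, 16487), (16348, 11947), (16349, 19946), (16350, 11949), (16351, 11950), (16352, 19947), (16353, 19948), (16354, 19370), (16355, 19373), (16356, 19377), (16357, 19378), (16358, 19384), (16359, 19596), (16360, 19391), (16361, 11977), (16362, 19541), (16363, 11981), (16364,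 19949), (16365, 11983), (16366, 19951), (16367, 18114), (16368, 11985), (16369, 11988), (16370, 11989), (16371, 18126), (16372, 18505), (16373, 19953), (16374, 11992), (16375, 19955), (16376, 19956), (16377, 12195), (16378, 11994), (16379, 11995), (16380, 19959), (16381, 19960), (16382, 12200), (16383, 12148)]
    ⟨e3 q16320 (flp_e L235318) q19932, e3 q16321 (flp_e L221038) q18178, e3 q16322 (flp_e L223647) q18477, e3 q16323 (flp_e L221070) q18181, e3 q16324 L235324 q19933, e3 q16325 (flp_e L205749) q11911, e3 q16326 (flp_e L232131) q19554, e3 q16327 (flp_e L205767) q11927, e3 q16328 (flp_e L230048) q19327, e3 q16329 (flp_e L230054) q19328, e3 q16330 L235336 q19934, e3 q16331 (flp_e L205802) q11932, e3 q16332 (flp_e L205810) q11934, e3 q16333 (flp_e L235356) q19936, e3 q16334 L205824 q11936, e3 q16335 L205828 q11937, e3 q16336 (flp_e L225467) q18702, e3 q16337 L205852 q12201, e3 q16338 (flp_e L205854) q11940, e3 q16339 (flp_e L235376) q19938, e3 q16340 (flp_e L209801) q16794, e3 q16341 L205876 q11942, e3 q16342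 L205880 q11943, e3 q16343 (flp_e L235408) q19942, e3 q16344 (flp_e L235419) q19943, e3 q16345 L205907 q11945, e3 q16346 L231012 q19426, e3 q16347 (flp_e L207126) q16487, e3 q16348 L205919 q11947, e3 q16349 (flp_e L235443) q19946, e3 q16350 L205929 q11949, e3 q16351 L205933 q11950, e3 q16352 (flp_e L235453) q19947, e3 q16353 (flp_e L235463) q19948, e3 q16354 (flp_e L230366) q19370, e3 q16355 (flp_e L230398) q19373, e3 q16356 (flp_e L230434) q19377, e3 q16357 (flp_e L230442) q19378, e3 q16358 (flp_e L230500) q19384, e3 q16359 (flp_e L232482) q19596, e3 q16360 (flp_e L230572) q19391, e3 q16361 (flp_e L206022) q11977, e3 q16362 (flp_e L232014) q19541, e3 q16363 L206044 q11981, e3 q16364 L235469 q19949, e3 q16365 (flp_e L206058) q11983, e3 q16366 (flp_e L235493) q19951, e3 q16367 (flp_e L220508) q18114, e3 q16368 L206082 q11985, e3 q16369 L206092 q11988, e3 q16370 L206104 q11989, e3 q16371 (flp_e L220624) q18126, e3 q16372 (flp_e L223929) q18505, e3 q16373 L235503 q19953, e3 q16374 (flp_e L206138) q11992, e3 q16375 (flp_e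 L235531) q19955, e3 q16376 (flp_e L235541) q19956, e3 q16377 L206166 q12195, e3 q16378 L206170 q11994, e3 q16379 L206174 q11995, e3 q16380 (flp_e L235563) q19959, e3 q16381 (flp_e L235575) q19960, e3 q16382 L206198 q12200, e3 q16383 L206208 q12148, trivial⟩ (by decide +kernel)

theorem ce_e_256 : ∀ r, r < 64 → sm ge (Qf (16384 + r)) = Qf (tab Gen.e (16384 + r)) :=
  edges_tab (sm ge) Qf (tab Gen.e) 16384 [(16384, 15818), (16385, 19961), (16386, 12001), (16387, 18706), (16388, 15815), (16389, 19963), (16390, 12002), (16391, 19965), (16392, 19966), (16393, 19964), (16394, 12004), (16395, 12005), (16396, 12006), (16397, 19970), (16398, 12010), (16399, 12008), (16400, 12009), (16401, 19973), (16402, 19974), (16403, 19971), (16404, 19972), (16405, 12013), (16406, 12014), (16407, 19977), (16408, 12017), (16409, 12018), (16410, 19073), (16411, 16518), (16412, 12020), (16413, 12022), (16414, 12023), (16415, 19979), (16416, 14959), (16417, 19463), (16418, 14957), (16419, 13989), (16420, 19464), (16421, 12030), (16422, 12033),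 (16423, 12034), (16424, 12035), (16425, 19981), (16426, 18119), (16427, 19982), (16428, 13693), (16429, 19983), (16430, 19984), (16431, 17367), (16432, 15125), (16433, 12040), (16434, 19479), (16435, 12047), (16436, 12048), (16437, 12050), (16438, 19987), (16439, 19488), (16440, 16237), (16441, 19907), (16442, 19490), (16443, 19492), (16444, 12068), (16445, 12069), (16446, 12076), (16447, 12077)]
    ⟨e3 q16384 (flp_e L206218) q15818, e3 q16385 L235581 q19961, e3 q16386 (flp_e L206236) q12001, e3 q16387 (flp_e L225506) q18706, e3 q16388 L206260 q15815, e3 q16389 L235605 q19963, e3 q16390 (flp_e L206276) q12002, e3 q16391 (flp_e L235633) q19965, e3 q16392 (flp_e L235643) q19966, e3 q16393 (flp_e L235623) q19964, e3 q16394 L206310 q12004, e3 q16395 L206318 q12005, e3 q16396 (flp_e L206320) q12006, e3 q16397 (flp_e L235675) q19970, e3 q16398 L206340 q12010, e3 q16399 L206344 q12008, e3 q16400 L206348 q12009, e3 q16401 (flp_e L235699) q19973, e3 q16402 (flp_e L235711) q19974, e3 q16403 (flp_e L235685) q19971, e3 q16404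 (flp_e L235693) q19972, e3 q16405 L206398 q12013, e3 q16406 L206408 q12014, e3 q16407 (flp_e L235735) q19977, e3 q16408 L206422 q12017, e3 q16409 L206432 q12018, e3 q16410 (flp_e L228024) q19073, e3 q16411 (flp_e L207381) q16518, e3 q16412 L206450 q12020, e3 q16413 L206458 q12022, e3 q16414 L206466 q12023, e3 q16415 (flp_e L235751) q19979, e3 q16416 (flp_e L206490) q14959, e3 q16417 (flp_e L231266) q19463, e3 q16418 L206504 q14957, e3 q16419 L206520 q13989, e3 q16420 (flp_e L231278) q19464, e3 q16421 (flp_e L206532) q12030, e3 q16422 L206546 q12033, e3 q16423 L206550 q12034, e3 q16424 L206559 q12035, e3 q16425 (flp_e L235775) q19981, e3 q16426 (flp_e L220552) q18119, e3 q16427 (flp_e L235785) q19982, e3 q16428 L206594 q13693, e3 q16429 (flp_e L235797) q19983, e3 q16430 (flp_e L235803) q19984, e3 q16431 (flp_e L214126) q17367, e3 q16432 L206627 q15125, e3 q16433 (flp_e L206633) q12040, e3 q16434 (flp_e L231416) q19479, e3 q16435 (flp_e L206649) q12047, e3 q16436 (flp_e L206661) q12048, e3 q16437 L206679 q12050, e3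 q16438 (flp_e L235832) q19987, e3 q16439 (flp_e L231512) q19488, e3 q16440 L206709 q16237, e3 q16441 (flp_e L235075) q19907, e3 q16442 (flp_e L231532) q19490, e3 q16443 (flp_e L231556) q19492, e3 q16444 L206755 q12068, e3 q16445 L206761 q12069, e3 q16446 L206769 q12076, e3 q16447 L206781 q12077, trivial⟩ (by decide +kernel)

theorem ce_e_257 : ∀ r, r < 64 → sm ge (Qf (16448 + r)) = Qf (tab Gen.e (16448 + r)) :=
  edges_tab (sm ge) Qf (tab Gen.e) 16448 [(16448, 12078), (16449, 19893), (16450, 19504), (16451, 19988), (16452, 12083), (16453, 19989), (16454, 12086), (16455, 19991), (16456, 13445), (16457, 12094), (16458, 12095), (16459, 12100), (16460, 12101), (16461, 12107), (16462, 12108), (16463, 12109), (16464, 12110), (16465, 12111), (16466, 15626), (16467, 18129), (16468, 19992), (16469, 12117), (16470, 12132), (16471, 19553), (16472, 19993), (16473, 12137), (16474, 12139), (16475, 19995), (16476, 12141), (16477, 12142), (16478, 18709), (16479, 12144), (16480, 19997), (16481, 16820), (16482, 12146), (16483, 12147),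 (16484, 20001), (16485, 20002), (16486, 19627), (16487, 16347), (16488, 12150), (16489, 20005), (16490, 12152), (16491, 12153), (16492, 20006), (16493, 20007), (16494, 19585), (16495, 19588), (16496, 19592), (16497, 19593), (16498, 12175), (16499, 19314), (16500, 12179), (16501, 18168), (16502, 12182), (16503, 12185), (16504, 12186), (16505, 15578), (16506, 12191), (16507, 15575), (16508, 18699), (16509, 19954), (16510, 12193), (16511, 12194)]
    ⟨e3 q16448 L206793 q12078, e3 q16449 (flp_e L234941) q19893, e3 q16450 (flp_e L231654) q19504, e3 q16451 L235838 q19988, e3 q16452 (flp_e L206829) q12083, e3 q16453 L235846 q19989, e3 q16454 (flp_e L206847) q12086, e3 q16455 (flp_e L235876) q19991, e3 q16456 L206869 q13445, e3 q16457 L206877 q12094, e3 q16458 L206892 q12095, e3 q16459 L206904 q12100, e3 q16460 L206912 q12101, e3 q16461 L206922 q12107, e3 q16462 L206928 q12108, e3 q16463 L206938 q12109, e3 q16464 L206948 q12110, e3 q16465 L206962 q12111, e3 q16466 L206972 q15626, e3 q16467 (flp_e L220656) q18129, e3 q16468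 L235882 q19992, e3 q16469 (flp_e L206990) q12117, e3 q16470 (flp_e L206998) q12132, e3 q16471 (flp_e L232116) q19553, e3 q16472 L235894 q19993, e3 q16473 (flp_e L207025) q12137, e3 q16474 (flp_e L207033) q12139, e3 q16475 (flp_e L235914) q19995, e3 q16476 L207045 q12141, e3 q16477 L207055 q12142, e3 q16478 (flp_e L225530) q18709, e3 q16479 (flp_e L207069) q12144, e3 q16480 (flp_e L235934) q19997, e3 q16481 (flp_e L210003) q16820, e3 q16482 L207089 q12146, e3 q16483 L207097 q12147, e3 q16484 (flp_e L235968) q20001, e3 q16485 (flp_e L235976) q20002, e3 q16486 L232781 q19627, e3 q16487 L207126 q16347, e3 q16488 L207132 q12150, e3 q16489 (flp_e L236005) q20005, e3 q16490 L207144 q12152, e3 q16491 L207148 q12153, e3 q16492 (flp_e L236015) q20006, e3 q16493 (flp_e L236027) q20007, e3 q16494 (flp_e L232380) q19585, e3 q16495 (flp_e L232412) q19588, e3 q16496 (flp_e L232448) q19592, e3 q16497 (flp_e L232458) q19593, e3 q16498 (flp_e L207205) q12175, e3 q16499 (flp_e L229936) q19314, e3 q16500 L207227 q12179, e3 q16501 (flp_e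 L220938) q18168, e3 q16502 L207239 q12182, e3 q16503 L207249 q12185, e3 q16504 L207261 q12186, e3 q16505 (flp_e L207277) q15578, e3 q16506 (flp_e L207281) q12191, e3 q16507 L207299 q15575, e3 q16508 (flp_e L225443) q18699, e3 q16509 (flp_e L235521) q19954, e3 q16510 L207321 q12193, e3 q16511 L207329 q12194, trivial⟩ (by decide +kernel)

theorem ce_e_258 : ∀ r, r < 64 → sm ge (Qf (16512 + r)) = Qf (tab Gen.e (16512 + r)) :=
  edges_tab (sm ge) Qf (tab Gen.e) 16512 [(16512, 19957), (16513, 19958), (16514, 12198), (16515, 12199), (16516, 20014), (16517, 19207), (16518, 16411), (16519, 12203), (16520, 12205), (16521, 12206), (16522, 20016), (16523, 14912), (16524, 19663), (16525, 14910), (16526, 14008), (16527, 19664), (16528, 14640), (16529, 19586), (16530, 12227), (16531, 20019), (16532, 20018), (16533, 12229), (16534, 12233), (16535, 12234), (16536, 15130), (16537, 15131), (16538, 12238), (16539, 19537), (16540, 15275), (16541, 20023), (16542, 12242), (16543, 15129), (16544, 12243), (16545, 20026), (16546, 20025),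 (16547, 12245), (16548, 12251), (16549, 12250), (16550, 20031), (16551, 20029), (16552, 20030), (16553, 12253), (16554, 12254), (16555, 12257), (16556, 12258), (16557, 19739), (16558, 19741), (16559, 12616), (16560, 14757), (16561, 14946), (16562, 12783), (16563, 14670), (16564, 19371), (16565, 12286), (16566, 20039), (16567, 20038), (16568, 12288), (16569, 12292), (16570, 12293), (16571, 15118), (16572, 15119), (16573, 12296), (16574, 19309), (16575, 15222)]
    ⟨e3 q16512 (flp_e L235551) q19957, e3 q16513 (flp_e L235557) q19958, e3 q16514 L207345 q12198, e3 q16515 L207355 q12199, e3 q16516 (flp_e L236081) q20014, e3 q16517 (flp_e L228983) q19207, e3 q16518 L207381 q16411, e3 q16519 L207387 q12203, e3 q16520 L207395 q12205, e3 q16521 L207403 q12206, e3 q16522 (flp_e L236101) q20016, e3 q16523 (flp_e L207427) q14912, e3 q16524 (flp_e L233067) q19663, e3 q16525 L207441 q14910, e3 q16526 L207457 q14008, e3 q16527 (flp_e L233079) q19664, e3 q16528 L207473 q14640, e3 q16529 (flp_e L232392) q19586, e3 q16530 (flp_e L207485)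 q12227, e3 q16531 (flp_e L236133) q20019, e3 q16532 (flp_e L236127) q20018, e3 q16533 L207509 q12229, e3 q16534 L207517 q12233, e3 q16535 L207525 q12234, e3 q16536 L207533 q15130, e3 q16537 L207551 q15131, e3 q16538 L207561 q12238, e3 q16539 (flp_e L231976) q19537, e3 q16540 (flp_e L207583) q15275, e3 q16541 L236161 q20023, e3 q16542 (flp_e L207591) q12242, e3 q16543 L207609 q15129, e3 q16544 (flp_e L207612) q12243, e3 q16545 (flp_e L236187) q20026, e3 q16546 (flp_e L236179) q20025, e3 q16547 L207638 q12245, e3 q16548 L207644 q12251, e3 q16549 L207648 q12250, e3 q16550 (flp_e L236219) q20031, e3 q16551 (flp_e L236209) q20029, e3 q16552 (flp_e L236215) q20030, e3 q16553 L207668 q12253, e3 q16554 L207678 q12254, e3 q16555 L207684 q12257, e3 q16556 L207692 q12258, e3 q16557 (flp_e L233657) q19739, e3 q16558 (flp_e L233675) q19741, e3 q16559 L207718 q12616, e3 q16560 L207728 q14757, e3 q16561 L207736 q14946, e3 q16562 L207748 q12783, e3 q16563 L207758 q14670, e3 q16564 (flp_e L230378) q19371, e3 q16565 (flp_e L207770)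 q12286, e3 q16566 (flp_e L236272) q20039, e3 q16567 (flp_e L236266) q20038, e3 q16568 L207794 q12288, e3 q16569 L207800 q12292, e3 q16570 L207808 q12293, e3 q16571 L207818 q15118, e3 q16572 L207836 q15119, e3 q16573 L207846 q12296, e3 q16574 (flp_e L229886) q19309, e3 q16575 (flp_e L207870) q15222, trivial⟩ (by decide +kernel)

theorem ce_e_259 : ∀ r, r < 64 → sm ge (Qf (16576 + r)) = Qf (tab Gen.e (16576 + r)) :=
  edges_tab (sm ge) Qf (tab Gen.e) 16576 [(16576, 20043), (16577, 12301), (16578, 15117), (16579, 12302), (16580, 20046), (16581, 20045), (16582, 12304), (16583, 12310), (16584, 12309), (16585, 20051), (16586, 20049), (16587, 20050), (16588, 12312), (16589, 12313), (16590, 12316), (16591, 12317), (16592, 19833), (16593, 19835), (16594, 12610), (16595, 14778), (16596, 14994), (16597, 12808), (16598, 13504), (16599, 12337), (16600, 14947), (16601, 12342), (16602, 12344), (16603, 14380), (16604, 12357), (16605, 16618), (16606, 12359), (16607, 12360), (16608, 20063), (16609, 20064), (16610, 12364), (16611,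 12368), (16612, 12367), (16613, 20067), (16614, 20065), (16615, 16633), (16616, 20066), (16617, 12371), (16618, 16605), (16619, 12375), (16620, 20074), (16621, 13528), (16622, 12383), (16623, 14995), (16624, 12388), (16625, 12390), (16626, 14325), (16627, 12402), (16628, 16635), (16629, 12405), (16630, 12408), (16631, 20078), (16632, 20062), (16633, 16615), (16634, 12411), (16635, 16628), (16636, 12438), (16637, 12440), (16638, 12416), (16639, 12444)]
    ⟨e3 q16576 L236300 q20043, e3 q16577 (flp_e L207876) q12301, e3 q16578 L207894 q15117, e3 q16579 (flp_e L207897) q12302, e3 q16580 (flp_e L236326) q20046, e3 q16581 (flp_e L236318) q20045, e3 q16582 L207923 q12304, e3 q16583 L207929 q12310, e3 q16584 L207933 q12309, e3 q16585 (flp_e L236358) q20051, e3 q16586 (flp_e L236348) q20049, e3 q16587 (flp_e L236354) q20050, e3 q16588 L207953 q12312, e3 q16589 L207963 q12313, e3 q16590 L207969 q12316, e3 q16591 L207979 q12317, e3 q16592 (flp_e L234417) q19833, e3 q16593 (flp_e L234437) q19835, e3 q16594 L208007 q12610,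 e3 q16595 L208017 q14778, e3 q16596 L208025 q14994, e3 q16597 L208037 q12808, e3 q16598 L208051 q13504, e3 q16599 (flp_e L208057) q12337, e3 q16600 L208075 q14947, e3 q16601 (flp_e L208082) q12342, e3 q16602 L208096 q12344, e3 q16603 L208102 q14380, e3 q16604 (flp_e L208108) q12357, e3 q16605 (flp_e L208217) q16618, e3 q16606 L208126 q12359, e3 q16607 L208136 q12360, e3 q16608 (flp_e L236445) q20063, e3 q16609 (flp_e L236456) q20064, e3 q16610 L208161 q12364, e3 q16611 L208171 q12368, e3 q16612 L208179 q12367, e3 q16613 (flp_e L236482) q20067, e3 q16614 (flp_e L236466) q20065, e3 q16615 (flp_e L208347) q16633, e3 q16616 (flp_e L236476) q20066, e3 q16617 L208207 q12371, e3 q16618 L208217 q16605, e3 q16619 L208225 q12375, e3 q16620 (flp_e L236528) q20074, e3 q16621 L208248 q13528, e3 q16622 (flp_e L208254) q12383, e3 q16623 L208272 q14995, e3 q16624 (flp_e L208279) q12388, e3 q16625 L208293 q12390, e3 q16626 L208299 q14325, e3 q16627 (flp_e L208305) q12402, e3 q16628 (flp_e L208367) q16635, e3 q16629 L208321 q12405,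 e3 q16630 L208333 q12408, e3 q16631 (flp_e L236563) q20078, e3 q16632 (flp_e L236439) q20062, e3 q16633 L208347 q16615, e3 q16634 L208355 q12411, e3 q16635 L208367 q16628, e3 q16636 L208377 q12438, e3 q16637 L208385 q12440, e3 q16638 (flp_e L208395) q12416, e3 q16639 L208411 q12444, trivial⟩ (by decide +kernel)

theorem ce_e_260 : ∀ r, r < 64 → sm ge (Qf (16640 + r)) = Qf (tab Gen.e (16640 + r)) :=
  edges_tab (sm ge) Qf (tab Gen.e) 16640 [(16640, 12458), (16641, 12425), (16642, 12476), (16643, 12430), (16644, 12480), (16645, 14914), (16646, 14915), (16647, 20084), (16648, 15007), (16649, 12441), (16650, 12442), (16651, 13609), (16652, 12448), (16653, 20088), (16654, 13681), (16655, 20089), (16656, 12451), (16657, 14370), (16658, 12455), (16659, 12456), (16660, 17941), (16661, 14012), (16662, 12470), (16663, 14961), (16664, 14962), (16665, 20092), (16666, 15019), (16667, 12477), (16668, 12478), (16669, 13613), (16670, 12484), (16671, 20096), (16672, 13690), (16673, 20097), (16674, 12487), (16675, 14315), (16676,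 12491), (16677, 12492), (16678, 17951), (16679, 13993), (16680, 12826), (16681, 12830), (16682, 12841), (16683, 12842), (16684, 12843), (16685, 20106), (16686, 12845), (16687, 12846), (16688, 12847), (16689, 12848), (16690, 12849), (16691, 20114), (16692, 12851), (16693, 12852), (16694, 12567), (16695, 12568), (16696, 12870), (16697, 12871), (16698, 12872), (16699, 12873), (16700, 12874), (16701, 12875), (16702, 15488), (16703, 12877)]
    ⟨e3 q16640 L208427 q12458, e3 q16641 L208439 q12425, e3 q16642 L208447 q12476, e3 q16643 (flp_e L208457) q12430, e3 q16644 L208477 q12480, e3 q16645 L208487 q14914, e3 q16646 L208501 q14915, e3 q16647 L236605 q20084, e3 q16648 L208527 q15007, e3 q16649 (flp_e L208533) q12441, e3 q16650 (flp_e L208539) q12442, e3 q16651 L208547 q13609, e3 q16652 (flp_e L208554) q12448, e3 q16653 (flp_e L236653) q20088, e3 q16654 L208576 q13681, e3 q16655 L236657 q20089, e3 q16656 (flp_e L208594) q12451, e3 q16657 L208606 q14370, e3 q16658 L208612 q12455, e3 q16659 L208628 q12456, e3 q16660 (flp_e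 L219252) q17941, e3 q16661 L208638 q14012, e3 q16662 L208650 q12470, e3 q16663 L208660 q14961, e3 q16664 L208674 q14962, e3 q16665 L236687 q20092, e3 q16666 L208700 q15019, e3 q16667 (flp_e L208706) q12477, e3 q16668 (flp_e L208712) q12478, e3 q16669 L208720 q13613, e3 q16670 (flp_e L208727) q12484, e3 q16671 (flp_e L236735) q20096, e3 q16672 L208749 q13690, e3 q16673 L236739 q20097, e3 q16674 (flp_e L208767) q12487, e3 q16675 L208779 q14315, e3 q16676 L208785 q12491, e3 q16677 L208801 q12492, e3 q16678 (flp_e L219356) q17951, e3 q16679 L208811 q13993, e3 q16680 L208829 q12826, e3 q16681 L208835 q12830, e3 q16682 L208841 q12841, e3 q16683 L208847 q12842, e3 q16684 L208861 q12843, e3 q16685 L236827 q20106, e3 q16686 L208873 q12845, e3 q16687 L208881 q12846, e3 q16688 L208891 q12847, e3 q16689 L208897 q12848, e3 q16690 L208905 q12849, e3 q16691 L236911 q20114, e3 q16692 L208917 q12851, e3 q16693 L208925 q12852, e3 q16694 L208935 q12567, e3 q16695 L208945 q12568, e3 q16696 L208955 q12870, e3 q16697 L208961 q12871,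 e3 q16698 L208969 q12872, e3 q16699 L208977 q12873, e3 q16700 L208985 q12874, e3 q16701 L208995 q12875, e3 q16702 L209005 q15488, e3 q16703 L209011 q12877, trivial⟩ (by decide +kernel)

theorem ce_e_261 : ∀ r, r < 64 → sm ge (Qf (16704 + r)) = Qf (tab Gen.e (16704 + r)) :=
  edges_tab (sm ge) Qf (tab Gen.e) 16704 [(16704, 12878), (16705, 12882), (16706, 12883), (16707, 12884), (16708, 12885), (16709, 12886), (16710, 12887), (16711, 15384), (16712, 12889), (16713, 12890), (16714, 12570), (16715, 12571), (16716, 12572), (16717, 12573), (16718, 14143), (16719, 14140), (16720, 12576), (16721, 12577), (16722, 12578), (16723, 12579), (16724, 14152), (16725, 14148), (16726, 12924), (16727, 12929), (16728, 12930), (16729, 12931), (16730, 12940), (16731, 12945), (16732, 12946), (16733, 12947), (16734, 12585), (16735, 13150), (16736, 12587), (16737, 12591), (16738, 13210), (16739, 12592), (16740, 20133), (16741, 20134), (16742, 20136), (16743, 20137), (16744, 20146), (16745, 20149), (16746, 15109), (16747, 19261), (16748,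 19307), (16749, 15121), (16750, 19494), (16751, 19534), (16752, 17188), (16753, 12733), (16754, 12734), (16755, 12735), (16756, 12736), (16757, 12738), (16758, 12739), (16759, 12741), (16760, 17264), (16761, 12742), (16762, 12743), (16763, 12744), (16764, 12745), (16765, 12747), (16766, 12748), (16767, 12750)]
    ⟨e3 q16704 L209019 q12878, e3 q16705 L209027 q12882, e3 q16706 L209033 q12883, e3 q16707 L209041 q12884, e3 q16708 L209049 q12885, e3 q16709 L209057 q12886, e3 q16710 L209067 q12887, e3 q16711 L209077 q15384, e3 q16712 L209083 q12889, e3 q16713 L209091 q12890, e3 q16714 L209097 q12570, e3 q16715 L209111 q12571, e3 q16716 L209121 q12572, e3 q16717 L209129 q12573, e3 q16718 L209137 q14143, e3 q16719 L209149 q14140, e3 q16720 L209155 q12576, e3 q16721 L209169 q12577, e3 q16722 L209179 q12578, e3 q16723 L209187 q12579, e3 q16724 L209195 q14152, e3 q16725 L209207 q14148, e3 q16726 L209213 q12924, e3 q16727 L209221 q12929, e3 q16728 L209227 q12930, e3 q16729 L209237 q12931, e3 q16730 L209243 q12940, e3 q16731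 L209251 q12945, e3 q16732 L209257 q12946, e3 q16733 L209267 q12947, e3 q16734 L209275 q12585, e3 q16735 L209284 q13150, e3 q16736 L209290 q12587, e3 q16737 L209298 q12591, e3 q16738 L209307 q13210, e3 q16739 L209313 q12592, e3 q16740 (flp_e L237105) q20133, e3 q16741 (flp_e L237117) q20134, e3 q16742 (flp_e L237139) q20136, e3 q16743 (flp_e L237151) q20137, e3 q16744 (flp_e L237229) q20146, e3 q16745 (flp_e L237255) q20149, e3 q16746 L209383 q15109, e3 q16747 (flp_e L229434) q19261, e3 q16748 (flp_e L229864) q19307, e3 q16749 L209405 q15121, e3 q16750 (flp_e L231580) q19494, e3 q16751 (flp_e L231942) q19534, e3 q16752 (flp_e L212823) q17188, e3 q16753 L209431 q12733, e3 q16754 L209437 q12734, e3 q16755 L209451 q12735, e3 q16756 L209459 q12736, e3 q16757 L209471 q12738, e3 q16758 L209481 q12739, e3 q16759 L209491 q12741, e3 q16760 (flp_e L213325) q17264, e3 q16761 L209503 q12742, e3 q16762 L209509 q12743, e3 q16763 L209523 q12744, e3 q16764 L209531 q12745, e3 q16765 L209543 q12747, e3 q16766 L209553 q12748, e3 q16767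 L209563 q12750, trivial⟩ (by decide +kernel)

theorem ce_e_262 : ∀ r, r < 64 → sm ge (Qf (16768 + r)) = Qf (tab Gen.e (16768 + r)) :=
  edges_tab (sm ge) Qf (tab Gen.e) 16768 [(16768, 12775), (16769, 14892), (16770, 16258), (16771, 12797), (16772, 12794), (16773, 12800), (16774, 14861), (16775, 16229), (16776, 12772), (16777, 12769), (16778, 15800), (16779, 12759), (16780, 12665), (16781, 20165), (16782, 20168), (16783, 12670), (16784, 19749), (16785, 20169), (16786, 19500), (16787, 12765), (16788, 15951), (16789, 20172), (16790, 12675), (16791, 19625), (16792, 12768), (16793, 12774), (16794, 16340), (16795, 12776), (16796, 12777), (16797, 15961), (16798, 12685), (16799, 20177), (16800, 12687), (16801, 19618), (16802, 12781), (16803, 12782), (16804, 15554), (16805, 12784), (16806, 12694), (16807, 20182), (16808, 20185), (16809, 12699), (16810, 19845), (16811, 20186), (16812, 19264), (16813, 12790), (16814, 15724), (16815, 20189), (16816, 12704), (16817, 19423), (16818, 12793), (16819, 12799), (16820, 16481), (16821,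 12801), (16822, 12802), (16823, 15736), (16824, 12714), (16825, 20194), (16826, 12716), (16827, 19413), (16828, 12806), (16829, 12807), (16830, 12721), (16831, 19748)]
    ⟨e3 q16768 L209571 q12775, e3 q16769 L209583 q14892, e3 q16770 L209595 q16258, e3 q16771 L209605 q12797, e3 q16772 L209619 q12794, e3 q16773 L209629 q12800, e3 q16774 L209641 q14861, e3 q16775 L209653 q16229, e3 q16776 L209663 q12772, e3 q16777 L209677 q12769, e3 q16778 L209687 q15800, e3 q16779 L209695 q12759, e3 q16780 L209707 q12665, e3 q16781 (flp_e L237389) q20165, e3 q16782 L237403 q20168, e3 q16783 L209723 q12670, e3 q16784 (flp_e L233743) q19749, e3 q16785 (flp_e L237417) q20169, e3 q16786 (flp_e L231640) q19500, e3 q16787 L209743 q12765, e3 q16788 L209757 q15951, e3 q16789 L237435 q20172, e3 q16790 (flp_e L209763) q12675, e3 q16791 (flp_e L232761) q19625, e3 q16792 L209779 q12768, e3 q16793 L209793 q12774, e3 q16794 L209801 q16340, e3 q16795 L209807 q12776, e3 q16796 L209815 q12777, e3 q16797 L209827 q15961, e3 q16798 (flp_e L209831)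 q12685, e3 q16799 (flp_e L237491) q20177, e3 q16800 L209849 q12687, e3 q16801 (flp_e L232684) q19618, e3 q16802 L209863 q12781, e3 q16803 L209875 q12782, e3 q16804 L209889 q15554, e3 q16805 L209897 q12784, e3 q16806 L209909 q12694, e3 q16807 (flp_e L237535) q20182, e3 q16808 L237549 q20185, e3 q16809 L209925 q12699, e3 q16810 (flp_e L234535) q19845, e3 q16811 (flp_e L237563) q20186, e3 q16812 (flp_e L229460) q19264, e3 q16813 L209945 q12790, e3 q16814 L209959 q15724, e3 q16815 L237581 q20189, e3 q16816 (flp_e L209965) q12704, e3 q16817 (flp_e L230982) q19423, e3 q16818 L209981 q12793, e3 q16819 L209995 q12799, e3 q16820 L210003 q16481, e3 q16821 L210009 q12801, e3 q16822 L210019 q12802, e3 q16823 L210029 q15736, e3 q16824 (flp_e L210033) q12714, e3 q16825 (flp_e L237637) q20194, e3 q16826 L210051 q12716, e3 q16827 (flp_e L230736) q19413, e3 q16828 L210065 q12806, e3 q16829 L210077 q12807, e3 q16830 L210089 q12721, e3 q16831 (flp_e L233731) q19748, trivial⟩ (by decide +kernel)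

theorem ce_e_263 : ∀ r, r < 64 → sm ge (Qf (16832 + r)) = Qf (tab Gen.e (16832 + r)) :=
  edges_tab (sm ge) Qf (tab Gen.e) 16832 [(16832, 19543), (16833, 14060), (16834, 19544), (16835, 18107), (16836, 12812), (16837, 12728), (16838, 19844), (16839, 19316), (16840, 14113), (16841, 19317), (16842, 18161), (16843, 12816), (16844, 20155), (16845, 20156), (16846, 20160), (16847, 20161), (16848, 14393), (16849, 14737), (16850, 14338), (16851, 14718), (16852, 12761), (16853, 12762), (16854, 12764), (16855, 18172), (16856, 17604), (16857, 17612), (16858, 17614), (16859, 14390), (16860, 12779), (16861, 12786), (16862, 12787), (16863, 12789), (16864, 18118), (16865, 17576), (16866, 17584), (16867, 17586), (16868, 14335), (16869, 12804), (16870, 20201), (16871, 20205), (16872, 17878), (16873, 14288), (16874, 17881), (16875, 17882), (16876, 16975), (16877, 20100), (16878, 16973), (16879, 17902), (16880, 14343), (16881, 17905), (16882, 17906), (16883, 17001), (16884, 20101), (16885, 16998), (16886, 16887), (16887, 16886),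 (16888, 20102), (16889, 18473), (16890, 20104), (16891, 16987), (16892, 14290), (16893, 12844), (16894, 20222), (16895, 20108)]
    ⟨e3 q16832 (flp_e L232042) q19543, e3 q16833 (flp_e L210115) q14060, e3 q16834 (flp_e L232046) q19544, e3 q16835 (flp_e L220448) q18107, e3 q16836 L210133 q12812, e3 q16837 L210139 q12728, e3 q16838 (flp_e L234523) q19844, e3 q16839 (flp_e L229964) q19316, e3 q16840 (flp_e L210167) q14113, e3 q16841 (flp_e L229968) q19317, e3 q16842 (flp_e L220878) q18161, e3 q16843 L210183 q12816, e3 q16844 (flp_e L237299) q20155, e3 q16845 (flp_e L237311) q20156, e3 q16846 (flp_e L237340) q20160, e3 q16847 (flp_e L237352) q20161, e3 q16848 L210217 q14393, e3 q16849 L210223 q14737, e3 q16850 L210238 q14338, e3 q16851 L210244 q14718, e3 q16852 L210253 q12761, e3 q16853 (flp_e L210263) q12762, e3 q16854 L210277 q12764, e3 q16855 (flp_e L220976) q18172, e3 q16856 (flp_e L216363) q17604, e3 q16857 L216421 q17612, e3 q16858 (flp_e L216437) q17614, e3 q16859 L210327 q14390, e3 q16860 L210335 q12779, e3 q16861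 L210341 q12786, e3 q16862 (flp_e L210351) q12787, e3 q16863 L210365 q12789, e3 q16864 (flp_e L220546) q18118, e3 q16865 (flp_e L216165) q17576, e3 q16866 L216223 q17584, e3 q16867 (flp_e L216239) q17586, e3 q16868 L210415 q14335, e3 q16869 L210423 q12804, e3 q16870 (flp_e L237701) q20201, e3 q16871 (flp_e L237743) q20205, e3 q16872 (flp_e L218632) q17878, e3 q16873 L210471 q14288, e3 q16874 (flp_e L218662) q17881, e3 q16875 (flp_e L218668) q17882, e3 q16876 (flp_e L211230) q16975, e3 q16877 (flp_e L236771) q20100, e3 q16878 (flp_e L211214) q16973, e3 q16879 (flp_e L218864) q17902, e3 q16880 L210525 q14343, e3 q16881 (flp_e L218894) q17905, e3 q16882 (flp_e L218900) q17906, e3 q16883 (flp_e L211433) q17001, e3 q16884 (flp_e L236777) q20101, e3 q16885 (flp_e L211407) q16998, e3 q16886 (flp_e L210577) q16887, e3 q16887 L210577 q16886, e3 q16888 (flp_e L236789) q20102, e3 q16889 (flp_e L223613) q18473, e3 q16890 (flp_e L236811) q20104, e3 q16891 (flp_e L211322) q16987, e3 q16892 (flp_e L210619) q14290, e3 q16893 (flp_e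 L210621) q12844, e3 q16894 (flp_e L237905) q20222, e3 q16895 (flp_e L236847) q20108, trivial⟩ (by decide +kernel)

theorem ce_e_264 : ∀ r, r < 64 → sm ge (Qf (16896 + r)) = Qf (tab Gen.e (16896 + r)) :=
  edges_tab (sm ge) Qf (tab Gen.e) 16896 [(16896, 20109), (16897, 16899), (16898, 20110), (16899, 16897), (16900, 18504), (16901, 20112), (16902, 17012), (16903, 14346), (16904, 12850), (16905, 20229), (16906, 20116), (16907, 20117), (16908, 15023), (16909, 13255), (16910, 15027), (16911, 13256), (16912, 14648), (16913, 18481), (16914, 15602), (16915, 20118), (16916, 20120), (16917, 20121), (16918, 16992), (16919, 20122), (16920, 20123), (16921, 19818), (16922, 20124), (16923, 16981), (16924, 14678), (16925, 18508), (16926, 15839), (16927, 20125), (16928, 20127), (16929, 20128), (16930, 16967), (16931, 20129), (16932, 20130), (16933, 19725), (16934, 20131), (16935, 17006), (16936, 12894), (16937, 19399), (16938, 20260), (16939, 20261), (16940, 13259), (16941, 13260), (16942, 13261), (16943, 13262), (16944, 13263),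 (16945, 13264), (16946, 13265), (16947, 13209), (16948, 13266), (16949, 13267), (16950, 13269), (16951, 12909), (16952, 19605), (16953, 20271), (16954, 20272), (16955, 13272), (16956, 13273), (16957, 13274), (16958, 13275), (16959, 13276)]
    ⟨e3 q16896 (flp_e L236861) q20109, e3 q16897 (flp_e L210669) q16899, e3 q16898 (flp_e L236873) q20110, e3 q16899 L210669 q16897, e3 q16900 (flp_e L223919) q18504, e3 q16901 (flp_e L236895) q20112, e3 q16902 (flp_e L211527) q17012, e3 q16903 (flp_e L210715) q14346, e3 q16904 (flp_e L210717) q12850, e3 q16905 (flp_e L237947) q20229, e3 q16906 (flp_e L236931) q20116, e3 q16907 (flp_e L236945) q20117, e3 q16908 L210747 q15023, e3 q16909 L210755 q13255, e3 q16910 L210763 q15027, e3 q16911 L210771 q13256, e3 q16912 L210777 q14648, e3 q16913 (flp_e L223689) q18481, e3 q16914 L210799 q15602, e3 q16915 (flp_e L236953) q20118, e3 q16916 (flp_e L236981) q20120, e3 q16917 (flp_e L236987) q20121, e3 q16918 (flp_e L211364) q16992, e3 q16919 (flp_e L236995) q20122, e3 q16920 (flp_e L237005)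 q20123, e3 q16921 (flp_e L234293) q19818, e3 q16922 (flp_e L237015) q20124, e3 q16923 (flp_e L211274) q16981, e3 q16924 L210861 q14678, e3 q16925 (flp_e L223959) q18508, e3 q16926 L210883 q15839, e3 q16927 (flp_e L237023) q20125, e3 q16928 (flp_e L237051) q20127, e3 q16929 (flp_e L237057) q20128, e3 q16930 (flp_e L211173) q16967, e3 q16931 (flp_e L237065) q20129, e3 q16932 (flp_e L237075) q20130, e3 q16933 (flp_e L233547) q19725, e3 q16934 (flp_e L237085) q20131, e3 q16935 (flp_e L211473) q17006, e3 q16936 L210945 q12894, e3 q16937 (flp_e L230646) q19399, e3 q16938 (flp_e L238147) q20260, e3 q16939 (flp_e L238157) q20261, e3 q16940 L210961 q13259, e3 q16941 L210969 q13260, e3 q16942 L210979 q13261, e3 q16943 L210985 q13262, e3 q16944 L210995 q13263, e3 q16945 L211001 q13264, e3 q16946 L211009 q13265, e3 q16947 L211019 q13209, e3 q16948 L211027 q13266, e3 q16949 L211039 q13267, e3 q16950 L211047 q13269, e3 q16951 L211053 q12909, e3 q16952 (flp_e L232578) q19605, e3 q16953 (flp_e L238239) q20271, e3 q16954 (flp_e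 L238249) q20272, e3 q16955 L211069 q13272, e3 q16956 L211077 q13273, e3 q16957 L211087 q13274, e3 q16958 L211093 q13275, e3 q16959 L211103 q13276, trivial⟩ (by decide +kernel)

theorem ce_e_265 : ∀ r, r < 64 → sm ge (Qf (16960 + r)) = Qf (tab Gen.e (16960 + r)) :=
  edges_tab (sm ge) Qf (tab Gen.e) 16960 [(16960, 13277), (16961, 13278), (16962, 13151), (16963, 13279), (16964, 13281), (16965, 13282), (16966, 15151), (16967, 16930), (16968, 18840), (16969, 15452), (16970, 19118), (16971, 20287), (16972, 19120), (16973, 16878), (16974, 17013), (16975, 16876), (16976, 14891), (16977, 17014), (16978, 15100), (16979, 17015), (16980, 20139), (16981, 16923), (16982, 20298), (16983, 20140), (16984, 20141), (16985, 17010), (16986, 17011), (16987, 16891), (16988, 16999), (16989, 17002), (16990, 17004), (16991, 15185), (16992, 16918), (16993, 18896), (16994, 15348), (16995, 18979), (16996, 20307), (16997, 18981), (16998, 16885), (16999, 16988), (17000, 14860), (17001, 16883), (17002, 16989), (17003, 15090), (17004, 16990),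 (17005, 20143), (17006, 16935), (17007, 20318), (17008, 20144), (17009, 20145), (17010, 16985), (17011, 16986), (17012, 16902), (17013, 16974), (17014, 16977), (17015, 16979), (17016, 12953), (17017, 14458), (17018, 15031), (17019, 17520), (17020, 17523), (17021, 12960), (17022, 12963), (17023, 18535)]
    ⟨e3 q16960 L211109 q13277, e3 q16961 L211117 q13278, e3 q16962 L211127 q13151, e3 q16963 L211135 q13279, e3 q16964 L211147 q13281, e3 q16965 L211155 q13282, e3 q16966 L211161 q15151, e3 q16967 L211173 q16930, e3 q16968 (flp_e L226341) q18840, e3 q16969 L211193 q15452, e3 q16970 (flp_e L228296) q19118, e3 q16971 L238366 q20287, e3 q16972 (flp_e L228315) q19120, e3 q16973 L211214 q16878, e3 q16974 (flp_e L211535) q17013, e3 q16975 L211230 q16876, e3 q16976 L211238 q14891, e3 q16977 (flp_e L211543) q17014, e3 q16978 L211252 q15100, e3 q16979 (flp_e L211553) q17015, e3 q16980 (flp_e L237169) q20139, e3 q16981 L211274 q16923, e3 q16982 L238459 q20298, e3 q16983 (flp_e L237179) q20140, e3 q16984 (flp_e L237187) q20141,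 e3 q16985 (flp_e L211503) q17010, e3 q16986 (flp_e L211517) q17011, e3 q16987 L211322 q16891, e3 q16988 (flp_e L211415) q16999, e3 q16989 (flp_e L211441) q17002, e3 q16990 (flp_e L211459) q17004, e3 q16991 L211352 q15185, e3 q16992 L211364 q16918, e3 q16993 (flp_e L226739) q18896, e3 q16994 L211384 q15348, e3 q16995 (flp_e L227354) q18979, e3 q16996 L238522 q20307, e3 q16997 (flp_e L227375) q18981, e3 q16998 L211407 q16885, e3 q16999 L211415 q16988, e3 q17000 L211423 q14860, e3 q17001 L211433 q16883, e3 q17002 L211441 q16989, e3 q17003 L211449 q15090, e3 q17004 L211459 q16990, e3 q17005 (flp_e L237203) q20143, e3 q17006 L211473 q16935, e3 q17007 L238615 q20318, e3 q17008 (flp_e L237213) q20144, e3 q17009 (flp_e L237221) q20145, e3 q17010 L211503 q16985, e3 q17011 L211517 q16986, e3 q17012 L211527 q16902, e3 q17013 L211535 q16974, e3 q17014 L211543 q16977, e3 q17015 L211553 q16979, e3 q17016 (flp_e L211559) q12953, e3 q17017 L211581 q14458, e3 q17018 L211591 q15031, e3 q17019 (flp_e L215705) q17520, e3 q17020 (flp_e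 L215729) q17523, e3 q17021 (flp_e L211607) q12960, e3 q17022 L211623 q12963, e3 q17023 (flp_e L224197) q18535, trivial⟩ (by decide +kernel)

theorem ce_e_266 : ∀ r, r < 64 → sm ge (Qf (17024 + r)) = Qf (tab Gen.e (17024 + r)) :=
  edges_tab (sm ge) Qf (tab Gen.e) 17024 [(17024, 18407), (17025, 18257), (17026, 13286), (17027, 13287), (17028, 13288), (17029, 18275), (17030, 13289), (17031, 12973), (17032, 17563), (17033, 20327), (17034, 20328), (17035, 13293), (17036, 13294), (17037, 13295), (17038, 13296), (17039, 13297), (17040, 12978), (17041, 19751), (17042, 17708), (17043, 19750), (17044, 13302), (17045, 13303), (17046, 19736), (17047, 13304), (17048, 13305), (17049, 19480), (17050, 13306), (17051, 20342), (17052, 12985), (17053, 19809), (17054, 13308), (17055, 12989), (17056, 12990), (17057, 12991), (17058, 12992), (17059, 18284), (17060, 20345), (17061, 14063), (17062, 20346), (17063, 20347), (17064, 20348), (17065, 20349), (17066, 13793), (17067, 13313), (17068, 13314), (17069, 20359), (17070, 20360), (17071,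 12995), (17072, 20361), (17073, 13318), (17074, 13319), (17075, 13320), (17076, 13321), (17077, 13322), (17078, 13323), (17079, 13324), (17080, 17653), (17081, 13325), (17082, 13326), (17083, 13327), (17084, 13328), (17085, 20374), (17086, 13330), (17087, 13331)]
    ⟨e3 q17024 (flp_e L223139) q18407, e3 q17025 (flp_e L221612) q18257, e3 q17026 L211645 q13286, e3 q17027 L211657 q13287, e3 q17028 L211665 q13288, e3 q17029 (flp_e L221732) q18275, e3 q17030 L211683 q13289, e3 q17031 L211695 q12973, e3 q17032 (flp_e L216079) q17563, e3 q17033 (flp_e L238697) q20327, e3 q17034 (flp_e L238713) q20328, e3 q17035 L211719 q13293, e3 q17036 L211725 q13294, e3 q17037 L211733 q13295, e3 q17038 L211743 q13296, e3 q17039 L211747 q13297, e3 q17040 L211753 q12978, e3 q17041 (flp_e L233763) q19751, e3 q17042 (flp_e L217170) q17708, e3 q17043 (flp_e L233751) q19750, e3 q17044 L211769 q13302, e3 q17045 L211777 q13303, e3 q17046 (flp_e L233631) q19736, e3 q17047 L211793 q13304, e3 q17048 L211799 q13305, e3 q17049 (flp_e L231434) q19480,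 e3 q17050 L211819 q13306, e3 q17051 L238861 q20342, e3 q17052 (flp_e L211827) q12985, e3 q17053 (flp_e L234221) q19809, e3 q17054 L211837 q13308, e3 q17055 L211847 q12989, e3 q17056 L211853 q12990, e3 q17057 L211861 q12991, e3 q17058 L211869 q12992, e3 q17059 (flp_e L221792) q18284, e3 q17060 (flp_e L238881) q20345, e3 q17061 (flp_e L211895) q14063, e3 q17062 (flp_e L238899) q20346, e3 q17063 (flp_e L238909) q20347, e3 q17064 (flp_e L238921) q20348, e3 q17065 (flp_e L238935) q20349, e3 q17066 L211925 q13793, e3 q17067 L211933 q13313, e3 q17068 L211945 q13314, e3 q17069 L239037 q20359, e3 q17070 L239049 q20360, e3 q17071 (flp_e L211969) q12995, e3 q17072 (flp_e L239065) q20361, e3 q17073 L211983 q13318, e3 q17074 L211989 q13319, e3 q17075 L211995 q13320, e3 q17076 L212001 q13321, e3 q17077 L212005 q13322, e3 q17078 L212015 q13323, e3 q17079 L212021 q13324, e3 q17080 (flp_e L216715) q17653, e3 q17081 L212033 q13325, e3 q17082 L212041 q13326, e3 q17083 L212049 q13327, e3 q17084 L212055 q13328, e3 q17085 L239157 q20374,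 e3 q17086 L212069 q13330, e3 q17087 L212077 q13331, trivial⟩ (by decide +kernel)

theorem ce_e_267 : ∀ r, r < 64 → sm ge (Qf (17088 + r)) = Qf (tab Gen.e (17088 + r)) :=
  edges_tab (sm ge) Qf (tab Gen.e) 17088 [(17088, 13332), (17089, 13069), (17090, 13333), (17091, 13094), (17092, 13334), (17093, 13335), (17094, 13336), (17095, 15246), (17096, 13337), (17097, 17670), (17098, 17671), (17099, 17672), (17100, 13338), (17101, 13339), (17102, 13340), (17103, 20388), (17104, 20389), (17105, 13023), (17106, 20391), (17107, 13029), (17108, 15032), (17109, 14507), (17110, 17525), (17111, 17521), (17112, 13036), (17113, 13038), (17114, 18465), (17115, 18314), (17116, 18539), (17117, 13346), (17118, 13347), (17119, 13348), (17120, 18332), (17121, 13047), (17122, 20396), (17123, 20397), (17124, 17591), (17125, 13353), (17126, 13354), (17127, 13355), (17128, 13356), (17129, 13357), (17130, 13053), (17131, 19843), (17132, 17636), (17133, 19842), (17134, 13362), (17135, 13363), (17136, 19829), (17137, 13364), (17138, 13365),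 (17139, 19240), (17140, 20404), (17141, 13059), (17142, 19715), (17143, 13367), (17144, 13063), (17145, 13064), (17146, 13065), (17147, 13066), (17148, 18341), (17149, 20351), (17150, 14115), (17151, 20407)]
    ⟨e3 q17088 L212083 q13332, e3 q17089 L212097 q13069, e3 q17090 L212105 q13333, e3 q17091 L212113 q13094, e3 q17092 L212119 q13334, e3 q17093 L212127 q13335, e3 q17094 L212137 q13336, e3 q17095 L212151 q15246, e3 q17096 L212155 q13337, e3 q17097 (flp_e L216859) q17670, e3 q17098 (flp_e L216863) q17671, e3 q17099 (flp_e L216875) q17672, e3 q17100 L212179 q13338, e3 q17101 L212191 q13339, e3 q17102 L212199 q13340, e3 q17103 L239289 q20388, e3 q17104 L239299 q20389, e3 q17105 (flp_e L212215) q13023, e3 q17106 (flp_e L239317) q20391, e3 q17107 (flp_e L212227) q13029, e3 q17108 L212247 q15032, e3 q17109 L212259 q14507, e3 q17110 (flp_e L215745) q17525, e3 q17111 (flp_e L215715) q17521, e3 q17112 (flp_e L212275) q13036, e3 q17113 L212291 q13038, e3 q17114 (flp_e L223549) q18465, e3 q17115 (flp_e L222048) q18314,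 e3 q17116 (flp_e L224243) q18539, e3 q17117 L212313 q13346, e3 q17118 L212325 q13347, e3 q17119 L212333 q13348, e3 q17120 (flp_e L222166) q18332, e3 q17121 L212351 q13047, e3 q17122 (flp_e L239361) q20396, e3 q17123 (flp_e L239377) q20397, e3 q17124 (flp_e L216277) q17591, e3 q17125 L212375 q13353, e3 q17126 L212383 q13354, e3 q17127 L212389 q13355, e3 q17128 L212393 q13356, e3 q17129 L212397 q13357, e3 q17130 L212409 q13053, e3 q17131 (flp_e L234515) q19843, e3 q17132 L216599 q17636, e3 q17133 (flp_e L234501) q19842, e3 q17134 L212425 q13362, e3 q17135 L212433 q13363, e3 q17136 (flp_e L234379) q19829, e3 q17137 L212449 q13364, e3 q17138 L212455 q13365, e3 q17139 (flp_e L229240) q19240, e3 q17140 L239439 q20404, e3 q17141 (flp_e L212471) q13059, e3 q17142 (flp_e L233467) q19715, e3 q17143 L212481 q13367, e3 q17144 L212491 q13063, e3 q17145 L212497 q13064, e3 q17146 L212505 q13065, e3 q17147 L212513 q13066, e3 q17148 (flp_e L222273) q18341, e3 q17149 (flp_e L238961) q20351, e3 q17150 (flp_e L212539) q14115, e3 q17151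 (flp_e L239463) q20407, trivial⟩ (by decide +kernel)

theorem ce_e_268 : ∀ r, r < 64 → sm ge (Qf (17152 + r)) = Qf (tab Gen.e (17152 + r)) :=
  edges_tab (sm ge) Qf (tab Gen.e) 17152 [(17152, 20408), (17153, 13843), (17154, 13372), (17155, 13373), (17156, 20378), (17157, 20379), (17158, 20380), (17159, 13343), (17160, 13374), (17161, 13375), (17162, 13376), (17163, 13377), (17164, 13378), (17165, 13379), (17166, 17723), (17167, 13380), (17168, 13381), (17169, 13316), (17170, 20421), (17171, 13383), (17172, 13384), (17173, 13315), (17174, 13317), (17175, 13341), (17176, 13342), (17177, 15298), (17178, 17738), (17179, 17739), (17180, 17740), (17181, 13385), (17182, 13386), (17183, 20381), (17184, 20382), (17185, 20362), (17186, 13392), (17187, 15057), (17188, 16752), (17189, 15532), (17190, 18350), (17191, 13393), (17192, 13395), (17193, 13116), (17194, 14061), (17195, 13119), (17196, 13120), (17197, 13121), (17198, 13123), (17199, 14577), (17200, 17436), (17201, 14573), (17202, 14062), (17203, 20435), (17204, 17729),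 (17205, 19696), (17206, 20436), (17207, 20437), (17208, 18373), (17209, 19713), (17210, 19232), (17211, 15248), (17212, 19233), (17213, 19234), (17214, 13125), (17215, 20450)]
    ⟨e3 q17152 (flp_e L239473) q20408, e3 q17153 L212569 q13843, e3 q17154 L212577 q13372, e3 q17155 L212589 q13373, e3 q17156 (flp_e L239199) q20378, e3 q17157 (flp_e L239207) q20379, e3 q17158 (flp_e L239221) q20380, e3 q17159 L212619 q13343, e3 q17160 L212625 q13374, e3 q17161 L212631 q13375, e3 q17162 L212637 q13376, e3 q17163 L212641 q13377, e3 q17164 L212651 q13378, e3 q17165 L212657 q13379, e3 q17166 (flp_e L217288) q17723, e3 q17167 L212669 q13380, e3 q17168 L212677 q13381, e3 q17169 L212683 q13316, e3 q17170 L239597 q20421, e3 q17171 L212695 q13383, e3 q17172 L212705 q13384, e3 q17173 L212711 q13315, e3 q17174 L212725 q13317, e3 q17175 L212731 q13341, e3 q17176 L212739 q13342, e3 q17177 L212751 q15298, e3 q17178 (flp_e L217422) q17738, e3 q17179 (flp_e L217426) q17739, e3 q17180 (flp_e L217438) q17740, e3 q17181 L212771 q13385, e3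 q17182 L212779 q13386, e3 q17183 (flp_e L239229) q20381, e3 q17184 (flp_e L239237) q20382, e3 q17185 (flp_e L239073) q20362, e3 q17186 L212803 q13392, e3 q17187 L212813 q15057, e3 q17188 L212823 q16752, e3 q17189 L212831 q15532, e3 q17190 (flp_e L222365) q18350, e3 q17191 L212843 q13393, e3 q17192 L212849 q13395, e3 q17193 L212857 q13116, e3 q17194 L212867 q14061, e3 q17195 L212873 q13119, e3 q17196 L212879 q13120, e3 q17197 L212889 q13121, e3 q17198 L212895 q13123, e3 q17199 L212903 q14577, e3 q17200 (flp_e L214894) q17436, e3 q17201 L212927 q14573, e3 q17202 L212939 q14062, e3 q17203 (flp_e L239739) q20435, e3 q17204 (flp_e L217338) q17729, e3 q17205 (flp_e L233309) q19696, e3 q17206 (flp_e L239745) q20436, e3 q17207 (flp_e L239755) q20437, e3 q17208 (flp_e L222918) q18373, e3 q17209 (flp_e L233449) q19713, e3 q17210 (flp_e L229166) q19232, e3 q17211 (flp_e L212989) q15248, e3 q17212 (flp_e L229172) q19233, e3 q17213 (flp_e L229182) q19234, e3 q17214 (flp_e L213003) q13125, e3 q17215 (flp_e L239863) q20450, trivial⟩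 (by decide +kernel)

theorem ce_e_269 : ∀ r, r < 64 → sm ge (Qf (17216 + r)) = Qf (tab Gen.e (17216 + r)) :=
  edges_tab (sm ge) Qf (tab Gen.e) 17216 [(17216, 13408), (17217, 13409), (17218, 13410), (17219, 13411), (17220, 13128), (17221, 20453), (17222, 13130), (17223, 19540), (17224, 20419), (17225, 13414), (17226, 13415), (17227, 13382), (17228, 13417), (17229, 13418), (17230, 13419), (17231, 13421), (17232, 13139), (17233, 20279), (17234, 13423), (17235, 13142), (17236, 20457), (17237, 20458), (17238, 15817), (17239, 13428), (17240, 13429), (17241, 20464), (17242, 13145), (17243, 20147), (17244, 20278), (17245, 13431), (17246, 13432), (17247, 20469), (17248, 13148), (17249, 20148), (17250, 20280), (17251, 18841), (17252, 20281), (17253, 13433), (17254, 20480), (17255, 13154), (17256, 20483), (17257, 19331), (17258, 13156), (17259, 13157), (17260, 15643), (17261, 19320), (17262, 13443), (17263, 15062), (17264, 16760), (17265, 18412), (17266, 15776), (17267, 13446), (17268, 13448), (17269, 13175), (17270, 14114),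 (17271, 13178), (17272, 13179), (17273, 13180), (17274, 13182), (17275, 14627), (17276, 17461), (17277, 14625), (17278, 14116), (17279, 20493)]
    ⟨e3 q17216 L213025 q13408, e3 q17217 L213031 q13409, e3 q17218 L213039 q13410, e3 q17219 L213045 q13411, e3 q17220 (flp_e L213049) q13128, e3 q17221 (flp_e L239893) q20453, e3 q17222 L213065 q13130, e3 q17223 (flp_e L232000) q19540, e3 q17224 (flp_e L239589) q20419, e3 q17225 L213083 q13414, e3 q17226 L213091 q13415, e3 q17227 L213095 q13382, e3 q17228 L213103 q13417, e3 q17229 L213109 q13418, e3 q17230 L213119 q13419, e3 q17231 L213127 q13421, e3 q17232 (flp_e L213131) q13139, e3 q17233 (flp_e L238313) q20279, e3 q17234 L213147 q13423, e3 q17235 (flp_e L213151) q13142, e3 q17236 (flp_e L239935) q20457, e3 q17237 (flp_e L239941) q20458, e3 q17238 L213167 q15817, e3 q17239 L213171 q13428, e3 q17240 L213175 q13429, e3 q17241 L239997 q20464, e3 q17242 (flp_e L213183) q13145, e3 q17243 (flp_e L237245) q20147, e3 q17244 (flp_e L238305) q20278, e3 q17245 L213205 q13431, e3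 q17246 L213215 q13432, e3 q17247 L240033 q20469, e3 q17248 (flp_e L213223) q13148, e3 q17249 (flp_e L237249) q20148, e3 q17250 (flp_e L238317) q20280, e3 q17251 (flp_e L226353) q18841, e3 q17252 (flp_e L238327) q20281, e3 q17253 L213251 q13433, e3 q17254 L240103 q20480, e3 q17255 (flp_e L213256) q13154, e3 q17256 (flp_e L240125) q20483, e3 q17257 (flp_e L230084) q19331, e3 q17258 L213276 q13156, e3 q17259 L213285 q13157, e3 q17260 L213291 q15643, e3 q17261 L229998 q19320, e3 q17262 L213305 q13443, e3 q17263 L213315 q15062, e3 q17264 L213325 q16760, e3 q17265 (flp_e L223179) q18412, e3 q17266 L213337 q15776, e3 q17267 L213345 q13446, e3 q17268 L213351 q13448, e3 q17269 L213359 q13175, e3 q17270 L213369 q14114, e3 q17271 L213375 q13178, e3 q17272 L213381 q13179, e3 q17273 L213391 q13180, e3 q17274 L213397 q13182, e3 q17275 L213405 q14627, e3 q17276 (flp_e L215133) q17461, e3 q17277 L213429 q14625, e3 q17278 L213441 q14116, e3 q17279 (flp_e L240217) q20493, trivial⟩ (by decide +kernel)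

theorem ce_e_270 : ∀ r, r < 64 → sm ge (Qf (17280 + r)) = Qf (tab Gen.e (17280 + r)) :=
  edges_tab (sm ge) Qf (tab Gen.e) 17280 [(17280, 17660), (17281, 19791), (17282, 20494), (17283, 20495), (17284, 18438), (17285, 19808), (17286, 19474), (17287, 15301), (17288, 19475), (17289, 19476), (17290, 13184), (17291, 20508), (17292, 13460), (17293, 13461), (17294, 13462), (17295, 13463), (17296, 13187), (17297, 20511), (17298, 13189), (17299, 19312), (17300, 20372), (17301, 13466), (17302, 13467), (17303, 13329), (17304, 13469), (17305, 13470), (17306, 13471), (17307, 13473), (17308, 13198), (17309, 20268), (17310, 13475), (17311, 13201), (17312, 20515), (17313, 20516), (17314, 15577), (17315, 13480), (17316, 13481), (17317, 20522), (17318, 13204), (17319, 20267), (17320, 20150), (17321, 13483), (17322, 13484), (17323, 20527), (17324, 13207), (17325, 20269), (17326, 20151), (17327, 20270), (17328, 18897), (17329, 13486), (17330, 20538), (17331, 13213), (17332, 19557), (17333, 20541), (17334, 13215), (17335, 13216),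 (17336, 19547), (17337, 15877), (17338, 15542), (17339, 16276), (17340, 14439), (17341, 14739), (17342, 16155), (17343, 16156)]
    ⟨e3 q17280 (flp_e L216775) q17660, e3 q17281 (flp_e L234073) q19791, e3 q17282 (flp_e L240223) q20494, e3 q17283 (flp_e L240233) q20495, e3 q17284 (flp_e L223363) q18438, e3 q17285 (flp_e L234209) q19808, e3 q17286 (flp_e L231376) q19474, e3 q17287 (flp_e L213491) q15301, e3 q17288 (flp_e L231382) q19475, e3 q17289 (flp_e L231392) q19476, e3 q17290 (flp_e L213505) q13184, e3 q17291 (flp_e L240347) q20508, e3 q17292 L213527 q13460, e3 q17293 L213533 q13461, e3 q17294 L213541 q13462, e3 q17295 L213547 q13463, e3 q17296 (flp_e L213551) q13187, e3 q17297 (flp_e L240377) q20511, e3 q17298 L213567 q13189, e3 q17299 (flp_e L229910) q19312, e3 q17300 (flp_e L239153) q20372, e3 q17301 L213587 q13466, e3 q17302 L213597 q13467, e3 q17303 L213601 q13329, e3 q17304 L213609 q13469, e3 q17305 L213615 q13470, e3 q17306 L213625 q13471, e3 q17307 L213635 q13473, e3 q17308 (flp_e L213639) q13198, e3 q17309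 (flp_e L238217) q20268, e3 q17310 L213657 q13475, e3 q17311 (flp_e L213661) q13201, e3 q17312 (flp_e L240415) q20515, e3 q17313 (flp_e L240427) q20516, e3 q17314 L213677 q15577, e3 q17315 L213681 q13480, e3 q17316 L213687 q13481, e3 q17317 L240483 q20522, e3 q17318 (flp_e L213693) q13204, e3 q17319 (flp_e L238209) q20267, e3 q17320 (flp_e L237271) q20150, e3 q17321 L213715 q13483, e3 q17322 L213723 q13484, e3 q17323 L240519 q20527, e3 q17324 (flp_e L213733) q13207, e3 q17325 (flp_e L238221) q20269, e3 q17326 (flp_e L237275) q20151, e3 q17327 (flp_e L238231) q20270, e3 q17328 (flp_e L226751) q18897, e3 q17329 L213761 q13486, e3 q17330 L240591 q20538, e3 q17331 (flp_e L213766) q13213, e3 q17332 (flp_e L232156) q19557, e3 q17333 (flp_e L240619) q20541, e3 q17334 L213786 q13215, e3 q17335 L213792 q13216, e3 q17336 (flp_e L232072) q19547, e3 q17337 L213807 q15877, e3 q17338 L213815 q15542, e3 q17339 L213821 q16276, e3 q17340 L213828 q14439, e3 q17341 L213838 q14739, e3 q17342 L213849 q16155, e3 q17343 L213857 q16156,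 trivial⟩ (by decide +kernel)

theorem ce_e_271 : ∀ r, r < 64 → sm ge (Qf (17344 + r)) = Qf (tab Gen.e (17344 + r)) :=
  edges_tab (sm ge) Qf (tab Gen.e) 17344 [(17344, 16157), (17345, 16159), (17346, 16160), (17347, 13224), (17348, 20551), (17349, 20552), (17350, 16165), (17351, 17802), (17352, 17803), (17353, 17804), (17354, 17805), (17355, 17806), (17356, 20558), (17357, 13231), (17358, 20560), (17359, 17810), (17360, 20546), (17361, 13233), (17362, 20566), (17363, 20567), (17364, 13235), (17365, 13236), (17366, 15783), (17367, 16431), (17368, 14488), (17369, 14760), (17370, 16170), (17371, 16171), (17372, 16172), (17373, 16174), (17374, 16175), (17375, 13244), (17376, 20576), (17377, 20577), (17378, 16181), (17379, 17817), (17380, 17818), (17381, 17819), (17382, 17820), (17383, 17821), (17384, 20583), (17385, 13251), (17386, 20572), (17387, 13252), (17388, 20585), (17389, 13254), (17390, 13258), (17391, 17540), (17392, 20266), (17393, 19318), (17394, 13271), (17395, 17536), (17396, 20277), (17397, 19545), (17398,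 13291), (17399, 13292), (17400, 19590), (17401, 13299), (17402, 13300), (17403, 13301), (17404, 13312), (17405, 20363), (17406, 20365), (17407, 20366)]
    ⟨e3 q17344 L213865 q16157, e3 q17345 L213873 q16159, e3 q17346 L213881 q16160, e3 q17347 (flp_e L213883) q13224, e3 q17348 (flp_e L240708) q20551, e3 q17349 (flp_e L240720) q20552, e3 q17350 L213915 q16165, e3 q17351 (flp_e L217878) q17802, e3 q17352 (flp_e L217892) q17803, e3 q17353 (flp_e L217902) q17804, e3 q17354 (flp_e L217910) q17805, e3 q17355 (flp_e L217922) q17806, e3 q17356 L240758 q20558, e3 q17357 (flp_e L213974) q13231, e3 q17358 (flp_e L240782) q20560, e3 q17359 (flp_e L217958) q17810, e3 q17360 (flp_e L240662) q20546, e3 q17361 (flp_e L214074) q13233, e3 q17362 (flp_e L240833) q20566, e3 q17363 (flp_e L240843) q20567, e3 q17364 L214090 q13235, e3 q17365 L214095 q13236, e3 q17366 L214120 q15783, e3 q17367 L214126 q16431, e3 q17368 L214133 q14488, e3 q17369 L214143 q14760, e3 q17370 L214154 q16170, e3 q17371 L214162 q16171, e3 q17372 L214170 q16172,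 e3 q17373 L214180 q16174, e3 q17374 L214190 q16175, e3 q17375 (flp_e L214192) q13244, e3 q17376 (flp_e L240938) q20576, e3 q17377 (flp_e L240950) q20577, e3 q17378 L214236 q16181, e3 q17379 (flp_e L218024) q17817, e3 q17380 (flp_e L218038) q17818, e3 q17381 (flp_e L218048) q17819, e3 q17382 (flp_e L218056) q17820, e3 q17383 (flp_e L218068) q17821, e3 q17384 L240994 q20583, e3 q17385 (flp_e L214295) q13251, e3 q17386 (flp_e L240892) q20572, e3 q17387 (flp_e L214395) q13252, e3 q17388 (flp_e L241026) q20585, e3 q17389 L214411 q13254, e3 q17390 L214439 q13258, e3 q17391 (flp_e L215875) q17540, e3 q17392 (flp_e L238193) q20266, e3 q17393 (flp_e L229974) q19318, e3 q17394 L214475 q13271, e3 q17395 (flp_e L215839) q17536, e3 q17396 (flp_e L238287) q20277, e3 q17397 (flp_e L232052) q19545, e3 q17398 L214513 q13291, e3 q17399 L214525 q13292, e3 q17400 (flp_e L232428) q19590, e3 q17401 L214541 q13299, e3 q17402 L214549 q13300, e3 q17403 L214561 q13301, e3 q17404 L214571 q13312, e3 q17405 (flp_e L239081) q20363, e3 q17406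 (flp_e L239095) q20365, e3 q17407 (flp_e L239101) q20366, trivial⟩ (by decide +kernel)

theorem ce_e_272 : ∀ r, r < 64 → sm ge (Qf (17408 + r)) = Qf (tab Gen.e (17408 + r)) :=
  edges_tab (sm ge) Qf (tab Gen.e) 17408 [(17408, 20368), (17409, 20370), (17410, 20513), (17411, 20377), (17412, 20384), (17413, 20386), (17414, 18698), (17415, 18900), (17416, 13351), (17417, 13352), (17418, 19375), (17419, 13359), (17420, 13360), (17421, 13361), (17422, 13371), (17423, 20413), (17424, 20415), (17425, 20416), (17426, 20455), (17427, 20424), (17428, 18705), (17429, 18845), (17430, 16204), (17431, 17510), (17432, 19315), (17433, 19308), (17434, 19930), (17435, 15565), (17436, 17200), (17437, 13405), (17438, 20326), (17439, 13406), (17440, 18710), (17441, 13412), (17442, 15914), (17443, 13420), (17444, 13426), (17445, 15806), (17446, 15579), (17447, 19262), (17448, 20477), (17449, 20478), (17450, 20479), (17451, 19533), (17452, 19535), (17453, 13437), (17454, 20589), (17455, 16235), (17456, 19536), (17457, 19990), (17458, 15807),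 (17459, 17514), (17460, 19542), (17461, 17276), (17462, 13457), (17463, 20340), (17464, 13458), (17465, 18703), (17466, 13464), (17467, 15684), (17468, 13472), (17469, 13478), (17470, 15567), (17471, 15819)]
    ⟨e3 q17408 (flp_e L239119) q20368, e3 q17409 (flp_e L239135) q20370, e3 q17410 (flp_e L240391) q20513, e3 q17411 (flp_e L239179) q20377, e3 q17412 (flp_e L239255) q20384, e3 q17413 (flp_e L239271) q20386, e3 q17414 (flp_e L225433) q18698, e3 q17415 (flp_e L226772) q18900, e3 q17416 L214685 q13351, e3 q17417 L214697 q13352, e3 q17418 (flp_e L230414) q19375, e3 q17419 L214713 q13359, e3 q17420 L214721 q13360, e3 q17421 L214733 q13361, e3 q17422 L214743 q13371, e3 q17423 (flp_e L239527) q20413, e3 q17424 (flp_e L239549) q20415, e3 q17425 (flp_e L239559) q20416, e3 q17426 (flp_e L239907) q20455, e3 q17427 (flp_e L239619) q20424, e3 q17428 (flp_e L225496) q18705, e3 q17429 (flp_e L226373) q18845, e3 q17430 L214835 q16204, e3 q17431 (flp_e L215617) q17510, e3 q17432 (flp_e L229946) q19315, e3 q17433 (flp_e L229876)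 q19308, e3 q17434 (flp_e L235292) q19930, e3 q17435 L214886 q15565, e3 q17436 L214894 q17200, e3 q17437 L214904 q13405, e3 q17438 (flp_e L238691) q20326, e3 q17439 (flp_e L214916) q13406, e3 q17440 (flp_e L225544) q18710, e3 q17441 (flp_e L214940) q13412, e3 q17442 L214958 q15914, e3 q17443 (flp_e L214964) q13420, e3 q17444 L214980 q13426, e3 q17445 L214992 q15806, e3 q17446 L215002 q15579, e3 q17447 (flp_e L229444) q19262, e3 q17448 (flp_e L240077) q20477, e3 q17449 (flp_e L240086) q20478, e3 q17450 (flp_e L240097) q20479, e3 q17451 (flp_e L231932) q19533, e3 q17452 (flp_e L231954) q19535, e3 q17453 L215058 q13437, e3 q17454 (flp_e L241060) q20589, e3 q17455 L215070 q16235, e3 q17456 (flp_e L231966) q19536, e3 q17457 (flp_e L235864) q19990, e3 q17458 L215110 q15807, e3 q17459 (flp_e L215655) q17514, e3 q17460 (flp_e L232024) q19542, e3 q17461 L215133 q17276, e3 q17462 L215143 q13457, e3 q17463 (flp_e L238847) q20340, e3 q17464 (flp_e L215155) q13458, e3 q17465 (flp_e L225481) q18703, e3 q17466 (flp_e L215179) q13464,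 e3 q17467 L215197 q15684, e3 q17468 (flp_e L215203) q13472, e3 q17469 L215219 q13478, e3 q17470 L215233 q15567, e3 q17471 L215243 q15819, trivial⟩ (by decide +kernel)

theorem ce_e_273 : ∀ r, r < 64 → sm ge (Qf (17472 + r)) = Qf (tab Gen.e (17472 + r)) :=
  edges_tab (sm ge) Qf (tab Gen.e) 17472 [(17472, 19495), (17473, 20535), (17474, 20536), (17475, 20537), (17476, 19305), (17477, 19306), (17478, 13489), (17479, 20593), (17480, 20595), (17481, 13503), (17482, 13505), (17483, 13507), (17484, 20596), (17485, 13511), (17486, 13517), (17487, 13520), (17488, 20017), (17489, 20597), (17490, 13527), (17491, 13529), (17492, 13531), (17493, 20598), (17494, 13535), (17495, 13541), (17496, 13544), (17497, 19980), (17498, 18585), (17499, 14966), (17500, 15917), (17501, 15911), (17502, 14968), (17503, 18596), (17504, 14918), (17505, 15687), (17506, 15681), (17507, 14920), (17508, 13607), (17509, 13608), (17510, 17431), (17511, 13610), (17512, 13611), (17513, 13612), (17514, 17459), (17515, 13614), (17516, 20599), (17517, 20087),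 (17518, 20601), (17519, 20095), (17520, 17019), (17521, 17111), (17522, 14441), (17523, 17020), (17524, 14490), (17525, 17110), (17526, 13938), (17527, 14100), (17528, 19600), (17529, 14699), (17530, 13962), (17531, 14043), (17532, 19386), (17533, 14700), (17534, 13683), (17535, 13695)]
    ⟨e3 q17472 (flp_e L231590) q19495, e3 q17473 (flp_e L240565) q20535, e3 q17474 (flp_e L240574) q20536, e3 q17475 (flp_e L240585) q20537, e3 q17476 (flp_e L229842) q19305, e3 q17477 (flp_e L229856) q19306, e3 q17478 L215305 q13489, e3 q17479 (flp_e L241092) q20593, e3 q17480 L241108 q20595, e3 q17481 (flp_e L215325) q13503, e3 q17482 (flp_e L215333) q13505, e3 q17483 L215351 q13507, e3 q17484 L241120 q20596, e3 q17485 (flp_e L215365) q13511, e3 q17486 L215373 q13517, e3 q17487 L215387 q13520, e3 q17488 (flp_e L236117) q20017, e3 q17489 L241130 q20597, e3 q17490 (flp_e L215413) q13527, e3 q17491 (flp_e L215421) q13529, e3 q17492 L215439 q13531, e3 q17493 L241142 q20598, e3 q17494 (flp_e L215453) q13535, e3 q17495 L215461 q13541,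 e3 q17496 L215475 q13544, e3 q17497 (flp_e L235767) q19980, e3 q17498 (flp_e L224639) q18585, e3 q17499 L215500 q14966, e3 q17500 L215514 q15917, e3 q17501 L215526 q15911, e3 q17502 L215532 q14968, e3 q17503 (flp_e L224743) q18596, e3 q17504 L215550 q14918, e3 q17505 L215564 q15687, e3 q17506 L215576 q15681, e3 q17507 L215582 q14920, e3 q17508 L215595 q13607, e3 q17509 L215606 q13608, e3 q17510 L215617 q17431, e3 q17511 L215625 q13610, e3 q17512 L215631 q13611, e3 q17513 L215642 q13612, e3 q17514 L215655 q17459, e3 q17515 L215663 q13614, e3 q17516 (flp_e L241160) q20599, e3 q17517 (flp_e L236639) q20087, e3 q17518 (flp_e L241188) q20601, e3 q17519 (flp_e L236721) q20095, e3 q17520 L215705 q17019, e3 q17521 L215715 q17111, e3 q17522 L215721 q14441, e3 q17523 L215729 q17020, e3 q17524 L215737 q14490, e3 q17525 L215745 q17110, e3 q17526 L215755 q13938, e3 q17527 L215765 q14100, e3 q17528 (flp_e L232528) q19600, e3 q17529 L215781 q14699, e3 q17530 L215789 q13962, e3 q17531 L215799 q14043, e3 q17532 (flp_e L230522) q19386,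 e3 q17533 L215815 q14700, e3 q17534 L215821 q13683, e3 q17535 L215829 q13695, trivial⟩ (by decide +kernel)

theorem ce_e_274 : ∀ r, r < 64 → sm ge (Qf (17536 + r)) = Qf (tab Gen.e (17536 + r)) :=
  edges_tab (sm ge) Qf (tab Gen.e) 17536 [(17536, 17395), (17537, 13697), (17538, 13692), (17539, 13698), (17540, 17391), (17541, 13700), (17542, 13710), (17543, 13711), (17544, 13709), (17545, 17550), (17546, 13712), (17547, 13713), (17548, 13714), (17549, 13715), (17550, 17545), (17551, 13716), (17552, 13717), (17553, 13718), (17554, 13669), (17555, 13670), (17556, 20607), (17557, 20610), (17558, 20608), (17559, 20611), (17560, 18001), (17561, 18006), (17562, 14443), (17563, 17032), (17564, 20623), (17565, 13723), (17566, 13725), (17567, 20624), (17568, 18021), (17569, 13727), (17570, 20627), (17571, 13729), (17572, 20191), (17573, 20631), (17574, 20632), (17575, 13937), (17576, 16865), (17577, 13974), (17578, 13941), (17579, 13942), (17580, 13943), (17581, 20639), (17582, 13945), (17583, 13946), (17584, 16866), (17585,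 13948), (17586, 16867), (17587, 13952), (17588, 13933), (17589, 13958), (17590, 14493), (17591, 17124), (17592, 20650), (17593, 13748), (17594, 13750), (17595, 20651), (17596, 18051), (17597, 13752), (17598, 20654), (17599, 13754)]
    ⟨e3 q17536 L215839 q17395, e3 q17537 L215849 q13697, e3 q17538 L215857 q13692, e3 q17539 L215865 q13698, e3 q17540 L215875 q17391, e3 q17541 L215885 q13700, e3 q17542 L215893 q13710, e3 q17543 L215905 q13711, e3 q17544 L215915 q13709, e3 q17545 (flp_e L215965) q17550, e3 q17546 L215926 q13712, e3 q17547 L215938 q13713, e3 q17548 L215952 q13714, e3 q17549 L215958 q13715, e3 q17550 L215965 q17545, e3 q17551 L215971 q13716, e3 q17552 L215983 q13717, e3 q17553 L215997 q13718, e3 q17554 L216007 q13669, e3 q17555 L216016 q13670, e3 q17556 (flp_e L241254) q20607, e3 q17557 (flp_e L241285) q20610, e3 q17558 (flp_e L241263) q20608, e3 q17559 (flp_e L241294) q20611, e3 q17560 (flp_e L219718) q18001, e3 q17561 (flp_e L219746) q18006, e3 q17562 L216069 q14443, e3 q17563 L216079 q17032, e3 q17564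 L241398 q20623, e3 q17565 (flp_e L216087) q13723, e3 q17566 (flp_e L216095) q13725, e3 q17567 (flp_e L241416) q20624, e3 q17568 (flp_e L219836) q18021, e3 q17569 L216121 q13727, e3 q17570 (flp_e L241432) q20627, e3 q17571 L216129 q13729, e3 q17572 (flp_e L237603) q20191, e3 q17573 (flp_e L241444) q20631, e3 q17574 (flp_e L241456) q20632, e3 q17575 L216151 q13937, e3 q17576 L216165 q16865, e3 q17577 L216175 q13974, e3 q17578 L216179 q13941, e3 q17579 L216191 q13942, e3 q17580 L216197 q13943, e3 q17581 L241508 q20639, e3 q17582 L216209 q13945, e3 q17583 L216217 q13946, e3 q17584 (flp_e L216223) q16866, e3 q17585 L216229 q13948, e3 q17586 L216239 q16867, e3 q17587 L216245 q13952, e3 q17588 L216255 q13933, e3 q17589 L216261 q13958, e3 q17590 L216267 q14493, e3 q17591 L216277 q17124, e3 q17592 L241632 q20650, e3 q17593 (flp_e L216285) q13748, e3 q17594 (flp_e L216293) q13750, e3 q17595 (flp_e L241650) q20651, e3 q17596 (flp_e L220058) q18051, e3 q17597 L216319 q13752, e3 q17598 (flp_e L241666) q20654, e3 q17599 L216327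 q13754, trivial⟩ (by decide +kernel)

theorem ce_e_275 : ∀ r, r < 64 → sm ge (Qf (17600 + r)) = Qf (tab Gen.e (17600 + r)) :=
  edges_tab (sm ge) Qf (tab Gen.e) 17600 [(17600, 20174), (17601, 20658), (17602, 20659), (17603, 13961), (17604, 16856), (17605, 13953), (17606, 13964), (17607, 13944), (17608, 13965), (17609, 20635), (17610, 13966), (17611, 13967), (17612, 16857), (17613, 13969), (17614, 16858), (17615, 13973), (17616, 13930), (17617, 13978), (17618, 17628), (17619, 15336), (17620, 20673), (17621, 18956), (17622, 17700), (17623, 15326), (17624, 20674), (17625, 19096), (17626, 14025), (17627, 14026), (17628, 17618), (17629, 13791), (17630, 20676), (17631, 20356), (17632, 20357), (17633, 20358), (17634, 14028), (17635, 14029), (17636, 17132), (17637, 14030), (17638, 13798), (17639, 14499), (17640, 18020), (17641, 18022), (17642, 13802), (17643, 13803), (17644, 20682), (17645, 20683), (17646, 20684), (17647, 13805), (17648, 20338), (17649, 20401), (17650, 20329), (17651, 14038), (17652, 14039), (17653, 17080),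 (17654, 14040), (17655, 14041), (17656, 14042), (17657, 15781), (17658, 14044), (17659, 14045), (17660, 17280), (17661, 14047), (17662, 14048), (17663, 20692)]
    ⟨e3 q17600 (flp_e L237457) q20174, e3 q17601 (flp_e L241678) q20658, e3 q17602 (flp_e L241690) q20659, e3 q17603 L216349 q13961, e3 q17604 L216363 q16856, e3 q17605 L216373 q13953, e3 q17606 L216377 q13964, e3 q17607 L216389 q13944, e3 q17608 L216395 q13965, e3 q17609 (flp_e L241480) q20635, e3 q17610 L216407 q13966, e3 q17611 L216415 q13967, e3 q17612 (flp_e L216421) q16857, e3 q17613 L216427 q13969, e3 q17614 L216437 q16858, e3 q17615 L216443 q13973, e3 q17616 L216453 q13930, e3 q17617 L216459 q13978, e3 q17618 (flp_e L216541) q17628, e3 q17619 L216473 q15336, e3 q17620 L241826 q20673, e3 q17621 (flp_e L227208) q18956, e3 q17622 (flp_e L217114) q17700, e3 q17623 L216499 q15326, e3 q17624 L241838 q20674, e3 q17625 (flp_e L228158) q19096, e3 q17626 L216519 q14025, e3 q17627 L216533 q14026, e3 q17628 L216541 q17618, e3 q17629 L216549 q13791, e3 q17630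 (flp_e L241866) q20676, e3 q17631 (flp_e L239013) q20356, e3 q17632 (flp_e L239025) q20357, e3 q17633 (flp_e L239033) q20358, e3 q17634 L216573 q14028, e3 q17635 L216587 q14029, e3 q17636 (flp_e L216599) q17132, e3 q17637 L216617 q14030, e3 q17638 (flp_e L216623) q13798, e3 q17639 L216641 q14499, e3 q17640 (flp_e L219830) q18020, e3 q17641 (flp_e L219844) q18022, e3 q17642 L216655 q13802, e3 q17643 L216665 q13803, e3 q17644 (flp_e L241916) q20682, e3 q17645 (flp_e L241924) q20683, e3 q17646 (flp_e L241930) q20684, e3 q17647 L216681 q13805, e3 q17648 (flp_e L238831) q20338, e3 q17649 (flp_e L239421) q20401, e3 q17650 (flp_e L238723) q20329, e3 q17651 L216699 q14038, e3 q17652 L216707 q14039, e3 q17653 L216715 q17080, e3 q17654 L216721 q14040, e3 q17655 L216729 q14041, e3 q17656 L216737 q14042, e3 q17657 L216749 q15781, e3 q17658 L216757 q14044, e3 q17659 L216763 q14045, e3 q17660 L216775 q17280, e3 q17661 L216785 q14047, e3 q17662 L216795 q14048, e3 q17663 L242002 q20692, trivial⟩ (by decide +kernel)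

theorem ce_e_276 : ∀ r, r < 64 → sm ge (Qf (17664 + r)) = Qf (tab Gen.e (17664 + r)) :=
  edges_tab (sm ge) Qf (tab Gen.e) 17664 [(17664, 13812), (17665, 20693), (17666, 13813), (17667, 13815), (17668, 16090), (17669, 14055), (17670, 17097), (17671, 17098), (17672, 17099), (17673, 14057), (17674, 13821), (17675, 20438), (17676, 20698), (17677, 14067), (17678, 14068), (17679, 13826), (17680, 20700), (17681, 13828), (17682, 19385), (17683, 19710), (17684, 13830), (17685, 20702), (17686, 19007), (17687, 18063), (17688, 13832), (17689, 20706), (17690, 20707), (17691, 13834), (17692, 19258), (17693, 14078), (17694, 14079), (17695, 14080), (17696, 14983), (17697, 14081), (17698, 14082), (17699, 14083), (17700, 17622), (17701, 13841), (17702, 20713), (17703, 20354), (17704, 20353), (17705, 20412), (17706, 14085), (17707, 14086), (17708, 17042), (17709, 14087), (17710, 13847), (17711, 14450), (17712, 18049), (17713, 18050), (17714, 13851), (17715, 13852), (17716, 20719), (17717, 20720), (17718, 20721), (17719, 13854),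 (17720, 20337), (17721, 14095), (17722, 14096), (17723, 17166), (17724, 14097), (17725, 14098), (17726, 15540), (17727, 14099)]
    ⟨e3 q17664 (flp_e L216809) q13812, e3 q17665 L242014 q20693, e3 q17666 (flp_e L216821) q13813, e3 q17667 L216831 q13815, e3 q17668 L216839 q16090, e3 q17669 L216847 q14055, e3 q17670 L216859 q17097, e3 q17671 L216863 q17098, e3 q17672 L216875 q17099, e3 q17673 L216887 q14057, e3 q17674 (flp_e L216891) q13821, e3 q17675 (flp_e L239765) q20438, e3 q17676 (flp_e L242072) q20698, e3 q17677 L216930 q14067, e3 q17678 L216942 q14068, e3 q17679 (flp_e L216948) q13826, e3 q17680 (flp_e L242100) q20700, e3 q17681 L216972 q13828, e3 q17682 (flp_e L230514) q19385, e3 q17683 (flp_e L233421) q19710, e3 q17684 (flp_e L216990) q13830, e3 q17685 (flp_e L242124) q20702, e3 q17686 L227608 q19007, e3 q17687 (flp_e L220144) q18063, e3 q17688 L217016 q13832, e3 q17689 (flp_e L242160) q20706, e3 q17690 (flp_e L242172) q20707, e3 q17691 L217037 q13834, e3 q17692 (flp_e L229398) q19258, e3 q17693 L217048 q14078,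 e3 q17694 L217055 q14079, e3 q17695 L217062 q14080, e3 q17696 L217072 q14983, e3 q17697 L217086 q14081, e3 q17698 L217092 q14082, e3 q17699 L217106 q14083, e3 q17700 L217114 q17622, e3 q17701 L217122 q13841, e3 q17702 (flp_e L242228) q20713, e3 q17703 (flp_e L238995) q20354, e3 q17704 (flp_e L238985) q20353, e3 q17705 (flp_e L239519) q20412, e3 q17706 L217146 q14085, e3 q17707 L217160 q14086, e3 q17708 L217170 q17042, e3 q17709 L217190 q14087, e3 q17710 (flp_e L217196) q13847, e3 q17711 L217214 q14450, e3 q17712 (flp_e L220046) q18049, e3 q17713 (flp_e L220052) q18050, e3 q17714 L217228 q13851, e3 q17715 L217238 q13852, e3 q17716 (flp_e L242280) q20719, e3 q17717 (flp_e L242288) q20720, e3 q17718 (flp_e L242294) q20721, e3 q17719 L217254 q13854, e3 q17720 (flp_e L238813) q20337, e3 q17721 L217272 q14095, e3 q17722 L217280 q14096, e3 q17723 L217288 q17166, e3 q17724 L217294 q14097, e3 q17725 L217302 q14098, e3 q17726 L217314 q15540, e3 q17727 L217322 q14099, trivial⟩ (by decide +kernel)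

theorem ce_e_277 : ∀ r, r < 64 → sm ge (Qf (17728 + r)) = Qf (tab Gen.e (17728 + r)) :=
  edges_tab (sm ge) Qf (tab Gen.e) 17728 [(17728, 14101), (17729, 17204), (17730, 14066), (17731, 14102), (17732, 20727), (17733, 13861), (17734, 20728), (17735, 13862), (17736, 13864), (17737, 16013), (17738, 17178), (17739, 17179), (17740, 17180), (17741, 14110), (17742, 13870), (17743, 20731), (17744, 20496), (17745, 14046), (17746, 14119), (17747, 13875), (17748, 20733), (17749, 13877), (17750, 19598), (17751, 19805), (17752, 13879), (17753, 19147), (17754, 20735), (17755, 18034), (17756, 13881), (17757, 20739), (17758, 20740), (17759, 13883), (17760, 19491), (17761, 14129), (17762, 14130), (17763, 14131), (17764, 14935), (17765, 14132), (17766, 14134), (17767, 19434), (17768, 13888), (17769, 17788), (17770, 13906), (17771, 14135), (17772, 20748), (17773, 13891), (17774, 17793), (17775, 20752), (17776, 13894), (17777, 13901), (17778, 14136), (17779, 13896), (17780, 20755), (17781, 20756), (17782, 13898), (17783, 13899),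 (17784, 19330), (17785, 19005), (17786, 14144), (17787, 19635), (17788, 17769), (17789, 14145), (17790, 20760), (17791, 13904)]
    ⟨e3 q17728 L217328 q14101, e3 q17729 L217338 q17204, e3 q17730 L217350 q14066, e3 q17731 L217362 q14102, e3 q17732 L242348 q20727, e3 q17733 (flp_e L217374) q13861, e3 q17734 L242360 q20728, e3 q17735 (flp_e L217392) q13862, e3 q17736 L217402 q13864, e3 q17737 L217410 q16013, e3 q17738 L217422 q17178, e3 q17739 L217426 q17179, e3 q17740 L217438 q17180, e3 q17741 L217450 q14110, e3 q17742 (flp_e L217454) q13870, e3 q17743 (flp_e L242396) q20731, e3 q17744 (flp_e L240243) q20496, e3 q17745 L217486 q14046, e3 q17746 L217498 q14119, e3 q17747 (flp_e L217504) q13875, e3 q17748 (flp_e L242424) q20733, e3 q17749 L217528 q13877, e3 q17750 (flp_e L232508) q19598, e3 q17751 (flp_e L234177) q19805, e3 q17752 (flp_e L217546) q13879, e3 q17753 (flp_e L228541) q19147, e3 q17754 (flp_e L242448) q20735, e3 q17755 (flp_e L219928) q18034, e3 q17756 L217572 q13881, e3 q17757 (flp_e L242484) q20739, e3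 q17758 (flp_e L242498) q20740, e3 q17759 L217593 q13883, e3 q17760 (flp_e L231544) q19491, e3 q17761 L217604 q14129, e3 q17762 L217611 q14130, e3 q17763 L217618 q14131, e3 q17764 L217628 q14935, e3 q17765 L217642 q14132, e3 q17766 L217648 q14134, e3 q17767 (flp_e L231062) q19434, e3 q17768 (flp_e L217660) q13888, e3 q17769 (flp_e L217793) q17788, e3 q17770 L217680 q13906, e3 q17771 L217686 q14135, e3 q17772 L242572 q20748, e3 q17773 (flp_e L217700) q13891, e3 q17774 (flp_e L217829) q17793, e3 q17775 (flp_e L242612) q20752, e3 q17776 L217718 q13894, e3 q17777 L217728 q13901, e3 q17778 L217734 q14136, e3 q17779 (flp_e L217736) q13896, e3 q17780 (flp_e L242642) q20755, e3 q17781 (flp_e L242654) q20756, e3 q17782 L217754 q13898, e3 q17783 L217761 q13899, e3 q17784 (flp_e L230074) q19330, e3 q17785 (flp_e L227614) q19005, e3 q17786 L217775 q14144, e3 q17787 (flp_e L232845) q19635, e3 q17788 L217793 q17769, e3 q17789 L217799 q14145, e3 q17790 L242695 q20760, e3 q17791 (flp_e L217813) q13904, trivial⟩ (by decide +kernel)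

theorem ce_e_278 : ∀ r, r < 64 → sm ge (Qf (17792 + r)) = Qf (tab Gen.e (17792 + r)) :=
  edges_tab (sm ge) Qf (tab Gen.e) 17792 [(17792, 20746), (17793, 17774), (17794, 14133), (17795, 13909), (17796, 20766), (17797, 20767), (17798, 13911), (17799, 13912), (17800, 19144), (17801, 19556), (17802, 17351), (17803, 17352), (17804, 17353), (17805, 17354), (17806, 17355), (17807, 15734), (17808, 13916), (17809, 20775), (17810, 17359), (17811, 20779), (17812, 13918), (17813, 20782), (17814, 19623), (17815, 13920), (17816, 13921), (17817, 17379), (17818, 17380), (17819, 17381), (17820, 17382), (17821, 17383), (17822, 15959), (17823, 13925), (17824, 20789), (17825, 13926), (17826, 19421), (17827, 13928), (17828, 20671), (17829, 20646), (17830, 13936), (17831, 20637), (17832, 20641), (17833, 13947), (17834, 20642), (17835, 20643), (17836, 20644), (17837, 20645), (17838, 13997), (17839, 20647), (17840, 13960), (17841, 20663), (17842, 20666), (17843, 13968), (17844, 20667), (17845, 20668), (17846, 20669), (17847, 20670),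 (17848, 14017), (17849, 20672), (17850, 13995), (17851, 13998), (17852, 14014), (17853, 14016), (17854, 13990), (17855, 17861)]
    ⟨e3 q17792 (flp_e L242556) q20746, e3 q17793 L217829 q17774, e3 q17794 L217835 q14133, e3 q17795 (flp_e L217837) q13909, e3 q17796 (flp_e L242757) q20766, e3 q17797 (flp_e L242769) q20767, e3 q17798 L217855 q13911, e3 q17799 L217861 q13912, e3 q17800 L228525 q19144, e3 q17801 (flp_e L232146) q19556, e3 q17802 L217878 q17351, e3 q17803 L217892 q17352, e3 q17804 L217902 q17353, e3 q17805 L217910 q17354, e3 q17806 L217922 q17355, e3 q17807 (flp_e L217932) q15734, e3 q17808 (flp_e L217934) q13916, e3 q17809 (flp_e L242852) q20775, e3 q17810 L217958 q17359, e3 q17811 L242869 q20779, e3 q17812 (flp_e L217968) q13918, e3 q17813 (flp_e L242889) q20782, e3 q17814 (flp_e L232741) q19623, e3 q17815 L217988 q13920, e3 q17816 L217995 q13921, e3 q17817 L218024 q17379, e3 q17818 L218038 q17380, e3 q17819 L218048 q17381, e3 q17820 L218056 q17382, e3 q17821 L218068 q17383, e3 q17822 (flp_e L218078)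 q15959, e3 q17823 (flp_e L218080) q13925, e3 q17824 L242957 q20789, e3 q17825 (flp_e L218114) q13926, e3 q17826 (flp_e L230810) q19421, e3 q17827 L218134 q13928, e3 q17828 (flp_e L241804) q20671, e3 q17829 (flp_e L241588) q20646, e3 q17830 L218190 q13936, e3 q17831 (flp_e L241498) q20637, e3 q17832 (flp_e L241530) q20641, e3 q17833 (flp_e L218212) q13947, e3 q17834 (flp_e L241542) q20642, e3 q17835 (flp_e L241558) q20643, e3 q17836 (flp_e L241566) q20644, e3 q17837 (flp_e L241580) q20645, e3 q17838 L218266 q13997, e3 q17839 (flp_e L241600) q20647, e3 q17840 L218292 q13960, e3 q17841 (flp_e L241724) q20663, e3 q17842 (flp_e L241746) q20666, e3 q17843 (flp_e L218314) q13968, e3 q17844 (flp_e L241758) q20667, e3 q17845 (flp_e L241774) q20668, e3 q17846 (flp_e L241782) q20669, e3 q17847 (flp_e L241796) q20670, e3 q17848 L218368 q14017, e3 q17849 (flp_e L241818) q20672, e3 q17850 L218394 q13995, e3 q17851 L218402 q13998, e3 q17852 L218410 q14014, e3 q17853 L218418 q14016, e3 q17854 (flp_e L218420) q13990, e3 q17855 (flp_e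 L218480) q17861, trivial⟩ (by decide +kernel)

theorem ce_e_279 : ∀ r, r < 64 → sm ge (Qf (17856 + r)) = Qf (tab Gen.e (17856 + r)) :=
  edges_tab (sm ge) Qf (tab Gen.e) 17856 [(17856, 13994), (17857, 20791), (17858, 19591), (17859, 13996), (17860, 20792), (17861, 17855), (17862, 14000), (17863, 17894), (17864, 14003), (17865, 14005), (17866, 14009), (17867, 17873), (17868, 14013), (17869, 20795), (17870, 19376), (17871, 14015), (17872, 20796), (17873, 17867), (17874, 14019), (17875, 17916), (17876, 14022), (17877, 14024), (17878, 16872), (17879, 14033), (17880, 18082), (17881, 16874), (17882, 16875), (17883, 20689), (17884, 20606), (17885, 14049), (17886, 14051), (17887, 20802), (17888, 14053), (17889, 20696), (17890, 14056), (17891, 14059), (17892, 20198), (17893, 14064), (17894, 17863), (17895, 14071), (17896, 14072), (17897, 20805), (17898, 14074), (17899, 14076), (17900, 20808), (17901, 20711), (17902, 16879), (17903, 14090), (17904, 18136), (17905, 16881), (17906, 16882), (17907, 20605), (17908, 14103), (17909,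 14105), (17910, 20812), (17911, 14107), (17912, 14109), (17913, 14112), (17914, 20202), (17915, 14117), (17916, 17875), (17917, 14122), (17918, 14123), (17919, 20815)]
    ⟨e3 q17856 (flp_e L218440) q13994, e3 q17857 L242971 q20791, e3 q17858 (flp_e L232442) q19591, e3 q17859 (flp_e L218464) q13996, e3 q17860 (flp_e L242983) q20792, e3 q17861 L218480 q17855, e3 q17862 L218494 q14000, e3 q17863 (flp_e L218802) q17894, e3 q17864 L218508 q14003, e3 q17865 L218516 q14005, e3 q17866 (flp_e L218524) q14009, e3 q17867 (flp_e L218584) q17873, e3 q17868 (flp_e L218544) q14013, e3 q17869 L243005 q20795, e3 q17870 (flp_e L230428) q19376, e3 q17871 (flp_e L218568) q14015, e3 q17872 (flp_e L243017) q20796, e3 q17873 L218584 q17867, e3 q17874 L218598 q14019, e3 q17875 (flp_e L219014) q17916, e3 q17876 L218612 q14022, e3 q17877 L218620 q14024, e3 q17878 L218632 q16872, e3 q17879 L218646 q14033, e3 q17880 (flp_e L220284) q18082, e3 q17881 L218662 q16874, e3 q17882 L218668 q16875, e3 q17883 (flp_e L241974) q20689, e3 q17884 (flp_e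 L241242) q20606, e3 q17885 (flp_e L218698) q14049, e3 q17886 (flp_e L218710) q14051, e3 q17887 (flp_e L243081) q20802, e3 q17888 L218734 q14053, e3 q17889 (flp_e L242046) q20696, e3 q17890 (flp_e L218752) q14056, e3 q17891 L218766 q14059, e3 q17892 (flp_e L237671) q20198, e3 q17893 (flp_e L218782) q14064, e3 q17894 L218802 q17863, e3 q17895 (flp_e L218804) q14071, e3 q17896 (flp_e L218816) q14072, e3 q17897 (flp_e L243123) q20805, e3 q17898 L218840 q14074, e3 q17899 L218850 q14076, e3 q17900 (flp_e L243159) q20808, e3 q17901 (flp_e L242208) q20711, e3 q17902 L218864 q16879, e3 q17903 L218878 q14090, e3 q17904 (flp_e L220714) q18136, e3 q17905 L218894 q16881, e3 q17906 L218900 q16882, e3 q17907 (flp_e L241228) q20605, e3 q17908 (flp_e L218920) q14103, e3 q17909 (flp_e L218932) q14105, e3 q17910 (flp_e L243207) q20812, e3 q17911 L218956 q14107, e3 q17912 (flp_e L218962) q14109, e3 q17913 L218976 q14112, e3 q17914 (flp_e L237713) q20202, e3 q17915 (flp_e L218994) q14117, e3 q17916 L219014 q17875, e3 q17917 (flp_e L219016)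 q14122, e3 q17918 (flp_e L219028) q14123, e3 q17919 (flp_e L243249) q20815, trivial⟩ (by decide +kernel)

theorem ce_e_280 : ∀ r, r < 64 → sm ge (Qf (17920 + r)) = Qf (tab Gen.e (17920 + r)) :=
  edges_tab (sm ge) Qf (tab Gen.e) 17920 [(17920, 14125), (17921, 14127), (17922, 20818), (17923, 20744), (17924, 20765), (17925, 20754), (17926, 20819), (17927, 14137), (17928, 14139), (17929, 20820), (17930, 14146), (17931, 14149), (17932, 18087), (17933, 14157), (17934, 14933), (17935, 14161), (17936, 14164), (17937, 14166), (17938, 14167), (17939, 14169), (17940, 14172), (17941, 16660), (17942, 18140), (17943, 14178), (17944, 14980), (17945, 14182), (17946, 14185), (17947, 14187), (17948, 14188), (17949, 14190), (17950, 14193), (17951, 16678), (17952, 14195), (17953, 20823), (17954, 14197), (17955, 20824), (17956, 14199), (17957, 20825), (17958, 15039), (17959, 15040), (17960, 19031), (17961, 14203), (17962, 20826), (17963, 15051), (17964, 15052), (17965, 19168), (17966, 20828), (17967, 15071), (17968, 15072), (17969,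 20830), (17970, 15074), (17971, 15075), (17972, 20621), (17973, 15079), (17974, 19520), (17975, 14215), (17976, 19510), (17977, 15082), (17978, 20648), (17979, 15084), (17980, 19291), (17981, 14219), (17982, 19278), (17983, 15087)]
    ⟨e3 q17920 L219052 q14125, e3 q17921 L219062 q14127, e3 q17922 (flp_e L243285) q20818, e3 q17923 (flp_e L242532) q20744, e3 q17924 (flp_e L242743) q20765, e3 q17925 (flp_e L242628) q20754, e3 q17926 L243291 q20819, e3 q17927 (flp_e L219108) q14137, e3 q17928 L219122 q14139, e3 q17929 L243305 q20820, e3 q17930 (flp_e L219138) q14146, e3 q17931 L219152 q14149, e3 q17932 (flp_e L220322) q18087, e3 q17933 L219162 q14157, e3 q17934 L219174 q14933, e3 q17935 (flp_e L219178) q14161, e3 q17936 (flp_e L219188) q14164, e3 q17937 L219206 q14166, e3 q17938 (flp_e L219212) q14167, e3 q17939 L219228 q14169, e3 q17940 L219240 q14172, e3 q17941 L219252 q16660, e3 q17942 (flp_e L220742) q18140, e3 q17943 L219264 q14178, e3 q17944 L219278 q14980, e3 q17945 (flp_e L219282) q14182, e3 q17946 (flp_e L219292)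 q14185, e3 q17947 L219310 q14187, e3 q17948 (flp_e L219316) q14188, e3 q17949 L219332 q14190, e3 q17950 L219344 q14193, e3 q17951 L219356 q16678, e3 q17952 (flp_e L219362) q14195, e3 q17953 (flp_e L243343) q20823, e3 q17954 (flp_e L219382) q14197, e3 q17955 (flp_e L243357) q20824, e3 q17956 (flp_e L219402) q14199, e3 q17957 (flp_e L243369) q20825, e3 q17958 L219418 q15039, e3 q17959 L219424 q15040, e3 q17960 (flp_e L227756) q19031, e3 q17961 (flp_e L219434) q14203, e3 q17962 (flp_e L243379) q20826, e3 q17963 L219450 q15051, e3 q17964 L219456 q15052, e3 q17965 (flp_e L228677) q19168, e3 q17966 L243395 q20828, e3 q17967 L219477 q15071, e3 q17968 L219484 q15072, e3 q17969 L243419 q20830, e3 q17970 L219498 q15074, e3 q17971 L219505 q15075, e3 q17972 (flp_e L241378) q20621, e3 q17973 L219522 q15079, e3 q17974 (flp_e L231806) q19520, e3 q17975 (flp_e L219528) q14215, e3 q17976 L231714 q19510, e3 q17977 L219542 q15082, e3 q17978 (flp_e L241612) q20648, e3 q17979 L219562 q15084, e3 q17980 (flp_e L229688) q19291, e3 q17981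 (flp_e L219568) q14219, e3 q17982 L229578 q19278, e3 q17983 L219582 q15087, trivial⟩ (by decide +kernel)

theorem ce_e_281 : ∀ r, r < 64 → sm ge (Qf (17984 + r)) = Qf (tab Gen.e (17984 + r)) :=
  edges_tab (sm ge) Qf (tab Gen.e) 17984 [(17984, 14221), (17985, 20837), (17986, 14224), (17987, 19513), (17988, 20838), (17989, 15095), (17990, 15096), (17991, 15097), (17992, 14227), (17993, 20841), (17994, 14230), (17995, 19281), (17996, 20842), (17997, 15105), (17998, 15106), (17999, 15107), (18000, 20827), (18001, 17560), (18002, 18618), (18003, 14234), (18004, 20829), (18005, 18633), (18006, 17561), (18007, 14236), (18008, 15135), (18009, 15136), (18010, 15137), (18011, 20853), (18012, 19424), (18013, 14240), (18014, 15142), (18015, 15143), (18016, 15144), (18017, 20860), (18018, 19292), (18019, 14244), (18020, 17640), (18021, 17568), (18022, 17641), (18023, 15148), (18024, 15149), (18025, 15150), (18026, 15155), (18027, 15157), (18028, 20869), (18029, 18342), (18030, 14254), (18031, 20871), (18032, 15162), (18033,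 15163), (18034, 17755), (18035, 15165), (18036, 20486), (18037, 15167), (18038, 15168), (18039, 14258), (18040, 18502), (18041, 15171), (18042, 18501), (18043, 14262), (18044, 19498), (18045, 20882), (18046, 15178), (18047, 15179)]
    ⟨e3 q17984 (flp_e L219590) q14221, e3 q17985 (flp_e L243491) q20837, e3 q17986 L219610 q14224, e3 q17987 (flp_e L231750) q19513, e3 q17988 (flp_e L243503) q20838, e3 q17989 L219628 q15095, e3 q17990 L219632 q15096, e3 q17991 L219636 q15097, e3 q17992 (flp_e L219658) q14227, e3 q17993 (flp_e L243525) q20841, e3 q17994 L219678 q14230, e3 q17995 (flp_e L229614) q19281, e3 q17996 (flp_e L243537) q20842, e3 q17997 L219696 q15105, e3 q17998 L219700 q15106, e3 q17999 L219704 q15107, e3 q18000 L243393 q20827, e3 q18001 L219718 q17560, e3 q18002 (flp_e L224943) q18618, e3 q18003 (flp_e L219724) q14234, e3 q18004 L243417 q20829, e3 q18005 (flp_e L225051) q18633, e3 q18006 L219746 q17561, e3 q18007 (flp_e L219750) q14236, e3 q18008 L219763 q15135, e3 q18009 L219771 q15136, e3 q18010 L219777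 q15137, e3 q18011 L243627 q20853, e3 q18012 L230998 q19424, e3 q18013 (flp_e L219787) q14240, e3 q18014 L219796 q15142, e3 q18015 L219806 q15143, e3 q18016 L219812 q15144, e3 q18017 L243695 q20860, e3 q18018 (flp_e L229704) q19292, e3 q18019 (flp_e L219822) q14244, e3 q18020 L219830 q17640, e3 q18021 L219836 q17568, e3 q18022 L219844 q17641, e3 q18023 L219850 q15148, e3 q18024 L219856 q15149, e3 q18025 L219864 q15150, e3 q18026 L219872 q15155, e3 q18027 L219878 q15157, e3 q18028 L243777 q20869, e3 q18029 (flp_e L222281) q18342, e3 q18030 (flp_e L219892) q14254, e3 q18031 (flp_e L243805) q20871, e3 q18032 L219910 q15162, e3 q18033 L219916 q15163, e3 q18034 L219928 q17755, e3 q18035 L219934 q15165, e3 q18036 (flp_e L240143) q20486, e3 q18037 L219954 q15167, e3 q18038 L219958 q15168, e3 q18039 (flp_e L219960) q14258, e3 q18040 (flp_e L223905) q18502, e3 q18041 L219978 q15171, e3 q18042 (flp_e L223895) q18501, e3 q18043 L219990 q14262, e3 q18044 L231620 q19498, e3 q18045 (flp_e L243927) q20882, e3 q18046 L220008 q15178,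 e3 q18047 L220018 q15179, trivial⟩ (by decide +kernel)

theorem ce_e_282 : ∀ r, r < 64 → sm ge (Qf (18048 + r)) = Qf (tab Gen.e (18048 + r)) :=
  edges_tab (sm ge) Qf (tab Gen.e) 18048 [(18048, 15180), (18049, 17712), (18050, 17713), (18051, 17596), (18052, 15182), (18053, 15183), (18054, 15184), (18055, 15189), (18056, 15191), (18057, 20893), (18058, 18285), (18059, 14274), (18060, 20895), (18061, 15196), (18062, 15197), (18063, 17687), (18064, 15199), (18065, 20428), (18066, 15201), (18067, 15202), (18068, 14278), (18069, 18475), (18070, 15205), (18071, 18474), (18072, 14282), (18073, 19266), (18074, 20906), (18075, 15212), (18076, 15213), (18077, 15214), (18078, 14539), (18079, 15091), (18080, 14702), (18081, 15070), (18082, 17880), (18083, 20214), (18084, 14291), (18085, 20164), (18086, 20912), (18087, 17932), (18088, 18620), (18089, 18617), (18090, 15094), (18091, 14300), (18092, 15112), (18093, 14302), (18094, 18483), (18095, 15604), (18096, 14307), (18097, 20915), (18098, 20916), (18099, 18743), (18100, 18470),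 (18101, 14311), (18102, 20922), (18103, 20923), (18104, 20924), (18105, 14313), (18106, 14314), (18107, 16835), (18108, 20930), (18109, 20098), (18110, 20099), (18111, 20094)]
    ⟨e3 q18048 L220042 q15180, e3 q18049 L220046 q17712, e3 q18050 L220052 q17713, e3 q18051 L220058 q17596, e3 q18052 L220064 q15182, e3 q18053 L220070 q15183, e3 q18054 L220080 q15184, e3 q18055 L220088 q15189, e3 q18056 L220094 q15191, e3 q18057 L244021 q20893, e3 q18058 (flp_e L221800) q18285, e3 q18059 (flp_e L220108) q14274, e3 q18060 (flp_e L244049) q20895, e3 q18061 L220126 q15196, e3 q18062 L220132 q15197, e3 q18063 L220144 q17687, e3 q18064 L220150 q15199, e3 q18065 (flp_e L239665) q20428, e3 q18066 L220166 q15201, e3 q18067 L220174 q15202, e3 q18068 (flp_e L220176) q14278, e3 q18069 (flp_e L223631) q18475, e3 q18070 L220194 q15205, e3 q18071 (flp_e L223621) q18474, e3 q18072 L220206 q14282, e3 q18073 L229482 q19266, e3 q18074 (flp_e L244171) q20906, e3 q18075 L220224 q15212, e3 q18076 L220234 q15213, e3 q18077 L220240 q15214, e3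 q18078 L220246 q14539, e3 q18079 L220258 q15091, e3 q18080 L220264 q14702, e3 q18081 L220274 q15070, e3 q18082 L220284 q17880, e3 q18083 (flp_e L237845) q20214, e3 q18084 L220298 q14291, e3 q18085 (flp_e L237381) q20164, e3 q18086 (flp_e L244219) q20912, e3 q18087 L220322 q17932, e3 q18088 (flp_e L224965) q18620, e3 q18089 L224935 q18617, e3 q18090 L220344 q15094, e3 q18091 L220354 q14300, e3 q18092 L220364 q15112, e3 q18093 (flp_e L220368) q14302, e3 q18094 (flp_e L223711) q18483, e3 q18095 L220386 q15604, e3 q18096 L220392 q14307, e3 q18097 (flp_e L244243) q20915, e3 q18098 (flp_e L244255) q20916, e3 q18099 (flp_e L225809) q18743, e3 q18100 (flp_e L223593) q18470, e3 q18101 L220420 q14311, e3 q18102 (flp_e L244289) q20922, e3 q18103 (flp_e L244293) q20923, e3 q18104 (flp_e L244301) q20924, e3 q18105 L220434 q14313, e3 q18106 L220440 q14314, e3 q18107 L220448 q16835, e3 q18108 (flp_e L244337) q20930, e3 q18109 (flp_e L236757) q20098, e3 q18110 (flp_e L236761) q20099, e3 q18111 (flp_e L236713) q20094, trivial⟩ (by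 decide +kernel)

theorem ce_e_283 : ∀ r, r < 64 → sm ge (Qf (18112 + r)) = Qf (tab Gen.e (18112 + r)) :=
  edges_tab (sm ge) Qf (tab Gen.e) 18112 [(18112, 14710), (18113, 14711), (18114, 16367), (18115, 14712), (18116, 14772), (18117, 20213), (18118, 16864), (18119, 16426), (18120, 14383), (18121, 20936), (18122, 14328), (18123, 14714), (18124, 14715), (18125, 14716), (18126, 16371), (18127, 14717), (18128, 14672), (18129, 16467), (18130, 20211), (18131, 14719), (18132, 14590), (18133, 15101), (18134, 14721), (18135, 15073), (18136, 17904), (18137, 20217), (18138, 14345), (18139, 20941), (18140, 17942), (18141, 20181), (18142, 18635), (18143, 18632), (18144, 15104), (18145, 14354), (18146, 15124), (18147, 14357), (18148, 18511), (18149, 15841), (18150, 14362), (18151, 20944), (18152, 20945), (18153, 18794), (18154, 18498), (18155, 14366), (18156, 20951), (18157, 20952), (18158, 20953), (18159, 14368), (18160, 14369), (18161, 16842), (18162, 20959), (18163, 20090), (18164, 20091), (18165, 20086), (18166, 14729),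 (18167, 14730), (18168, 16501), (18169, 14731), (18170, 14751), (18171, 20212), (18172, 16855), (18173, 16271), (18174, 20934), (18175, 14733)]
    ⟨e3 q18112 L220478 q14710, e3 q18113 L220496 q14711, e3 q18114 L220508 q16367, e3 q18115 L220516 q14712, e3 q18116 L220524 q14772, e3 q18117 (flp_e L237833) q20213, e3 q18118 L220546 q16864, e3 q18119 L220552 q16426, e3 q18120 L220566 q14383, e3 q18121 L244385 q20936, e3 q18122 (flp_e L220572) q14328, e3 q18123 L220584 q14714, e3 q18124 L220596 q14715, e3 q18125 L220606 q14716, e3 q18126 L220624 q16371, e3 q18127 L220634 q14717, e3 q18128 L220646 q14672, e3 q18129 L220656 q16467, e3 q18130 (flp_e L237808) q20211, e3 q18131 L220668 q14719, e3 q18132 L220676 q14590, e3 q18133 L220688 q15101, e3 q18134 L220694 q14721, e3 q18135 L220704 q15073, e3 q18136 L220714 q17904, e3 q18137 (flp_e L237870) q20217, e3 q18138 L220728 q14345, e3 q18139 (flp_e L244433) q20941, e3 q18140 L220742 q17942, e3 q18141 (flp_e L237527) q20181, e3 q18142 (flp_e L225073) q18635, e3 q18143 L225043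 q18632, e3 q18144 L220774 q15104, e3 q18145 L220784 q14354, e3 q18146 L220794 q15124, e3 q18147 (flp_e L220798) q14357, e3 q18148 (flp_e L223993) q18511, e3 q18149 L220816 q15841, e3 q18150 L220822 q14362, e3 q18151 (flp_e L244457) q20944, e3 q18152 (flp_e L244469) q20945, e3 q18153 (flp_e L226081) q18794, e3 q18154 (flp_e L223875) q18498, e3 q18155 L220850 q14366, e3 q18156 (flp_e L244503) q20951, e3 q18157 (flp_e L244507) q20952, e3 q18158 (flp_e L244515) q20953, e3 q18159 L220864 q14368, e3 q18160 L220870 q14369, e3 q18161 L220878 q16842, e3 q18162 (flp_e L244551) q20959, e3 q18163 (flp_e L236675) q20090, e3 q18164 (flp_e L236679) q20091, e3 q18165 (flp_e L236631) q20086, e3 q18166 L220908 q14729, e3 q18167 L220926 q14730, e3 q18168 L220938 q16501, e3 q18169 L220946 q14731, e3 q18170 L220954 q14751, e3 q18171 (flp_e L237823) q20212, e3 q18172 L220976 q16855, e3 q18173 L220982 q16271, e3 q18174 (flp_e L244371) q20934, e3 q18175 L220998 q14733, trivial⟩ (by decide +kernel)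

theorem ce_e_284 : ∀ r, r < 64 → sm ge (Qf (18176 + r)) = Qf (tab Gen.e (18176 + r)) :=
  edges_tab (sm ge) Qf (tab Gen.e) 18176 [(18176, 14734), (18177, 14735), (18178, 16321), (18179, 14736), (18180, 14644), (18181, 16323), (18182, 20210), (18183, 14738), (18184, 15331), (18185, 20968), (18186, 14399), (18187, 15340), (18188, 18191), (18189, 18236), (18190, 14404), (18191, 18188), (18192, 20971), (18193, 18241), (18194, 14407), (18195, 20976), (18196, 20977), (18197, 20978), (18198, 14409), (18199, 14410), (18200, 18665), (18201, 20856), (18202, 18203), (18203, 18202), (18204, 18742), (18205, 15358), (18206, 15359), (18207, 15389), (18208, 15390), (18209, 15436), (18210, 20994), (18211, 14421), (18212, 15444), (18213, 18217), (18214, 18295), (18215, 14425), (18216, 20997), (18217, 18213), (18218, 18300), (18219, 14429), (18220, 21002), (18221, 21003), (18222, 21004), (18223, 14431), (18224, 14432), (18225, 18663), (18226, 20849), (18227, 18228), (18228, 18227), (18229, 18793), (18230, 15462), (18231, 15463),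 (18232, 15493), (18233, 15494), (18234, 18307), (18235, 20603), (18236, 18189), (18237, 14444), (18238, 20622), (18239, 19580)]
    ⟨e3 q18176 L221010 q14734, e3 q18177 L221020 q14735, e3 q18178 L221038 q16321, e3 q18179 L221048 q14736, e3 q18180 L221060 q14644, e3 q18181 L221070 q16323, e3 q18182 (flp_e L237795) q20210, e3 q18183 L221082 q14738, e3 q18184 L221090 q15331, e3 q18185 L244621 q20968, e3 q18186 (flp_e L221098) q14399, e3 q18187 L221110 q15340, e3 q18188 (flp_e L221141) q18191, e3 q18189 (flp_e L221446) q18236, e3 q18190 L221132 q14404, e3 q18191 L221141 q18188, e3 q18192 (flp_e L244651) q20971, e3 q18193 (flp_e L221486) q18241, e3 q18194 L221157 q14407, e3 q18195 (flp_e L244678) q20976, e3 q18196 (flp_e L244682) q20977, e3 q18197 (flp_e L244690) q20978, e3 q18198 L221171 q14409, e3 q18199 L221180 q14410, e3 q18200 (flp_e L225727) q18665, e3 q18201 (flp_e L243669) q20856, e3 q18202 (flp_e L221211) q18203, e3 q18203 L221211 q18202, e3 q18204 (flp_e L225803) q18742, e3 q18205 L221223 q15358, e3 q18206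 L221233 q15359, e3 q18207 L221239 q15389, e3 q18208 L221251 q15390, e3 q18209 L221259 q15436, e3 q18210 L244806 q20994, e3 q18211 (flp_e L221267) q14421, e3 q18212 L221279 q15444, e3 q18213 (flp_e L221314) q18217, e3 q18214 (flp_e L221902) q18295, e3 q18215 L221301 q14425, e3 q18216 (flp_e L244836) q20997, e3 q18217 L221314 q18213, e3 q18218 (flp_e L221942) q18300, e3 q18219 L221326 q14429, e3 q18220 (flp_e L244863) q21002, e3 q18221 (flp_e L244867) q21003, e3 q18222 (flp_e L244875) q21004, e3 q18223 L221340 q14431, e3 q18224 L221349 q14432, e3 q18225 (flp_e L227438) q18663, e3 q18226 (flp_e L243601) q20849, e3 q18227 (flp_e L221380) q18228, e3 q18228 L221380 q18227, e3 q18229 (flp_e L226075) q18793, e3 q18230 L221392 q15462, e3 q18231 L221402 q15463, e3 q18232 L221408 q15493, e3 q18233 L221420 q15494, e3 q18234 (flp_e L221982) q18307, e3 q18235 (flp_e L241214) q20603, e3 q18236 L221446 q18189, e3 q18237 L221454 q14444, e3 q18238 (flp_e L241392) q20622, e3 q18239 (flp_e L232342) q19580, trivial⟩ (by decide +kernel)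

theorem ce_e_285 : ∀ r, r < 64 → sm ge (Qf (18240 + r)) = Qf (tab Gen.e (18240 + r)) :=
  edges_tab (sm ge) Qf (tab Gen.e) 18240 [(18240, 21018), (18241, 18193), (18242, 14447), (18243, 18521), (18244, 18520), (18245, 21021), (18246, 14449), (18247, 14451), (18248, 20264), (18249, 18293), (18250, 21026), (18251, 14500), (18252, 20235), (18253, 14459), (18254, 14457), (18255, 21030), (18256, 18969), (18257, 17025), (18258, 21029), (18259, 15154), (18260, 14462), (18261, 14463), (18262, 14464), (18263, 21035), (18264, 21036), (18265, 21037), (18266, 20989), (18267, 21039), (18268, 21040), (18269, 14468), (18270, 14469), (18271, 21048), (18272, 14475), (18273, 20135), (18274, 21044), (18275, 17029), (18276, 21045), (18277, 20987), (18278, 21054), (18279, 14470), (18280, 20990), (18281, 18553), (18282, 18344), (18283, 18343), (18284, 17059), (18285, 18058), (18286, 18340), (18287, 18339), (18288, 20350), (18289, 14753), (18290, 14755), (18291, 14758), (18292, 14759), (18293, 18249), (18294, 20604), (18295, 18214),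 (18296, 14492), (18297, 19365), (18298, 21057), (18299, 20649), (18300, 18218), (18301, 14496), (18302, 18495), (18303, 18494)]
    ⟨e3 q18240 (flp_e L244993) q21018, e3 q18241 L221486 q18193, e3 q18242 L221492 q14447, e3 q18243 (flp_e L224063) q18521, e3 q18244 (flp_e L224051) q18520, e3 q18245 (flp_e L245011) q21021, e3 q18246 L221512 q14449, e3 q18247 L221522 q14451, e3 q18248 (flp_e L238181) q20264, e3 q18249 (flp_e L221884) q18293, e3 q18250 (flp_e L245065) q21026, e3 q18251 L221556 q14500, e3 q18252 (flp_e L237989) q20235, e3 q18253 L221582 q14459, e3 q18254 L221588 q14457, e3 q18255 (flp_e L245101) q21030, e3 q18256 (flp_e L227284) q18969, e3 q18257 L221612 q17025, e3 q18258 (flp_e L245091) q21029, e3 q18259 L221628 q15154, e3 q18260 L221636 q14462, e3 q18261 L221640 q14463, e3 q18262 L221646 q14464, e3 q18263 (flp_e L245139) q21035, e3 q18264 (flp_e L245149) q21036, e3 q18265 (flp_e L245161) q21037, e3 q18266 (flp_e L244776) q20989, e3 q18267 (flp_e L245175) q21039, e3 q18268 (flp_e L245183) q21040, e3 q18269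 L221698 q14468, e3 q18270 L221706 q14469, e3 q18271 L245237 q21048, e3 q18272 L221718 q14475, e3 q18273 (flp_e L237131) q20135, e3 q18274 (flp_e L245207) q21044, e3 q18275 L221732 q17029, e3 q18276 (flp_e L245213) q21045, e3 q18277 (flp_e L244752) q20987, e3 q18278 L245275 q21054, e3 q18279 (flp_e L221754) q14470, e3 q18280 (flp_e L244786) q20990, e3 q18281 (flp_e L224363) q18553, e3 q18282 (flp_e L222307) q18344, e3 q18283 (flp_e L222295) q18343, e3 q18284 L221792 q17059, e3 q18285 L221800 q18058, e3 q18286 (flp_e L222259) q18340, e3 q18287 (flp_e L222247) q18339, e3 q18288 (flp_e L238951) q20350, e3 q18289 L221838 q14753, e3 q18290 L221850 q14755, e3 q18291 L221862 q14758, e3 q18292 L221868 q14759, e3 q18293 L221884 q18249, e3 q18294 (flp_e L241222) q20604, e3 q18295 L221902 q18214, e3 q18296 L221910 q14492, e3 q18297 (flp_e L230328) q19365, e3 q18298 (flp_e L245317) q21057, e3 q18299 (flp_e L241626) q20649, e3 q18300 L221942 q18218, e3 q18301 L221948 q14496, e3 q18302 (flp_e L223847) q18495, e3 q18303 (flp_e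 L223785) q18494, trivial⟩ (by decide +kernel)

theorem ce_e_286 : ∀ r, r < 64 → sm ge (Qf (18304 + r)) = Qf (tab Gen.e (18304 + r)) :=
  edges_tab (sm ge) Qf (tab Gen.e) 18304 [(18304, 21060), (18305, 14498), (18306, 20275), (18307, 18234), (18308, 21028), (18309, 20234), (18310, 14508), (18311, 14506), (18312, 21067), (18313, 19109), (18314, 17115), (18315, 21066), (18316, 15188), (18317, 14511), (18318, 14512), (18319, 14513), (18320, 21072), (18321, 21073), (18322, 21074), (18323, 21015), (18324, 21076), (18325, 21077), (18326, 14517), (18327, 14518), (18328, 21083), (18329, 14524), (18330, 20132), (18331, 21081), (18332, 17120), (18333, 21082), (18334, 21013), (18335, 21089), (18336, 14519), (18337, 21016), (18338, 18546), (18339, 18287), (18340, 18286), (18341, 17148), (18342, 18029), (18343, 18283), (18344, 18282), (18345, 20409), (18346, 14774), (18347, 14776), (18348, 14779), (18349, 14780), (18350, 17190), (18351, 19489), (18352, 14540), (18353, 18363), (18354, 14542), (18355, 14543), (18356, 21094), (18357,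 14546), (18358, 20794), (18359, 21098), (18360, 14783), (18361, 14550), (18362, 21102), (18363, 18353), (18364, 14553), (18365, 14554), (18366, 14555), (18367, 21106)]
    ⟨e3 q18304 (flp_e L245335) q21060, e3 q18305 L221970 q14498, e3 q18306 (flp_e L238275) q20275, e3 q18307 L221982 q18234, e3 q18308 (flp_e L245083) q21028, e3 q18309 (flp_e L237979) q20234, e3 q18310 L222018 q14508, e3 q18311 L222024 q14506, e3 q18312 (flp_e L245407) q21067, e3 q18313 (flp_e L228236) q19109, e3 q18314 L222048 q17115, e3 q18315 (flp_e L245391) q21066, e3 q18316 L222064 q15188, e3 q18317 L222072 q14511, e3 q18318 L222076 q14512, e3 q18319 L222082 q14513, e3 q18320 (flp_e L245455) q21072, e3 q18321 (flp_e L245465) q21073, e3 q18322 (flp_e L245477) q21074, e3 q18323 (flp_e L244961) q21015, e3 q18324 (flp_e L245491) q21076, e3 q18325 (flp_e L245499) q21077, e3 q18326 L222128 q14517, e3 q18327 L222136 q14518, e3 q18328 L245533 q21083, e3 q18329 L222152 q14524, e3 q18330 (flp_e L237097) q20132, e3 q18331 (flp_e L245523) q21081, e3 q18332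 L222166 q17120, e3 q18333 (flp_e L245529) q21082, e3 q18334 (flp_e L244937) q21013, e3 q18335 L245571 q21089, e3 q18336 (flp_e L222190) q14519, e3 q18337 (flp_e L244971) q21016, e3 q18338 (flp_e L224307) q18546, e3 q18339 L222247 q18287, e3 q18340 L222259 q18286, e3 q18341 L222273 q17148, e3 q18342 L222281 q18029, e3 q18343 L222295 q18283, e3 q18344 L222307 q18282, e3 q18345 (flp_e L239487) q20409, e3 q18346 L222323 q14774, e3 q18347 L222335 q14776, e3 q18348 L222347 q14779, e3 q18349 L222353 q14780, e3 q18350 L222365 q17190, e3 q18351 (flp_e L231524) q19489, e3 q18352 (flp_e L222377) q14540, e3 q18353 (flp_e L222471) q18363, e3 q18354 L222403 q14542, e3 q18355 L222415 q14543, e3 q18356 (flp_e L245625) q21094, e3 q18357 L222423 q14546, e3 q18358 (flp_e L242999) q20794, e3 q18359 (flp_e L245641) q21098, e3 q18360 L222441 q14783, e3 q18361 L222455 q14550, e3 q18362 (flp_e L245697) q21102, e3 q18363 L222471 q18353, e3 q18364 L222481 q14553, e3 q18365 L222487 q14554, e3 q18366 L222497 q14555, e3 q18367 (flp_e L245723)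 q21106, trivial⟩ (by decide +kernel)

theorem ce_e_287 : ∀ r, r < 64 → sm ge (Qf (18368 + r)) = Qf (tab Gen.e (18368 + r)) :=
  edges_tab (sm ge) Qf (tab Gen.e) 18368 [(18368, 21107), (18369, 21108), (18370, 21109), (18371, 14558), (18372, 14559), (18373, 17208), (18374, 15485), (18375, 21119), (18376, 21120), (18377, 20323), (18378, 14792), (18379, 14796), (18380, 14797), (18381, 14798), (18382, 14799), (18383, 14572), (18384, 14574), (18385, 14575), (18386, 20289), (18387, 21126), (18388, 14569), (18389, 21127), (18390, 14581), (18391, 14582), (18392, 14583), (18393, 21123), (18394, 20439), (18395, 21124), (18396, 20440), (18397, 19121), (18398, 20288), (18399, 20138), (18400, 20252), (18401, 14576), (18402, 20308), (18403, 14578), (18404, 14580), (18405, 21140), (18406, 21128), (18407, 17024), (18408, 21129), (18409, 20324), (18410, 14812), (18411, 14814), (18412, 17265), (18413, 19245), (18414, 14591), (18415, 18425), (18416, 14594), (18417, 14593), (18418, 21149), (18419, 14597), (18420, 20798), (18421, 21151),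 (18422, 14817), (18423, 14601), (18424, 21155), (18425, 18415), (18426, 14606), (18427, 14604), (18428, 14605), (18429, 21160), (18430, 21161), (18431, 21162)]
    ⟨e3 q18368 (flp_e L245731) q21107, e3 q18369 (flp_e L245741) q21108, e3 q18370 (flp_e L245747) q21109, e3 q18371 L222513 q14558, e3 q18372 L222912 q14559, e3 q18373 L222918 q17208, e3 q18374 L222924 q15485, e3 q18375 (flp_e L245809) q21119, e3 q18376 (flp_e L245821) q21120, e3 q18377 (flp_e L238659) q20323, e3 q18378 L222952 q14792, e3 q18379 L222962 q14796, e3 q18380 L222972 q14797, e3 q18381 L222982 q14798, e3 q18382 L222996 q14799, e3 q18383 L223006 q14572, e3 q18384 L223012 q14574, e3 q18385 L223016 q14575, e3 q18386 (flp_e L238386) q20289, e3 q18387 L245865 q21126, e3 q18388 (flp_e L223026) q14569, e3 q18389 (flp_e L245877) q21127, e3 q18390 L223038 q14581, e3 q18391 L223048 q14582, e3 q18392 L223056 q14583, e3 q18393 (flp_e L245849) q21123, e3 q18394 (flp_e L239773) q20439, e3 q18395 (flp_e L245861) q21124, e3 q18396 (flp_e L239783) q20440, e3 q18397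 L228331 q19121, e3 q18398 (flp_e L238378) q20288, e3 q18399 L237163 q20138, e3 q18400 L238087 q20252, e3 q18401 (flp_e L223096) q14576, e3 q18402 (flp_e L238534) q20308, e3 q18403 (flp_e L223106) q14578, e3 q18404 L223114 q14580, e3 q18405 (flp_e L245966) q21140, e3 q18406 (flp_e L245883) q21128, e3 q18407 L223139 q17024, e3 q18408 (flp_e L245893) q21129, e3 q18409 (flp_e L238673) q20324, e3 q18410 L223159 q14812, e3 q18411 L223171 q14814, e3 q18412 L223179 q17265, e3 q18413 (flp_e L229278) q19245, e3 q18414 (flp_e L223191) q14591, e3 q18415 (flp_e L223285) q18425, e3 q18416 L223217 q14594, e3 q18417 L223229 q14593, e3 q18418 (flp_e L246048) q21149, e3 q18419 L223237 q14597, e3 q18420 (flp_e L243033) q20798, e3 q18421 (flp_e L246056) q21151, e3 q18422 L223255 q14817, e3 q18423 L223269 q14601, e3 q18424 (flp_e L246102) q21155, e3 q18425 L223285 q18415, e3 q18426 L223295 q14606, e3 q18427 L223301 q14604, e3 q18428 L223311 q14605, e3 q18429 (flp_e L246136) q21160, e3 q18430 (flp_e L246146) q21161, e3 q18431 (flp_e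 L246152) q21162, trivial⟩ (by decide +kernel)

theorem ce_e_288 : ∀ r, r < 64 → sm ge (Qf (18432 + r)) = Qf (tab Gen.e (18432 + r)) :=
  edges_tab (sm ge) Qf (tab Gen.e) 18432 [(18432, 21159), (18433, 14609), (18434, 14610), (18435, 21172), (18436, 21173), (18437, 20393), (18438, 17284), (18439, 15381), (18440, 14810), (18441, 14828), (18442, 14829), (18443, 14830), (18444, 14831), (18445, 14623), (18446, 14624), (18447, 14626), (18448, 20309), (18449, 21179), (18450, 14620), (18451, 21180), (18452, 14630), (18453, 14631), (18454, 14632), (18455, 21176), (18456, 21177), (18457, 20497), (18458, 20498), (18459, 18982), (18460, 20240), (18461, 20142), (18462, 14629), (18463, 21189), (18464, 21181), (18465, 17114), (18466, 21182), (18467, 20394), (18468, 14840), (18469, 14842), (18470, 18100), (18471, 14641), (18472, 21196), (18473, 16889), (18474, 18071), (18475, 18069), (18476, 20894), (18477, 16322), (18478, 14649), (18479, 15844), (18480, 21200), (18481, 16913), (18482, 14653), (18483, 18094), (18484, 14654), (18485,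 14655), (18486, 14656), (18487, 19136), (18488, 21205), (18489, 21206), (18490, 21207), (18491, 14660), (18492, 15913), (18493, 19172), (18494, 18303), (18495, 18302)]
    ⟨e3 q18432 (flp_e L246128) q21159, e3 q18433 L223327 q14609, e3 q18434 L223333 q14610, e3 q18435 (flp_e L246220) q21172, e3 q18436 (flp_e L246232) q21173, e3 q18437 (flp_e L239335) q20393, e3 q18438 L223363 q17284, e3 q18439 L223369 q15381, e3 q18440 L223379 q14810, e3 q18441 L223389 q14828, e3 q18442 L223401 q14829, e3 q18443 L223409 q14830, e3 q18444 L223423 q14831, e3 q18445 L223433 q14623, e3 q18446 L223439 q14624, e3 q18447 L223443 q14626, e3 q18448 (flp_e L238542) q20309, e3 q18449 L246282 q21179, e3 q18450 (flp_e L223457) q14620, e3 q18451 (flp_e L246300) q21180, e3 q18452 L223473 q14630, e3 q18453 L223485 q14631, e3 q18454 L223493 q14632, e3 q18455 (flp_e L246260) q21176, e3 q18456 (flp_e L246272) q21177, e3 q18457 (flp_e L240251) q20497, e3 q18458 (flp_e L240261) q20498, e3 q18459 L227391 q18982, e3 q18460 L238013 q20240, e3 q18461 L237197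 q20142, e3 q18462 L223531 q14629, e3 q18463 (flp_e L246365) q21189, e3 q18464 (flp_e L246310) q21181, e3 q18465 L223549 q17114, e3 q18466 (flp_e L246320) q21182, e3 q18467 (flp_e L239349) q20394, e3 q18468 L223569 q14840, e3 q18469 L223581 q14842, e3 q18470 L223593 q18100, e3 q18471 L223605 q14641, e3 q18472 (flp_e L246431) q21196, e3 q18473 L223613 q16889, e3 q18474 L223621 q18071, e3 q18475 L223631 q18069, e3 q18476 (flp_e L244037) q20894, e3 q18477 L223647 q16322, e3 q18478 L223661 q14649, e3 q18479 L223671 q15844, e3 q18480 (flp_e L246469) q21200, e3 q18481 L223689 q16913, e3 q18482 L223697 q14653, e3 q18483 L223711 q18094, e3 q18484 L223717 q14654, e3 q18485 L223723 q14655, e3 q18486 L223735 q14656, e3 q18487 L228463 q19136, e3 q18488 (flp_e L246519) q21205, e3 q18489 (flp_e L246527) q21206, e3 q18490 (flp_e L246533) q21207, e3 q18491 L223757 q14660, e3 q18492 L223771 q15913, e3 q18493 (flp_e L228711) q19172, e3 q18494 L223785 q18303, e3 q18495 L223847 q18302, trivial⟩ (by decide +kernel)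

theorem ce_e_289 : ∀ r, r < 64 → sm ge (Qf (18496 + r)) = Qf (tab Gen.e (18496 + r)) :=
  edges_tab (sm ge) Qf (tab Gen.e) 18496 [(18496, 20821), (18497, 14888), (18498, 18154), (18499, 14669), (18500, 21216), (18501, 18042), (18502, 18040), (18503, 20870), (18504, 16900), (18505, 16372), (18506, 14677), (18507, 21220), (18508, 16925), (18509, 15610), (18510, 14684), (18511, 18148), (18512, 14682), (18513, 14683), (18514, 14685), (18515, 21225), (18516, 21226), (18517, 21227), (18518, 18997), (18519, 14688), (18520, 18244), (18521, 18243), (18522, 20822), (18523, 15683), (18524, 19035), (18525, 14856), (18526, 14696), (18527, 14698), (18528, 14704), (18529, 20937), (18530, 14723), (18531, 20964), (18532, 14743), (18533, 14744), (18534, 21235), (18535, 17023), (18536, 14764), (18537, 14765), (18538, 21236), (18539, 17116), (18540, 14790), (18541, 14791), (18542, 14794), (18543, 14795), (18544, 21175), (18545, 14811), (18546, 18338), (18547, 20238), (18548, 18595), (18549, 14823), (18550, 14826), (18551, 14827),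 (18552, 21122), (18553, 18281), (18554, 20250), (18555, 18584), (18556, 14849), (18557, 14852), (18558, 21240), (18559, 14853)]
    ⟨e3 q18496 (flp_e L243323) q20821, e3 q18497 L223865 q14888, e3 q18498 L223875 q18154, e3 q18499 L223887 q14669, e3 q18500 (flp_e L246593) q21216, e3 q18501 L223895 q18042, e3 q18502 L223905 q18040, e3 q18503 (flp_e L243793) q20870, e3 q18504 L223919 q16900, e3 q18505 L223929 q16372, e3 q18506 L223943 q14677, e3 q18507 (flp_e L246635) q21220, e3 q18508 L223959 q16925, e3 q18509 L223971 q15610, e3 q18510 L223979 q14684, e3 q18511 L223993 q18148, e3 q18512 L223997 q14682, e3 q18513 L224007 q14683, e3 q18514 L224017 q14685, e3 q18515 (flp_e L246685) q21225, e3 q18516 (flp_e L246693) q21226, e3 q18517 (flp_e L246699) q21227, e3 q18518 L227548 q18997, e3 q18519 L224039 q14688, e3 q18520 L224051 q18244, e3 q18521 L224063 q18243, e3 q18522 (flp_e L243331) q20822, e3 q18523 L224079 q15683, e3 q18524 (flp_e L227788) q19035, e3 q18525 L224097 q14856, e3 q18526 L224105 q14696, e3 q18527 L224115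 q14698, e3 q18528 L224121 q14704, e3 q18529 (flp_e L244401) q20937, e3 q18530 L224139 q14723, e3 q18531 (flp_e L244599) q20964, e3 q18532 L224159 q14743, e3 q18533 L224173 q14744, e3 q18534 (flp_e L246749) q21235, e3 q18535 L224197 q17023, e3 q18536 L224205 q14764, e3 q18537 L224219 q14765, e3 q18538 (flp_e L246763) q21236, e3 q18539 L224243 q17116, e3 q18540 L224249 q14790, e3 q18541 L224261 q14791, e3 q18542 L224273 q14794, e3 q18543 L224285 q14795, e3 q18544 (flp_e L246250) q21175, e3 q18545 L224299 q14811, e3 q18546 L224307 q18338, e3 q18547 (flp_e L237999) q20238, e3 q18548 (flp_e L224735) q18595, e3 q18549 L224331 q14823, e3 q18550 L224341 q14826, e3 q18551 L224353 q14827, e3 q18552 (flp_e L245839) q21122, e3 q18553 L224363 q18281, e3 q18554 (flp_e L238073) q20250, e3 q18555 (flp_e L224631) q18584, e3 q18556 L224387 q14849, e3 q18557 L224399 q14852, e3 q18558 L246797 q21240, e3 q18559 (flp_e L224419) q14853, trivial⟩ (by decide +kernel)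

theorem ce_e_290 : ∀ r, r < 64 → sm ge (Qf (18560 + r)) = Qf (tab Gen.e (18560 + r)) :=
  edges_tab (sm ge) Qf (tab Gen.e) 18560 [(18560, 14854), (18561, 20059), (18562, 20312), (18563, 14863), (18564, 14866), (18565, 14867), (18566, 21246), (18567, 14869), (18568, 14871), (18569, 14872), (18570, 14881), (18571, 14884), (18572, 21251), (18573, 14885), (18574, 14886), (18575, 20076), (18576, 20293), (18577, 14894), (18578, 14896), (18579, 21256), (18580, 14898), (18581, 14900), (18582, 15005), (18583, 14911), (18584, 18555), (18585, 17498), (18586, 14985), (18587, 14936), (18588, 14931), (18589, 21259), (18590, 18603), (18591, 19760), (18592, 20037), (18593, 15000), (18594, 14958), (18595, 18548), (18596, 17503), (18597, 14979), (18598, 21260), (18599, 18605), (18600, 19666), (18601, 20057), (18602, 15001), (18603, 18590), (18604, 21261), (18605, 18599), (18606, 21262), (18607, 15009), (18608, 15014), (18609, 21263), (18610, 21264), (18611, 15021), (18612, 15025), (18613, 15858), (18614, 15029), (18615, 15624),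 (18616, 20105), (18617, 18089), (18618, 18002), (18619, 15531), (18620, 18088), (18621, 15038), (18622, 21265), (18623, 19718)]
    ⟨e3 q18560 (flp_e L224425) q14854, e3 q18561 (flp_e L236419) q20059, e3 q18562 (flp_e L238567) q20312, e3 q18563 (flp_e L224441) q14863, e3 q18564 (flp_e L224451) q14866, e3 q18565 (flp_e L224461) q14867, e3 q18566 (flp_e L246863) q21246, e3 q18567 L224481 q14869, e3 q18568 L224489 q14871, e3 q18569 (flp_e L224495) q14872, e3 q18570 L224509 q14881, e3 q18571 L224521 q14884, e3 q18572 L246905 q21251, e3 q18573 (flp_e L224541) q14885, e3 q18574 (flp_e L224547) q14886, e3 q18575 (flp_e L236555) q20076, e3 q18576 (flp_e L238423) q20293, e3 q18577 (flp_e L224563) q14894, e3 q18578 (flp_e L224573) q14896, e3 q18579 (flp_e L246959) q21256, e3 q18580 L224593 q14898, e3 q18581 L224601 q14900, e3 q18582 L224611 q15005, e3 q18583 (flp_e L224615) q14911, e3 q18584 L224631 q18555, e3 q18585 L224639 q17498, e3 q18586 L224656 q14985, e3 q18587 L224666 q14936, e3 q18588 (flp_e L224676) q14931, e3 q18589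 (flp_e L246985) q21259, e3 q18590 (flp_e L224801) q18603, e3 q18591 (flp_e L233849) q19760, e3 q18592 (flp_e L236257) q20037, e3 q18593 L224713 q15000, e3 q18594 (flp_e L224719) q14958, e3 q18595 L224735 q18548, e3 q18596 L224743 q17503, e3 q18597 (flp_e L224752) q14979, e3 q18598 (flp_e L246997) q21260, e3 q18599 (flp_e L224831) q18605, e3 q18600 (flp_e L233101) q19666, e3 q18601 (flp_e L236396) q20057, e3 q18602 L224789 q15001, e3 q18603 L224801 q18590, e3 q18604 L247001 q21261, e3 q18605 L224831 q18599, e3 q18606 L247013 q21262, e3 q18607 (flp_e L224845) q15009, e3 q18608 L224851 q15014, e3 q18609 L247023 q21263, e3 q18610 L247035 q21264, e3 q18611 (flp_e L224879) q15021, e3 q18612 L224885 q15025, e3 q18613 L224893 q15858, e3 q18614 L224905 q15029, e3 q18615 L224913 q15624, e3 q18616 L236825 q20105, e3 q18617 (flp_e L224935) q18089, e3 q18618 L224943 q18002, e3 q18619 L224949 q15531, e3 q18620 L224965 q18088, e3 q18621 L224975 q15038, e3 q18622 (flp_e L247049) q21265, e3 q18623 (flp_e L233493) q19718, trivial⟩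 (by decide +kernel)

theorem ce_e_291 : ∀ r, r < 64 → sm ge (Qf (18624 + r)) = Qf (tab Gen.e (18624 + r)) :=
  edges_tab (sm ge) Qf (tab Gen.e) 18624 [(18624, 19705), (18625, 16016), (18626, 18808), (18627, 19009), (18628, 18810), (18629, 19032), (18630, 18795), (18631, 20113), (18632, 18143), (18633, 18005), (18634, 15775), (18635, 18142), (18636, 15050), (18637, 21274), (18638, 19813), (18639, 19800), (18640, 16092), (18641, 18757), (18642, 19148), (18643, 18758), (18644, 19169), (18645, 18744), (18646, 20942), (18647, 15058), (18648, 21283), (18649, 15059), (18650, 21286), (18651, 15061), (18652, 20913), (18653, 15063), (18654, 21288), (18655, 15064), (18656, 21291), (18657, 15066), (18658, 18658), (18659, 18659), (18660, 18660), (18661, 18661), (18662, 19123), (18663, 18225), (18664, 18984), (18665, 18200), (18666, 15078), (18667, 20832), (18668, 15081), (18669, 19511), (18670, 20833), (18671, 15083), (18672, 20835), (18673, 15086), (18674, 19279), (18675, 20836), (18676, 15089), (18677, 21301), (18678, 20314),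 (18679, 19675), (18680, 19754), (18681, 15093), (18682, 21305), (18683, 19962), (18684, 21306), (18685, 20840), (18686, 18767), (18687, 15099)]
    ⟨e3 q18624 (flp_e L233383) q19705, e3 q18625 L224991 q16016, e3 q18626 (flp_e L226159) q18808, e3 q18627 (flp_e L227624) q19009, e3 q18628 (flp_e L226177) q18810, e3 q18629 (flp_e L227764) q19032, e3 q18630 (flp_e L226089) q18795, e3 q18631 L236909 q20113, e3 q18632 (flp_e L225043) q18143, e3 q18633 L225051 q18005, e3 q18634 L225057 q15775, e3 q18635 L225073 q18142, e3 q18636 L225083 q15050, e3 q18637 (flp_e L247116) q21274, e3 q18638 (flp_e L234255) q19813, e3 q18639 (flp_e L234145) q19800, e3 q18640 L225099 q16092, e3 q18641 (flp_e L225887) q18757, e3 q18642 (flp_e L228547) q19148, e3 q18643 (flp_e L225899) q18758, e3 q18644 (flp_e L228687) q19169, e3 q18645 (flp_e L225817) q18744, e3 q18646 (flp_e L244441) q20942, e3 q18647 (flp_e L225147) q15058, e3 q18648 L247179 q21283, e3 q18649 (flp_e L225161) q15059, e3 q18650 (flp_e L247203) q21286, e3 q18651 L225177 q15061,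 e3 q18652 (flp_e L244227) q20913, e3 q18653 (flp_e L225189) q15063, e3 q18654 L247213 q21288, e3 q18655 (flp_e L225203) q15064, e3 q18656 (flp_e L247237) q21291, e3 q18657 L225219 q15066, e3 q18658 L225225 q18658, e3 q18659 L225231 q18659, e3 q18660 L225238 q18660, e3 q18661 L225244 q18661, e3 q18662 L228354 q19123, e3 q18663 L227438 q18225, e3 q18664 L227449 q18984, e3 q18665 L225727 q18200, e3 q18666 (flp_e L225263) q15078, e3 q18667 (flp_e L243445) q20832, e3 q18668 L225273 q15081, e3 q18669 L231728 q19511, e3 q18670 (flp_e L243451) q20833, e3 q18671 (flp_e L225291) q15083, e3 q18672 (flp_e L243471) q20835, e3 q18673 L225301 q15086, e3 q18674 L229592 q19279, e3 q18675 (flp_e L243479) q20836, e3 q18676 L225327 q15089, e3 q18677 (flp_e L247315) q21301, e3 q18678 (flp_e L238587) q20314, e3 q18679 L233163 q19675, e3 q18680 (flp_e L233793) q19754, e3 q18681 L225351 q15093, e3 q18682 (flp_e L247363) q21305, e3 q18683 (flp_e L235601) q19962, e3 q18684 (flp_e L247371) q21306, e3 q18685 (flp_e L243517) q20840, e3 q18686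 (flp_e L225939) q18767, e3 q18687 L225381 q15099, trivial⟩ (by decide +kernel)

theorem ce_e_292 : ∀ r, r < 64 → sm ge (Qf (18688 + r)) = Qf (tab Gen.e (18688 + r)) :=
  edges_tab (sm ge) Qf (tab Gen.e) 18688 [(18688, 21312), (18689, 20294), (18690, 19769), (18691, 19851), (18692, 15103), (18693, 21316), (18694, 20009), (18695, 21317), (18696, 20844), (18697, 18816), (18698, 17414), (18699, 16508), (18700, 15690), (18701, 19239), (18702, 16336), (18703, 17465), (18704, 21327), (18705, 17428), (18706, 16387), (18707, 15920), (18708, 19473), (18709, 16478), (18710, 17440), (18711, 21332), (18712, 18712), (18713, 18713), (18714, 18714), (18715, 18715), (18716, 15134), (18717, 20847), (18718, 20848), (18719, 16052), (18720, 18785), (18721, 21339), (18722, 20851), (18723, 18786), (18724, 15138), (18725, 21342), (18726, 15139), (18727, 15141), (18728, 20854), (18729, 20855), (18730, 16130), (18731, 18836), (18732, 21347), (18733, 18837), (18734, 20858), (18735, 15145), (18736, 21350), (18737, 15146), (18738, 20865), (18739,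 20866), (18740, 20867), (18741, 19522), (18742, 18204), (18743, 18099), (18744, 18645), (18745, 20868), (18746, 20797), (18747, 19113), (18748, 19483), (18749, 15158), (18750, 21143), (18751, 15159)]
    ⟨e3 q18688 (flp_e L247419) q21312, e3 q18689 (flp_e L238431) q20294, e3 q18690 L233911 q19769, e3 q18691 (flp_e L234589) q19851, e3 q18692 L225405 q15103, e3 q18693 (flp_e L247467) q21316, e3 q18694 (flp_e L236045) q20009, e3 q18695 (flp_e L247475) q21317, e3 q18696 (flp_e L243551) q20844, e3 q18697 (flp_e L226201) q18816, e3 q18698 L225433 q17414, e3 q18699 L225443 q16508, e3 q18700 L225457 q15690, e3 q18701 (flp_e L229226) q19239, e3 q18702 L225467 q16336, e3 q18703 L225481 q17465, e3 q18704 L247573 q21327, e3 q18705 L225496 q17428, e3 q18706 L225506 q16387, e3 q18707 L225520 q15920, e3 q18708 (flp_e L231366) q19473, e3 q18709 L225530 q16478, e3 q18710 L225544 q17440, e3 q18711 L247632 q21332, e3 q18712 L225559 q18712, e3 q18713 L225566 q18713, e3 q18714 L225573 q18714, e3 q18715 L225582 q18715, e3 q18716 (flp_e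 L225585) q15134, e3 q18717 (flp_e L243573) q20847, e3 q18718 (flp_e L243583) q20848, e3 q18719 L225637 q16052, e3 q18720 (flp_e L226029) q18785, e3 q18721 L247697 q21339, e3 q18722 (flp_e L243613) q20851, e3 q18723 (flp_e L226037) q18786, e3 q18724 (flp_e L225657) q15138, e3 q18725 L247729 q21342, e3 q18726 (flp_e L225671) q15139, e3 q18727 (flp_e L225681) q15141, e3 q18728 (flp_e L243641) q20854, e3 q18729 (flp_e L243651) q20855, e3 q18730 (flp_e L225725) q16130, e3 q18731 (flp_e L226315) q18836, e3 q18732 L247781 q21347, e3 q18733 (flp_e L226323) q18837, e3 q18734 (flp_e L243681) q20858, e3 q18735 (flp_e L225757) q15145, e3 q18736 L247813 q21350, e3 q18737 (flp_e L225771) q15146, e3 q18738 (flp_e L243743) q20865, e3 q18739 (flp_e L243751) q20866, e3 q18740 (flp_e L243759) q20867, e3 q18741 (flp_e L231830) q19522, e3 q18742 L225803 q18204, e3 q18743 L225809 q18099, e3 q18744 L225817 q18645, e3 q18745 (flp_e L243769) q20868, e3 q18746 (flp_e L243023) q20797, e3 q18747 (flp_e L228260) q19113, e3 q18748 L231470 q19483,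 e3 q18749 (flp_e L225845) q15158, e3 q18750 (flp_e L245994) q21143, e3 q18751 (flp_e L225855) q15159, trivial⟩ (by decide +kernel)

theorem ce_e_293 : ∀ r, r < 64 → sm ge (Qf (18752 + r)) = Qf (tab Gen.e (18752 + r)) :=
  edges_tab (sm ge) Qf (tab Gen.e) 18752 [(18752, 21361), (18753, 15161), (18754, 21034), (18755, 20872), (18756, 20873), (18757, 18641), (18758, 18643), (18759, 20874), (18760, 19091), (18761, 20876), (18762, 15166), (18763, 21290), (18764, 21368), (18765, 20877), (18766, 19064), (18767, 18686), (18768, 15170), (18769, 21372), (18770, 19301), (18771, 20879), (18772, 15172), (18773, 21375), (18774, 21376), (18775, 15174), (18776, 21379), (18777, 21380), (18778, 15176), (18779, 15177), (18780, 21382), (18781, 21383), (18782, 21384), (18783, 21385), (18784, 20883), (18785, 18720), (18786, 18723), (18787, 19034), (18788, 20884), (18789, 20889), (18790, 20890), (18791, 19294), (18792, 20891), (18793, 18229), (18794, 18153), (18795, 18630), (18796, 20892), (18797, 20793), (18798, 19249), (18799, 18974),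 (18800, 15192), (18801, 21192), (18802, 15193), (18803, 21406), (18804, 15195), (18805, 21071), (18806, 20896), (18807, 20897), (18808, 18626), (18809, 20898), (18810, 18628), (18811, 18951), (18812, 20900), (18813, 15200), (18814, 21413), (18815, 21285)]
    ⟨e3 q18752 (flp_e L247916) q21361, e3 q18753 L225871 q15161, e3 q18754 (flp_e L245133) q21034, e3 q18755 (flp_e L243817) q20872, e3 q18756 (flp_e L243829) q20873, e3 q18757 L225887 q18641, e3 q18758 L225899 q18643, e3 q18759 (flp_e L243841) q20874, e3 q18760 (flp_e L228129) q19091, e3 q18761 (flp_e L243867) q20876, e3 q18762 (flp_e L225915) q15166, e3 q18763 (flp_e L247229) q21290, e3 q18764 (flp_e L247965) q21368, e3 q18765 (flp_e L243875) q20877, e3 q18766 L227965 q19064, e3 q18767 L225939 q18686, e3 q18768 L225951 q15170, e3 q18769 (flp_e L248005) q21372, e3 q18770 (flp_e L229782) q19301, e3 q18771 (flp_e L243895) q20879, e3 q18772 (flp_e L225965) q15172, e3 q18773 (flp_e L248031) q21375, e3 q18774 (flp_e L248037) q21376, e3 q18775 L225979 q15174, e3 q18776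 (flp_e L248061) q21379, e3 q18777 (flp_e L248069) q21380, e3 q18778 L225995 q15176, e3 q18779 L226001 q15177, e3 q18780 (flp_e L248081) q21382, e3 q18781 (flp_e L248093) q21383, e3 q18782 (flp_e L248109) q21384, e3 q18783 (flp_e L248115) q21385, e3 q18784 (flp_e L243935) q20883, e3 q18785 L226029 q18720, e3 q18786 L226037 q18723, e3 q18787 (flp_e L227780) q19034, e3 q18788 (flp_e L243943) q20884, e3 q18789 (flp_e L243987) q20889, e3 q18790 (flp_e L243995) q20890, e3 q18791 (flp_e L229728) q19294, e3 q18792 (flp_e L244001) q20891, e3 q18793 L226075 q18229, e3 q18794 L226081 q18153, e3 q18795 L226089 q18630, e3 q18796 (flp_e L244013) q20892, e3 q18797 (flp_e L242989) q20793, e3 q18798 L229324 q19249, e3 q18799 (flp_e L227318) q18974, e3 q18800 (flp_e L226117) q15192, e3 q18801 (flp_e L246393) q21192, e3 q18802 (flp_e L226127) q15193, e3 q18803 (flp_e L248294) q21406, e3 q18804 L226143 q15195, e3 q18805 (flp_e L245449) q21071, e3 q18806 (flp_e L244061) q20896, e3 q18807 (flp_e L244073) q20897, e3 q18808 L226159 q18626,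 e3 q18809 (flp_e L244085) q20898, e3 q18810 L226177 q18628, e3 q18811 (flp_e L227179) q18951, e3 q18812 (flp_e L244111) q20900, e3 q18813 (flp_e L226187) q15200, e3 q18814 (flp_e L248343) q21413, e3 q18815 (flp_e L247195) q21285, trivial⟩ (by decide +kernel)

theorem ce_e_294 : ∀ r, r < 64 → sm ge (Qf (18816 + r)) = Qf (tab Gen.e (18816 + r)) :=
  edges_tab (sm ge) Qf (tab Gen.e) 18816 [(18816, 18697), (18817, 20901), (18818, 19201), (18819, 15204), (18820, 21416), (18821, 19529), (18822, 20903), (18823, 15206), (18824, 21419), (18825, 21420), (18826, 15208), (18827, 21423), (18828, 21424), (18829, 15210), (18830, 15211), (18831, 21426), (18832, 21427), (18833, 21428), (18834, 21429), (18835, 20907), (18836, 18731), (18837, 18733), (18838, 19171), (18839, 20908), (18840, 16968), (18841, 17251), (18842, 21445), (18843, 15221), (18844, 21446), (18845, 17429), (18846, 19329), (18847, 15223), (18848, 21447), (18849, 15225), (18850, 21448), (18851, 21452), (18852, 15228), (18853, 21453), (18854, 20383), (18855, 21455),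 (18856, 15231), (18857, 21457), (18858, 15234), (18859, 19422), (18860, 15236), (18861, 21458), (18862, 15238), (18863, 21459), (18864, 21460), (18865, 19872), (18866, 19873), (18867, 19874), (18868, 19875), (18869, 15245), (18870, 21464), (18871, 20443), (18872, 20448), (18873, 15250), (18874, 21466), (18875, 15252), (18876, 21467), (18877, 21468), (18878, 21469), (18879, 16225)]
    ⟨e3 q18816 L226201 q18697, e3 q18817 (flp_e L244119) q20901, e3 q18818 L228922 q19201, e3 q18819 L226223 q15204, e3 q18820 (flp_e L248371) q21416, e3 q18821 (flp_e L231880) q19529, e3 q18822 (flp_e L244139) q20903, e3 q18823 (flp_e L226251) q15206, e3 q18824 (flp_e L248399) q21419, e3 q18825 (flp_e L248407) q21420, e3 q18826 L226265 q15208, e3 q18827 (flp_e L248429) q21423, e3 q18828 (flp_e L248437) q21424, e3 q18829 L226281 q15210, e3 q18830 L226287 q15211, e3 q18831 (flp_e L248451) q21426, e3 q18832 (flp_e L248463) q21427, e3 q18833 (flp_e L248479) q21428, e3 q18834 (flp_e L248485) q21429, e3 q18835 (flp_e L244179) q20907, e3 q18836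 L226315 q18731, e3 q18837 L226323 q18733, e3 q18838 (flp_e L228703) q19171, e3 q18839 (flp_e L244187) q20908, e3 q18840 L226341 q16968, e3 q18841 L226353 q17251, e3 q18842 L248613 q21445, e3 q18843 (flp_e L226360) q15221, e3 q18844 (flp_e L248628) q21446, e3 q18845 L226373 q17429, e3 q18846 (flp_e L230065) q19329, e3 q18847 (flp_e L226390) q15223, e3 q18848 (flp_e L248638) q21447, e3 q18849 L226405 q15225, e3 q18850 (flp_e L248646) q21448, e3 q18851 L248682 q21452, e3 q18852 (flp_e L226417) q15228, e3 q18853 (flp_e L248692) q21453, e3 q18854 (flp_e L239247) q20383, e3 q18855 L248700 q21455, e3 q18856 (flp_e L226441) q15231, e3 q18857 L248714 q21457, e3 q18858 (flp_e L226461) q15234, e3 q18859 (flp_e L230974) q19422, e3 q18860 L226481 q15236, e3 q18861 (flp_e L248726) q21458, e3 q18862 L226489 q15238, e3 q18863 (flp_e L248734) q21459, e3 q18864 (flp_e L248742) q21460, e3 q18865 (flp_e L234757) q19872, e3 q18866 (flp_e L234767) q19873, e3 q18867 (flp_e L234781) q19874, e3 q18868 (flp_e L234791) q19875, e3 q18869 L226545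 q15245, e3 q18870 (flp_e L248766) q21464, e3 q18871 L239805 q20443, e3 q18872 (flp_e L239845) q20448, e3 q18873 L226571 q15250, e3 q18874 (flp_e L248782) q21466, e3 q18875 L226583 q15252, e3 q18876 (flp_e L248792) q21467, e3 q18877 (flp_e L248802) q21468, e3 q18878 (flp_e L248818) q21469, e3 q18879 L226625 q16225, trivial⟩ (by decide +kernel)

theorem ce_e_295 : ∀ r, r < 64 → sm ge (Qf (18880 + r)) = Qf (tab Gen.e (18880 + r)) :=
  edges_tab (sm ge) Qf (tab Gen.e) 18880 [(18880, 15256), (18881, 21471), (18882, 19412), (18883, 15259), (18884, 15260), (18885, 21476), (18886, 21477), (18887, 21478), (18888, 21479), (18889, 15263), (18890, 15264), (18891, 15265), (18892, 21485), (18893, 21484), (18894, 16233), (18895, 16234), (18896, 16993), (18897, 17328), (18898, 15274), (18899, 21488), (18900, 17415), (18901, 19555), (18902, 15276), (18903, 21489), (18904, 15278), (18905, 21490), (18906, 21494), (18907, 15281), (18908, 20425), (18909, 21495), (18910, 21497), (18911, 15284), (18912, 21499), (18913, 15287), (18914,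 19624), (18915, 15289), (18916, 21500), (18917, 15291), (18918, 21501), (18919, 21502), (18920, 19853), (18921, 19854), (18922, 19855), (18923, 19856), (18924, 15299), (18925, 21506), (18926, 20506), (18927, 20501), (18928, 15303), (18929, 21508), (18930, 15305), (18931, 21509), (18932, 21510), (18933, 21511), (18934, 16255), (18935, 15309), (18936, 21513), (18937, 19617), (18938, 15312), (18939, 15313), (18940, 21518), (18941, 21519), (18942, 21520), (18943, 21521)]
    ⟨e3 q18880 L226635 q15256, e3 q18881 (flp_e L248836) q21471, e3 q18882 (flp_e L230726) q19412, e3 q18883 L226651 q15259, e3 q18884 L226661 q15260, e3 q18885 (flp_e L248860) q21476, e3 q18886 (flp_e L248870) q21477, e3 q18887 (flp_e L248882) q21478, e3 q18888 (flp_e L248888) q21479, e3 q18889 L226689 q15263, e3 q18890 L226696 q15264, e3 q18891 L226702 q15265, e3 q18892 L248933 q21485, e3 q18893 (flp_e L248929) q21484, e3 q18894 L226719 q16233, e3 q18895 L226729 q16234, e3 q18896 L226739 q16993, e3 q18897 L226751 q17328, e3 q18898 (flp_e L226753)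 q15274, e3 q18899 (flp_e L248960) q21488, e3 q18900 L226772 q17415, e3 q18901 (flp_e L232137) q19555, e3 q18902 (flp_e L226789) q15276, e3 q18903 (flp_e L248972) q21489, e3 q18904 L226814 q15278, e3 q18905 (flp_e L248982) q21490, e3 q18906 L249020 q21494, e3 q18907 (flp_e L226828) q15281, e3 q18908 (flp_e L239635) q20425, e3 q18909 (flp_e L249030) q21495, e3 q18910 L249038 q21497, e3 q18911 (flp_e L226852) q15284, e3 q18912 L249052 q21499, e3 q18913 (flp_e L226872) q15287, e3 q18914 (flp_e L232753) q19624, e3 q18915 L226892 q15289, e3 q18916 (flp_e L249064) q21500, e3 q18917 L226900 q15291, e3 q18918 (flp_e L249074) q21501, e3 q18919 (flp_e L249082) q21502, e3 q18920 (flp_e L234611) q19853, e3 q18921 (flp_e L234621) q19854, e3 q18922 (flp_e L234635) q19855, e3 q18923 (flp_e L234649) q19856, e3 q18924 L226956 q15299, e3 q18925 (flp_e L249108) q21506, e3 q18926 (flp_e L240329) q20506, e3 q18927 L240285 q20501, e3 q18928 L226982 q15303, e3 q18929 (flp_e L249124) q21508, e3 q18930 L227012 q15305, e3 q18931 (flp_e L249138)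 q21509, e3 q18932 (flp_e L249148) q21510, e3 q18933 (flp_e L249164) q21511, e3 q18934 L227050 q16255, e3 q18935 L227060 q15309, e3 q18936 (flp_e L249182) q21513, e3 q18937 (flp_e L232674) q19617, e3 q18938 L227076 q15312, e3 q18939 L227086 q15313, e3 q18940 (flp_e L249212) q21518, e3 q18941 (flp_e L249224) q21519, e3 q18942 (flp_e L249238) q21520, e3 q18943 (flp_e L249246) q21521, trivial⟩ (by decide +kernel)

theorem ce_e_296 : ∀ r, r < 64 → sm ge (Qf (18944 + r)) = Qf (tab Gen.e (18944 + r)) :=
  edges_tab (sm ge) Qf (tab Gen.e) 18944 [(18944, 15316), (18945, 15317), (18946, 15318), (18947, 21525), (18948, 16262), (18949, 16263), (18950, 20712), (18951, 18811), (18952, 20705), (18953, 21101), (18954, 15324), (18955, 20699), (18956, 17621), (18957, 19164), (18958, 15329), (18959, 15330), (18960, 18966), (18961, 21530), (18962, 21534), (18963, 20965), (18964, 21539), (18965, 18996), (18966, 18960), (18967, 15333), (18968, 21545), (18969, 18256), (18970, 15335), (18971, 19027), (18972, 21548), (18973, 15337), (18974,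 18799), (18975, 15339), (18976, 21550), (18977, 19724), (18978, 20969), (18979, 16995), (18980, 15347), (18981, 16997), (18982, 18459), (18983, 20304), (18984, 18664), (18985, 15352), (18986, 15351), (18987, 21543), (18988, 21556), (18989, 21298), (18990, 15354), (18991, 21559), (18992, 15356), (18993, 21560), (18994, 19219), (18995, 21533), (18996, 18965), (18997, 18518), (18998, 15361), (18999, 21564), (19000, 20704), (19001, 19197), (19002, 21569), (19003, 19200), (19004, 19191), (19005, 17785), (19006, 15365), (19007, 17686)]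
    ⟨e3 q18944 L227124 q15316, e3 q18945 L227133 q15317, e3 q18946 L227141 q15318, e3 q18947 (flp_e L249281) q21525, e3 q18948 L227151 q16262, e3 q18949 L227161 q16263, e3 q18950 (flp_e L242218) q20712, e3 q18951 L227179 q18811, e3 q18952 (flp_e L242154) q20705, e3 q18953 L245691 q21101, e3 q18954 (flp_e L227196) q15324, e3 q18955 (flp_e L242086) q20699, e3 q18956 L227208 q17621, e3 q18957 (flp_e L228639) q19164, e3 q18958 L227222 q15329, e3 q18959 L227232 q15330, e3 q18960 (flp_e L238105) q18966, e3 q18961 (flp_e L249323) q21530, e3 q18962 L249351 q21534, e3 q18963 (flp_e L244607) q20965, e3 q18964 L249384 q21539, e3 q18965 (flp_e L227540) q18996, e3 q18966 L238105 q18960, e3 q18967 (flp_e L227272) q15333, e3 q18968 (flp_e L249462) q21545, e3 q18969 L227284 q18256, e3 q18970 (flp_e L227292) q15335, e3 q18971 (flp_e L227720) q19027, e3 q18972 L249484 q21548, e3 q18973 (flp_e L227308) q15337, e3 q18974 L227318 q18799, e3 q18975 L227328 q15339, e3 q18976 (flp_e L249508) q21550, e3 q18977 (flp_e L233537) q19724, e3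 q18978 (flp_e L244635) q20969, e3 q18979 L227354 q16995, e3 q18980 L227365 q15347, e3 q18981 L227375 q16997, e3 q18982 (flp_e L227391) q18459, e3 q18983 (flp_e L238511) q20304, e3 q18984 (flp_e L227449) q18664, e3 q18985 L227455 q15352, e3 q18986 (flp_e L227459) q15351, e3 q18987 (flp_e L249436) q21543, e3 q18988 L249567 q21556, e3 q18989 (flp_e L247290) q21298, e3 q18990 (flp_e L227495) q15354, e3 q18991 (flp_e L249593) q21559, e3 q18992 L227514 q15356, e3 q18993 (flp_e L249601) q21560, e3 q18994 (flp_e L229062) q19219, e3 q18995 L249349 q21533, e3 q18996 L227540 q18965, e3 q18997 (flp_e L227548) q18518, e3 q18998 (flp_e L227550) q15361, e3 q18999 (flp_e L249637) q21564, e3 q19000 (flp_e L242142) q20704, e3 q19001 (flp_e L228892) q19197, e3 q19002 L249667 q21569, e3 q19003 (flp_e L228910) q19200, e3 q19004 (flp_e L228842) q19191, e3 q19005 L227614 q17785, e3 q19006 (flp_e L227596) q15365, e3 q19007 (flp_e L227608) q17686, trivial⟩ (by decide +kernel)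

theorem ce_e_297 : ∀ r, r < 64 → sm ge (Qf (19008 + r)) = Qf (tab Gen.e (19008 + r)) :=
  edges_tab (sm ge) Qf (tab Gen.e) 19008 [(19008, 20701), (19009, 18627), (19010, 21575), (19011, 19198), (19012, 21578), (19013, 15369), (19014, 21579), (19015, 21580), (19016, 15373), (19017, 21581), (19018, 15477), (19019, 15375), (19020, 21584), (19021, 15377), (19022, 21585), (19023, 21586), (19024, 19220), (19025, 19221), (19026, 21170), (19027, 18971), (19028, 20126), (19029, 20816), (19030, 19224), (19031, 17960), (19032, 18629), (19033, 19732), (19034, 18787), (19035, 18524), (19036, 15388), (19037, 20988), (19038, 21366), (19039, 21599), (19040, 21601), (19041, 15393), (19042, 21602), (19043, 21603), (19044, 15970), (19045, 15396), (19046, 21605), (19047, 21606), (19048, 15398), (19049, 15399), (19050, 21609), (19051, 21610), (19052, 21611), (19053, 19142), (19054, 19190), (19055, 19192), (19056, 15404), (19057, 21618), (19058, 21619), (19059, 21620), (19060, 19140), (19061, 19150), (19062, 21626), (19063, 19143),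 (19064, 18766), (19065, 15408), (19066, 21630), (19067, 15409), (19068, 21632), (19069, 19417), (19070, 15411), (19071, 15412)]
    ⟨e3 q19008 (flp_e L242112) q20701, e3 q19009 L227624 q18627, e3 q19010 L249713 q21575, e3 q19011 (flp_e L228898) q19198, e3 q19012 L249729 q21578, e3 q19013 (flp_e L227640) q15369, e3 q19014 (flp_e L249735) q21579, e3 q19015 (flp_e L249743) q21580, e3 q19016 (flp_e L227658) q15373, e3 q19017 (flp_e L249751) q21581, e3 q19018 L227680 q15477, e3 q19019 L227686 q15375, e3 q19020 (flp_e L249779) q21584, e3 q19021 L227696 q15377, e3 q19022 (flp_e L249785) q21585, e3 q19023 (flp_e L249791) q21586, e3 q19024 (flp_e L229072) q19220, e3 q19025 (flp_e L229080) q19221, e3 q19026 (flp_e L246200) q21170, e3 q19027 L227720 q18971, e3 q19028 (flp_e L237039) q20126, e3 q19029 (flp_e L243257) q20816, e3 q19030 (flp_e L229100) q19224, e3 q19031 L227756 q17960, e3 q19032 L227764 q18629, e3 q19033 (flp_e L233599) q19732, e3 q19034 L227780 q18787, e3 q19035 L227788 q18524, e3 q19036 L227794 q15388, e3 q19037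 (flp_e L244764) q20988, e3 q19038 (flp_e L247952) q21366, e3 q19039 L249884 q21599, e3 q19040 L249897 q21601, e3 q19041 (flp_e L227821) q15393, e3 q19042 (flp_e L249911) q21602, e3 q19043 (flp_e L249919) q21603, e3 q19044 (flp_e L227847) q15970, e3 q19045 (flp_e L227851) q15396, e3 q19046 (flp_e L249933) q21605, e3 q19047 (flp_e L249943) q21606, e3 q19048 L227869 q15398, e3 q19049 L227873 q15399, e3 q19050 (flp_e L249963) q21609, e3 q19051 (flp_e L249969) q21610, e3 q19052 (flp_e L249977) q21611, e3 q19053 (flp_e L228503) q19142, e3 q19054 (flp_e L228834) q19190, e3 q19055 (flp_e L228848) q19192, e3 q19056 L227907 q15404, e3 q19057 (flp_e L250025) q21618, e3 q19058 (flp_e L250033) q21619, e3 q19059 (flp_e L250045) q21620, e3 q19060 (flp_e L228489) q19140, e3 q19061 (flp_e L228561) q19150, e3 q19062 L250089 q21626, e3 q19063 (flp_e L228511) q19143, e3 q19064 (flp_e L227965) q18766, e3 q19065 (flp_e L227967) q15408, e3 q19066 L250116 q21630, e3 q19067 (flp_e L227975) q15409, e3 q19068 (flp_e L250140) q21632, e3 q19069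 (flp_e L230768) q19417, e3 q19070 L227999 q15411, e3 q19071 L228004 q15412, trivial⟩ (by decide +kernel)

theorem ce_e_298 : ∀ r, r < 64 → sm ge (Qf (19072 + r)) = Qf (tab Gen.e (19072 + r)) :=
  edges_tab (sm ge) Qf (tab Gen.e) 19072 [(19072, 21636), (19073, 16410), (19074, 19420), (19075, 15415), (19076, 15416), (19077, 21633), (19078, 21631), (19079, 21643), (19080, 21644), (19081, 15419), (19082, 15420), (19083, 15421), (19084, 21646), (19085, 19133), (19086, 19161), (19087, 19162), (19088, 21655), (19089, 15426), (19090, 19167), (19091, 18760), (19092, 20738), (19093, 21154), (19094, 15429), (19095, 20732), (19096, 17625), (19097, 20675), (19098, 19106), (19099, 15434), (19100, 15435), (19101, 21661), (19102, 21665), (19103, 20991), (19104, 21669), (19105, 19135), (19106, 19098), (19107, 15438), (19108, 21675), (19109, 18313), (19110, 15440), (19111, 21677), (19112, 15441), (19113, 18747), (19114, 15443), (19115, 21679), (19116, 19817), (19117, 20995), (19118, 16970), (19119, 15451), (19120, 16972), (19121,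 18397), (19122, 20284), (19123, 18662), (19124, 15456), (19125, 15455), (19126, 21673), (19127, 21582), (19128, 21297), (19129, 15458), (19130, 21685), (19131, 15460), (19132, 21686), (19133, 19085), (19134, 21664), (19135, 19105)]
    ⟨e3 q19072 (flp_e L250171) q21636, e3 q19073 L228024 q16410, e3 q19074 (flp_e L230800) q19420, e3 q19075 L228032 q15415, e3 q19076 L228040 q15416, e3 q19077 (flp_e L250149) q21633, e3 q19078 (flp_e L250131) q21631, e3 q19079 (flp_e L250230) q21643, e3 q19080 (flp_e L250236) q21644, e3 q19081 L228072 q15419, e3 q19082 L228077 q15420, e3 q19083 L228081 q15421, e3 q19084 (flp_e L250256) q21646, e3 q19085 (flp_e L228437) q19133, e3 q19086 (flp_e L228623) q19161, e3 q19087 (flp_e L228629) q19162, e3 q19088 L250330 q21655, e3 q19089 (flp_e L228113) q15426, e3 q19090 (flp_e L228665) q19167, e3 q19091 L228129 q18760, e3 q19092 (flp_e L242478) q20738, e3 q19093 L246096 q21154, e3 q19094 (flp_e L228144) q15429, e3 q19095 (flp_e L242410) q20732, e3 q19096 L228158 q17625, e3 q19097 (flp_e L241856)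 q20675, e3 q19098 (flp_e L250459) q19106, e3 q19099 L228178 q15434, e3 q19100 L228188 q15435, e3 q19101 (flp_e L250402) q21661, e3 q19102 L250430 q21665, e3 q19103 (flp_e L244792) q20991, e3 q19104 L250468 q21669, e3 q19105 (flp_e L228455) q19135, e3 q19106 L250459 q19098, e3 q19107 (flp_e L228224) q15438, e3 q19108 (flp_e L250546) q21675, e3 q19109 L228236 q18313, e3 q19110 (flp_e L228244) q15440, e3 q19111 L250556 q21677, e3 q19112 (flp_e L228250) q15441, e3 q19113 L228260 q18747, e3 q19114 L228270 q15443, e3 q19115 (flp_e L250580) q21679, e3 q19116 (flp_e L234285) q19817, e3 q19117 (flp_e L244820) q20995, e3 q19118 L228296 q16970, e3 q19119 L228305 q15451, e3 q19120 L228315 q16972, e3 q19121 (flp_e L228331) q18397, e3 q19122 (flp_e L238355) q20284, e3 q19123 (flp_e L228354) q18662, e3 q19124 L228360 q15456, e3 q19125 (flp_e L228364) q15455, e3 q19126 (flp_e L250520) q21673, e3 q19127 (flp_e L249759) q21582, e3 q19128 (flp_e L247279) q21297, e3 q19129 (flp_e L228400) q15458, e3 q19130 (flp_e L250645) q21685, e3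 q19131 L228425 q15460, e3 q19132 (flp_e L250655) q21686, e3 q19133 L228437 q19085, e3 q19134 L250428 q21664, e3 q19135 L228455 q19105, trivial⟩ (by decide +kernel)

theorem ce_e_299 : ∀ r, r < 64 → sm ge (Qf (19136 + r)) = Qf (tab Gen.e (19136 + r)) :=
  edges_tab (sm ge) Qf (tab Gen.e) 19136 [(19136, 18487), (19137, 15465), (19138, 21690), (19139, 20737), (19140, 19060), (19141, 21695), (19142, 19053), (19143, 19063), (19144, 17800), (19145, 15469), (19146, 20734), (19147, 17753), (19148, 18642), (19149, 21700), (19150, 19061), (19151, 21702), (19152, 15473), (19153, 21703), (19154, 21704), (19155, 21583), (19156, 15479), (19157, 21635), (19158, 15481), (19159, 21705), (19160, 21706), (19161, 19086), (19162, 19087), (19163, 21111), (19164, 18957), (19165, 20119), (19166, 20806), (19167, 19090), (19168, 17965), (19169, 18644), (19170, 19825), (19171, 18838), (19172, 18493), (19173, 15492), (19174, 21014), (19175, 21411), (19176, 21716), (19177, 21718), (19178, 15497), (19179, 21719), (19180, 21720), (19181, 15744),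 (19182, 15500), (19183, 21722), (19184, 21723), (19185, 15502), (19186, 15503), (19187, 21725), (19188, 21726), (19189, 21727), (19190, 19054), (19191, 19004), (19192, 19055), (19193, 15508), (19194, 21732), (19195, 21733), (19196, 21734), (19197, 19001), (19198, 19011), (19199, 21738)]
    ⟨e3 q19136 (flp_e L228463) q18487, e3 q19137 (flp_e L228465) q15465, e3 q19138 (flp_e L250693) q21690, e3 q19139 (flp_e L242466) q20737, e3 q19140 L228489 q19060, e3 q19141 L250725 q21695, e3 q19142 L228503 q19053, e3 q19143 L228511 q19063, e3 q19144 (flp_e L228525) q17800, e3 q19145 (flp_e L228517) q15469, e3 q19146 (flp_e L242436) q20734, e3 q19147 L228541 q17753, e3 q19148 L228547 q18642, e3 q19149 L250765 q21700, e3 q19150 L228561 q19061, e3 q19151 L250783 q21702, e3 q19152 (flp_e L228567) q15473, e3 q19153 (flp_e L250793) q21703, e3 q19154 (flp_e L250801) q21704, e3 q19155 (flp_e L249769) q21583, e3 q19156 L228599 q15479, e3 q19157 (flp_e L250165) q21635, e3 q19158 L228611 q15481, e3 q19159 (flp_e L250809) q21705, e3 q19160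 (flp_e L250815) q21706, e3 q19161 L228623 q19086, e3 q19162 L228629 q19087, e3 q19163 (flp_e L245753) q21111, e3 q19164 L228639 q18957, e3 q19165 (flp_e L236969) q20119, e3 q19166 (flp_e L243131) q20806, e3 q19167 L228665 q19090, e3 q19168 L228677 q17965, e3 q19169 L228687 q18644, e3 q19170 (flp_e L234351) q19825, e3 q19171 L228703 q18838, e3 q19172 L228711 q18493, e3 q19173 L228717 q15492, e3 q19174 (flp_e L244949) q21014, e3 q19175 (flp_e L248330) q21411, e3 q19176 L250898 q21716, e3 q19177 L250919 q21718, e3 q19178 (flp_e L228748) q15497, e3 q19179 (flp_e L250937) q21719, e3 q19180 (flp_e L250947) q21720, e3 q19181 (flp_e L228780) q15744, e3 q19182 (flp_e L228784) q15500, e3 q19183 (flp_e L250967) q21722, e3 q19184 (flp_e L250973) q21723, e3 q19185 L228804 q15502, e3 q19186 L228810 q15503, e3 q19187 (flp_e L250991) q21725, e3 q19188 (flp_e L250999) q21726, e3 q19189 (flp_e L251009) q21727, e3 q19190 L228834 q19054, e3 q19191 L228842 q19004, e3 q19192 L228848 q19055, e3 q19193 L228856 q15508, e3 q19194 (flp_e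 L251049) q21732, e3 q19195 (flp_e L251059) q21733, e3 q19196 (flp_e L251075) q21734, e3 q19197 L228892 q19001, e3 q19198 L228898 q19011, e3 q19199 L251105 q21738, trivial⟩ (by decide +kernel)

theorem ce_e_300 : ∀ r, r < 64 → sm ge (Qf (19200 + r)) = Qf (tab Gen.e (19200 + r)) :=
  edges_tab (sm ge) Qf (tab Gen.e) 19200 [(19200, 19003), (19201, 18818), (19202, 15512), (19203, 21742), (19204, 15513), (19205, 19621), (19206, 15515), (19207, 16517), (19208, 19622), (19209, 15518), (19210, 15519), (19211, 21744), (19212, 21743), (19213, 21749), (19214, 21750), (19215, 15522), (19216, 15523), (19217, 15524), (19218, 21752), (19219, 18994), (19220, 19024), (19221, 19025), (19222, 21759), (19223, 15529), (19224, 19030), (19225, 20431), (19226, 20432), (19227, 20433), (19228, 16265), (19229, 21760), (19230, 15539), (19231, 15541), (19232, 17210), (19233, 17212), (19234, 17213), (19235, 20904), (19236, 20726), (19237, 21761), (19238, 19559), (19239, 18701), (19240, 17139), (19241, 20410), (19242, 15549), (19243, 16279),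 (19244, 19552), (19245, 18413), (19246, 21767), (19247, 15555), (19248, 21768), (19249, 18798), (19250, 15556), (19251, 21770), (19252, 15558), (19253, 21771), (19254, 16284), (19255, 21773), (19256, 15560), (19257, 16288), (19258, 17692), (19259, 16289), (19260, 15566), (19261, 16747), (19262, 17447), (19263, 20521)]
    ⟨e3 q19200 L228910 q19003, e3 q19201 (flp_e L228922) q18818, e3 q19202 (flp_e L228924) q15512, e3 q19203 L251142 q21742, e3 q19204 (flp_e L228936) q15513, e3 q19205 (flp_e L232717) q19621, e3 q19206 L228958 q15515, e3 q19207 L228983 q16517, e3 q19208 (flp_e L232729) q19622, e3 q19209 L228991 q15518, e3 q19210 L228999 q15519, e3 q19211 (flp_e L251167) q21744, e3 q19212 (flp_e L251159) q21743, e3 q19213 (flp_e L251213) q21749, e3 q19214 (flp_e L251221) q21750, e3 q19215 L229033 q15522, e3 q19216 L229042 q15523, e3 q19217 L229050 q15524, e3 q19218 (flp_e L251245) q21752, e3 q19219 L229062 q18994, e3 q19220 L229072 q19024, e3 q19221 L229080 q19025, e3 q19222 L251305 q21759, e3 q19223 (flp_e L229088)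 q15529, e3 q19224 L229100 q19030, e3 q19225 (flp_e L239699) q20431, e3 q19226 (flp_e L239709) q20432, e3 q19227 (flp_e L239725) q20433, e3 q19228 L229134 q16265, e3 q19229 L251313 q21760, e3 q19230 L229154 q15539, e3 q19231 L229160 q15541, e3 q19232 L229166 q17210, e3 q19233 L229172 q17212, e3 q19234 L229182 q17213, e3 q19235 (flp_e L244147) q20904, e3 q19236 (flp_e L242342) q20726, e3 q19237 (flp_e L251335) q21761, e3 q19238 (flp_e L232178) q19559, e3 q19239 L229226 q18701, e3 q19240 L229240 q17139, e3 q19241 (flp_e L239497) q20410, e3 q19242 (flp_e L229250) q15549, e3 q19243 L229260 q16279, e3 q19244 (flp_e L232110) q19552, e3 q19245 L229278 q18413, e3 q19246 L251379 q21767, e3 q19247 (flp_e L229292) q15555, e3 q19248 L251391 q21768, e3 q19249 (flp_e L229324) q18798, e3 q19250 (flp_e L229326) q15556, e3 q19251 (flp_e L251425) q21770, e3 q19252 L229348 q15558, e3 q19253 (flp_e L251433) q21771, e3 q19254 L229360 q16284, e3 q19255 L251453 q21773, e3 q19256 (flp_e L229374) q15560, e3 q19257 L229386 q16288, e3 q19258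 L229398 q17692, e3 q19259 L229410 q16289, e3 q19260 L229422 q15566, e3 q19261 L229434 q16747, e3 q19262 L229444 q17447, e3 q19263 (flp_e L240481) q20521, trivial⟩ (by decide +kernel)

theorem ce_e_301 : ∀ r, r < 64 → sm ge (Qf (19264 + r)) = Qf (tab Gen.e (19264 + r)) :=
  edges_tab (sm ge) Qf (tab Gen.e) 19264 [(19264, 16812), (19265, 16084), (19266, 18073), (19267, 15571), (19268, 20426), (19269, 20519), (19270, 20520), (19271, 16297), (19272, 21778), (19273, 21779), (19274, 21781), (19275, 15582), (19276, 19380), (19277, 16300), (19278, 17982), (19279, 18674), (19280, 15584), (19281, 17995), (19282, 15587), (19283, 21785), (19284, 15589), (19285, 21787), (19286, 15591), (19287, 19325), (19288, 21790), (19289, 20620), (19290, 15593), (19291, 17980), (19292, 18018), (19293, 15594), (19294, 18791), (19295, 20723), (19296, 15596), (19297, 20718), (19298, 16098), (19299, 19777), (19300, 16089), (19301, 18770), (19302, 15616), (19303, 15618), (19304, 15620), (19305, 17476), (19306, 17477), (19307, 16748), (19308, 17433),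 (19309, 16574), (19310, 19790), (19311, 16107), (19312, 17299), (19313, 15938), (19314, 16499), (19315, 17432), (19316, 16839), (19317, 16841), (19318, 17393), (19319, 19788), (19320, 17261), (19321, 15638), (19322, 21800), (19323, 21326), (19324, 15640), (19325, 19287), (19326, 19551), (19327, 16328)]
    ⟨e3 q19264 L229460 q16812, e3 q19265 L229472 q16084, e3 q19266 (flp_e L229482) q18073, e3 q19267 (flp_e L229484) q15571, e3 q19268 (flp_e L239649) q20426, e3 q19269 (flp_e L240451) q20519, e3 q19270 (flp_e L240469) q20520, e3 q19271 L229508 q16297, e3 q19272 L251508 q21778, e3 q19273 L251520 q21779, e3 q19274 L251542 q21781, e3 q19275 (flp_e L229542) q15582, e3 q19276 (flp_e L230460) q19380, e3 q19277 L229560 q16300, e3 q19278 (flp_e L229578) q17982, e3 q19279 (flp_e L229592) q18674, e3 q19280 (flp_e L229596) q15584, e3 q19281 L229614 q17995, e3 q19282 (flp_e L229618) q15587, e3 q19283 L251588 q21785, e3 q19284 (flp_e L229630) q15589, e3 q19285 (flp_e L251608) q21787, e3 q19286 L229652 q15591, e3 q19287 (flp_e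 L230034) q19325, e3 q19288 L251634 q21790, e3 q19289 (flp_e L241368) q20620, e3 q19290 (flp_e L229672) q15593, e3 q19291 L229688 q17980, e3 q19292 L229704 q18018, e3 q19293 (flp_e L229710) q15594, e3 q19294 L229728 q18791, e3 q19295 (flp_e L242308) q20723, e3 q19296 L229738 q15596, e3 q19297 (flp_e L242272) q20718, e3 q19298 L229752 q16098, e3 q19299 (flp_e L233965) q19777, e3 q19300 L229768 q16089, e3 q19301 L229782 q18770, e3 q19302 L229804 q15616, e3 q19303 L229820 q15618, e3 q19304 L229830 q15620, e3 q19305 L229842 q17476, e3 q19306 L229856 q17477, e3 q19307 L229864 q16748, e3 q19308 L229876 q17433, e3 q19309 L229886 q16574, e3 q19310 (flp_e L234063) q19790, e3 q19311 L229906 q16107, e3 q19312 L229910 q17299, e3 q19313 L229926 q15938, e3 q19314 L229936 q16499, e3 q19315 L229946 q17432, e3 q19316 L229964 q16839, e3 q19317 L229968 q16841, e3 q19318 L229974 q17393, e3 q19319 (flp_e L234047) q19788, e3 q19320 (flp_e L229998) q17261, e3 q19321 (flp_e L230000) q15638, e3 q19322 L251750 q21800, e3 q19323 (flp_e L247569)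 q21326, e3 q19324 (flp_e L230020) q15640, e3 q19325 L230034 q19287, e3 q19326 (flp_e L232100) q19551, e3 q19327 L230048 q16328, trivial⟩ (by decide +kernel)

theorem ce_e_302 : ∀ r, r < 64 → sm ge (Qf (19328 + r)) = Qf (tab Gen.e (19328 + r)) :=
  edges_tab (sm ge) Qf (tab Gen.e) 19328 [(19328, 16329), (19329, 18846), (19330, 17784), (19331, 17257), (19332, 19599), (19333, 15882), (19334, 15648), (19335, 19472), (19336, 15884), (19337, 15885), (19338, 15652), (19339, 15653), (19340, 21325), (19341, 21807), (19342, 15657), (19343, 21809), (19344, 19575), (19345, 21810), (19346, 15658), (19347, 21813), (19348, 21812), (19349, 15660), (19350, 15661), (19351, 15891), (19352, 15895), (19353, 19573), (19354, 15663), (19355, 21816), (19356, 21642), (19357, 15665), (19358, 19569), (19359, 21163), (19360, 19563), (19361, 15667), (19362, 15668), (19363, 15669), (19364, 20330), (19365, 18297), (19366, 21820), (19367, 21823), (19368, 21064), (19369, 21063), (19370, 16354), (19371, 16564), (19372, 20207), (19373, 16355), (19374,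 20817), (19375, 17418), (19376, 17870), (19377, 16356), (19378, 16357), (19379, 21324), (19380, 19276), (19381, 16266), (19382, 15935), (19383, 19597), (19384, 16358), (19385, 17682), (19386, 17532), (19387, 15872), (19388, 19558), (19389, 15706), (19390, 21829), (19391, 16360)]
    ⟨e3 q19328 L230054 q16329, e3 q19329 L230065 q18846, e3 q19330 L230074 q17784, e3 q19331 L230084 q17257, e3 q19332 (flp_e L232518) q19599, e3 q19333 (flp_e L230104) q15882, e3 q19334 (flp_e L230108) q15648, e3 q19335 (flp_e L231354) q19472, e3 q19336 L230136 q15884, e3 q19337 L230150 q15885, e3 q19338 L230160 q15652, e3 q19339 L230168 q15653, e3 q19340 (flp_e L247553) q21325, e3 q19341 L251830 q21807, e3 q19342 (flp_e L230190) q15657, e3 q19343 (flp_e L251848) q21809, e3 q19344 (flp_e L232302) q19575, e3 q19345 L251854 q21810, e3 q19346 (flp_e L230212) q15658, e3 q19347 (flp_e L251886) q21813, e3 q19348 (flp_e L251880) q21812, e3 q19349 L230228 q15660, e3 q19350 L230234 q15661, e3 q19351 (flp_e L230956) q15891, e3 q19352 L230944 q15895,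 e3 q19353 (flp_e L232286) q19573, e3 q19354 L230264 q15663, e3 q19355 (flp_e L251916) q21816, e3 q19356 (flp_e L250222) q21642, e3 q19357 L230280 q15665, e3 q19358 (flp_e L232256) q19569, e3 q19359 (flp_e L246160) q21163, e3 q19360 (flp_e L232206) q19563, e3 q19361 L230296 q15667, e3 q19362 L230306 q15668, e3 q19363 L230314 q15669, e3 q19364 (flp_e L238735) q20330, e3 q19365 L230328 q18297, e3 q19366 (flp_e L251956) q21820, e3 q19367 L251982 q21823, e3 q19368 (flp_e L245377) q21064, e3 q19369 (flp_e L245363) q21063, e3 q19370 L230366 q16354, e3 q19371 L230378 q16564, e3 q19372 (flp_e L237766) q20207, e3 q19373 L230398 q16355, e3 q19374 (flp_e L243275) q20817, e3 q19375 L230414 q17418, e3 q19376 L230428 q17870, e3 q19377 L230434 q16356, e3 q19378 L230442 q16357, e3 q19379 (flp_e L247541) q21324, e3 q19380 L230460 q19276, e3 q19381 L230466 q16266, e3 q19382 L230480 q15935, e3 q19383 (flp_e L232496) q19597, e3 q19384 L230500 q16358, e3 q19385 L230514 q17682, e3 q19386 L230522 q17532, e3 q19387 L230534 q15872, e3 q19388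 (flp_e L232164) q19558, e3 q19389 L230552 q15706, e3 q19390 (flp_e L252052) q21829, e3 q19391 L230572 q16360, trivial⟩ (by decide +kernel)

theorem ce_e_303 : ∀ r, r < 64 → sm ge (Qf (19392 + r)) = Qf (tab Gen.e (19392 + r)) :=
  edges_tab (sm ge) Qf (tab Gen.e) 19392 [(19392, 20492), (19393, 21830), (19394, 15711), (19395, 15712), (19396, 21831), (19397, 15715), (19398, 15716), (19399, 16937), (19400, 20565), (19401, 15718), (19402, 21833), (19403, 19654), (19404, 16158), (19405, 15720), (19406, 15721), (19407, 21837), (19408, 19661), (19409, 21838), (19410, 15725), (19411, 15726), (19412, 18882), (19413, 16827), (19414, 15763), (19415, 15728), (19416, 21843), (19417, 19069), (19418, 15730), (19419, 20774), (19420, 19074), (19421, 17826), (19422, 18859), (19423, 16817), (19424, 18012), (19425, 15739), (19426, 16346), (19427, 21746), (19428, 15741), (19429, 19630), (19430, 15742), (19431, 21721), (19432, 21849), (19433, 15745), (19434, 17767), (19435, 15746), (19436, 21852), (19437, 21853), (19438, 15750), (19439,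 15748), (19440, 15749), (19441, 21639), (19442, 21855), (19443, 21854), (19444, 15753), (19445, 15754), (19446, 15755), (19447, 21815), (19448, 15759), (19449, 15760), (19450, 15758), (19451, 21857), (19452, 21858), (19453, 21859), (19454, 19608), (19455, 15766)]
    ⟨e3 q19392 (flp_e L240209) q20492, e3 q19393 L252058 q21830, e3 q19394 (flp_e L230596) q15711, e3 q19395 (flp_e L230604) q15712, e3 q19396 (flp_e L252078) q21831, e3 q19397 L230630 q15715, e3 q19398 L230638 q15716, e3 q19399 L230646 q16937, e3 q19400 (flp_e L240823) q20565, e3 q19401 (flp_e L230654) q15718, e3 q19402 (flp_e L252094) q21833, e3 q19403 (flp_e L232991) q19654, e3 q19404 L230672 q16158, e3 q19405 L230680 q15720, e3 q19406 L230686 q15721, e3 q19407 (flp_e L252126) q21837, e3 q19408 (flp_e L233049) q19661, e3 q19409 (flp_e L252136) q21838, e3 q19410 L230706 q15725, e3 q19411 L230718 q15726, e3 q19412 L230726 q18882, e3 q19413 L230736 q16827, e3 q19414 (flp_e L230940) q15763, e3 q19415 (flp_e L230745) q15728, e3 q19416 (flp_e L252180) q21843,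 e3 q19417 L230768 q19069, e3 q19418 L230772 q15730, e3 q19419 (flp_e L242838) q20774, e3 q19420 L230800 q19074, e3 q19421 L230810 q17826, e3 q19422 L230974 q18859, e3 q19423 L230982 q16817, e3 q19424 (flp_e L230998) q18012, e3 q19425 (flp_e L231000) q15739, e3 q19426 (flp_e L231012) q16346, e3 q19427 (flp_e L251183) q21746, e3 q19428 (flp_e L231020) q15741, e3 q19429 (flp_e L232811) q19630, e3 q19430 (flp_e L231036) q15742, e3 q19431 (flp_e L250955) q21721, e3 q19432 (flp_e L252243) q21849, e3 q19433 L231058 q15745, e3 q19434 L231062 q17767, e3 q19435 (flp_e L231070) q15746, e3 q19436 (flp_e L252267) q21852, e3 q19437 (flp_e L252273) q21853, e3 q19438 L231088 q15750, e3 q19439 L231092 q15748, e3 q19440 L231096 q15749, e3 q19441 (flp_e L250194) q21639, e3 q19442 (flp_e L252291) q21855, e3 q19443 (flp_e L252281) q21854, e3 q19444 L231124 q15753, e3 q19445 L231136 q15754, e3 q19446 L231150 q15755, e3 q19447 (flp_e L251904) q21815, e3 q19448 L231164 q15759, e3 q19449 L231174 q15760, e3 q19450 L231178 q15758, e3 q19451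 (flp_e L252309) q21857, e3 q19452 (flp_e L252325) q21858, e3 q19453 (flp_e L252333) q21859, e3 q19454 (flp_e L232602) q19608, e3 q19455 L231210 q15766, trivial⟩ (by decide +kernel)

theorem ce_e_304 : ∀ r, r < 64 → sm ge (Qf (19456 + r)) = Qf (tab Gen.e (19456 + r)) :=
  edges_tab (sm ge) Qf (tab Gen.e) 19456 [(19456, 15767), (19457, 15768), (19458, 21360), (19459, 21860), (19460, 20569), (19461, 19612), (19462, 20322), (19463, 16417), (19464, 16420), (19465, 20490), (19466, 20491), (19467, 15780), (19468, 15782), (19469, 20880), (19470, 20691), (19471, 21865), (19472, 19335), (19473, 18708), (19474, 17286), (19475, 17288), (19476, 17289), (19477, 20352), (19478, 15788), (19479, 16434), (19480, 17049), (19481, 21869), (19482, 15795), (19483, 18748), (19484, 15796), (19485, 21871), (19486, 15798), (19487, 21775), (19488, 16439), (19489, 18351), (19490, 16442), (19491, 17760), (19492, 16443), (19493, 15805), (19494, 16750), (19495, 17472), (19496, 20462), (19497, 16009), (19498, 18044), (19499, 15810), (19500, 16786),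 (19501, 20387), (19502, 20461), (19503, 20463), (19504, 16450), (19505, 21876), (19506, 21877), (19507, 21879), (19508, 15822), (19509, 19595), (19510, 17976), (19511, 18669), (19512, 15824), (19513, 17987), (19514, 15827), (19515, 21882), (19516, 15829), (19517, 21884), (19518, 20619), (19519, 15831)]
    ⟨e3 q19456 L231218 q15767, e3 q19457 L231224 q15768, e3 q19458 (flp_e L247908) q21360, e3 q19459 (flp_e L252343) q21860, e3 q19460 (flp_e L240857) q20569, e3 q19461 (flp_e L232632) q19612, e3 q19462 (flp_e L238649) q20322, e3 q19463 L231266 q16417, e3 q19464 L231278 q16420, e3 q19465 (flp_e L240183) q20490, e3 q19466 (flp_e L240193) q20491, e3 q19467 L231310 q15780, e3 q19468 L231316 q15782, e3 q19469 (flp_e L243903) q20880, e3 q19470 (flp_e L241996) q20691, e3 q19471 (flp_e L252395) q21865, e3 q19472 L231354 q19335, e3 q19473 L231366 q18708, e3 q19474 L231376 q17286, e3 q19475 L231382 q17288, e3 q19476 L231392 q17289, e3 q19477 (flp_e L238975) q20352, e3 q19478 (flp_e L231406) q15788, e3 q19479 L231416 q16434,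 e3 q19480 L231434 q17049, e3 q19481 L252425 q21869, e3 q19482 (flp_e L231446) q15795, e3 q19483 (flp_e L231470) q18748, e3 q19484 (flp_e L231472) q15796, e3 q19485 (flp_e L252459) q21871, e3 q19486 L231496 q15798, e3 q19487 (flp_e L251478) q21775, e3 q19488 L231512 q16439, e3 q19489 L231524 q18351, e3 q19490 L231532 q16442, e3 q19491 L231544 q17760, e3 q19492 L231556 q16443, e3 q19493 L231568 q15805, e3 q19494 L231580 q16750, e3 q19495 L231590 q17472, e3 q19496 (flp_e L239983) q20462, e3 q19497 L231610 q16009, e3 q19498 (flp_e L231620) q18044, e3 q19499 (flp_e L231622) q15810, e3 q19500 L231640 q16786, e3 q19501 (flp_e L239285) q20387, e3 q19502 (flp_e L239965) q20461, e3 q19503 (flp_e L239993) q20463, e3 q19504 L231654 q16450, e3 q19505 L252506 q21876, e3 q19506 L252518 q21877, e3 q19507 L252540 q21879, e3 q19508 (flp_e L231690) q15822, e3 q19509 (flp_e L232476) q19595, e3 q19510 (flp_e L231714) q17976, e3 q19511 (flp_e L231728) q18669, e3 q19512 (flp_e L231732) q15824, e3 q19513 L231750 q17987, e3 q19514 (flp_e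 L231754) q15827, e3 q19515 L252574 q21882, e3 q19516 (flp_e L231768) q15829, e3 q19517 L252588 q21884, e3 q19518 (flp_e L241354) q20619, e3 q19519 (flp_e L231788) q15831, trivial⟩ (by decide +kernel)

theorem ce_e_305 : ∀ r, r < 64 → sm ge (Qf (19520 + r)) = Qf (tab Gen.e (19520 + r)) :=
  edges_tab (sm ge) Qf (tab Gen.e) 19520 [(19520, 17974), (19521, 15832), (19522, 18741), (19523, 20686), (19524, 15834), (19525, 20681), (19526, 16023), (19527, 19682), (19528, 16014), (19529, 18821), (19530, 15850), (19531, 15853), (19532, 15854), (19533, 17451), (19534, 16751), (19535, 17452), (19536, 17456), (19537, 16539), (19538, 19698), (19539, 16030), (19540, 17223), (19541, 16362), (19542, 17460), (19543, 16832), (19544, 16834), (19545, 17397), (19546, 19693), (19547, 17336), (19548, 21802), (19549, 21331), (19550, 15874), (19551, 19326), (19552, 19244), (19553, 16471), (19554, 16326), (19555, 18901), (19556, 17801), (19557, 17332), (19558, 19388), (19559, 19238), (19560, 21330), (19561, 21897), (19562, 15887), (19563,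 19360), (19564, 21899), (19565, 15888), (19566, 21901), (19567, 21900), (19568, 15890), (19569, 19358), (19570, 15893), (19571, 21903), (19572, 21748), (19573, 19353), (19574, 21113), (19575, 19344), (19576, 15897), (19577, 15898), (19578, 15899), (19579, 20331), (19580, 18239), (19581, 21905), (19582, 21908), (19583, 21025)]
    ⟨e3 q19520 L231806 q17974, e3 q19521 (flp_e L231812) q15832, e3 q19522 L231830 q18741, e3 q19523 (flp_e L241944) q20686, e3 q19524 L231840 q15834, e3 q19525 (flp_e L241908) q20681, e3 q19526 L231854 q16023, e3 q19527 (flp_e L233209) q19682, e3 q19528 L231870 q16014, e3 q19529 L231880 q18821, e3 q19530 L231894 q15850, e3 q19531 L231910 q15853, e3 q19532 L231920 q15854, e3 q19533 L231932 q17451, e3 q19534 L231942 q16751, e3 q19535 L231954 q17452, e3 q19536 L231966 q17456, e3 q19537 L231976 q16539, e3 q19538 (flp_e L233331) q19698, e3 q19539 L231996 q16030, e3 q19540 L232000 q17223, e3 q19541 L232014 q16362, e3 q19542 L232024 q17460, e3 q19543 L232042 q16832, e3 q19544 L232046 q16834, e3 q19545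 L232052 q17397, e3 q19546 (flp_e L233285) q19693, e3 q19547 L232072 q17336, e3 q19548 (flp_e L251788) q21802, e3 q19549 (flp_e L247628) q21331, e3 q19550 (flp_e L232086) q15874, e3 q19551 L232100 q19326, e3 q19552 L232110 q19244, e3 q19553 L232116 q16471, e3 q19554 L232131 q16326, e3 q19555 L232137 q18901, e3 q19556 L232146 q17801, e3 q19557 L232156 q17332, e3 q19558 L232164 q19388, e3 q19559 L232178 q19238, e3 q19560 (flp_e L247612) q21330, e3 q19561 L252736 q21897, e3 q19562 (flp_e L232194) q15887, e3 q19563 L232206 q19360, e3 q19564 L252750 q21899, e3 q19565 (flp_e L232220) q15888, e3 q19566 (flp_e L252772) q21901, e3 q19567 (flp_e L252766) q21900, e3 q19568 L232244 q15890, e3 q19569 L232256 q19358, e3 q19570 L232268 q15893, e3 q19571 (flp_e L252792) q21903, e3 q19572 (flp_e L251203) q21748, e3 q19573 L232286 q19353, e3 q19574 (flp_e L245773) q21113, e3 q19575 L232302 q19344, e3 q19576 L232310 q15897, e3 q19577 L232320 q15898, e3 q19578 L232328 q15899, e3 q19579 (flp_e L238749) q20331, e3 q19580 L232342 q18239,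 e3 q19581 (flp_e L252812) q21905, e3 q19582 L252838 q21908, e3 q19583 (flp_e L245053) q21025, trivial⟩ (by decide +kernel)

theorem ce_e_306 : ∀ r, r < 64 → sm ge (Qf (19584 + r)) = Qf (tab Gen.e (19584 + r)) :=
  edges_tab (sm ge) Qf (tab Gen.e) 19584 [(19584, 21024), (19585, 16494), (19586, 16529), (19587, 20209), (19588, 16495), (19589, 20807), (19590, 17400), (19591, 17858), (19592, 16496), (19593, 16497), (19594, 21329), (19595, 19509), (19596, 16359), (19597, 19383), (19598, 17750), (19599, 19332), (19600, 17528), (19601, 15937), (19602, 21797), (19603, 15941), (19604, 15942), (19605, 16952), (19606, 20584), (19607, 15944), (19608, 19454), (19609, 16173), (19610, 15946), (19611, 15947), (19612, 19461), (19613, 21915), (19614, 21916), (19615, 15950), (19616, 15952), (19617, 18937), (19618, 16801), (19619, 15988), (19620, 15954), (19621, 19205), (19622, 19208), (19623, 17814), (19624, 18914), (19625, 16791), (19626, 15964), (19627, 16486), (19628, 21640), (19629, 15966), (19630, 19429), (19631, 15967), (19632,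 21924), (19633, 21604), (19634, 15969), (19635, 17787), (19636, 15971), (19637, 21927), (19638, 21928), (19639, 15975), (19640, 15973), (19641, 15974), (19642, 21930), (19643, 21745), (19644, 21929), (19645, 15978), (19646, 15979), (19647, 15980)]
    ⟨e3 q19584 (flp_e L245039) q21024, e3 q19585 L232380 q16494, e3 q19586 L232392 q16529, e3 q19587 (flp_e L237787) q20209, e3 q19588 L232412 q16495, e3 q19589 (flp_e L243149) q20807, e3 q19590 L232428 q17400, e3 q19591 L232442 q17858, e3 q19592 L232448 q16496, e3 q19593 L232458 q16497, e3 q19594 (flp_e L247600) q21329, e3 q19595 L232476 q19509, e3 q19596 L232482 q16359, e3 q19597 L232496 q19383, e3 q19598 L232508 q17750, e3 q19599 L232518 q19332, e3 q19600 L232528 q17528, e3 q19601 (flp_e L232538) q15937, e3 q19602 (flp_e L251718) q21797, e3 q19603 L232560 q15941, e3 q19604 L232570 q15942, e3 q19605 L232578 q16952, e3 q19606 (flp_e L241012) q20584, e3 q19607 (flp_e L232588) q15944, e3 q19608 L232602 q19454, e3 q19609 L232612 q16173, e3 q19610 L232620 q15946, e3 q19611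 L232628 q15947, e3 q19612 L232632 q19461, e3 q19613 (flp_e L252924) q21915, e3 q19614 (flp_e L252932) q21916, e3 q19615 L232654 q15950, e3 q19616 L232666 q15952, e3 q19617 L232674 q18937, e3 q19618 L232684 q16801, e3 q19619 (flp_e L232697) q15988, e3 q19620 (flp_e L232699) q15954, e3 q19621 L232717 q19205, e3 q19622 L232729 q19208, e3 q19623 L232741 q17814, e3 q19624 L232753 q18914, e3 q19625 L232761 q16791, e3 q19626 (flp_e L232767) q15964, e3 q19627 (flp_e L232781) q16486, e3 q19628 (flp_e L250202) q21640, e3 q19629 (flp_e L232793) q15966, e3 q19630 L232811 q19429, e3 q19631 (flp_e L232815) q15967, e3 q19632 (flp_e L253012) q21924, e3 q19633 (flp_e L249925) q21604, e3 q19634 L232839 q15969, e3 q19635 L232845 q17787, e3 q19636 (flp_e L232853) q15971, e3 q19637 (flp_e L253048) q21927, e3 q19638 (flp_e L253056) q21928, e3 q19639 L232871 q15975, e3 q19640 L232875 q15973, e3 q19641 L232879 q15974, e3 q19642 (flp_e L253076) q21930, e3 q19643 (flp_e L251175) q21745, e3 q19644 (flp_e L253064) q21929, e3 q19645 L232911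 q15978, e3 q19646 L232917 q15979, e3 q19647 L232933 q15980, trivial⟩ (by decide +kernel)

theorem ce_e_307 : ∀ r, r < 64 → sm ge (Qf (19648 + r)) = Qf (tab Gen.e (19648 + r)) :=
  edges_tab (sm ge) Qf (tab Gen.e) 19648 [(19648, 15984), (19649, 15985), (19650, 15983), (19651, 21931), (19652, 21932), (19653, 21933), (19654, 19403), (19655, 15991), (19656, 15992), (19657, 15993), (19658, 21404), (19659, 21934), (19660, 20586), (19661, 19408), (19662, 20392), (19663, 16524), (19664, 16527), (19665, 16003), (19666, 18600), (19667, 16006), (19668, 21874), (19669, 16301), (19670, 21939), (19671, 16011), (19672, 20730), (19673, 21888), (19674, 21875), (19675, 18679), (19676, 16015), (19677, 21945), (19678, 21270), (19679, 21268), (19680, 16018), (19681, 16019), (19682, 19527), (19683, 21886), (19684, 16024), (19685, 21699), (19686, 21949), (19687, 16026), (19688, 16027), (19689, 21951), (19690, 21952), (19691, 19937), (19692, 16028), (19693, 19546), (19694, 21249), (19695, 16031), (19696, 17205), (19697, 21889), (19698,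 19538), (19699, 19939), (19700, 20292), (19701, 16035), (19702, 21959), (19703, 21960), (19704, 16036), (19705, 18624), (19706, 21963), (19707, 21962), (19708, 16038), (19709, 16039), (19710, 17683), (19711, 21593)]
    ⟨e3 q19648 L232943 q15984, e3 q19649 L232953 q15985, e3 q19650 L232957 q15983, e3 q19651 (flp_e L253084) q21931, e3 q19652 (flp_e L253100) q21932, e3 q19653 (flp_e L253108) q21933, e3 q19654 L232991 q19403, e3 q19655 L233001 q15991, e3 q19656 L233009 q15992, e3 q19657 L233021 q15993, e3 q19658 (flp_e L248280) q21404, e3 q19659 (flp_e L253120) q21934, e3 q19660 (flp_e L241034) q20586, e3 q19661 L233049 q19408, e3 q19662 (flp_e L239325) q20392, e3 q19663 L233067 q16524, e3 q19664 L233079 q16527, e3 q19665 L233091 q16003, e3 q19666 L233101 q18600, e3 q19667 (flp_e L233103) q16006, e3 q19668 (flp_e L252488) q21874, e3 q19669 L233121 q16301, e3 q19670 L253170 q21939, e3 q19671 (flp_e L233135) q16011, e3 q19672 (flp_e L242384) q20730, e3 q19673 (flp_e L252638) q21888, e3 q19674 (flp_e L252500) q21875,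 e3 q19675 (flp_e L233163) q18679, e3 q19676 (flp_e L233167) q16015, e3 q19677 (flp_e L253246) q21945, e3 q19678 (flp_e L247079) q21270, e3 q19679 (flp_e L247063) q21268, e3 q19680 L233195 q16018, e3 q19681 L233203 q16019, e3 q19682 L233209 q19527, e3 q19683 (flp_e L252618) q21886, e3 q19684 (flp_e L233221) q16024, e3 q19685 (flp_e L250759) q21699, e3 q19686 (flp_e L253286) q21949, e3 q19687 L233237 q16026, e3 q19688 L233241 q16027, e3 q19689 (flp_e L253294) q21951, e3 q19690 (flp_e L253302) q21952, e3 q19691 (flp_e L235368) q19937, e3 q19692 (flp_e L233267) q16028, e3 q19693 L233285 q19546, e3 q19694 (flp_e L246889) q21249, e3 q19695 L233299 q16031, e3 q19696 L233309 q17205, e3 q19697 (flp_e L252652) q21889, e3 q19698 L233331 q19538, e3 q19699 (flp_e L235386) q19939, e3 q19700 (flp_e L238413) q20292, e3 q19701 (flp_e L233355) q16035, e3 q19702 (flp_e L253373) q21959, e3 q19703 (flp_e L253381) q21960, e3 q19704 (flp_e L233367) q16036, e3 q19705 L233383 q18624, e3 q19706 (flp_e L253407) q21963, e3 q19707 (flp_e L253393)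 q21962, e3 q19708 L233405 q16038, e3 q19709 L233415 q16039, e3 q19710 L233421 q17683, e3 q19711 L249843 q21593, trivial⟩ (by decide +kernel)

theorem ce_e_308 : ∀ r, r < 64 → sm ge (Qf (19712 + r)) = Qf (tab Gen.e (19712 + r)) :=
  edges_tab (sm ge) Qf (tab Gen.e) 19712 [(19712, 16043), (19713, 17209), (19714, 21966), (19715, 17142), (19716, 21968), (19717, 16045), (19718, 18623), (19719, 20225), (19720, 16049), (19721, 16047), (19722, 16048), (19723, 20257), (19724, 18977), (19725, 16933), (19726, 21398), (19727, 16053), (19728, 16054), (19729, 16055), (19730, 21957), (19731, 21594), (19732, 19033), (19733, 16058), (19734, 16059), (19735, 19969), (19736, 17046), (19737, 21825), (19738, 20447), (19739, 16557), (19740, 20364), (19741, 16558), (19742, 16066), (19743, 16067), (19744, 21974), (19745, 20332), (19746, 20333), (19747, 16071), (19748, 16831), (19749, 16784), (19750, 17043), (19751, 17041), (19752, 16074), (19753, 16075), (19754, 18680), (19755, 20335), (19756, 20510), (19757, 21975), (19758, 20170), (19759,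 16079), (19760, 18591), (19761, 16082), (19762, 21776), (19763, 16299), (19764, 21977), (19765, 16087), (19766, 21794), (19767, 20695), (19768, 21777), (19769, 18690), (19770, 16091), (19771, 21983), (19772, 21279), (19773, 21277), (19774, 16094), (19775, 16095)]
    ⟨e3 q19712 L233437 q16043, e3 q19713 L233449 q17209, e3 q19714 (flp_e L253435) q21966, e3 q19715 L233467 q17142, e3 q19716 L253455 q21968, e3 q19717 (flp_e L233477) q16045, e3 q19718 L233493 q18623, e3 q19719 (flp_e L237923) q20225, e3 q19720 L233507 q16049, e3 q19721 L233515 q16047, e3 q19722 L233519 q16048, e3 q19723 (flp_e L238125) q20257, e3 q19724 L233537 q18977, e3 q19725 L233547 q16933, e3 q19726 (flp_e L248225) q21398, e3 q19727 L233561 q16053, e3 q19728 L233567 q16054, e3 q19729 L233579 q16055, e3 q19730 (flp_e L253351) q21957, e3 q19731 (flp_e L249849) q21594, e3 q19732 L233599 q19033, e3 q19733 L233609 q16058, e3 q19734 L233615 q16059, e3 q19735 (flp_e L235667) q19969, e3 q19736 L233631 q17046, e3 q19737 (flp_e L252002) q21825, e3 q19738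 (flp_e L239835) q20447, e3 q19739 L233657 q16557, e3 q19740 (flp_e L239089) q20364, e3 q19741 L233675 q16558, e3 q19742 L233681 q16066, e3 q19743 L233689 q16067, e3 q19744 (flp_e L253509) q21974, e3 q19745 (flp_e L238767) q20332, e3 q19746 (flp_e L238777) q20333, e3 q19747 L233721 q16071, e3 q19748 L233731 q16831, e3 q19749 L233743 q16784, e3 q19750 L233751 q17043, e3 q19751 L233763 q17041, e3 q19752 L233771 q16074, e3 q19753 L233783 q16075, e3 q19754 L233793 q18680, e3 q19755 (flp_e L238791) q20335, e3 q19756 (flp_e L240367) q20510, e3 q19757 (flp_e L253519) q21975, e3 q19758 (flp_e L237425) q20170, e3 q19759 L233839 q16079, e3 q19760 L233849 q18591, e3 q19761 (flp_e L233851) q16082, e3 q19762 (flp_e L251490) q21776, e3 q19763 L233869 q16299, e3 q19764 L253539 q21977, e3 q19765 (flp_e L233883) q16087, e3 q19766 (flp_e L251684) q21794, e3 q19767 (flp_e L242038) q20695, e3 q19768 (flp_e L251502) q21777, e3 q19769 (flp_e L233911) q18690, e3 q19770 (flp_e L233915) q16091, e3 q19771 (flp_e L253611) q21983, e3 q19772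 (flp_e L247146) q21279, e3 q19773 (flp_e L247130) q21277, e3 q19774 L233943 q16094, e3 q19775 L233949 q16095, trivial⟩ (by decide +kernel)

theorem ce_e_309 : ∀ r, r < 64 → sm ge (Qf (19776 + r)) = Qf (tab Gen.e (19776 + r)) :=
  edges_tab (sm ge) Qf (tab Gen.e) 19776 [(19776, 21792), (19777, 19299), (19778, 16100), (19779, 21987), (19780, 21573), (19781, 16102), (19782, 16103), (19783, 21989), (19784, 21990), (19785, 19996), (19786, 16104), (19787, 21245), (19788, 19319), (19789, 16106), (19790, 19310), (19791, 17281), (19792, 21795), (19793, 19998), (19794, 20313), (19795, 16111), (19796, 21997), (19797, 21998), (19798, 16112), (19799, 22001), (19800, 18639), (19801, 22000), (19802, 16114), (19803, 16115), (19804, 21711), (19805, 17751), (19806, 16118), (19807, 22004), (19808, 17285), (19809, 17053), (19810, 22006), (19811, 16121), (19812, 20232), (19813, 18638), (19814, 16125), (19815, 16123), (19816, 16124), (19817, 19116), (19818, 16921), (19819, 20245), (19820, 21442), (19821, 16128), (19822, 16129), (19823,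 16131), (19824, 21712), (19825, 19170), (19826, 21994), (19827, 16134), (19828, 16135), (19829, 17136), (19830, 21910), (19831, 20505), (19832, 19950), (19833, 16592), (19834, 20414), (19835, 16593), (19836, 16142), (19837, 16143), (19838, 20336), (19839, 20398)]
    ⟨e3 q19776 (flp_e L251664) q21792, e3 q19777 L233965 q19299, e3 q19778 (flp_e L233969) q16100, e3 q19779 (flp_e L253651) q21987, e3 q19780 (flp_e L249699) q21573, e3 q19781 L233985 q16102, e3 q19782 L233991 q16103, e3 q19783 (flp_e L253657) q21989, e3 q19784 (flp_e L253669) q21990, e3 q19785 (flp_e L235926) q19996, e3 q19786 (flp_e L234021) q16104, e3 q19787 (flp_e L246849) q21245, e3 q19788 L234047 q19319, e3 q19789 L234053 q16106, e3 q19790 L234063 q19310, e3 q19791 L234073 q17281, e3 q19792 (flp_e L251696) q21795, e3 q19793 (flp_e L235944) q19998, e3 q19794 (flp_e L238577) q20313, e3 q19795 (flp_e L234109) q16111, e3 q19796 (flp_e L253740) q21997, e3 q19797 (flp_e L253746) q21998, e3 q19798 (flp_e L234121) q16112, e3 q19799 (flp_e L253774) q22001,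 e3 q19800 L234145 q18639, e3 q19801 (flp_e L253760) q22000, e3 q19802 L234159 q16114, e3 q19803 L234167 q16115, e3 q19804 L250861 q21711, e3 q19805 L234177 q17751, e3 q19806 L234191 q16118, e3 q19807 (flp_e L253802) q22004, e3 q19808 L234209 q17285, e3 q19809 L234221 q17053, e3 q19810 L253822 q22006, e3 q19811 (flp_e L234231) q16121, e3 q19812 (flp_e L237965) q20232, e3 q19813 L234255 q18638, e3 q19814 L234261 q16125, e3 q19815 L234265 q16123, e3 q19816 L234275 q16124, e3 q19817 L234285 q19116, e3 q19818 L234293 q16921, e3 q19819 (flp_e L238045) q20245, e3 q19820 (flp_e L248595) q21442, e3 q19821 L234313 q16128, e3 q19822 L234323 q16129, e3 q19823 L234339 q16131, e3 q19824 (flp_e L250867) q21712, e3 q19825 L234351 q19170, e3 q19826 (flp_e L253707) q21994, e3 q19827 L234363 q16134, e3 q19828 L234373 q16135, e3 q19829 L234379 q17136, e3 q19830 (flp_e L252860) q21910, e3 q19831 (flp_e L240317) q20505, e3 q19832 (flp_e L235485) q19950, e3 q19833 L234417 q16592, e3 q19834 (flp_e L239539) q20414, e3 q19835 L234437 q16593,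 e3 q19836 L234445 q16142, e3 q19837 L234451 q16143, e3 q19838 (flp_e L238801) q20336, e3 q19839 (flp_e L239387) q20398, trivial⟩ (by decide +kernel)

theorem ce_e_310 : ∀ r, r < 64 → sm ge (Qf (19840 + r)) = Qf (tab Gen.e (19840 + r)) :=
  edges_tab (sm ge) Qf (tab Gen.e) 19840 [(19840, 22012), (19841, 16146), (19842, 17133), (19843, 17131), (19844, 16838), (19845, 16810), (19846, 16150), (19847, 16151), (19848, 20452), (19849, 22013), (19850, 20187), (19851, 18691), (19852, 20400), (19853, 18920), (19854, 18921), (19855, 18922), (19856, 18923), (19857, 20545), (19858, 20547), (19859, 20548), (19860, 21835), (19861, 21836), (19862, 20549), (19863, 20550), (19864, 16161), (19865, 22025), (19866, 22026), (19867, 16163), (19868, 16164), (19869, 22027), (19870, 21921), (19871, 20553), (19872, 18865), (19873, 18866), (19874, 18867), (19875, 18868), (19876, 20571), (19877, 20573), (19878, 21913), (19879, 21914), (19880, 20574), (19881, 20575), (19882, 16176), (19883, 22039), (19884, 22040), (19885, 16178), (19886, 16179),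 (19887, 21845), (19888, 22041), (19889, 20578), (19890, 16198), (19891, 16203), (19892, 16296), (19893, 16449), (19894, 16287), (19895, 16211), (19896, 16213), (19897, 16215), (19898, 16216), (19899, 16220), (19900, 16222), (19901, 16223), (19902, 16224), (19903, 22045)]
    ⟨e3 q19840 (flp_e L253880) q22012, e3 q19841 L234487 q16146, e3 q19842 L234501 q17133, e3 q19843 L234515 q17131, e3 q19844 L234523 q16838, e3 q19845 L234535 q16810, e3 q19846 L234543 q16150, e3 q19847 L234551 q16151, e3 q19848 (flp_e L239883) q20452, e3 q19849 (flp_e L253890) q22013, e3 q19850 (flp_e L237571) q20187, e3 q19851 L234589 q18691, e3 q19852 (flp_e L239407) q20400, e3 q19853 L234611 q18920, e3 q19854 L234621 q18921, e3 q19855 L234635 q18922, e3 q19856 L234649 q18923, e3 q19857 (flp_e L240654) q20545, e3 q19858 (flp_e L240672) q20547, e3 q19859 (flp_e L240680) q20548, e3 q19860 (flp_e L252112) q21835, e3 q19861 (flp_e L252122) q21836, e3 q19862 (flp_e L240686) q20549, e3 q19863 (flp_e L240698) q20550, e3 q19864 (flp_e L234691) q16161,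 e3 q19865 (flp_e L254010) q22025, e3 q19866 (flp_e L254024) q22026, e3 q19867 L234721 q16163, e3 q19868 L234727 q16164, e3 q19869 (flp_e L254038) q22027, e3 q19870 (flp_e L252978) q21921, e3 q19871 (flp_e L240726) q20553, e3 q19872 L234757 q18865, e3 q19873 L234767 q18866, e3 q19874 L234781 q18867, e3 q19875 L234791 q18868, e3 q19876 (flp_e L240884) q20571, e3 q19877 (flp_e L240908) q20573, e3 q19878 (flp_e L252902) q21913, e3 q19879 (flp_e L252914) q21914, e3 q19880 (flp_e L240916) q20574, e3 q19881 (flp_e L240922) q20575, e3 q19882 (flp_e L234837) q16176, e3 q19883 (flp_e L254152) q22039, e3 q19884 (flp_e L254166) q22040, e3 q19885 L234867 q16178, e3 q19886 L234873 q16179, e3 q19887 (flp_e L252201) q21845, e3 q19888 (flp_e L254180) q22041, e3 q19889 (flp_e L240956) q20578, e3 q19890 L234903 q16198, e3 q19891 L234915 q16203, e3 q19892 L234929 q16296, e3 q19893 L234941 q16449, e3 q19894 L234955 q16287, e3 q19895 L234963 q16211, e3 q19896 L234977 q16213, e3 q19897 L234983 q16215, e3 q19898 L234995 q16216, e3 q19899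 L235005 q16220, e3 q19900 L235013 q16222, e3 q19901 L235019 q16223, e3 q19902 L235027 q16224, e3 q19903 (flp_e L254220) q22045, trivial⟩ (by decide +kernel)

theorem ce_e_311 : ∀ r, r < 64 → sm ge (Qf (19904 + r)) = Qf (tab Gen.e (19904 + r)) :=
  edges_tab (sm ge) Qf (tab Gen.e) 19904 [(19904, 16230), (19905, 16231), (19906, 16232), (19907, 16441), (19908, 16241), (19909, 16243), (19910, 16245), (19911, 16246), (19912, 16250), (19913, 16252), (19914, 16253), (19915, 16254), (19916, 22047), (19917, 16259), (19918, 16260), (19919, 16261), (19920, 16270), (19921, 16272), (19922, 16274), (19923, 16275), (19924, 20609), (19925, 22048), (19926, 16283), (19927, 16292), (19928, 16298), (19929, 16304), (19930, 17434), (19931, 16306), (19932, 16320), (19933, 16324), (19934, 16330), (19935, 20451), (19936, 16333), (19937, 19691), (19938, 16339), (19939, 19699), (19940, 20175), (19941, 20176), (19942, 16343), (19943, 16344), (19944, 20003), (19945, 20004), (19946, 16349), (19947, 16352), (19948, 16353), (19949, 16364), (19950,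 19832), (19951, 16366), (19952, 20875), (19953, 16373), (19954, 16509), (19955, 16375), (19956, 16376), (19957, 16512), (19958, 16513), (19959, 16380), (19960, 16381), (19961, 16385), (19962, 18683), (19963, 16389), (19964, 16393), (19965, 16391), (19966, 16392), (19967, 22060)]
    ⟨e3 q19904 L235045 q16230, e3 q19905 L235055 q16231, e3 q19906 L235061 q16232, e3 q19907 L235075 q16441, e3 q19908 L235083 q16241, e3 q19909 L235097 q16243, e3 q19910 L235103 q16245, e3 q19911 L235115 q16246, e3 q19912 L235125 q16250, e3 q19913 L235133 q16252, e3 q19914 L235139 q16253, e3 q19915 L235147 q16254, e3 q19916 (flp_e L254244) q22047, e3 q19917 L235165 q16259, e3 q19918 L235175 q16260, e3 q19919 L235181 q16261, e3 q19920 L235189 q16270, e3 q19921 L235199 q16272, e3 q19922 L235211 q16274, e3 q19923 L235217 q16275, e3 q19924 (flp_e L241277) q20609, e3 q19925 (flp_e L254254) q22048, e3 q19926 L235246 q16283, e3 q19927 L235256 q16292, e3 q19928 (flp_e L235266) q16298, e3 q19929 (flp_e L235274) q16304, e3 q19930 L235292 q17434,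 e3 q19931 L235304 q16306, e3 q19932 L235318 q16320, e3 q19933 (flp_e L235324) q16324, e3 q19934 (flp_e L235336) q16330, e3 q19935 (flp_e L239873) q20451, e3 q19936 L235356 q16333, e3 q19937 L235368 q19691, e3 q19938 L235376 q16339, e3 q19939 L235386 q19699, e3 q19940 (flp_e L237469) q20175, e3 q19941 (flp_e L237477) q20176, e3 q19942 L235408 q16343, e3 q19943 L235419 q16344, e3 q19944 (flp_e L235989) q20003, e3 q19945 (flp_e L235998) q20004, e3 q19946 L235443 q16349, e3 q19947 L235453 q16352, e3 q19948 L235463 q16353, e3 q19949 (flp_e L235469) q16364, e3 q19950 L235485 q19832, e3 q19951 L235493 q16366, e3 q19952 (flp_e L243853) q20875, e3 q19953 (flp_e L235503) q16373, e3 q19954 L235521 q16509, e3 q19955 L235531 q16375, e3 q19956 L235541 q16376, e3 q19957 L235551 q16512, e3 q19958 L235557 q16513, e3 q19959 L235563 q16380, e3 q19960 L235575 q16381, e3 q19961 (flp_e L235581) q16385, e3 q19962 L235601 q18683, e3 q19963 (flp_e L235605) q16389, e3 q19964 L235623 q16393, e3 q19965 L235633 q16391, e3 q19966 L235643 q16392,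 e3 q19967 (flp_e L254398) q22060, trivial⟩ (by decide +kernel)

theorem ce_e_312 : ∀ r, r < 64 → sm ge (Qf (19968 + r)) = Qf (tab Gen.e (19968 + r)) :=
  edges_tab (sm ge) Qf (tab Gen.e) 19968 [(19968, 22061), (19969, 19735), (19970, 16397), (19971, 16403), (19972, 16404), (19973, 16401), (19974, 16402), (19975, 22063), (19976, 22062), (19977, 16407), (19978, 20015), (19979, 16415), (19980, 17497), (19981, 16425), (19982, 16427), (19983, 16429), (19984, 16430), (19985, 20612), (19986, 22064), (19987, 16438), (19988, 16451), (19989, 16453), (19990, 17457), (19991, 16455), (19992, 16468), (19993, 16472), (19994, 20509), (19995, 16475), (19996, 19785), (19997, 16480), (19998, 19793), (19999, 20192), (20000, 20193), (20001, 16484), (20002, 16485), (20003, 19944), (20004, 19945), (20005, 16489), (20006, 16492), (20007, 16493), (20008, 20899), (20009, 18694), (20010, 22056), (20011, 22057), (20012, 22055), (20013, 22058), (20014, 16516), (20015, 19978), (20016, 16522), (20017, 17488), (20018, 16532), (20019, 16531), (20020,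 22031), (20021, 22070), (20022, 22071), (20023, 16541), (20024, 22072), (20025, 16546), (20026, 16545), (20027, 22073), (20028, 22074), (20029, 16551), (20030, 16552), (20031, 16550)]
    ⟨e3 q19968 (flp_e L254410) q22061, e3 q19969 L235667 q19735, e3 q19970 L235675 q16397, e3 q19971 L235685 q16403, e3 q19972 L235693 q16404, e3 q19973 L235699 q16401, e3 q19974 L235711 q16402, e3 q19975 (flp_e L254434) q22063, e3 q19976 (flp_e L254416) q22062, e3 q19977 L235735 q16407, e3 q19978 (flp_e L236093) q20015, e3 q19979 L235751 q16415, e3 q19980 L235767 q17497, e3 q19981 L235775 q16425, e3 q19982 L235785 q16427, e3 q19983 L235797 q16429, e3 q19984 L235803 q16430, e3 q19985 (flp_e L241308) q20612, e3 q19986 (flp_e L254444) q22064, e3 q19987 L235832 q16438, e3 q19988 (flp_e L235838) q16451, e3 q19989 (flp_e L235846) q16453, e3 q19990 L235864 q17457, e3 q19991 L235876 q16455, e3 q19992 (flp_e L235882) q16468, e3 q19993 (flp_e L235894) q16472, e3 q19994 (flp_e L240357) q20509, e3 q19995 L235914 q16475, e3 q19996 L235926 q19785,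 e3 q19997 L235934 q16480, e3 q19998 L235944 q19793, e3 q19999 (flp_e L237615) q20192, e3 q20000 (flp_e L237625) q20193, e3 q20001 L235968 q16484, e3 q20002 L235976 q16485, e3 q20003 L235989 q19944, e3 q20004 L235998 q19945, e3 q20005 L236005 q16489, e3 q20006 L236015 q16492, e3 q20007 L236027 q16493, e3 q20008 (flp_e L244097) q20899, e3 q20009 L236045 q18694, e3 q20010 (flp_e L254346) q22056, e3 q20011 (flp_e L254358) q22057, e3 q20012 (flp_e L254330) q22055, e3 q20013 (flp_e L254372) q22058, e3 q20014 L236081 q16516, e3 q20015 L236093 q19978, e3 q20016 L236101 q16522, e3 q20017 L236117 q17488, e3 q20018 L236127 q16532, e3 q20019 L236133 q16531, e3 q20020 (flp_e L254072) q22031, e3 q20021 (flp_e L254516) q22070, e3 q20022 L254522 q22071, e3 q20023 (flp_e L236161) q16541, e3 q20024 (flp_e L254542) q22072, e3 q20025 L236179 q16546, e3 q20026 L236187 q16545, e3 q20027 (flp_e L254550) q22073, e3 q20028 (flp_e L254560) q22074, e3 q20029 L236209 q16551, e3 q20030 L236215 q16552, e3 q20031 L236219 q16550, trivial⟩ (by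 decide +kernel)

theorem ce_e_313 : ∀ r, r < 64 → sm ge (Qf (20032 + r)) = Qf (tab Gen.e (20032 + r)) :=
  edges_tab (sm ge) Qf (tab Gen.e) 20032 [(20032, 22075), (20033, 21395), (20034, 22077), (20035, 22078), (20036, 22046), (20037, 18592), (20038, 16567), (20039, 16566), (20040, 22016), (20041, 22083), (20042, 22084), (20043, 16576), (20044, 22085), (20045, 16581), (20046, 16580), (20047, 22086), (20048, 22087), (20049, 16586), (20050, 16587), (20051, 16585), (20052, 22088), (20053, 21439), (20054, 22090), (20055, 22091), (20056, 22044), (20057, 18601), (20058, 22059), (20059, 18561), (20060, 20072), (20061, 20073), (20062, 16632), (20063, 16608), (20064, 16609), (20065, 16614), (20066, 16616), (20067, 16613), (20068, 22102), (20069, 20081), (20070, 22103), (20071, 22104), (20072, 20060), (20073, 20061), (20074, 16620), (20075, 22054), (20076, 18575), (20077, 20083), (20078, 16631), (20079, 22115), (20080, 22099), (20081, 20069), (20082, 22101), (20083, 20077), (20084, 16647), (20085, 22122), (20086, 18165),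 (20087, 17517), (20088, 16653), (20089, 16655), (20090, 18163), (20091, 18164), (20092, 16665), (20093, 22126), (20094, 18111), (20095, 17519)]
    ⟨e3 q20032 (flp_e L254568) q22075, e3 q20033 (flp_e L248195) q21395, e3 q20034 (flp_e L254578) q22077, e3 q20035 (flp_e L254586) q22078, e3 q20036 (flp_e L254236) q22046, e3 q20037 L236257 q18592, e3 q20038 L236266 q16567, e3 q20039 L236272 q16566, e3 q20040 (flp_e L253924) q22016, e3 q20041 (flp_e L254626) q22083, e3 q20042 L254632 q22084, e3 q20043 (flp_e L236300) q16576, e3 q20044 (flp_e L254652) q22085, e3 q20045 L236318 q16581, e3 q20046 L236326 q16580, e3 q20047 (flp_e L254660) q22086, e3 q20048 (flp_e L254670) q22087, e3 q20049 L236348 q16586, e3 q20050 L236354 q16587, e3 q20051 L236358 q16585, e3 q20052 (flp_e L254678) q22088, e3 q20053 (flp_e L248565) q21439, e3 q20054 (flp_e L254688) q22090, e3 q20055 (flp_e L254696) q22091, e3 q20056 (flp_e L254212) q22044, e3 q20057 L236396 q18601, e3 q20058 (flp_e L254388) q22059, e3 q20059 L236419 q18561, e3 q20060 (flp_e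 L236512) q20072, e3 q20061 (flp_e L236522) q20073, e3 q20062 L236439 q16632, e3 q20063 L236445 q16608, e3 q20064 L236456 q16609, e3 q20065 L236466 q16614, e3 q20066 L236476 q16616, e3 q20067 L236482 q16613, e3 q20068 (flp_e L254790) q22102, e3 q20069 (flp_e L236585) q20081, e3 q20070 (flp_e L254802) q22103, e3 q20071 (flp_e L254810) q22104, e3 q20072 L236512 q20060, e3 q20073 L236522 q20061, e3 q20074 L236528 q16620, e3 q20075 (flp_e L254326) q22054, e3 q20076 L236555 q18575, e3 q20077 (flp_e L236599) q20083, e3 q20078 L236563 q16631, e3 q20079 (flp_e L254899) q22115, e3 q20080 (flp_e L254760) q22099, e3 q20081 L236585 q20069, e3 q20082 (flp_e L254778) q22101, e3 q20083 L236599 q20077, e3 q20084 (flp_e L236605) q16647, e3 q20085 (flp_e L254950) q22122, e3 q20086 L236631 q18165, e3 q20087 L236639 q17517, e3 q20088 L236653 q16653, e3 q20089 (flp_e L236657) q16655, e3 q20090 L236675 q18163, e3 q20091 L236679 q18164, e3 q20092 (flp_e L236687) q16665, e3 q20093 (flp_e L254996) q22126, e3 q20094 L236713 q18111, e3 q20095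 L236721 q17519, trivial⟩ (by decide +kernel)

theorem ce_e_314 : ∀ r, r < 64 → sm ge (Qf (20096 + r)) = Qf (tab Gen.e (20096 + r)) :=
  edges_tab (sm ge) Qf (tab Gen.e) 20096 [(20096, 16671), (20097, 16673), (20098, 18109), (20099, 18110), (20100, 16877), (20101, 16884), (20102, 16888), (20103, 20861), (20104, 16890), (20105, 18616), (20106, 16685), (20107, 21885), (20108, 16895), (20109, 16896), (20110, 16898), (20111, 20886), (20112, 16901), (20113, 18631), (20114, 16691), (20115, 21791), (20116, 16906), (20117, 16907), (20118, 16915), (20119, 19165), (20120, 16916), (20121, 16917), (20122, 16919), (20123, 16920), (20124, 16922), (20125, 16927), (20126, 19028), (20127, 16928), (20128, 16929), (20129, 16931), (20130, 16932), (20131, 16934), (20132, 18330), (20133, 16740), (20134, 16741), (20135, 18273), (20136, 16742), (20137, 16743), (20138, 18399), (20139, 16980), (20140, 16983), (20141, 16984), (20142, 18461), (20143, 17005), (20144, 17008), (20145, 17009), (20146, 16744), (20147, 17243), (20148, 17249), (20149,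 16745), (20150, 17320), (20151, 17326), (20152, 20429), (20153, 20195), (20154, 20430), (20155, 16844), (20156, 16845), (20157, 20487), (20158, 20178), (20159, 20488)]
    ⟨e3 q20096 L236735 q16671, e3 q20097 (flp_e L236739) q16673, e3 q20098 L236757 q18109, e3 q20099 L236761 q18110, e3 q20100 L236771 q16877, e3 q20101 L236777 q16884, e3 q20102 L236789 q16888, e3 q20103 (flp_e L243713) q20861, e3 q20104 L236811 q16890, e3 q20105 (flp_e L236825) q18616, e3 q20106 (flp_e L236827) q16685, e3 q20107 (flp_e L252604) q21885, e3 q20108 L236847 q16895, e3 q20109 L236861 q16896, e3 q20110 L236873 q16898, e3 q20111 (flp_e L243965) q20886, e3 q20112 L236895 q16901, e3 q20113 (flp_e L236909) q18631, e3 q20114 (flp_e L236911) q16691, e3 q20115 (flp_e L251650) q21791, e3 q20116 L236931 q16906, e3 q20117 L236945 q16907, e3 q20118 L236953 q16915, e3 q20119 L236969 q19165, e3 q20120 L236981 q16916, e3 q20121 L236987 q16917, e3 q20122 L236995 q16919, e3 q20123 L237005 q16920, e3 q20124 L237015 q16922, e3 q20125 L237023 q16927, e3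 q20126 L237039 q19028, e3 q20127 L237051 q16928, e3 q20128 L237057 q16929, e3 q20129 L237065 q16931, e3 q20130 L237075 q16932, e3 q20131 L237085 q16934, e3 q20132 L237097 q18330, e3 q20133 L237105 q16740, e3 q20134 L237117 q16741, e3 q20135 L237131 q18273, e3 q20136 L237139 q16742, e3 q20137 L237151 q16743, e3 q20138 (flp_e L237163) q18399, e3 q20139 L237169 q16980, e3 q20140 L237179 q16983, e3 q20141 L237187 q16984, e3 q20142 (flp_e L237197) q18461, e3 q20143 L237203 q17005, e3 q20144 L237213 q17008, e3 q20145 L237221 q17009, e3 q20146 L237229 q16744, e3 q20147 L237245 q17243, e3 q20148 L237249 q17249, e3 q20149 L237255 q16745, e3 q20150 L237271 q17320, e3 q20151 L237275 q17326, e3 q20152 (flp_e L239677) q20429, e3 q20153 (flp_e L237643) q20195, e3 q20154 (flp_e L239691) q20430, e3 q20155 L237299 q16844, e3 q20156 L237311 q16845, e3 q20157 (flp_e L240155) q20487, e3 q20158 (flp_e L237497) q20178, e3 q20159 (flp_e L240169) q20488, trivial⟩ (by decide +kernel)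

theorem ce_e_315 : ∀ r, r < 64 → sm ge (Qf (20160 + r)) = Qf (tab Gen.e (20160 + r)) :=
  edges_tab (sm ge) Qf (tab Gen.e) 20160 [(20160, 16846), (20161, 16847), (20162, 22052), (20163, 22067), (20164, 18085), (20165, 16781), (20166, 22150), (20167, 22152), (20168, 16782), (20169, 16785), (20170, 19758), (20171, 22153), (20172, 16789), (20173, 21922), (20174, 17600), (20175, 19940), (20176, 19941), (20177, 16799), (20178, 20158), (20179, 21920), (20180, 20811), (20181, 18141), (20182, 16807), (20183, 22159), (20184, 22161), (20185, 16808), (20186, 16811), (20187, 19850), (20188, 22162), (20189, 16815), (20190, 21846), (20191, 17572), (20192, 19999), (20193, 20000), (20194, 16825), (20195, 20153), (20196, 21842), (20197, 20801), (20198, 17892), (20199, 21891), (20200, 20662), (20201, 16870), (20202, 17914), (20203, 21798), (20204, 20636), (20205, 16871), (20206, 20602), (20207, 19372), (20208, 20600), (20209, 19587), (20210, 18182), (20211, 18130), (20212, 18171), (20213, 18117), (20214, 18083), (20215, 20800),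 (20216, 20290), (20217, 18137), (20218, 20810), (20219, 20310), (20220, 20911), (20221, 21731), (20222, 16894), (20223, 21887)]
    ⟨e3 q20160 L237340 q16846, e3 q20161 L237352 q16847, e3 q20162 (flp_e L254302) q22052, e3 q20163 (flp_e L254484) q22067, e3 q20164 L237381 q18085, e3 q20165 L237389 q16781, e3 q20166 (flp_e L255242) q22150, e3 q20167 L255255 q22152, e3 q20168 (flp_e L237403) q16782, e3 q20169 L237417 q16785, e3 q20170 L237425 q19758, e3 q20171 L255265 q22153, e3 q20172 (flp_e L237435) q16789, e3 q20173 (flp_e L252994) q21922, e3 q20174 L237457 q17600, e3 q20175 L237469 q19940, e3 q20176 L237477 q19941, e3 q20177 L237491 q16799, e3 q20178 L237497 q20158, e3 q20179 (flp_e L252970) q21920, e3 q20180 (flp_e L243193) q20811, e3 q20181 L237527 q18141, e3 q20182 L237535 q16807, e3 q20183 (flp_e L255323) q22159, e3 q20184 L255336 q22161, e3 q20185 (flp_e L237549) q16808, e3 q20186 L237563 q16811, e3 q20187 L237571 q19850, e3 q20188 L255346 q22162, e3 q20189 (flp_e L237581) q16815, e3 q20190 (flp_e L252215)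 q21846, e3 q20191 L237603 q17572, e3 q20192 L237615 q19999, e3 q20193 L237625 q20000, e3 q20194 L237637 q16825, e3 q20195 L237643 q20153, e3 q20196 (flp_e L252170) q21842, e3 q20197 (flp_e L243067) q20801, e3 q20198 L237671 q17892, e3 q20199 (flp_e L252670) q21891, e3 q20200 (flp_e L241712) q20662, e3 q20201 L237701 q16870, e3 q20202 L237713 q17914, e3 q20203 (flp_e L251728) q21798, e3 q20204 (flp_e L241486) q20636, e3 q20205 L237743 q16871, e3 q20206 (flp_e L241202) q20602, e3 q20207 L237766 q19372, e3 q20208 (flp_e L241174) q20600, e3 q20209 L237787 q19587, e3 q20210 L237795 q18182, e3 q20211 L237808 q18130, e3 q20212 L237823 q18171, e3 q20213 L237833 q18117, e3 q20214 L237845 q18083, e3 q20215 (flp_e L243051) q20800, e3 q20216 (flp_e L238398) q20290, e3 q20217 L237870 q18137, e3 q20218 (flp_e L243177) q20810, e3 q20219 (flp_e L238554) q20310, e3 q20220 (flp_e L244211) q20911, e3 q20221 (flp_e L251039) q21731, e3 q20222 L237905 q16894, e3 q20223 (flp_e L252630) q21887, trivial⟩ (by decide +kernel)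

theorem ce_e_316 : ∀ r, r < 64 → sm ge (Qf (20224 + r)) = Qf (tab Gen.e (20224 + r)) :=
  edges_tab (sm ge) Qf (tab Gen.e) 20224 [(20224, 21946), (20225, 19719), (20226, 22131), (20227, 20940), (20228, 21616), (20229, 16905), (20230, 21793), (20231, 21984), (20232, 19812), (20233, 22133), (20234, 18309), (20235, 18252), (20236, 21203), (20237, 21996), (20238, 18547), (20239, 21670), (20240, 18460), (20241, 20302), (20242, 21674), (20243, 21668), (20244, 22134), (20245, 19819), (20246, 21068), (20247, 20297), (20248, 21223), (20249, 21958), (20250, 18554), (20251, 21540), (20252, 18400), (20253, 20282), (20254, 21544), (20255, 21538), (20256, 22135), (20257, 19723), (20258, 21031), (20259, 20317), (20260, 16938), (20261, 16939), (20262, 21099), (20263, 22196), (20264, 18248), (20265, 21241), (20266, 17392), (20267, 17319), (20268, 17309), (20269, 17325), (20270, 17327), (20271, 16953), (20272, 16954), (20273, 21152), (20274, 22201), (20275, 18306), (20276, 21252), (20277, 17396), (20278, 17244), (20279, 17233),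 (20280, 17250), (20281, 17252), (20282, 20253), (20283, 21542), (20284, 19122), (20285, 22209), (20286, 21549), (20287, 16971)]
    ⟨e3 q20224 (flp_e L253260) q21946, e3 q20225 L237923 q19719, e3 q20226 (flp_e L255048) q22131, e3 q20227 (flp_e L244425) q20940, e3 q20228 (flp_e L250003) q21616, e3 q20229 L237947 q16905, e3 q20230 (flp_e L251676) q21793, e3 q20231 (flp_e L253625) q21984, e3 q20232 L237965 q19812, e3 q20233 (flp_e L255072) q22133, e3 q20234 L237979 q18309, e3 q20235 L237989 q18252, e3 q20236 (flp_e L246503) q21203, e3 q20237 (flp_e L253732) q21996, e3 q20238 L237999 q18547, e3 q20239 (flp_e L250486) q21670, e3 q20240 (flp_e L238013) q18460, e3 q20241 (flp_e L238493) q20302, e3 q20242 (flp_e L250534) q21674, e3 q20243 (flp_e L250455) q21668, e3 q20244 (flp_e L255086) q22134, e3 q20245 L238045 q19819, e3 q20246 (flp_e L245419) q21068, e3 q20247 (flp_e L238453) q20297, e3 q20248 (flp_e L246669) q21223, e3 q20249 (flp_e L253365) q21958, e3 q20250 L238073 q18554, e3 q20251 (flp_e L249402) q21540, e3 q20252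 (flp_e L238087) q18400, e3 q20253 (flp_e L238337) q20282, e3 q20254 (flp_e L249450) q21544, e3 q20255 L249380 q21538, e3 q20256 (flp_e L255100) q22135, e3 q20257 L238125 q19723, e3 q20258 (flp_e L245113) q21031, e3 q20259 (flp_e L238609) q20317, e3 q20260 L238147 q16938, e3 q20261 L238157 q16939, e3 q20262 (flp_e L245651) q21099, e3 q20263 (flp_e L255640) q22196, e3 q20264 L238181 q18248, e3 q20265 (flp_e L246815) q21241, e3 q20266 L238193 q17392, e3 q20267 L238209 q17319, e3 q20268 L238217 q17309, e3 q20269 L238221 q17325, e3 q20270 L238231 q17327, e3 q20271 L238239 q16953, e3 q20272 L238249 q16954, e3 q20273 (flp_e L246066) q21152, e3 q20274 (flp_e L255702) q22201, e3 q20275 L238275 q18306, e3 q20276 (flp_e L246923) q21252, e3 q20277 L238287 q17396, e3 q20278 L238305 q17244, e3 q20279 L238313 q17233, e3 q20280 L238317 q17250, e3 q20281 L238327 q17252, e3 q20282 L238337 q20253, e3 q20283 (flp_e L249418) q21542, e3 q20284 L238355 q19122, e3 q20285 L255791 q22209, e3 q20286 (flp_e L249500) q21549, e3 q20287 (flp_e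 L238366) q16971, trivial⟩ (by decide +kernel)

theorem ce_e_317 : ∀ r, r < 64 → sm ge (Qf (20288 + r)) = Qf (tab Gen.e (20288 + r)) :=
  edges_tab (sm ge) Qf (tab Gen.e) 20288 [(20288, 18398), (20289, 18386), (20290, 20216), (20291, 22213), (20292, 19700), (20293, 18576), (20294, 18689), (20295, 22139), (20296, 22218), (20297, 20247), (20298, 16982), (20299, 22219), (20300, 21400), (20301, 21314), (20302, 20241), (20303, 21672), (20304, 18983), (20305, 22224), (20306, 21678), (20307, 16996), (20308, 18402), (20309, 18448), (20310, 20219), (20311, 22228), (20312, 18562), (20313, 19794), (20314, 18678), (20315, 22141), (20316, 22233), (20317, 20259), (20318, 17007), (20319, 22234), (20320, 21354), (20321, 21303), (20322, 19462), (20323, 18377), (20324, 18409), (20325, 21052), (20326, 17438), (20327, 17033), (20328, 17034), (20329, 17650), (20330, 19364), (20331, 19579), (20332, 19745), (20333, 19746), (20334, 20687), (20335, 19755), (20336, 19838), (20337, 17720), (20338, 17648), (20339, 21868), (20340, 17463), (20341,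 20996), (20342, 17051), (20343, 22005), (20344, 20803), (20345, 17060), (20346, 17062), (20347, 17063), (20348, 17064), (20349, 17065), (20350, 18288), (20351, 17149)]
    ⟨e3 q20288 L238378 q18398, e3 q20289 L238386 q18386, e3 q20290 L238398 q20216, e3 q20291 L255831 q22213, e3 q20292 L238413 q19700, e3 q20293 L238423 q18576, e3 q20294 L238431 q18689, e3 q20295 (flp_e L255142) q22139, e3 q20296 L255885 q22218, e3 q20297 L238453 q20247, e3 q20298 (flp_e L238459) q16982, e3 q20299 (flp_e L255901) q22219, e3 q20300 (flp_e L248239) q21400, e3 q20301 (flp_e L247445) q21314, e3 q20302 L238493 q20241, e3 q20303 (flp_e L250502) q21672, e3 q20304 L238511 q18983, e3 q20305 L255948 q22224, e3 q20306 (flp_e L250572) q21678, e3 q20307 (flp_e L238522) q16996, e3 q20308 L238534 q18402, e3 q20309 L238542 q18448, e3 q20310 L238554 q20219, e3 q20311 L255988 q22228, e3 q20312 L238567 q18562, e3 q20313 L238577 q19794, e3 q20314 L238587 q18678, e3 q20315 (flp_e L255162) q22141, e3 q20316 L256044 q22233, e3 q20317 L238609 q20259, e3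 q20318 (flp_e L238615) q17007, e3 q20319 (flp_e L256060) q22234, e3 q20320 (flp_e L247851) q21354, e3 q20321 (flp_e L247341) q21303, e3 q20322 L238649 q19462, e3 q20323 L238659 q18377, e3 q20324 L238673 q18409, e3 q20325 (flp_e L245261) q21052, e3 q20326 L238691 q17438, e3 q20327 L238697 q17033, e3 q20328 L238713 q17034, e3 q20329 L238723 q17650, e3 q20330 L238735 q19364, e3 q20331 L238749 q19579, e3 q20332 L238767 q19745, e3 q20333 L238777 q19746, e3 q20334 (flp_e L241954) q20687, e3 q20335 L238791 q19755, e3 q20336 L238801 q19838, e3 q20337 L238813 q17720, e3 q20338 L238831 q17648, e3 q20339 (flp_e L252421) q21868, e3 q20340 L238847 q17463, e3 q20341 (flp_e L244828) q20996, e3 q20342 (flp_e L238861) q17051, e3 q20343 (flp_e L253812) q22005, e3 q20344 (flp_e L243093) q20803, e3 q20345 L238881 q17060, e3 q20346 L238899 q17062, e3 q20347 L238909 q17063, e3 q20348 L238921 q17064, e3 q20349 L238935 q17065, e3 q20350 L238951 q18288, e3 q20351 L238961 q17149, trivial⟩ (by decide +kernel)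

theorem ce_e_318 : ∀ r, r < 64 → sm ge (Qf (20352 + r)) = Qf (tab Gen.e (20352 + r)) :=
  edges_tab (sm ge) Qf (tab Gen.e) 20352 [(20352, 19477), (20353, 17704), (20354, 17703), (20355, 20678), (20356, 17631), (20357, 17632), (20358, 17633), (20359, 17069), (20360, 17070), (20361, 17072), (20362, 17185), (20363, 17405), (20364, 19740), (20365, 17406), (20366, 17407), (20367, 20688), (20368, 17408), (20369, 20690), (20370, 17409), (20371, 21258), (20372, 17300), (20373, 21821), (20374, 17085), (20375, 22249), (20376, 21255), (20377, 17411), (20378, 17156), (20379, 17157), (20380, 17158), (20381, 17183), (20382, 17184), (20383, 18854), (20384, 17412), (20385, 20697), (20386, 17413), (20387, 19501), (20388, 17103), (20389, 17104), (20390, 22254), (20391, 17106), (20392, 19662), (20393, 18437), (20394, 18467), (20395, 21087), (20396, 17122), (20397, 17123), (20398, 19839), (20399, 20724), (20400, 19852), (20401, 17649), (20402, 21764), (20403, 20970), (20404, 17140), (20405, 21967), (20406, 20813), (20407, 17151),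 (20408, 17152), (20409, 18345), (20410, 19241), (20411, 20715), (20412, 17705), (20413, 17423), (20414, 19834), (20415, 17424)]
    ⟨e3 q20352 L238975 q19477, e3 q20353 L238985 q17704, e3 q20354 L238995 q17703, e3 q20355 (flp_e L241880) q20678, e3 q20356 L239013 q17631, e3 q20357 L239025 q17632, e3 q20358 L239033 q17633, e3 q20359 (flp_e L239037) q17069, e3 q20360 (flp_e L239049) q17070, e3 q20361 L239065 q17072, e3 q20362 L239073 q17185, e3 q20363 L239081 q17405, e3 q20364 L239089 q19740, e3 q20365 L239095 q17406, e3 q20366 L239101 q17407, e3 q20367 (flp_e L241966) q20688, e3 q20368 L239119 q17408, e3 q20369 (flp_e L241986) q20690, e3 q20370 L239135 q17409, e3 q20371 (flp_e L246975) q21258, e3 q20372 L239153 q17300, e3 q20373 (flp_e L251968) q21821, e3 q20374 (flp_e L239157) q17085, e3 q20375 (flp_e L256222) q22249, e3 q20376 (flp_e L246947) q21255, e3 q20377 L239179 q17411, e3 q20378 L239199 q17156, e3 q20379 L239207 q17157, e3 q20380 L239221 q17158, e3 q20381 L239229 q17183, e3 q20382 L239237 q17184, e3 q20383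 L239247 q18854, e3 q20384 L239255 q17412, e3 q20385 (flp_e L242060) q20697, e3 q20386 L239271 q17413, e3 q20387 L239285 q19501, e3 q20388 (flp_e L239289) q17103, e3 q20389 (flp_e L239299) q17104, e3 q20390 (flp_e L256274) q22254, e3 q20391 L239317 q17106, e3 q20392 L239325 q19662, e3 q20393 L239335 q18437, e3 q20394 L239349 q18467, e3 q20395 (flp_e L245557) q21087, e3 q20396 L239361 q17122, e3 q20397 L239377 q17123, e3 q20398 L239387 q19839, e3 q20399 (flp_e L242320) q20724, e3 q20400 L239407 q19852, e3 q20401 L239421 q17649, e3 q20402 (flp_e L251359) q21764, e3 q20403 (flp_e L244643) q20970, e3 q20404 (flp_e L239439) q17140, e3 q20405 (flp_e L253445) q21967, e3 q20406 (flp_e L243219) q20813, e3 q20407 L239463 q17151, e3 q20408 L239473 q17152, e3 q20409 L239487 q18345, e3 q20410 L239497 q19241, e3 q20411 (flp_e L242244) q20715, e3 q20412 L239519 q17705, e3 q20413 L239527 q17423, e3 q20414 L239539 q19834, e3 q20415 L239549 q17424, trivial⟩ (by decide +kernel)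

theorem ce_e_319 : ∀ r, r < 64 → sm ge (Qf (20416 + r)) = Qf (tab Gen.e (20416 + r)) :=
  edges_tab (sm ge) Qf (tab Gen.e) 20416 [(20416, 17425), (20417, 20725), (20418, 21248), (20419, 17224), (20420, 21906), (20421, 17170), (20422, 21244), (20423, 22263), (20424, 17427), (20425, 18908), (20426, 19268), (20427, 22243), (20428, 18065), (20429, 20152), (20430, 20154), (20431, 19225), (20432, 19226), (20433, 19227), (20434, 21091), (20435, 17203), (20436, 17206), (20437, 17207), (20438, 17675), (20439, 18394), (20440, 18396), (20441, 22264), (20442, 21955), (20443, 18871), (20444, 22265), (20445, 20804), (20446, 21762), (20447, 19738), (20448, 18872), (20449, 21763), (20450, 17215), (20451, 19935), (20452, 19848), (20453, 17221), (20454, 21890), (20455, 17426), (20456, 21892), (20457, 17236), (20458, 17237), (20459, 22268), (20460, 22266), (20461, 19502), (20462, 19496), (20463, 19503), (20464, 17241), (20465, 22142), (20466, 22204), (20467, 21992), (20468, 21431), (20469, 17247), (20470, 22271), (20471, 22272),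 (20472, 21130), (20473, 22143), (20474, 21443), (20475, 21144), (20476, 22205), (20477, 17448), (20478, 17449), (20479, 17450)]
    ⟨e3 q20416 L239559 q17425, e3 q20417 (flp_e L242332) q20725, e3 q20418 (flp_e L246879) q21248, e3 q20419 L239589 q17224, e3 q20420 (flp_e L252824) q21906, e3 q20421 (flp_e L239597) q17170, e3 q20422 (flp_e L246839) q21244, e3 q20423 (flp_e L256380) q22263, e3 q20424 L239619 q17427, e3 q20425 L239635 q18908, e3 q20426 L239649 q19268, e3 q20427 (flp_e L256162) q22243, e3 q20428 L239665 q18065, e3 q20429 L239677 q20152, e3 q20430 L239691 q20154, e3 q20431 L239699 q19225, e3 q20432 L239709 q19226, e3 q20433 L239725 q19227, e3 q20434 (flp_e L245601) q21091, e3 q20435 L239739 q17203, e3 q20436 L239745 q17206, e3 q20437 L239755 q17207, e3 q20438 L239765 q17675, e3 q20439 L239773 q18394, e3 q20440 L239783 q18396, e3 q20441 (flp_e L256390) q22264, e3 q20442 (flp_e L253326) q21955, e3 q20443 (flp_e L239805) q18871, e3 q20444 (flp_e L256408) q22265, e3 q20445 (flp_e L243109) q20804, e3 q20446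 (flp_e L251345) q21762, e3 q20447 L239835 q19738, e3 q20448 L239845 q18872, e3 q20449 (flp_e L251353) q21763, e3 q20450 L239863 q17215, e3 q20451 L239873 q19935, e3 q20452 L239883 q19848, e3 q20453 L239893 q17221, e3 q20454 (flp_e L252656) q21890, e3 q20455 L239907 q17426, e3 q20456 (flp_e L252690) q21892, e3 q20457 L239935 q17236, e3 q20458 L239941 q17237, e3 q20459 (flp_e L256442) q22268, e3 q20460 (flp_e L256420) q22266, e3 q20461 L239965 q19502, e3 q20462 L239983 q19496, e3 q20463 L239993 q19503, e3 q20464 (flp_e L239997) q17241, e3 q20465 (flp_e L255174) q22142, e3 q20466 (flp_e L255738) q22204, e3 q20467 (flp_e L253683) q21992, e3 q20468 (flp_e L248503) q21431, e3 q20469 (flp_e L240033) q17247, e3 q20470 (flp_e L256476) q22271, e3 q20471 (flp_e L256486) q22272, e3 q20472 (flp_e L245903) q21130, e3 q20473 (flp_e L255184) q22143, e3 q20474 (flp_e L248601) q21443, e3 q20475 L246012 q21144, e3 q20476 (flp_e L255752) q22205, e3 q20477 L240077 q17448, e3 q20478 L240086 q17449, e3 q20479 L240097 q17450, trivial⟩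 (by decide +kernel)

theorem ce_e_320 : ∀ r, r < 64 → sm ge (Qf (20480 + r)) = Qf (tab Gen.e (20480 + r)) :=
  edges_tab (sm ge) Qf (tab Gen.e) 20480 [(20480, 17254), (20481, 22280), (20482, 22281), (20483, 17256), (20484, 22140), (20485, 21805), (20486, 18036), (20487, 20157), (20488, 20159), (20489, 21146), (20490, 19465), (20491, 19466), (20492, 19392), (20493, 17279), (20494, 17282), (20495, 17283), (20496, 17744), (20497, 18457), (20498, 18458), (20499, 22284), (20500, 21993), (20501, 18927), (20502, 22285), (20503, 20814), (20504, 21866), (20505, 19831), (20506, 18926), (20507, 21867), (20508, 17291), (20509, 19994), (20510, 19756), (20511, 17297), (20512, 21796), (20513, 17410), (20514, 21799), (20515, 17312), (20516, 17313), (20517, 22286), (20518, 22288), (20519, 19269), (20520, 19270), (20521, 19263), (20522, 17317), (20523, 22199), (20524, 22145), (20525, 21387), (20526, 21954), (20527, 17323), (20528, 22291), (20529, 22292), (20530, 21183), (20531, 21193), (20532, 22200), (20533, 22146), (20534, 21487),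 (20535, 17473), (20536, 17474), (20537, 17475), (20538, 17330), (20539, 22299), (20540, 22300), (20541, 17333), (20542, 21896), (20543, 22138)]
    ⟨e3 q20480 (flp_e L240103) q17254, e3 q20481 (flp_e L256561) q22280, e3 q20482 (flp_e L256569) q22281, e3 q20483 L240125 q17256, e3 q20484 (flp_e L255152) q22140, e3 q20485 (flp_e L251814) q21805, e3 q20486 L240143 q18036, e3 q20487 L240155 q20157, e3 q20488 L240169 q20159, e3 q20489 (flp_e L246022) q21146, e3 q20490 L240183 q19465, e3 q20491 L240193 q19466, e3 q20492 L240209 q19392, e3 q20493 L240217 q17279, e3 q20494 L240223 q17282, e3 q20495 L240233 q17283, e3 q20496 L240243 q17744, e3 q20497 L240251 q18457, e3 q20498 L240261 q18458, e3 q20499 (flp_e L256591) q22284, e3 q20500 (flp_e L253693) q21993, e3 q20501 (flp_e L240285) q18927, e3 q20502 (flp_e L256609) q22285, e3 q20503 (flp_e L243235) q20814, e3 q20504 (flp_e L252405) q21866, e3 q20505 L240317 q19831, e3 q20506 L240329 q18926, e3 q20507 (flp_e L252415) q21867, e3 q20508 L240347 q17291, e3 q20509 L240357 q19994,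 e3 q20510 L240367 q19756, e3 q20511 L240377 q17297, e3 q20512 (flp_e L251700) q21796, e3 q20513 L240391 q17410, e3 q20514 (flp_e L251746) q21799, e3 q20515 L240415 q17312, e3 q20516 L240427 q17313, e3 q20517 (flp_e L256621) q22286, e3 q20518 (flp_e L256647) q22288, e3 q20519 L240451 q19269, e3 q20520 L240469 q19270, e3 q20521 L240481 q19263, e3 q20522 (flp_e L240483) q17317, e3 q20523 (flp_e L255674) q22199, e3 q20524 (flp_e L255200) q22145, e3 q20525 (flp_e L248133) q21387, e3 q20526 (flp_e L253316) q21954, e3 q20527 (flp_e L240519) q17323, e3 q20528 (flp_e L256681) q22291, e3 q20529 (flp_e L256693) q22292, e3 q20530 (flp_e L246330) q21183, e3 q20531 L246411 q21193, e3 q20532 (flp_e L255688) q22200, e3 q20533 (flp_e L255210) q22146, e3 q20534 (flp_e L248950) q21487, e3 q20535 L240565 q17473, e3 q20536 L240574 q17474, e3 q20537 L240585 q17475, e3 q20538 (flp_e L240591) q17330, e3 q20539 (flp_e L256764) q22299, e3 q20540 (flp_e L256778) q22300, e3 q20541 L240619 q17333, e3 q20542 (flp_e L252730) q21896, e3 q20543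 (flp_e L255132) q22138, trivial⟩ (by decide +kernel)

theorem ce_e_321 : ∀ r, r < 64 → sm ge (Qf (20544 + r)) = Qf (tab Gen.e (20544 + r)) :=
  edges_tab (sm ge) Qf (tab Gen.e) 20544 [(20544, 20570), (20545, 19857), (20546, 17360), (20547, 19858), (20548, 19859), (20549, 19862), (20550, 19863), (20551, 17348), (20552, 17349), (20553, 19871), (20554, 20769), (20555, 20770), (20556, 20771), (20557, 20772), (20558, 17356), (20559, 22307), (20560, 17358), (20561, 22309), (20562, 20777), (20563, 20778), (20564, 22303), (20565, 19400), (20566, 17362), (20567, 17363), (20568, 22316), (20569, 19460), (20570, 20544), (20571, 19876), (20572, 17386), (20573, 19877), (20574, 19880), (20575, 19881), (20576, 17376), (20577, 17377), (20578, 19889), (20579, 20784), (20580, 20785), (20581, 20786), (20582, 20787), (20583, 17384), (20584, 19606), (20585, 17388), (20586, 19660), (20587, 22239), (20588, 22279), (20589, 17454), (20590, 21911), (20591, 22241), (20592, 22298), (20593, 17479), (20594, 21826), (20595, 17480), (20596, 17484),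 (20597, 17489), (20598, 17493), (20599, 17516), (20600, 20208), (20601, 17518), (20602, 20206), (20603, 18235), (20604, 18294), (20605, 17907), (20606, 17884), (20607, 17556)]
    ⟨e3 q20544 (flp_e L240872) q20570, e3 q20545 L240654 q19857, e3 q20546 L240662 q17360, e3 q20547 L240672 q19858, e3 q20548 L240680 q19859, e3 q20549 L240686 q19862, e3 q20550 L240698 q19863, e3 q20551 L240708 q17348, e3 q20552 L240720 q17349, e3 q20553 L240726 q19871, e3 q20554 (flp_e L242792) q20769, e3 q20555 (flp_e L242802) q20770, e3 q20556 (flp_e L242808) q20771, e3 q20557 (flp_e L242820) q20772, e3 q20558 (flp_e L240758) q17356, e3 q20559 (flp_e L256854) q22307, e3 q20560 L240782 q17358, e3 q20561 (flp_e L256868) q22309, e3 q20562 (flp_e L242862) q20777, e3 q20563 (flp_e L242866) q20778, e3 q20564 (flp_e L256804) q22303, e3 q20565 L240823 q19400, e3 q20566 L240833 q17362, e3 q20567 L240843 q17363, e3 q20568 (flp_e L256923) q22316, e3 q20569 L240857 q19460, e3 q20570 L240872 q20544, e3 q20571 L240884 q19876, e3 q20572 L240892 q17386,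 e3 q20573 L240908 q19877, e3 q20574 L240916 q19880, e3 q20575 L240922 q19881, e3 q20576 L240938 q17376, e3 q20577 L240950 q17377, e3 q20578 L240956 q19889, e3 q20579 (flp_e L242909) q20784, e3 q20580 (flp_e L242923) q20785, e3 q20581 (flp_e L242929) q20786, e3 q20582 (flp_e L242939) q20787, e3 q20583 (flp_e L240994) q17384, e3 q20584 L241012 q19606, e3 q20585 L241026 q17388, e3 q20586 L241034 q19660, e3 q20587 (flp_e L256114) q22239, e3 q20588 (flp_e L256547) q22279, e3 q20589 L241060 q17454, e3 q20590 (flp_e L252876) q21911, e3 q20591 (flp_e L256142) q22241, e3 q20592 (flp_e L256752) q22298, e3 q20593 L241092 q17479, e3 q20594 (flp_e L252018) q21826, e3 q20595 (flp_e L241108) q17480, e3 q20596 (flp_e L241120) q17484, e3 q20597 (flp_e L241130) q17489, e3 q20598 (flp_e L241142) q17493, e3 q20599 L241160 q17516, e3 q20600 L241174 q20208, e3 q20601 L241188 q17518, e3 q20602 L241202 q20206, e3 q20603 L241214 q18235, e3 q20604 L241222 q18294, e3 q20605 L241228 q17907, e3 q20606 L241242 q17884, e3 q20607 L241254 q17556,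 trivial⟩ (by decide +kernel)

theorem ce_e_322 : ∀ r, r < 64 → sm ge (Qf (20608 + r)) = Qf (tab Gen.e (20608 + r)) :=
  edges_tab (sm ge) Qf (tab Gen.e) 20608 [(20608, 17558), (20609, 19924), (20610, 17557), (20611, 17559), (20612, 19985), (20613, 20618), (20614, 20617), (20615, 20616), (20616, 20615), (20617, 20614), (20618, 20613), (20619, 19518), (20620, 19289), (20621, 17972), (20622, 18238), (20623, 17564), (20624, 17567), (20625, 22325), (20626, 20863), (20627, 17570), (20628, 22328), (20629, 22329), (20630, 22330), (20631, 17573), (20632, 17574), (20633, 22164), (20634, 22334), (20635, 17609), (20636, 20204), (20637, 17831), (20638, 22337), (20639, 17581), (20640, 21828), (20641, 17832), (20642, 17834), (20643, 17835), (20644, 17836), (20645, 17837), (20646, 17829), (20647, 17839), (20648, 17978), (20649, 18299), (20650, 17592), (20651, 17595), (20652, 22339), (20653, 20888), (20654, 17598), (20655, 22342), (20656, 22343), (20657, 22344), (20658, 17601), (20659, 17602), (20660, 22155), (20661, 22348), (20662,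 20200), (20663, 17841), (20664, 22336), (20665, 21783), (20666, 17842), (20667, 17844), (20668, 17845), (20669, 17846), (20670, 17847), (20671, 17828)]
    ⟨e3 q20608 L241263 q17558, e3 q20609 L241277 q19924, e3 q20610 L241285 q17557, e3 q20611 L241294 q17559, e3 q20612 L241308 q19985, e3 q20613 (flp_e L241342) q20618, e3 q20614 (flp_e L241334) q20617, e3 q20615 (flp_e L241330) q20616, e3 q20616 L241330 q20615, e3 q20617 L241334 q20614, e3 q20618 L241342 q20613, e3 q20619 L241354 q19518, e3 q20620 L241368 q19289, e3 q20621 L241378 q17972, e3 q20622 L241392 q18238, e3 q20623 (flp_e L241398) q17564, e3 q20624 L241416 q17567, e3 q20625 (flp_e L257001) q22325, e3 q20626 (flp_e L243731) q20863, e3 q20627 L241432 q17570, e3 q20628 (flp_e L257023) q22328, e3 q20629 (flp_e L257029) q22329, e3 q20630 (flp_e L257037) q22330, e3 q20631 L241444 q17573, e3 q20632 L241456 q17574, e3 q20633 (flp_e L255366) q22164, e3 q20634 (flp_e L257077) q22334, e3 q20635 L241480 q17609, e3 q20636 L241486 q20204, e3 q20637 L241498 q17831, e3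 q20638 L257105 q22337, e3 q20639 (flp_e L241508) q17581, e3 q20640 (flp_e L252038) q21828, e3 q20641 L241530 q17832, e3 q20642 L241542 q17834, e3 q20643 L241558 q17835, e3 q20644 L241566 q17836, e3 q20645 L241580 q17837, e3 q20646 L241588 q17829, e3 q20647 L241600 q17839, e3 q20648 L241612 q17978, e3 q20649 L241626 q18299, e3 q20650 (flp_e L241632) q17592, e3 q20651 L241650 q17595, e3 q20652 (flp_e L257121) q22339, e3 q20653 (flp_e L243981) q20888, e3 q20654 L241666 q17598, e3 q20655 (flp_e L257143) q22342, e3 q20656 (flp_e L257149) q22343, e3 q20657 (flp_e L257157) q22344, e3 q20658 L241678 q17601, e3 q20659 L241690 q17602, e3 q20660 (flp_e L255283) q22155, e3 q20661 (flp_e L257193) q22348, e3 q20662 L241712 q20200, e3 q20663 L241724 q17841, e3 q20664 (flp_e L257087) q22336, e3 q20665 (flp_e L251570) q21783, e3 q20666 L241746 q17842, e3 q20667 L241758 q17844, e3 q20668 L241774 q17845, e3 q20669 L241782 q17846, e3 q20670 L241796 q17847, e3 q20671 L241804 q17828, trivial⟩ (by decide +kernel)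

theorem ce_e_323 : ∀ r, r < 64 → sm ge (Qf (20672 + r)) = Qf (tab Gen.e (20672 + r)) :=
  edges_tab (sm ge) Qf (tab Gen.e) 20672 [(20672, 17849), (20673, 17620), (20674, 17624), (20675, 19097), (20676, 17630), (20677, 22351), (20678, 20355), (20679, 20862), (20680, 20864), (20681, 19525), (20682, 17644), (20683, 17645), (20684, 17646), (20685, 22158), (20686, 19523), (20687, 20334), (20688, 20367), (20689, 17883), (20690, 20369), (20691, 19470), (20692, 17663), (20693, 17665), (20694, 22354), (20695, 19767), (20696, 17889), (20697, 20385), (20698, 17676), (20699, 18955), (20700, 17680), (20701, 19008), (20702, 17685), (20703, 20708), (20704, 19000), (20705, 18952), (20706, 17689), (20707, 17690), (20708, 20703), (20709, 21774), (20710, 20757), (20711, 17901), (20712, 18950), (20713, 17702), (20714, 22359), (20715, 20411), (20716, 20885), (20717, 20887), (20718, 19297), (20719, 17716), (20720, 17717), (20721, 17718), (20722, 22167), (20723, 19295), (20724, 20399), (20725, 20417), (20726, 19236), (20727, 17732),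 (20728, 17734), (20729, 22361), (20730, 19672), (20731, 17743), (20732, 19095), (20733, 17748), (20734, 19146), (20735, 17754)]
    ⟨e3 q20672 L241818 q17849, e3 q20673 (flp_e L241826) q17620, e3 q20674 (flp_e L241838) q17624, e3 q20675 L241856 q19097, e3 q20676 L241866 q17630, e3 q20677 (flp_e L257221) q22351, e3 q20678 L241880 q20355, e3 q20679 (flp_e L243723) q20862, e3 q20680 (flp_e L243739) q20864, e3 q20681 L241908 q19525, e3 q20682 L241916 q17644, e3 q20683 L241924 q17645, e3 q20684 L241930 q17646, e3 q20685 (flp_e L255311) q22158, e3 q20686 L241944 q19523, e3 q20687 L241954 q20334, e3 q20688 L241966 q20367, e3 q20689 L241974 q17883, e3 q20690 L241986 q20369, e3 q20691 L241996 q19470, e3 q20692 (flp_e L242002) q17663, e3 q20693 (flp_e L242014) q17665, e3 q20694 (flp_e L257259) q22354, e3 q20695 L242038 q19767, e3 q20696 L242046 q17889, e3 q20697 L242060 q20385, e3 q20698 L242072 q17676, e3 q20699 L242086 q18955, e3 q20700 L242100 q17680, e3 q20701 L242112 q19008, e3 q20702 L242124 q17685, e3 q20703 (flp_e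 L242184) q20708, e3 q20704 L242142 q19000, e3 q20705 L242154 q18952, e3 q20706 L242160 q17689, e3 q20707 L242172 q17690, e3 q20708 L242184 q20703, e3 q20709 (flp_e L251470) q21774, e3 q20710 (flp_e L242662) q20757, e3 q20711 L242208 q17901, e3 q20712 L242218 q18950, e3 q20713 L242228 q17702, e3 q20714 (flp_e L257319) q22359, e3 q20715 L242244 q20411, e3 q20716 (flp_e L243955) q20885, e3 q20717 (flp_e L243973) q20887, e3 q20718 L242272 q19297, e3 q20719 L242280 q17716, e3 q20720 L242288 q17717, e3 q20721 L242294 q17718, e3 q20722 (flp_e L255394) q22167, e3 q20723 L242308 q19295, e3 q20724 L242320 q20399, e3 q20725 L242332 q20417, e3 q20726 L242342 q19236, e3 q20727 (flp_e L242348) q17732, e3 q20728 (flp_e L242360) q17734, e3 q20729 (flp_e L257343) q22361, e3 q20730 L242384 q19672, e3 q20731 L242396 q17743, e3 q20732 L242410 q19095, e3 q20733 L242424 q17748, e3 q20734 L242436 q19146, e3 q20735 L242448 q17754, trivial⟩ (by decide +kernel)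

theorem ce_e_324 : ∀ r, r < 64 → sm ge (Qf (20736 + r)) = Qf (tab Gen.e (20736 + r)) :=
  edges_tab (sm ge) Qf (tab Gen.e) 20736 [(20736, 20741), (20737, 19139), (20738, 19092), (20739, 17757), (20740, 17758), (20741, 20736), (20742, 21873), (20743, 20768), (20744, 17923), (20745, 20758), (20746, 17792), (20747, 20759), (20748, 17772), (20749, 22366), (20750, 22367), (20751, 22365), (20752, 17775), (20753, 20764), (20754, 17925), (20755, 17780), (20756, 17781), (20757, 20710), (20758, 20745), (20759, 20747), (20760, 17790), (20761, 22371), (20762, 22372), (20763, 22370), (20764, 20753), (20765, 17924), (20766, 17796), (20767, 17797), (20768, 20743), (20769, 20554), (20770, 20555), (20771, 20556), (20772, 20557), (20773, 21641), (20774, 19419), (20775, 17809), (20776, 22375), (20777, 20562), (20778, 20563), (20779, 17811), (20780, 22380), (20781, 22381), (20782, 17813), (20783, 22369), (20784, 20579), (20785, 20580), (20786, 20581), (20787, 20582), (20788, 21747), (20789, 17824), (20790, 22383), (20791, 17857),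 (20792, 17860), (20793, 18797), (20794, 18358), (20795, 17869), (20796, 17872), (20797, 18746), (20798, 18420), (20799, 20909)]
    ⟨e3 q20736 (flp_e L242508) q20741, e3 q20737 L242466 q19139, e3 q20738 L242478 q19092, e3 q20739 L242484 q17757, e3 q20740 L242498 q17758, e3 q20741 L242508 q20736, e3 q20742 (flp_e L252480) q21873, e3 q20743 (flp_e L242777) q20768, e3 q20744 L242532 q17923, e3 q20745 (flp_e L242677) q20758, e3 q20746 L242556 q17792, e3 q20747 (flp_e L242687) q20759, e3 q20748 (flp_e L242572) q17772, e3 q20749 (flp_e L257399) q22366, e3 q20750 (flp_e L257409) q22367, e3 q20751 (flp_e L257387) q22365, e3 q20752 L242612 q17775, e3 q20753 (flp_e L242733) q20764, e3 q20754 L242628 q17925, e3 q20755 L242642 q17780, e3 q20756 L242654 q17781, e3 q20757 L242662 q20710, e3 q20758 L242677 q20745, e3 q20759 L242687 q20747, e3 q20760 (flp_e L242695) q17790, e3 q20761 (flp_e L257452) q22371, e3 q20762 (flp_e L257466) q22372, e3 q20763 (flp_e L257436) q22370, e3 q20764 L242733 q20753, e3 q20765 L242743 q17924, e3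 q20766 L242757 q17796, e3 q20767 L242769 q17797, e3 q20768 L242777 q20743, e3 q20769 L242792 q20554, e3 q20770 L242802 q20555, e3 q20771 L242808 q20556, e3 q20772 L242820 q20557, e3 q20773 (flp_e L250210) q21641, e3 q20774 L242838 q19419, e3 q20775 L242852 q17809, e3 q20776 (flp_e L257493) q22375, e3 q20777 L242862 q20562, e3 q20778 L242866 q20563, e3 q20779 (flp_e L242869) q17811, e3 q20780 (flp_e L257541) q22380, e3 q20781 (flp_e L257549) q22381, e3 q20782 L242889 q17813, e3 q20783 (flp_e L257424) q22369, e3 q20784 L242909 q20579, e3 q20785 L242923 q20580, e3 q20786 L242929 q20581, e3 q20787 L242939 q20582, e3 q20788 (flp_e L251191) q21747, e3 q20789 (flp_e L242957) q17824, e3 q20790 (flp_e L257570) q22383, e3 q20791 (flp_e L242971) q17857, e3 q20792 L242983 q17860, e3 q20793 L242989 q18797, e3 q20794 L242999 q18358, e3 q20795 (flp_e L243005) q17869, e3 q20796 L243017 q17872, e3 q20797 L243023 q18746, e3 q20798 L243033 q18420, e3 q20799 (flp_e L244201) q20909, trivial⟩ (by decide +kernel)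

theorem ce_e_325 : ∀ r, r < 64 → sm ge (Qf (20800 + r)) = Qf (tab Gen.e (20800 + r)) :=
  edges_tab (sm ge) Qf (tab Gen.e) 20800 [(20800, 20215), (20801, 20197), (20802, 17887), (20803, 20344), (20804, 20445), (20805, 17897), (20806, 19166), (20807, 19589), (20808, 17900), (20809, 20938), (20810, 20218), (20811, 20180), (20812, 17910), (20813, 20406), (20814, 20503), (20815, 17919), (20816, 19029), (20817, 19374), (20818, 17922), (20819, 17926), (20820, 17929), (20821, 18496), (20822, 18522), (20823, 17953), (20824, 17955), (20825, 17957), (20826, 17962), (20827, 18000), (20828, 17966), (20829, 18004), (20830, 17969), (20831, 21344), (20832, 18667), (20833, 18670), (20834, 21352), (20835, 18672), (20836, 18675), (20837, 17985), (20838, 17988), (20839, 21880), (20840, 18685), (20841, 17993), (20842, 17996), (20843, 21782), (20844, 18696), (20845, 20852), (20846, 20859), (20847, 18717), (20848, 18718), (20849, 18226), (20850, 22387), (20851, 18722), (20852, 20845), (20853, 18011), (20854, 18728), (20855, 18729),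 (20856, 18201), (20857, 22390), (20858, 18734), (20859, 20846), (20860, 18017), (20861, 20103), (20862, 20679), (20863, 20626)]
    ⟨e3 q20800 L243051 q20215, e3 q20801 L243067 q20197, e3 q20802 L243081 q17887, e3 q20803 L243093 q20344, e3 q20804 L243109 q20445, e3 q20805 L243123 q17897, e3 q20806 L243131 q19166, e3 q20807 L243149 q19589, e3 q20808 L243159 q17900, e3 q20809 (flp_e L244415) q20938, e3 q20810 L243177 q20218, e3 q20811 L243193 q20180, e3 q20812 L243207 q17910, e3 q20813 L243219 q20406, e3 q20814 L243235 q20503, e3 q20815 L243249 q17919, e3 q20816 L243257 q19029, e3 q20817 L243275 q19374, e3 q20818 L243285 q17922, e3 q20819 (flp_e L243291) q17926, e3 q20820 (flp_e L243305) q17929, e3 q20821 L243323 q18496, e3 q20822 L243331 q18522, e3 q20823 L243343 q17953, e3 q20824 L243357 q17955, e3 q20825 L243369 q17957, e3 q20826 L243379 q17962, e3 q20827 (flp_e L243393) q18000, e3 q20828 (flp_e L243395) q17966, e3 q20829 (flp_e L243417) q18004, e3 q20830 (flp_e L243419) q17969, e3 q20831 (flp_e L247753) q21344,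 e3 q20832 L243445 q18667, e3 q20833 L243451 q18670, e3 q20834 (flp_e L247837) q21352, e3 q20835 L243471 q18672, e3 q20836 L243479 q18675, e3 q20837 L243491 q17985, e3 q20838 L243503 q17988, e3 q20839 (flp_e L252560) q21880, e3 q20840 L243517 q18685, e3 q20841 L243525 q17993, e3 q20842 L243537 q17996, e3 q20843 (flp_e L251562) q21782, e3 q20844 L243551 q18696, e3 q20845 L243625 q20852, e3 q20846 L243693 q20859, e3 q20847 L243573 q18717, e3 q20848 L243583 q18718, e3 q20849 L243601 q18226, e3 q20850 L257606 q22387, e3 q20851 L243613 q18722, e3 q20852 (flp_e L243625) q20845, e3 q20853 (flp_e L243627) q18011, e3 q20854 L243641 q18728, e3 q20855 L243651 q18729, e3 q20856 L243669 q18201, e3 q20857 L257632 q22390, e3 q20858 L243681 q18734, e3 q20859 (flp_e L243693) q20846, e3 q20860 (flp_e L243695) q18017, e3 q20861 L243713 q20103, e3 q20862 L243723 q20679, e3 q20863 L243731 q20626, trivial⟩ (by decide +kernel)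

theorem ce_e_326 : ∀ r, r < 64 → sm ge (Qf (20864 + r)) = Qf (tab Gen.e (20864 + r)) :=
  edges_tab (sm ge) Qf (tab Gen.e) 20864 [(20864, 20680), (20865, 18738), (20866, 18739), (20867, 18740), (20868, 18745), (20869, 18028), (20870, 18503), (20871, 18031), (20872, 18755), (20873, 18756), (20874, 18759), (20875, 19952), (20876, 18761), (20877, 18765), (20878, 21217), (20879, 18771), (20880, 19469), (20881, 21219), (20882, 18045), (20883, 18784), (20884, 18788), (20885, 20716), (20886, 20111), (20887, 20717), (20888, 20653), (20889, 18789), (20890, 18790), (20891, 18792), (20892, 18796), (20893, 18057), (20894, 18476), (20895, 18060), (20896, 18806), (20897, 18807), (20898, 18809), (20899, 20008), (20900, 18812), (20901, 18817), (20902, 21197), (20903, 18822), (20904, 19235), (20905, 21199), (20906, 18074), (20907, 18835), (20908, 18839), (20909, 20799), (20910, 21340), (20911, 20220), (20912, 18086), (20913, 18652), (20914, 21204), (20915, 18097), (20916, 18098), (20917, 22408), (20918, 22409), (20919, 21355),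 (20920, 21357), (20921, 21195), (20922, 18102), (20923, 18103), (20924, 18104), (20925, 22413), (20926, 22414), (20927, 22415)]
    ⟨e3 q20864 L243739 q20680, e3 q20865 L243743 q18738, e3 q20866 L243751 q18739, e3 q20867 L243759 q18740, e3 q20868 L243769 q18745, e3 q20869 (flp_e L243777) q18028, e3 q20870 L243793 q18503, e3 q20871 L243805 q18031, e3 q20872 L243817 q18755, e3 q20873 L243829 q18756, e3 q20874 L243841 q18759, e3 q20875 L243853 q19952, e3 q20876 L243867 q18761, e3 q20877 L243875 q18765, e3 q20878 (flp_e L246605) q21217, e3 q20879 L243895 q18771, e3 q20880 L243903 q19469, e3 q20881 (flp_e L246625) q21219, e3 q20882 L243927 q18045, e3 q20883 L243935 q18784, e3 q20884 L243943 q18788, e3 q20885 L243955 q20716, e3 q20886 L243965 q20111, e3 q20887 L243973 q20717, e3 q20888 L243981 q20653, e3 q20889 L243987 q18789, e3 q20890 L243995 q18790, e3 q20891 L244001 q18792, e3 q20892 L244013 q18796, e3 q20893 (flp_e L244021) q18057, e3 q20894 L244037 q18476, e3 q20895 L244049 q18060, e3 q20896 L244061 q18806, e3 q20897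 L244073 q18807, e3 q20898 L244085 q18809, e3 q20899 L244097 q20008, e3 q20900 L244111 q18812, e3 q20901 L244119 q18817, e3 q20902 (flp_e L246439) q21197, e3 q20903 L244139 q18822, e3 q20904 L244147 q19235, e3 q20905 (flp_e L246459) q21199, e3 q20906 L244171 q18074, e3 q20907 L244179 q18835, e3 q20908 L244187 q18839, e3 q20909 L244201 q20799, e3 q20910 (flp_e L247715) q21340, e3 q20911 L244211 q20220, e3 q20912 L244219 q18086, e3 q20913 L244227 q18652, e3 q20914 (flp_e L246511) q21204, e3 q20915 L244243 q18097, e3 q20916 L244255 q18098, e3 q20917 (flp_e L257820) q22408, e3 q20918 (flp_e L257828) q22409, e3 q20919 (flp_e L247859) q21355, e3 q20920 (flp_e L247879) q21357, e3 q20921 (flp_e L246421) q21195, e3 q20922 L244289 q18102, e3 q20923 L244293 q18103, e3 q20924 L244301 q18104, e3 q20925 (flp_e L257860) q22413, e3 q20926 (flp_e L257874) q22414, e3 q20927 (flp_e L257884) q22415, trivial⟩ (by decide +kernel)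

theorem ce_e_327 : ∀ r, r < 64 → sm ge (Qf (20928 + r)) = Qf (tab Gen.e (20928 + r)) :=
  edges_tab (sm ge) Qf (tab Gen.e) 20928 [(20928, 22416), (20929, 22417), (20930, 18108), (20931, 22129), (20932, 22128), (20933, 22127), (20934, 18174), (20935, 22352), (20936, 18121), (20937, 18529), (20938, 20809), (20939, 21348), (20940, 20227), (20941, 18139), (20942, 18646), (20943, 21224), (20944, 18151), (20945, 18152), (20946, 22427), (20947, 22428), (20948, 21371), (20949, 21402), (20950, 21215), (20951, 18156), (20952, 18157), (20953, 18158), (20954, 22418), (20955, 22419), (20956, 22432), (20957, 22422), (20958, 22433), (20959, 18162), (20960, 22125), (20961, 22124), (20962, 22123), (20963, 22360), (20964, 18531), (20965, 18963), (20966, 22439), (20967, 21981), (20968, 18185), (20969, 18978), (20970, 20403), (20971, 18192), (20972, 22227), (20973, 22226), (20974, 22441), (20975, 21020), (20976, 18195), (20977, 18196), (20978, 18197), (20979, 22444), (20980, 22230), (20981, 22445), (20982, 22188), (20983, 21628),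 (20984, 20985), (20985, 20984), (20986, 21563), (20987, 18277), (20988, 19037), (20989, 18266), (20990, 18280), (20991, 19103)]
    ⟨e3 q20928 (flp_e L257894) q22416, e3 q20929 (flp_e L257904) q22417, e3 q20930 L244337 q18108, e3 q20931 (flp_e L255028) q22129, e3 q20932 (flp_e L255022) q22128, e3 q20933 (flp_e L255004) q22127, e3 q20934 L244371 q18174, e3 q20935 (flp_e L257233) q22352, e3 q20936 (flp_e L244385) q18121, e3 q20937 L244401 q18529, e3 q20938 L244415 q20809, e3 q20939 (flp_e L247799) q21348, e3 q20940 L244425 q20227, e3 q20941 L244433 q18139, e3 q20942 L244441 q18646, e3 q20943 (flp_e L246677) q21224, e3 q20944 L244457 q18151, e3 q20945 L244469 q18152, e3 q20946 (flp_e L257994) q22427, e3 q20947 (flp_e L258002) q22428, e3 q20948 (flp_e L247995) q21371, e3 q20949 (flp_e L248257) q21402, e3 q20950 (flp_e L246583) q21215, e3 q20951 L244503 q18156, e3 q20952 L244507 q18157, e3 q20953 L244515 q18158, e3 q20954 (flp_e L257914) q22418, e3 q20955 (flp_e L257928) q22419, e3 q20956 (flp_e L258034) q22432, e3 q20957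 (flp_e L257954) q22422, e3 q20958 (flp_e L258044) q22433, e3 q20959 L244551 q18162, e3 q20960 (flp_e L254982) q22125, e3 q20961 (flp_e L254976) q22124, e3 q20962 (flp_e L254958) q22123, e3 q20963 (flp_e L257331) q22360, e3 q20964 L244599 q18531, e3 q20965 L244607 q18963, e3 q20966 L258089 q22439, e3 q20967 (flp_e L253585) q21981, e3 q20968 (flp_e L244621) q18185, e3 q20969 L244635 q18978, e3 q20970 L244643 q20403, e3 q20971 L244651 q18192, e3 q20972 L255982 q22227, e3 q20973 (flp_e L255972) q22226, e3 q20974 (flp_e L258119) q22441, e3 q20975 (flp_e L245005) q21020, e3 q20976 L244678 q18195, e3 q20977 L244682 q18196, e3 q20978 L244690 q18197, e3 q20979 (flp_e L258145) q22444, e3 q20980 (flp_e L256018) q22230, e3 q20981 (flp_e L258163) q22445, e3 q20982 (flp_e L255561) q22188, e3 q20983 (flp_e L250105) q21628, e3 q20984 (flp_e L244740) q20985, e3 q20985 L244740 q20984, e3 q20986 (flp_e L249627) q21563, e3 q20987 L244752 q18277, e3 q20988 L244764 q19037, e3 q20989 L244776 q18266, e3 q20990 L244786 q18280, e3 q20991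 L244792 q19103, trivial⟩ (by decide +kernel)

theorem ce_e_328 : ∀ r, r < 64 → sm ge (Qf (20992 + r)) = Qf (tab Gen.e (20992 + r)) :=
  edges_tab (sm ge) Qf (tab Gen.e) 20992 [(20992, 22452), (20993, 21942), (20994, 18210), (20995, 19117), (20996, 20341), (20997, 18216), (20998, 22212), (20999, 22211), (21000, 22454), (21001, 21059), (21002, 18220), (21003, 18221), (21004, 18222), (21005, 22457), (21006, 22214), (21007, 22458), (21008, 22195), (21009, 21740), (21010, 21011), (21011, 21010), (21012, 21689), (21013, 18334), (21014, 19174), (21015, 18323), (21016, 18337), (21017, 22259), (21018, 18240), (21019, 21907), (21020, 20975), (21021, 18245), (21022, 21230), (21023, 21234), (21024, 19584), (21025, 19583), (21026, 18250), (21027, 22197), (21028, 18308), (21029, 18258), (21030, 18255), (21031, 20258), (21032, 21070), (21033, 21069), (21034, 18754), (21035, 18263), (21036, 18264), (21037, 18265), (21038, 21271), (21039, 18267), (21040, 18268), (21041, 22466), (21042, 22467), (21043, 22411), (21044, 18274), (21045,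 18276), (21046, 22194), (21047, 22187), (21048, 18271), (21049, 22137), (21050, 21232), (21051, 21978), (21052, 20325), (21053, 22190), (21054, 18278), (21055, 21304)]
    ⟨e3 q20992 L258230 q22452, e3 q20993 (flp_e L253212) q21942, e3 q20994 (flp_e L244806) q18210, e3 q20995 L244820 q19117, e3 q20996 L244828 q20341, e3 q20997 L244836 q18216, e3 q20998 L255827 q22212, e3 q20999 (flp_e L255815) q22211, e3 q21000 (flp_e L258260) q22454, e3 q21001 (flp_e L245329) q21059, e3 q21002 L244863 q18220, e3 q21003 L244867 q18221, e3 q21004 L244875 q18222, e3 q21005 (flp_e L258286) q22457, e3 q21006 (flp_e L255851) q22214, e3 q21007 (flp_e L258304) q22458, e3 q21008 (flp_e L255624) q22195, e3 q21009 (flp_e L251127) q21740, e3 q21010 (flp_e L244925) q21011, e3 q21011 L244925 q21010, e3 q21012 (flp_e L250683) q21689, e3 q21013 L244937 q18334, e3 q21014 L244949 q19174, e3 q21015 L244961 q18323, e3 q21016 L244971 q18337, e3 q21017 (flp_e L256330) q22259, e3 q21018 L244993 q18240, e3 q21019 (flp_e L252834) q21907, e3 q21020 L245005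 q20975, e3 q21021 L245011 q18245, e3 q21022 (flp_e L246713) q21230, e3 q21023 (flp_e L246743) q21234, e3 q21024 L245039 q19584, e3 q21025 L245053 q19583, e3 q21026 L245065 q18250, e3 q21027 (flp_e L255652) q22197, e3 q21028 L245083 q18308, e3 q21029 L245091 q18258, e3 q21030 L245101 q18255, e3 q21031 L245113 q20258, e3 q21032 (flp_e L245441) q21070, e3 q21033 (flp_e L245433) q21069, e3 q21034 L245133 q18754, e3 q21035 L245139 q18263, e3 q21036 L245149 q18264, e3 q21037 L245161 q18265, e3 q21038 (flp_e L247089) q21271, e3 q21039 L245175 q18267, e3 q21040 L245183 q18268, e3 q21041 (flp_e L258398) q22466, e3 q21042 (flp_e L258406) q22467, e3 q21043 (flp_e L257840) q22411, e3 q21044 L245207 q18274, e3 q21045 L245213 q18276, e3 q21046 (flp_e L255610) q22194, e3 q21047 (flp_e L255547) q22187, e3 q21048 (flp_e L245237) q18271, e3 q21049 (flp_e L255124) q22137, e3 q21050 (flp_e L246727) q21232, e3 q21051 (flp_e L253559) q21978, e3 q21052 L245261 q20325, e3 q21053 (flp_e L255581) q22190, e3 q21054 (flp_e L245275) q18278,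 e3 q21055 (flp_e L247353) q21304, trivial⟩ (by decide +kernel)

theorem ce_e_329 : ∀ r, r < 64 → sm ge (Qf (21056 + r)) = Qf (tab Gen.e (21056 + r)) :=
  edges_tab (sm ge) Qf (tab Gen.e) 21056 [(21056, 22242), (21057, 18298), (21058, 21822), (21059, 21001), (21060, 18304), (21061, 21211), (21062, 21214), (21063, 19369), (21064, 19368), (21065, 22202), (21066, 18315), (21067, 18312), (21068, 20246), (21069, 21033), (21070, 21032), (21071, 18805), (21072, 18320), (21073, 18321), (21074, 18322), (21075, 21280), (21076, 18324), (21077, 18325), (21078, 22478), (21079, 22479), (21080, 22430), (21081, 18331), (21082, 18333), (21083, 18328), (21084, 22136), (21085, 21208), (21086, 21940), (21087, 20395), (21088, 22183), (21089, 18335), (21090, 21315), (21091, 20434), (21092, 21872), (21093, 21105), (21094, 18356), (21095, 22489), (21096, 22490), (21097, 22491), (21098, 18359), (21099, 20262), (21100, 21769), (21101, 18953), (21102, 18362), (21103, 21394), (21104, 22493), (21105, 21093), (21106, 18367), (21107, 18368), (21108,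 18369), (21109, 18370), (21110, 22494), (21111, 19163), (21112, 22495), (21113, 19574), (21114, 22496), (21115, 22497), (21116, 22498), (21117, 22499), (21118, 22393), (21119, 18375)]
    ⟨e3 q21056 (flp_e L256154) q22242, e3 q21057 L245317 q18298, e3 q21058 (flp_e L251978) q21822, e3 q21059 L245329 q21001, e3 q21060 L245335 q18304, e3 q21061 (flp_e L246555) q21211, e3 q21062 (flp_e L246577) q21214, e3 q21063 L245363 q19369, e3 q21064 L245377 q19368, e3 q21065 (flp_e L255716) q22202, e3 q21066 L245391 q18315, e3 q21067 L245407 q18312, e3 q21068 L245419 q20246, e3 q21069 L245433 q21033, e3 q21070 L245441 q21032, e3 q21071 L245449 q18805, e3 q21072 L245455 q18320, e3 q21073 L245465 q18321, e3 q21074 L245477 q18322, e3 q21075 (flp_e L247156) q21280, e3 q21076 L245491 q18324, e3 q21077 L245499 q18325, e3 q21078 (flp_e L258536) q22478, e3 q21079 (flp_e L258544) q22479, e3 q21080 (flp_e L258014) q22430, e3 q21081 L245523 q18331, e3 q21082 L245529 q18333, e3 q21083 (flp_e L245533) q18328, e3 q21084 (flp_e L255114) q22136,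 e3 q21085 (flp_e L246541) q21208, e3 q21086 (flp_e L253190) q21940, e3 q21087 L245557 q20395, e3 q21088 (flp_e L255518) q22183, e3 q21089 (flp_e L245571) q18335, e3 q21090 (flp_e L247457) q21315, e3 q21091 L245601 q20434, e3 q21092 (flp_e L252467) q21872, e3 q21093 (flp_e L245717) q21105, e3 q21094 L245625 q18356, e3 q21095 (flp_e L258660) q22489, e3 q21096 (flp_e L258672) q22490, e3 q21097 (flp_e L258682) q22491, e3 q21098 L245641 q18359, e3 q21099 L245651 q20262, e3 q21100 (flp_e L251411) q21769, e3 q21101 (flp_e L245691) q18953, e3 q21102 L245697 q18362, e3 q21103 (flp_e L248187) q21394, e3 q21104 (flp_e L258698) q22493, e3 q21105 L245717 q21093, e3 q21106 L245723 q18367, e3 q21107 L245731 q18368, e3 q21108 L245741 q18369, e3 q21109 L245747 q18370, e3 q21110 (flp_e L258714) q22494, e3 q21111 L245753 q19163, e3 q21112 (flp_e L258728) q22495, e3 q21113 L245773 q19574, e3 q21114 (flp_e L258738) q22496, e3 q21115 (flp_e L258750) q22497, e3 q21116 (flp_e L258760) q22498, e3 q21117 (flp_e L258766) q22499, e3 q21118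 (flp_e L257666) q22393, e3 q21119 L245809 q18375, trivial⟩ (by decide +kernel)

theorem ce_e_330 : ∀ r, r < 64 → sm ge (Qf (21120 + r)) = Qf (tab Gen.e (21120 + r)) :=
  edges_tab (sm ge) Qf (tab Gen.e) 21120 [(21120, 18376), (21121, 22236), (21122, 18552), (21123, 18393), (21124, 18395), (21125, 22223), (21126, 18387), (21127, 18389), (21128, 18406), (21129, 18408), (21130, 20472), (21131, 22191), (21132, 22505), (21133, 21681), (21134, 21680), (21135, 21541), (21136, 21142), (21137, 22192), (21138, 21554), (21139, 21671), (21140, 18405), (21141, 22506), (21142, 21136), (21143, 18750), (21144, 20475), (21145, 22237), (21146, 20489), (21147, 21766), (21148, 21158), (21149, 18418), (21150, 22517), (21151, 18421), (21152, 20273), (21153, 21870), (21154, 19093), (21155, 18424), (21156, 21437), (21157, 22518), (21158, 21148), (21159, 18432), (21160, 18429), (21161, 18430), (21162, 18431), (21163, 19359), (21164, 22521), (21165, 22522), (21166, 22523), (21167, 22524), (21168, 22398), (21169, 22519), (21170, 19026), (21171,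 22520), (21172, 18435), (21173, 18436), (21174, 22255), (21175, 18544), (21176, 18455), (21177, 18456), (21178, 22208), (21179, 18449), (21180, 18451), (21181, 18464), (21182, 18466), (21183, 20530)]
    ⟨e3 q21120 L245821 q18376, e3 q21121 (flp_e L256076) q22236, e3 q21122 L245839 q18552, e3 q21123 L245849 q18393, e3 q21124 L245861 q18395, e3 q21125 (flp_e L255942) q22223, e3 q21126 (flp_e L245865) q18387, e3 q21127 L245877 q18389, e3 q21128 L245883 q18406, e3 q21129 L245893 q18408, e3 q21130 L245903 q20472, e3 q21131 (flp_e L255587) q22191, e3 q21132 (flp_e L258830) q22505, e3 q21133 (flp_e L250605) q21681, e3 q21134 L250595 q21680, e3 q21135 (flp_e L249412) q21541, e3 q21136 (flp_e L245984) q21142, e3 q21137 (flp_e L255597) q22192, e3 q21138 (flp_e L249549) q21554, e3 q21139 (flp_e L250496) q21671, e3 q21140 L245966 q18405, e3 q21141 (flp_e L258838) q22506, e3 q21142 L245984 q21136, e3 q21143 L245994 q18750, e3 q21144 (flp_e L246012) q20475, e3 q21145 (flp_e L256090) q22237, e3 q21146 L246022 q20489, e3 q21147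 (flp_e L251375) q21766, e3 q21148 (flp_e L246122) q21158, e3 q21149 L246048 q18418, e3 q21150 (flp_e L258969) q22517, e3 q21151 L246056 q18421, e3 q21152 L246066 q20273, e3 q21153 (flp_e L252445) q21870, e3 q21154 (flp_e L246096) q19093, e3 q21155 L246102 q18424, e3 q21156 (flp_e L248547) q21437, e3 q21157 (flp_e L258973) q22518, e3 q21158 L246122 q21148, e3 q21159 L246128 q18432, e3 q21160 L246136 q18429, e3 q21161 L246146 q18430, e3 q21162 L246152 q18431, e3 q21163 L246160 q19359, e3 q21164 (flp_e L259013) q22521, e3 q21165 (flp_e L259029) q22522, e3 q21166 (flp_e L259039) q22523, e3 q21167 (flp_e L259045) q22524, e3 q21168 (flp_e L257722) q22398, e3 q21169 (flp_e L258989) q22519, e3 q21170 L246200 q19026, e3 q21171 (flp_e L259003) q22520, e3 q21172 L246220 q18435, e3 q21173 L246232 q18436, e3 q21174 (flp_e L256280) q22255, e3 q21175 L246250 q18544, e3 q21176 L246260 q18455, e3 q21177 L246272 q18456, e3 q21178 (flp_e L255785) q22208, e3 q21179 (flp_e L246282) q18449, e3 q21180 L246300 q18451, e3 q21181 L246310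 q18464, e3 q21182 L246320 q18466, e3 q21183 L246330 q20530, trivial⟩ (by decide +kernel)

theorem ce_e_331 : ∀ r, r < 64 → sm ge (Qf (21184 + r)) = Qf (tab Gen.e (21184 + r)) :=
  edges_tab (sm ge) Qf (tab Gen.e) 21184 [(21184, 22184), (21185, 22528), (21186, 21553), (21187, 22185), (21188, 21191), (21189, 18463), (21190, 22529), (21191, 21188), (21192, 18801), (21193, 20531), (21194, 22256), (21195, 20921), (21196, 18472), (21197, 20902), (21198, 22481), (21199, 20905), (21200, 18480), (21201, 21393), (21202, 21392), (21203, 20236), (21204, 20914), (21205, 18488), (21206, 18489), (21207, 18490), (21208, 21085), (21209, 22538), (21210, 22539), (21211, 21061), (21212, 22327), (21213, 22109), (21214, 21062), (21215, 20950), (21216, 18500), (21217, 20878), (21218, 22469), (21219, 20881), (21220, 18507), (21221, 21438), (21222, 21436), (21223, 20248), (21224, 20943), (21225, 18515), (21226, 18516), (21227, 18517), (21228, 22540), (21229, 22549), (21230, 21022), (21231, 22341), (21232, 21050), (21233, 22120), (21234,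 21023), (21235, 18534), (21236, 18538), (21237, 21302), (21238, 21313), (21239, 22065), (21240, 18558), (21241, 20265), (21242, 22096), (21243, 22009), (21244, 20422), (21245, 19787), (21246, 18566), (21247, 21292)]
    ⟨e3 q21184 (flp_e L255524) q22184, e3 q21185 (flp_e L259089) q22528, e3 q21186 L249539 q21553, e3 q21187 (flp_e L255534) q22185, e3 q21188 (flp_e L246383) q21191, e3 q21189 L246365 q18463, e3 q21190 (flp_e L259097) q22529, e3 q21191 L246383 q21188, e3 q21192 L246393 q18801, e3 q21193 (flp_e L246411) q20531, e3 q21194 (flp_e L256294) q22256, e3 q21195 L246421 q20921, e3 q21196 L246431 q18472, e3 q21197 L246439 q20902, e3 q21198 (flp_e L258566) q22481, e3 q21199 L246459 q20905, e3 q21200 L246469 q18480, e3 q21201 (flp_e L248177) q21393, e3 q21202 (flp_e L248165) q21392, e3 q21203 L246503 q20236, e3 q21204 L246511 q20914, e3 q21205 L246519 q18488, e3 q21206 L246527 q18489, e3 q21207 L246533 q18490, e3 q21208 L246541 q21085, e3 q21209 (flp_e L259202) q22538, e3 q21210 (flp_e L259216) q22539, e3 q21211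 L246555 q21061, e3 q21212 (flp_e L257017) q22327, e3 q21213 (flp_e L254842) q22109, e3 q21214 L246577 q21062, e3 q21215 L246583 q20950, e3 q21216 L246593 q18500, e3 q21217 L246605 q20878, e3 q21218 (flp_e L258428) q22469, e3 q21219 L246625 q20881, e3 q21220 L246635 q18507, e3 q21221 (flp_e L248557) q21438, e3 q21222 (flp_e L248535) q21436, e3 q21223 L246669 q20248, e3 q21224 L246677 q20943, e3 q21225 L246685 q18515, e3 q21226 L246693 q18516, e3 q21227 L246699 q18517, e3 q21228 (flp_e L259222) q22540, e3 q21229 (flp_e L259322) q22549, e3 q21230 L246713 q21022, e3 q21231 (flp_e L257137) q22341, e3 q21232 L246727 q21050, e3 q21233 (flp_e L254927) q22120, e3 q21234 L246743 q21023, e3 q21235 L246749 q18534, e3 q21236 L246763 q18538, e3 q21237 (flp_e L247329) q21302, e3 q21238 (flp_e L247433) q21313, e3 q21239 (flp_e L254459) q22065, e3 q21240 (flp_e L246797) q18558, e3 q21241 L246815 q20265, e3 q21242 (flp_e L254734) q22096, e3 q21243 (flp_e L253846) q22009, e3 q21244 L246839 q20422, e3 q21245 L246849 q19787, e3 q21246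 L246863 q18566, e3 q21247 (flp_e L247243) q21292, trivial⟩ (by decide +kernel)

theorem ce_e_332 : ∀ r, r < 64 → sm ge (Qf (21248 + r)) = Qf (tab Gen.e (21248 + r)) :=
  edges_tab (sm ge) Qf (tab Gen.e) 21248 [(21248, 20418), (21249, 19694), (21250, 22049), (21251, 18572), (21252, 20276), (21253, 22113), (21254, 21971), (21255, 20376), (21256, 18579), (21257, 21287), (21258, 20371), (21259, 18589), (21260, 18598), (21261, 18604), (21262, 18606), (21263, 18609), (21264, 18610), (21265, 18622), (21266, 22362), (21267, 21841), (21268, 19679), (21269, 21337), (21270, 19678), (21271, 21038), (21272, 21572), (21273, 21403), (21274, 18637), (21275, 22355), (21276, 21918), (21277, 19773), (21278, 21345), (21279, 19772), (21280, 21075), (21281, 21698), (21282, 21358), (21283, 18648), (21284, 22431), (21285, 18815), (21286, 18650), (21287, 21257), (21288, 18654), (21289, 22412), (21290, 18763), (21291, 18656), (21292, 21247), (21293, 21293), (21294, 22567), (21295, 21295), (21296, 22569), (21297, 19128), (21298, 18989), (21299,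 22384), (21300, 22385), (21301, 18677), (21302, 21237), (21303, 20321), (21304, 21055), (21305, 18682), (21306, 18684), (21307, 22570), (21308, 21328), (21309, 21321), (21310, 21320), (21311, 22079)]
    ⟨e3 q21248 L246879 q20418, e3 q21249 L246889 q19694, e3 q21250 (flp_e L254269) q22049, e3 q21251 (flp_e L246905) q18572, e3 q21252 L246923 q20276, e3 q21253 (flp_e L254886) q22113, e3 q21254 (flp_e L253479) q21971, e3 q21255 L246947 q20376, e3 q21256 L246959 q18579, e3 q21257 (flp_e L247209) q21287, e3 q21258 L246975 q20371, e3 q21259 L246985 q18589, e3 q21260 L246997 q18598, e3 q21261 (flp_e L247001) q18604, e3 q21262 (flp_e L247013) q18606, e3 q21263 (flp_e L247023) q18609, e3 q21264 (flp_e L247035) q18610, e3 q21265 L247049 q18622, e3 q21266 (flp_e L257355) q22362, e3 q21267 (flp_e L252158) q21841, e3 q21268 L247063 q19679, e3 q21269 (flp_e L247679) q21337, e3 q21270 L247079 q19678, e3 q21271 L247089 q21038, e3 q21272 (flp_e L249687) q21572, e3 q21273 (flp_e L248267) q21403, e3 q21274 L247116 q18637, e3 q21275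 (flp_e L257271) q22355, e3 q21276 (flp_e L252950) q21918, e3 q21277 L247130 q19773, e3 q21278 (flp_e L247763) q21345, e3 q21279 L247146 q19772, e3 q21280 L247156 q21075, e3 q21281 (flp_e L250747) q21698, e3 q21282 (flp_e L247889) q21358, e3 q21283 (flp_e L247179) q18648, e3 q21284 (flp_e L258026) q22431, e3 q21285 L247195 q18815, e3 q21286 L247203 q18650, e3 q21287 L247209 q21257, e3 q21288 (flp_e L247213) q18654, e3 q21289 (flp_e L257852) q22412, e3 q21290 L247229 q18763, e3 q21291 L247237 q18656, e3 q21292 L247243 q21247, e3 q21293 L247251 q21293, e3 q21294 L259505 q22567, e3 q21295 L247265 q21295, e3 q21296 L259521 q22569, e3 q21297 L247279 q19128, e3 q21298 L247290 q18989, e3 q21299 (flp_e L257580) q22384, e3 q21300 (flp_e L257592) q22385, e3 q21301 L247315 q18677, e3 q21302 L247329 q21237, e3 q21303 L247341 q20321, e3 q21304 L247353 q21055, e3 q21305 L247363 q18682, e3 q21306 L247371 q18684, e3 q21307 (flp_e L259530) q22570, e3 q21308 (flp_e L247592) q21328, e3 q21309 (flp_e L247515) q21321, e3 q21310 (flp_e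 L247501) q21320, e3 q21311 L254602 q22079, trivial⟩ (by decide +kernel)

theorem ce_e_333 : ∀ r, r < 64 → sm ge (Qf (21312 + r)) = Qf (tab Gen.e (21312 + r)) :=
  edges_tab (sm ge) Qf (tab Gen.e) 21312 [(21312, 18688), (21313, 21238), (21314, 20301), (21315, 21090), (21316, 18693), (21317, 18695), (21318, 22571), (21319, 21323), (21320, 21310), (21321, 21309), (21322, 22092), (21323, 21319), (21324, 19379), (21325, 19340), (21326, 19323), (21327, 18704), (21328, 21308), (21329, 19594), (21330, 19560), (21331, 19549), (21332, 18711), (21333, 21333), (21334, 22574), (21335, 21335), (21336, 22577), (21337, 21269), (21338, 21396), (21339, 18721), (21340, 20910), (21341, 21397), (21342, 18725), (21343, 22484), (21344, 20831), (21345, 21278), (21346, 21440), (21347, 18732), (21348, 20939), (21349, 21441), (21350, 18736), (21351, 22472), (21352, 20834), (21353, 22396), (21354, 20320), (21355, 20919), (21356, 22438), (21357, 20920), (21358, 21282), (21359, 21864), (21360, 19458), (21361, 18752), (21362, 22579), (21363,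 22401), (21364, 22400), (21365, 22174), (21366, 19038), (21367, 21659), (21368, 18764), (21369, 21909), (21370, 21847), (21371, 20948), (21372, 18769), (21373, 22580), (21374, 22397), (21375, 18773)]
    ⟨e3 q21312 L247419 q18688, e3 q21313 L247433 q21238, e3 q21314 L247445 q20301, e3 q21315 L247457 q21090, e3 q21316 L247467 q18693, e3 q21317 L247475 q18695, e3 q21318 (flp_e L259544) q22571, e3 q21319 (flp_e L247533) q21323, e3 q21320 L247501 q21310, e3 q21321 L247515 q21309, e3 q21322 L254712 q22092, e3 q21323 L247533 q21319, e3 q21324 L247541 q19379, e3 q21325 L247553 q19340, e3 q21326 L247569 q19323, e3 q21327 (flp_e L247573) q18704, e3 q21328 L247592 q21308, e3 q21329 L247600 q19594, e3 q21330 L247612 q19560, e3 q21331 L247628 q19549, e3 q21332 (flp_e L247632) q18711, e3 q21333 L247647 q21333, e3 q21334 L259570 q22574, e3 q21335 L247662 q21335, e3 q21336 L259601 q22577, e3 q21337 L247679 q21269, e3 q21338 (flp_e L248203) q21396, e3 q21339 (flp_e L247697) q18721, e3 q21340 L247715 q20910, e3 q21341 (flp_e L248215)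 q21397, e3 q21342 (flp_e L247729) q18725, e3 q21343 (flp_e L258608) q22484, e3 q21344 L247753 q20831, e3 q21345 L247763 q21278, e3 q21346 (flp_e L248573) q21440, e3 q21347 (flp_e L247781) q18732, e3 q21348 L247799 q20939, e3 q21349 (flp_e L248585) q21441, e3 q21350 (flp_e L247813) q18736, e3 q21351 (flp_e L258470) q22472, e3 q21352 L247837 q20834, e3 q21353 (flp_e L257698) q22396, e3 q21354 L247851 q20320, e3 q21355 L247859 q20919, e3 q21356 L258087 q22438, e3 q21357 L247879 q20920, e3 q21358 L247889 q21282, e3 q21359 (flp_e L252383) q21864, e3 q21360 L247908 q19458, e3 q21361 L247916 q18752, e3 q21362 (flp_e L259620) q22579, e3 q21363 (flp_e L257754) q22401, e3 q21364 (flp_e L257742) q22400, e3 q21365 (flp_e L255448) q22174, e3 q21366 L247952 q19038, e3 q21367 (flp_e L250376) q21659, e3 q21368 L247965 q18764, e3 q21369 (flp_e L252850) q21909, e3 q21370 (flp_e L252225) q21847, e3 q21371 L247995 q20948, e3 q21372 L248005 q18769, e3 q21373 (flp_e L259630) q22580, e3 q21374 (flp_e L257712) q22397, e3 q21375 L248031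 q18773, trivial⟩ (by decide +kernel)

theorem ce_e_334 : ∀ r, r < 64 → sm ge (Qf (21376 + r)) = Qf (tab Gen.e (21376 + r)) :=
  edges_tab (sm ge) Qf (tab Gen.e) 21376 [(21376, 18774), (21377, 21895), (21378, 22535), (21379, 18776), (21380, 18777), (21381, 22581), (21382, 18780), (21383, 18781), (21384, 18782), (21385, 18783), (21386, 22536), (21387, 20525), (21388, 22253), (21389, 22404), (21390, 22583), (21391, 22584), (21392, 21202), (21393, 21201), (21394, 21103), (21395, 20033), (21396, 21338), (21397, 21341), (21398, 19726), (21399, 22402), (21400, 20300), (21401, 22451), (21402, 20949), (21403, 21273), (21404, 19658), (21405, 21938), (21406, 18803), (21407, 22592), (21408, 22395), (21409, 22394), (21410, 22181), (21411, 19175), (21412, 21528), (21413, 18814), (21414, 21923), (21415, 21824), (21416, 18820), (21417, 22593), (21418, 22403), (21419, 18824), (21420, 18825), (21421, 22514), (21422, 21804), (21423, 18827), (21424, 18828), (21425, 22594), (21426, 18831), (21427, 18832), (21428, 18833), (21429, 18834),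 (21430, 22547), (21431, 20468), (21432, 22250), (21433, 22423), (21434, 22596), (21435, 22597), (21436, 21222), (21437, 21156), (21438, 21221), (21439, 20053)]
    ⟨e3 q21376 L248037 q18774, e3 q21377 (flp_e L252722) q21895, e3 q21378 (flp_e L259164) q22535, e3 q21379 L248061 q18776, e3 q21380 L248069 q18777, e3 q21381 (flp_e L259638) q22581, e3 q21382 L248081 q18780, e3 q21383 L248093 q18781, e3 q21384 L248109 q18782, e3 q21385 L248115 q18783, e3 q21386 (flp_e L259180) q22536, e3 q21387 L248133 q20525, e3 q21388 (flp_e L256262) q22253, e3 q21389 (flp_e L257790) q22404, e3 q21390 (flp_e L259652) q22583, e3 q21391 (flp_e L259664) q22584, e3 q21392 L248165 q21202, e3 q21393 L248177 q21201, e3 q21394 L248187 q21103, e3 q21395 L248195 q20033, e3 q21396 L248203 q21338, e3 q21397 L248215 q21341, e3 q21398 L248225 q19726, e3 q21399 (flp_e L257766) q22402, e3 q21400 L248239 q20300, e3 q21401 L258228 q22451, e3 q21402 L248257 q20949, e3 q21403 L248267 q21273, e3 q21404 L248280 q19658, e3 q21405 (flp_e L253166) q21938, e3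 q21406 L248294 q18803, e3 q21407 (flp_e L259748) q22592, e3 q21408 (flp_e L257686) q22395, e3 q21409 (flp_e L257674) q22394, e3 q21410 (flp_e L255500) q22181, e3 q21411 L248330 q19175, e3 q21412 (flp_e L249305) q21528, e3 q21413 L248343 q18814, e3 q21414 (flp_e L253006) q21923, e3 q21415 (flp_e L251994) q21824, e3 q21416 L248371 q18820, e3 q21417 (flp_e L259760) q22593, e3 q21418 (flp_e L257780) q22403, e3 q21419 L248399 q18824, e3 q21420 L248407 q18825, e3 q21421 (flp_e L258931) q22514, e3 q21422 (flp_e L251806) q21804, e3 q21423 L248429 q18827, e3 q21424 L248437 q18828, e3 q21425 (flp_e L259768) q22594, e3 q21426 L248451 q18831, e3 q21427 L248463 q18832, e3 q21428 L248479 q18833, e3 q21429 L248485 q18834, e3 q21430 (flp_e L259296) q22547, e3 q21431 L248503 q20468, e3 q21432 (flp_e L256236) q22250, e3 q21433 (flp_e L257964) q22423, e3 q21434 (flp_e L259786) q22596, e3 q21435 (flp_e L259798) q22597, e3 q21436 L248535 q21222, e3 q21437 L248547 q21156, e3 q21438 L248557 q21221, e3 q21439 L248565 q20053, trivial⟩ (by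 decide +kernel)

theorem ce_e_335 : ∀ r, r < 64 → sm ge (Qf (21440 + r)) = Qf (tab Gen.e (21440 + r)) :=
  edges_tab (sm ge) Qf (tab Gen.e) 21440 [(21440, 21346), (21441, 21349), (21442, 19820), (21443, 20474), (21444, 22606), (21445, 18842), (21446, 18844), (21447, 18848), (21448, 18850), (21449, 22043), (21450, 22038), (21451, 22564), (21452, 18851), (21453, 18853), (21454, 22275), (21455, 18855), (21456, 22037), (21457, 18857), (21458, 18861), (21459, 18863), (21460, 18864), (21461, 22032), (21462, 22601), (21463, 22030), (21464, 18870), (21465, 22267), (21466, 18874), (21467, 18876), (21468, 18877), (21469, 18878), (21470, 22611), (21471, 18881), (21472, 22612), (21473, 22613), (21474, 22614), (21475, 21839), (21476, 18885), (21477, 18886), (21478, 18887), (21479, 18888), (21480, 22296), (21481, 22621), (21482, 22619), (21483, 22364), (21484, 18893), (21485, 18892), (21486, 22252), (21487, 20534), (21488, 18899), (21489, 18903), (21490, 18905), (21491, 22029), (21492, 22024), (21493, 22561), (21494, 18906),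 (21495, 18909), (21496, 22293), (21497, 18910), (21498, 22023), (21499, 18912), (21500, 18916), (21501, 18918), (21502, 18919), (21503, 22017)]
    ⟨e3 q21440 L248573 q21346, e3 q21441 L248585 q21349, e3 q21442 L248595 q19820, e3 q21443 L248601 q20474, e3 q21444 L259894 q22606, e3 q21445 (flp_e L248613) q18842, e3 q21446 L248628 q18844, e3 q21447 L248638 q18848, e3 q21448 L248646 q18850, e3 q21449 (flp_e L254194) q22043, e3 q21450 (flp_e L254138) q22038, e3 q21451 (flp_e L259480) q22564, e3 q21452 (flp_e L248682) q18851, e3 q21453 L248692 q18853, e3 q21454 (flp_e L256511) q22275, e3 q21455 (flp_e L248700) q18855, e3 q21456 (flp_e L254124) q22037, e3 q21457 (flp_e L248714) q18857, e3 q21458 L248726 q18861, e3 q21459 L248734 q18863, e3 q21460 L248742 q18864, e3 q21461 (flp_e L254084) q22032, e3 q21462 (flp_e L259842) q22601, e3 q21463 (flp_e L254064) q22030, e3 q21464 L248766 q18870, e3 q21465 (flp_e L256430) q22267, e3 q21466 L248782 q18874, e3 q21467 L248792 q18876, e3 q21468 L248802 q18877, e3 q21469 L248818 q18878,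 e3 q21470 (flp_e L259966) q22611, e3 q21471 L248836 q18881, e3 q21472 (flp_e L259974) q22612, e3 q21473 (flp_e L259978) q22613, e3 q21474 (flp_e L259988) q22614, e3 q21475 (flp_e L252144) q21839, e3 q21476 L248860 q18885, e3 q21477 L248870 q18886, e3 q21478 L248882 q18887, e3 q21479 L248888 q18888, e3 q21480 (flp_e L256732) q22296, e3 q21481 L260044 q22621, e3 q21482 (flp_e L260026) q22619, e3 q21483 (flp_e L257374) q22364, e3 q21484 L248929 q18893, e3 q21485 (flp_e L248933) q18892, e3 q21486 (flp_e L256252) q22252, e3 q21487 L248950 q20534, e3 q21488 L248960 q18899, e3 q21489 L248972 q18903, e3 q21490 L248982 q18905, e3 q21491 (flp_e L254052) q22029, e3 q21492 (flp_e L253996) q22024, e3 q21493 (flp_e L259448) q22561, e3 q21494 (flp_e L249020) q18906, e3 q21495 L249030 q18909, e3 q21496 (flp_e L256701) q22293, e3 q21497 (flp_e L249038) q18910, e3 q21498 (flp_e L253982) q22023, e3 q21499 (flp_e L249052) q18912, e3 q21500 L249064 q18916, e3 q21501 L249074 q18918, e3 q21502 L249082 q18919, e3 q21503 (flp_e L253934)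 q22017, trivial⟩ (by decide +kernel)

theorem ce_e_336 : ∀ r, r < 64 → sm ge (Qf (21504 + r)) = Qf (tab Gen.e (21504 + r)) :=
  edges_tab (sm ge) Qf (tab Gen.e) 21504 [(21504, 22588), (21505, 22015), (21506, 18925), (21507, 22287), (21508, 18929), (21509, 18931), (21510, 18932), (21511, 18933), (21512, 22625), (21513, 18936), (21514, 22626), (21515, 22627), (21516, 22628), (21517, 21919), (21518, 18940), (21519, 18941), (21520, 18942), (21521, 18943), (21522, 22274), (21523, 22633), (21524, 22358), (21525, 18947), (21526, 22247), (21527, 22357), (21528, 21412), (21529, 22492), (21530, 18961), (21531, 22470), (21532, 21555), (21533, 18995), (21534, 18962), (21535, 21565), (21536, 22638), (21537, 22437), (21538, 20255), (21539, 18964), (21540, 20251), (21541, 21135), (21542, 20283), (21543, 18987), (21544, 20254), (21545, 18968), (21546, 21595), (21547, 22238), (21548, 18972), (21549, 20286), (21550, 18976), (21551, 21596), (21552, 21657), (21553, 21186), (21554, 21138), (21555, 21532), (21556, 18988), (21557, 22640),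 (21558, 21741), (21559, 18991), (21560, 18993), (21561, 22643), (21562, 22425), (21563, 20986), (21564, 18999), (21565, 21535), (21566, 22646), (21567, 21737)]
    ⟨e3 q21504 (flp_e L259708) q22588, e3 q21505 (flp_e L253918) q22015, e3 q21506 L249108 q18925, e3 q21507 (flp_e L256635) q22287, e3 q21508 L249124 q18929, e3 q21509 L249138 q18931, e3 q21510 L249148 q18932, e3 q21511 L249164 q18933, e3 q21512 (flp_e L260102) q22625, e3 q21513 L249182 q18936, e3 q21514 (flp_e L260112) q22626, e3 q21515 (flp_e L260120) q22627, e3 q21516 (flp_e L260132) q22628, e3 q21517 (flp_e L252958) q21919, e3 q21518 L249212 q18940, e3 q21519 L249224 q18941, e3 q21520 L249238 q18942, e3 q21521 L249246 q18943, e3 q21522 (flp_e L256501) q22274, e3 q21523 (flp_e L260180) q22633, e3 q21524 (flp_e L257304) q22358, e3 q21525 L249281 q18947, e3 q21526 (flp_e L256198) q22247, e3 q21527 (flp_e L257291) q22357, e3 q21528 L249305 q21412, e3 q21529 L258694 q22492, e3 q21530 L249323 q18961, e3 q21531 (flp_e L258446) q22470, e3 q21532 (flp_e L249557)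 q21555, e3 q21533 (flp_e L249349) q18995, e3 q21534 (flp_e L249351) q18962, e3 q21535 (flp_e L249643) q21565, e3 q21536 L260219 q22638, e3 q21537 (flp_e L258074) q22437, e3 q21538 (flp_e L249380) q20255, e3 q21539 (flp_e L249384) q18964, e3 q21540 L249402 q20251, e3 q21541 L249412 q21135, e3 q21542 L249418 q20283, e3 q21543 L249436 q18987, e3 q21544 L249450 q20254, e3 q21545 L249462 q18968, e3 q21546 (flp_e L249859) q21595, e3 q21547 L256108 q22238, e3 q21548 (flp_e L249484) q18972, e3 q21549 L249500 q20286, e3 q21550 L249508 q18976, e3 q21551 (flp_e L249873) q21596, e3 q21552 (flp_e L250356) q21657, e3 q21553 (flp_e L249539) q21186, e3 q21554 L249549 q21138, e3 q21555 L249557 q21532, e3 q21556 (flp_e L249567) q18988, e3 q21557 (flp_e L260245) q22640, e3 q21558 L251140 q21741, e3 q21559 L249593 q18991, e3 q21560 L249601 q18993, e3 q21561 (flp_e L260276) q22643, e3 q21562 (flp_e L257980) q22425, e3 q21563 L249627 q20986, e3 q21564 L249637 q18999, e3 q21565 L249643 q21535, e3 q21566 L260303 q22646, e3 q21567 (flp_e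 L251101) q21737, trivial⟩ (by decide +kernel)

theorem ce_e_337 : ∀ r, r < 64 → sm ge (Qf (21568 + r)) = Qf (tab Gen.e (21568 + r)) :=
  edges_tab (sm ge) Qf (tab Gen.e) 21568 [(21568, 22527), (21569, 19002), (21570, 22468), (21571, 21965), (21572, 21272), (21573, 19780), (21574, 22649), (21575, 19010), (21576, 22650), (21577, 21615), (21578, 19012), (21579, 19014), (21580, 19015), (21581, 19017), (21582, 19127), (21583, 19155), (21584, 19020), (21585, 19022), (21586, 19023), (21587, 22653), (21588, 22654), (21589, 21591), (21590, 21755), (21591, 21589), (21592, 21756), (21593, 19711), (21594, 19731), (21595, 21546), (21596, 21551), (21597, 21739), (21598, 22660), (21599, 19039), (21600, 22642), (21601, 19040), (21602, 19042), (21603, 19043), (21604, 19633), (21605, 19046), (21606, 19047), (21607, 22661), (21608, 22662), (21609, 19050), (21610, 19051), (21611, 19052), (21612, 22663), (21613, 22664), (21614, 22667), (21615, 21577), (21616, 20228), (21617, 21625), (21618, 19057), (21619, 19058), (21620, 19059), (21621,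 22670), (21622, 21691), (21623, 22674), (21624, 21693), (21625, 21617), (21626, 19062), (21627, 21714), (21628, 20983), (21629, 21684), (21630, 19066), (21631, 19078)]
    ⟨e3 q21568 (flp_e L259081) q22527, e3 q21569 (flp_e L249667) q19002, e3 q21570 (flp_e L258414) q22468, e3 q21571 (flp_e L253427) q21965, e3 q21572 L249687 q21272, e3 q21573 L249699 q19780, e3 q21574 L260341 q22649, e3 q21575 (flp_e L249713) q19010, e3 q21576 (flp_e L260355) q22650, e3 q21577 (flp_e L250011) q21615, e3 q21578 (flp_e L249729) q19012, e3 q21579 L249735 q19014, e3 q21580 L249743 q19015, e3 q21581 L249751 q19017, e3 q21582 L249759 q19127, e3 q21583 L249769 q19155, e3 q21584 L249779 q19020, e3 q21585 L249785 q19022, e3 q21586 L249791 q19023, e3 q21587 (flp_e L260378) q22653, e3 q21588 (flp_e L260384) q22654, e3 q21589 (flp_e L249821) q21591, e3 q21590 (flp_e L251269) q21755, e3 q21591 L249821 q21589, e3 q21592 (flp_e L251277) q21756, e3 q21593 (flp_e L249843) q19711, e3 q21594 L249849 q19731, e3 q21595 L249859 q21546, e3 q21596 L249873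 q21551, e3 q21597 (flp_e L251117) q21739, e3 q21598 L260440 q22660, e3 q21599 (flp_e L249884) q19039, e3 q21600 (flp_e L260266) q22642, e3 q21601 (flp_e L249897) q19040, e3 q21602 L249911 q19042, e3 q21603 L249919 q19043, e3 q21604 L249925 q19633, e3 q21605 L249933 q19046, e3 q21606 L249943 q19047, e3 q21607 (flp_e L260448) q22661, e3 q21608 (flp_e L260462) q22662, e3 q21609 L249963 q19050, e3 q21610 L249969 q19051, e3 q21611 L249977 q19052, e3 q21612 (flp_e L260468) q22663, e3 q21613 (flp_e L260474) q22664, e3 q21614 L260498 q22667, e3 q21615 L250011 q21577, e3 q21616 L250003 q20228, e3 q21617 (flp_e L250081) q21625, e3 q21618 L250025 q19057, e3 q21619 L250033 q19058, e3 q21620 L250045 q19059, e3 q21621 (flp_e L260534) q22670, e3 q21622 (flp_e L250699) q21691, e3 q21623 L260561 q22674, e3 q21624 (flp_e L250719) q21693, e3 q21625 L250081 q21617, e3 q21626 (flp_e L250089) q19062, e3 q21627 (flp_e L250885) q21714, e3 q21628 L250105 q20983, e3 q21629 (flp_e L250637) q21684, e3 q21630 (flp_e L250116) q19066, e3 q21631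 L250131 q19078, trivial⟩ (by decide +kernel)

theorem ce_e_338 : ∀ r, r < 64 → sm ge (Qf (21632 + r)) = Qf (tab Gen.e (21632 + r)) :=
  edges_tab (sm ge) Qf (tab Gen.e) 21632 [(21632, 19068), (21633, 19077), (21634, 21844), (21635, 19157), (21636, 19072), (21637, 22677), (21638, 22676), (21639, 19441), (21640, 19628), (21641, 20773), (21642, 19356), (21643, 19079), (21644, 19080), (21645, 22682), (21646, 19084), (21647, 22683), (21648, 22686), (21649, 21651), (21650, 21709), (21651, 21649), (21652, 21710), (21653, 22002), (21654, 22689), (21655, 19088), (21656, 21713), (21657, 21552), (21658, 22363), (21659, 21367), (21660, 22487), (21661, 19101), (21662, 22482), (21663, 21682), (21664, 19134), (21665, 19102), (21666, 22692), (21667, 22450), (21668, 20243), (21669, 19104), (21670, 20239), (21671, 21139), (21672, 20303), (21673, 19126), (21674, 20242), (21675, 19108), (21676, 22257), (21677, 19111), (21678, 20306), (21679, 19115), (21680, 21134), (21681, 21133), (21682, 21663), (21683, 22652), (21684, 21629), (21685,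 19130), (21686, 19132), (21687, 22695), (21688, 22406), (21689, 21012), (21690, 19138), (21691, 21622), (21692, 22698), (21693, 21624), (21694, 22501), (21695, 19141)]
    ⟨e3 q21632 L250140 q19068, e3 q21633 L250149 q19077, e3 q21634 (flp_e L252193) q21844, e3 q21635 L250165 q19157, e3 q21636 L250171 q19072, e3 q21637 (flp_e L260598) q22677, e3 q21638 (flp_e L260585) q22676, e3 q21639 L250194 q19441, e3 q21640 L250202 q19628, e3 q21641 L250210 q20773, e3 q21642 L250222 q19356, e3 q21643 L250230 q19079, e3 q21644 L250236 q19080, e3 q21645 (flp_e L260655) q22682, e3 q21646 L250256 q19084, e3 q21647 (flp_e L260663) q22683, e3 q21648 L260691 q22686, e3 q21649 (flp_e L250296) q21651, e3 q21650 (flp_e L250833) q21709, e3 q21651 L250296 q21649, e3 q21652 (flp_e L250841) q21710, e3 q21653 (flp_e L253784) q22002, e3 q21654 L260725 q22689, e3 q21655 (flp_e L250330) q19088, e3 q21656 (flp_e L250877) q21713, e3 q21657 L250356 q21552, e3 q21658 (flp_e L257361) q22363, e3 q21659 L250376 q21367, e3 q21660 (flp_e L258638) q22487,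 e3 q21661 L250402 q19101, e3 q21662 (flp_e L258584) q22482, e3 q21663 (flp_e L250613) q21682, e3 q21664 (flp_e L250428) q19134, e3 q21665 (flp_e L250430) q19102, e3 q21666 L260761 q22692, e3 q21667 (flp_e L258215) q22450, e3 q21668 L250455 q20243, e3 q21669 (flp_e L250468) q19104, e3 q21670 L250486 q20239, e3 q21671 L250496 q21139, e3 q21672 L250502 q20303, e3 q21673 L250520 q19126, e3 q21674 L250534 q20242, e3 q21675 L250546 q19108, e3 q21676 L256312 q22257, e3 q21677 (flp_e L250556) q19111, e3 q21678 L250572 q20306, e3 q21679 L250580 q19115, e3 q21680 (flp_e L250595) q21134, e3 q21681 L250605 q21133, e3 q21682 L250613 q21663, e3 q21683 (flp_e L260371) q22652, e3 q21684 L250637 q21629, e3 q21685 L250645 q19130, e3 q21686 L250655 q19132, e3 q21687 (flp_e L260799) q22695, e3 q21688 (flp_e L257806) q22406, e3 q21689 L250683 q21012, e3 q21690 L250693 q19138, e3 q21691 L250699 q21622, e3 q21692 L260828 q22698, e3 q21693 L250719 q21624, e3 q21694 (flp_e L258790) q22501, e3 q21695 (flp_e L250725) q19141, trivial⟩ (by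 decide +kernel)

theorem ce_e_339 : ∀ r, r < 64 → sm ge (Qf (21696 + r)) = Qf (tab Gen.e (21696 + r)) :=
  edges_tab (sm ge) Qf (tab Gen.e) 21696 [(21696, 22003), (21697, 22480), (21698, 21281), (21699, 19685), (21700, 19149), (21701, 22701), (21702, 19151), (21703, 19153), (21704, 19154), (21705, 19159), (21706, 19160), (21707, 22702), (21708, 22703), (21709, 21650), (21710, 21652), (21711, 19804), (21712, 19824), (21713, 21656), (21714, 21627), (21715, 22705), (21716, 19176), (21717, 22694), (21718, 19177), (21719, 19179), (21720, 19180), (21721, 19431), (21722, 19183), (21723, 19184), (21724, 22706), (21725, 19187), (21726, 19188), (21727, 19189), (21728, 22707), (21729, 22708), (21730, 22709), (21731, 20221), (21732, 19194), (21733, 19195), (21734, 19196), (21735, 22711), (21736, 22712), (21737, 21567), (21738, 19199), (21739, 21597), (21740, 21009), (21741, 21558), (21742, 19203), (21743, 19212), (21744, 19211), (21745, 19643), (21746, 19427), (21747, 20788), (21748, 19572), (21749, 19213), (21750, 19214),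 (21751, 22715), (21752, 19218), (21753, 22716), (21754, 22639), (21755, 21590), (21756, 21592), (21757, 21964), (21758, 22659), (21759, 19222)]
    ⟨e3 q21696 (flp_e L253794) q22003, e3 q21697 (flp_e L258552) q22480, e3 q21698 L250747 q21281, e3 q21699 L250759 q19685, e3 q21700 (flp_e L250765) q19149, e3 q21701 (flp_e L260874) q22701, e3 q21702 (flp_e L250783) q19151, e3 q21703 L250793 q19153, e3 q21704 L250801 q19154, e3 q21705 L250809 q19159, e3 q21706 L250815 q19160, e3 q21707 (flp_e L260882) q22702, e3 q21708 (flp_e L260888) q22703, e3 q21709 L250833 q21650, e3 q21710 L250841 q21652, e3 q21711 (flp_e L250861) q19804, e3 q21712 L250867 q19824, e3 q21713 L250877 q21656, e3 q21714 L250885 q21627, e3 q21715 L260906 q22705, e3 q21716 (flp_e L250898) q19176, e3 q21717 (flp_e L260789) q22694, e3 q21718 (flp_e L250919) q19177, e3 q21719 L250937 q19179, e3 q21720 L250947 q19180, e3 q21721 L250955 q19431, e3 q21722 L250967 q19183, e3 q21723 L250973 q19184, e3 q21724 (flp_e L260924) q22706, e3 q21725 L250991 q19187, e3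 q21726 L250999 q19188, e3 q21727 L251009 q19189, e3 q21728 (flp_e L260934) q22707, e3 q21729 (flp_e L260946) q22708, e3 q21730 L260952 q22709, e3 q21731 L251039 q20221, e3 q21732 L251049 q19194, e3 q21733 L251059 q19195, e3 q21734 L251075 q19196, e3 q21735 (flp_e L260980) q22711, e3 q21736 L260984 q22712, e3 q21737 L251101 q21567, e3 q21738 (flp_e L251105) q19199, e3 q21739 L251117 q21597, e3 q21740 L251127 q21009, e3 q21741 (flp_e L251140) q21558, e3 q21742 (flp_e L251142) q19203, e3 q21743 L251159 q19212, e3 q21744 L251167 q19211, e3 q21745 L251175 q19643, e3 q21746 L251183 q19427, e3 q21747 L251191 q20788, e3 q21748 L251203 q19572, e3 q21749 L251213 q19213, e3 q21750 L251221 q19214, e3 q21751 (flp_e L261028) q22715, e3 q21752 L251245 q19218, e3 q21753 (flp_e L261040) q22716, e3 q21754 (flp_e L260237) q22639, e3 q21755 L251269 q21590, e3 q21756 L251277 q21592, e3 q21757 (flp_e L253417) q21964, e3 q21758 (flp_e L260434) q22659, e3 q21759 (flp_e L251305) q19222, trivial⟩ (by decide +kernel)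

theorem ce_e_340 : ∀ r, r < 64 → sm ge (Qf (21760 + r)) = Qf (tab Gen.e (21760 + r)) :=
  edges_tab (sm ge) Qf (tab Gen.e) 21760 [(21760, 19229), (21761, 19237), (21762, 20446), (21763, 20449), (21764, 20402), (21765, 21893), (21766, 21147), (21767, 19246), (21768, 19248), (21769, 21100), (21770, 19251), (21771, 19253), (21772, 22721), (21773, 19255), (21774, 20709), (21775, 19487), (21776, 19762), (21777, 19768), (21778, 19272), (21779, 19273), (21780, 21976), (21781, 19274), (21782, 20843), (21783, 20665), (21784, 22473), (21785, 19283), (21786, 22724), (21787, 19285), (21788, 22725), (21789, 21801), (21790, 19288), (21791, 20115), (21792, 19776), (21793, 20230), (21794, 19766), (21795, 19792), (21796, 20512), (21797, 19602), (21798, 20203), (21799, 20514), (21800, 19322), (21801, 21789), (21802, 19548), (21803, 21894), (21804, 21422), (21805, 20485), (21806, 22729), (21807, 19341), (21808, 22704), (21809, 19343), (21810, 19345), (21811, 22714), (21812, 19348), (21813, 19347), (21814, 22730), (21815, 19447),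 (21816, 19355), (21817, 22680), (21818, 22681), (21819, 22526), (21820, 19366), (21821, 20373), (21822, 21058), (21823, 19367)]
    ⟨e3 q21760 (flp_e L251313) q19229, e3 q21761 L251335 q19237, e3 q21762 L251345 q20446, e3 q21763 L251353 q20449, e3 q21764 L251359 q20402, e3 q21765 (flp_e L252702) q21893, e3 q21766 L251375 q21147, e3 q21767 (flp_e L251379) q19246, e3 q21768 (flp_e L251391) q19248, e3 q21769 L251411 q21100, e3 q21770 L251425 q19251, e3 q21771 L251433 q19253, e3 q21772 L261080 q22721, e3 q21773 (flp_e L251453) q19255, e3 q21774 L251470 q20709, e3 q21775 L251478 q19487, e3 q21776 L251490 q19762, e3 q21777 L251502 q19768, e3 q21778 (flp_e L251508) q19272, e3 q21779 (flp_e L251520) q19273, e3 q21780 (flp_e L253533) q21976, e3 q21781 (flp_e L251542) q19274, e3 q21782 L251562 q20843, e3 q21783 L251570 q20665, e3 q21784 (flp_e L258480) q22473, e3 q21785 (flp_e L251588) q19283, e3 q21786 (flp_e L261124) q22724, e3 q21787 L251608 q19285, e3 q21788 (flp_e L261132) q22725, e3 q21789 (flp_e L251776) q21801, e3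 q21790 (flp_e L251634) q19288, e3 q21791 L251650 q20115, e3 q21792 L251664 q19776, e3 q21793 L251676 q20230, e3 q21794 L251684 q19766, e3 q21795 L251696 q19792, e3 q21796 L251700 q20512, e3 q21797 L251718 q19602, e3 q21798 L251728 q20203, e3 q21799 L251746 q20514, e3 q21800 (flp_e L251750) q19322, e3 q21801 L251776 q21789, e3 q21802 L251788 q19548, e3 q21803 (flp_e L252710) q21894, e3 q21804 L251806 q21422, e3 q21805 L251814 q20485, e3 q21806 L261182 q22729, e3 q21807 (flp_e L251830) q19341, e3 q21808 (flp_e L260904) q22704, e3 q21809 L251848 q19343, e3 q21810 (flp_e L251854) q19345, e3 q21811 (flp_e L261016) q22714, e3 q21812 L251880 q19348, e3 q21813 L251886 q19347, e3 q21814 (flp_e L261202) q22730, e3 q21815 L251904 q19447, e3 q21816 L251916 q19355, e3 q21817 (flp_e L260633) q22680, e3 q21818 (flp_e L260643) q22681, e3 q21819 (flp_e L259067) q22526, e3 q21820 L251956 q19366, e3 q21821 L251968 q20373, e3 q21822 L251978 q21058, e3 q21823 (flp_e L251982) q19367, trivial⟩ (by decide +kernel)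

theorem ce_e_341 : ∀ r, r < 64 → sm ge (Qf (21824 + r)) = Qf (tab Gen.e (21824 + r)) :=
  edges_tab (sm ge) Qf (tab Gen.e) 21824 [(21824, 21415), (21825, 19737), (21826, 20594), (21827, 21912), (21828, 20640), (21829, 19390), (21830, 19393), (21831, 19396), (21832, 22315), (21833, 19402), (21834, 22377), (21835, 19860), (21836, 19861), (21837, 19407), (21838, 19409), (21839, 21475), (21840, 21936), (21841, 21267), (21842, 20196), (21843, 19416), (21844, 21634), (21845, 19887), (21846, 20190), (21847, 21370), (21848, 22713), (21849, 19432), (21850, 21926), (21851, 21925), (21852, 19436), (21853, 19437), (21854, 19443), (21855, 19442), (21856, 22735), (21857, 19451), (21858, 19452), (21859, 19453), (21860, 19459), (21861, 22033), (21862, 21917), (21863, 22034), (21864, 21359), (21865, 19471), (21866, 20504), (21867, 20507), (21868, 20339), (21869, 19481), (21870, 21153), (21871, 19485), (21872, 21092), (21873, 20742), (21874, 19668), (21875, 19674), (21876, 19505), (21877, 19506), (21878, 22014), (21879, 19507),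 (21880, 20839), (21881, 22485), (21882, 19515), (21883, 22719), (21884, 19517), (21885, 20107), (21886, 19683), (21887, 20223)]
    ⟨e3 q21824 L251994 q21415, e3 q21825 L252002 q19737, e3 q21826 L252018 q20594, e3 q21827 (flp_e L252888) q21912, e3 q21828 L252038 q20640, e3 q21829 L252052 q19390, e3 q21830 (flp_e L252058) q19393, e3 q21831 L252078 q19396, e3 q21832 (flp_e L256917) q22315, e3 q21833 L252094 q19402, e3 q21834 (flp_e L257513) q22377, e3 q21835 L252112 q19860, e3 q21836 L252122 q19861, e3 q21837 L252126 q19407, e3 q21838 L252136 q19409, e3 q21839 L252144 q21475, e3 q21840 (flp_e L253144) q21936, e3 q21841 L252158 q21267, e3 q21842 L252170 q20196, e3 q21843 L252180 q19416, e3 q21844 L252193 q21634, e3 q21845 L252201 q19887, e3 q21846 L252215 q20190, e3 q21847 L252225 q21370, e3 q21848 (flp_e L261006) q22713, e3 q21849 L252243 q19432, e3 q21850 (flp_e L253036) q21926, e3 q21851 (flp_e L253022) q21925, e3 q21852 L252267 q19436, e3 q21853 L252273 q19437, e3 q21854 L252281 q19443, e3 q21855 L252291 q19442,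 e3 q21856 (flp_e L261240) q22735, e3 q21857 L252309 q19451, e3 q21858 L252325 q19452, e3 q21859 L252333 q19453, e3 q21860 L252343 q19459, e3 q21861 (flp_e L254096) q22033, e3 q21862 (flp_e L252940) q21917, e3 q21863 (flp_e L254104) q22034, e3 q21864 L252383 q21359, e3 q21865 L252395 q19471, e3 q21866 L252405 q20504, e3 q21867 L252415 q20507, e3 q21868 L252421 q20339, e3 q21869 (flp_e L252425) q19481, e3 q21870 L252445 q21153, e3 q21871 L252459 q19485, e3 q21872 L252467 q21092, e3 q21873 L252480 q20742, e3 q21874 L252488 q19668, e3 q21875 L252500 q19674, e3 q21876 (flp_e L252506) q19505, e3 q21877 (flp_e L252518) q19506, e3 q21878 (flp_e L253904) q22014, e3 q21879 (flp_e L252540) q19507, e3 q21880 L252560 q20839, e3 q21881 (flp_e L258618) q22485, e3 q21882 (flp_e L252574) q19515, e3 q21883 (flp_e L261072) q22719, e3 q21884 (flp_e L252588) q19517, e3 q21885 L252604 q20107, e3 q21886 L252618 q19683, e3 q21887 L252630 q20223, trivial⟩ (by decide +kernel)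

theorem ce_e_342 : ∀ r, r < 64 → sm ge (Qf (21888 + r)) = Qf (tab Gen.e (21888 + r)) :=
  edges_tab (sm ge) Qf (tab Gen.e) 21888 [(21888, 19673), (21889, 19697), (21890, 20454), (21891, 20199), (21892, 20456), (21893, 21765), (21894, 21803), (21895, 21377), (21896, 20542), (21897, 19561), (21898, 22655), (21899, 19564), (21900, 19567), (21901, 19566), (21902, 22742), (21903, 19571), (21904, 22500), (21905, 19581), (21906, 20420), (21907, 21019), (21908, 19582), (21909, 21369), (21910, 19830), (21911, 20590), (21912, 21827), (21913, 19878), (21914, 19879), (21915, 19613), (21916, 19614), (21917, 21862), (21918, 21276), (21919, 21517), (21920, 20179), (21921, 19870), (21922, 20173), (21923, 21414), (21924, 19632), (21925, 21851), (21926, 21850), (21927, 19637), (21928, 19638), (21929, 19644), (21930, 19642), (21931, 19651), (21932, 19652), (21933, 19653), (21934, 19659), (21935, 22019), (21936, 21840), (21937, 22021), (21938, 21405), (21939, 19670), (21940, 21086), (21941, 21969), (21942, 20993), (21943, 22741),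 (21944, 22700), (21945, 19677), (21946, 20224), (21947, 22562), (21948, 22739), (21949, 19686), (21950, 22745), (21951, 19689)]
    ⟨e3 q21888 L252638 q19673, e3 q21889 L252652 q19697, e3 q21890 L252656 q20454, e3 q21891 L252670 q20199, e3 q21892 L252690 q20456, e3 q21893 L252702 q21765, e3 q21894 L252710 q21803, e3 q21895 L252722 q21377, e3 q21896 L252730 q20542, e3 q21897 (flp_e L252736) q19561, e3 q21898 (flp_e L260400) q22655, e3 q21899 (flp_e L252750) q19564, e3 q21900 L252766 q19567, e3 q21901 L252772 q19566, e3 q21902 (flp_e L261326) q22742, e3 q21903 L252792 q19571, e3 q21904 (flp_e L258776) q22500, e3 q21905 L252812 q19581, e3 q21906 L252824 q20420, e3 q21907 L252834 q21019, e3 q21908 (flp_e L252838) q19582, e3 q21909 L252850 q21369, e3 q21910 L252860 q19830, e3 q21911 L252876 q20590, e3 q21912 L252888 q21827, e3 q21913 L252902 q19878, e3 q21914 L252914 q19879, e3 q21915 L252924 q19613, e3 q21916 L252932 q19614, e3 q21917 L252940 q21862, e3 q21918 L252950 q21276, e3 q21919 L252958 q21517, e3 q21920 L252970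 q20179, e3 q21921 L252978 q19870, e3 q21922 L252994 q20173, e3 q21923 L253006 q21414, e3 q21924 L253012 q19632, e3 q21925 L253022 q21851, e3 q21926 L253036 q21850, e3 q21927 L253048 q19637, e3 q21928 L253056 q19638, e3 q21929 L253064 q19644, e3 q21930 L253076 q19642, e3 q21931 L253084 q19651, e3 q21932 L253100 q19652, e3 q21933 L253108 q19653, e3 q21934 L253120 q19659, e3 q21935 (flp_e L253956) q22019, e3 q21936 L253144 q21840, e3 q21937 (flp_e L253968) q22021, e3 q21938 L253166 q21405, e3 q21939 (flp_e L253170) q19670, e3 q21940 L253190 q21086, e3 q21941 (flp_e L253471) q21969, e3 q21942 L253212 q20993, e3 q21943 (flp_e L261310) q22741, e3 q21944 (flp_e L260858) q22700, e3 q21945 L253246 q19677, e3 q21946 L253260 q20224, e3 q21947 (flp_e L259458) q22562, e3 q21948 (flp_e L261282) q22739, e3 q21949 L253286 q19686, e3 q21950 (flp_e L261356) q22745, e3 q21951 L253294 q19689, trivial⟩ (by decide +kernel)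

theorem ce_e_343 : ∀ r, r < 64 → sm ge (Qf (21952 + r)) = Qf (tab Gen.e (21952 + r)) :=
  edges_tab (sm ge) Qf (tab Gen.e) 21952 [(21952, 19690), (21953, 22586), (21954, 20526), (21955, 20442), (21956, 22050), (21957, 19730), (21958, 20249), (21959, 19702), (21960, 19703), (21961, 22647), (21962, 19707), (21963, 19706), (21964, 21757), (21965, 21571), (21966, 19714), (21967, 20405), (21968, 19716), (21969, 21941), (21970, 22173), (21971, 21254), (21972, 22244), (21973, 22245), (21974, 19744), (21975, 19757), (21976, 21780), (21977, 19764), (21978, 21051), (21979, 22007), (21980, 22728), (21981, 20967), (21982, 22648), (21983, 19771), (21984, 20231), (21985, 22565), (21986, 22726), (21987, 19779), (21988, 22748), (21989, 19783), (21990, 19784), (21991, 22599), (21992, 20467), (21993, 20500), (21994, 19826), (21995, 22066), (21996, 20237), (21997, 19796), (21998, 19797), (21999, 22699), (22000, 19801), (22001, 19799), (22002, 21653), (22003, 21696), (22004, 19807), (22005, 20343), (22006, 19810), (22007, 21979),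 (22008, 22180), (22009, 21243), (22010, 22260), (22011, 22261), (22012, 19840), (22013, 19849), (22014, 21878), (22015, 21505)]
    ⟨e3 q21952 L253302 q19690, e3 q21953 (flp_e L259686) q22586, e3 q21954 L253316 q20526, e3 q21955 L253326 q20442, e3 q21956 (flp_e L254283) q22050, e3 q21957 L253351 q19730, e3 q21958 L253365 q20249, e3 q21959 L253373 q19702, e3 q21960 L253381 q19703, e3 q21961 (flp_e L260321) q22647, e3 q21962 L253393 q19707, e3 q21963 L253407 q19706, e3 q21964 L253417 q21757, e3 q21965 L253427 q21571, e3 q21966 L253435 q19714, e3 q21967 L253445 q20405, e3 q21968 (flp_e L253455) q19716, e3 q21969 L253471 q21941, e3 q21970 (flp_e L255434) q22173, e3 q21971 L253479 q21254, e3 q21972 (flp_e L256176) q22244, e3 q21973 (flp_e L256182) q22245, e3 q21974 L253509 q19744, e3 q21975 L253519 q19757, e3 q21976 L253533 q21780, e3 q21977 (flp_e L253539) q19764, e3 q21978 L253559 q21051, e3 q21979 (flp_e L253838) q22007, e3 q21980 (flp_e L261174) q22728, e3 q21981 L253585 q20967, e3 q21982 (flp_e L260331) q22648,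 e3 q21983 L253611 q19771, e3 q21984 L253625 q20231, e3 q21985 (flp_e L259490) q22565, e3 q21986 (flp_e L261146) q22726, e3 q21987 L253651 q19779, e3 q21988 (flp_e L261384) q22748, e3 q21989 L253657 q19783, e3 q21990 L253669 q19784, e3 q21991 (flp_e L259820) q22599, e3 q21992 L253683 q20467, e3 q21993 L253693 q20500, e3 q21994 L253707 q19826, e3 q21995 (flp_e L254473) q22066, e3 q21996 L253732 q20237, e3 q21997 L253740 q19796, e3 q21998 L253746 q19797, e3 q21999 (flp_e L260848) q22699, e3 q22000 L253760 q19801, e3 q22001 L253774 q19799, e3 q22002 L253784 q21653, e3 q22003 L253794 q21696, e3 q22004 L253802 q19807, e3 q22005 L253812 q20343, e3 q22006 (flp_e L253822) q19810, e3 q22007 L253838 q21979, e3 q22008 (flp_e L255486) q22180, e3 q22009 L253846 q21243, e3 q22010 (flp_e L256344) q22260, e3 q22011 (flp_e L256356) q22261, e3 q22012 L253880 q19840, e3 q22013 L253890 q19849, e3 q22014 L253904 q21878, e3 q22015 L253918 q21505, trivial⟩ (by decide +kernel)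

theorem ce_e_344 : ∀ r, r < 64 → sm ge (Qf (22016 + r)) = Qf (tab Gen.e (22016 + r)) :=
  edges_tab (sm ge) Qf (tab Gen.e) 22016 [(22016, 20040), (22017, 21503), (22018, 22304), (22019, 21935), (22020, 22733), (22021, 21937), (22022, 22305), (22023, 21498), (22024, 21492), (22025, 19865), (22026, 19866), (22027, 19869), (22028, 22386), (22029, 21491), (22030, 21463), (22031, 20020), (22032, 21461), (22033, 21861), (22034, 21863), (22035, 22743), (22036, 22317), (22037, 21456), (22038, 21450), (22039, 19883), (22040, 19884), (22041, 19888), (22042, 22389), (22043, 21449), (22044, 20056), (22045, 19903), (22046, 20036), (22047, 19916), (22048, 19925), (22049, 21250), (22050, 21956), (22051, 22069), (22052, 20162), (22053, 22068), (22054, 20075), (22055, 20012), (22056, 20010), (22057, 20011), (22058, 20013), (22059, 20058), (22060, 19967), (22061, 19968), (22062, 19976), (22063, 19975), (22064, 19986), (22065, 21239), (22066, 21995), (22067, 20163), (22068, 22053), (22069, 22051), (22070, 20021), (22071, 20022),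 (22072, 20024), (22073, 20027), (22074, 20028), (22075, 20032), (22076, 22541), (22077, 20034), (22078, 20035), (22079, 21311)]
    ⟨e3 q22016 L253924 q20040, e3 q22017 L253934 q21503, e3 q22018 (flp_e L256812) q22304, e3 q22019 L253956 q21935, e3 q22020 (flp_e L261226) q22733, e3 q22021 L253968 q21937, e3 q22022 (flp_e L256828) q22305, e3 q22023 L253982 q21498, e3 q22024 L253996 q21492, e3 q22025 L254010 q19865, e3 q22026 L254024 q19866, e3 q22027 L254038 q19869, e3 q22028 (flp_e L257604) q22386, e3 q22029 L254052 q21491, e3 q22030 L254064 q21463, e3 q22031 L254072 q20020, e3 q22032 L254084 q21461, e3 q22033 L254096 q21861, e3 q22034 L254104 q21863, e3 q22035 (flp_e L261336) q22743, e3 q22036 (flp_e L256937) q22317, e3 q22037 L254124 q21456, e3 q22038 L254138 q21450, e3 q22039 L254152 q19883, e3 q22040 L254166 q19884, e3 q22041 L254180 q19888, e3 q22042 (flp_e L257630) q22389, e3 q22043 L254194 q21449, e3 q22044 L254212 q20056, e3 q22045 L254220 q19903, e3 q22046 L254236 q20036, e3 q22047 L254244 q19916, e3 q22048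 L254254 q19925, e3 q22049 L254269 q21250, e3 q22050 L254283 q21956, e3 q22051 (flp_e L254506) q22069, e3 q22052 L254302 q20162, e3 q22053 (flp_e L254494) q22068, e3 q22054 L254326 q20075, e3 q22055 L254330 q20012, e3 q22056 L254346 q20010, e3 q22057 L254358 q20011, e3 q22058 L254372 q20013, e3 q22059 L254388 q20058, e3 q22060 L254398 q19967, e3 q22061 L254410 q19968, e3 q22062 L254416 q19976, e3 q22063 L254434 q19975, e3 q22064 L254444 q19986, e3 q22065 L254459 q21239, e3 q22066 L254473 q21995, e3 q22067 L254484 q20163, e3 q22068 L254494 q22053, e3 q22069 L254506 q22051, e3 q22070 L254516 q20021, e3 q22071 (flp_e L254522) q20022, e3 q22072 L254542 q20024, e3 q22073 L254550 q20027, e3 q22074 L254560 q20028, e3 q22075 L254568 q20032, e3 q22076 (flp_e L259234) q22541, e3 q22077 L254578 q20034, e3 q22078 L254586 q20035, e3 q22079 (flp_e L254602) q21311, trivial⟩ (by decide +kernel)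

theorem ce_e_345 : ∀ r, r < 64 → sm ge (Qf (22080 + r)) = Qf (tab Gen.e (22080 + r)) :=
  edges_tab (sm ge) Qf (tab Gen.e) 22080 [(22080, 22738), (22081, 22752), (22082, 22545), (22083, 20041), (22084, 20042), (22085, 20044), (22086, 20047), (22087, 20048), (22088, 20052), (22089, 22550), (22090, 20054), (22091, 20055), (22092, 21322), (22093, 22722), (22094, 22756), (22095, 22554), (22096, 21242), (22097, 22110), (22098, 22111), (22099, 20080), (22100, 22112), (22101, 20082), (22102, 20068), (22103, 20070), (22104, 20071), (22105, 22763), (22106, 22764), (22107, 22765), (22108, 22766), (22109, 21213), (22110, 22097), (22111, 22098), (22112, 22100), (22113, 21253), (22114, 22121), (22115, 20079), (22116, 22774), (22117, 22775), (22118, 22776), (22119, 22762), (22120, 21233), (22121, 22114), (22122, 20085), (22123, 20962), (22124, 20961), (22125, 20960), (22126, 20093), (22127, 20933), (22128, 20932), (22129, 20931), (22130, 22392), (22131, 20226), (22132, 22399), (22133, 20233), (22134, 20244), (22135, 20256),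 (22136, 21084), (22137, 21049), (22138, 20543), (22139, 20295), (22140, 20484), (22141, 20315), (22142, 20465), (22143, 20473)]
    ⟨e3 q22080 (flp_e L261272) q22738, e3 q22081 (flp_e L261412) q22752, e3 q22082 (flp_e L259280) q22545, e3 q22083 L254626 q20041, e3 q22084 (flp_e L254632) q20042, e3 q22085 L254652 q20044, e3 q22086 L254660 q20047, e3 q22087 L254670 q20048, e3 q22088 L254678 q20052, e3 q22089 (flp_e L259332) q22550, e3 q22090 L254688 q20054, e3 q22091 L254696 q20055, e3 q22092 (flp_e L254712) q21322, e3 q22093 (flp_e L261098) q22722, e3 q22094 (flp_e L261454) q22756, e3 q22095 (flp_e L259380) q22554, e3 q22096 L254734 q21242, e3 q22097 (flp_e L254854) q22110, e3 q22098 (flp_e L254865) q22111, e3 q22099 L254760 q20080, e3 q22100 (flp_e L254874) q22112, e3 q22101 L254778 q20082, e3 q22102 L254790 q20068, e3 q22103 L254802 q20070, e3 q22104 L254810 q20071, e3 q22105 (flp_e L261520) q22763, e3 q22106 (flp_e L261532) q22764, e3 q22107 (flp_e L261544) q22765, e3 q22108 (flp_e L261552) q22766, e3 q22109 L254842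 q21213, e3 q22110 L254854 q22097, e3 q22111 L254865 q22098, e3 q22112 L254874 q22100, e3 q22113 L254886 q21253, e3 q22114 (flp_e L254939) q22121, e3 q22115 L254899 q20079, e3 q22116 (flp_e L261617) q22774, e3 q22117 (flp_e L261631) q22775, e3 q22118 (flp_e L261643) q22776, e3 q22119 (flp_e L261510) q22762, e3 q22120 L254927 q21233, e3 q22121 L254939 q22114, e3 q22122 L254950 q20085, e3 q22123 L254958 q20962, e3 q22124 L254976 q20961, e3 q22125 L254982 q20960, e3 q22126 L254996 q20093, e3 q22127 L255004 q20933, e3 q22128 L255022 q20932, e3 q22129 L255028 q20931, e3 q22130 (flp_e L257658) q22392, e3 q22131 L255048 q20226, e3 q22132 (flp_e L257734) q22399, e3 q22133 L255072 q20233, e3 q22134 L255086 q20244, e3 q22135 L255100 q20256, e3 q22136 L255114 q21084, e3 q22137 L255124 q21049, e3 q22138 L255132 q20543, e3 q22139 L255142 q20295, e3 q22140 L255152 q20484, e3 q22141 L255162 q20315, e3 q22142 L255174 q20465, e3 q22143 L255184 q20473, trivial⟩ (by decide +kernel)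

theorem ce_e_346 : ∀ r, r < 64 → sm ge (Qf (22144 + r)) = Qf (tab Gen.e (22144 + r)) :=
  edges_tab (sm ge) Qf (tab Gen.e) 22144 [(22144, 22302), (22145, 20524), (22146, 20533), (22147, 22283), (22148, 22165), (22149, 22156), (22150, 20166), (22151, 22786), (22152, 20167), (22153, 20171), (22154, 22744), (22155, 20660), (22156, 22149), (22157, 22589), (22158, 20685), (22159, 20183), (22160, 22789), (22161, 20184), (22162, 20188), (22163, 22734), (22164, 20633), (22165, 22148), (22166, 22602), (22167, 20722), (22168, 22405), (22169, 22675), (22170, 22624), (22171, 22269), (22172, 22740), (22173, 21970), (22174, 21365), (22175, 22424), (22176, 22668), (22177, 22609), (22178, 22289), (22179, 22727), (22180, 22008), (22181, 21410), (22182, 22446), (22183, 21088), (22184, 21184), (22185, 21187), (22186, 22221), (22187, 21047), (22188, 20982), (22189, 22459), (22190, 21053), (22191, 21131), (22192, 21137), (22193, 22206), (22194, 21046), (22195, 21008), (22196, 20263), (22197, 21027), (22198, 22462), (22199, 20523),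 (22200, 20532), (22201, 20274), (22202, 21065), (22203, 22474), (22204, 20466), (22205, 20476), (22206, 22193), (22207, 22510)]
    ⟨e3 q22144 (flp_e L256792) q22302, e3 q22145 L255200 q20524, e3 q22146 L255210 q20533, e3 q22147 (flp_e L256583) q22283, e3 q22148 (flp_e L255382) q22165, e3 q22149 (flp_e L255299) q22156, e3 q22150 L255242 q20166, e3 q22151 L261738 q22786, e3 q22152 (flp_e L255255) q20167, e3 q22153 (flp_e L255265) q20171, e3 q22154 (flp_e L261344) q22744, e3 q22155 L255283 q20660, e3 q22156 L255299 q22149, e3 q22157 (flp_e L259716) q22589, e3 q22158 L255311 q20685, e3 q22159 L255323 q20183, e3 q22160 L261775 q22789, e3 q22161 (flp_e L255336) q20184, e3 q22162 (flp_e L255346) q20188, e3 q22163 (flp_e L261232) q22734, e3 q22164 L255366 q20633, e3 q22165 L255382 q22148, e3 q22166 (flp_e L259854) q22602, e3 q22167 L255394 q20722, e3 q22168 (flp_e L257800) q22405, e3 q22169 (flp_e L260569) q22675, e3 q22170 (flp_e L260084) q22624, e3 q22171 (flp_e L256452) q22269, e3 q22172 (flp_e L261300) q22740, e3 q22173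 L255434 q21970, e3 q22174 L255448 q21365, e3 q22175 (flp_e L257974) q22424, e3 q22176 (flp_e L260514) q22668, e3 q22177 (flp_e L259934) q22609, e3 q22178 (flp_e L256657) q22289, e3 q22179 (flp_e L261164) q22727, e3 q22180 L255486 q22008, e3 q22181 L255500 q21410, e3 q22182 (flp_e L258175) q22446, e3 q22183 L255518 q21088, e3 q22184 L255524 q21184, e3 q22185 L255534 q21187, e3 q22186 (flp_e L255917) q22221, e3 q22187 L255547 q21047, e3 q22188 L255561 q20982, e3 q22189 (flp_e L258316) q22459, e3 q22190 L255581 q21053, e3 q22191 L255587 q21131, e3 q22192 L255597 q21137, e3 q22193 (flp_e L255760) q22206, e3 q22194 L255610 q21046, e3 q22195 L255624 q21008, e3 q22196 L255640 q20263, e3 q22197 L255652 q21027, e3 q22198 (flp_e L258354) q22462, e3 q22199 L255674 q20523, e3 q22200 L255688 q20532, e3 q22201 L255702 q20274, e3 q22202 L255716 q21065, e3 q22203 (flp_e L258492) q22474, e3 q22204 L255738 q20466, e3 q22205 L255752 q20476, e3 q22206 L255760 q22193, e3 q22207 (flp_e L258888) q22510, trivial⟩ (by decide +kernel)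

theorem ce_e_347 : ∀ r, r < 64 → sm ge (Qf (22208 + r)) = Qf (tab Gen.e (22208 + r)) :=
  edges_tab (sm ge) Qf (tab Gen.e) 22208 [(22208, 21178), (22209, 20285), (22210, 22634), (22211, 20999), (22212, 20998), (22213, 20291), (22214, 21006), (22215, 22460), (22216, 22796), (22217, 22516), (22218, 20296), (22219, 20299), (22220, 22542), (22221, 22186), (22222, 22512), (22223, 21125), (22224, 20305), (22225, 22690), (22226, 20973), (22227, 20972), (22228, 20311), (22229, 22447), (22230, 20980), (22231, 22797), (22232, 22488), (22233, 20316), (22234, 20319), (22235, 22551), (22236, 21121), (22237, 21145), (22238, 21547), (22239, 20587), (22240, 22736), (22241, 20591), (22242, 21056), (22243, 20427), (22244, 21972), (22245, 21973), (22246, 22353), (22247, 21526), (22248, 22559), (22249, 20375), (22250, 21432), (22251, 22356), (22252, 21486), (22253, 21388), (22254, 20390), (22255, 21174), (22256, 21194), (22257, 21676), (22258, 22718), (22259, 21017), (22260, 22010), (22261, 22011), (22262, 22557), (22263, 20423),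 (22264, 20441), (22265, 20444), (22266, 20460), (22267, 21465), (22268, 20459), (22269, 22171), (22270, 22598), (22271, 20470)]
    ⟨e3 q22208 L255785 q21178, e3 q22209 (flp_e L255791) q20285, e3 q22210 (flp_e L260196) q22634, e3 q22211 L255815 q20999, e3 q22212 (flp_e L255827) q20998, e3 q22213 (flp_e L255831) q20291, e3 q22214 L255851 q21006, e3 q22215 (flp_e L258330) q22460, e3 q22216 L261858 q22796, e3 q22217 (flp_e L258955) q22516, e3 q22218 (flp_e L255885) q20296, e3 q22219 L255901 q20299, e3 q22220 (flp_e L259244) q22542, e3 q22221 L255917 q22186, e3 q22222 (flp_e L258909) q22512, e3 q22223 L255942 q21125, e3 q22224 (flp_e L255948) q20305, e3 q22225 (flp_e L260747) q22690, e3 q22226 L255972 q20973, e3 q22227 (flp_e L255982) q20972, e3 q22228 (flp_e L255988) q20311, e3 q22229 (flp_e L258189) q22447, e3 q22230 L256018 q20980, e3 q22231 L261870 q22797, e3 q22232 (flp_e L258648) q22488, e3 q22233 (flp_e L256044) q20316, e3 q22234 L256060 q20319, e3 q22235 (flp_e L259342) q22551, e3 q22236 L256076 q21121, e3 q22237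 L256090 q21145, e3 q22238 (flp_e L256108) q21547, e3 q22239 L256114 q20587, e3 q22240 (flp_e L261250) q22736, e3 q22241 L256142 q20591, e3 q22242 L256154 q21056, e3 q22243 L256162 q20427, e3 q22244 L256176 q21972, e3 q22245 L256182 q21973, e3 q22246 (flp_e L257245) q22353, e3 q22247 L256198 q21526, e3 q22248 (flp_e L259422) q22559, e3 q22249 L256222 q20375, e3 q22250 L256236 q21432, e3 q22251 (flp_e L257283) q22356, e3 q22252 L256252 q21486, e3 q22253 L256262 q21388, e3 q22254 L256274 q20390, e3 q22255 L256280 q21174, e3 q22256 L256294 q21194, e3 q22257 (flp_e L256312) q21676, e3 q22258 (flp_e L261056) q22718, e3 q22259 L256330 q21017, e3 q22260 L256344 q22010, e3 q22261 L256356 q22011, e3 q22262 (flp_e L259401) q22557, e3 q22263 L256380 q20423, e3 q22264 L256390 q20441, e3 q22265 L256408 q20444, e3 q22266 L256420 q20460, e3 q22267 L256430 q21465, e3 q22268 L256442 q20459, e3 q22269 L256452 q22171, e3 q22270 (flp_e L259808) q22598, e3 q22271 L256476 q20470, trivial⟩ (by decide +kernel)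

theorem ce_e_348 : ∀ r, r < 64 → sm ge (Qf (22272 + r)) = Qf (tab Gen.e (22272 + r)) :=
  edges_tab (sm ge) Qf (tab Gen.e) 22272 [(22272, 20471), (22273, 22798), (22274, 21522), (22275, 21454), (22276, 22318), (22277, 22782), (22278, 22604), (22279, 20588), (22280, 20481), (22281, 20482), (22282, 22534), (22283, 22147), (22284, 20499), (22285, 20502), (22286, 20517), (22287, 21507), (22288, 20518), (22289, 22178), (22290, 22585), (22291, 20528), (22292, 20529), (22293, 21496), (22294, 22306), (22295, 22800), (22296, 21480), (22297, 22620), (22298, 20592), (22299, 20539), (22300, 20540), (22301, 22513), (22302, 22144), (22303, 20564), (22304, 22018), (22305, 22022), (22306, 22294), (22307, 20559), (22308, 22803), (22309, 20561), (22310, 22805), (22311, 22806), (22312, 22378), (22313, 22810), (22314, 22802), (22315, 21832), (22316, 20568), (22317, 22036), (22318, 22276), (22319, 22324), (22320, 22323), (22321, 22322), (22322, 22321), (22323, 22320), (22324, 22319), (22325, 20625), (22326, 22818), (22327, 21212),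 (22328, 20628), (22329, 20629), (22330, 20630), (22331, 22819), (22332, 22552), (22333, 22779), (22334, 20634), (22335, 22791)]
    ⟨e3 q22272 L256486 q20471, e3 q22273 (flp_e L261886) q22798, e3 q22274 L256501 q21522, e3 q22275 L256511 q21454, e3 q22276 (flp_e L256947) q22318, e3 q22277 (flp_e L261700) q22782, e3 q22278 (flp_e L259874) q22604, e3 q22279 L256547 q20588, e3 q22280 L256561 q20481, e3 q22281 L256569 q20482, e3 q22282 (flp_e L259154) q22534, e3 q22283 L256583 q22147, e3 q22284 L256591 q20499, e3 q22285 L256609 q20502, e3 q22286 L256621 q20517, e3 q22287 L256635 q21507, e3 q22288 L256647 q20518, e3 q22289 L256657 q22178, e3 q22290 (flp_e L259674) q22585, e3 q22291 L256681 q20528, e3 q22292 L256693 q20529, e3 q22293 L256701 q21496, e3 q22294 (flp_e L256836) q22306, e3 q22295 (flp_e L261903) q22800, e3 q22296 L256732 q21480, e3 q22297 L260042 q22620, e3 q22298 L256752 q20592, e3 q22299 L256764 q20539, e3 q22300 L256778 q20540, e3 q22301 (flp_e L258921) q22513, e3 q22302 L256792 q22144, e3 q22303 L256804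 q20564, e3 q22304 L256812 q22018, e3 q22305 L256828 q22022, e3 q22306 L256836 q22294, e3 q22307 L256854 q20559, e3 q22308 (flp_e L261937) q22803, e3 q22309 L256868 q20561, e3 q22310 (flp_e L261953) q22805, e3 q22311 (flp_e L261961) q22806, e3 q22312 (flp_e L257525) q22378, e3 q22313 L262002 q22810, e3 q22314 (flp_e L261924) q22802, e3 q22315 L256917 q21832, e3 q22316 L256923 q20568, e3 q22317 L256937 q22036, e3 q22318 L256947 q22276, e3 q22319 (flp_e L256993) q22324, e3 q22320 (flp_e L256983) q22323, e3 q22321 (flp_e L256973) q22322, e3 q22322 L256973 q22321, e3 q22323 L256983 q22320, e3 q22324 L256993 q22319, e3 q22325 L257001 q20625, e3 q22326 (flp_e L262079) q22818, e3 q22327 L257017 q21212, e3 q22328 L257023 q20628, e3 q22329 L257029 q20629, e3 q22330 L257037 q20630, e3 q22331 (flp_e L262087) q22819, e3 q22332 (flp_e L259356) q22552, e3 q22333 (flp_e L261666) q22779, e3 q22334 L257077 q20634, e3 q22335 (flp_e L261806) q22791, trivial⟩ (by decide +kernel)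

theorem ce_e_349 : ∀ r, r < 64 → sm ge (Qf (22336 + r)) = Qf (tab Gen.e (22336 + r)) :=
  edges_tab (sm ge) Qf (tab Gen.e) 22336 [(22336, 20664), (22337, 20638), (22338, 22731), (22339, 20652), (22340, 22821), (22341, 21231), (22342, 20655), (22343, 20656), (22344, 20657), (22345, 22822), (22346, 22543), (22347, 22780), (22348, 20661), (22349, 22788), (22350, 22723), (22351, 20677), (22352, 20935), (22353, 22246), (22354, 20694), (22355, 21275), (22356, 22251), (22357, 21527), (22358, 21524), (22359, 20714), (22360, 20963), (22361, 20729), (22362, 21266), (22363, 21658), (22364, 21483), (22365, 20751), (22366, 20749), (22367, 20750), (22368, 22826), (22369, 20783), (22370, 20763), (22371, 20761), (22372, 20762), (22373, 22827), (22374, 22678), (22375, 20776), (22376, 22809), (22377, 21834), (22378, 22312), (22379, 22829), (22380, 20780), (22381, 20781), (22382, 22830), (22383, 20790), (22384, 21299), (22385, 21300), (22386, 22028), (22387, 20850), (22388, 22483), (22389, 22042), (22390, 20857), (22391, 22471),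 (22392, 22130), (22393, 21118), (22394, 21409), (22395, 21408), (22396, 21353), (22397, 21374), (22398, 21168), (22399, 22132)]
    ⟨e3 q22336 L257087 q20664, e3 q22337 (flp_e L257105) q20638, e3 q22338 (flp_e L261214) q22731, e3 q22339 L257121 q20652, e3 q22340 (flp_e L262107) q22821, e3 q22341 L257137 q21231, e3 q22342 L257143 q20655, e3 q22343 L257149 q20656, e3 q22344 L257157 q20657, e3 q22345 (flp_e L262115) q22822, e3 q22346 (flp_e L259258) q22543, e3 q22347 (flp_e L261680) q22780, e3 q22348 L257193 q20661, e3 q22349 (flp_e L261767) q22788, e3 q22350 (flp_e L261108) q22723, e3 q22351 L257221 q20677, e3 q22352 L257233 q20935, e3 q22353 L257245 q22246, e3 q22354 L257259 q20694, e3 q22355 L257271 q21275, e3 q22356 L257283 q22251, e3 q22357 L257291 q21527, e3 q22358 L257304 q21524, e3 q22359 L257319 q20714, e3 q22360 L257331 q20963, e3 q22361 L257343 q20729, e3 q22362 L257355 q21266, e3 q22363 L257361 q21658, e3 q22364 L257374 q21483, e3 q22365 L257387 q20751, e3 q22366 L257399 q20749, e3 q22367 L257409 q20750,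 e3 q22368 (flp_e L262157) q22826, e3 q22369 L257424 q20783, e3 q22370 L257436 q20763, e3 q22371 L257452 q20761, e3 q22372 L257466 q20762, e3 q22373 (flp_e L262164) q22827, e3 q22374 (flp_e L260606) q22678, e3 q22375 L257493 q20776, e3 q22376 L262000 q22809, e3 q22377 L257513 q21834, e3 q22378 L257525 q22312, e3 q22379 L262179 q22829, e3 q22380 L257541 q20780, e3 q22381 L257549 q20781, e3 q22382 (flp_e L262192) q22830, e3 q22383 L257570 q20790, e3 q22384 L257580 q21299, e3 q22385 L257592 q21300, e3 q22386 L257604 q22028, e3 q22387 (flp_e L257606) q20850, e3 q22388 (flp_e L258590) q22483, e3 q22389 L257630 q22042, e3 q22390 (flp_e L257632) q20857, e3 q22391 (flp_e L258452) q22471, e3 q22392 L257658 q22130, e3 q22393 L257666 q21118, e3 q22394 L257674 q21409, e3 q22395 L257686 q21408, e3 q22396 L257698 q21353, e3 q22397 L257712 q21374, e3 q22398 L257722 q21168, e3 q22399 L257734 q22132, trivial⟩ (by decide +kernel)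

theorem ce_e_350 : ∀ r, r < 64 → sm ge (Qf (22400 + r)) = Qf (tab Gen.e (22400 + r)) :=
  edges_tab (sm ge) Qf (tab Gen.e) 22400 [(22400, 21364), (22401, 21363), (22402, 21399), (22403, 21418), (22404, 21389), (22405, 22168), (22406, 21688), (22407, 22537), (22408, 20917), (22409, 20918), (22410, 22835), (22411, 21043), (22412, 21289), (22413, 20925), (22414, 20926), (22415, 20927), (22416, 20928), (22417, 20929), (22418, 20954), (22419, 20955), (22420, 22837), (22421, 22838), (22422, 20957), (22423, 21433), (22424, 22175), (22425, 21562), (22426, 22548), (22427, 20946), (22428, 20947), (22429, 22842), (22430, 21080), (22431, 21284), (22432, 20956), (22433, 20958), (22434, 22839), (22435, 22841), (22436, 22846), (22437, 21537), (22438, 21356), (22439, 20966), (22440, 22448), (22441, 20974), (22442, 22590), (22443, 22790), (22444, 20979), (22445, 20981), (22446, 22182), (22447, 22229), (22448, 22440), (22449, 22848), (22450, 21667), (22451, 21401), (22452, 20992), (22453, 22461), (22454, 21000), (22455, 22603),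 (22456, 22787), (22457, 21005), (22458, 21007), (22459, 22189), (22460, 22215), (22461, 22453), (22462, 22198), (22463, 22553)]
    ⟨e3 q22400 L257742 q21364, e3 q22401 L257754 q21363, e3 q22402 L257766 q21399, e3 q22403 L257780 q21418, e3 q22404 L257790 q21389, e3 q22405 L257800 q22168, e3 q22406 L257806 q21688, e3 q22407 (flp_e L259196) q22537, e3 q22408 L257820 q20917, e3 q22409 L257828 q20918, e3 q22410 (flp_e L262249) q22835, e3 q22411 L257840 q21043, e3 q22412 L257852 q21289, e3 q22413 L257860 q20925, e3 q22414 L257874 q20926, e3 q22415 L257884 q20927, e3 q22416 L257894 q20928, e3 q22417 L257904 q20929, e3 q22418 L257914 q20954, e3 q22419 L257928 q20955, e3 q22420 (flp_e L262267) q22837, e3 q22421 (flp_e L262281) q22838, e3 q22422 L257954 q20957, e3 q22423 L257964 q21433, e3 q22424 L257974 q22175, e3 q22425 L257980 q21562, e3 q22426 (flp_e L259312) q22548, e3 q22427 L257994 q20946, e3 q22428 L258002 q20947, e3 q22429 (flp_e L262329) q22842, e3 q22430 L258014 q21080, e3 q22431 L258026 q21284, e3 q22432 L258034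 q20956, e3 q22433 L258044 q20958, e3 q22434 (flp_e L262295) q22839, e3 q22435 (flp_e L262315) q22841, e3 q22436 L262367 q22846, e3 q22437 L258074 q21537, e3 q22438 (flp_e L258087) q21356, e3 q22439 (flp_e L258089) q20966, e3 q22440 (flp_e L258203) q22448, e3 q22441 L258119 q20974, e3 q22442 (flp_e L259728) q22590, e3 q22443 (flp_e L261798) q22790, e3 q22444 L258145 q20979, e3 q22445 L258163 q20981, e3 q22446 L258175 q22182, e3 q22447 L258189 q22229, e3 q22448 L258203 q22440, e3 q22449 L262391 q22848, e3 q22450 L258215 q21667, e3 q22451 (flp_e L258228) q21401, e3 q22452 (flp_e L258230) q20992, e3 q22453 (flp_e L258344) q22461, e3 q22454 L258260 q21000, e3 q22455 (flp_e L259866) q22603, e3 q22456 (flp_e L261761) q22787, e3 q22457 L258286 q21005, e3 q22458 L258304 q21007, e3 q22459 L258316 q22189, e3 q22460 L258330 q22215, e3 q22461 L258344 q22453, e3 q22462 L258354 q22198, e3 q22463 (flp_e L259368) q22553, trivial⟩ (by decide +kernel)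

theorem ce_e_351 : ∀ r, r < 64 → sm ge (Qf (22464 + r)) = Qf (tab Gen.e (22464 + r)) :=
  edges_tab (sm ge) Qf (tab Gen.e) 22464 [(22464, 22555), (22465, 22607), (22466, 21041), (22467, 21042), (22468, 21570), (22469, 21218), (22470, 21531), (22471, 22391), (22472, 21351), (22473, 21784), (22474, 22203), (22475, 22544), (22476, 22546), (22477, 22610), (22478, 21078), (22479, 21079), (22480, 21697), (22481, 21198), (22482, 21662), (22483, 22388), (22484, 21343), (22485, 21881), (22486, 22737), (22487, 21660), (22488, 22232), (22489, 21095), (22490, 21096), (22491, 21097), (22492, 21529), (22493, 21104), (22494, 21110), (22495, 21112), (22496, 21114), (22497, 21115), (22498, 21116), (22499, 21117), (22500, 21904), (22501, 21694), (22502, 22849), (22503, 22832), (22504, 22833), (22505, 21132), (22506, 21141), (22507, 22563), (22508, 22605), (22509, 22793), (22510, 22207), (22511, 22795), (22512, 22222), (22513, 22301), (22514, 21421), (22515, 22720), (22516, 22217), (22517, 21150), (22518, 21157), (22519, 21169),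 (22520, 21171), (22521, 21164), (22522, 21165), (22523, 21166), (22524, 21167), (22525, 22850), (22526, 21819), (22527, 21568)]
    ⟨e3 q22464 (flp_e L259384) q22555, e3 q22465 (flp_e L259910) q22607, e3 q22466 L258398 q21041, e3 q22467 L258406 q21042, e3 q22468 L258414 q21570, e3 q22469 L258428 q21218, e3 q22470 L258446 q21531, e3 q22471 L258452 q22391, e3 q22472 L258470 q21351, e3 q22473 L258480 q21784, e3 q22474 L258492 q22203, e3 q22475 (flp_e L259270) q22544, e3 q22476 (flp_e L259284) q22546, e3 q22477 (flp_e L259948) q22610, e3 q22478 L258536 q21078, e3 q22479 L258544 q21079, e3 q22480 L258552 q21697, e3 q22481 L258566 q21198, e3 q22482 L258584 q21662, e3 q22483 L258590 q22388, e3 q22484 L258608 q21343, e3 q22485 L258618 q21881, e3 q22486 (flp_e L261264) q22737, e3 q22487 L258638 q21660, e3 q22488 L258648 q22232, e3 q22489 L258660 q21095, e3 q22490 L258672 q21096, e3 q22491 L258682 q21097, e3 q22492 (flp_e L258694) q21529, e3 q22493 L258698 q21104, e3 q22494 L258714 q21110, e3 q22495 L258728 q21112, e3 q22496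 L258738 q21114, e3 q22497 L258750 q21115, e3 q22498 L258760 q21116, e3 q22499 L258766 q21117, e3 q22500 L258776 q21904, e3 q22501 L258790 q21694, e3 q22502 (flp_e L262405) q22849, e3 q22503 (flp_e L262211) q22832, e3 q22504 (flp_e L262225) q22833, e3 q22505 L258830 q21132, e3 q22506 L258838 q21141, e3 q22507 (flp_e L259468) q22563, e3 q22508 (flp_e L259890) q22605, e3 q22509 (flp_e L261830) q22793, e3 q22510 L258888 q22207, e3 q22511 (flp_e L261851) q22795, e3 q22512 L258909 q22222, e3 q22513 L258921 q22301, e3 q22514 L258931 q21421, e3 q22515 (flp_e L261078) q22720, e3 q22516 L258955 q22217, e3 q22517 L258969 q21150, e3 q22518 L258973 q21157, e3 q22519 L258989 q21169, e3 q22520 L259003 q21171, e3 q22521 L259013 q21164, e3 q22522 L259029 q21165, e3 q22523 L259039 q21166, e3 q22524 L259045 q21167, e3 q22525 (flp_e L262419) q22850, e3 q22526 L259067 q21819, e3 q22527 L259081 q21568, trivial⟩ (by decide +kernel)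

theorem ce_e_352 : ∀ r, r < 64 → sm ge (Qf (22528 + r)) = Qf (tab Gen.e (22528 + r)) :=
  edges_tab (sm ge) Qf (tab Gen.e) 22528 [(22528, 21185), (22529, 21190), (22530, 22560), (22531, 22622), (22532, 22792), (22533, 22794), (22534, 22282), (22535, 21378), (22536, 21386), (22537, 22407), (22538, 21209), (22539, 21210), (22540, 21228), (22541, 22076), (22542, 22220), (22543, 22346), (22544, 22475), (22545, 22082), (22546, 22476), (22547, 21430), (22548, 22426), (22549, 21229), (22550, 22089), (22551, 22235), (22552, 22332), (22553, 22463), (22554, 22095), (22555, 22464), (22556, 22759), (22557, 22262), (22558, 22771), (22559, 22248), (22560, 22530), (22561, 21493), (22562, 21947), (22563, 22507), (22564, 21451), (22565, 21985), (22566, 22693), (22567, 21294), (22568, 22641), (22569, 21296), (22570, 21307), (22571, 21318), (22572, 22572), (22573, 22857), (22574, 21334), (22575, 22575), (22576, 22858), (22577, 21336), (22578, 22658), (22579, 21362), (22580, 21373), (22581, 21381), (22582, 22631), (22583, 21390),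 (22584, 21391), (22585, 22290), (22586, 21953), (22587, 22751), (22588, 21504), (22589, 22157), (22590, 22442), (22591, 22688)]
    ⟨e3 q22528 L259089 q21185, e3 q22529 L259097 q21190, e3 q22530 (flp_e L259436) q22560, e3 q22531 (flp_e L260064) q22622, e3 q22532 (flp_e L261820) q22792, e3 q22533 (flp_e L261840) q22794, e3 q22534 L259154 q22282, e3 q22535 L259164 q21378, e3 q22536 L259180 q21386, e3 q22537 L259196 q22407, e3 q22538 L259202 q21209, e3 q22539 L259216 q21210, e3 q22540 L259222 q21228, e3 q22541 L259234 q22076, e3 q22542 L259244 q22220, e3 q22543 L259258 q22346, e3 q22544 L259270 q22475, e3 q22545 L259280 q22082, e3 q22546 L259284 q22476, e3 q22547 L259296 q21430, e3 q22548 L259312 q22426, e3 q22549 L259322 q21229, e3 q22550 L259332 q22089, e3 q22551 L259342 q22235, e3 q22552 L259356 q22332, e3 q22553 L259368 q22463, e3 q22554 L259380 q22095, e3 q22555 L259384 q22464, e3 q22556 (flp_e L261486) q22759, e3 q22557 L259401 q22262, e3 q22558 (flp_e L261591) q22771, e3 q22559 L259422 q22248, e3 q22560 L259436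 q22530, e3 q22561 L259448 q21493, e3 q22562 L259458 q21947, e3 q22563 L259468 q22507, e3 q22564 L259480 q21451, e3 q22565 L259490 q21985, e3 q22566 (flp_e L260777) q22693, e3 q22567 (flp_e L259505) q21294, e3 q22568 (flp_e L260254) q22641, e3 q22569 (flp_e L259521) q21296, e3 q22570 L259530 q21307, e3 q22571 L259544 q21318, e3 q22572 L259554 q22572, e3 q22573 L262507 q22857, e3 q22574 (flp_e L259570) q21334, e3 q22575 L259579 q22575, e3 q22576 L262520 q22858, e3 q22577 (flp_e L259601) q21336, e3 q22578 (flp_e L260420) q22658, e3 q22579 L259620 q21362, e3 q22580 L259630 q21373, e3 q22581 L259638 q21381, e3 q22582 (flp_e L260160) q22631, e3 q22583 L259652 q21390, e3 q22584 L259664 q21391, e3 q22585 L259674 q22290, e3 q22586 L259686 q21953, e3 q22587 (flp_e L261406) q22751, e3 q22588 L259708 q21504, e3 q22589 L259716 q22157, e3 q22590 L259728 q22442, e3 q22591 (flp_e L260719) q22688, trivial⟩ (by decide +kernel)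

theorem ce_e_353 : ∀ r, r < 64 → sm ge (Qf (22592 + r)) = Qf (tab Gen.e (22592 + r)) :=
  edges_tab (sm ge) Qf (tab Gen.e) 22592 [(22592, 21407), (22593, 21417), (22594, 21425), (22595, 22617), (22596, 21434), (22597, 21435), (22598, 22270), (22599, 21991), (22600, 22755), (22601, 21462), (22602, 22166), (22603, 22455), (22604, 22278), (22605, 22508), (22606, 21444), (22607, 22465), (22608, 22784), (22609, 22177), (22610, 22477), (22611, 21470), (22612, 21472), (22613, 21473), (22614, 21474), (22615, 22861), (22616, 22844), (22617, 22595), (22618, 22825), (22619, 21482), (22620, 22297), (22621, 21481), (22622, 22531), (22623, 22785), (22624, 22170), (22625, 21512), (22626, 21514), (22627, 21515), (22628, 21516), (22629, 22862), (22630, 22840), (22631, 22582), (22632, 22824), (22633, 21523), (22634, 22210), (22635, 22637), (22636, 22645), (22637, 22635), (22638, 21536), (22639, 21754), (22640, 21557), (22641, 22568), (22642, 21600), (22643, 21561), (22644, 22856), (22645, 22636), (22646, 21566), (22647, 21961),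 (22648, 21982), (22649, 21574), (22650, 21576), (22651, 22863), (22652, 21683), (22653, 21587), (22654, 21588), (22655, 21898)]
    ⟨e3 q22592 L259748 q21407, e3 q22593 L259760 q21417, e3 q22594 L259768 q21425, e3 q22595 (flp_e L260006) q22617, e3 q22596 L259786 q21434, e3 q22597 L259798 q21435, e3 q22598 L259808 q22270, e3 q22599 L259820 q21991, e3 q22600 (flp_e L261448) q22755, e3 q22601 L259842 q21462, e3 q22602 L259854 q22166, e3 q22603 L259866 q22455, e3 q22604 L259874 q22278, e3 q22605 L259890 q22508, e3 q22606 (flp_e L259894) q21444, e3 q22607 L259910 q22465, e3 q22608 (flp_e L261714) q22784, e3 q22609 L259934 q22177, e3 q22610 L259948 q22477, e3 q22611 L259966 q21470, e3 q22612 L259974 q21472, e3 q22613 L259978 q21473, e3 q22614 L259988 q21474, e3 q22615 (flp_e L262563) q22861, e3 q22616 (flp_e L262345) q22844, e3 q22617 L260006 q22595, e3 q22618 (flp_e L262147) q22825, e3 q22619 L260026 q21482, e3 q22620 (flp_e L260042) q22297, e3 q22621 (flp_e L260044) q21481, e3 q22622 L260064 q22531, e3 q22623 (flp_e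 L261728) q22785, e3 q22624 L260084 q22170, e3 q22625 L260102 q21512, e3 q22626 L260112 q21514, e3 q22627 L260120 q21515, e3 q22628 L260132 q21516, e3 q22629 (flp_e L262575) q22862, e3 q22630 (flp_e L262303) q22840, e3 q22631 L260160 q22582, e3 q22632 (flp_e L262135) q22824, e3 q22633 L260180 q21523, e3 q22634 L260196 q22210, e3 q22635 (flp_e L260231) q22637, e3 q22636 (flp_e L260298) q22645, e3 q22637 L260231 q22635, e3 q22638 (flp_e L260219) q21536, e3 q22639 L260237 q21754, e3 q22640 L260245 q21557, e3 q22641 L260254 q22568, e3 q22642 L260266 q21600, e3 q22643 L260276 q21561, e3 q22644 (flp_e L262501) q22856, e3 q22645 L260298 q22636, e3 q22646 (flp_e L260303) q21566, e3 q22647 L260321 q21961, e3 q22648 L260331 q21982, e3 q22649 (flp_e L260341) q21574, e3 q22650 L260355 q21576, e3 q22651 (flp_e L262585) q22863, e3 q22652 L260371 q21683, e3 q22653 L260378 q21587, e3 q22654 L260384 q21588, e3 q22655 L260400 q21898, trivial⟩ (by decide +kernel)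

theorem ce_e_354 : ∀ r, r < 64 → sm ge (Qf (22656 + r)) = Qf (tab Gen.e (22656 + r)) :=
  edges_tab (sm ge) Qf (tab Gen.e) 22656 [(22656, 22864), (22657, 22865), (22658, 22578), (22659, 21758), (22660, 21598), (22661, 21607), (22662, 21608), (22663, 21612), (22664, 21613), (22665, 22866), (22666, 22867), (22667, 21614), (22668, 22176), (22669, 22834), (22670, 21621), (22671, 22868), (22672, 22691), (22673, 22697), (22674, 21623), (22675, 22169), (22676, 21638), (22677, 21637), (22678, 22374), (22679, 22869), (22680, 21817), (22681, 21818), (22682, 21645), (22683, 21647), (22684, 22870), (22685, 22871), (22686, 21648), (22687, 22872), (22688, 22591), (22689, 21654), (22690, 22225), (22691, 22672), (22692, 21666), (22693, 22566), (22694, 21717), (22695, 21687), (22696, 22855), (22697, 22673), (22698, 21692), (22699, 21999), (22700, 21944), (22701, 21701), (22702, 21707), (22703, 21708), (22704, 21808), (22705, 21715), (22706, 21724), (22707, 21728), (22708, 21729), (22709, 21730), (22710, 22831), (22711, 21735),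 (22712, 21736), (22713, 21848), (22714, 21811), (22715, 21751), (22716, 21753), (22717, 22873), (22718, 22258), (22719, 21883)]
    ⟨e3 q22656 (flp_e L262591) q22864, e3 q22657 (flp_e L262603) q22865, e3 q22658 L260420 q22578, e3 q22659 L260434 q21758, e3 q22660 (flp_e L260440) q21598, e3 q22661 L260448 q21607, e3 q22662 L260462 q21608, e3 q22663 L260468 q21612, e3 q22664 L260474 q21613, e3 q22665 (flp_e L262611) q22866, e3 q22666 (flp_e L262621) q22867, e3 q22667 (flp_e L260498) q21614, e3 q22668 L260514 q22176, e3 q22669 (flp_e L262239) q22834, e3 q22670 L260534 q21621, e3 q22671 (flp_e L262631) q22868, e3 q22672 L260759 q22691, e3 q22673 (flp_e L260823) q22697, e3 q22674 (flp_e L260561) q21623, e3 q22675 L260569 q22169, e3 q22676 L260585 q21638, e3 q22677 L260598 q21637, e3 q22678 L260606 q22374, e3 q22679 (flp_e L262643) q22869, e3 q22680 L260633 q21817, e3 q22681 L260643 q21818, e3 q22682 L260655 q21645, e3 q22683 L260663 q21647, e3 q22684 (flp_e L262656) q22870, e3 q22685 (flp_e L262672) q22871, e3 q22686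 (flp_e L260691) q21648, e3 q22687 L262678 q22872, e3 q22688 L260719 q22591, e3 q22689 (flp_e L260725) q21654, e3 q22690 L260747 q22225, e3 q22691 (flp_e L260759) q22672, e3 q22692 (flp_e L260761) q21666, e3 q22693 L260777 q22566, e3 q22694 L260789 q21717, e3 q22695 L260799 q21687, e3 q22696 (flp_e L262487) q22855, e3 q22697 L260823 q22673, e3 q22698 (flp_e L260828) q21692, e3 q22699 L260848 q21999, e3 q22700 L260858 q21944, e3 q22701 L260874 q21701, e3 q22702 L260882 q21707, e3 q22703 L260888 q21708, e3 q22704 L260904 q21808, e3 q22705 (flp_e L260906) q21715, e3 q22706 L260924 q21724, e3 q22707 L260934 q21728, e3 q22708 L260946 q21729, e3 q22709 (flp_e L260952) q21730, e3 q22710 (flp_e L262203) q22831, e3 q22711 L260980 q21735, e3 q22712 (flp_e L260984) q21736, e3 q22713 L261006 q21848, e3 q22714 L261016 q21811, e3 q22715 L261028 q21751, e3 q22716 L261040 q21753, e3 q22717 L262690 q22873, e3 q22718 L261056 q22258, e3 q22719 L261072 q21883, trivial⟩ (by decide +kernel)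

theorem ce_e_355 : ∀ r, r < 64 → sm ge (Qf (22720 + r)) = Qf (tab Gen.e (22720 + r)) :=
  edges_tab (sm ge) Qf (tab Gen.e) 22720 [(22720, 22515), (22721, 21772), (22722, 22093), (22723, 22350), (22724, 21786), (22725, 21788), (22726, 21986), (22727, 22179), (22728, 21980), (22729, 21806), (22730, 21814), (22731, 22338), (22732, 22811), (22733, 22020), (22734, 22163), (22735, 21856), (22736, 22240), (22737, 22486), (22738, 22080), (22739, 21948), (22740, 22172), (22741, 21943), (22742, 21902), (22743, 22035), (22744, 22154), (22745, 21950), (22746, 22860), (22747, 22859), (22748, 21988), (22749, 22823), (22750, 22820), (22751, 22587), (22752, 22081), (22753, 22853), (22754, 22852), (22755, 22600), (22756, 22094), (22757, 22851), (22758, 22854), (22759, 22556), (22760, 22769), (22761, 22770), (22762, 22119), (22763, 22105), (22764, 22106), (22765, 22107), (22766, 22108), (22767, 22874), (22768, 22875), (22769, 22760), (22770, 22761), (22771, 22558), (22772, 22777), (22773, 22778), (22774, 22116), (22775, 22117),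 (22776, 22118), (22777, 22772), (22778, 22773), (22779, 22333), (22780, 22347), (22781, 22801), (22782, 22277), (22783, 22799)]
    ⟨e3 q22720 L261078 q22515, e3 q22721 (flp_e L261080) q21772, e3 q22722 L261098 q22093, e3 q22723 L261108 q22350, e3 q22724 L261124 q21786, e3 q22725 L261132 q21788, e3 q22726 L261146 q21986, e3 q22727 L261164 q22179, e3 q22728 L261174 q21980, e3 q22729 (flp_e L261182) q21806, e3 q22730 L261202 q21814, e3 q22731 L261214 q22338, e3 q22732 (flp_e L262017) q22811, e3 q22733 L261226 q22020, e3 q22734 L261232 q22163, e3 q22735 L261240 q21856, e3 q22736 L261250 q22240, e3 q22737 L261264 q22486, e3 q22738 L261272 q22080, e3 q22739 L261282 q21948, e3 q22740 L261300 q22172, e3 q22741 L261310 q21943, e3 q22742 L261326 q21902, e3 q22743 L261336 q22035, e3 q22744 L261344 q22154, e3 q22745 L261356 q21950, e3 q22746 (flp_e L262553) q22860, e3 q22747 (flp_e L262541) q22859, e3 q22748 L261384 q21988, e3 q22749 (flp_e L262129) q22823, e3 q22750 (flp_e L262099) q22820, e3 q22751 L261406 q22587, e3 q22752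 L261412 q22081, e3 q22753 (flp_e L262457) q22853, e3 q22754 (flp_e L262443) q22852, e3 q22755 L261448 q22600, e3 q22756 L261454 q22094, e3 q22757 (flp_e L262431) q22851, e3 q22758 (flp_e L262469) q22854, e3 q22759 L261486 q22556, e3 q22760 (flp_e L261576) q22769, e3 q22761 (flp_e L261583) q22770, e3 q22762 L261510 q22119, e3 q22763 L261520 q22105, e3 q22764 L261532 q22106, e3 q22765 L261544 q22107, e3 q22766 L261552 q22108, e3 q22767 (flp_e L262708) q22874, e3 q22768 (flp_e L262726) q22875, e3 q22769 L261576 q22760, e3 q22770 L261583 q22761, e3 q22771 L261591 q22558, e3 q22772 (flp_e L261651) q22777, e3 q22773 (flp_e L261658) q22778, e3 q22774 L261617 q22116, e3 q22775 L261631 q22117, e3 q22776 L261643 q22118, e3 q22777 L261651 q22772, e3 q22778 L261658 q22773, e3 q22779 L261666 q22333, e3 q22780 L261680 q22347, e3 q22781 (flp_e L261914) q22801, e3 q22782 L261700 q22277, e3 q22783 (flp_e L261893) q22799, trivial⟩ (by decide +kernel)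

theorem ce_e_356 : ∀ r, r < 64 → sm ge (Qf (22784 + r)) = Qf (tab Gen.e (22784 + r)) :=
  edges_tab (sm ge) Qf (tab Gen.e) 22784 [(22784, 22608), (22785, 22623), (22786, 22151), (22787, 22456), (22788, 22349), (22789, 22160), (22790, 22443), (22791, 22335), (22792, 22532), (22793, 22509), (22794, 22533), (22795, 22511), (22796, 22216), (22797, 22231), (22798, 22273), (22799, 22783), (22800, 22295), (22801, 22781), (22802, 22314), (22803, 22308), (22804, 22877), (22805, 22310), (22806, 22311), (22807, 22876), (22808, 22878), (22809, 22376), (22810, 22313), (22811, 22732), (22812, 22817), (22813, 22814), (22814, 22813), (22815, 22816), (22816, 22815), (22817, 22812), (22818, 22326), (22819, 22331), (22820, 22750), (22821, 22340), (22822, 22345), (22823, 22749), (22824, 22632), (22825, 22618), (22826, 22368), (22827, 22373), (22828, 22879), (22829, 22379), (22830, 22382), (22831, 22710), (22832, 22503), (22833, 22504), (22834, 22669), (22835, 22410), (22836, 22847), (22837, 22420), (22838, 22421), (22839, 22434),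 (22840, 22630), (22841, 22435), (22842, 22429), (22843, 22845), (22844, 22616), (22845, 22843), (22846, 22436), (22847, 22836)]
    ⟨e3 q22784 L261714 q22608, e3 q22785 L261728 q22623, e3 q22786 (flp_e L261738) q22151, e3 q22787 L261761 q22456, e3 q22788 L261767 q22349, e3 q22789 (flp_e L261775) q22160, e3 q22790 L261798 q22443, e3 q22791 L261806 q22335, e3 q22792 L261820 q22532, e3 q22793 L261830 q22509, e3 q22794 L261840 q22533, e3 q22795 L261851 q22511, e3 q22796 (flp_e L261858) q22216, e3 q22797 (flp_e L261870) q22231, e3 q22798 L261886 q22273, e3 q22799 L261893 q22783, e3 q22800 L261903 q22295, e3 q22801 L261914 q22781, e3 q22802 L261924 q22314, e3 q22803 L261937 q22308, e3 q22804 (flp_e L262746) q22877, e3 q22805 L261953 q22310, e3 q22806 L261961 q22311, e3 q22807 (flp_e L262738) q22876, e3 q22808 (flp_e L262760) q22878, e3 q22809 (flp_e L262000) q22376, e3 q22810 (flp_e L262002) q22313, e3 q22811 L262017 q22732, e3 q22812 (flp_e L262069) q22817, e3 q22813 (flp_e L262045) q22814, e3 q22814 L262045 q22813,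 e3 q22815 (flp_e L262057) q22816, e3 q22816 L262057 q22815, e3 q22817 L262069 q22812, e3 q22818 L262079 q22326, e3 q22819 L262087 q22331, e3 q22820 L262099 q22750, e3 q22821 L262107 q22340, e3 q22822 L262115 q22345, e3 q22823 L262129 q22749, e3 q22824 L262135 q22632, e3 q22825 L262147 q22618, e3 q22826 L262157 q22368, e3 q22827 L262164 q22373, e3 q22828 (flp_e L262773) q22879, e3 q22829 (flp_e L262179) q22379, e3 q22830 L262192 q22382, e3 q22831 L262203 q22710, e3 q22832 L262211 q22503, e3 q22833 L262225 q22504, e3 q22834 L262239 q22669, e3 q22835 L262249 q22410, e3 q22836 (flp_e L262389) q22847, e3 q22837 L262267 q22420, e3 q22838 L262281 q22421, e3 q22839 L262295 q22434, e3 q22840 L262303 q22630, e3 q22841 L262315 q22435, e3 q22842 L262329 q22429, e3 q22843 (flp_e L262365) q22845, e3 q22844 L262345 q22616, e3 q22845 L262365 q22843, e3 q22846 (flp_e L262367) q22436, e3 q22847 L262389 q22836, trivial⟩ (by decide +kernel)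

theorem ce_e_357 : ∀ r, r < 32 → sm ge (Qf (22848 + r)) = Qf (tab Gen.e (22848 + r)) :=
  edges_tab (sm ge) Qf (tab Gen.e) 22848 [(22848, 22449), (22849, 22502), (22850, 22525), (22851, 22757), (22852, 22754), (22853, 22753), (22854, 22758), (22855, 22696), (22856, 22644), (22857, 22573), (22858, 22576), (22859, 22747), (22860, 22746), (22861, 22615), (22862, 22629), (22863, 22651), (22864, 22656), (22865, 22657), (22866, 22665), (22867, 22666), (22868, 22671), (22869, 22679), (22870, 22684), (22871, 22685), (22872, 22687), (22873, 22717), (22874, 22767), (22875, 22768), (22876, 22807), (22877, 22804), (22878, 22808), (22879, 22828)]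
    ⟨e3 q22848 (flp_e L262391) q22449, e3 q22849 L262405 q22502, e3 q22850 L262419 q22525, e3 q22851 L262431 q22757, e3 q22852 L262443 q22754, e3 q22853 L262457 q22753, e3 q22854 L262469 q22758, e3 q22855 L262487 q22696, e3 q22856 L262501 q22644, e3 q22857 (flp_e L262507) q22573, e3 q22858 (flp_e L262520) q22576, e3 q22859 L262541 q22747, e3 q22860 L262553 q22746, e3 q22861 L262563 q22615, e3 q22862 L262575 q22629, e3 q22863 L262585 q22651, e3 q22864 L262591 q22656, e3 q22865 L262603 q22657, e3 q22866 L262611 q22665, e3 q22867 L262621 q22666, e3 q22868 L262631 q22671, e3 q22869 L262643 q22679, e3 q22870 L262656 q22684, e3 q22871 L262672 q22685, e3 q22872 (flp_e L262678) q22687, e3 q22873 (flp_e L262690) q22717, e3 q22874 L262708 q22767, e3 q22875 L262726 q22768, e3 q22876 L262738 q22807, e3 q22877 L262746 q22804, e3 q22878 L262760 q22808, e3 q22879 L262773 q22828, trivial⟩ (by decide +kernel)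

theorem cl_e : ∀ i, i < 22880 → sm ge (Qf i) = Qf (tab Gen.e i) :=
  all_of_chunks (fun i => sm ge (Qf i) = Qf (tab Gen.e i)) 357 32
    ⟨ce_e_0, ce_e_1, ce_e_2, ce_e_3, ce_e_4, ce_e_5, ce_e_6, ce_e_7, ce_e_8, ce_e_9, ce_e_10, ce_e_11, ce_e_12, ce_e_13, ce_e_14, ce_e_15, ce_e_16, ce_e_17, ce_e_18, ce_e_19, ce_e_20, ce_e_21, ce_e_22, ce_e_23, ce_e_24, ce_e_25, ce_e_26, ce_e_27, ce_e_28, ce_e_29, ce_e_30, ce_e_31, ce_e_32, ce_e_33, ce_e_34, ce_e_35, ce_e_36, ce_e_37, ce_e_38, ce_e_39, ce_e_40, ce_e_41, ce_e_42, ce_e_43, ce_e_44, ce_e_45, ce_e_46, ce_e_47, ce_e_48, ce_e_49, ce_e_50, ce_e_51, ce_e_52, ce_e_53, ce_e_54, ce_e_55, ce_e_56, ce_e_57, ce_e_58, ce_e_59, ce_e_60, ce_e_61, ce_e_62, ce_e_63, ce_e_64, ce_e_65, ce_e_66, ce_e_67, ce_e_68, ce_e_69, ce_e_70, ce_e_71, ce_e_72, ce_e_73, ce_e_74, ce_e_75, ce_e_76, ce_e_77, ce_e_78, ce_e_79, ce_e_80, ce_e_81, ce_e_82, ce_e_83, ce_e_84, ce_e_85, ce_e_86, ce_e_87, ce_e_88, ce_e_89, ce_e_90, ce_e_91, ce_e_92, ce_e_93, ce_e_94, ce_e_95, ce_e_96, ce_e_97, ce_e_98, ce_e_99,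 ce_e_100, ce_e_101, ce_e_102, ce_e_103, ce_e_104, ce_e_105, ce_e_106, ce_e_107, ce_e_108, ce_e_109, ce_e_110, ce_e_111, ce_e_112, ce_e_113, ce_e_114, ce_e_115, ce_e_116, ce_e_117, ce_e_118, ce_e_119, ce_e_120, ce_e_121, ce_e_122, ce_e_123, ce_e_124, ce_e_125, ce_e_126, ce_e_127, ce_e_128, ce_e_129, ce_e_130, ce_e_131, ce_e_132, ce_e_133, ce_e_134, ce_e_135, ce_e_136, ce_e_137, ce_e_138, ce_e_139, ce_e_140, ce_e_141, ce_e_142, ce_e_143, ce_e_144, ce_e_145, ce_e_146, ce_e_147, ce_e_148, ce_e_149, ce_e_150, ce_e_151, ce_e_152, ce_e_153, ce_e_154, ce_e_155, ce_e_156, ce_e_157, ce_e_158, ce_e_159, ce_e_160, ce_e_161, ce_e_162, ce_e_163, ce_e_164, ce_e_165, ce_e_166, ce_e_167, ce_e_168, ce_e_169, ce_e_170, ce_e_171, ce_e_172, ce_e_173, ce_e_174, ce_e_175, ce_e_176, ce_e_177, ce_e_178, ce_e_179, ce_e_180, ce_e_181, ce_e_182, ce_e_183, ce_e_184, ce_e_185, ce_e_186, ce_e_187, ce_e_188, ce_e_189, ce_e_190, ce_e_191, ce_e_192, ce_e_193, ce_e_194, ce_e_195, ce_e_196, ce_e_197, ce_e_198, ce_e_199, ce_e_200, ce_e_201, ce_e_202,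 ce_e_203, ce_e_204, ce_e_205, ce_e_206, ce_e_207, ce_e_208, ce_e_209, ce_e_210, ce_e_211, ce_e_212, ce_e_213, ce_e_214, ce_e_215, ce_e_216, ce_e_217, ce_e_218, ce_e_219, ce_e_220, ce_e_221, ce_e_222, ce_e_223, ce_e_224, ce_e_225, ce_e_226, ce_e_227, ce_e_228, ce_e_229, ce_e_230, ce_e_231, ce_e_232, ce_e_233, ce_e_234, ce_e_235, ce_e_236, ce_e_237, ce_e_238, ce_e_239, ce_e_240, ce_e_241, ce_e_242, ce_e_243, ce_e_244, ce_e_245, ce_e_246, ce_e_247, ce_e_248, ce_e_249, ce_e_250, ce_e_251, ce_e_252, ce_e_253, ce_e_254, ce_e_255, ce_e_256, ce_e_257, ce_e_258, ce_e_259, ce_e_260, ce_e_261, ce_e_262, ce_e_263, ce_e_264, ce_e_265, ce_e_266, ce_e_267, ce_e_268, ce_e_269, ce_e_270, ce_e_271, ce_e_272, ce_e_273, ce_e_274, ce_e_275, ce_e_276, ce_e_277, ce_e_278, ce_e_279, ce_e_280, ce_e_281, ce_e_282, ce_e_283, ce_e_284, ce_e_285, ce_e_286, ce_e_287, ce_e_288, ce_e_289, ce_e_290, ce_e_291, ce_e_292, ce_e_293, ce_e_294, ce_e_295, ce_e_296, ce_e_297, ce_e_298, ce_e_299, ce_e_300, ce_e_301, ce_e_302, ce_e_303, ce_e_304, ce_e_305,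 ce_e_306, ce_e_307, ce_e_308, ce_e_309, ce_e_310, ce_e_311, ce_e_312, ce_e_313, ce_e_314, ce_e_315, ce_e_316, ce_e_317, ce_e_318, ce_e_319, ce_e_320, ce_e_321, ce_e_322, ce_e_323, ce_e_324, ce_e_325, ce_e_326, ce_e_327, ce_e_328, ce_e_329, ce_e_330, ce_e_331, ce_e_332, ce_e_333, ce_e_334, ce_e_335, ce_e_336, ce_e_337, ce_e_338, ce_e_339, ce_e_340, ce_e_341, ce_e_342, ce_e_343, ce_e_344, ce_e_345, ce_e_346, ce_e_347, ce_e_348, ce_e_349, ce_e_350, ce_e_351, ce_e_352, ce_e_353, ce_e_354, ce_e_355, ce_e_356, trivial⟩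
    ce_e_357


end Cfsg.Agent.Helper28.SzbA
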