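import Cfsg.Agent.Helper28.SzbC0

/-!
# The Suzuki group presentation, cosets of the subgroup generated by a, b, c, d, f, g: the action of the generator f (helper28; generated)
-/

set_option autoImplicit false
set_option maxRecDepth 100000
set_option linter.unusedSimpArgs false
set_option linter.constructorNameAsVariable false

noncomputable section

namespace Cfsg.Agent.Helper28.SzbA

open Cfsg.Spor Cfsg.Spor.Suz Cfsg.Agent.Helper28.CosetTable

theorem ce_f_0 : ∀ r, r < 64 → sm gf (Qf (0 + r)) = Qf (tab Gen.f (0 + r)) :=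
  edges_tab (sm gf) Qf (tab Gen.f) 0 [(0, 0), (1, 1), (2, 2), (3, 3), (4, 8), (5, 5), (6, 13), (7, 17), (8, 4), (9, 20), (10, 10), (11, 23), (12, 27), (13, 6), (14, 19), (15, 33), (16, 35), (17, 7), (18, 38), (19, 14), (20, 9), (21, 42), (22, 46), (23, 11), (24, 51), (25, 55), (26, 57), (27, 12), (28, 37), (29, 48), (30, 66), (31, 68), (32, 71), (33, 15), (34, 76), (35, 16), (36, 78), (37, 28), (38, 18), (39, 83), (40, 40), (41, 89), (42, 21), (43, 49), (44, 96), (45, 98), (46, 22), (47, 103), (48, 29), (49, 43), (50, 106), (51, 24), (52, 111), (53, 114), (54, 117), (55, 25), (56, 74), (57, 26), (58, 77), (59, 100), (60, 128), (61, 62), (62, 61), (63, 131)]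
    ⟨e3 q0 L4 q0, e3 q1 L11 q1, e3 q2 L17 q2, e3 q3 L24 q3, e3 q4 L44 q8, e3 q5 L33 q5, e3 q6 L68 q13, e3 q7 L88 q17, e3 q8 (flp_f L44) q4, e3 q9 L104 q20, e3 q10 L58 q10, e3 q11 L124 q23, e3 q12 L139 q27, e3 q13 (flp_f L68) q6, e3 q14 L102 q19, e3 q15 L165 q33, e3 q16 L173 q35, e3 q17 (flp_f L88) q7, e3 q18 L191 q38, e3 q19 (flp_f L102) q14, e3 q20 (flp_f L104) q9, e3 q21 L217 q42, e3 q22 L247 q46, e3 q23 (flp_f L124) q11, e3 q24 L270 q51, e3 q25 L291 q55, e3 q26 L303 q57, e3 q27 (flp_f L139) q12, e3 q28 L189 q37, e3 q29 (flp_f L258) q48, e3 q30 L348 q66, e3 q31 L354 q68, e3 q32 L365 q71, e3 q33 (flp_f L165) q15, e3 q34 L391 q76, e3 q35 (flp_f L173) q16, e3 q36 L406 q78, e3 q37 (flp_f L189) q28, e3 q38 (flp_f L191) q18, e3 q39 L434 q83, e3 q40 L206 q40, e3 q41 L485 q89, e3 q42 (flp_f L217) q21, e3 q43 L263 q49, e3 q44 L554 q96, e3 q45 L562 q98, e3 q46 (flp_f L247) q22, e3 q47 L590 q103, e3 q48 L258 q29, e3 q49 (flp_f L263) q43, e3 q50 L614 q106, e3 q51 (flp_f L270) q24, e3 q52 L647 q111, e3 q53 L657 q114, e3 q54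 L677 q117, e3 q55 (flp_f L291) q25, e3 q56 L385 q74, e3 q57 (flp_f L303) q26, e3 q58 L404 q77, e3 q59 (flp_f L576) q100, e3 q60 L723 q128, e3 q61 L332 q62, e3 q62 (flp_f L332) q61, e3 q63 L751 q131, trivial⟩ (by decide +kernel)

theorem ce_f_1 : ∀ r, r < 64 → sm gf (Qf (64 + r)) = Qf (tab Gen.f (64 + r)) :=
  edges_tab (sm gf) Qf (tab Gen.f) 64 [(64, 105), (65, 134), (66, 30), (67, 136), (68, 31), (69, 141), (70, 143), (71, 32), (72, 148), (73, 73), (74, 56), (75, 151), (76, 34), (77, 58), (78, 36), (79, 157), (80, 80), (81, 162), (82, 163), (83, 39), (84, 84), (85, 85), (86, 165), (87, 170), (88, 172), (89, 41), (90, 101), (91, 91), (92, 132), (93, 179), (94, 182), (95, 185), (96, 44), (97, 190), (98, 45), (99, 194), (100, 59), (101, 90), (102, 199), (103, 47), (104, 107), (105, 64), (106, 50), (107, 104), (108, 204), (109, 207), (110, 210), (111, 52), (112, 215), (113, 217), (114, 53), (115, 139), (116, 222), (117, 54), (118, 146), (119, 212), (120, 231), (121, 191), (122, 237), (123, 130), (124, 195), (125, 242),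 (126, 197), (127, 246)]
    ⟨e3 q64 (flp_f L621) q105, e3 q65 L770 q134, e3 q66 (flp_f L348) q30, e3 q67 L787 q136, e3 q68 (flp_f L354) q31, e3 q69 L811 q141, e3 q70 L823 q143, e3 q71 (flp_f L365) q32, e3 q72 L851 q148, e3 q73 L380 q73, e3 q74 (flp_f L385) q56, e3 q75 L874 q151, e3 q76 (flp_f L391) q34, e3 q77 (flp_f L404) q58, e3 q78 (flp_f L406) q36, e3 q79 L899 q157, e3 q80 L424 q80, e3 q81 L928 q162, e3 q82 L946 q163, e3 q83 (flp_f L434) q39, e3 q84 L442 q84, e3 q85 L446 q85, e3 q86 L962 q165, e3 q87 L1035 q170, e3 q88 L1047 q172, e3 q89 (flp_f L485) q41, e3 q90 L582 q101, e3 q91 L500 q91, e3 q92 (flp_f L756) q132, e3 q93 L1178 q179, e3 q94 L1194 q182, e3 q95 L1204 q185, e3 q96 (flp_f L554) q44, e3 q97 L1226 q190, e3 q98 (flp_f L562) q45, e3 q99 L1255 q194, e3 q100 L576 q59, e3 q101 (flp_f L582) q90, e3 q102 L1291 q199, e3 q103 (flp_f L590) q47, e3 q104 (flp_f L628) q107, e3 q105 L621 q64, e3 q106 (flp_f L614) q50, e3 q107 L628 q104, e3 q108 L1343 q204, e3 q109 L1356 q207, e3 q110 L1370 q210, e3 q111 (flp_f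 L647) q52, e3 q112 L1390 q215, e3 q113 L1402 q217, e3 q114 (flp_f L657) q53, e3 q115 L804 q139, e3 q116 L1432 q222, e3 q117 (flp_f L677) q54, e3 q118 L843 q146, e3 q119 (flp_f L1380) q212, e3 q120 L1466 q231, e3 q121 (flp_f L1239) q191, e3 q122 L1491 q237, e3 q123 (flp_f L742) q130, e3 q124 (flp_f L1266) q195, e3 q125 L1514 q242, e3 q126 L1278 q197, e3 q127 L1538 q246, trivial⟩ (by decide +kernel)

theorem ce_f_2 : ∀ r, r < 64 → sm gf (Qf (128 + r)) = Qf (tab Gen.f (128 + r)) :=
  edges_tab (sm gf) Qf (tab Gen.f) 128 [(128, 60), (129, 129), (130, 123), (131, 63), (132, 92), (133, 247), (134, 65), (135, 253), (136, 67), (137, 258), (138, 138), (139, 115), (140, 261), (141, 69), (142, 264), (143, 70), (144, 269), (145, 145), (146, 118), (147, 272), (148, 72), (149, 149), (150, 228), (151, 75), (152, 277), (153, 282), (154, 154), (155, 287), (156, 288), (157, 79), (158, 158), (159, 159), (160, 290), (161, 292), (162, 81), (163, 82), (164, 164), (165, 86), (166, 293), (167, 167), (168, 297), (169, 300), (170, 87), (171,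 188), (172, 88), (173, 192), (174, 174), (175, 243), (176, 306), (177, 309), (178, 312), (179, 93), (180, 317), (181, 319), (182, 94), (183, 324), (184, 326), (185, 95), (186, 331), (187, 314), (188, 171), (189, 338), (190, 97), (191, 121)]
    ⟨e3 q128 (flp_f L723) q60, e3 q129 L732 q129, e3 q130 L742 q123, e3 q131 (flp_f L751) q63, e3 q132 L756 q92, e3 q133 L57194 q247, e3 q134 (flp_f L770) q65, e3 q135 L1599 q253, e3 q136 (flp_f L787) q67, e3 q137 L1627 q258, e3 q138 L799 q138, e3 q139 (flp_f L804) q115, e3 q140 (flp_f L82409) q261, e3 q141 (flp_f L811) q69, e3 q142 L1672 q264, e3 q143 (flp_f L823) q70, e3 q144 L1696 q269, e3 q145 L836 q145, e3 q146 (flp_f L843) q118, e3 q147 L1725 q272, e3 q148 (flp_f L851) q72, e3 q149 L68466 q149, e3 q150 L80989 q228, e3 q151 (flp_f L874) q75, e3 q152 (flp_f L1768) q277, e3 q153 L1791 q282, e3 q154 L890 q154, e3 q155 L1821 q287, e3 q156 L1832 q288, e3 q157 (flp_f L899) q79, e3 q158 L909 q158, e3 q159 L912 q159, e3 q160 L1847 q290, e3 q161 L1863 q292, e3 q162 (flp_f L928) q81,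 e3 q163 (flp_f L946) q82, e3 q164 L956 q164, e3 q165 (flp_f L962) q86, e3 q166 L1905 q293, e3 q167 L55041 q167, e3 q168 L2065 q297, e3 q169 L2081 q300, e3 q170 (flp_f L1035) q87, e3 q171 L1222 q188, e3 q172 (flp_f L1047) q88, e3 q173 L1246 q192, e3 q174 L1065 q174, e3 q175 (flp_f L1528) q243, e3 q176 L2270 q306, e3 q177 L2286 q309, e3 q178 L2298 q312, e3 q179 (flp_f L1178) q93, e3 q180 L2324 q317, e3 q181 L2362 q319, e3 q182 (flp_f L1194) q94, e3 q183 L2384 q324, e3 q184 L2394 q326, e3 q185 (flp_f L1204) q95, e3 q186 L2418 q331, e3 q187 (flp_f L2312) q314, e3 q188 (flp_f L1222) q171, e3 q189 L2444 q338, e3 q190 (flp_f L1226) q97, e3 q191 L1239 q121, trivial⟩ (by decide +kernel)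

theorem ce_f_3 : ∀ r, r < 64 → sm gf (Qf (192 + r)) = Qf (tab Gen.f (192 + r)) :=
  edges_tab (sm gf) Qf (tab Gen.f) 192 [(192, 173), (193, 344), (194, 99), (195, 124), (196, 200), (197, 126), (198, 350), (199, 102), (200, 196), (201, 201), (202, 355), (203, 358), (204, 108), (205, 213), (206, 361), (207, 109), (208, 366), (209, 368), (210, 110), (211, 373), (212, 119), (213, 205), (214, 278), (215, 112), (216, 379), (217, 113), (218, 256), (219, 363), (220, 388), (221, 390), (222, 116), (223, 267), (224, 370), (225, 399), (226, 274), (227, 374), (228, 150), (229, 405), (230, 407), (231, 120), (232, 249), (233, 340), (234, 412), (235, 342), (236, 416), (237, 122), (238, 238), (239, 248), (240, 346), (241, 422), (242, 125), (243, 175), (244, 348), (245, 425), (246, 127), (247, 133), (248, 239), (249, 232), (250, 427), (251, 417), (252, 436), (253, 135), (254, 441), (255, 255)]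
    ⟨e3 q192 (flp_f L1246) q173, e3 q193 L2482 q344, e3 q194 (flp_f L1255) q99, e3 q195 L1266 q124, e3 q196 (flp_f L1303) q200, e3 q197 (flp_f L1278) q126, e3 q198 L2528 q350, e3 q199 (flp_f L1291) q102, e3 q200 L1303 q196, e3 q201 L70063 q201, e3 q202 L2591 q355, e3 q203 L2609 q358, e3 q204 (flp_f L1343) q108, e3 q205 L1384 q213, e3 q206 L2631 q361, e3 q207 (flp_f L1356) q109, e3 q208 L2660 q366, e3 q209 L2671 q368, e3 q210 (flp_f L1370) q110, e3 q211 L2697 q373, e3 q212 L1380 q119, e3 q213 (flp_f L1384) q205, e3 q214 (flp_f L82281) q278, e3 q215 (flp_f L1390) q112, e3 q216 L2735 q379, e3 q217 (flp_f L1402) q113, e3 q218 L1620 q256, e3 q219 (flp_f L2645) q363, e3 q220 L2779 q388, e3 q221 L2787 q390, e3 q222 (flp_f L1432) q116, e3 q223 L1689 q267, e3 q224 (flp_f L2683) q370, e3 q225 L2835 q399, e3 q226 L80902 q274, e3 q227 (flp_f L2711) q374, e3 q228 (flp_f L80989) q150, e3 q229 L2871 q405, e3 q230 L2881 q407, e3 q231 (flp_f L1466) q120, e3 q232 (flp_f L1563) q249, e3 q233 (flp_f L2452) q340, e3 q234 L2914 q412,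 e3 q235 L2466 q342, e3 q236 L2942 q416, e3 q237 (flp_f L1491) q122, e3 q238 L1500 q238, e3 q239 (flp_f L1556) q248, e3 q240 (flp_f L2504) q346, e3 q241 L2979 q422, e3 q242 (flp_f L1514) q125, e3 q243 L1528 q175, e3 q244 (flp_f L2516) q348, e3 q245 L3003 q425, e3 q246 (flp_f L1538) q127, e3 q247 (flp_f L57194) q133, e3 q248 L1556 q239, e3 q249 L1563 q232, e3 q250 L65362 q427, e3 q251 (flp_f L65332) q417, e3 q252 L3106 q436, e3 q253 (flp_f L1599) q135, e3 q254 L3140 q441, e3 q255 L1615 q255, trivial⟩ (by decide +kernel)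

theorem ce_f_4 : ∀ r, r < 64 → sm gf (Qf (256 + r)) = Qf (tab Gen.f (256 + r)) :=
  edges_tab (sm gf) Qf (tab Gen.f) 256 [(256, 218), (257, 444), (258, 137), (259, 259), (260, 385), (261, 140), (262, 387), (263, 449), (264, 142), (265, 454), (266, 266), (267, 223), (268, 459), (269, 144), (270, 270), (271, 396), (272, 147), (273, 464), (274, 226), (275, 401), (276, 403), (277, 152), (278, 214), (279, 471), (280, 476), (281, 478), (282, 153), (283, 283), (284, 284), (285, 480), (286, 483), (287, 155), (288, 156), (289, 289), (290, 160), (291, 485), (292, 161), (293, 166), (294, 294), (295, 295), (296, 493), (297, 168), (298, 322), (299, 496), (300, 169), (301, 329), (302, 302), (303, 413), (304, 499), (305, 502), (306, 176), (307, 315), (308, 507), (309, 177), (310, 512), (311, 514), (312, 178), (313, 519), (314, 187), (315, 307), (316, 526), (317, 180), (318, 529), (319, 181)]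
    ⟨e3 q256 (flp_f L1620) q218, e3 q257 (flp_f L80051) q444, e3 q258 (flp_f L1627) q137, e3 q259 L1644 q259, e3 q260 (flp_f L82376) q385, e3 q261 L82409 q140, e3 q262 L73194 q387, e3 q263 L3275 q449, e3 q264 (flp_f L1672) q142, e3 q265 L3291 q454, e3 q266 L1684 q266, e3 q267 (flp_f L1689) q223, e3 q268 L3325 q459, e3 q269 (flp_f L1696) q144, e3 q270 L68506 q270, e3 q271 (flp_f L75447) q396, e3 q272 (flp_f L1725) q147, e3 q273 (flp_f L3385) q464, e3 q274 (flp_f L80902) q226, e3 q275 (flp_f L81283) q401, e3 q276 L80945 q403, e3 q277 L1768 q152, e3 q278 L82281 q214, e3 q279 (flp_f L3470) q471, e3 q280 L3508 q476, e3 q281 L3520 q478, e3 q282 (flp_f L1791) q153, e3 q283 L1803 q283, e3 q284 L1808 q284, e3 q285 L3540 q480, e3 q286 L3560 q483, e3 q287 (flp_f L1821) q155, e3 q288 (flp_f L1832) q156, e3 q289 L1840 q289, e3 q290 (flp_f L1847) q160, e3 q291 L3595 q485, e3 q292 (flp_f L1863) q161, e3 q293 (flp_f L1905) q166, e3 q294 L66607 q294, e3 q295 L55032 q295, e3 q296 L3993 q493, e3 q297 (flp_f L2065) q168, e3 q298 L2378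 q322, e3 q299 L4019 q496, e3 q300 (flp_f L2081) q169, e3 q301 L2412 q329, e3 q302 L2106 q302, e3 q303 (flp_f L2930) q413, e3 q304 L4351 q499, e3 q305 L4371 q502, e3 q306 (flp_f L2270) q176, e3 q307 L2318 q315, e3 q308 L4397 q507, e3 q309 (flp_f L2286) q177, e3 q310 L4423 q512, e3 q311 L4435 q514, e3 q312 (flp_f L2298) q178, e3 q313 L4463 q519, e3 q314 L2312 q187, e3 q315 (flp_f L2318) q307, e3 q316 L4497 q526, e3 q317 (flp_f L2324) q180, e3 q318 L4551 q529, e3 q319 (flp_f L2362) q181, trivial⟩ (by decide +kernel)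

theorem ce_f_5 : ∀ r, r < 64 → sm gf (Qf (320 + r)) = Qf (tab Gen.f (320 + r)) :=
  edges_tab (sm gf) Qf (tab Gen.f) 320 [(320, 534), (321, 509), (322, 298), (323, 541), (324, 183), (325, 544), (326, 184), (327, 549), (328, 516), (329, 301), (330, 556), (331, 186), (332, 520), (333, 521), (334, 563), (335, 335), (336, 523), (337, 569), (338, 189), (339, 570), (340, 233), (341, 345), (342, 235), (343, 578), (344, 193), (345, 341), (346, 240), (347, 351), (348, 244), (349, 585), (350, 198), (351, 347), (352, 352), (353, 353), (354, 592), (355, 202), (356, 364), (357, 595), (358, 203), (359, 371), (360, 598), (361, 206), (362, 603), (363, 219), (364, 356), (365, 447), (366, 208), (367, 608), (368, 209), (369, 613), (370, 224), (371, 359), (372, 465), (373, 211), (374, 227), (375, 375), (376, 473), (377, 472), (378, 626), (379, 216), (380, 439), (381, 600), (382, 635), (383, 384)]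
    ⟨e3 q320 L4577 q534, e3 q321 (flp_f L4409) q509, e3 q322 (flp_f L2378) q298, e3 q323 L4605 q541, e3 q324 (flp_f L2384) q183, e3 q325 L4615 q544, e3 q326 (flp_f L2394) q184, e3 q327 L4637 q549, e3 q328 (flp_f L4447) q516, e3 q329 (flp_f L2412) q301, e3 q330 L4673 q556, e3 q331 (flp_f L2418) q186, e3 q332 (flp_f L4475) q520, e3 q333 (flp_f L4479) q521, e3 q334 L4705 q563, e3 q335 L78082 q335, e3 q336 L81680 q523, e3 q337 L4737 q569, e3 q338 (flp_f L2444) q189, e3 q339 (flp_f L4743) q570, e3 q340 L2452 q233, e3 q341 (flp_f L2496) q345, e3 q342 (flp_f L2466) q235, e3 q343 L4791 q578, e3 q344 (flp_f L2482) q193, e3 q345 L2496 q341, e3 q346 L2504 q240, e3 q347 (flp_f L2538) q351, e3 q348 L2516 q244, e3 q349 L4846 q585, e3 q350 (flp_f L2528) q198, e3 q351 L2538 q347, e3 q352 L49634 q352, e3 q353 L49763 q353, e3 q354 L4985 q592, e3 q355 (flp_f L2591) q202, e3 q356 L2652 q364, e3 q357 L5011 q595, e3 q358 (flp_f L2609) q203, e3 q359 L2689 q371, e3 q360 L5047 q598, e3 q361 (flp_f L2631) q206, e3 q362 L5078 q603, e3 q363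 L2645 q219, e3 q364 (flp_f L2652) q356, e3 q365 L82412 q447, e3 q366 (flp_f L2660) q208, e3 q367 L5131 q608, e3 q368 (flp_f L2671) q209, e3 q369 L5157 q613, e3 q370 L2683 q224, e3 q371 (flp_f L2689) q359, e3 q372 L73367 q465, e3 q373 (flp_f L2697) q211, e3 q374 L2711 q227, e3 q375 L81808 q375, e3 q376 (flp_f L73437) q473, e3 q377 L81381 q472, e3 q378 L5274 q626, e3 q379 (flp_f L2735) q216, e3 q380 L3131 q439, e3 q381 (flp_f L5063) q600, e3 q382 L5326 q635, e3 q383 (flp_f L50316) q384, trivial⟩ (by decide +kernel)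

theorem ce_f_6 : ∀ r, r < 64 → sm gf (Qf (384 + r)) = Qf (tab Gen.f (384 + r)) :=
  edges_tab (sm gf) Qf (tab Gen.f) 384 [(384, 383), (385, 260), (386, 637), (387, 262), (388, 220), (389, 639), (390, 221), (391, 452), (392, 610), (393, 648), (394, 461), (395, 614), (396, 271), (397, 654), (398, 656), (399, 225), (400, 467), (401, 275), (402, 618), (403, 276), (404, 665), (405, 229), (406, 667), (407, 230), (408, 408), (409, 430), (410, 574), (411, 674), (412, 234), (413, 303), (414, 576), (415, 678), (416, 236), (417, 251), (418, 429), (419, 580), (420, 684), (421, 686), (422, 241), (423, 583), (424, 689), (425, 245), (426, 668), (427, 250), (428, 428), (429, 418), (430, 409), (431, 702), (432, 691), (433, 680), (434, 707), (435, 709), (436, 252), (437, 714), (438, 438), (439, 380), (440, 719), (441, 254), (442, 442), (443, 632), (444, 257), (445, 634), (446, 636), (447, 365)]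
    ⟨e3 q384 L50316 q383, e3 q385 L82376 q260, e3 q386 L5370 q637, e3 q387 (flp_f L73194) q262, e3 q388 (flp_f L2779) q220, e3 q389 L5398 q639, e3 q390 (flp_f L2787) q221, e3 q391 L3287 q452, e3 q392 (flp_f L5143) q610, e3 q393 L5430 q648, e3 q394 (flp_f L81093) q461, e3 q395 (flp_f L5175) q614, e3 q396 L75447 q271, e3 q397 L5480 q654, e3 q398 L5492 q656, e3 q399 (flp_f L2835) q225, e3 q400 (flp_f L80956) q467, e3 q401 L81283 q275, e3 q402 (flp_f L5217) q618, e3 q403 (flp_f L80945) q276, e3 q404 L5573 q665, e3 q405 (flp_f L2871) q229, e3 q406 L5589 q667, e3 q407 (flp_f L2881) q230, e3 q408 L2896 q408, e3 q409 (flp_f L3034) q430, e3 q410 (flp_f L4763) q574, e3 q411 L5637 q674, e3 q412 (flp_f L2914) q234, e3 q413 L2930 q303, e3 q414 (flp_f L4777) q576, e3 q415 L5669 q678, e3 q416 (flp_f L2942) q236, e3 q417 L65332 q251, e3 q418 (flp_f L3024) q429, e3 q419 (flp_f L4813) q580, e3 q420 L5721 q684, e3 q421 L5733 q686, e3 q422 (flp_f L2979) q241, e3 q423 (flp_f L4827) q583, e3 q424 L5777 q689, e3 q425 (flp_f L3003) q245,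 e3 q426 (flp_f L5595) q668, e3 q427 (flp_f L65362) q250, e3 q428 L58165 q428, e3 q429 L3024 q418, e3 q430 L3034 q409, e3 q431 L5859 q702, e3 q432 L65542 q691, e3 q433 (flp_f L65514) q680, e3 q434 L5948 q707, e3 q435 L5958 q709, e3 q436 (flp_f L3106) q252, e3 q437 L5984 q714, e3 q438 L3124 q438, e3 q439 (flp_f L3131) q380, e3 q440 L6030 q719, e3 q441 (flp_f L3140) q254, e3 q442 L3159 q442, e3 q443 (flp_f L82364) q632, e3 q444 L80051 q257, e3 q445 (flp_f L82397) q634, e3 q446 (flp_f L81274) q636, e3 q447 (flp_f L82412) q365, trivial⟩ (by decide +kernel)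

theorem ce_f_7 : ∀ r, r < 64 → sm gf (Qf (448 + r)) = Qf (tab Gen.f (448 + r)) :=
  edges_tab (sm gf) Qf (tab Gen.f) 448 [(448, 726), (449, 263), (450, 731), (451, 728), (452, 391), (453, 738), (454, 265), (455, 455), (456, 456), (457, 645), (458, 746), (459, 268), (460, 747), (461, 394), (462, 650), (463, 652), (464, 273), (465, 372), (466, 754), (467, 400), (468, 759), (469, 659), (470, 661), (471, 279), (472, 377), (473, 376), (474, 764), (475, 771), (476, 280), (477, 773), (478, 281), (479, 479), (480, 285), (481, 481), (482, 776), (483, 286), (484, 662), (485, 291), (486, 785), (487, 488), (488, 487), (489, 489), (490, 490), (491, 491), (492, 791), (493, 296), (494, 532), (495, 794), (496, 299), (497, 547), (498, 797), (499, 304), (500, 510), (501, 802), (502, 305), (503, 517), (504, 504), (505, 566), (506, 807), (507, 308), (508, 812), (509, 321), (510, 500), (511, 815)]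
    ⟨e3 q448 L6322 q726, e3 q449 (flp_f L3275) q263, e3 q450 L6345 q731, e3 q451 (flp_f L6334) q728, e3 q452 (flp_f L3287) q391, e3 q453 L6368 q738, e3 q454 (flp_f L3291) q265, e3 q455 L3308 q455, e3 q456 L68521 q456, e3 q457 (flp_f L81145) q645, e3 q458 L6436 q746, e3 q459 (flp_f L3325) q268, e3 q460 (flp_f L6444) q747, e3 q461 L81093 q394, e3 q462 (flp_f L81294) q650, e3 q463 L82075 q652, e3 q464 L3385 q273, e3 q465 (flp_f L73367) q372, e3 q466 (flp_f L6565) q754, e3 q467 L80956 q400, e3 q468 L81837 q759, e3 q469 (flp_f L75532) q659, e3 q470 (flp_f L81976) q661, e3 q471 L3470 q279, e3 q472 (flp_f L81381) q377, e3 q473 L73437 q376, e3 q474 (flp_f L6780) q764, e3 q475 L6849 q771, e3 q476 (flp_f L3508) q280, e3 q477 L6867 q773, e3 q478 (flp_f L3520) q281, e3 q479 L3532 q479, e3 q480 (flp_f L3540) q285, e3 q481 L3546 q481, e3 q482 L6894 q776, e3 q483 (flp_f L3560) q286, e3 q484 L82066 q662, e3 q485 (flp_f L3595) q291, e3 q486 L7018 q785, e3 q487 (flp_f L3717) q488, e3 q488 L3717 q487, e3 q489 L67269 q489, e3 q490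 L67283 q490, e3 q491 L67252 q491, e3 q492 L7755 q791, e3 q493 (flp_f L3993) q296, e3 q494 L4571 q532, e3 q495 L7803 q794, e3 q496 (flp_f L4019) q299, e3 q497 L4631 q547, e3 q498 L8517 q797, e3 q499 (flp_f L4351) q304, e3 q500 L4415 q510, e3 q501 L8545 q802, e3 q502 (flp_f L4371) q305, e3 q503 L4455 q517, e3 q504 L58398 q504, e3 q505 (flp_f L78721) q566, e3 q506 L8591 q807, e3 q507 (flp_f L4397) q308, e3 q508 L8621 q812, e3 q509 L4409 q321, e3 q510 (flp_f L4415) q500, e3 q511 L8659 q815, trivial⟩ (by decide +kernel)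

theorem ce_f_8 : ∀ r, r < 64 → sm gf (Qf (512 + r)) = Qf (tab Gen.f (512 + r)) :=
  edges_tab (sm gf) Qf (tab Gen.f) 512 [(512, 310), (513, 819), (514, 311), (515, 824), (516, 328), (517, 503), (518, 831), (519, 313), (520, 332), (521, 333), (522, 527), (523, 336), (524, 571), (525, 839), (526, 316), (527, 522), (528, 843), (529, 318), (530, 848), (531, 809), (532, 494), (533, 855), (534, 320), (535, 536), (536, 535), (537, 858), (538, 538), (539, 814), (540, 863), (541, 323), (542, 864), (543, 868), (544, 325), (545, 873), (546, 821), (547, 497), (548, 880), (549, 327), (550, 825), (551, 826), (552, 887), (553, 553), (554, 828), (555, 893), (556, 330), (557, 894), (558, 558), (559, 833), (560, 834), (561, 902), (562, 903), (563, 334), (564, 564), (565, 565), (566, 505), (567, 836), (568, 909), (569, 337), (570, 339), (571, 524), (572, 912), (573, 913), (574, 410), (575, 579)]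
    ⟨e3 q512 (flp_f L4423) q310, e3 q513 L8673 q819, e3 q514 (flp_f L4435) q311, e3 q515 L8699 q824, e3 q516 L4447 q328, e3 q517 (flp_f L4455) q503, e3 q518 L8743 q831, e3 q519 (flp_f L4463) q313, e3 q520 L4475 q332, e3 q521 L4479 q333, e3 q522 L81669 q527, e3 q523 (flp_f L81680) q336, e3 q524 L4749 q571, e3 q525 L8797 q839, e3 q526 (flp_f L4497) q316, e3 q527 (flp_f L81669) q522, e3 q528 L8935 q843, e3 q529 (flp_f L4551) q318, e3 q530 L8967 q848, e3 q531 (flp_f L8607) q809, e3 q532 (flp_f L4571) q494, e3 q533 L9001 q855, e3 q534 (flp_f L4577) q320, e3 q535 (flp_f L69506) q536, e3 q536 L69506 q535, e3 q537 L69527 q858, e3 q538 L78090 q538, e3 q539 (flp_f L81641) q814, e3 q540 L9075 q863, e3 q541 (flp_f L4605) q323, e3 q542 (flp_f L9083) q864, e3 q543 L9107 q868, e3 q544 (flp_f L4615) q325, e3 q545 L9121 q873, e3 q546 (flp_f L8685) q821, e3 q547 (flp_f L4631) q497, e3 q548 L9151 q880, e3 q549 (flp_f L4637) q327, e3 q550 (flp_f L8711) q825, e3 q551 (flp_f L8717) q826, e3 q552 L9193 q887, e3 q553 L78072 q553, e3 q554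 L81762 q828, e3 q555 L9239 q893, e3 q556 (flp_f L4673) q330, e3 q557 (flp_f L9249) q894, e3 q558 L64627 q558, e3 q559 (flp_f L8757) q833, e3 q560 (flp_f L8763) q834, e3 q561 L9315 q902, e3 q562 L81537 q903, e3 q563 (flp_f L4705) q334, e3 q564 L77498 q564, e3 q565 L82106 q565, e3 q566 L78721 q505, e3 q567 L82551 q836, e3 q568 L9393 q909, e3 q569 (flp_f L4737) q337, e3 q570 L4743 q339, e3 q571 (flp_f L4749) q524, e3 q572 (flp_f L9411) q912, e3 q573 (flp_f L9415) q913, e3 q574 L4763 q410, e3 q575 (flp_f L4805) q579, trivial⟩ (by decide +kernel)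

theorem ce_f_9 : ∀ r, r < 64 → sm gf (Qf (576 + r)) = Qf (tab Gen.f (576 + r)) :=
  edges_tab (sm gf) Qf (tab Gen.f) 576 [(576, 414), (577, 923), (578, 343), (579, 575), (580, 419), (581, 587), (582, 929), (583, 423), (584, 931), (585, 349), (586, 910), (587, 581), (588, 588), (589, 589), (590, 590), (591, 941), (592, 354), (593, 601), (594, 945), (595, 357), (596, 611), (597, 949), (598, 360), (599, 954), (600, 381), (601, 593), (602, 722), (603, 362), (604, 604), (605, 724), (606, 963), (607, 967), (608, 367), (609, 972), (610, 392), (611, 596), (612, 748), (613, 369), (614, 395), (615, 615), (616, 756), (617, 755), (618, 402), (619, 619), (620, 620), (621, 768), (622, 765), (623, 766), (624, 987), (625, 989), (626, 378), (627, 712), (628, 951), (629, 998), (630, 631), (631, 630), (632, 443), (633, 1001), (634, 445), (635, 382), (636, 446), (637, 386), (638, 1004), (639, 389)]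
    ⟨e3 q576 L4777 q414, e3 q577 L9494 q923, e3 q578 (flp_f L4791) q343, e3 q579 L4805 q575, e3 q580 L4813 q419, e3 q581 (flp_f L4860) q587, e3 q582 L9526 q929, e3 q583 L4827 q423, e3 q584 L9577 q931, e3 q585 (flp_f L4846) q349, e3 q586 (flp_f L9399) q910, e3 q587 L4860 q581, e3 q588 L70066 q588, e3 q589 L70058 q589, e3 q590 L49756 q590, e3 q591 L9819 q941, e3 q592 (flp_f L4985) q354, e3 q593 L5070 q601, e3 q594 L9873 q945, e3 q595 (flp_f L5011) q357, e3 q596 L5149 q611, e3 q597 L9973 q949, e3 q598 (flp_f L5047) q360, e3 q599 L10009 q954, e3 q600 L5063 q381, e3 q601 (flp_f L5070) q593, e3 q602 (flp_f L73272) q722, e3 q603 (flp_f L5078) q362, e3 q604 L81227 q604, e3 q605 L81388 q724, e3 q606 L10145 q963, e3 q607 L10161 q967, e3 q608 (flp_f L5131) q367, e3 q609 L10179 q972, e3 q610 L5143 q392, e3 q611 (flp_f L5149) q596, e3 q612 (flp_f L82326) q748, e3 q613 (flp_f L5157) q369, e3 q614 L5175 q395, e3 q615 L81766 q615, e3 q616 (flp_f L82285) q756, e3 q617 (flp_f L82289) q755, e3 q618 L5217 q402, e3 q619 L75146 q619,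 e3 q620 L74159 q620, e3 q621 L82237 q768, e3 q622 (flp_f L81296) q765, e3 q623 L78602 q766, e3 q624 L10473 q987, e3 q625 L10481 q989, e3 q626 (flp_f L5274) q378, e3 q627 L5978 q712, e3 q628 (flp_f L9991) q951, e3 q629 L10533 q998, e3 q630 L69748 q631, e3 q631 (flp_f L69748) q630, e3 q632 L82364 q443, e3 q633 L10585 q1001, e3 q634 L82397 q445, e3 q635 (flp_f L5326) q382, e3 q636 L81274 q446, e3 q637 (flp_f L5370) q386, e3 q638 L10737 q1004, e3 q639 (flp_f L5398) q389, trivial⟩ (by decide +kernel)

theorem ce_f_10 : ∀ r, r < 64 → sm gf (Qf (640 + r)) = Qf (tab Gen.f (640 + r)) :=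
  edges_tab (sm gf) Qf (tab Gen.f) 640 [(640, 1009), (641, 1006), (642, 1015), (643, 742), (644, 973), (645, 457), (646, 1021), (647, 1023), (648, 393), (649, 750), (650, 462), (651, 977), (652, 463), (653, 1033), (654, 397), (655, 1036), (656, 398), (657, 657), (658, 758), (659, 469), (660, 983), (661, 470), (662, 484), (663, 700), (664, 694), (665, 404), (666, 1043), (667, 406), (668, 426), (669, 699), (670, 916), (671, 917), (672, 1053), (673, 1055), (674, 411), (675, 920), (676, 1061), (677, 1062), (678, 415), (679, 1037), (680, 433), (681, 698), (682, 1069), (683, 761), (684, 420), (685, 782), (686, 421), (687, 762), (688, 930), (689, 424), (690, 1044), (691, 432), (692, 1045), (693, 784), (694, 664), (695, 695), (696, 696), (697, 697), (698, 681), (699, 669), (700, 663), (701, 1083), (702, 431), (703, 1074)]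
    ⟨e3 q640 L10767 q1009, e3 q641 (flp_f L10753) q1006, e3 q642 L10795 q1015, e3 q643 L75374 q742, e3 q644 (flp_f L10195) q973, e3 q645 L81145 q457, e3 q646 L10837 q1021, e3 q647 L10847 q1023, e3 q648 (flp_f L5430) q393, e3 q649 L80975 q750, e3 q650 L81294 q462, e3 q651 (flp_f L10239) q977, e3 q652 (flp_f L82075) q463, e3 q653 L10958 q1033, e3 q654 (flp_f L5480) q397, e3 q655 L10980 q1036, e3 q656 (flp_f L5492) q398, e3 q657 L5518 q657, e3 q658 (flp_f L75576) q758, e3 q659 L75532 q469, e3 q660 (flp_f L10339) q983, e3 q661 L81976 q470, e3 q662 (flp_f L82066) q484, e3 q663 (flp_f L140344) q700, e3 q664 (flp_f L140377) q694, e3 q665 (flp_f L5573) q404, e3 q666 L11250 q1043, e3 q667 (flp_f L5589) q406, e3 q668 L5595 q426, e3 q669 (flp_f L5833) q699, e3 q670 (flp_f L9451) q916, e3 q671 (flp_f L9455) q917, e3 q672 L11346 q1053, e3 q673 L11358 q1055, e3 q674 (flp_f L5637) q411, e3 q675 (flp_f L9471) q920, e3 q676 L11414 q1061, e3 q677 L11418 q1062, e3 q678 (flp_f L5669) q415, e3 q679 (flp_f L10988) q1037, e3 q680 L65514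 q433, e3 q681 (flp_f L5827) q698, e3 q682 L11519 q1069, e3 q683 (flp_f L131755) q761, e3 q684 (flp_f L5721) q420, e3 q685 (flp_f L82047) q782, e3 q686 (flp_f L5733) q421, e3 q687 (flp_f L142571) q762, e3 q688 (flp_f L9536) q930, e3 q689 (flp_f L5777) q424, e3 q690 (flp_f L11258) q1044, e3 q691 (flp_f L65542) q432, e3 q692 (flp_f L11270) q1045, e3 q693 (flp_f L77935) q784, e3 q694 L140377 q664, e3 q695 L64953 q695, e3 q696 L58134 q696, e3 q697 L5820 q697, e3 q698 L5827 q681, e3 q699 L5833 q669, e3 q700 L140344 q663, e3 q701 L11849 q1083, e3 q702 (flp_f L5859) q431, e3 q703 L65406 q1074, trivial⟩ (by decide +kernel)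

theorem ce_f_11 : ∀ r, r < 64 → sm gf (Qf (704 + r)) = Qf (tab Gen.f (704 + r)) :=
  edges_tab (sm gf) Qf (tab Gen.f) 704 [(704, 1064), (705, 1088), (706, 1091), (707, 434), (708, 1096), (709, 435), (710, 1100), (711, 1093), (712, 627), (713, 1107), (714, 437), (715, 715), (716, 716), (717, 995), (718, 1114), (719, 440), (720, 1002), (721, 999), (722, 602), (723, 1119), (724, 605), (725, 1125), (726, 448), (727, 729), (728, 451), (729, 727), (730, 1135), (731, 450), (732, 1129), (733, 1130), (734, 1143), (735, 1146), (736, 1149), (737, 1151), (738, 453), (739, 1152), (740, 740), (741, 741), (742, 643), (743, 1017), (744, 1019), (745, 1165), (746, 458), (747, 460), (748, 612), (749, 1167), (750, 649), (751, 1172), (752, 1026), (753, 1029), (754, 466), (755, 617), (756, 616), (757, 1178), (758, 658), (759, 468), (760, 1186), (761, 683), (762, 687), (763, 1039), (764, 474), (765, 622), (766, 623), (767, 1197)]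
    ⟨e3 q704 L65647 q1064, e3 q705 L11976 q1088, e3 q706 L11993 q1091, e3 q707 (flp_f L5948) q434, e3 q708 L12020 q1096, e3 q709 (flp_f L5958) q435, e3 q710 L12044 q1100, e3 q711 (flp_f L12005) q1093, e3 q712 (flp_f L5978) q627, e3 q713 L12083 q1107, e3 q714 (flp_f L5984) q437, e3 q715 L6005 q715, e3 q716 L68523 q716, e3 q717 L75327 q995, e3 q718 L12175 q1114, e3 q719 (flp_f L6030) q440, e3 q720 L82466 q1002, e3 q721 L81201 q999, e3 q722 L73272 q602, e3 q723 (flp_f L81240) q1119, e3 q724 (flp_f L81388) q605, e3 q725 L12820 q1125, e3 q726 (flp_f L6322) q448, e3 q727 L6339 q729, e3 q728 L6334 q451, e3 q729 (flp_f L6339) q727, e3 q730 L12850 q1135, e3 q731 (flp_f L6345) q450, e3 q732 (flp_f L12830) q1129, e3 q733 (flp_f L12834) q1130, e3 q734 L12878 q1143, e3 q735 L12890 q1146, e3 q736 L12900 q1149, e3 q737 L12910 q1151, e3 q738 (flp_f L6368) q453, e3 q739 (flp_f L12918) q1152, e3 q740 L6393 q740, e3 q741 L50677 q741, e3 q742 (flp_f L75374) q643, e3 q743 L75401 q1017, e3 q744 L80524 q1019, e3 q745 L13068 q1165, e3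 q746 (flp_f L6436) q458, e3 q747 L6444 q460, e3 q748 L82326 q612, e3 q749 (flp_f L13082) q1167, e3 q750 (flp_f L80975) q649, e3 q751 (flp_f L81306) q1172, e3 q752 L81902 q1026, e3 q753 L75664 q1029, e3 q754 L6565 q466, e3 q755 L82289 q617, e3 q756 L82285 q616, e3 q757 (flp_f L13372) q1178, e3 q758 L75576 q658, e3 q759 (flp_f L81837) q468, e3 q760 (flp_f L81841) q1186, e3 q761 L131755 q683, e3 q762 L142571 q687, e3 q763 (flp_f L75621) q1039, e3 q764 L6780 q474, e3 q765 L81296 q622, e3 q766 (flp_f L78602) q623, e3 q767 L13906 q1197, trivial⟩ (by decide +kernel)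

theorem ce_f_12 : ∀ r, r < 64 → sm gf (Qf (768 + r)) = Qf (tab Gen.f (768 + r)) :=
  edges_tab (sm gf) Qf (tab Gen.f) 768 [(768, 621), (769, 1192), (770, 1200), (771, 475), (772, 1203), (773, 477), (774, 1030), (775, 775), (776, 482), (777, 777), (778, 1208), (779, 1214), (780, 1040), (781, 1041), (782, 685), (783, 1196), (784, 693), (785, 486), (786, 786), (787, 787), (788, 788), (789, 789), (790, 1222), (791, 492), (792, 846), (793, 1225), (794, 495), (795, 871), (796, 1230), (797, 498), (798, 810), (799, 799), (800, 862), (801, 1235), (802, 501), (803, 822), (804, 804), (805, 890), (806, 1241), (807, 506), (808, 1246), (809, 531), (810, 798), (811, 1249), (812, 508), (813, 816), (814, 539), (815, 511), (816, 813), (817, 1253), (818, 1256), (819, 513), (820, 1261), (821, 546), (822, 803), (823, 1268), (824, 515), (825, 550), (826, 551), (827, 832), (828, 554), (829, 895), (830, 1276), (831, 518)]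
    ⟨e3 q768 (flp_f L82237) q621, e3 q769 (flp_f L13863) q1192, e3 q770 L14019 q1200, e3 q771 (flp_f L6849) q475, e3 q772 L14038 q1203, e3 q773 (flp_f L6867) q477, e3 q774 (flp_f L82063) q1030, e3 q775 L6885 q775, e3 q776 (flp_f L6894) q482, e3 q777 L6898 q777, e3 q778 L14101 q1208, e3 q779 L14136 q1214, e3 q780 (flp_f L131728) q1040, e3 q781 L73873 q1041, e3 q782 L82047 q685, e3 q783 L81941 q1196, e3 q784 L77935 q693, e3 q785 (flp_f L7018) q486, e3 q786 L62709 q786, e3 q787 L62760 q787, e3 q788 L67255 q788, e3 q789 L65919 q789, e3 q790 L15800 q1222, e3 q791 (flp_f L7755) q492, e3 q792 L8959 q846, e3 q793 L15916 q1225, e3 q794 (flp_f L7803) q495, e3 q795 L9117 q871, e3 q796 L17477 q1230, e3 q797 (flp_f L8517) q498, e3 q798 L8613 q810, e3 q799 L58532 q799, e3 q800 (flp_f L78868) q862, e3 q801 L17527 q1235, e3 q802 (flp_f L8545) q501, e3 q803 L8691 q822, e3 q804 L58408 q804, e3 q805 L78765 q890, e3 q806 L17644 q1241, e3 q807 (flp_f L8591) q506, e3 q808 L17680 q1246, e3 q809 L8607 q531, e3 q810 (flp_f L8613) q798,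 e3 q811 L17722 q1249, e3 q812 (flp_f L8621) q508, e3 q813 (flp_f L74539) q816, e3 q814 L81641 q539, e3 q815 (flp_f L8659) q511, e3 q816 L74539 q813, e3 q817 L17812 q1253, e3 q818 L17822 q1256, e3 q819 (flp_f L8673) q513, e3 q820 L17840 q1261, e3 q821 L8685 q546, e3 q822 (flp_f L8691) q803, e3 q823 L17876 q1268, e3 q824 (flp_f L8699) q515, e3 q825 L8711 q550, e3 q826 L8717 q551, e3 q827 L81610 q832, e3 q828 (flp_f L81762) q554, e3 q829 L9257 q895, e3 q830 L17948 q1276, e3 q831 (flp_f L8743) q518, trivial⟩ (by decide +kernel)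

theorem ce_f_13 : ∀ r, r < 64 → sm gf (Qf (832 + r)) = Qf (tab Gen.f (832 + r)) :=
  edges_tab (sm gf) Qf (tab Gen.f) 832 [(832, 827), (833, 559), (834, 560), (835, 840), (836, 567), (837, 911), (838, 1216), (839, 525), (840, 835), (841, 1288), (842, 1290), (843, 528), (844, 1295), (845, 1243), (846, 792), (847, 1302), (848, 530), (849, 850), (850, 849), (851, 1306), (852, 852), (853, 1248), (854, 1312), (855, 533), (856, 1313), (857, 857), (858, 537), (859, 1316), (860, 860), (861, 861), (862, 800), (863, 540), (864, 542), (865, 1319), (866, 1320), (867, 1323), (868, 543), (869, 1328), (870, 1325), (871, 795), (872, 1335), (873, 545), (874, 1262), (875, 1263), (876, 1342), (877, 877), (878, 1265), (879, 1348), (880, 548), (881, 1349), (882, 882), (883, 1270), (884, 1271), (885, 1358), (886, 1359), (887, 552), (888, 888), (889, 889), (890, 805), (891, 1273), (892, 1366), (893, 555), (894, 557), (895, 829)]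
    ⟨e3 q832 (flp_f L81610) q827, e3 q833 L8757 q559, e3 q834 L8763 q560, e3 q835 L78612 q840, e3 q836 (flp_f L82551) q567, e3 q837 L9407 q911, e3 q838 L140022 q1216, e3 q839 (flp_f L8797) q525, e3 q840 (flp_f L78612) q835, e3 q841 L18397 q1288, e3 q842 L18405 q1290, e3 q843 (flp_f L8935) q528, e3 q844 L18429 q1295, e3 q845 (flp_f L17662) q1243, e3 q846 (flp_f L8959) q792, e3 q847 L18471 q1302, e3 q848 (flp_f L8967) q530, e3 q849 (flp_f L69492) q850, e3 q850 L69492 q849, e3 q851 L69329 q1306, e3 q852 L78919 q852, e3 q853 (flp_f L81444) q1248, e3 q854 L18557 q1312, e3 q855 (flp_f L9001) q533, e3 q856 (flp_f L18567) q1313, e3 q857 L64665 q857, e3 q858 (flp_f L69527) q537, e3 q859 L78149 q1316, e3 q860 L78624 q860, e3 q861 L78104 q861, e3 q862 L78868 q800, e3 q863 (flp_f L9075) q540, e3 q864 L9083 q542, e3 q865 (flp_f L18743) q1319, e3 q866 (flp_f L18747) q1320, e3 q867 L18789 q1323, e3 q868 (flp_f L9107) q543, e3 q869 L18809 q1328, e3 q870 (flp_f L18799) q1325, e3 q871 (flp_f L9117) q795, e3 q872 L18831 q1335, e3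 q873 (flp_f L9121) q545, e3 q874 (flp_f L17852) q1262, e3 q875 (flp_f L17856) q1263, e3 q876 L18865 q1342, e3 q877 L79066 q877, e3 q878 L81615 q1265, e3 q879 L18903 q1348, e3 q880 (flp_f L9151) q548, e3 q881 (flp_f L18911) q1349, e3 q882 L64656 q882, e3 q883 (flp_f L17894) q1270, e3 q884 (flp_f L17900) q1271, e3 q885 L18989 q1358, e3 q886 L81549 q1359, e3 q887 (flp_f L9193) q552, e3 q888 L77511 q888, e3 q889 L77984 q889, e3 q890 (flp_f L78765) q805, e3 q891 (flp_f L81772) q1273, e3 q892 L19103 q1366, e3 q893 (flp_f L9239) q555, e3 q894 L9249 q557, e3 q895 (flp_f L9257) q829, trivial⟩ (by decide +kernel)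

theorem ce_f_14 : ∀ r, r < 64 → sm gf (Qf (896 + r)) = Qf (tab Gen.f (896 + r)) :=
  edges_tab (sm gf) Qf (tab Gen.f) 896 [(896, 1369), (897, 1370), (898, 1279), (899, 1280), (900, 1376), (901, 1375), (902, 561), (903, 562), (904, 1188), (905, 905), (906, 906), (907, 1281), (908, 1380), (909, 568), (910, 586), (911, 837), (912, 572), (913, 573), (914, 1195), (915, 1193), (916, 670), (917, 671), (918, 925), (919, 1391), (920, 675), (921, 1396), (922, 1397), (923, 577), (924, 1367), (925, 918), (926, 935), (927, 928), (928, 927), (929, 582), (930, 688), (931, 584), (932, 1381), (933, 1383), (934, 1075), (935, 926), (936, 936), (937, 937), (938, 938), (939, 939), (940, 1410), (941, 591), (942, 952), (943, 1414), (944, 1417), (945, 594), (946, 970), (947, 1422), (948, 1425), (949, 597), (950, 1430), (951, 628), (952, 942), (953, 1115), (954, 599), (955, 955), (956, 1118), (957, 957), (958, 958), (959, 1121)]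
    ⟨e3 q896 (flp_f L19127) q1369, e3 q897 (flp_f L19133) q1370, e3 q898 (flp_f L17993) q1279, e3 q899 (flp_f L18003) q1280, e3 q900 L19289 q1376, e3 q901 (flp_f L141938) q1375, e3 q902 (flp_f L9315) q561, e3 q903 (flp_f L81537) q562, e3 q904 L141916 q1188, e3 q905 L78075 q905, e3 q906 L82148 q906, e3 q907 L82560 q1281, e3 q908 L19477 q1380, e3 q909 (flp_f L9393) q568, e3 q910 L9399 q586, e3 q911 (flp_f L9407) q837, e3 q912 L9411 q572, e3 q913 L9415 q573, e3 q914 (flp_f L141209) q1195, e3 q915 L141245 q1193, e3 q916 L9451 q670, e3 q917 L9455 q671, e3 q918 (flp_f L9510) q925, e3 q919 L19617 q1391, e3 q920 L9471 q675, e3 q921 L19686 q1396, e3 q922 L19692 q1397, e3 q923 (flp_f L9494) q577, e3 q924 (flp_f L19111) q1367, e3 q925 L9510 q918, e3 q926 (flp_f L9601) q935, e3 q927 (flp_f L141218) q928, e3 q928 L141218 q927, e3 q929 (flp_f L9526) q582, e3 q930 L9536 q688, e3 q931 (flp_f L9577) q584, e3 q932 (flp_f L19485) q1381, e3 q933 (flp_f L19497) q1383, e3 q934 L71377 q1075, e3 q935 L9601 q926, e3 q936 L68191 q936, e3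 q937 L49707 q937, e3 q938 L49747 q938, e3 q939 L49773 q939, e3 q940 L20385 q1410, e3 q941 (flp_f L9819) q591, e3 q942 L9999 q952, e3 q943 L20519 q1414, e3 q944 L20529 q1417, e3 q945 (flp_f L9873) q594, e3 q946 L10175 q970, e3 q947 L20733 q1422, e3 q948 L20749 q1425, e3 q949 (flp_f L9973) q597, e3 q950 L20773 q1430, e3 q951 L9991 q628, e3 q952 (flp_f L9999) q942, e3 q953 L82348 q1115, e3 q954 (flp_f L10009) q599, e3 q955 L81231 q955, e3 q956 (flp_f L82346) q1118, e3 q957 L75139 q957, e3 q958 L81221 q958, e3 q959 (flp_f L75100) q1121, trivial⟩ (by decide +kernel)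

theorem ce_f_15 : ∀ r, r < 64 → sm gf (Qf (960 + r)) = Qf (tab Gen.f (960 + r)) :=
  edges_tab (sm gf) Qf (tab Gen.f) 960 [(960, 1122), (961, 1442), (962, 1444), (963, 606), (964, 1449), (965, 1451), (966, 1453), (967, 607), (968, 1458), (969, 1446), (970, 946), (971, 1465), (972, 609), (973, 644), (974, 974), (975, 1169), (976, 1168), (977, 651), (978, 978), (979, 979), (980, 1182), (981, 1179), (982, 1180), (983, 660), (984, 1198), (985, 1481), (986, 1484), (987, 624), (988, 1489), (989, 625), (990, 1098), (991, 1486), (992, 1497), (993, 1000), (994, 1431), (995, 717), (996, 1503), (997, 1505), (998, 629), (999, 721), (1000, 993), (1001, 633), (1002, 720), (1003, 1510), (1004, 638), (1005, 1007), (1006, 641), (1007, 1005), (1008, 1520), (1009, 640), (1010, 1514), (1011, 1515), (1012, 1527), (1013, 1530), (1014, 1532), (1015, 642), (1016, 1160), (1017, 743), (1018, 1467), (1019, 744), (1020, 1543), (1021, 646), (1022, 1546), (1023, 647)]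
    ⟨e3 q960 L80085 q1122, e3 q961 L21097 q1442, e3 q962 L21113 q1444, e3 q963 (flp_f L10145) q606, e3 q964 L21135 q1449, e3 q965 L21153 q1451, e3 q966 L21169 q1453, e3 q967 (flp_f L10161) q607, e3 q968 L21191 q1458, e3 q969 (flp_f L21123) q1446, e3 q970 (flp_f L10175) q946, e3 q971 L21215 q1465, e3 q972 (flp_f L10179) q609, e3 q973 L10195 q644, e3 q974 L81030 q974, e3 q975 L80568 q1169, e3 q976 (flp_f L75019) q1168, e3 q977 L10239 q651, e3 q978 L82307 q978, e3 q979 L74174 q979, e3 q980 (flp_f L77879) q1182, e3 q981 L75057 q1179, e3 q982 (flp_f L81883) q1180, e3 q983 L10339 q660, e3 q984 (flp_f L82170) q1198, e3 q985 L21708 q1481, e3 q986 L21725 q1484, e3 q987 (flp_f L10473) q624, e3 q988 L21755 q1489, e3 q989 (flp_f L10481) q625, e3 q990 L12038 q1098, e3 q991 (flp_f L21741) q1486, e3 q992 L21799 q1497, e3 q993 L50400 q1000, e3 q994 (flp_f L20795) q1431, e3 q995 (flp_f L75327) q717, e3 q996 L21855 q1503, e3 q997 L21867 q1505, e3 q998 (flp_f L10533) q629, e3 q999 (flp_f L81201) q721, e3 q1000 (flp_f L50400) q993,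 e3 q1001 (flp_f L10585) q633, e3 q1002 (flp_f L82466) q720, e3 q1003 L22305 q1510, e3 q1004 (flp_f L10737) q638, e3 q1005 L10759 q1007, e3 q1006 L10753 q641, e3 q1007 (flp_f L10759) q1005, e3 q1008 L22349 q1520, e3 q1009 (flp_f L10767) q640, e3 q1010 (flp_f L22325) q1514, e3 q1011 (flp_f L22329) q1515, e3 q1012 L22381 q1527, e3 q1013 L22397 q1530, e3 q1014 L22409 q1532, e3 q1015 (flp_f L10795) q642, e3 q1016 (flp_f L81102) q1160, e3 q1017 (flp_f L75401) q743, e3 q1018 (flp_f L21231) q1467, e3 q1019 (flp_f L80524) q744, e3 q1020 L22499 q1543, e3 q1021 (flp_f L10837) q646, e3 q1022 L22515 q1546, e3 q1023 (flp_f L10847) q647, trivial⟩ (by decide +kernel)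

theorem ce_f_16 : ∀ r, r < 64 → sm gf (Qf (1024 + r)) = Qf (tab Gen.f (1024 + r)) :=
  edges_tab (sm gf) Qf (tab Gen.f) 1024 [(1024, 1024), (1025, 1171), (1026, 752), (1027, 1473), (1028, 1474), (1029, 753), (1030, 774), (1031, 1081), (1032, 1562), (1033, 653), (1034, 1566), (1035, 1567), (1036, 655), (1037, 679), (1038, 1185), (1039, 763), (1040, 780), (1041, 781), (1042, 1067), (1043, 666), (1044, 690), (1045, 692), (1046, 1080), (1047, 1079), (1048, 1576), (1049, 1386), (1050, 1581), (1051, 1583), (1052, 1586), (1053, 672), (1054, 1206), (1055, 673), (1056, 1191), (1057, 1392), (1058, 1393), (1059, 1593), (1060, 1596), (1061, 676), (1062, 677), (1063, 1568), (1064, 704), (1065, 1569), (1066, 1213), (1067, 1042), (1068, 1174), (1069, 682), (1070, 1189), (1071, 1187), (1072, 1377), (1073, 1571), (1074, 703), (1075, 934), (1076, 1076), (1077, 1077), (1078, 1078), (1079, 1047), (1080, 1046), (1081, 1031), (1082, 1615), (1083, 701), (1084, 1600), (1085, 1598), (1086, 1621), (1087, 1624)]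
    ⟨e3 q1024 L10881 q1024, e3 q1025 L75684 q1171, e3 q1026 (flp_f L81902) q752, e3 q1027 (flp_f L21315) q1473, e3 q1028 (flp_f L21319) q1474, e3 q1029 (flp_f L75664) q753, e3 q1030 L82063 q774, e3 q1031 (flp_f L140326) q1081, e3 q1032 L22798 q1562, e3 q1033 (flp_f L10958) q653, e3 q1034 L22836 q1566, e3 q1035 L22840 q1567, e3 q1036 (flp_f L10980) q655, e3 q1037 L10988 q679, e3 q1038 L80890 q1185, e3 q1039 L75621 q763, e3 q1040 L131728 q780, e3 q1041 (flp_f L73873) q781, e3 q1042 L137083 q1067, e3 q1043 (flp_f L11250) q666, e3 q1044 L11258 q690, e3 q1045 L11270 q692, e3 q1046 (flp_f L11774) q1080, e3 q1047 (flp_f L11766) q1079, e3 q1048 L23509 q1576, e3 q1049 (flp_f L19597) q1386, e3 q1050 L23523 q1581, e3 q1051 L23539 q1583, e3 q1052 L23555 q1586, e3 q1053 (flp_f L11346) q672, e3 q1054 L73832 q1206, e3 q1055 (flp_f L11358) q673, e3 q1056 (flp_f L131585) q1191, e3 q1057 (flp_f L19629) q1392, e3 q1058 (flp_f L19637) q1393, e3 q1059 L23713 q1593, e3 q1060 L23719 q1596, e3 q1061 (flp_f L11414) q676, e3 q1062 (flp_f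 L11418) q677, e3 q1063 (flp_f L22850) q1568, e3 q1064 (flp_f L65647) q704, e3 q1065 (flp_f L22864) q1569, e3 q1066 L82052 q1213, e3 q1067 (flp_f L137083) q1042, e3 q1068 (flp_f L142596) q1174, e3 q1069 (flp_f L11519) q682, e3 q1070 L142169 q1189, e3 q1071 L142113 q1187, e3 q1072 (flp_f L19527) q1377, e3 q1073 (flp_f L23349) q1571, e3 q1074 (flp_f L65406) q703, e3 q1075 (flp_f L71377) q934, e3 q1076 L64955 q1076, e3 q1077 L58128 q1077, e3 q1078 L11761 q1078, e3 q1079 L11766 q1047, e3 q1080 L11774 q1046, e3 q1081 L140326 q1031, e3 q1082 L24645 q1615, e3 q1083 (flp_f L11849) q701, e3 q1084 (flp_f L65510) q1600, e3 q1085 (flp_f L65512) q1598, e3 q1086 L24873 q1621, e3 q1087 L24885 q1624, trivial⟩ (by decide +kernel)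

theorem ce_f_17 : ∀ r, r < 64 → sm gf (Qf (1088 + r)) = Qf (tab Gen.f (1088 + r)) :=
  edges_tab (sm gf) Qf (tab Gen.f) 1088 [(1088, 705), (1089, 1094), (1090, 1629), (1091, 706), (1092, 1634), (1093, 711), (1094, 1089), (1095, 1641), (1096, 708), (1097, 1631), (1098, 990), (1099, 1649), (1100, 710), (1101, 1635), (1102, 1636), (1103, 1657), (1104, 1660), (1105, 1663), (1106, 1665), (1107, 713), (1108, 1666), (1109, 1109), (1110, 1110), (1111, 1499), (1112, 1501), (1113, 1677), (1114, 718), (1115, 953), (1116, 1507), (1117, 1683), (1118, 956), (1119, 723), (1120, 1687), (1121, 959), (1122, 960), (1123, 1690), (1124, 1693), (1125, 725), (1126, 1698), (1127, 1695), (1128, 1704), (1129, 732), (1130, 733), (1131, 1139), (1132, 1712), (1133, 1153), (1134, 1716), (1135, 730), (1136, 1717), (1137, 1723), (1138, 1706), (1139, 1131), (1140, 1707), (1141, 1733), (1142, 1736), (1143, 734), (1144, 1740), (1145, 1742), (1146, 735), (1147, 1746), (1148, 1750), (1149, 736), (1150, 1754), (1151, 737)]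
    ⟨e3 q1088 (flp_f L11976) q705, e3 q1089 L12012 q1094, e3 q1090 L24908 q1629, e3 q1091 (flp_f L11993) q706, e3 q1092 L24934 q1634, e3 q1093 L12005 q711, e3 q1094 (flp_f L12012) q1089, e3 q1095 L24976 q1641, e3 q1096 (flp_f L12020) q708, e3 q1097 (flp_f L24920) q1631, e3 q1098 (flp_f L12038) q990, e3 q1099 L25006 q1649, e3 q1100 (flp_f L12044) q710, e3 q1101 (flp_f L24946) q1635, e3 q1102 (flp_f L24952) q1636, e3 q1103 L25050 q1657, e3 q1104 L25068 q1660, e3 q1105 L25084 q1663, e3 q1106 L25096 q1665, e3 q1107 (flp_f L12083) q713, e3 q1108 (flp_f L25106) q1666, e3 q1109 L12116 q1109, e3 q1110 L50666 q1110, e3 q1111 (flp_f L81153) q1499, e3 q1112 (flp_f L81148) q1501, e3 q1113 (flp_f L79739) q1677, e3 q1114 (flp_f L12175) q718, e3 q1115 (flp_f L82348) q953, e3 q1116 L80645 q1507, e3 q1117 L81234 q1683, e3 q1118 L82346 q956, e3 q1119 L81240 q723, e3 q1120 L75186 q1687, e3 q1121 L75100 q959, e3 q1122 (flp_f L80085) q960, e3 q1123 L26652 q1690, e3 q1124 L26663 q1693, e3 q1125 (flp_f L12820) q725, e3 q1126 L26683 q1698,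 e3 q1127 (flp_f L26673) q1695, e3 q1128 L26701 q1704, e3 q1129 L12830 q732, e3 q1130 L12834 q733, e3 q1131 (flp_f L12864) q1139, e3 q1132 L26729 q1712, e3 q1133 L12924 q1153, e3 q1134 L26746 q1716, e3 q1135 (flp_f L12850) q730, e3 q1136 (flp_f L26752) q1717, e3 q1137 L26767 q1723, e3 q1138 (flp_f L26709) q1706, e3 q1139 L12864 q1131, e3 q1140 (flp_f L26714) q1707, e3 q1141 L26801 q1733, e3 q1142 L26817 q1736, e3 q1143 (flp_f L12878) q734, e3 q1144 L26827 q1740, e3 q1145 L26837 q1742, e3 q1146 (flp_f L12890) q735, e3 q1147 L26851 q1746, e3 q1148 L26861 q1750, e3 q1149 (flp_f L12900) q736, e3 q1150 L26877 q1754, e3 q1151 (flp_f L12910) q737, trivial⟩ (by decide +kernel)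

theorem ce_f_18 : ∀ r, r < 64 → sm gf (Qf (1152 + r)) = Qf (tab Gen.f (1152 + r)) :=
  edges_tab (sm gf) Qf (tab Gen.f) 1152 [(1152, 739), (1153, 1133), (1154, 1757), (1155, 1758), (1156, 1766), (1157, 1157), (1158, 1158), (1159, 1771), (1160, 1016), (1161, 1773), (1162, 1536), (1163, 1539), (1164, 1779), (1165, 745), (1166, 1755), (1167, 749), (1168, 976), (1169, 975), (1170, 1784), (1171, 1025), (1172, 751), (1173, 1793), (1174, 1068), (1175, 1551), (1176, 1555), (1177, 1556), (1178, 757), (1179, 981), (1180, 982), (1181, 1811), (1182, 980), (1183, 1804), (1184, 1805), (1185, 1038), (1186, 760), (1187, 1071), (1188, 904), (1189, 1070), (1190, 1194), (1191, 1056), (1192, 769), (1193, 915), (1194, 1190), (1195, 914), (1196, 783), (1197, 767), (1198, 984), (1199, 1820), (1200, 770), (1201, 1570), (1202, 1823), (1203, 772), (1204, 1557), (1205, 1558), (1206, 1054), (1207, 1207), (1208, 778), (1209, 1809), (1210, 1834), (1211, 1831), (1212, 1839), (1213, 1066), (1214, 779), (1215, 1285)]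
    ⟨e3 q1152 L12918 q739, e3 q1153 (flp_f L12924) q1133, e3 q1154 (flp_f L26897) q1757, e3 q1155 (flp_f L26901) q1758, e3 q1156 L26933 q1766, e3 q1157 L12978 q1157, e3 q1158 L50681 q1158, e3 q1159 L27047 q1771, e3 q1160 L81102 q1016, e3 q1161 (flp_f L81316) q1773, e3 q1162 (flp_f L81082) q1536, e3 q1163 (flp_f L80547) q1539, e3 q1164 L27223 q1779, e3 q1165 (flp_f L13068) q745, e3 q1166 (flp_f L26883) q1755, e3 q1167 L13082 q749, e3 q1168 L75019 q976, e3 q1169 (flp_f L80568) q975, e3 q1170 (flp_f L27251) q1784, e3 q1171 (flp_f L75684) q1025, e3 q1172 L81306 q751, e3 q1173 L81833 q1793, e3 q1174 L142596 q1068, e3 q1175 (flp_f L75732) q1551, e3 q1176 (flp_f L75726) q1555, e3 q1177 L80832 q1556, e3 q1178 L13372 q757, e3 q1179 (flp_f L75057) q981, e3 q1180 L81883 q982, e3 q1181 L27896 q1811, e3 q1182 L77879 q980, e3 q1183 (flp_f L27832) q1804, e3 q1184 (flp_f L27837) q1805, e3 q1185 (flp_f L80890) q1038, e3 q1186 L81841 q760, e3 q1187 (flp_f L142113) q1071, e3 q1188 (flp_f L141916) q904, e3 q1189 (flp_f L142169) q1070,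 e3 q1190 L81950 q1194, e3 q1191 L131585 q1056, e3 q1192 L13863 q769, e3 q1193 (flp_f L141245) q915, e3 q1194 (flp_f L81950) q1190, e3 q1195 L141209 q914, e3 q1196 (flp_f L81941) q783, e3 q1197 (flp_f L13906) q767, e3 q1198 L82170 q984, e3 q1199 L29043 q1820, e3 q1200 (flp_f L14019) q770, e3 q1201 L142139 q1570, e3 q1202 L29083 q1823, e3 q1203 (flp_f L14038) q772, e3 q1204 L82068 q1557, e3 q1205 L82070 q1558, e3 q1206 (flp_f L73832) q1054, e3 q1207 L14085 q1207, e3 q1208 (flp_f L14101) q778, e3 q1209 (flp_f L81877) q1809, e3 q1210 L29253 q1834, e3 q1211 L29217 q1831, e3 q1212 L29281 q1839, e3 q1213 (flp_f L82052) q1066, e3 q1214 (flp_f L14136) q779, e3 q1215 L139249 q1285, trivial⟩ (by decide +kernel)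

theorem ce_f_19 : ∀ r, r < 64 → sm gf (Qf (1216 + r)) = Qf (tab Gen.f (1216 + r)) :=
  edges_tab (sm gf) Qf (tab Gen.f) 1216 [(1216, 838), (1217, 1217), (1218, 1844), (1219, 1219), (1220, 1848), (1221, 1850), (1222, 790), (1223, 1293), (1224, 1855), (1225, 793), (1226, 1860), (1227, 1857), (1228, 1864), (1229, 1866), (1230, 796), (1231, 1244), (1232, 1232), (1233, 1310), (1234, 1871), (1235, 801), (1236, 1259), (1237, 1237), (1238, 1345), (1239, 1879), (1240, 1881), (1241, 806), (1242, 1886), (1243, 845), (1244, 1231), (1245, 1891), (1246, 808), (1247, 1250), (1248, 853), (1249, 811), (1250, 1247), (1251, 1895), (1252, 1899), (1253, 817), (1254, 1904), (1255, 1905), (1256, 818), (1257, 1910), (1258, 1901), (1259, 1236), (1260, 1917), (1261, 820), (1262, 874), (1263, 875), (1264, 1269), (1265, 878), (1266, 1350), (1267, 1925), (1268, 823), (1269, 1264), (1270, 883), (1271, 884), (1272, 1277), (1273, 891), (1274, 1368), (1275, 1937), (1276, 830), (1277, 1272), (1278, 1278), (1279, 898)]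
    ⟨e3 q1216 (flp_f L140022) q838, e3 q1217 L65910 q1217, e3 q1218 L32492 q1844, e3 q1219 L65923 q1219, e3 q1220 L32820 q1848, e3 q1221 L32828 q1850, e3 q1222 (flp_f L15800) q790, e3 q1223 L18423 q1293, e3 q1224 L33070 q1855, e3 q1225 (flp_f L15916) q793, e3 q1226 L33100 q1860, e3 q1227 (flp_f L33086) q1857, e3 q1228 L33128 q1864, e3 q1229 L36484 q1866, e3 q1230 (flp_f L17477) q796, e3 q1231 L17670 q1244, e3 q1232 L58536 q1232, e3 q1233 (flp_f L78701) q1310, e3 q1234 L36606 q1871, e3 q1235 (flp_f L17527) q801, e3 q1236 L17836 q1259, e3 q1237 L58414 q1237, e3 q1238 L78744 q1345, e3 q1239 L36798 q1879, e3 q1240 L36815 q1881, e3 q1241 (flp_f L17644) q806, e3 q1242 L36841 q1886, e3 q1243 L17662 q845, e3 q1244 (flp_f L17670) q1231, e3 q1245 L36891 q1891, e3 q1246 (flp_f L17680) q808, e3 q1247 L81517 q1250, e3 q1248 L81444 q853, e3 q1249 (flp_f L17722) q811, e3 q1250 (flp_f L81517) q1247, e3 q1251 L37163 q1895, e3 q1252 L37181 q1899, e3 q1253 (flp_f L17812) q817, e3 q1254 L37203 q1904, e3 q1255 L37211 q1905, e3 q1256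 (flp_f L17822) q818, e3 q1257 L37235 q1910, e3 q1258 (flp_f L37191) q1901, e3 q1259 (flp_f L17836) q1236, e3 q1260 L37261 q1917, e3 q1261 (flp_f L17840) q820, e3 q1262 L17852 q874, e3 q1263 L17856 q875, e3 q1264 (flp_f L74393) q1269, e3 q1265 (flp_f L81615) q878, e3 q1266 L18919 q1350, e3 q1267 L37315 q1925, e3 q1268 (flp_f L17876) q823, e3 q1269 L74393 q1264, e3 q1270 L17894 q883, e3 q1271 L17900 q884, e3 q1272 L81897 q1277, e3 q1273 L81772 q891, e3 q1274 L19121 q1368, e3 q1275 L37488 q1937, e3 q1276 (flp_f L17948) q830, e3 q1277 (flp_f L81897) q1272, e3 q1278 L64885 q1278, e3 q1279 L17993 q898, trivial⟩ (by decide +kernel)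

theorem ce_f_20 : ∀ r, r < 64 → sm gf (Qf (1280 + r)) = Qf (tab Gen.f (1280 + r)) :=
  edges_tab (sm gf) Qf (tab Gen.f) 1280 [(1280, 899), (1281, 907), (1282, 1942), (1283, 1382), (1284, 1840), (1285, 1215), (1286, 1947), (1287, 1950), (1288, 841), (1289, 1955), (1290, 842), (1291, 1959), (1292, 1952), (1293, 1223), (1294, 1966), (1295, 844), (1296, 1305), (1297, 1887), (1298, 1973), (1299, 1299), (1300, 1889), (1301, 1979), (1302, 847), (1303, 1980), (1304, 1304), (1305, 1296), (1306, 851), (1307, 1985), (1308, 1308), (1309, 1309), (1310, 1233), (1311, 1981), (1312, 854), (1313, 856), (1314, 1990), (1315, 1991), (1316, 859), (1317, 1994), (1318, 1318), (1319, 865), (1320, 866), (1321, 1995), (1322, 1997), (1323, 867), (1324, 1326), (1325, 870), (1326, 1324), (1327, 2007), (1328, 869), (1329, 2001), (1330, 2002), (1331, 2015), (1332, 2018), (1333, 2021), (1334, 2023), (1335, 872), (1336, 2024), (1337, 1337), (1338, 1919), (1339, 1920), (1340, 2036), (1341, 2037), (1342, 876), (1343, 1343)]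
    ⟨e3 q1280 L18003 q899, e3 q1281 (flp_f L82560) q907, e3 q1282 L139958 q1942, e3 q1283 L19493 q1382, e3 q1284 L139994 q1840, e3 q1285 (flp_f L139249) q1215, e3 q1286 L38668 q1947, e3 q1287 L38682 q1950, e3 q1288 (flp_f L18397) q841, e3 q1289 L38708 q1955, e3 q1290 (flp_f L18405) q842, e3 q1291 L38730 q1959, e3 q1292 (flp_f L38694) q1952, e3 q1293 (flp_f L18423) q1223, e3 q1294 L38768 q1966, e3 q1295 (flp_f L18429) q844, e3 q1296 L69486 q1305, e3 q1297 (flp_f L36863) q1887, e3 q1298 L38814 q1973, e3 q1299 L78922 q1299, e3 q1300 (flp_f L81619) q1889, e3 q1301 L38866 q1979, e3 q1302 (flp_f L18471) q847, e3 q1303 (flp_f L38878) q1980, e3 q1304 L64666 q1304, e3 q1305 (flp_f L69486) q1296, e3 q1306 (flp_f L69329) q851, e3 q1307 L78154 q1985, e3 q1308 L77449 q1308, e3 q1309 L78113 q1309, e3 q1310 L78701 q1233, e3 q1311 (flp_f L77425) q1981, e3 q1312 (flp_f L18557) q854, e3 q1313 L18567 q856, e3 q1314 (flp_f L39090) q1990, e3 q1315 (flp_f L39096) q1991, e3 q1316 (flp_f L78149) q859, e3 q1317 (flp_f L78144) q1994, e3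 q1318 L78134 q1318, e3 q1319 L18743 q865, e3 q1320 L18747 q866, e3 q1321 (flp_f L39487) q1995, e3 q1322 L39579 q1997, e3 q1323 (flp_f L18789) q867, e3 q1324 L18803 q1326, e3 q1325 L18799 q870, e3 q1326 (flp_f L18803) q1324, e3 q1327 L39607 q2007, e3 q1328 (flp_f L18809) q869, e3 q1329 (flp_f L39589) q2001, e3 q1330 (flp_f L39593) q2002, e3 q1331 L39635 q2015, e3 q1332 L39647 q2018, e3 q1333 L39657 q2021, e3 q1334 L39667 q2023, e3 q1335 (flp_f L18831) q872, e3 q1336 (flp_f L39675) q2024, e3 q1337 L64657 q1337, e3 q1338 (flp_f L37273) q1919, e3 q1339 (flp_f L37277) q1920, e3 q1340 L39739 q2036, e3 q1341 L77526 q2037, e3 q1342 (flp_f L18865) q876, e3 q1343 L77514 q1343, trivial⟩ (by decide +kernel)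

theorem ce_f_21 : ∀ r, r < 64 → sm gf (Qf (1344 + r)) = Qf (tab Gen.f (1344 + r)) :=
  edges_tab (sm gf) Qf (tab Gen.f) 1344 [(1344, 1344), (1345, 1238), (1346, 1922), (1347, 2046), (1348, 879), (1349, 881), (1350, 1266), (1351, 2049), (1352, 2050), (1353, 1928), (1354, 1929), (1355, 1930), (1356, 2061), (1357, 2063), (1358, 885), (1359, 886), (1360, 1817), (1361, 1361), (1362, 1362), (1363, 1932), (1364, 2074), (1365, 2075), (1366, 892), (1367, 924), (1368, 1274), (1369, 896), (1370, 897), (1371, 1818), (1372, 2081), (1373, 1940), (1374, 2064), (1375, 901), (1376, 900), (1377, 1072), (1378, 1378), (1379, 1941), (1380, 908), (1381, 932), (1382, 1283), (1383, 933), (1384, 1806), (1385, 2087), (1386, 1049), (1387, 1401), (1388, 1402), (1389, 2095), (1390, 1403), (1391, 919), (1392, 1057), (1393, 1058), (1394, 2100), (1395, 2103), (1396, 921), (1397, 922), (1398, 2076), (1399, 2078), (1400, 1605), (1401, 1387), (1402, 1388), (1403, 1390), (1404, 2079), (1405, 1405), (1406, 2114), (1407, 1407)]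
    ⟨e3 q1344 L79067 q1344, e3 q1345 (flp_f L78744) q1238, e3 q1346 (flp_f L81625) q1922, e3 q1347 L39831 q2046, e3 q1348 (flp_f L18903) q879, e3 q1349 L18911 q881, e3 q1350 (flp_f L18919) q1266, e3 q1351 (flp_f L39849) q2049, e3 q1352 (flp_f L39853) q2050, e3 q1353 (flp_f L37368) q1928, e3 q1354 (flp_f L37372) q1929, e3 q1355 (flp_f L37378) q1930, e3 q1356 L40013 q2061, e3 q1357 L40029 q2063, e3 q1358 (flp_f L18989) q885, e3 q1359 (flp_f L81549) q886, e3 q1360 L141812 q1817, e3 q1361 L77533 q1361, e3 q1362 L77988 q1362, e3 q1363 L74199 q1932, e3 q1364 L40245 q2074, e3 q1365 L40249 q2075, e3 q1366 (flp_f L19103) q892, e3 q1367 L19111 q924, e3 q1368 (flp_f L19121) q1274, e3 q1369 L19127 q896, e3 q1370 L19133 q897, e3 q1371 (flp_f L142208) q1818, e3 q1372 (flp_f L40299) q2081, e3 q1373 (flp_f L37631) q1940, e3 q1374 (flp_f L139291) q2064, e3 q1375 L141938 q901, e3 q1376 (flp_f L19289) q900, e3 q1377 L19527 q1072, e3 q1378 L73612 q1378, e3 q1379 L81716 q1941, e3 q1380 (flp_f L19477) q908, e3 q1381 L19485 q932, e3 q1382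 (flp_f L19493) q1283, e3 q1383 L19497 q933, e3 q1384 (flp_f L133308) q1806, e3 q1385 L41272 q2087, e3 q1386 L19597 q1049, e3 q1387 (flp_f L19722) q1401, e3 q1388 (flp_f L19732) q1402, e3 q1389 L41302 q2095, e3 q1390 L141849 q1403, e3 q1391 (flp_f L19617) q919, e3 q1392 L19629 q1057, e3 q1393 L19637 q1058, e3 q1394 L41408 q2100, e3 q1395 L41418 q2103, e3 q1396 (flp_f L19686) q921, e3 q1397 (flp_f L19692) q922, e3 q1398 (flp_f L40259) q2076, e3 q1399 (flp_f L40273) q2078, e3 q1400 (flp_f L71383) q1605, e3 q1401 L19722 q1387, e3 q1402 L19732 q1388, e3 q1403 (flp_f L141849) q1390, e3 q1404 L132138 q2079, e3 q1405 L49783 q1405, e3 q1406 L42504 q2114, e3 q1407 L49781 q1407, trivial⟩ (by decide +kernel)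

theorem ce_f_22 : ∀ r, r < 64 → sm gf (Qf (1408 + r)) = Qf (tab Gen.f (1408 + r)) :=
  edges_tab (sm gf) Qf (tab Gen.f) 1408 [(1408, 2118), (1409, 2121), (1410, 940), (1411, 1428), (1412, 2127), (1413, 2131), (1414, 943), (1415, 2136), (1416, 2137), (1417, 944), (1418, 1456), (1419, 2133), (1420, 2144), (1421, 2145), (1422, 947), (1423, 2150), (1424, 2151), (1425, 948), (1426, 2156), (1427, 2147), (1428, 1411), (1429, 2163), (1430, 950), (1431, 994), (1432, 1432), (1433, 1681), (1434, 1680), (1435, 1435), (1436, 1436), (1437, 1685), (1438, 1686), (1439, 1439), (1440, 1688), (1441, 2175), (1442, 961), (1443, 1447), (1444, 962), (1445, 2182), (1446, 969), (1447, 1443), (1448, 2189), (1449, 964), (1450, 2191), (1451, 965), (1452, 1908), (1453, 966), (1454, 2198), (1455, 2179), (1456, 1418), (1457, 2205), (1458, 968), (1459, 2183), (1460, 2184), (1461, 2213), (1462, 2216), (1463, 2219), (1464, 2221), (1465, 971), (1466, 2222), (1467, 1018), (1468, 1468), (1469, 1469), (1470, 1788), (1471, 1785)]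
    ⟨e3 q1408 L42660 q2118, e3 q1409 L42676 q2121, e3 q1410 (flp_f L20385) q940, e3 q1411 L20767 q1428, e3 q1412 L42900 q2127, e3 q1413 L42916 q2131, e3 q1414 (flp_f L20519) q943, e3 q1415 L42936 q2136, e3 q1416 L42942 q2137, e3 q1417 (flp_f L20529) q944, e3 q1418 L21185 q1456, e3 q1419 (flp_f L42926) q2133, e3 q1420 L42980 q2144, e3 q1421 L43286 q2145, e3 q1422 (flp_f L20733) q947, e3 q1423 L43338 q2150, e3 q1424 L43348 q2151, e3 q1425 (flp_f L20749) q948, e3 q1426 L43374 q2156, e3 q1427 (flp_f L43322) q2147, e3 q1428 (flp_f L20767) q1411, e3 q1429 L43412 q2163, e3 q1430 (flp_f L20773) q950, e3 q1431 L20795 q994, e3 q1432 L81037 q1432, e3 q1433 (flp_f L82330) q1681, e3 q1434 (flp_f L82335) q1680, e3 q1435 L75126 q1435, e3 q1436 L75198 q1436, e3 q1437 L81254 q1685, e3 q1438 (flp_f L80089) q1686, e3 q1439 L75162 q1439, e3 q1440 L81264 q1688, e3 q1441 L43974 q2175, e3 q1442 (flp_f L21097) q961, e3 q1443 L21129 q1447, e3 q1444 (flp_f L21113) q962, e3 q1445 L44020 q2182, e3 q1446 L21123 q969, e3 q1447 (flp_f L21129)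 q1443, e3 q1448 L44054 q2189, e3 q1449 (flp_f L21135) q964, e3 q1450 L44066 q2191, e3 q1451 (flp_f L21153) q965, e3 q1452 L37229 q1908, e3 q1453 (flp_f L21169) q966, e3 q1454 L44119 q2198, e3 q1455 (flp_f L44006) q2179, e3 q1456 (flp_f L21185) q1418, e3 q1457 L44147 q2205, e3 q1458 (flp_f L21191) q968, e3 q1459 (flp_f L44032) q2183, e3 q1460 (flp_f L44036) q2184, e3 q1461 L44179 q2213, e3 q1462 L44191 q2216, e3 q1463 L44201 q2219, e3 q1464 L44211 q2221, e3 q1465 (flp_f L21215) q971, e3 q1466 (flp_f L44217) q2222, e3 q1467 L21231 q1018, e3 q1468 L82318 q1468, e3 q1469 L81073 q1469, e3 q1470 (flp_f L80471) q1788, e3 q1471 L81330 q1785, trivial⟩ (by decide +kernel)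

theorem ce_f_23 : ∀ r, r < 64 → sm gf (Qf (1472 + r)) = Qf (tab Gen.f (1472 + r)) :=
  edges_tab (sm gf) Qf (tab Gen.f) 1472 [(1472, 1786), (1473, 1027), (1474, 1028), (1475, 1475), (1476, 1812), (1477, 1813), (1478, 1808), (1479, 2245), (1480, 2248), (1481, 985), (1482, 1487), (1483, 2252), (1484, 986), (1485, 2257), (1486, 991), (1487, 1482), (1488, 2264), (1489, 988), (1490, 2254), (1491, 2271), (1492, 2258), (1493, 2259), (1494, 2277), (1495, 2280), (1496, 2282), (1497, 992), (1498, 1506), (1499, 1111), (1500, 2165), (1501, 1112), (1502, 2292), (1503, 996), (1504, 2294), (1505, 997), (1506, 1498), (1507, 1116), (1508, 2300), (1509, 2302), (1510, 1003), (1511, 2307), (1512, 2304), (1513, 2313), (1514, 1010), (1515, 1011), (1516, 1524), (1517, 2321), (1518, 1533), (1519, 2325), (1520, 1008), (1521, 2326), (1522, 2331), (1523, 2315), (1524, 1516), (1525, 2316), (1526, 2341), (1527, 1012), (1528, 2344), (1529, 2348), (1530, 1013), (1531, 2352), (1532, 1014), (1533, 1518), (1534, 2358), (1535, 1772)]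
    ⟨e3 q1472 (flp_f L75022) q1786, e3 q1473 L21315 q1027, e3 q1474 L21319 q1028, e3 q1475 L74180 q1475, e3 q1476 (flp_f L77870) q1812, e3 q1477 (flp_f L77885) q1813, e3 q1478 (flp_f L81885) q1808, e3 q1479 L45120 q2245, e3 q1480 L45134 q2248, e3 q1481 (flp_f L21708) q985, e3 q1482 L21747 q1487, e3 q1483 L45161 q2252, e3 q1484 (flp_f L21725) q986, e3 q1485 L45197 q2257, e3 q1486 L21741 q991, e3 q1487 (flp_f L21747) q1482, e3 q1488 L45239 q2264, e3 q1489 (flp_f L21755) q988, e3 q1490 (flp_f L45179) q2254, e3 q1491 L45275 q2271, e3 q1492 (flp_f L45211) q2258, e3 q1493 (flp_f L45217) q2259, e3 q1494 L45309 q2277, e3 q1495 L45327 q2280, e3 q1496 L45339 q2282, e3 q1497 (flp_f L21799) q992, e3 q1498 (flp_f L69683) q1506, e3 q1499 L81153 q1111, e3 q1500 (flp_f L43436) q2165, e3 q1501 L81148 q1112, e3 q1502 L45463 q2292, e3 q1503 (flp_f L21855) q996, e3 q1504 L45485 q2294, e3 q1505 (flp_f L21867) q997, e3 q1506 L69683 q1498, e3 q1507 (flp_f L80645) q1116, e3 q1508 L46335 q2300, e3 q1509 L46349 q2302, e3 q1510 (flp_f L22305)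 q1003, e3 q1511 L46375 q2307, e3 q1512 (flp_f L46361) q2304, e3 q1513 L46399 q2313, e3 q1514 L22325 q1010, e3 q1515 L22329 q1011, e3 q1516 (flp_f L22371) q1524, e3 q1517 L46433 q2321, e3 q1518 L22419 q1533, e3 q1519 L46453 q2325, e3 q1520 (flp_f L22349) q1008, e3 q1521 (flp_f L46461) q2326, e3 q1522 L46483 q2331, e3 q1523 (flp_f L46411) q2315, e3 q1524 L22371 q1516, e3 q1525 (flp_f L46415) q2316, e3 q1526 L46523 q2341, e3 q1527 (flp_f L22381) q1012, e3 q1528 L46543 q2344, e3 q1529 L46557 q2348, e3 q1530 (flp_f L22397) q1013, e3 q1531 L46575 q2352, e3 q1532 (flp_f L22409) q1014, e3 q1533 (flp_f L22419) q1518, e3 q1534 L46651 q2358, e3 q1535 (flp_f L80540) q1772, trivial⟩ (by decide +kernel)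

theorem ce_f_24 : ∀ r, r < 64 → sm gf (Qf (1536 + r)) = Qf (tab Gen.f (1536 + r)) :=
  edges_tab (sm gf) Qf (tab Gen.f) 1536 [(1536, 1162), (1537, 2227), (1538, 2228), (1539, 1163), (1540, 2369), (1541, 2372), (1542, 2375), (1543, 1020), (1544, 2379), (1545, 2380), (1546, 1022), (1547, 2353), (1548, 1548), (1549, 1791), (1550, 1792), (1551, 1175), (1552, 2391), (1553, 2236), (1554, 2237), (1555, 1176), (1556, 1177), (1557, 1204), (1558, 1205), (1559, 1613), (1560, 2404), (1561, 1604), (1562, 1032), (1563, 2408), (1564, 2411), (1565, 2413), (1566, 1034), (1567, 1035), (1568, 1063), (1569, 1065), (1570, 1201), (1571, 1073), (1572, 2420), (1573, 1611), (1574, 2425), (1575, 2428), (1576, 1048), (1577, 2432), (1578, 2089), (1579, 2436), (1580, 2439), (1581, 1050), (1582, 1797), (1583, 1051), (1584, 1828), (1585, 2446), (1586, 1052), (1587, 1800), (1588, 2062), (1589, 2450), (1590, 2097), (1591, 2455), (1592, 2458), (1593, 1059), (1594, 2462), (1595, 2464), (1596, 1060), (1597, 2460), (1598, 1085), (1599, 2415)]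
    ⟨e3 q1536 L81082 q1162, e3 q1537 (flp_f L44260) q2227, e3 q1538 (flp_f L44264) q2228, e3 q1539 L80547 q1163, e3 q1540 L46707 q2369, e3 q1541 L46779 q2372, e3 q1542 L46787 q2375, e3 q1543 (flp_f L22499) q1020, e3 q1544 L46813 q2379, e3 q1545 L46817 q2380, e3 q1546 (flp_f L22515) q1022, e3 q1547 (flp_f L46581) q2353, e3 q1548 L22604 q1548, e3 q1549 (flp_f L75698) q1791, e3 q1550 (flp_f L75691) q1792, e3 q1551 L75732 q1175, e3 q1552 L47047 q2391, e3 q1553 (flp_f L44418) q2236, e3 q1554 (flp_f L44426) q2237, e3 q1555 L75726 q1176, e3 q1556 (flp_f L80832) q1177, e3 q1557 (flp_f L82068) q1204, e3 q1558 (flp_f L82070) q1205, e3 q1559 (flp_f L140315) q1613, e3 q1560 L47320 q2404, e3 q1561 L137269 q1604, e3 q1562 (flp_f L22798) q1032, e3 q1563 L47386 q2408, e3 q1564 L47400 q2411, e3 q1565 L47410 q2413, e3 q1566 (flp_f L22836) q1034, e3 q1567 (flp_f L22840) q1035, e3 q1568 L22850 q1063, e3 q1569 L22864 q1065, e3 q1570 (flp_f L142139) q1201, e3 q1571 L23349 q1073, e3 q1572 L83821 q2420, e3 q1573 (flp_f L24456) q1611, e3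 q1574 L83845 q2425, e3 q1575 L83857 q2428, e3 q1576 (flp_f L23509) q1048, e3 q1577 L83873 q2432, e3 q1578 (flp_f L41280) q2089, e3 q1579 L83897 q2436, e3 q1580 L83913 q2439, e3 q1581 (flp_f L23523) q1050, e3 q1582 L141126 q1797, e3 q1583 (flp_f L23539) q1051, e3 q1584 (flp_f L82656) q1828, e3 q1585 L83953 q2446, e3 q1586 (flp_f L23555) q1052, e3 q1587 (flp_f L142537) q1800, e3 q1588 (flp_f L40027) q2062, e3 q1589 L83977 q2450, e3 q1590 (flp_f L41332) q2097, e3 q1591 L84001 q2455, e3 q1592 L84013 q2458, e3 q1593 (flp_f L23713) q1059, e3 q1594 L84029 q2462, e3 q1595 L84045 q2464, e3 q1596 (flp_f L23719) q1060, e3 q1597 (flp_f L84023) q2460, e3 q1598 L65512 q1085, e3 q1599 (flp_f L47432) q2415, trivial⟩ (by decide +kernel)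

theorem ce_f_25 : ∀ r, r < 64 → sm gf (Qf (1600 + r)) = Qf (tab Gen.f (1600 + r)) :=
  edges_tab (sm gf) Qf (tab Gen.f) 1600 [(1600, 1084), (1601, 2416), (1602, 2417), (1603, 1837), (1604, 1561), (1605, 1400), (1606, 1796), (1607, 1794), (1608, 1608), (1609, 1609), (1610, 1610), (1611, 1573), (1612, 2484), (1613, 1559), (1614, 2489), (1615, 1082), (1616, 2466), (1617, 2492), (1618, 2495), (1619, 2498), (1620, 2500), (1621, 1086), (1622, 2505), (1623, 2508), (1624, 1087), (1625, 1632), (1626, 2502), (1627, 2517), (1628, 2518), (1629, 1090), (1630, 2523), (1631, 1097), (1632, 1625), (1633, 2530), (1634, 1092), (1635, 1101), (1636, 1102), (1637, 1653), (1638, 2539), (1639, 1667), (1640, 2543), (1641, 1095), (1642, 2544), (1643, 2524), (1644, 2525), (1645, 2554), (1646, 2557), (1647, 2560), (1648, 2562), (1649, 1099), (1650, 2563), (1651, 2570), (1652, 2533), (1653, 1637), (1654, 2534), (1655, 2580), (1656, 2583), (1657, 1103), (1658, 2587), (1659, 2589), (1660, 1104), (1661, 2593), (1662, 2597), (1663, 1105)]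
    ⟨e3 q1600 L65510 q1084, e3 q1601 (flp_f L47448) q2416, e3 q1602 (flp_f L47452) q2417, e3 q1603 (flp_f L82731) q1837, e3 q1604 (flp_f L137269) q1561, e3 q1605 L71383 q1400, e3 q1606 L142071 q1796, e3 q1607 (flp_f L142093) q1794, e3 q1608 L71675 q1608, e3 q1609 L71674 q1609, e3 q1610 L24449 q1610, e3 q1611 L24456 q1573, e3 q1612 L84210 q2484, e3 q1613 L140315 q1559, e3 q1614 L84243 q2489, e3 q1615 (flp_f L24645) q1082, e3 q1616 L84061 q2466, e3 q1617 L84257 q2492, e3 q1618 L84277 q2495, e3 q1619 L84292 q2498, e3 q1620 L84306 q2500, e3 q1621 (flp_f L24873) q1086, e3 q1622 L84332 q2505, e3 q1623 L84361 q2508, e3 q1624 (flp_f L24885) q1087, e3 q1625 L24926 q1632, e3 q1626 (flp_f L84318) q2502, e3 q1627 L84403 q2517, e3 q1628 L84407 q2518, e3 q1629 (flp_f L24908) q1090, e3 q1630 L84429 q2523, e3 q1631 L24920 q1097, e3 q1632 (flp_f L24926) q1625, e3 q1633 L84465 q2530, e3 q1634 (flp_f L24934) q1092, e3 q1635 L24946 q1101, e3 q1636 L24952 q1102, e3 q1637 (flp_f L25032) q1653, e3 q1638 L84511 q2539, e3 q1639 L25114 q1667,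 e3 q1640 L84534 q2543, e3 q1641 (flp_f L24976) q1095, e3 q1642 (flp_f L84544) q2544, e3 q1643 (flp_f L84441) q2524, e3 q1644 (flp_f L84445) q2525, e3 q1645 L84590 q2554, e3 q1646 L84605 q2557, e3 q1647 L84619 q2560, e3 q1648 L84630 q2562, e3 q1649 (flp_f L25006) q1099, e3 q1650 (flp_f L84640) q2563, e3 q1651 L84677 q2570, e3 q1652 (flp_f L84483) q2533, e3 q1653 L25032 q1637, e3 q1654 (flp_f L84488) q2534, e3 q1655 L84725 q2580, e3 q1656 L84747 q2583, e3 q1657 (flp_f L25050) q1103, e3 q1658 L84765 q2587, e3 q1659 L84777 q2589, e3 q1660 (flp_f L25068) q1104, e3 q1661 L84799 q2593, e3 q1662 L84815 q2597, e3 q1663 (flp_f L25084) q1105, trivial⟩ (by decide +kernel)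

theorem ce_f_26 : ∀ r, r < 64 → sm gf (Qf (1664 + r)) = Qf (tab Gen.f (1664 + r)) :=
  edges_tab (sm gf) Qf (tab Gen.f) 1664 [(1664, 2601), (1665, 1106), (1666, 1108), (1667, 1639), (1668, 2604), (1669, 2605), (1670, 2613), (1671, 1671), (1672, 1672), (1673, 2617), (1674, 2618), (1675, 2286), (1676, 2288), (1677, 1113), (1678, 2625), (1679, 2602), (1680, 1434), (1681, 1433), (1682, 2299), (1683, 1117), (1684, 2634), (1685, 1437), (1686, 1438), (1687, 1120), (1688, 1440), (1689, 2641), (1690, 1123), (1691, 1696), (1692, 2647), (1693, 1124), (1694, 2652), (1695, 1127), (1696, 1691), (1697, 2659), (1698, 1126), (1699, 2653), (1700, 2654), (1701, 2666), (1702, 2669), (1703, 2671), (1704, 1128), (1705, 2675), (1706, 1138), (1707, 1140), (1708, 1727), (1709, 2685), (1710, 2688), (1711, 2690), (1712, 1132), (1713, 2694), (1714, 1756), (1715, 2700), (1716, 1134), (1717, 1136), (1718, 2702), (1719, 2703), (1720, 2710), (1721, 2711), (1722, 2715), (1723, 1137), (1724, 2719), (1725, 2722), (1726, 2678), (1727, 1708)]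
    ⟨e3 q1664 L84837 q2601, e3 q1665 (flp_f L25096) q1106, e3 q1666 L25106 q1108, e3 q1667 (flp_f L25114) q1639, e3 q1668 (flp_f L84861) q2604, e3 q1669 (flp_f L84867) q2605, e3 q1670 L84905 q2613, e3 q1671 L25182 q1671, e3 q1672 L25185 q1672, e3 q1673 L84931 q2617, e3 q1674 (flp_f L84944) q2618, e3 q1675 L81005 q2286, e3 q1676 L83400 q2288, e3 q1677 L79739 q1113, e3 q1678 (flp_f L84987) q2625, e3 q1679 (flp_f L84845) q2602, e3 q1680 L82335 q1434, e3 q1681 L82330 q1433, e3 q1682 (flp_f L83387) q2299, e3 q1683 (flp_f L81234) q1117, e3 q1684 (flp_f L85051) q2634, e3 q1685 (flp_f L81254) q1437, e3 q1686 L80089 q1438, e3 q1687 (flp_f L75186) q1120, e3 q1688 (flp_f L81264) q1440, e3 q1689 L85121 q2641, e3 q1690 (flp_f L26652) q1123, e3 q1691 L26677 q1696, e3 q1692 L85142 q2647, e3 q1693 (flp_f L26663) q1124, e3 q1694 L85162 q2652, e3 q1695 L26673 q1127, e3 q1696 (flp_f L26677) q1691, e3 q1697 L85192 q2659, e3 q1698 (flp_f L26683) q1126, e3 q1699 (flp_f L85174) q2653, e3 q1700 (flp_f L85178) q2654, e3 q1701 L85215 q2666,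 e3 q1702 L85227 q2669, e3 q1703 L85236 q2671, e3 q1704 (flp_f L26701) q1128, e3 q1705 L85250 q2675, e3 q1706 L26709 q1138, e3 q1707 L26714 q1140, e3 q1708 (flp_f L26783) q1727, e3 q1709 L85288 q2685, e3 q1710 L85296 q2688, e3 q1711 L85305 q2690, e3 q1712 (flp_f L26729) q1132, e3 q1713 L85319 q2694, e3 q1714 L26891 q1756, e3 q1715 L85342 q2700, e3 q1716 (flp_f L26746) q1134, e3 q1717 L26752 q1136, e3 q1718 (flp_f L85351) q2702, e3 q1719 (flp_f L85355) q2703, e3 q1720 L85378 q2710, e3 q1721 L85388 q2711, e3 q1722 L85402 q2715, e3 q1723 (flp_f L26767) q1137, e3 q1724 L85418 q2719, e3 q1725 L85431 q2722, e3 q1726 (flp_f L85262) q2678, e3 q1727 L26783 q1708, trivial⟩ (by decide +kernel)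

theorem ce_f_27 : ∀ r, r < 64 → sm gf (Qf (1728 + r)) = Qf (tab Gen.f (1728 + r)) :=
  edges_tab (sm gf) Qf (tab Gen.f) 1728 [(1728, 2730), (1729, 2679), (1730, 2680), (1731, 2736), (1732, 2739), (1733, 1141), (1734, 1743), (1735, 2744), (1736, 1142), (1737, 2745), (1738, 2751), (1739, 2755), (1740, 1144), (1741, 2759), (1742, 1145), (1743, 1734), (1744, 2762), (1745, 2766), (1746, 1147), (1747, 2770), (1748, 2773), (1749, 2777), (1750, 1148), (1751, 2768), (1752, 2784), (1753, 2785), (1754, 1150), (1755, 1166), (1756, 1714), (1757, 1154), (1758, 1155), (1759, 1763), (1760, 2799), (1761, 2802), (1762, 2793), (1763, 1759), (1764, 2794), (1765, 2811), (1766, 1156), (1767, 1767), (1768, 2815), (1769, 2818), (1770, 2820), (1771, 1159), (1772, 1535), (1773, 1161), (1774, 2823), (1775, 2828), (1776, 2361), (1777, 2365), (1778, 2366), (1779, 1164), (1780, 2786), (1781, 2788), (1782, 2789), (1783, 2841), (1784, 1170), (1785, 1471), (1786, 1472), (1787, 2848), (1788, 1470), (1789, 2240), (1790, 2842), (1791, 1549)]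
    ⟨e3 q1728 L85459 q2730, e3 q1729 (flp_f L85266) q2679, e3 q1730 (flp_f L85271) q2680, e3 q1731 L85489 q2736, e3 q1732 L85507 q2739, e3 q1733 (flp_f L26801) q1141, e3 q1734 L26845 q1743, e3 q1735 L85523 q2744, e3 q1736 (flp_f L26817) q1142, e3 q1737 (flp_f L85529) q2745, e3 q1738 L85543 q2751, e3 q1739 L85553 q2755, e3 q1740 (flp_f L26827) q1144, e3 q1741 L85569 q2759, e3 q1742 (flp_f L26837) q1145, e3 q1743 (flp_f L26845) q1734, e3 q1744 L85589 q2762, e3 q1745 L85603 q2766, e3 q1746 (flp_f L26851) q1147, e3 q1747 L85619 q2770, e3 q1748 L85632 q2773, e3 q1749 L85646 q2777, e3 q1750 (flp_f L26861) q1148, e3 q1751 (flp_f L85613) q2768, e3 q1752 L85676 q2784, e3 q1753 L85680 q2785, e3 q1754 (flp_f L26877) q1150, e3 q1755 L26883 q1166, e3 q1756 (flp_f L26891) q1714, e3 q1757 L26897 q1154, e3 q1758 L26901 q1155, e3 q1759 (flp_f L26923) q1763, e3 q1760 L85740 q2799, e3 q1761 L85752 q2802, e3 q1762 (flp_f L85720) q2793, e3 q1763 L26923 q1759, e3 q1764 (flp_f L85724) q2794, e3 q1765 L85788 q2811, e3 q1766 (flp_f L26933)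 q1156, e3 q1767 L71008 q1767, e3 q1768 L118186 q2815, e3 q1769 L85824 q2818, e3 q1770 L85834 q2820, e3 q1771 (flp_f L27047) q1159, e3 q1772 L80540 q1535, e3 q1773 L81316 q1161, e3 q1774 (flp_f L85858) q2823, e3 q1775 L85876 q2828, e3 q1776 L80543 q2361, e3 q1777 (flp_f L82677) q2365, e3 q1778 L83382 q2366, e3 q1779 (flp_f L27223) q1164, e3 q1780 (flp_f L85688) q2786, e3 q1781 (flp_f L85700) q2788, e3 q1782 (flp_f L85704) q2789, e3 q1783 L85932 q2841, e3 q1784 L27251 q1170, e3 q1785 (flp_f L81330) q1471, e3 q1786 L75022 q1472, e3 q1787 L85968 q2848, e3 q1788 L80471 q1470, e3 q1789 (flp_f L82721) q2240, e3 q1790 (flp_f L85942) q2842, e3 q1791 L75698 q1549, trivial⟩ (by decide +kernel)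

theorem ce_f_28 : ∀ r, r < 64 → sm gf (Qf (1792 + r)) = Qf (tab Gen.f (1792 + r)) :=
  edges_tab (sm gf) Qf (tab Gen.f) 1792 [(1792, 1550), (1793, 1173), (1794, 1607), (1795, 2855), (1796, 1606), (1797, 1582), (1798, 1807), (1799, 2387), (1800, 1587), (1801, 2867), (1802, 2394), (1803, 2396), (1804, 1183), (1805, 1184), (1806, 1384), (1807, 1798), (1808, 1478), (1809, 1209), (1810, 2879), (1811, 1181), (1812, 1476), (1813, 1477), (1814, 2885), (1815, 2231), (1816, 2872), (1817, 1360), (1818, 1371), (1819, 2890), (1820, 1199), (1821, 2398), (1822, 2894), (1823, 1202), (1824, 1830), (1825, 2896), (1826, 2399), (1827, 2400), (1828, 1584), (1829, 1944), (1830, 1824), (1831, 1211), (1832, 2877), (1833, 2908), (1834, 1210), (1835, 2889), (1836, 2912), (1837, 1603), (1838, 2916), (1839, 1212), (1840, 1284), (1841, 2918), (1842, 2922), (1843, 2925), (1844, 1218), (1845, 2928), (1846, 2931), (1847, 2934), (1848, 1220), (1849, 2939), (1850, 1221), (1851, 1957), (1852, 2936), (1853, 2945), (1854, 2948), (1855, 1224)]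
    ⟨e3 q1792 L75691 q1550, e3 q1793 (flp_f L81833) q1173, e3 q1794 L142093 q1607, e3 q1795 (flp_f L86005) q2855, e3 q1796 (flp_f L142071) q1606, e3 q1797 (flp_f L141126) q1582, e3 q1798 (flp_f L74048) q1807, e3 q1799 L75707 q2387, e3 q1800 L142537 q1587, e3 q1801 L86101 q2867, e3 q1802 L82681 q2394, e3 q1803 L82683 q2396, e3 q1804 L27832 q1183, e3 q1805 L27837 q1184, e3 q1806 L133308 q1384, e3 q1807 L74048 q1798, e3 q1808 L81885 q1478, e3 q1809 L81877 q1209, e3 q1810 L86172 q2879, e3 q1811 (flp_f L27896) q1181, e3 q1812 L77870 q1476, e3 q1813 L77885 q1477, e3 q1814 L86212 q2885, e3 q1815 (flp_f L82713) q2231, e3 q1816 (flp_f L86126) q2872, e3 q1817 (flp_f L141812) q1360, e3 q1818 L142208 q1371, e3 q1819 L86619 q2890, e3 q1820 (flp_f L29043) q1199, e3 q1821 (flp_f L142515) q2398, e3 q1822 L86663 q2894, e3 q1823 (flp_f L29083) q1202, e3 q1824 L147463 q1830, e3 q1825 (flp_f L86686) q2896, e3 q1826 (flp_f L83449) q2399, e3 q1827 (flp_f L83451) q2400, e3 q1828 L82656 q1584, e3 q1829 L142225 q1944, e3 q1830 (flp_f L147463)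 q1824, e3 q1831 (flp_f L29217) q1211, e3 q1832 (flp_f L86162) q2877, e3 q1833 L86910 q2908, e3 q1834 (flp_f L29253) q1210, e3 q1835 (flp_f L147163) q2889, e3 q1836 L86964 q2912, e3 q1837 L82731 q1603, e3 q1838 L87000 q2916, e3 q1839 (flp_f L29281) q1212, e3 q1840 (flp_f L139994) q1284, e3 q1841 L87945 q2918, e3 q1842 L87965 q2922, e3 q1843 L87980 q2925, e3 q1844 (flp_f L32492) q1218, e3 q1845 L87996 q2928, e3 q1846 L88016 q2931, e3 q1847 L88038 q2934, e3 q1848 (flp_f L32820) q1220, e3 q1849 L88070 q2939, e3 q1850 (flp_f L32828) q1221, e3 q1851 L38724 q1957, e3 q1852 (flp_f L88055) q2936, e3 q1853 L88105 q2945, e3 q1854 L88118 q2948, e3 q1855 (flp_f L33070) q1224, trivial⟩ (by decide +kernel)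

theorem ce_f_29 : ∀ r, r < 64 → sm gf (Qf (1856 + r)) = Qf (tab Gen.f (1856 + r)) :=
  edges_tab (sm gf) Qf (tab Gen.f) 1856 [(1856, 1858), (1857, 1227), (1858, 1856), (1859, 2956), (1860, 1226), (1861, 2952), (1862, 2960), (1863, 2962), (1864, 1228), (1865, 2964), (1866, 1229), (1867, 1884), (1868, 1868), (1869, 1976), (1870, 2971), (1871, 1234), (1872, 2976), (1873, 2973), (1874, 2982), (1875, 1875), (1876, 2041), (1877, 2987), (1878, 2989), (1879, 1239), (1880, 2994), (1881, 1240), (1882, 2998), (1883, 2991), (1884, 1867), (1885, 3005), (1886, 1242), (1887, 1297), (1888, 1892), (1889, 1300), (1890, 3011), (1891, 1245), (1892, 1888), (1893, 3014), (1894, 3018), (1895, 1251), (1896, 1902), (1897, 3024), (1898, 3026), (1899, 1252), (1900, 3031), (1901, 1258), (1902, 1896), (1903, 3038), (1904, 1254), (1905, 1255), (1906, 3043), (1907, 3028), (1908, 1452), (1909, 3050), (1910, 1257), (1911, 3032), (1912, 3033), (1913, 3058), (1914, 3061), (1915, 3064), (1916, 3066), (1917, 1260), (1918, 3067), (1919, 1338)]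
    ⟨e3 q1856 L33092 q1858, e3 q1857 L33086 q1227, e3 q1858 (flp_f L33092) q1856, e3 q1859 L88157 q2956, e3 q1860 (flp_f L33100) q1226, e3 q1861 (flp_f L88139) q2952, e3 q1862 L88179 q2960, e3 q1863 L88192 q2962, e3 q1864 (flp_f L33128) q1228, e3 q1865 L88210 q2964, e3 q1866 (flp_f L36484) q1229, e3 q1867 L36835 q1884, e3 q1868 L71680 q1868, e3 q1869 L83328 q1976, e3 q1870 L88254 q2971, e3 q1871 (flp_f L36606) q1234, e3 q1872 L88285 q2976, e3 q1873 (flp_f L88274) q2973, e3 q1874 L88306 q2982, e3 q1875 L71679 q1875, e3 q1876 (flp_f L83333) q2041, e3 q1877 L88326 q2987, e3 q1878 L88342 q2989, e3 q1879 (flp_f L36798) q1239, e3 q1880 L88370 q2994, e3 q1881 (flp_f L36815) q1240, e3 q1882 L88397 q2998, e3 q1883 (flp_f L88354) q2991, e3 q1884 (flp_f L36835) q1867, e3 q1885 L88436 q3005, e3 q1886 (flp_f L36841) q1242, e3 q1887 L36863 q1297, e3 q1888 (flp_f L81586) q1892, e3 q1889 L81619 q1300, e3 q1890 L88470 q3011, e3 q1891 (flp_f L36891) q1245, e3 q1892 L81586 q1888, e3 q1893 L88498 q3014, e3 q1894 L88530 q3018, e3 q1895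 (flp_f L37163) q1251, e3 q1896 L37197 q1902, e3 q1897 L88556 q3024, e3 q1898 L88564 q3026, e3 q1899 (flp_f L37181) q1252, e3 q1900 L88590 q3031, e3 q1901 L37191 q1258, e3 q1902 (flp_f L37197) q1896, e3 q1903 L88622 q3038, e3 q1904 (flp_f L37203) q1254, e3 q1905 (flp_f L37211) q1255, e3 q1906 L88644 q3043, e3 q1907 (flp_f L88576) q3028, e3 q1908 (flp_f L37229) q1452, e3 q1909 L88676 q3050, e3 q1910 (flp_f L37235) q1257, e3 q1911 (flp_f L88600) q3032, e3 q1912 (flp_f L88604) q3033, e3 q1913 L88708 q3058, e3 q1914 L88720 q3061, e3 q1915 L88730 q3064, e3 q1916 L88740 q3066, e3 q1917 (flp_f L37261) q1260, e3 q1918 (flp_f L88746) q3067, e3 q1919 L37273 q1338, trivial⟩ (by decide +kernel)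

theorem ce_f_30 : ∀ r, r < 64 → sm gf (Qf (1920 + r)) = Qf (tab Gen.f (1920 + r)) :=
  edges_tab (sm gf) Qf (tab Gen.f) 1920 [(1920, 1339), (1921, 1926), (1922, 1346), (1923, 2048), (1924, 3083), (1925, 1267), (1926, 1921), (1927, 1927), (1928, 1353), (1929, 1354), (1930, 1355), (1931, 1938), (1932, 1363), (1933, 3097), (1934, 2077), (1935, 3103), (1936, 2913), (1937, 1275), (1938, 1931), (1939, 1939), (1940, 1373), (1941, 1379), (1942, 1282), (1943, 2080), (1944, 1829), (1945, 3108), (1946, 3110), (1947, 1286), (1948, 1953), (1949, 3114), (1950, 1287), (1951, 3119), (1952, 1292), (1953, 1948), (1954, 3126), (1955, 1289), (1956, 3116), (1957, 1851), (1958, 3134), (1959, 1291), (1960, 3120), (1961, 3121), (1962, 3142), (1963, 3145), (1964, 3148), (1965, 3150), (1966, 1294), (1967, 3151), (1968, 1968), (1969, 1984), (1970, 3007), (1971, 3162), (1972, 3163), (1973, 1298), (1974, 1974), (1975, 1975), (1976, 1869), (1977, 3009), (1978, 3171), (1979, 1301), (1980, 1303), (1981, 1311), (1982, 3174), (1983, 3175)]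
    ⟨e3 q1920 L37277 q1339, e3 q1921 (flp_f L81598) q1926, e3 q1922 L81625 q1346, e3 q1923 L39843 q2048, e3 q1924 L88810 q3083, e3 q1925 (flp_f L37315) q1267, e3 q1926 L81598 q1921, e3 q1927 L71677 q1927, e3 q1928 L37368 q1353, e3 q1929 L37372 q1354, e3 q1930 L37378 q1355, e3 q1931 (flp_f L78281) q1938, e3 q1932 (flp_f L74199) q1363, e3 q1933 L88907 q3097, e3 q1934 L40267 q2077, e3 q1935 L88948 q3103, e3 q1936 (flp_f L141990) q2913, e3 q1937 (flp_f L37488) q1275, e3 q1938 L78281 q1931, e3 q1939 L71968 q1939, e3 q1940 L37631 q1373, e3 q1941 (flp_f L81716) q1379, e3 q1942 (flp_f L139958) q1282, e3 q1943 (flp_f L139791) q2080, e3 q1944 (flp_f L142225) q1829, e3 q1945 L89022 q3108, e3 q1946 L89030 q3110, e3 q1947 (flp_f L38668) q1286, e3 q1948 L38700 q1953, e3 q1949 L89054 q3114, e3 q1950 (flp_f L38682) q1287, e3 q1951 L89088 q3119, e3 q1952 L38694 q1292, e3 q1953 (flp_f L38700) q1948, e3 q1954 L89128 q3126, e3 q1955 (flp_f L38708) q1289, e3 q1956 (flp_f L89074) q3116, e3 q1957 (flp_f L38724) q1851, e3 q1958 L89156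 q3134, e3 q1959 (flp_f L38730) q1291, e3 q1960 (flp_f L89100) q3120, e3 q1961 (flp_f L89106) q3121, e3 q1962 L89200 q3142, e3 q1963 L89218 q3145, e3 q1964 L89234 q3148, e3 q1965 L89246 q3150, e3 q1966 (flp_f L38768) q1294, e3 q1967 (flp_f L89256) q3151, e3 q1968 L71953 q1968, e3 q1969 (flp_f L72128) q1984, e3 q1970 (flp_f L88446) q3007, e3 q1971 L89310 q3162, e3 q1972 (flp_f L89328) q3163, e3 q1973 (flp_f L38814) q1298, e3 q1974 L82696 q1974, e3 q1975 L83335 q1975, e3 q1976 (flp_f L83328) q1869, e3 q1977 (flp_f L88462) q3009, e3 q1978 L89366 q3171, e3 q1979 (flp_f L38866) q1301, e3 q1980 L38878 q1303, e3 q1981 L77425 q1311, e3 q1982 (flp_f L89390) q3174, e3 q1983 (flp_f L89400) q3175, trivial⟩ (by decide +kernel)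

theorem ce_f_31 : ∀ r, r < 64 → sm gf (Qf (1984 + r)) = Qf (tab Gen.f (1984 + r)) :=
  edges_tab (sm gf) Qf (tab Gen.f) 1984 [(1984, 1969), (1985, 1307), (1986, 3180), (1987, 1987), (1988, 1988), (1989, 3173), (1990, 1314), (1991, 1315), (1992, 3186), (1993, 3187), (1994, 1317), (1995, 1321), (1996, 3192), (1997, 1322), (1998, 3197), (1999, 3194), (2000, 3203), (2001, 1329), (2002, 1330), (2003, 2011), (2004, 3211), (2005, 2025), (2006, 3215), (2007, 1327), (2008, 3216), (2009, 3222), (2010, 3205), (2011, 2003), (2012, 3206), (2013, 3231), (2014, 3234), (2015, 1331), (2016, 3238), (2017, 3240), (2018, 1332), (2019, 3244), (2020, 3248), (2021, 1333), (2022, 3251), (2023, 1334), (2024, 1336), (2025, 2005), (2026, 3254), (2027, 3255), (2028, 3263), (2029, 2029), (2030, 3268), (2031, 3073), (2032, 3074), (2033, 3075), (2034, 3276), (2035, 3279), (2036, 1340), (2037, 1341), (2038, 3281), (2039, 2039), (2040, 2040), (2041, 1876), (2042, 3291), (2043, 3078), (2044, 3296), (2045, 3297), (2046, 1347), (2047, 3252)]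
    ⟨e3 q1984 L72128 q1969, e3 q1985 (flp_f L78154) q1307, e3 q1986 (flp_f L89431) q3180, e3 q1987 L82699 q1987, e3 q1988 L82753 q1988, e3 q1989 L89382 q3173, e3 q1990 L39090 q1314, e3 q1991 L39096 q1315, e3 q1992 (flp_f L89472) q3186, e3 q1993 (flp_f L89480) q3187, e3 q1994 L78144 q1317, e3 q1995 L39487 q1321, e3 q1996 L89582 q3192, e3 q1997 (flp_f L39579) q1322, e3 q1998 L89606 q3197, e3 q1999 (flp_f L89596) q3194, e3 q2000 L89624 q3203, e3 q2001 L39589 q1329, e3 q2002 L39593 q1330, e3 q2003 (flp_f L39621) q2011, e3 q2004 L89650 q3211, e3 q2005 L39681 q2025, e3 q2006 L89666 q3215, e3 q2007 (flp_f L39607) q1327, e3 q2008 (flp_f L89672) q3216, e3 q2009 L89686 q3222, e3 q2010 (flp_f L89632) q3205, e3 q2011 L39621 q2003, e3 q2012 (flp_f L89636) q3206, e3 q2013 L89720 q3231, e3 q2014 L89736 q3234, e3 q2015 (flp_f L39635) q1331, e3 q2016 L89746 q3238, e3 q2017 L89756 q3240, e3 q2018 (flp_f L39647) q1332, e3 q2019 L89771 q3244, e3 q2020 L89783 q3248, e3 q2021 (flp_f L39657) q1333, e3 q2022 L89797 q3251, e3 q2023 (flp_f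 L39667) q1334, e3 q2024 L39675 q1336, e3 q2025 (flp_f L39681) q2005, e3 q2026 (flp_f L89817) q3254, e3 q2027 (flp_f L89821) q3255, e3 q2028 L89854 q3263, e3 q2029 L71952 q2029, e3 q2030 L89879 q3268, e3 q2031 (flp_f L88771) q3073, e3 q2032 (flp_f L88775) q3074, e3 q2033 (flp_f L88779) q3075, e3 q2034 L89907 q3276, e3 q2035 L89921 q3279, e3 q2036 (flp_f L39739) q1340, e3 q2037 (flp_f L77526) q1341, e3 q2038 (flp_f L89929) q3281, e3 q2039 L82700 q2039, e3 q2040 L83342 q2040, e3 q2041 L83333 q1876, e3 q2042 L89967 q3291, e3 q2043 (flp_f L88791) q3078, e3 q2044 L89981 q3296, e3 q2045 L89987 q3297, e3 q2046 (flp_f L39831) q1347, e3 q2047 (flp_f L89803) q3252, trivial⟩ (by decide +kernel)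

theorem ce_f_32 : ∀ r, r < 64 → sm gf (Qf (2048 + r)) = Qf (tab Gen.f (2048 + r)) :=
  edges_tab (sm gf) Qf (tab Gen.f) 2048 [(2048, 1923), (2049, 1351), (2050, 1352), (2051, 3304), (2052, 3305), (2053, 3088), (2054, 3089), (2055, 3315), (2056, 3091), (2057, 3092), (2058, 3322), (2059, 3324), (2060, 3323), (2061, 1356), (2062, 1588), (2063, 1357), (2064, 1374), (2065, 2858), (2066, 2066), (2067, 2067), (2068, 2068), (2069, 3094), (2070, 3095), (2071, 3337), (2072, 3340), (2073, 3342), (2074, 1364), (2075, 1365), (2076, 1398), (2077, 1934), (2078, 1399), (2079, 1404), (2080, 1943), (2081, 1372), (2082, 2876), (2083, 3349), (2084, 2873), (2085, 3356), (2086, 3359), (2087, 1385), (2088, 3363), (2089, 1578), (2090, 2110), (2091, 3368), (2092, 2093), (2093, 2092), (2094, 3372), (2095, 1389), (2096, 3375), (2097, 1590), (2098, 3380), (2099, 3383), (2100, 1394), (2101, 3387), (2102, 3388), (2103, 1395), (2104, 3385), (2105, 3345), (2106, 3347), (2107, 3348), (2108, 2473), (2109, 3399), (2110, 2090), (2111, 3403)]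
    ⟨e3 q2048 (flp_f L39843) q1923, e3 q2049 L39849 q1351, e3 q2050 L39853 q1352, e3 q2051 (flp_f L90019) q3304, e3 q2052 (flp_f L90025) q3305, e3 q2053 (flp_f L88845) q3088, e3 q2054 (flp_f L88853) q3089, e3 q2055 L90067 q3315, e3 q2056 (flp_f L88865) q3091, e3 q2057 (flp_f L88873) q3092, e3 q2058 L90099 q3322, e3 q2059 L90115 q3324, e3 q2060 L139079 q3323, e3 q2061 (flp_f L40013) q1356, e3 q2062 L40027 q1588, e3 q2063 (flp_f L40029) q1357, e3 q2064 L139291 q1374, e3 q2065 (flp_f L141825) q2858, e3 q2066 L82701 q2066, e3 q2067 L82745 q2067, e3 q2068 L82655 q2068, e3 q2069 (flp_f L88889) q3094, e3 q2070 (flp_f L88897) q3095, e3 q2071 L90243 q3337, e3 q2072 L90257 q3340, e3 q2073 L90267 q3342, e3 q2074 (flp_f L40245) q1364, e3 q2075 (flp_f L40249) q1365, e3 q2076 L40259 q1398, e3 q2077 (flp_f L40267) q1934, e3 q2078 L40273 q1399, e3 q2079 (flp_f L132138) q1404, e3 q2080 L139791 q1943, e3 q2081 L40299 q1372, e3 q2082 L141174 q2876, e3 q2083 (flp_f L90349) q3349, e3 q2084 L141250 q2873, e3 q2085 L90606 q3356, e3 q2086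 L90618 q3359, e3 q2087 (flp_f L41272) q1385, e3 q2088 L90636 q3363, e3 q2089 L41280 q1578, e3 q2090 (flp_f L41480) q2110, e3 q2091 L90656 q3368, e3 q2092 L140916 q2093, e3 q2093 (flp_f L140916) q2092, e3 q2094 L90690 q3372, e3 q2095 (flp_f L41302) q1389, e3 q2096 L90702 q3375, e3 q2097 L41332 q1590, e3 q2098 L90726 q3380, e3 q2099 L90738 q3383, e3 q2100 (flp_f L41408) q1394, e3 q2101 L90756 q3387, e3 q2102 L90762 q3388, e3 q2103 (flp_f L41418) q1395, e3 q2104 (flp_f L90750) q3385, e3 q2105 (flp_f L90289) q3345, e3 q2106 (flp_f L90305) q3347, e3 q2107 (flp_f L90311) q3348, e3 q2108 L84101 q2473, e3 q2109 L90828 q3399, e3 q2110 L41480 q2090, e3 q2111 L90900 q3403, trivial⟩ (by decide +kernel)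

theorem ce_f_33 : ∀ r, r < 64 → sm gf (Qf (2112 + r)) = Qf (tab Gen.f (2112 + r)) :=
  edges_tab (sm gf) Qf (tab Gen.f) 2112 [(2112, 3406), (2113, 3409), (2114, 1406), (2115, 3412), (2116, 3414), (2117, 3416), (2118, 1408), (2119, 3421), (2120, 3422), (2121, 1409), (2122, 2154), (2123, 3418), (2124, 3429), (2125, 3431), (2126, 3434), (2127, 1412), (2128, 2134), (2129, 3440), (2130, 3442), (2131, 1413), (2132, 3447), (2133, 1419), (2134, 2128), (2135, 3452), (2136, 1415), (2137, 1416), (2138, 2196), (2139, 3444), (2140, 3461), (2141, 3448), (2142, 3464), (2143, 3466), (2144, 1420), (2145, 1421), (2146, 2148), (2147, 1427), (2148, 2146), (2149, 3476), (2150, 1423), (2151, 1424), (2152, 3481), (2153, 3468), (2154, 2122), (2155, 3488), (2156, 1426), (2157, 3470), (2158, 3471), (2159, 3496), (2160, 3499), (2161, 3502), (2162, 3504), (2163, 1429), (2164, 3505), (2165, 1500), (2166, 2166), (2167, 2167), (2168, 2631), (2169, 2628), (2170, 2629), (2171, 2171), (2172, 2172), (2173, 2636), (2174, 2637), (2175, 1441)]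
    ⟨e3 q2112 L90926 q3406, e3 q2113 L90943 q3409, e3 q2114 (flp_f L42504) q1406, e3 q2115 L90963 q3412, e3 q2116 L90981 q3414, e3 q2117 L90993 q3416, e3 q2118 (flp_f L42660) q1408, e3 q2119 L91029 q3421, e3 q2120 L91037 q3422, e3 q2121 (flp_f L42676) q1409, e3 q2122 L43368 q2154, e3 q2123 (flp_f L91014) q3418, e3 q2124 L91080 q3429, e3 q2125 L91093 q3431, e3 q2126 L91109 q3434, e3 q2127 (flp_f L42900) q1412, e3 q2128 L42930 q2134, e3 q2129 L91135 q3440, e3 q2130 L91143 q3442, e3 q2131 (flp_f L42916) q1413, e3 q2132 L91173 q3447, e3 q2133 L42926 q1419, e3 q2134 (flp_f L42930) q2128, e3 q2135 L91196 q3452, e3 q2136 (flp_f L42936) q1415, e3 q2137 (flp_f L42942) q1416, e3 q2138 L44113 q2196, e3 q2139 (flp_f L91159) q3444, e3 q2140 L91229 q3461, e3 q2141 (flp_f L91184) q3448, e3 q2142 L91242 q3464, e3 q2143 L91251 q3466, e3 q2144 (flp_f L42980) q1420, e3 q2145 (flp_f L43286) q1421, e3 q2146 L43330 q2148, e3 q2147 L43322 q1427, e3 q2148 (flp_f L43330) q2146, e3 q2149 L91317 q3476, e3 q2150 (flp_f L43338) q1423, e3 q2151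 (flp_f L43348) q1424, e3 q2152 L91351 q3481, e3 q2153 (flp_f L91271) q3468, e3 q2154 (flp_f L43368) q2122, e3 q2155 L91383 q3488, e3 q2156 (flp_f L43374) q1426, e3 q2157 (flp_f L91285) q3470, e3 q2158 (flp_f L91291) q3471, e3 q2159 L91425 q3496, e3 q2160 L91443 q3499, e3 q2161 L91459 q3502, e3 q2162 L91471 q3504, e3 q2163 (flp_f L43412) q1429, e3 q2164 (flp_f L91481) q3505, e3 q2165 L43436 q1500, e3 q2166 L82668 q2166, e3 q2167 L83391 q2167, e3 q2168 (flp_f L85027) q2631, e3 q2169 (flp_f L85007) q2628, e3 q2170 (flp_f L85017) q2629, e3 q2171 L82651 q2171, e3 q2172 L82670 q2172, e3 q2173 (flp_f L85065) q2636, e3 q2174 (flp_f L85071) q2637, e3 q2175 (flp_f L43974) q1441, trivial⟩ (by decide +kernel)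

theorem ce_f_34 : ∀ r, r < 64 → sm gf (Qf (2176 + r)) = Qf (tab Gen.f (2176 + r)) :=
  edges_tab (sm gf) Qf (tab Gen.f) 2176 [(2176, 2180), (2177, 3478), (2178, 3527), (2179, 1455), (2180, 2176), (2181, 3534), (2182, 1445), (2183, 1459), (2184, 1460), (2185, 2209), (2186, 3543), (2187, 2223), (2188, 3547), (2189, 1448), (2190, 3548), (2191, 1450), (2192, 3041), (2193, 3552), (2194, 3559), (2195, 3520), (2196, 2138), (2197, 3566), (2198, 1454), (2199, 3528), (2200, 3529), (2201, 3574), (2202, 3577), (2203, 3580), (2204, 3582), (2205, 1457), (2206, 3583), (2207, 3590), (2208, 3537), (2209, 2185), (2210, 3538), (2211, 3599), (2212, 3602), (2213, 1461), (2214, 3606), (2215, 3608), (2216, 1462), (2217, 3612), (2218, 3616), (2219, 1463), (2220, 3620), (2221, 1464), (2222, 1466), (2223, 2187), (2224, 3622), (2225, 3623), (2226, 3631), (2227, 1537), (2228, 1538), (2229, 2229), (2230, 2230), (2231, 1815), (2232, 2850), (2233, 2843), (2234, 2845), (2235, 3647), (2236, 1553), (2237, 1554), (2238, 2238), (2239, 3656)]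
    ⟨e3 q2176 L44012 q2180, e3 q2177 (flp_f L91333) q3478, e3 q2178 L91666 q3527, e3 q2179 L44006 q1455, e3 q2180 (flp_f L44012) q2176, e3 q2181 L91696 q3534, e3 q2182 (flp_f L44020) q1445, e3 q2183 L44032 q1459, e3 q2184 L44036 q1460, e3 q2185 (flp_f L44165) q2209, e3 q2186 L91734 q3543, e3 q2187 L44223 q2223, e3 q2188 L91752 q3547, e3 q2189 (flp_f L44054) q1448, e3 q2190 (flp_f L91758) q3548, e3 q2191 (flp_f L44066) q1450, e3 q2192 L88638 q3041, e3 q2193 (flp_f L91776) q3552, e3 q2194 L91806 q3559, e3 q2195 (flp_f L91611) q3520, e3 q2196 (flp_f L44113) q2138, e3 q2197 L91836 q3566, e3 q2198 (flp_f L44119) q1454, e3 q2199 (flp_f L91672) q3528, e3 q2200 (flp_f L91676) q3529, e3 q2201 L91872 q3574, e3 q2202 L91886 q3577, e3 q2203 L91900 q3580, e3 q2204 L91910 q3582, e3 q2205 (flp_f L44147) q1457, e3 q2206 (flp_f L91918) q3583, e3 q2207 L91944 q3590, e3 q2208 (flp_f L91712) q3537, e3 q2209 L44165 q2185, e3 q2210 (flp_f L91718) q3538, e3 q2211 L91974 q3599, e3 q2212 L91990 q3602, e3 q2213 (flp_f L44179) q1461, e3 q2214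 L92000 q3606, e3 q2215 L92010 q3608, e3 q2216 (flp_f L44191) q1462, e3 q2217 L92025 q3612, e3 q2218 L92035 q3616, e3 q2219 (flp_f L44201) q1463, e3 q2220 L92051 q3620, e3 q2221 (flp_f L44211) q1464, e3 q2222 L44217 q1466, e3 q2223 (flp_f L44223) q2187, e3 q2224 (flp_f L92065) q3622, e3 q2225 (flp_f L92069) q3623, e3 q2226 L92096 q3631, e3 q2227 L44260 q1537, e3 q2228 L44264 q1538, e3 q2229 L83396 q2229, e3 q2230 L83397 q2230, e3 q2231 L82713 q1815, e3 q2232 (flp_f L85978) q2850, e3 q2233 (flp_f L85950) q2843, e3 q2234 (flp_f L85960) q2845, e3 q2235 L92166 q3647, e3 q2236 L44418 q1553, e3 q2237 L44426 q1554, e3 q2238 L82660 q2238, e3 q2239 L92239 q3656, trivial⟩ (by decide +kernel)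

theorem ce_f_35 : ∀ r, r < 64 → sm gf (Qf (2240 + r)) = Qf (tab Gen.f (2240 + r)) :=
  edges_tab (sm gf) Qf (tab Gen.f) 2240 [(2240, 1789), (2241, 2881), (2242, 2875), (2243, 3662), (2244, 3664), (2245, 1479), (2246, 3669), (2247, 3671), (2248, 1480), (2249, 2255), (2250, 3666), (2251, 3680), (2252, 1483), (2253, 3684), (2254, 1490), (2255, 2249), (2256, 3691), (2257, 1485), (2258, 1492), (2259, 1493), (2260, 2274), (2261, 3700), (2262, 2283), (2263, 3704), (2264, 1488), (2265, 3705), (2266, 3685), (2267, 3686), (2268, 3714), (2269, 3717), (2270, 3719), (2271, 1491), (2272, 3722), (2273, 3694), (2274, 2260), (2275, 3695), (2276, 3732), (2277, 1494), (2278, 3735), (2279, 3739), (2280, 1495), (2281, 3743), (2282, 1496), (2283, 2262), (2284, 3749), (2285, 2297), (2286, 1675), (2287, 3510), (2288, 1676), (2289, 3756), (2290, 3759), (2291, 2632), (2292, 1502), (2293, 3763), (2294, 1504), (2295, 3744), (2296, 3769), (2297, 2285), (2298, 3774), (2299, 1682), (2300, 1508), (2301, 2305), (2302, 1509), (2303, 3782)]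
    ⟨e3 q2240 L82721 q1789, e3 q2241 (flp_f L86196) q2881, e3 q2242 (flp_f L86148) q2875, e3 q2243 L92418 q3662, e3 q2244 L92430 q3664, e3 q2245 (flp_f L45120) q1479, e3 q2246 L92460 q3669, e3 q2247 L92473 q3671, e3 q2248 (flp_f L45134) q1480, e3 q2249 L45187 q2255, e3 q2250 (flp_f L92446) q3666, e3 q2251 L92529 q3680, e3 q2252 (flp_f L45161) q1483, e3 q2253 L92554 q3684, e3 q2254 L45179 q1490, e3 q2255 (flp_f L45187) q2249, e3 q2256 L92605 q3691, e3 q2257 (flp_f L45197) q1485, e3 q2258 L45211 q1492, e3 q2259 L45217 q1493, e3 q2260 (flp_f L45297) q2274, e3 q2261 L92653 q3700, e3 q2262 L45351 q2283, e3 q2263 L92675 q3704, e3 q2264 (flp_f L45239) q1488, e3 q2265 (flp_f L92685) q3705, e3 q2266 (flp_f L92571) q3685, e3 q2267 (flp_f L92577) q3686, e3 q2268 L92732 q3714, e3 q2269 L92754 q3717, e3 q2270 L92767 q3719, e3 q2271 (flp_f L45275) q1491, e3 q2272 L92791 q3722, e3 q2273 (flp_f L92627) q3694, e3 q2274 L45297 q2260, e3 q2275 (flp_f L92631) q3695, e3 q2276 L92843 q3732, e3 q2277 (flp_f L45309) q1494, e3 q2278 L92867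 q3735, e3 q2279 L92883 q3739, e3 q2280 (flp_f L45327) q1495, e3 q2281 L92905 q3743, e3 q2282 (flp_f L45339) q1496, e3 q2283 (flp_f L45351) q2262, e3 q2284 L92938 q3749, e3 q2285 L72136 q2297, e3 q2286 (flp_f L81005) q1675, e3 q2287 (flp_f L91511) q3510, e3 q2288 (flp_f L83400) q1676, e3 q2289 L92974 q3756, e3 q2290 L92991 q3759, e3 q2291 (flp_f L85035) q2632, e3 q2292 (flp_f L45463) q1502, e3 q2293 L93011 q3763, e3 q2294 (flp_f L45485) q1504, e3 q2295 (flp_f L92913) q3744, e3 q2296 L93047 q3769, e3 q2297 (flp_f L72136) q2285, e3 q2298 L93085 q3774, e3 q2299 L83387 q1682, e3 q2300 (flp_f L46335) q1508, e3 q2301 L46367 q2305, e3 q2302 (flp_f L46349) q1509, e3 q2303 L93135 q3782, trivial⟩ (by decide +kernel)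

theorem ce_f_36 : ∀ r, r < 64 → sm gf (Qf (2304 + r)) = Qf (tab Gen.f (2304 + r)) :=
  edges_tab (sm gf) Qf (tab Gen.f) 2304 [(2304, 1512), (2305, 2301), (2306, 3785), (2307, 1511), (2308, 2309), (2309, 2308), (2310, 3789), (2311, 3791), (2312, 3792), (2313, 1513), (2314, 3795), (2315, 1523), (2316, 1525), (2317, 2335), (2318, 3805), (2319, 3808), (2320, 3810), (2321, 1517), (2322, 3814), (2323, 2354), (2324, 3820), (2325, 1519), (2326, 1521), (2327, 3822), (2328, 3823), (2329, 3830), (2330, 3831), (2331, 1522), (2332, 3835), (2333, 3837), (2334, 3798), (2335, 2317), (2336, 3844), (2337, 3799), (2338, 3800), (2339, 3850), (2340, 3852), (2341, 1526), (2342, 2812), (2343, 3857), (2344, 1528), (2345, 3861), (2346, 3863), (2347, 3866), (2348, 1529), (2349, 3859), (2350, 3873), (2351, 3874), (2352, 1531), (2353, 1547), (2354, 2323), (2355, 3882), (2356, 3885), (2357, 3889), (2358, 1534), (2359, 3893), (2360, 2822), (2361, 1776), (2362, 3897), (2363, 3900), (2364, 3633), (2365, 1777), (2366, 1778), (2367, 3908)]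
    ⟨e3 q2304 L46361 q1512, e3 q2305 (flp_f L46367) q2301, e3 q2306 L93161 q3785, e3 q2307 (flp_f L46375) q1511, e3 q2308 L72150 q2309, e3 q2309 (flp_f L72150) q2308, e3 q2310 L93193 q3789, e3 q2311 L93203 q3791, e3 q2312 L93213 q3792, e3 q2313 (flp_f L46399) q1513, e3 q2314 L93231 q3795, e3 q2315 L46411 q1523, e3 q2316 L46415 q1525, e3 q2317 (flp_f L46503) q2335, e3 q2318 L93273 q3805, e3 q2319 L93285 q3808, e3 q2320 L93299 q3810, e3 q2321 (flp_f L46433) q1517, e3 q2322 L93317 q3814, e3 q2323 L46589 q2354, e3 q2324 L93343 q3820, e3 q2325 (flp_f L46453) q1519, e3 q2326 L46461 q1521, e3 q2327 (flp_f L93353) q3822, e3 q2328 (flp_f L93357) q3823, e3 q2329 L93389 q3830, e3 q2330 L93397 q3831, e3 q2331 (flp_f L46483) q1522, e3 q2332 L93425 q3835, e3 q2333 L93442 q3837, e3 q2334 (flp_f L93247) q3798, e3 q2335 L46503 q2317, e3 q2336 L93474 q3844, e3 q2337 (flp_f L93251) q3799, e3 q2338 (flp_f L93255) q3800, e3 q2339 L93504 q3850, e3 q2340 L93516 q3852, e3 q2341 (flp_f L46523) q1526, e3 q2342 (flp_f L85800) q2812, e3 q2343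 L93536 q3857, e3 q2344 (flp_f L46543) q1528, e3 q2345 L93574 q3861, e3 q2346 L93589 q3863, e3 q2347 L93597 q3866, e3 q2348 (flp_f L46557) q1529, e3 q2349 (flp_f L93566) q3859, e3 q2350 L93629 q3873, e3 q2351 L93633 q3874, e3 q2352 (flp_f L46575) q1531, e3 q2353 L46581 q1547, e3 q2354 (flp_f L46589) q2323, e3 q2355 L93665 q3882, e3 q2356 L93681 q3885, e3 q2357 L93697 q3889, e3 q2358 (flp_f L46651) q1534, e3 q2359 L93714 q3893, e3 q2360 (flp_f L85850) q2822, e3 q2361 (flp_f L80543) q1776, e3 q2362 L93735 q3897, e3 q2363 L93745 q3900, e3 q2364 (flp_f L92110) q3633, e3 q2365 L82677 q1777, e3 q2366 (flp_f L83382) q1778, e3 q2367 L93771 q3908, trivial⟩ (by decide +kernel)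

theorem ce_f_37 : ∀ r, r < 64 → sm gf (Qf (2368 + r)) = Qf (tab Gen.f (2368 + r)) :=
  edges_tab (sm gf) Qf (tab Gen.f) 2368 [(2368, 3910), (2369, 1540), (2370, 3914), (2371, 3918), (2372, 1541), (2373, 3922), (2374, 3923), (2375, 1542), (2376, 3920), (2377, 3929), (2378, 3931), (2379, 1544), (2380, 1545), (2381, 3875), (2382, 3877), (2383, 3939), (2384, 2384), (2385, 3017), (2386, 2854), (2387, 1799), (2388, 3947), (2389, 3950), (2390, 3953), (2391, 1552), (2392, 3957), (2393, 3649), (2394, 1802), (2395, 3650), (2396, 1803), (2397, 3966), (2398, 1821), (2399, 1826), (2400, 1827), (2401, 2486), (2402, 3972), (2403, 2477), (2404, 1560), (2405, 3977), (2406, 3980), (2407, 3983), (2408, 1563), (2409, 3987), (2410, 3989), (2411, 1564), (2412, 3992), (2413, 1565), (2414, 3985), (2415, 1599), (2416, 1601), (2417, 1602), (2418, 2419), (2419, 2418), (2420, 1572), (2421, 4002), (2422, 2433), (2423, 4007), (2424, 2427), (2425, 1574), (2426, 2430), (2427, 2424), (2428, 1575), (2429, 4012), (2430, 2426), (2431, 4018)]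
    ⟨e3 q2368 L93779 q3910, e3 q2369 (flp_f L46707) q1540, e3 q2370 L93801 q3914, e3 q2371 L93817 q3918, e3 q2372 (flp_f L46779) q1541, e3 q2373 L93834 q3922, e3 q2374 L93841 q3923, e3 q2375 (flp_f L46787) q1542, e3 q2376 (flp_f L93827) q3920, e3 q2377 L93865 q3929, e3 q2378 L93871 q3931, e3 q2379 (flp_f L46813) q1544, e3 q2380 (flp_f L46817) q1545, e3 q2381 (flp_f L93641) q3875, e3 q2382 (flp_f L93653) q3877, e3 q2383 L93907 q3939, e3 q2384 L46955 q2384, e3 q2385 L119330 q3017, e3 q2386 (flp_f L85995) q2854, e3 q2387 (flp_f L75707) q1799, e3 q2388 L94024 q3947, e3 q2389 L94040 q3950, e3 q2390 L94052 q3953, e3 q2391 (flp_f L47047) q1552, e3 q2392 L94074 q3957, e3 q2393 (flp_f L92178) q3649, e3 q2394 (flp_f L82681) q1802, e3 q2395 (flp_f L92184) q3650, e3 q2396 (flp_f L82683) q1803, e3 q2397 L94130 q3966, e3 q2398 L142515 q1821, e3 q2399 L83449 q1826, e3 q2400 L83451 q1827, e3 q2401 (flp_f L137186) q2486, e3 q2402 L94219 q3972, e3 q2403 (flp_f L136306) q2477, e3 q2404 (flp_f L47320) q1560, e3 q2405 L94275 q3977,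 e3 q2406 L94291 q3980, e3 q2407 L94303 q3983, e3 q2408 (flp_f L47386) q1563, e3 q2409 L94325 q3987, e3 q2410 L94339 q3989, e3 q2411 (flp_f L47400) q1564, e3 q2412 L94363 q3992, e3 q2413 (flp_f L47410) q1565, e3 q2414 (flp_f L94317) q3985, e3 q2415 L47432 q1599, e3 q2416 L47448 q1601, e3 q2417 L47452 q1602, e3 q2418 L120032 q2419, e3 q2419 (flp_f L120032) q2418, e3 q2420 (flp_f L83821) q1572, e3 q2421 (flp_f L120138) q4002, e3 q2422 (flp_f L83885) q2433, e3 q2423 L94480 q4007, e3 q2424 L120176 q2427, e3 q2425 (flp_f L83845) q1574, e3 q2426 L83867 q2430, e3 q2427 (flp_f L120176) q2424, e3 q2428 (flp_f L83857) q1575, e3 q2429 (flp_f L119986) q4012, e3 q2430 (flp_f L83867) q2426, e3 q2431 L94544 q4018, trivial⟩ (by decide +kernel)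

theorem ce_f_38 : ∀ r, r < 64 → sm gf (Qf (2432 + r)) = Qf (tab Gen.f (2432 + r)) :=
  edges_tab (sm gf) Qf (tab Gen.f) 2432 [(2432, 1577), (2433, 2422), (2434, 4020), (2435, 4024), (2436, 1579), (2437, 4028), (2438, 4030), (2439, 1580), (2440, 4031), (2441, 2859), (2442, 2860), (2443, 3325), (2444, 2904), (2445, 4043), (2446, 1585), (2447, 2863), (2448, 4047), (2449, 4048), (2450, 1589), (2451, 4049), (2452, 3377), (2453, 4053), (2454, 4055), (2455, 1591), (2456, 2461), (2457, 4058), (2458, 1592), (2459, 4060), (2460, 1597), (2461, 2456), (2462, 1594), (2463, 4066), (2464, 1595), (2465, 4059), (2466, 1616), (2467, 4061), (2468, 4062), (2469, 4078), (2470, 4081), (2471, 2856), (2472, 3997), (2473, 2108), (2474, 3998), (2475, 3999), (2476, 2914), (2477, 2403), (2478, 2478), (2479, 4096), (2480, 2480), (2481, 2481), (2482, 4000), (2483, 4104), (2484, 1612), (2485, 4107), (2486, 2401), (2487, 4112), (2488, 4115), (2489, 1614), (2490, 4118), (2491, 4120), (2492, 1617), (2493, 4123), (2494, 4125), (2495, 1618)]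
    ⟨e3 q2432 (flp_f L83873) q1577, e3 q2433 L83885 q2422, e3 q2434 L94564 q4020, e3 q2435 L94580 q4024, e3 q2436 (flp_f L83897) q1579, e3 q2437 L94594 q4028, e3 q2438 L94604 q4030, e3 q2439 (flp_f L83913) q1580, e3 q2440 (flp_f L94612) q4031, e3 q2441 (flp_f L133524) q2859, e3 q2442 L141073 q2860, e3 q2443 (flp_f L90131) q3325, e3 q2444 L86759 q2904, e3 q2445 L94682 q4043, e3 q2446 (flp_f L83953) q1585, e3 q2447 L133779 q2863, e3 q2448 L94705 q4047, e3 q2449 L94725 q4048, e3 q2450 (flp_f L83977) q1589, e3 q2451 L94742 q4049, e3 q2452 (flp_f L90716) q3377, e3 q2453 L94759 q4053, e3 q2454 L94767 q4055, e3 q2455 (flp_f L84001) q1591, e3 q2456 L84027 q2461, e3 q2457 L94785 q4058, e3 q2458 (flp_f L84013) q1592, e3 q2459 L94805 q4060, e3 q2460 L84023 q1597, e3 q2461 (flp_f L84027) q2456, e3 q2462 (flp_f L84029) q1594, e3 q2463 L94833 q4066, e3 q2464 (flp_f L84045) q1595, e3 q2465 (flp_f L94797) q4059, e3 q2466 (flp_f L84061) q1616, e3 q2467 (flp_f L94815) q4061, e3 q2468 (flp_f L94819) q4062, e3 q2469 L94893 q4078, e3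 q2470 L94907 q4081, e3 q2471 (flp_f L131912) q2856, e3 q2472 (flp_f L94399) q3997, e3 q2473 (flp_f L84101) q2108, e3 q2474 (flp_f L94407) q3998, e3 q2475 (flp_f L94413) q3999, e3 q2476 (flp_f L86996) q2914, e3 q2477 L136306 q2403, e3 q2478 L84178 q2478, e3 q2479 L95058 q4096, e3 q2480 L84194 q2480, e3 q2481 L84201 q2481, e3 q2482 L120214 q4000, e3 q2483 L95099 q4104, e3 q2484 (flp_f L84210) q1612, e3 q2485 L95117 q4107, e3 q2486 L137186 q2401, e3 q2487 L95152 q4112, e3 q2488 L95166 q4115, e3 q2489 (flp_f L84243) q1614, e3 q2490 L95179 q4118, e3 q2491 L95193 q4120, e3 q2492 (flp_f L84257) q1617, e3 q2493 L95211 q4123, e3 q2494 L95229 q4125, e3 q2495 (flp_f L84277) q1618, trivial⟩ (by decide +kernel)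

theorem ce_f_39 : ∀ r, r < 64 → sm gf (Qf (2496 + r)) = Qf (tab Gen.f (2496 + r)) :=
  edges_tab (sm gf) Qf (tab Gen.f) 2496 [(2496, 2503), (2497, 4130), (2498, 1619), (2499, 4135), (2500, 1620), (2501, 4139), (2502, 1626), (2503, 2496), (2504, 4146), (2505, 1622), (2506, 4150), (2507, 4152), (2508, 1623), (2509, 2521), (2510, 4136), (2511, 4161), (2512, 4140), (2513, 4141), (2514, 4167), (2515, 4170), (2516, 4172), (2517, 1627), (2518, 1628), (2519, 4177), (2520, 2520), (2521, 2509), (2522, 4182), (2523, 1630), (2524, 1643), (2525, 1644), (2526, 2550), (2527, 4191), (2528, 2564), (2529, 4195), (2530, 1633), (2531, 4196), (2532, 4200), (2533, 1652), (2534, 1654), (2535, 2574), (2536, 4210), (2537, 4213), (2538, 4215), (2539, 1638), (2540, 4217), (2541, 2603), (2542, 4223), (2543, 1640), (2544, 1642), (2545, 4225), (2546, 4226), (2547, 4233), (2548, 4234), (2549, 4185), (2550, 2526), (2551, 4186), (2552, 4244), (2553, 4247), (2554, 1645), (2555, 4251), (2556, 4253), (2557, 1646), (2558, 4255), (2559, 4259)]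
    ⟨e3 q2496 L84324 q2503, e3 q2497 L95262 q4130, e3 q2498 (flp_f L84292) q1619, e3 q2499 L95292 q4135, e3 q2500 (flp_f L84306) q1620, e3 q2501 L95322 q4139, e3 q2502 L84318 q1626, e3 q2503 (flp_f L84324) q2496, e3 q2504 L95364 q4146, e3 q2505 (flp_f L84332) q1622, e3 q2506 L95380 q4150, e3 q2507 L95384 q4152, e3 q2508 (flp_f L84361) q1623, e3 q2509 L84424 q2521, e3 q2510 (flp_f L95306) q4136, e3 q2511 L95422 q4161, e3 q2512 (flp_f L95336) q4140, e3 q2513 (flp_f L95342) q4141, e3 q2514 L95453 q4167, e3 q2515 L95471 q4170, e3 q2516 L95482 q4172, e3 q2517 (flp_f L84403) q1627, e3 q2518 (flp_f L84407) q1628, e3 q2519 L95515 q4177, e3 q2520 L84419 q2520, e3 q2521 (flp_f L84424) q2509, e3 q2522 L95546 q4182, e3 q2523 (flp_f L84429) q1630, e3 q2524 L84441 q1643, e3 q2525 L84445 q1644, e3 q2526 (flp_f L84575) q2550, e3 q2527 L95580 q4191, e3 q2528 L84648 q2564, e3 q2529 L95600 q4195, e3 q2530 (flp_f L84465) q1633, e3 q2531 (flp_f L95608) q4196, e3 q2532 L95622 q4200, e3 q2533 L84483 q1652, e3 q2534 L84488 q1654, e3 q2535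 (flp_f L84701) q2574, e3 q2536 L95674 q4210, e3 q2537 L95688 q4213, e3 q2538 L95699 q4215, e3 q2539 (flp_f L84511) q1638, e3 q2540 L95721 q4217, e3 q2541 L84855 q2603, e3 q2542 L95752 q4223, e3 q2543 (flp_f L84534) q1640, e3 q2544 L84544 q1642, e3 q2545 (flp_f L95765) q4225, e3 q2546 (flp_f L95771) q4226, e3 q2547 L95804 q4233, e3 q2548 L95818 q4234, e3 q2549 (flp_f L95558) q4185, e3 q2550 L84575 q2526, e3 q2551 (flp_f L95562) q4186, e3 q2552 L95856 q4244, e3 q2553 L95874 q4247, e3 q2554 (flp_f L84590) q1645, e3 q2555 L95890 q4251, e3 q2556 L95901 q4253, e3 q2557 (flp_f L84605) q1646, e3 q2558 L95919 q4255, e3 q2559 L95933 q4259, trivial⟩ (by decide +kernel)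

theorem ce_f_40 : ∀ r, r < 64 → sm gf (Qf (2560 + r)) = Qf (tab Gen.f (2560 + r)) :=
  edges_tab (sm gf) Qf (tab Gen.f) 2560 [(2560, 1647), (2561, 4263), (2562, 1648), (2563, 1650), (2564, 2528), (2565, 4266), (2566, 4267), (2567, 4275), (2568, 4276), (2569, 4280), (2570, 1651), (2571, 4284), (2572, 4287), (2573, 4203), (2574, 2535), (2575, 4295), (2576, 4204), (2577, 4205), (2578, 4302), (2579, 4304), (2580, 1655), (2581, 2590), (2582, 4309), (2583, 1656), (2584, 4310), (2585, 4316), (2586, 4320), (2587, 1658), (2588, 4324), (2589, 1659), (2590, 2581), (2591, 4327), (2592, 4331), (2593, 1661), (2594, 4335), (2595, 4338), (2596, 4342), (2597, 1662), (2598, 4333), (2599, 4350), (2600, 4351), (2601, 1664), (2602, 1679), (2603, 2541), (2604, 1668), (2605, 1669), (2606, 2610), (2607, 4364), (2608, 4367), (2609, 4358), (2610, 2606), (2611, 4359), (2612, 4376), (2613, 1670), (2614, 4380), (2615, 2615), (2616, 4382), (2617, 1673), (2618, 1674), (2619, 4384), (2620, 4389), (2621, 2622), (2622, 2621), (2623, 3753)]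
    ⟨e3 q2560 (flp_f L84619) q1647, e3 q2561 L95950 q4263, e3 q2562 (flp_f L84630) q1648, e3 q2563 L84640 q1650, e3 q2564 (flp_f L84648) q2528, e3 q2565 (flp_f L95971) q4266, e3 q2566 (flp_f L95977) q4267, e3 q2567 L96020 q4275, e3 q2568 L96030 q4276, e3 q2569 L96050 q4280, e3 q2570 (flp_f L84677) q1651, e3 q2571 L96074 q4284, e3 q2572 L96091 q4287, e3 q2573 (flp_f L95640) q4203, e3 q2574 L84701 q2535, e3 q2575 L96131 q4295, e3 q2576 (flp_f L95644) q4204, e3 q2577 (flp_f L95649) q4205, e3 q2578 L96179 q4302, e3 q2579 L96193 q4304, e3 q2580 (flp_f L84725) q1655, e3 q2581 L84789 q2590, e3 q2582 L96217 q4309, e3 q2583 (flp_f L84747) q1656, e3 q2584 (flp_f L96227) q4310, e3 q2585 L96251 q4316, e3 q2586 L96267 q4320, e3 q2587 (flp_f L84765) q1658, e3 q2588 L96289 q4324, e3 q2589 (flp_f L84777) q1659, e3 q2590 (flp_f L84789) q2581, e3 q2591 L96315 q4327, e3 q2592 L96335 q4331, e3 q2593 (flp_f L84799) q1661, e3 q2594 L96359 q4335, e3 q2595 L96376 q4338, e3 q2596 L96396 q4342, e3 q2597 (flp_f L84815) q1662, e3 q2598 (flp_f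 L96351) q4333, e3 q2599 L96448 q4350, e3 q2600 L96452 q4351, e3 q2601 (flp_f L84837) q1664, e3 q2602 L84845 q1679, e3 q2603 (flp_f L84855) q2541, e3 q2604 L84861 q1668, e3 q2605 L84867 q1669, e3 q2606 (flp_f L84893) q2610, e3 q2607 L96522 q4364, e3 q2608 L96538 q4367, e3 q2609 (flp_f L96496) q4358, e3 q2610 L84893 q2606, e3 q2611 (flp_f L96500) q4359, e3 q2612 L96580 q4376, e3 q2613 (flp_f L84905) q1670, e3 q2614 L96606 q4380, e3 q2615 L84922 q2615, e3 q2616 L96615 q4382, e3 q2617 (flp_f L84931) q1673, e3 q2618 L84944 q1674, e3 q2619 (flp_f L96637) q4384, e3 q2620 L96659 q4389, e3 q2621 (flp_f L84968) q2622, e3 q2622 L84968 q2621, e3 q2623 L92964 q3753, trivial⟩ (by decide +kernel)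

theorem ce_f_41 : ∀ r, r < 64 → sm gf (Qf (2624 + r)) = Qf (tab Gen.f (2624 + r)) :=
  edges_tab (sm gf) Qf (tab Gen.f) 2624 [(2624, 4352), (2625, 1678), (2626, 4354), (2627, 4399), (2628, 2169), (2629, 2170), (2630, 4405), (2631, 2168), (2632, 2291), (2633, 3776), (2634, 1684), (2635, 4411), (2636, 2173), (2637, 2174), (2638, 2639), (2639, 2638), (2640, 4418), (2641, 1689), (2642, 2650), (2643, 3777), (2644, 4427), (2645, 4431), (2646, 4433), (2647, 1692), (2648, 4438), (2649, 2649), (2650, 2642), (2651, 4443), (2652, 1694), (2653, 1699), (2654, 1700), (2655, 2663), (2656, 4452), (2657, 2672), (2658, 4456), (2659, 1697), (2660, 4457), (2661, 4463), (2662, 4446), (2663, 2655), (2664, 4447), (2665, 4472), (2666, 1701), (2667, 4475), (2668, 4479), (2669, 1702), (2670, 4482), (2671, 1703), (2672, 2657), (2673, 3523), (2674, 3522), (2675, 1705), (2676, 4489), (2677, 4492), (2678, 1726), (2679, 1729), (2680, 1730), (2681, 2726), (2682, 4503), (2683, 2691), (2684, 4507), (2685, 1709), (2686, 3870), (2687, 4513)]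
    ⟨e3 q2624 (flp_f L96462) q4352, e3 q2625 L84987 q1678, e3 q2626 (flp_f L96476) q4354, e3 q2627 L96722 q4399, e3 q2628 L85007 q2169, e3 q2629 L85017 q2170, e3 q2630 L96758 q4405, e3 q2631 L85027 q2168, e3 q2632 L85035 q2291, e3 q2633 (flp_f L93107) q3776, e3 q2634 L85051 q1684, e3 q2635 (flp_f L96803) q4411, e3 q2636 L85065 q2173, e3 q2637 L85071 q2174, e3 q2638 (flp_f L85096) q2639, e3 q2639 L85096 q2638, e3 q2640 L96920 q4418, e3 q2641 (flp_f L85121) q1689, e3 q2642 L85157 q2650, e3 q2643 (flp_f L93117) q3777, e3 q2644 L96946 q4427, e3 q2645 L96963 q4431, e3 q2646 L96971 q4433, e3 q2647 (flp_f L85142) q1692, e3 q2648 L96995 q4438, e3 q2649 L85152 q2649, e3 q2650 (flp_f L85157) q2642, e3 q2651 L97023 q4443, e3 q2652 (flp_f L85162) q1694, e3 q2653 L85174 q1699, e3 q2654 L85178 q1700, e3 q2655 (flp_f L85206) q2663, e3 q2656 L97072 q4452, e3 q2657 L85244 q2672, e3 q2658 L97088 q4456, e3 q2659 (flp_f L85192) q1697, e3 q2660 (flp_f L97094) q4457, e3 q2661 L97112 q4463, e3 q2662 (flp_f L97041) q4446, e3 q2663 L85206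 q2655, e3 q2664 (flp_f L97056) q4447, e3 q2665 L97150 q4472, e3 q2666 (flp_f L85215) q1701, e3 q2667 L97166 q4475, e3 q2668 L97176 q4479, e3 q2669 (flp_f L85227) q1702, e3 q2670 L97191 q4482, e3 q2671 (flp_f L85236) q1703, e3 q2672 (flp_f L85244) q2657, e3 q2673 (flp_f L91654) q3523, e3 q2674 (flp_f L91623) q3522, e3 q2675 (flp_f L85250) q1705, e3 q2676 L97228 q4489, e3 q2677 L97242 q4492, e3 q2678 L85262 q1726, e3 q2679 L85266 q1729, e3 q2680 L85271 q1730, e3 q2681 (flp_f L85451) q2726, e3 q2682 L97301 q4503, e3 q2683 L85313 q2691, e3 q2684 L97315 q4507, e3 q2685 (flp_f L85288) q1709, e3 q2686 L93619 q3870, e3 q2687 L97337 q4513, trivial⟩ (by decide +kernel)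

theorem ce_f_42 : ∀ r, r < 64 → sm gf (Qf (2688 + r)) = Qf (tab Gen.f (2688 + r)) :=
  edges_tab (sm gf) Qf (tab Gen.f) 2688 [(2688, 1710), (2689, 4516), (2690, 1711), (2691, 2683), (2692, 4520), (2693, 4522), (2694, 1713), (2695, 4524), (2696, 4527), (2697, 2787), (2698, 4534), (2699, 4535), (2700, 1715), (2701, 2701), (2702, 1718), (2703, 1719), (2704, 2707), (2705, 4545), (2706, 4540), (2707, 2704), (2708, 4541), (2709, 4553), (2710, 1720), (2711, 1721), (2712, 2717), (2713, 3267), (2714, 3072), (2715, 1722), (2716, 4562), (2717, 2712), (2718, 4566), (2719, 1724), (2720, 4569), (2721, 4573), (2722, 1725), (2723, 4577), (2724, 4494), (2725, 4495), (2726, 2681), (2727, 4585), (2728, 4588), (2729, 4590), (2730, 1728), (2731, 4497), (2732, 4498), (2733, 4596), (2734, 4598), (2735, 4601), (2736, 1731), (2737, 2821), (2738, 4606), (2739, 1732), (2740, 4607), (2741, 4613), (2742, 2760), (2743, 4619), (2744, 1735), (2745, 1737), (2746, 4621), (2747, 4622), (2748, 4628), (2749, 4630), (2750, 4634), (2751, 1738)]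
    ⟨e3 q2688 (flp_f L85296) q1710, e3 q2689 L97350 q4516, e3 q2690 (flp_f L85305) q1711, e3 q2691 (flp_f L85313) q2683, e3 q2692 L97375 q4520, e3 q2693 L97389 q4522, e3 q2694 (flp_f L85319) q1713, e3 q2695 L97401 q4524, e3 q2696 L97413 q4527, e3 q2697 L85696 q2787, e3 q2698 L97451 q4534, e3 q2699 L97455 q4535, e3 q2700 (flp_f L85342) q1715, e3 q2701 L85348 q2701, e3 q2702 L85351 q1718, e3 q2703 L85355 q1719, e3 q2704 (flp_f L85369) q2707, e3 q2705 L97498 q4545, e3 q2706 (flp_f L97480) q4540, e3 q2707 L85369 q2704, e3 q2708 (flp_f L97484) q4541, e3 q2709 L97532 q4553, e3 q2710 (flp_f L85378) q1720, e3 q2711 (flp_f L85388) q1721, e3 q2712 L85412 q2717, e3 q2713 (flp_f L119641) q3267, e3 q2714 L119612 q3072, e3 q2715 (flp_f L85402) q1722, e3 q2716 L97589 q4562, e3 q2717 (flp_f L85412) q2712, e3 q2718 L97611 q4566, e3 q2719 (flp_f L85418) q1724, e3 q2720 L97624 q4569, e3 q2721 L97638 q4573, e3 q2722 (flp_f L85431) q1725, e3 q2723 L97654 q4577, e3 q2724 (flp_f L97252) q4494, e3 q2725 (flp_f L97260) q4495, e3 q2726 L85451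 q2681, e3 q2727 L97698 q4585, e3 q2728 L97708 q4588, e3 q2729 L97718 q4590, e3 q2730 (flp_f L85459) q1728, e3 q2731 (flp_f L97270) q4497, e3 q2732 (flp_f L97278) q4498, e3 q2733 L97749 q4596, e3 q2734 L97763 q4598, e3 q2735 L97781 q4601, e3 q2736 (flp_f L85489) q1731, e3 q2737 L85844 q2821, e3 q2738 L97803 q4606, e3 q2739 (flp_f L85507) q1732, e3 q2740 (flp_f L97809) q4607, e3 q2741 L97825 q4613, e3 q2742 L85579 q2760, e3 q2743 L97847 q4619, e3 q2744 (flp_f L85523) q1735, e3 q2745 L85529 q1737, e3 q2746 (flp_f L97855) q4621, e3 q2747 (flp_f L97859) q4622, e3 q2748 L97927 q4628, e3 q2749 L97937 q4630, e3 q2750 L97951 q4634, e3 q2751 (flp_f L85543) q1738, trivial⟩ (by decide +kernel)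

theorem ce_f_43 : ∀ r, r < 64 → sm gf (Qf (2752 + r)) = Qf (tab Gen.f (2752 + r)) :=
  edges_tab (sm gf) Qf (tab Gen.f) 2752 [(2752, 4637), (2753, 4640), (2754, 4644), (2755, 1739), (2756, 4636), (2757, 4650), (2758, 4651), (2759, 1741), (2760, 2742), (2761, 4656), (2762, 1744), (2763, 2769), (2764, 4659), (2765, 4661), (2766, 1745), (2767, 4664), (2768, 1751), (2769, 2763), (2770, 1747), (2771, 4670), (2772, 4674), (2773, 1748), (2774, 4678), (2775, 4681), (2776, 4682), (2777, 1749), (2778, 4676), (2779, 4665), (2780, 4666), (2781, 3806), (2782, 4692), (2783, 4694), (2784, 1752), (2785, 1753), (2786, 1780), (2787, 2697), (2788, 1781), (2789, 1782), (2790, 2838), (2791, 4710), (2792, 4713), (2793, 1762), (2794, 1764), (2795, 2806), (2796, 4723), (2797, 4725), (2798, 4727), (2799, 1760), (2800, 4730), (2801, 4734), (2802, 1761), (2803, 4468), (2804, 4740), (2805, 4716), (2806, 2795), (2807, 4450), (2808, 4717), (2809, 4718), (2810, 4750), (2811, 1765), (2812, 2342), (2813, 4756), (2814, 4758), (2815, 1768)]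
    ⟨e3 q2752 L97977 q4637, e3 q2753 L97995 q4640, e3 q2754 L98009 q4644, e3 q2755 (flp_f L85553) q1739, e3 q2756 (flp_f L97961) q4636, e3 q2757 L98035 q4650, e3 q2758 L98039 q4651, e3 q2759 (flp_f L85569) q1741, e3 q2760 (flp_f L85579) q2742, e3 q2761 L98061 q4656, e3 q2762 (flp_f L85589) q1744, e3 q2763 L85617 q2769, e3 q2764 L98125 q4659, e3 q2765 L98137 q4661, e3 q2766 (flp_f L85603) q1745, e3 q2767 L98155 q4664, e3 q2768 L85613 q1751, e3 q2769 (flp_f L85617) q2763, e3 q2770 (flp_f L85619) q1747, e3 q2771 L98198 q4670, e3 q2772 L98212 q4674, e3 q2773 (flp_f L85632) q1748, e3 q2774 L98228 q4678, e3 q2775 L98244 q4681, e3 q2776 L98254 q4682, e3 q2777 (flp_f L85646) q1749, e3 q2778 (flp_f L98222) q4676, e3 q2779 (flp_f L98167) q4665, e3 q2780 (flp_f L98173) q4666, e3 q2781 (flp_f L93295) q3806, e3 q2782 L98299 q4692, e3 q2783 L98310 q4694, e3 q2784 (flp_f L85676) q1752, e3 q2785 (flp_f L85680) q1753, e3 q2786 L85688 q1780, e3 q2787 (flp_f L85696) q2697, e3 q2788 L85700 q1781, e3 q2789 L85704 q1782, e3 q2790 (flp_f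 L85920) q2838, e3 q2791 L98387 q4710, e3 q2792 L98399 q4713, e3 q2793 L85720 q1762, e3 q2794 L85724 q1764, e3 q2795 (flp_f L85772) q2806, e3 q2796 L98445 q4723, e3 q2797 L98455 q4725, e3 q2798 L98467 q4727, e3 q2799 (flp_f L85740) q1760, e3 q2800 L98497 q4730, e3 q2801 L98519 q4734, e3 q2802 (flp_f L85752) q1761, e3 q2803 L97987 q4468, e3 q2804 L98551 q4740, e3 q2805 (flp_f L98417) q4716, e3 q2806 L85772 q2795, e3 q2807 (flp_f L98483) q4450, e3 q2808 (flp_f L98421) q4717, e3 q2809 (flp_f L98425) q4718, e3 q2810 L98587 q4750, e3 q2811 (flp_f L85788) q1765, e3 q2812 L85800 q2342, e3 q2813 (flp_f L118160) q4756, e3 q2814 (flp_f L118190) q4758, e3 q2815 (flp_f L118186) q1768, trivial⟩ (by decide +kernel)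

theorem ce_f_44 : ∀ r, r < 64 → sm gf (Qf (2816 + r)) = Qf (tab Gen.f (2816 + r)) :=
  edges_tab (sm gf) Qf (tab Gen.f) 2816 [(2816, 4465), (2817, 4764), (2818, 1769), (2819, 4767), (2820, 1770), (2821, 2737), (2822, 2360), (2823, 1774), (2824, 4774), (2825, 4771), (2826, 4780), (2827, 4784), (2828, 1775), (2829, 4787), (2830, 3894), (2831, 4790), (2832, 3903), (2833, 4697), (2834, 4699), (2835, 4700), (2836, 4799), (2837, 4704), (2838, 2790), (2839, 4705), (2840, 4806), (2841, 1783), (2842, 1790), (2843, 2233), (2844, 4812), (2845, 2234), (2846, 4818), (2847, 4822), (2848, 1787), (2849, 4825), (2850, 2232), (2851, 4828), (2852, 3658), (2853, 4832), (2854, 2386), (2855, 1795), (2856, 2471), (2857, 4834), (2858, 2065), (2859, 2441), (2860, 2442), (2861, 2874), (2862, 4845), (2863, 2447), (2864, 4851), (2865, 4855), (2866, 4858), (2867, 1801), (2868, 2884), (2869, 3959), (2870, 3962), (2871, 4862), (2872, 1816), (2873, 2084), (2874, 2861), (2875, 2242), (2876, 2082), (2877, 1832), (2878, 4871), (2879, 1810)]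
    ⟨e3 q2816 (flp_f L97124) q4465, e3 q2817 L98675 q4764, e3 q2818 (flp_f L85824) q1769, e3 q2819 L98689 q4767, e3 q2820 (flp_f L85834) q1770, e3 q2821 (flp_f L85844) q2737, e3 q2822 L85850 q2360, e3 q2823 L85858 q1774, e3 q2824 L98724 q4774, e3 q2825 (flp_f L98712) q4771, e3 q2826 L98748 q4780, e3 q2827 L98762 q4784, e3 q2828 (flp_f L85876) q1775, e3 q2829 L98776 q4787, e3 q2830 L93727 q3894, e3 q2831 L98788 q4790, e3 q2832 L93757 q3903, e3 q2833 (flp_f L98331) q4697, e3 q2834 (flp_f L98345) q4699, e3 q2835 (flp_f L98349) q4700, e3 q2836 L98844 q4799, e3 q2837 (flp_f L98365) q4704, e3 q2838 L85920 q2790, e3 q2839 (flp_f L98371) q4705, e3 q2840 L98876 q4806, e3 q2841 (flp_f L85932) q1783, e3 q2842 L85942 q1790, e3 q2843 L85950 q2233, e3 q2844 L98907 q4812, e3 q2845 L85960 q2234, e3 q2846 L98931 q4818, e3 q2847 L98945 q4822, e3 q2848 (flp_f L85968) q1787, e3 q2849 L98959 q4825, e3 q2850 L85978 q2232, e3 q2851 L98971 q4828, e3 q2852 (flp_f L92251) q3658, e3 q2853 L98985 q4832, e3 q2854 L85995 q2386, e3 q2855 L86005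 q1795, e3 q2856 L131912 q2471, e3 q2857 (flp_f L98999) q4834, e3 q2858 L141825 q2065, e3 q2859 L133524 q2441, e3 q2860 (flp_f L141073) q2442, e3 q2861 (flp_f L86144) q2874, e3 q2862 L99123 q4845, e3 q2863 (flp_f L133779) q2447, e3 q2864 L99153 q4851, e3 q2865 L99173 q4855, e3 q2866 L99185 q4858, e3 q2867 (flp_f L86101) q1801, e3 q2868 (flp_f L147452) q2884, e3 q2869 L94096 q3959, e3 q2870 (flp_f L94118) q3962, e3 q2871 L99225 q4862, e3 q2872 L86126 q1816, e3 q2873 (flp_f L141250) q2084, e3 q2874 L86144 q2861, e3 q2875 L86148 q2242, e3 q2876 (flp_f L141174) q2082, e3 q2877 L86162 q1832, e3 q2878 L99313 q4871, e3 q2879 (flp_f L86172) q1810, trivial⟩ (by decide +kernel)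

theorem ce_f_45 : ∀ r, r < 64 → sm gf (Qf (2880 + r)) = Qf (tab Gen.f (2880 + r)) :=
  edges_tab (sm gf) Qf (tab Gen.f) 2880 [(2880, 4874), (2881, 2241), (2882, 4879), (2883, 4882), (2884, 2868), (2885, 1814), (2886, 4850), (2887, 3639), (2888, 3991), (2889, 1835), (2890, 1819), (2891, 4887), (2892, 3967), (2893, 4893), (2894, 1822), (2895, 2897), (2896, 1825), (2897, 2895), (2898, 4896), (2899, 4897), (2900, 4903), (2901, 3105), (2902, 3968), (2903, 3969), (2904, 2444), (2905, 4911), (2906, 4868), (2907, 2910), (2908, 1833), (2909, 4914), (2910, 2907), (2911, 4921), (2912, 1836), (2913, 1936), (2914, 2476), (2915, 4926), (2916, 1838), (2917, 4928), (2918, 1841), (2919, 4931), (2920, 3845), (2921, 4932), (2922, 1842), (2923, 2927), (2924, 4934), (2925, 1843), (2926, 4937), (2927, 2923), (2928, 1845), (2929, 4943), (2930, 4945), (2931, 1846), (2932, 2937), (2933, 4949), (2934, 1847), (2935, 4954), (2936, 1852), (2937, 2932), (2938, 4959), (2939, 1849), (2940, 4951), (2941, 4966), (2942, 4955), (2943, 4968)]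
    ⟨e3 q2880 L99351 q4874, e3 q2881 L86196 q2241, e3 q2882 L99381 q4879, e3 q2883 L99401 q4882, e3 q2884 L147452 q2868, e3 q2885 (flp_f L86212) q1814, e3 q2886 L146907 q4850, e3 q2887 (flp_f L92137) q3639, e3 q2888 L94361 q3991, e3 q2889 L147163 q1835, e3 q2890 (flp_f L86619) q1819, e3 q2891 (flp_f L99871) q4887, e3 q2892 L141089 q3967, e3 q2893 L99929 q4893, e3 q2894 (flp_f L86663) q1822, e3 q2895 L86690 q2897, e3 q2896 L86686 q1825, e3 q2897 (flp_f L86690) q2895, e3 q2898 (flp_f L99986) q4896, e3 q2899 (flp_f L99990) q4897, e3 q2900 L100047 q4903, e3 q2901 (flp_f L139170) q3105, e3 q2902 (flp_f L94156) q3968, e3 q2903 (flp_f L94162) q3969, e3 q2904 (flp_f L86759) q2444, e3 q2905 L100333 q4911, e3 q2906 (flp_f L99291) q4868, e3 q2907 (flp_f L148736) q2910, e3 q2908 (flp_f L86910) q1833, e3 q2909 L148787 q4914, e3 q2910 L148736 q2907, e3 q2911 L100467 q4921, e3 q2912 (flp_f L86964) q1836, e3 q2913 L141990 q1936, e3 q2914 L86996 q2476, e3 q2915 L100509 q4926, e3 q2916 (flp_f L87000) q1838, e3 q2917 L101745 q4928,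 e3 q2918 (flp_f L87945) q1841, e3 q2919 L101769 q4931, e3 q2920 L119203 q3845, e3 q2921 L101793 q4932, e3 q2922 (flp_f L87965) q1842, e3 q2923 L87994 q2927, e3 q2924 L101809 q4934, e3 q2925 (flp_f L87980) q1843, e3 q2926 L101823 q4937, e3 q2927 (flp_f L87994) q2923, e3 q2928 (flp_f L87996) q1845, e3 q2929 L101863 q4943, e3 q2930 L101871 q4945, e3 q2931 (flp_f L88016) q1846, e3 q2932 L88061 q2937, e3 q2933 L101899 q4949, e3 q2934 (flp_f L88038) q1847, e3 q2935 L101943 q4954, e3 q2936 L88055 q1852, e3 q2937 (flp_f L88061) q2932, e3 q2938 L101976 q4959, e3 q2939 (flp_f L88070) q1849, e3 q2940 (flp_f L101925) q4951, e3 q2941 L102114 q4966, e3 q2942 (flp_f L101958) q4955, e3 q2943 L102133 q4968, trivial⟩ (by decide +kernel)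

theorem ce_f_46 : ∀ r, r < 64 → sm gf (Qf (2944 + r)) = Qf (tab Gen.f (2944 + r)) :=
  edges_tab (sm gf) Qf (tab Gen.f) 2944 [(2944, 4969), (2945, 1853), (2946, 4971), (2947, 3632), (2948, 1854), (2949, 4974), (2950, 3596), (2951, 4978), (2952, 1861), (2953, 2959), (2954, 4983), (2955, 2963), (2956, 1859), (2957, 4985), (2958, 4298), (2959, 2953), (2960, 1862), (2961, 4994), (2962, 1863), (2963, 2955), (2964, 1865), (2965, 2996), (2966, 4997), (2967, 5004), (2968, 2968), (2969, 3167), (2970, 3898), (2971, 1870), (2972, 2974), (2973, 1873), (2974, 2972), (2975, 5014), (2976, 1872), (2977, 5009), (2978, 5010), (2979, 5020), (2980, 5023), (2981, 5025), (2982, 1874), (2983, 2983), (2984, 3288), (2985, 5029), (2986, 3899), (2987, 1877), (2988, 2992), (2989, 1878), (2990, 5034), (2991, 1883), (2992, 2988), (2993, 5041), (2994, 1880), (2995, 5031), (2996, 2965), (2997, 5049), (2998, 1882), (2999, 5035), (3000, 5036), (3001, 5057), (3002, 5060), (3003, 5063), (3004, 5065), (3005, 1885), (3006, 5066), (3007, 1970)]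
    ⟨e3 q2944 L102146 q4969, e3 q2945 (flp_f L88105) q1853, e3 q2946 L102164 q4971, e3 q2947 L119065 q3632, e3 q2948 (flp_f L88118) q1854, e3 q2949 L102219 q4974, e3 q2950 L119033 q3596, e3 q2951 L102243 q4978, e3 q2952 L88139 q1861, e3 q2953 (flp_f L88177) q2959, e3 q2954 L102263 q4983, e3 q2955 L88208 q2963, e3 q2956 (flp_f L88157) q1859, e3 q2957 (flp_f L102277) q4985, e3 q2958 (flp_f L116066) q4298, e3 q2959 L88177 q2953, e3 q2960 (flp_f L88179) q1862, e3 q2961 L102325 q4994, e3 q2962 (flp_f L88192) q1863, e3 q2963 (flp_f L88208) q2955, e3 q2964 (flp_f L88210) q1865, e3 q2965 L88391 q2996, e3 q2966 (flp_f L102347) q4997, e3 q2967 L102381 q5004, e3 q2968 L88241 q2968, e3 q2969 (flp_f L89351) q3167, e3 q2970 L119298 q3898, e3 q2971 (flp_f L88254) q1870, e3 q2972 L88279 q2974, e3 q2973 L88274 q1873, e3 q2974 (flp_f L88279) q2972, e3 q2975 L102439 q5014, e3 q2976 (flp_f L88285) q1872, e3 q2977 (flp_f L102419) q5009, e3 q2978 (flp_f L102423) q5010, e3 q2979 L102463 q5020, e3 q2980 L102475 q5023, e3 q2981 L102485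 q5025, e3 q2982 (flp_f L88306) q1874, e3 q2983 L88311 q2983, e3 q2984 (flp_f L89957) q3288, e3 q2985 L102505 q5029, e3 q2986 L119179 q3899, e3 q2987 (flp_f L88326) q1877, e3 q2988 L88362 q2992, e3 q2989 (flp_f L88342) q1878, e3 q2990 L102551 q5034, e3 q2991 L88354 q1883, e3 q2992 (flp_f L88362) q2988, e3 q2993 L102595 q5041, e3 q2994 (flp_f L88370) q1880, e3 q2995 (flp_f L102537) q5031, e3 q2996 (flp_f L88391) q2965, e3 q2997 L102627 q5049, e3 q2998 (flp_f L88397) q1882, e3 q2999 (flp_f L102563) q5035, e3 q3000 (flp_f L102569) q5036, e3 q3001 L102671 q5057, e3 q3002 L102689 q5060, e3 q3003 L102705 q5063, e3 q3004 L102717 q5065, e3 q3005 (flp_f L88436) q1885, e3 q3006 (flp_f L102727) q5066, e3 q3007 L88446 q1970, trivial⟩ (by decide +kernel)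

theorem ce_f_47 : ∀ r, r < 64 → sm gf (Qf (3008 + r)) = Qf (tab Gen.f (3008 + r)) :=
  edges_tab (sm gf) Qf (tab Gen.f) 3008 [(3008, 3012), (3009, 1977), (3010, 5076), (3011, 1890), (3012, 3008), (3013, 4831), (3014, 1893), (3015, 5080), (3016, 4100), (3017, 2385), (3018, 1894), (3019, 3029), (3020, 3961), (3021, 4091), (3022, 5083), (3023, 5086), (3024, 1897), (3025, 5091), (3026, 1898), (3027, 3942), (3028, 1907), (3029, 3019), (3030, 5100), (3031, 1900), (3032, 1911), (3033, 1912), (3034, 3054), (3035, 5108), (3036, 3068), (3037, 5111), (3038, 1903), (3039, 5112), (3040, 5092), (3041, 2192), (3042, 5122), (3043, 1906), (3044, 5094), (3045, 5095), (3046, 5127), (3047, 5130), (3048, 5131), (3049, 5132), (3050, 1909), (3051, 5133), (3052, 3945), (3053, 5103), (3054, 3034), (3055, 3589), (3056, 5146), (3057, 5149), (3058, 1913), (3059, 5153), (3060, 5155), (3061, 1914), (3062, 5157), (3063, 5160), (3064, 1915), (3065, 5163), (3066, 1916), (3067, 1918), (3068, 3036), (3069, 5166), (3070, 5167), (3071, 5175)]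
    ⟨e3 q3008 (flp_f L88484) q3012, e3 q3009 L88462 q1977, e3 q3010 L102785 q5076, e3 q3011 (flp_f L88470) q1890, e3 q3012 L88484 q3008, e3 q3013 (flp_f L119357) q4831, e3 q3014 (flp_f L88498) q1893, e3 q3015 L102831 q5080, e3 q3016 L130692 q4100, e3 q3017 (flp_f L119330) q2385, e3 q3018 (flp_f L88530) q1894, e3 q3019 L88582 q3029, e3 q3020 (flp_f L119253) q3961, e3 q3021 L148276 q4091, e3 q3022 L102910 q5083, e3 q3023 L102930 q5086, e3 q3024 (flp_f L88556) q1897, e3 q3025 L102952 q5091, e3 q3026 (flp_f L88564) q1898, e3 q3027 L119323 q3942, e3 q3028 L88576 q1907, e3 q3029 (flp_f L88582) q3019, e3 q3030 L103014 q5100, e3 q3031 (flp_f L88590) q1900, e3 q3032 L88600 q1911, e3 q3033 L88604 q1912, e3 q3034 (flp_f L88694) q3054, e3 q3035 L103050 q5108, e3 q3036 L88752 q3068, e3 q3037 L103068 q5111, e3 q3038 (flp_f L88622) q1903, e3 q3039 (flp_f L103074) q5112, e3 q3040 (flp_f L102964) q5092, e3 q3041 (flp_f L88638) q2192, e3 q3042 L103112 q5122, e3 q3043 (flp_f L88644) q1906, e3 q3044 (flp_f L102990) q5094, e3 q3045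 (flp_f L102994) q5095, e3 q3046 L103150 q5127, e3 q3047 L103166 q5130, e3 q3048 L103180 q5131, e3 q3049 L103190 q5132, e3 q3050 (flp_f L88676) q1909, e3 q3051 (flp_f L103198) q5133, e3 q3052 (flp_f L120098) q3945, e3 q3053 (flp_f L103028) q5103, e3 q3054 L88694 q3034, e3 q3055 L119409 q3589, e3 q3056 L103260 q5146, e3 q3057 L103276 q5149, e3 q3058 (flp_f L88708) q1913, e3 q3059 L103286 q5153, e3 q3060 L103296 q5155, e3 q3061 (flp_f L88720) q1914, e3 q3062 L103312 q5157, e3 q3063 L103322 q5160, e3 q3064 (flp_f L88730) q1915, e3 q3065 L103338 q5163, e3 q3066 (flp_f L88740) q1916, e3 q3067 L88746 q1918, e3 q3068 (flp_f L88752) q3036, e3 q3069 (flp_f L103356) q5166, e3 q3070 (flp_f L103360) q5167, e3 q3071 L103388 q5175, trivial⟩ (by decide +kernel)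

theorem ce_f_48 : ∀ r, r < 64 → sm gf (Qf (3072 + r)) = Qf (tab Gen.f (3072 + r)) :=
  edges_tab (sm gf) Qf (tab Gen.f) 3072 [(3072, 2714), (3073, 2031), (3074, 2032), (3075, 2033), (3076, 3085), (3077, 5185), (3078, 2043), (3079, 5188), (3080, 3299), (3081, 5192), (3082, 5193), (3083, 1924), (3084, 5164), (3085, 3076), (3086, 3086), (3087, 3087), (3088, 2053), (3089, 2054), (3090, 3560), (3091, 2056), (3092, 2057), (3093, 3104), (3094, 2069), (3095, 2070), (3096, 5206), (3097, 1933), (3098, 3344), (3099, 3346), (3100, 5208), (3101, 5210), (3102, 4923), (3103, 1935), (3104, 3093), (3105, 2901), (3106, 5215), (3107, 5217), (3108, 1945), (3109, 5222), (3110, 1946), (3111, 3117), (3112, 5219), (3113, 5230), (3114, 1949), (3115, 4137), (3116, 1956), (3117, 3111), (3118, 5239), (3119, 1951), (3120, 1960), (3121, 1961), (3122, 3138), (3123, 5248), (3124, 3152), (3125, 5252), (3126, 1954), (3127, 5253), (3128, 5233), (3129, 5234), (3130, 5261), (3131, 5264), (3132, 5266), (3133, 5267), (3134, 1958), (3135, 5268)]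
    ⟨e3 q3072 (flp_f L119612) q2714, e3 q3073 L88771 q2031, e3 q3074 L88775 q2032, e3 q3075 L88779 q2033, e3 q3076 (flp_f L88824) q3085, e3 q3077 L103441 q5185, e3 q3078 L88791 q2043, e3 q3079 L103460 q5188, e3 q3080 L90001 q3299, e3 q3081 L103482 q5192, e3 q3082 L103490 q5193, e3 q3083 (flp_f L88810) q1924, e3 q3084 (flp_f L103344) q5164, e3 q3085 L88824 q3076, e3 q3086 L88833 q3086, e3 q3087 L88840 q3087, e3 q3088 L88845 q2053, e3 q3089 L88853 q2054, e3 q3090 L119506 q3560, e3 q3091 L88865 q2056, e3 q3092 L88873 q2057, e3 q3093 (flp_f L88966) q3104, e3 q3094 L88889 q2069, e3 q3095 L88897 q2070, e3 q3096 (flp_f L139737) q5206, e3 q3097 (flp_f L88907) q1933, e3 q3098 L90281 q3344, e3 q3099 L90299 q3346, e3 q3100 L103658 q5208, e3 q3101 L103676 q5210, e3 q3102 L139761 q4923, e3 q3103 (flp_f L88948) q1935, e3 q3104 L88966 q3093, e3 q3105 L139170 q2901, e3 q3106 L103734 q5215, e3 q3107 L103750 q5217, e3 q3108 (flp_f L89022) q1945, e3 q3109 L103780 q5222, e3 q3110 (flp_f L89030) q1946, e3 q3111 L89080 q3117, e3 q3112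 (flp_f L103766) q5219, e3 q3113 L103818 q5230, e3 q3114 (flp_f L89054) q1949, e3 q3115 L95314 q4137, e3 q3116 L89074 q1956, e3 q3117 (flp_f L89080) q3111, e3 q3118 L103879 q5239, e3 q3119 (flp_f L89088) q1951, e3 q3120 L89100 q1960, e3 q3121 L89106 q1961, e3 q3122 (flp_f L89182) q3138, e3 q3123 L103923 q5248, e3 q3124 L89264 q3152, e3 q3125 L103945 q5252, e3 q3126 (flp_f L89128) q1954, e3 q3127 (flp_f L103955) q5253, e3 q3128 (flp_f L103834) q5233, e3 q3129 (flp_f L103851) q5234, e3 q3130 L104001 q5261, e3 q3131 L104015 q5264, e3 q3132 L104027 q5266, e3 q3133 L104037 q5267, e3 q3134 (flp_f L89156) q1958, e3 q3135 (flp_f L104051) q5268, trivial⟩ (by decide +kernel)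

theorem ce_f_49 : ∀ r, r < 64 → sm gf (Qf (3136 + r)) = Qf (tab Gen.f (3136 + r)) :=
  edges_tab (sm gf) Qf (tab Gen.f) 3136 [(3136, 5275), (3137, 5242), (3138, 3122), (3139, 5243), (3140, 5284), (3141, 5287), (3142, 1962), (3143, 5291), (3144, 5293), (3145, 1963), (3146, 5297), (3147, 5301), (3148, 1964), (3149, 5304), (3150, 1965), (3151, 1967), (3152, 3124), (3153, 5307), (3154, 5308), (3155, 5316), (3156, 3156), (3157, 5321), (3158, 3179), (3159, 5071), (3160, 5326), (3161, 5329), (3162, 1971), (3163, 1972), (3164, 5331), (3165, 3165), (3166, 3166), (3167, 2969), (3168, 5341), (3169, 5074), (3170, 5344), (3171, 1978), (3172, 5305), (3173, 1989), (3174, 1982), (3175, 1983), (3176, 5351), (3177, 5352), (3178, 4558), (3179, 3158), (3180, 1986), (3181, 5362), (3182, 3182), (3183, 3183), (3184, 5369), (3185, 5346), (3186, 1992), (3187, 1993), (3188, 5372), (3189, 5373), (3190, 3191), (3191, 3190), (3192, 1996), (3193, 3195), (3194, 1999), (3195, 3193), (3196, 5385), (3197, 1998), (3198, 5379), (3199, 5380)]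
    ⟨e3 q3136 L104089 q5275, e3 q3137 (flp_f L103897) q5242, e3 q3138 L89182 q3122, e3 q3139 (flp_f L103901) q5243, e3 q3140 L104135 q5284, e3 q3141 L104157 q5287, e3 q3142 (flp_f L89200) q1962, e3 q3143 L104175 q5291, e3 q3144 L104187 q5293, e3 q3145 (flp_f L89218) q1963, e3 q3146 L104210 q5297, e3 q3147 L104226 q5301, e3 q3148 (flp_f L89234) q1964, e3 q3149 L104246 q5304, e3 q3150 (flp_f L89246) q1965, e3 q3151 L89256 q1967, e3 q3152 (flp_f L89264) q3124, e3 q3153 (flp_f L104270) q5307, e3 q3154 (flp_f L104276) q5308, e3 q3155 L104315 q5316, e3 q3156 L89287 q3156, e3 q3157 L104345 q5321, e3 q3158 (flp_f L89421) q3179, e3 q3159 (flp_f L102757) q5071, e3 q3160 L104369 q5326, e3 q3161 L104389 q5329, e3 q3162 (flp_f L89310) q1971, e3 q3163 L89328 q1972, e3 q3164 (flp_f L104403) q5331, e3 q3165 L89342 q3165, e3 q3166 L89345 q3166, e3 q3167 L89351 q2969, e3 q3168 L104450 q5341, e3 q3169 (flp_f L102775) q5074, e3 q3170 L104464 q5344, e3 q3171 (flp_f L89366) q1978, e3 q3172 (flp_f L104254) q5305, e3 q3173 (flp_f L89382)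 q1989, e3 q3174 L89390 q1982, e3 q3175 L89400 q1983, e3 q3176 (flp_f L104510) q5351, e3 q3177 (flp_f L104516) q5352, e3 q3178 (flp_f L119617) q4558, e3 q3179 L89421 q3158, e3 q3180 L89431 q1986, e3 q3181 (flp_f L104577) q5362, e3 q3182 L89443 q3182, e3 q3183 L89446 q3183, e3 q3184 L104629 q5369, e3 q3185 L104482 q5346, e3 q3186 L89472 q1992, e3 q3187 L89480 q1993, e3 q3188 (flp_f L104666) q5372, e3 q3189 (flp_f L104672) q5373, e3 q3190 (flp_f L89538) q3191, e3 q3191 L89538 q3190, e3 q3192 (flp_f L89582) q1996, e3 q3193 L89600 q3195, e3 q3194 L89596 q1999, e3 q3195 (flp_f L89600) q3193, e3 q3196 L104829 q5385, e3 q3197 (flp_f L89606) q1998, e3 q3198 (flp_f L104811) q5379, e3 q3199 (flp_f L104815) q5380, trivial⟩ (by decide +kernel)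

theorem ce_f_50 : ∀ r, r < 64 → sm gf (Qf (3200 + r)) = Qf (tab Gen.f (3200 + r)) :=
  edges_tab (sm gf) Qf (tab Gen.f) 3200 [(3200, 5391), (3201, 5394), (3202, 5395), (3203, 2000), (3204, 5399), (3205, 2010), (3206, 2012), (3207, 3226), (3208, 5406), (3209, 5409), (3210, 5411), (3211, 2004), (3212, 5415), (3213, 3253), (3214, 5418), (3215, 2006), (3216, 2008), (3217, 5420), (3218, 5421), (3219, 5428), (3220, 5430), (3221, 5434), (3222, 2009), (3223, 5438), (3224, 5440), (3225, 3592), (3226, 3207), (3227, 5447), (3228, 5401), (3229, 5450), (3230, 5453), (3231, 2013), (3232, 3241), (3233, 5458), (3234, 2014), (3235, 5459), (3236, 5465), (3237, 5469), (3238, 2016), (3239, 3262), (3240, 2017), (3241, 3232), (3242, 5474), (3243, 5478), (3244, 2019), (3245, 5482), (3246, 5484), (3247, 5487), (3248, 2020), (3249, 5480), (3250, 5492), (3251, 2022), (3252, 2047), (3253, 3213), (3254, 2026), (3255, 2027), (3256, 3260), (3257, 5503), (3258, 5506), (3259, 5457), (3260, 3256), (3261, 5456), (3262, 3239), (3263, 2028)]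
    ⟨e3 q3200 L104851 q5391, e3 q3201 L104863 q5394, e3 q3202 L104871 q5395, e3 q3203 (flp_f L89624) q2000, e3 q3204 L104887 q5399, e3 q3205 L89632 q2010, e3 q3206 L89636 q2012, e3 q3207 (flp_f L89704) q3226, e3 q3208 L104925 q5406, e3 q3209 L104933 q5409, e3 q3210 L104941 q5411, e3 q3211 (flp_f L89650) q2004, e3 q3212 L104955 q5415, e3 q3213 L89811 q3253, e3 q3214 L104975 q5418, e3 q3215 (flp_f L89666) q2006, e3 q3216 L89672 q2008, e3 q3217 (flp_f L104983) q5420, e3 q3218 (flp_f L104987) q5421, e3 q3219 L105009 q5428, e3 q3220 L105019 q5430, e3 q3221 L105033 q5434, e3 q3222 (flp_f L89686) q2009, e3 q3223 L105049 q5438, e3 q3224 L105069 q5440, e3 q3225 L119387 q3592, e3 q3226 L89704 q3207, e3 q3227 L105095 q5447, e3 q3228 (flp_f L104909) q5401, e3 q3229 L105109 q5450, e3 q3230 L105129 q5453, e3 q3231 (flp_f L89720) q2013, e3 q3232 L89765 q3241, e3 q3233 L105145 q5458, e3 q3234 (flp_f L89736) q2014, e3 q3235 (flp_f L105151) q5459, e3 q3236 L105165 q5465, e3 q3237 L105175 q5469, e3 q3238 (flp_f L89746) q2016, e3 q3239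 L151513 q3262, e3 q3240 (flp_f L89756) q2017, e3 q3241 (flp_f L89765) q3232, e3 q3242 L105212 q5474, e3 q3243 L105226 q5478, e3 q3244 (flp_f L89771) q2019, e3 q3245 L105242 q5482, e3 q3246 L105262 q5484, e3 q3247 L105272 q5487, e3 q3248 (flp_f L89783) q2020, e3 q3249 (flp_f L105236) q5480, e3 q3250 L105292 q5492, e3 q3251 (flp_f L89797) q2022, e3 q3252 L89803 q2047, e3 q3253 (flp_f L89811) q3213, e3 q3254 L89817 q2026, e3 q3255 L89821 q2027, e3 q3256 (flp_f L89843) q3260, e3 q3257 L105354 q5503, e3 q3258 L105366 q5506, e3 q3259 (flp_f L151524) q5457, e3 q3260 L89843 q3256, e3 q3261 (flp_f L151482) q5456, e3 q3262 (flp_f L151513) q3239, e3 q3263 (flp_f L89854) q2028, trivial⟩ (by decide +kernel)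

theorem ce_f_51 : ∀ r, r < 64 → sm gf (Qf (3264 + r)) = Qf (tab Gen.f (3264 + r)) :=
  edges_tab (sm gf) Qf (tab Gen.f) 3264 [(3264, 5515), (3265, 3265), (3266, 5519), (3267, 2713), (3268, 2030), (3269, 5524), (3270, 5178), (3271, 5526), (3272, 5180), (3273, 5202), (3274, 5532), (3275, 5535), (3276, 2034), (3277, 5539), (3278, 5541), (3279, 2035), (3280, 5542), (3281, 2038), (3282, 5547), (3283, 5552), (3284, 3284), (3285, 3285), (3286, 3286), (3287, 5559), (3288, 2984), (3289, 5563), (3290, 5566), (3291, 2042), (3292, 5568), (3293, 5186), (3294, 5570), (3295, 5573), (3296, 2044), (3297, 2045), (3298, 5493), (3299, 3080), (3300, 5495), (3301, 5496), (3302, 5587), (3303, 5589), (3304, 2051), (3305, 2052), (3306, 5596), (3307, 5591), (3308, 5592), (3309, 5593), (3310, 5602), (3311, 5199), (3312, 5608), (3313, 4486), (3314, 3568), (3315, 2055), (3316, 5615), (3317, 5201), (3318, 5181), (3319, 3536), (3320, 5621), (3321, 5624), (3322, 2058), (3323, 2060), (3324, 2059), (3325, 2443), (3326, 5626), (3327, 4838)]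
    ⟨e3 q3264 L105425 q5515, e3 q3265 L89869 q3265, e3 q3266 L105447 q5519, e3 q3267 L119641 q2713, e3 q3268 (flp_f L89879) q2030, e3 q3269 L105473 q5524, e3 q3270 (flp_f L103413) q5178, e3 q3271 L105485 q5526, e3 q3272 (flp_f L103421) q5180, e3 q3273 L103588 q5202, e3 q3274 L105505 q5532, e3 q3275 L105519 q5535, e3 q3276 (flp_f L89907) q2034, e3 q3277 L105533 q5539, e3 q3278 L105543 q5541, e3 q3279 (flp_f L89921) q2035, e3 q3280 (flp_f L105549) q5542, e3 q3281 L89929 q2038, e3 q3282 (flp_f L105569) q5547, e3 q3283 L105587 q5552, e3 q3284 L89943 q3284, e3 q3285 L89946 q3285, e3 q3286 L89949 q3286, e3 q3287 L105612 q5559, e3 q3288 L89957 q2984, e3 q3289 L105634 q5563, e3 q3290 L105648 q5566, e3 q3291 (flp_f L89967) q2042, e3 q3292 L105660 q5568, e3 q3293 (flp_f L103451) q5186, e3 q3294 L105672 q5570, e3 q3295 L105678 q5573, e3 q3296 (flp_f L89981) q2044, e3 q3297 (flp_f L89987) q2045, e3 q3298 (flp_f L105300) q5493, e3 q3299 (flp_f L90001) q3080, e3 q3300 (flp_f L105314) q5495, e3 q3301 (flp_f L105318) q5496, e3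 q3302 L105740 q5587, e3 q3303 L105750 q5589, e3 q3304 L90019 q2051, e3 q3305 L90025 q2052, e3 q3306 L105784 q5596, e3 q3307 (flp_f L105764) q5591, e3 q3308 (flp_f L105770) q5592, e3 q3309 (flp_f L105774) q5593, e3 q3310 (flp_f L120439) q5602, e3 q3311 (flp_f L119872) q5199, e3 q3312 L105845 q5608, e3 q3313 (flp_f L119676) q4486, e3 q3314 (flp_f L119564) q3568, e3 q3315 (flp_f L90067) q2055, e3 q3316 L105899 q5615, e3 q3317 (flp_f L103578) q5201, e3 q3318 L103429 q5181, e3 q3319 L119547 q3536, e3 q3320 L105941 q5621, e3 q3321 L105957 q5624, e3 q3322 (flp_f L90099) q2058, e3 q3323 (flp_f L139079) q2060, e3 q3324 (flp_f L90115) q2059, e3 q3325 L90131 q2443, e3 q3326 (flp_f L139118) q5626, e3 q3327 L141818 q4838, trivial⟩ (by decide +kernel)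

theorem ce_f_52 : ∀ r, r < 64 → sm gf (Qf (3328 + r)) = Qf (tab Gen.f (3328 + r)) :=
  edges_tab (sm gf) Qf (tab Gen.f) 3328 [(3328, 3328), (3329, 5635), (3330, 3330), (3331, 3331), (3332, 5640), (3333, 5205), (3334, 5645), (3335, 5648), (3336, 5614), (3337, 2071), (3338, 5649), (3339, 5651), (3340, 2072), (3341, 5653), (3342, 2073), (3343, 5612), (3344, 3098), (3345, 2105), (3346, 3099), (3347, 2106), (3348, 2107), (3349, 2083), (3350, 4867), (3351, 5668), (3352, 5663), (3353, 4863), (3354, 5672), (3355, 5674), (3356, 2085), (3357, 3361), (3358, 4006), (3359, 2086), (3360, 5656), (3361, 3357), (3362, 5683), (3363, 2088), (3364, 3401), (3365, 5687), (3366, 5690), (3367, 5692), (3368, 2091), (3369, 3370), (3370, 3369), (3371, 5699), (3372, 2094), (3373, 5703), (3374, 5706), (3375, 2096), (3376, 5709), (3377, 2452), (3378, 5712), (3379, 5713), (3380, 2098), (3381, 3386), (3382, 5716), (3383, 2099), (3384, 5717), (3385, 2104), (3386, 3381), (3387, 2101), (3388, 2102), (3389, 5682), (3390, 5718), (3391, 5679)]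
    ⟨e3 q3328 L90192 q3328, e3 q3329 L106105 q5635, e3 q3330 L90210 q3330, e3 q3331 L90217 q3331, e3 q3332 L106134 q5640, e3 q3333 (flp_f L103612) q5205, e3 q3334 L106164 q5645, e3 q3335 L106184 q5648, e3 q3336 (flp_f L147901) q5614, e3 q3337 (flp_f L90243) q2071, e3 q3338 L106218 q5649, e3 q3339 L106232 q5651, e3 q3340 (flp_f L90257) q2072, e3 q3341 L106252 q5653, e3 q3342 (flp_f L90267) q2073, e3 q3343 (flp_f L149251) q5612, e3 q3344 (flp_f L90281) q3098, e3 q3345 L90289 q2105, e3 q3346 (flp_f L90299) q3099, e3 q3347 L90305 q2106, e3 q3348 L90311 q2107, e3 q3349 L90349 q2083, e3 q3350 (flp_f L141149) q4867, e3 q3351 L106428 q5668, e3 q3352 (flp_f L106372) q5663, e3 q3353 L133423 q4863, e3 q3354 (flp_f L120345) q5672, e3 q3355 L106633 q5674, e3 q3356 (flp_f L90606) q2085, e3 q3357 L90630 q3361, e3 q3358 L120210 q4006, e3 q3359 (flp_f L90618) q2086, e3 q3360 (flp_f L150524) q5656, e3 q3361 (flp_f L90630) q3357, e3 q3362 L106693 q5683, e3 q3363 (flp_f L90636) q2088, e3 q3364 (flp_f L90844) q3401, e3 q3365 L106711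 q5687, e3 q3366 L106721 q5690, e3 q3367 L106731 q5692, e3 q3368 (flp_f L90656) q2091, e3 q3369 (flp_f L139135) q3370, e3 q3370 L139135 q3369, e3 q3371 L106791 q5699, e3 q3372 (flp_f L90690) q2094, e3 q3373 L106807 q5703, e3 q3374 L106825 q5706, e3 q3375 (flp_f L90702) q2096, e3 q3376 L106841 q5709, e3 q3377 L90716 q2452, e3 q3378 L106857 q5712, e3 q3379 L106865 q5713, e3 q3380 (flp_f L90726) q2098, e3 q3381 L90754 q3386, e3 q3382 L106883 q5716, e3 q3383 (flp_f L90738) q2099, e3 q3384 L106905 q5717, e3 q3385 L90750 q2104, e3 q3386 (flp_f L90754) q3381, e3 q3387 (flp_f L90756) q2101, e3 q3388 (flp_f L90762) q2102, e3 q3389 (flp_f L149283) q5682, e3 q3390 (flp_f L106915) q5718, e3 q3391 (flp_f L150514) q5679, trivial⟩ (by decide +kernel)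

theorem ce_f_53 : ∀ r, r < 64 → sm gf (Qf (3392 + r)) = Qf (tab Gen.f (3392 + r)) :=
  edges_tab (sm gf) Qf (tab Gen.f) 3392 [(3392, 5728), (3393, 5659), (3394, 5660), (3395, 5661), (3396, 4084), (3397, 5736), (3398, 5739), (3399, 2109), (3400, 5742), (3401, 3364), (3402, 5743), (3403, 2111), (3404, 5746), (3405, 5747), (3406, 2112), (3407, 3411), (3408, 5752), (3409, 2113), (3410, 5755), (3411, 3407), (3412, 2115), (3413, 5758), (3414, 2116), (3415, 3419), (3416, 2117), (3417, 5765), (3418, 2123), (3419, 3415), (3420, 5770), (3421, 2119), (3422, 2120), (3423, 3479), (3424, 5762), (3425, 5779), (3426, 5766), (3427, 5782), (3428, 5784), (3429, 2124), (3430, 5786), (3431, 2125), (3432, 3780), (3433, 5792), (3434, 2126), (3435, 3445), (3436, 5788), (3437, 5797), (3438, 5800), (3439, 5802), (3440, 2129), (3441, 5805), (3442, 2130), (3443, 5809), (3444, 2139), (3445, 3435), (3446, 5812), (3447, 2132), (3448, 2141), (3449, 3463), (3450, 5817), (3451, 3467), (3452, 2135), (3453, 5818), (3454, 5806), (3455, 5827)]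
    ⟨e3 q3392 L106969 q5728, e3 q3393 (flp_f L106294) q5659, e3 q3394 (flp_f L106316) q5660, e3 q3395 (flp_f L106322) q5661, e3 q3396 (flp_f L94945) q4084, e3 q3397 L107029 q5736, e3 q3398 L107047 q5739, e3 q3399 (flp_f L90828) q2109, e3 q3400 L107065 q5742, e3 q3401 L90844 q3364, e3 q3402 L107085 q5743, e3 q3403 (flp_f L90900) q2111, e3 q3404 L107115 q5746, e3 q3405 L107127 q5747, e3 q3406 (flp_f L90926) q2112, e3 q3407 L90961 q3411, e3 q3408 L107154 q5752, e3 q3409 (flp_f L90943) q2113, e3 q3410 L107174 q5755, e3 q3411 (flp_f L90961) q3407, e3 q3412 (flp_f L90963) q2115, e3 q3413 L107190 q5758, e3 q3414 (flp_f L90981) q2116, e3 q3415 L91020 q3419, e3 q3416 (flp_f L90993) q2117, e3 q3417 L107244 q5765, e3 q3418 L91014 q2123, e3 q3419 (flp_f L91020) q3415, e3 q3420 L107279 q5770, e3 q3421 (flp_f L91029) q2119, e3 q3422 (flp_f L91037) q2120, e3 q3423 L91341 q3479, e3 q3424 (flp_f L107224) q5762, e3 q3425 L107336 q5779, e3 q3426 (flp_f L107261) q5766, e3 q3427 L107353 q5782, e3 q3428 L107366 q5784, e3 q3429 (flp_f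 L91080) q2124, e3 q3430 L107384 q5786, e3 q3431 (flp_f L91093) q2125, e3 q3432 L93131 q3780, e3 q3433 L107417 q5792, e3 q3434 (flp_f L91109) q2126, e3 q3435 L91165 q3445, e3 q3436 (flp_f L107402) q5788, e3 q3437 L107447 q5797, e3 q3438 L107463 q5800, e3 q3439 L107471 q5802, e3 q3440 (flp_f L91135) q2129, e3 q3441 L107497 q5805, e3 q3442 (flp_f L91143) q2130, e3 q3443 L107529 q5809, e3 q3444 L91159 q2139, e3 q3445 (flp_f L91165) q3435, e3 q3446 L107567 q5812, e3 q3447 (flp_f L91173) q2132, e3 q3448 L91184 q2141, e3 q3449 (flp_f L91240) q3463, e3 q3450 L107585 q5817, e3 q3451 L91263 q3467, e3 q3452 (flp_f L91196) q2135, e3 q3453 (flp_f L107593) q5818, e3 q3454 (flp_f L107511) q5806, e3 q3455 L107629 q5827, trivial⟩ (by decide +kernel)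

theorem ce_f_54 : ∀ r, r < 64 → sm gf (Qf (3456 + r)) = Qf (tab Gen.f (3456 + r)) :=
  edges_tab (sm gf) Qf (tab Gen.f) 3456 [(3456, 5605), (3457, 4103), (3458, 5832), (3459, 5835), (3460, 5836), (3461, 2140), (3462, 5838), (3463, 3449), (3464, 2142), (3465, 5842), (3466, 2143), (3467, 3451), (3468, 2153), (3469, 5851), (3470, 2157), (3471, 2158), (3472, 3492), (3473, 5859), (3474, 3506), (3475, 5863), (3476, 2149), (3477, 5864), (3478, 2177), (3479, 3423), (3480, 5870), (3481, 2152), (3482, 5846), (3483, 5847), (3484, 5877), (3485, 5880), (3486, 5882), (3487, 5884), (3488, 2155), (3489, 5885), (3490, 5892), (3491, 5853), (3492, 3472), (3493, 5854), (3494, 5901), (3495, 5904), (3496, 2159), (3497, 5908), (3498, 5910), (3499, 2160), (3500, 5914), (3501, 5918), (3502, 2161), (3503, 5922), (3504, 2162), (3505, 2164), (3506, 3474), (3507, 5924), (3508, 5925), (3509, 5933), (3510, 2287), (3511, 3511), (3512, 3512), (3513, 4407), (3514, 4400), (3515, 4402), (3516, 3516), (3517, 3517), (3518, 4414), (3519, 4415)]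
    ⟨e3 q3456 (flp_f L120493) q5605, e3 q3457 L120343 q4103, e3 q3458 L107657 q5832, e3 q3459 L107673 q5835, e3 q3460 L107685 q5836, e3 q3461 (flp_f L91229) q2140, e3 q3462 L107704 q5838, e3 q3463 L91240 q3449, e3 q3464 (flp_f L91242) q2142, e3 q3465 L107719 q5842, e3 q3466 (flp_f L91251) q2143, e3 q3467 (flp_f L91263) q3451, e3 q3468 L91271 q2153, e3 q3469 L107769 q5851, e3 q3470 L91285 q2157, e3 q3471 L91291 q2158, e3 q3472 (flp_f L91407) q3492, e3 q3473 L107815 q5859, e3 q3474 L91489 q3506, e3 q3475 L107839 q5863, e3 q3476 (flp_f L91317) q2149, e3 q3477 (flp_f L107851) q5864, e3 q3478 L91333 q2177, e3 q3479 (flp_f L91341) q3423, e3 q3480 L107903 q5870, e3 q3481 (flp_f L91351) q2152, e3 q3482 (flp_f L107733) q5846, e3 q3483 (flp_f L107743) q5847, e3 q3484 L107953 q5877, e3 q3485 L107967 q5880, e3 q3486 L107981 q5882, e3 q3487 L107991 q5884, e3 q3488 (flp_f L91383) q2155, e3 q3489 (flp_f L107999) q5885, e3 q3490 L108031 q5892, e3 q3491 (flp_f L107785) q5853, e3 q3492 L91407 q3472, e3 q3493 (flp_f L107791) q5854,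 e3 q3494 L108075 q5901, e3 q3495 L108097 q5904, e3 q3496 (flp_f L91425) q2159, e3 q3497 L108115 q5908, e3 q3498 L108127 q5910, e3 q3499 (flp_f L91443) q2160, e3 q3500 L108150 q5914, e3 q3501 L108166 q5918, e3 q3502 (flp_f L91459) q2161, e3 q3503 L108190 q5922, e3 q3504 (flp_f L91471) q2162, e3 q3505 L91481 q2164, e3 q3506 (flp_f L91489) q3474, e3 q3507 (flp_f L108208) q5924, e3 q3508 (flp_f L108214) q5925, e3 q3509 L108253 q5933, e3 q3510 L91511 q2287, e3 q3511 L91521 q3511, e3 q3512 L91524 q3512, e3 q3513 (flp_f L96774) q4407, e3 q3514 (flp_f L96736) q4400, e3 q3515 (flp_f L96748) q4402, e3 q3516 L91549 q3516, e3 q3517 L91552 q3517, e3 q3518 (flp_f L96832) q4414, e3 q3519 (flp_f L96838) q4415, trivial⟩ (by decide +kernel)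

theorem ce_f_55 : ∀ r, r < 64 → sm gf (Qf (3520 + r)) = Qf (tab Gen.f (3520 + r)) :=
  edges_tab (sm gf) Qf (tab Gen.f) 3520 [(3520, 2195), (3521, 5949), (3522, 2674), (3523, 2673), (3524, 4487), (3525, 5951), (3526, 4523), (3527, 2178), (3528, 2199), (3529, 2200), (3530, 3570), (3531, 5956), (3532, 3584), (3533, 5957), (3534, 2181), (3535, 5958), (3536, 3319), (3537, 2208), (3538, 2210), (3539, 3594), (3540, 5970), (3541, 5973), (3542, 5975), (3543, 2186), (3544, 5977), (3545, 3621), (3546, 5981), (3547, 2188), (3548, 2190), (3549, 5983), (3550, 5984), (3551, 5991), (3552, 2193), (3553, 5993), (3554, 3555), (3555, 3554), (3556, 5995), (3557, 5996), (3558, 5997), (3559, 2194), (3560, 3090), (3561, 3644), (3562, 5200), (3563, 6003), (3564, 6004), (3565, 6005), (3566, 2197), (3567, 6006), (3568, 3314), (3569, 3646), (3570, 3530), (3571, 5388), (3572, 6015), (3573, 6018), (3574, 2201), (3575, 6022), (3576, 6024), (3577, 2202), (3578, 5622), (3579, 6026), (3580, 2203), (3581, 6029), (3582, 2204), (3583, 2206)]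
    ⟨e3 q3520 L91611 q2195, e3 q3521 L108439 q5949, e3 q3522 L91623 q2674, e3 q3523 L91654 q2673, e3 q3524 (flp_f L97222) q4487, e3 q3525 L108465 q5951, e3 q3526 L150378 q4523, e3 q3527 (flp_f L91666) q2178, e3 q3528 L91672 q2199, e3 q3529 L91676 q2200, e3 q3530 (flp_f L91858) q3570, e3 q3531 L108519 q5956, e3 q3532 L91926 q3584, e3 q3533 L108539 q5957, e3 q3534 (flp_f L91696) q2181, e3 q3535 (flp_f L108549) q5958, e3 q3536 (flp_f L119547) q3319, e3 q3537 L91712 q2208, e3 q3538 L91718 q2210, e3 q3539 (flp_f L91960) q3594, e3 q3540 L108621 q5970, e3 q3541 L108629 q5973, e3 q3542 L108639 q5975, e3 q3543 (flp_f L91734) q2186, e3 q3544 L108653 q5977, e3 q3545 L92061 q3621, e3 q3546 L108677 q5981, e3 q3547 (flp_f L91752) q2188, e3 q3548 L91758 q2190, e3 q3549 (flp_f L108687) q5983, e3 q3550 (flp_f L108691) q5984, e3 q3551 L108715 q5991, e3 q3552 L91776 q2193, e3 q3553 L108759 q5993, e3 q3554 (flp_f L118985) q3555, e3 q3555 L118985 q3554, e3 q3556 (flp_f L118996) q5995, e3 q3557 L108807 q5996, e3 q3558 L108819 q5997,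 e3 q3559 (flp_f L91806) q2194, e3 q3560 (flp_f L119506) q3090, e3 q3561 L119464 q3644, e3 q3562 (flp_f L119517) q5200, e3 q3563 L108887 q6003, e3 q3564 L108903 q6004, e3 q3565 L108915 q6005, e3 q3566 (flp_f L91836) q2197, e3 q3567 (flp_f L108925) q6006, e3 q3568 L119564 q3314, e3 q3569 (flp_f L119688) q3646, e3 q3570 L91858 q3530, e3 q3571 (flp_f L119419) q5388, e3 q3572 L108993 q6015, e3 q3573 L109011 q6018, e3 q3574 (flp_f L91872) q2201, e3 q3575 L109027 q6022, e3 q3576 L109037 q6024, e3 q3577 (flp_f L91886) q2202, e3 q3578 (flp_f L120471) q5622, e3 q3579 L109069 q6026, e3 q3580 (flp_f L91900) q2203, e3 q3581 L109085 q6029, e3 q3582 (flp_f L91910) q2204, e3 q3583 L91918 q2206, trivial⟩ (by decide +kernel)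

theorem ce_f_56 : ∀ r, r < 64 → sm gf (Qf (3584 + r)) = Qf (tab Gen.f (3584 + r)) :=
  edges_tab (sm gf) Qf (tab Gen.f) 3584 [(3584, 3532), (3585, 6032), (3586, 6033), (3587, 6041), (3588, 6042), (3589, 3055), (3590, 2207), (3591, 6046), (3592, 3225), (3593, 5964), (3594, 3539), (3595, 6053), (3596, 2950), (3597, 5965), (3598, 6057), (3599, 2211), (3600, 3609), (3601, 6062), (3602, 2212), (3603, 6063), (3604, 6069), (3605, 6073), (3606, 2214), (3607, 6077), (3608, 2215), (3609, 3600), (3610, 5618), (3611, 6081), (3612, 2217), (3613, 6084), (3614, 5494), (3615, 6087), (3616, 2218), (3617, 6082), (3618, 6093), (3619, 6094), (3620, 2220), (3621, 3545), (3622, 2224), (3623, 2225), (3624, 3628), (3625, 6104), (3626, 6107), (3627, 6098), (3628, 3624), (3629, 6099), (3630, 6116), (3631, 2226), (3632, 2947), (3633, 2364), (3634, 6122), (3635, 3635), (3636, 3636), (3637, 3637), (3638, 5079), (3639, 2887), (3640, 6131), (3641, 4809), (3642, 4814), (3643, 4815), (3644, 3561), (3645, 6140), (3646, 3569), (3647, 2235)]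
    ⟨e3 q3584 (flp_f L91926) q3532, e3 q3585 (flp_f L109103) q6032, e3 q3586 (flp_f L109107) q6033, e3 q3587 L109139 q6041, e3 q3588 L109151 q6042, e3 q3589 (flp_f L119409) q3055, e3 q3590 (flp_f L91944) q2207, e3 q3591 L109181 q6046, e3 q3592 (flp_f L119387) q3225, e3 q3593 (flp_f L108593) q5964, e3 q3594 L91960 q3539, e3 q3595 L109221 q6053, e3 q3596 (flp_f L119033) q2950, e3 q3597 (flp_f L108603) q5965, e3 q3598 L109247 q6057, e3 q3599 (flp_f L91974) q2211, e3 q3600 L92019 q3609, e3 q3601 L109269 q6062, e3 q3602 (flp_f L91990) q2212, e3 q3603 (flp_f L109275) q6063, e3 q3604 L109289 q6069, e3 q3605 L109299 q6073, e3 q3606 (flp_f L92000) q2214, e3 q3607 L109319 q6077, e3 q3608 (flp_f L92010) q2215, e3 q3609 (flp_f L92019) q3600, e3 q3610 (flp_f L120483) q5618, e3 q3611 L109354 q6081, e3 q3612 (flp_f L92025) q2217, e3 q3613 L109370 q6084, e3 q3614 (flp_f L148003) q5494, e3 q3615 L109396 q6087, e3 q3616 (flp_f L92035) q2218, e3 q3617 (flp_f L109364) q6082, e3 q3618 L109428 q6093, e3 q3619 L109432 q6094, e3 q3620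 (flp_f L92051) q2220, e3 q3621 (flp_f L92061) q3545, e3 q3622 L92065 q2224, e3 q3623 L92069 q2225, e3 q3624 (flp_f L92085) q3628, e3 q3625 L109470 q6104, e3 q3626 L109480 q6107, e3 q3627 (flp_f L109452) q6098, e3 q3628 L92085 q3624, e3 q3629 (flp_f L109456) q6099, e3 q3630 L109511 q6116, e3 q3631 (flp_f L92096) q2226, e3 q3632 (flp_f L119065) q2947, e3 q3633 L92110 q2364, e3 q3634 L109561 q6122, e3 q3635 L92122 q3635, e3 q3636 L92125 q3636, e3 q3637 L92128 q3637, e3 q3638 L147511 q5079, e3 q3639 L92137 q2887, e3 q3640 L109620 q6131, e3 q3641 (flp_f L98895) q4809, e3 q3642 (flp_f L98919) q4814, e3 q3643 (flp_f L98923) q4815, e3 q3644 (flp_f L119464) q3561, e3 q3645 L109667 q6140, e3 q3646 L119688 q3569, e3 q3647 (flp_f L92166) q2235, trivial⟩ (by decide +kernel)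

theorem ce_f_57 : ∀ r, r < 64 → sm gf (Qf (3648 + r)) = Qf (tab Gen.f (3648 + r)) :=
  edges_tab (sm gf) Qf (tab Gen.f) 3648 [(3648, 5999), (3649, 2393), (3650, 2395), (3651, 6146), (3652, 3652), (3653, 6150), (3654, 6153), (3655, 6031), (3656, 2239), (3657, 6155), (3658, 2852), (3659, 4876), (3660, 6159), (3661, 4866), (3662, 2243), (3663, 3667), (3664, 2244), (3665, 6167), (3666, 2250), (3667, 3663), (3668, 6170), (3669, 2246), (3670, 6173), (3671, 2247), (3672, 3682), (3673, 6164), (3674, 6182), (3675, 3676), (3676, 3675), (3677, 6186), (3678, 6188), (3679, 6190), (3680, 2251), (3681, 3681), (3682, 3672), (3683, 6195), (3684, 2253), (3685, 2266), (3686, 2267), (3687, 3711), (3688, 6204), (3689, 3720), (3690, 6208), (3691, 2256), (3692, 6209), (3693, 6215), (3694, 2273), (3695, 2275), (3696, 3726), (3697, 6225), (3698, 6228), (3699, 6230), (3700, 2261), (3701, 6234), (3702, 3745), (3703, 6240), (3704, 2263), (3705, 2265), (3706, 6242), (3707, 6243), (3708, 6250), (3709, 6251), (3710, 6198), (3711, 3687)]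
    ⟨e3 q3648 (flp_f L119471) q5999, e3 q3649 L92178 q2393, e3 q3650 L92184 q2395, e3 q3651 L109757 q6146, e3 q3652 L92221 q3652, e3 q3653 L109782 q6150, e3 q3654 L109798 q6153, e3 q3655 (flp_f L147760) q6031, e3 q3656 (flp_f L92239) q2239, e3 q3657 L109828 q6155, e3 q3658 L92251 q2852, e3 q3659 (flp_f L99365) q4876, e3 q3660 L109888 q6159, e3 q3661 (flp_f L99275) q4866, e3 q3662 (flp_f L92418) q2243, e3 q3663 L92452 q3667, e3 q3664 (flp_f L92430) q2244, e3 q3665 L110087 q6167, e3 q3666 L92446 q2250, e3 q3667 (flp_f L92452) q3663, e3 q3668 L110119 q6170, e3 q3669 (flp_f L92460) q2246, e3 q3670 L110132 q6173, e3 q3671 (flp_f L92473) q2247, e3 q3672 L92546 q3682, e3 q3673 (flp_f L110067) q6164, e3 q3674 L110178 q6182, e3 q3675 (flp_f L92515) q3676, e3 q3676 L92515 q3675, e3 q3677 L110216 q6186, e3 q3678 L110230 q6188, e3 q3679 L110240 q6190, e3 q3680 (flp_f L92529) q2251, e3 q3681 L92538 q3681, e3 q3682 (flp_f L92546) q3672, e3 q3683 L110289 q6195, e3 q3684 (flp_f L92554) q2253, e3 q3685 L92571 q2266, e3 q3686 L92577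 q2267, e3 q3687 (flp_f L92721) q3711, e3 q3688 L110341 q6204, e3 q3689 L92781 q3720, e3 q3690 L110367 q6208, e3 q3691 (flp_f L92605) q2256, e3 q3692 (flp_f L110379) q6209, e3 q3693 L110407 q6215, e3 q3694 L92627 q2273, e3 q3695 L92631 q2275, e3 q3696 (flp_f L92819) q3726, e3 q3697 L110457 q6225, e3 q3698 L110473 q6228, e3 q3699 L110485 q6230, e3 q3700 (flp_f L92653) q2261, e3 q3701 L110507 q6234, e3 q3702 L92923 q3745, e3 q3703 L110537 q6240, e3 q3704 (flp_f L92675) q2263, e3 q3705 L92685 q2265, e3 q3706 (flp_f L110549) q6242, e3 q3707 (flp_f L110555) q6243, e3 q3708 L110591 q6250, e3 q3709 L110599 q6251, e3 q3710 (flp_f L110311) q6198, e3 q3711 L92721 q3687, trivial⟩ (by decide +kernel)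

theorem ce_f_58 : ∀ r, r < 64 → sm gf (Qf (3712 + r)) = Qf (tab Gen.f (3712 + r)) :=
  edges_tab (sm gf) Qf (tab Gen.f) 3712 [(3712, 6199), (3713, 6261), (3714, 2268), (3715, 6263), (3716, 6267), (3717, 2269), (3718, 6271), (3719, 2270), (3720, 3689), (3721, 6275), (3722, 2272), (3723, 6279), (3724, 6281), (3725, 6218), (3726, 3696), (3727, 6289), (3728, 6219), (3729, 6220), (3730, 6295), (3731, 6297), (3732, 2276), (3733, 4377), (3734, 6302), (3735, 2278), (3736, 6306), (3737, 6308), (3738, 6312), (3739, 2279), (3740, 6304), (3741, 6319), (3742, 6320), (3743, 2281), (3744, 2295), (3745, 3702), (3746, 6328), (3747, 6331), (3748, 6335), (3749, 2284), (3750, 6339), (3751, 3771), (3752, 6341), (3753, 2623), (3754, 6345), (3755, 6347), (3756, 2289), (3757, 6351), (3758, 6355), (3759, 2290), (3760, 6359), (3761, 4409), (3762, 6357), (3763, 2293), (3764, 6321), (3765, 6323), (3766, 6368), (3767, 6371), (3768, 6375), (3769, 2296), (3770, 6378), (3771, 3751), (3772, 6381), (3773, 6385), (3774, 2298), (3775, 6388)]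
    ⟨e3 q3712 (flp_f L110315) q6199, e3 q3713 L110651 q6261, e3 q3714 (flp_f L92732) q2268, e3 q3715 L110667 q6263, e3 q3716 L110687 q6267, e3 q3717 (flp_f L92754) q2269, e3 q3718 L110710 q6271, e3 q3719 (flp_f L92767) q2270, e3 q3720 (flp_f L92781) q3689, e3 q3721 L110735 q6275, e3 q3722 (flp_f L92791) q2272, e3 q3723 L110763 q6279, e3 q3724 L110781 q6281, e3 q3725 (flp_f L110425) q6218, e3 q3726 L92819 q3696, e3 q3727 L110829 q6289, e3 q3728 (flp_f L110429) q6219, e3 q3729 (flp_f L110433) q6220, e3 q3730 L110863 q6295, e3 q3731 L110877 q6297, e3 q3732 (flp_f L92843) q2276, e3 q3733 (flp_f L96594) q4377, e3 q3734 L110901 q6302, e3 q3735 (flp_f L92867) q2278, e3 q3736 L110929 q6306, e3 q3737 L110949 q6308, e3 q3738 L110977 q6312, e3 q3739 (flp_f L92883) q2279, e3 q3740 (flp_f L110921) q6304, e3 q3741 L111015 q6319, e3 q3742 L111019 q6320, e3 q3743 (flp_f L92905) q2281, e3 q3744 L92913 q2295, e3 q3745 (flp_f L92923) q3702, e3 q3746 L111063 q6328, e3 q3747 L111081 q6331, e3 q3748 L111103 q6335, e3 q3749 (flp_f L92938)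 q2284, e3 q3750 L111124 q6339, e3 q3751 (flp_f L93069) q3771, e3 q3752 L111137 q6341, e3 q3753 (flp_f L92964) q2623, e3 q3754 L111155 q6345, e3 q3755 L111165 q6347, e3 q3756 (flp_f L92974) q2289, e3 q3757 L111197 q6351, e3 q3758 L111219 q6355, e3 q3759 (flp_f L92991) q2290, e3 q3760 L111240 q6359, e3 q3761 (flp_f L96788) q4409, e3 q3762 (flp_f L111231) q6357, e3 q3763 (flp_f L93011) q2293, e3 q3764 (flp_f L111029) q6321, e3 q3765 (flp_f L111043) q6323, e3 q3766 L111291 q6368, e3 q3767 L111309 q6371, e3 q3768 L111335 q6375, e3 q3769 (flp_f L93047) q2296, e3 q3770 L111355 q6378, e3 q3771 L93069 q3751, e3 q3772 L111373 q6381, e3 q3773 L111399 q6385, e3 q3774 (flp_f L93085) q2298, e3 q3775 L111419 q6388, trivial⟩ (by decide +kernel)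

theorem ce_f_59 : ∀ r, r < 64 → sm gf (Qf (3776 + r)) = Qf (tab Gen.f (3776 + r)) :=
  edges_tab (sm gf) Qf (tab Gen.f) 3776 [(3776, 2633), (3777, 2643), (3778, 6392), (3779, 5772), (3780, 3432), (3781, 6397), (3782, 2303), (3783, 3788), (3784, 4611), (3785, 2306), (3786, 6401), (3787, 4461), (3788, 3783), (3789, 2310), (3790, 6404), (3791, 2311), (3792, 2312), (3793, 4445), (3794, 6408), (3795, 2314), (3796, 6411), (3797, 6414), (3798, 2334), (3799, 2337), (3800, 2338), (3801, 3840), (3802, 6423), (3803, 3811), (3804, 6427), (3805, 2318), (3806, 2781), (3807, 6431), (3808, 2319), (3809, 6434), (3810, 2320), (3811, 3803), (3812, 4563), (3813, 6439), (3814, 2322), (3815, 6442), (3816, 6445), (3817, 3876), (3818, 6449), (3819, 6450), (3820, 2324), (3821, 5982), (3822, 2327), (3823, 2328), (3824, 3827), (3825, 4564), (3826, 6456), (3827, 3824), (3828, 6457), (3829, 6466), (3830, 2329), (3831, 2330), (3832, 3833), (3833, 3832), (3834, 4543), (3835, 2332), (3836, 5176), (3837, 2333), (3838, 4560), (3839, 6416)]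
    ⟨e3 q3776 L93107 q2633, e3 q3777 L93117 q2643, e3 q3778 L111445 q6392, e3 q3779 (flp_f L107296) q5772, e3 q3780 (flp_f L93131) q3432, e3 q3781 L111469 q6397, e3 q3782 (flp_f L93135) q2303, e3 q3783 (flp_f L93183) q3788, e3 q3784 L98489 q4611, e3 q3785 (flp_f L93161) q2306, e3 q3786 (flp_f L111503) q6401, e3 q3787 (flp_f L97108) q4461, e3 q3788 L93183 q3783, e3 q3789 (flp_f L93193) q2310, e3 q3790 L111525 q6404, e3 q3791 (flp_f L93203) q2311, e3 q3792 (flp_f L93213) q2312, e3 q3793 L97033 q4445, e3 q3794 L111579 q6408, e3 q3795 (flp_f L93231) q2314, e3 q3796 L111595 q6411, e3 q3797 L111613 q6414, e3 q3798 L93247 q2334, e3 q3799 L93251 q2337, e3 q3800 L93255 q2338, e3 q3801 (flp_f L93464) q3840, e3 q3802 L111659 q6423, e3 q3803 L93309 q3811, e3 q3804 L111679 q6427, e3 q3805 (flp_f L93273) q2318, e3 q3806 L93295 q2781, e3 q3807 L111693 q6431, e3 q3808 (flp_f L93285) q2319, e3 q3809 L111705 q6434, e3 q3810 (flp_f L93299) q2320, e3 q3811 (flp_f L93309) q3803, e3 q3812 L97915 q4563, e3 q3813 L111731 q6439, e3 q3814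 (flp_f L93317) q2322, e3 q3815 L111747 q6442, e3 q3816 L111763 q6445, e3 q3817 L93649 q3876, e3 q3818 L111783 q6449, e3 q3819 L111791 q6450, e3 q3820 (flp_f L93343) q2324, e3 q3821 (flp_f L108683) q5982, e3 q3822 L93353 q2327, e3 q3823 L93357 q2328, e3 q3824 (flp_f L93377) q3827, e3 q3825 (flp_f L97605) q4564, e3 q3826 (flp_f L111819) q6456, e3 q3827 L93377 q3824, e3 q3828 (flp_f L111823) q6457, e3 q3829 L111855 q6466, e3 q3830 (flp_f L93389) q2329, e3 q3831 (flp_f L93397) q2330, e3 q3832 L93417 q3833, e3 q3833 (flp_f L93417) q3832, e3 q3834 (flp_f L97492) q4543, e3 q3835 (flp_f L93425) q2332, e3 q3836 (flp_f L119665) q5176, e3 q3837 (flp_f L93442) q2333, e3 q3838 L97585 q4560, e3 q3839 (flp_f L111627) q6416, trivial⟩ (by decide +kernel)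

theorem ce_f_60 : ∀ r, r < 64 → sm gf (Qf (3840 + r)) = Qf (tab Gen.f (3840 + r)) :=
  edges_tab (sm gf) Qf (tab Gen.f) 3840 [(3840, 3801), (3841, 6477), (3842, 6480), (3843, 6482), (3844, 2336), (3845, 2920), (3846, 6417), (3847, 6488), (3848, 6490), (3849, 3935), (3850, 2339), (3851, 3911), (3852, 2340), (3853, 6494), (3854, 4752), (3855, 4753), (3856, 6501), (3857, 2343), (3858, 3860), (3859, 2349), (3860, 3858), (3861, 2345), (3862, 6505), (3863, 2346), (3864, 4663), (3865, 6507), (3866, 2347), (3867, 6506), (3868, 4510), (3869, 6503), (3870, 2686), (3871, 6518), (3872, 6520), (3873, 2350), (3874, 2351), (3875, 2381), (3876, 3817), (3877, 2382), (3878, 3938), (3879, 6530), (3880, 4554), (3881, 6533), (3882, 2355), (3883, 5518), (3884, 6538), (3885, 2356), (3886, 3891), (3887, 5102), (3888, 6544), (3889, 2357), (3890, 6548), (3891, 3886), (3892, 6551), (3893, 2359), (3894, 2830), (3895, 5464), (3896, 6556), (3897, 2362), (3898, 2970), (3899, 2986), (3900, 2363), (3901, 3927), (3902, 6119), (3903, 2832)]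
    ⟨e3 q3840 L93464 q3801, e3 q3841 L111930 q6477, e3 q3842 L111948 q6480, e3 q3843 L111960 q6482, e3 q3844 (flp_f L93474) q2336, e3 q3845 (flp_f L119203) q2920, e3 q3846 (flp_f L111635) q6417, e3 q3847 L111994 q6488, e3 q3848 L112010 q6490, e3 q3849 (flp_f L149091) q3935, e3 q3850 (flp_f L93504) q2339, e3 q3851 L93793 q3911, e3 q3852 (flp_f L93516) q2340, e3 q3853 (flp_f L112040) q6494, e3 q3854 (flp_f L98601) q4752, e3 q3855 (flp_f L98605) q4753, e3 q3856 L112062 q6501, e3 q3857 (flp_f L93536) q2343, e3 q3858 L93572 q3860, e3 q3859 L93566 q2349, e3 q3860 (flp_f L93572) q3858, e3 q3861 (flp_f L93574) q2345, e3 q3862 L112093 q6505, e3 q3863 (flp_f L93589) q2346, e3 q3864 L102072 q4663, e3 q3865 L112111 q6507, e3 q3866 (flp_f L93597) q2347, e3 q3867 (flp_f L112109) q6506, e3 q3868 L97329 q4510, e3 q3869 (flp_f L112084) q6503, e3 q3870 (flp_f L93619) q2686, e3 q3871 L112206 q6518, e3 q3872 L112216 q6520, e3 q3873 (flp_f L93629) q2350, e3 q3874 (flp_f L93633) q2351, e3 q3875 L93641 q2381, e3 q3876 (flp_f L93649) q3817,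 e3 q3877 L93653 q2382, e3 q3878 (flp_f L93905) q3938, e3 q3879 L112278 q6530, e3 q3880 L98071 q4554, e3 q3881 L112288 q6533, e3 q3882 (flp_f L93665) q2355, e3 q3883 (flp_f L119656) q5518, e3 q3884 L112328 q6538, e3 q3885 (flp_f L93681) q2356, e3 q3886 L93708 q3891, e3 q3887 (flp_f L120402) q5102, e3 q3888 L112356 q6544, e3 q3889 (flp_f L93697) q2357, e3 q3890 L112376 q6548, e3 q3891 (flp_f L93708) q3886, e3 q3892 L112390 q6551, e3 q3893 (flp_f L93714) q2359, e3 q3894 (flp_f L93727) q2830, e3 q3895 (flp_f L143441) q5464, e3 q3896 L112412 q6556, e3 q3897 (flp_f L93735) q2362, e3 q3898 (flp_f L119298) q2970, e3 q3899 (flp_f L119179) q2986, e3 q3900 (flp_f L93745) q2363, e3 q3901 L148319 q3927, e3 q3902 (flp_f L109545) q6119, e3 q3903 (flp_f L93757) q2832, trivial⟩ (by decide +kernel)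

theorem ce_f_61 : ∀ r, r < 64 → sm gf (Qf (3904 + r)) = Qf (tab Gen.f (3904 + r)) :=
  edges_tab (sm gf) Qf (tab Gen.f) 3904 [(3904, 6564), (3905, 6567), (3906, 5537), (3907, 5581), (3908, 2367), (3909, 6571), (3910, 2368), (3911, 3851), (3912, 6574), (3913, 6577), (3914, 2370), (3915, 3921), (3916, 6582), (3917, 6583), (3918, 2371), (3919, 6587), (3920, 2376), (3921, 3915), (3922, 2373), (3923, 2374), (3924, 6585), (3925, 6588), (3926, 6596), (3927, 3901), (3928, 5032), (3929, 2377), (3930, 6599), (3931, 2378), (3932, 6598), (3933, 6522), (3934, 6524), (3935, 3849), (3936, 6569), (3937, 6608), (3938, 3878), (3939, 2383), (3940, 5081), (3941, 3941), (3942, 3027), (3943, 6616), (3944, 6619), (3945, 3052), (3946, 4011), (3947, 2388), (3948, 3955), (3949, 6626), (3950, 2389), (3951, 5138), (3952, 6631), (3953, 2390), (3954, 6635), (3955, 3948), (3956, 6639), (3957, 2392), (3958, 6143), (3959, 2869), (3960, 6644), (3961, 3020), (3962, 2870), (3963, 6648), (3964, 6650), (3965, 6652), (3966, 2397), (3967, 2892)]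
    ⟨e3 q3904 L112484 q6564, e3 q3905 L112496 q6567, e3 q3906 (flp_f L120589) q5537, e3 q3907 (flp_f L151413) q5581, e3 q3908 (flp_f L93771) q2367, e3 q3909 L112536 q6571, e3 q3910 (flp_f L93779) q2368, e3 q3911 (flp_f L93793) q3851, e3 q3912 L112552 q6574, e3 q3913 L112572 q6577, e3 q3914 (flp_f L93801) q2370, e3 q3915 L93832 q3921, e3 q3916 L112592 q6582, e3 q3917 L112600 q6583, e3 q3918 (flp_f L93817) q2371, e3 q3919 L112620 q6587, e3 q3920 L93827 q2376, e3 q3921 (flp_f L93832) q3915, e3 q3922 (flp_f L93834) q2373, e3 q3923 (flp_f L93841) q2374, e3 q3924 (flp_f L112612) q6585, e3 q3925 (flp_f L112630) q6588, e3 q3926 L112662 q6596, e3 q3927 (flp_f L148319) q3901, e3 q3928 L146589 q5032, e3 q3929 (flp_f L93865) q2377, e3 q3930 L112708 q6599, e3 q3931 (flp_f L93871) q2378, e3 q3932 (flp_f L112696) q6598, e3 q3933 (flp_f L112238) q6522, e3 q3934 (flp_f L112252) q6524, e3 q3935 L149091 q3849, e3 q3936 (flp_f L149132) q6569, e3 q3937 L112782 q6608, e3 q3938 L93905 q3878, e3 q3939 (flp_f L93907) q2383, e3 q3940 (flp_f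 L119333) q5081, e3 q3941 L93922 q3941, e3 q3942 (flp_f L119323) q3027, e3 q3943 L112916 q6616, e3 q3944 L112952 q6619, e3 q3945 L120098 q3052, e3 q3946 L120159 q4011, e3 q3947 (flp_f L94024) q2388, e3 q3948 L94068 q3955, e3 q3949 L113014 q6626, e3 q3950 (flp_f L94040) q2389, e3 q3951 (flp_f L120096) q5138, e3 q3952 L113046 q6631, e3 q3953 (flp_f L94052) q2390, e3 q3954 L113068 q6635, e3 q3955 (flp_f L94068) q3948, e3 q3956 L113090 q6639, e3 q3957 (flp_f L94074) q2392, e3 q3958 (flp_f L109707) q6143, e3 q3959 (flp_f L94096) q2869, e3 q3960 L113118 q6644, e3 q3961 L119253 q3020, e3 q3962 L94118 q2870, e3 q3963 L113142 q6648, e3 q3964 L113154 q6650, e3 q3965 L113164 q6652, e3 q3966 (flp_f L94130) q2397, e3 q3967 (flp_f L141089) q2892, trivial⟩ (by decide +kernel)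

theorem ce_f_62 : ∀ r, r < 64 → sm gf (Qf (3968 + r)) = Qf (tab Gen.f (3968 + r)) :=
  edges_tab (sm gf) Qf (tab Gen.f) 3968 [(3968, 2902), (3969, 2903), (3970, 6660), (3971, 4109), (3972, 2402), (3973, 6662), (3974, 6667), (3975, 6670), (3976, 6672), (3977, 2405), (3978, 3986), (3979, 6674), (3980, 2406), (3981, 6677), (3982, 6679), (3983, 2407), (3984, 6636), (3985, 2414), (3986, 3978), (3987, 2409), (3988, 6686), (3989, 2410), (3990, 6676), (3991, 2888), (3992, 2412), (3993, 6681), (3994, 6683), (3995, 6684), (3996, 6697), (3997, 2472), (3998, 2474), (3999, 2475), (4000, 2482), (4001, 4003), (4002, 2421), (4003, 4001), (4004, 5117), (4005, 5116), (4006, 3358), (4007, 2423), (4008, 6712), (4009, 4013), (4010, 6715), (4011, 3946), (4012, 2429), (4013, 4009), (4014, 6721), (4015, 6724), (4016, 4032), (4017, 6728), (4018, 2431), (4019, 6729), (4020, 2434), (4021, 6735), (4022, 6738), (4023, 6740), (4024, 2435), (4025, 6741), (4026, 6746), (4027, 6750), (4028, 2437), (4029, 5427), (4030, 2438), (4031, 2440)]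
    ⟨e3 q3968 L94156 q2902, e3 q3969 L94162 q2903, e3 q3970 L113234 q6660, e3 q3971 L137196 q4109, e3 q3972 (flp_f L94219) q2402, e3 q3973 (flp_f L113320) q6662, e3 q3974 L113380 q6667, e3 q3975 L113396 q6670, e3 q3976 L113416 q6672, e3 q3977 (flp_f L94275) q2405, e3 q3978 L94323 q3986, e3 q3979 L113442 q6674, e3 q3980 (flp_f L94291) q2406, e3 q3981 L113462 q6677, e3 q3982 L113474 q6679, e3 q3983 (flp_f L94303) q2407, e3 q3984 (flp_f L149035) q6636, e3 q3985 L94317 q2414, e3 q3986 (flp_f L94323) q3978, e3 q3987 (flp_f L94325) q2409, e3 q3988 L113522 q6686, e3 q3989 (flp_f L94339) q2410, e3 q3990 (flp_f L113454) q6676, e3 q3991 (flp_f L94361) q2888, e3 q3992 (flp_f L94363) q2412, e3 q3993 (flp_f L113486) q6681, e3 q3994 (flp_f L113508) q6683, e3 q3995 (flp_f L113512) q6684, e3 q3996 L113598 q6697, e3 q3997 L94399 q2472, e3 q3998 L94407 q2474, e3 q3999 L94413 q2475, e3 q4000 (flp_f L120214) q2482, e3 q4001 L94461 q4003, e3 q4002 L120138 q2421, e3 q4003 (flp_f L94461) q4001, e3 q4004 (flp_f L119803) q5117, e3 q4005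 (flp_f L119789) q5116, e3 q4006 (flp_f L120210) q3358, e3 q4007 (flp_f L94480) q2423, e3 q4008 L113773 q6712, e3 q4009 L94518 q4013, e3 q4010 L113819 q6715, e3 q4011 (flp_f L120159) q3946, e3 q4012 L119986 q2429, e3 q4013 (flp_f L94518) q4009, e3 q4014 L113873 q6721, e3 q4015 L113885 q6724, e3 q4016 L94618 q4032, e3 q4017 L113901 q6728, e3 q4018 (flp_f L94544) q2431, e3 q4019 (flp_f L113907) q6729, e3 q4020 (flp_f L94564) q2434, e3 q4021 L113949 q6735, e3 q4022 L113963 q6738, e3 q4023 L113975 q6740, e3 q4024 (flp_f L94580) q2435, e3 q4025 (flp_f L113985) q6741, e3 q4026 L114015 q6746, e3 q4027 L114025 q6750, e3 q4028 (flp_f L94594) q2437, e3 q4029 (flp_f L153429) q5427, e3 q4030 (flp_f L94604) q2438, e3 q4031 L94612 q2440, trivial⟩ (by decide +kernel)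

theorem ce_f_63 : ∀ r, r < 64 → sm gf (Qf (4032 + r)) = Qf (tab Gen.f (4032 + r)) :=
  edges_tab (sm gf) Qf (tab Gen.f) 4032 [(4032, 4016), (4033, 6754), (4034, 6755), (4035, 6760), (4036, 4839), (4037, 4841), (4038, 5627), (4039, 6768), (4040, 4907), (4041, 4089), (4042, 6773), (4043, 2445), (4044, 6753), (4045, 4847), (4046, 6779), (4047, 2448), (4048, 2449), (4049, 2451), (4050, 6782), (4051, 6784), (4052, 6785), (4053, 2453), (4054, 6788), (4055, 2454), (4056, 6786), (4057, 6682), (4058, 2457), (4059, 2465), (4060, 2459), (4061, 2467), (4062, 2468), (4063, 4074), (4064, 5705), (4065, 5719), (4066, 2463), (4067, 6793), (4068, 6794), (4069, 6795), (4070, 5723), (4071, 6817), (4072, 6820), (4073, 6798), (4074, 4063), (4075, 6799), (4076, 5410), (4077, 6830), (4078, 2469), (4079, 6833), (4080, 5097), (4081, 2470), (4082, 4835), (4083, 6698), (4084, 3396), (4085, 6842), (4086, 6657), (4087, 6656), (4088, 6700), (4089, 4041), (4090, 6850), (4091, 3021), (4092, 6702), (4093, 4093), (4094, 5088), (4095, 6859)]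
    ⟨e3 q4032 (flp_f L94618) q4016, e3 q4033 (flp_f L114061) q6754, e3 q4034 (flp_f L114065) q6755, e3 q4035 L114097 q6760, e3 q4036 L141116 q4839, e3 q4037 L133646 q4841, e3 q4038 (flp_f L105997) q5627, e3 q4039 L114151 q6768, e3 q4040 L100091 q4907, e3 q4041 L94971 q4089, e3 q4042 L114171 q6773, e3 q4043 (flp_f L94682) q2445, e3 q4044 (flp_f L114047) q6753, e3 q4045 L140999 q4847, e3 q4046 L114208 q6779, e3 q4047 (flp_f L94705) q2448, e3 q4048 (flp_f L94725) q2449, e3 q4049 (flp_f L94742) q2451, e3 q4050 L114290 q6782, e3 q4051 L114308 q6784, e3 q4052 L114320 q6785, e3 q4053 (flp_f L94759) q2453, e3 q4054 L114340 q6788, e3 q4055 (flp_f L94767) q2454, e3 q4056 (flp_f L114330) q6786, e3 q4057 L148534 q6682, e3 q4058 (flp_f L94785) q2457, e3 q4059 L94797 q2465, e3 q4060 (flp_f L94805) q2459, e3 q4061 L94815 q2467, e3 q4062 L94819 q2468, e3 q4063 (flp_f L94877) q4074, e3 q4064 (flp_f L148370) q5705, e3 q4065 (flp_f L106927) q5719, e3 q4066 (flp_f L94833) q2463, e3 q4067 (flp_f L114402) q6793, e3 q4068 (flp_f L114422)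 q6794, e3 q4069 (flp_f L114428) q6795, e3 q4070 (flp_f L150576) q5723, e3 q4071 L114566 q6817, e3 q4072 L114576 q6820, e3 q4073 (flp_f L114448) q6798, e3 q4074 L94877 q4063, e3 q4075 (flp_f L114452) q6799, e3 q4076 (flp_f L152999) q5410, e3 q4077 L114628 q6830, e3 q4078 (flp_f L94893) q2469, e3 q4079 L114642 q6833, e3 q4080 (flp_f L147400) q5097, e3 q4081 (flp_f L94907) q2470, e3 q4082 L142021 q4835, e3 q4083 (flp_f L113616) q6698, e3 q4084 L94945 q3396, e3 q4085 L114718 q6842, e3 q4086 (flp_f L113208) q6657, e3 q4087 (flp_f L113198) q6656, e3 q4088 (flp_f L113624) q6700, e3 q4089 (flp_f L94971) q4041, e3 q4090 L114754 q6850, e3 q4091 (flp_f L148276) q3021, e3 q4092 (flp_f L120200) q6702, e3 q4093 L95040 q4093, e3 q4094 L119719 q5088, e3 q4095 L114878 q6859, trivial⟩ (by decide +kernel)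

theorem ce_f_64 : ∀ r, r < 64 → sm gf (Qf (4096 + r)) = Qf (tab Gen.f (4096 + r)) :=
  edges_tab (sm gf) Qf (tab Gen.f) 4096 [(4096, 2479), (4097, 6862), (4098, 4098), (4099, 4099), (4100, 3016), (4101, 6701), (4102, 6866), (4103, 3457), (4104, 2483), (4105, 4106), (4106, 4105), (4107, 2485), (4108, 6874), (4109, 3971), (4110, 6877), (4111, 6880), (4112, 2487), (4113, 6883), (4114, 6884), (4115, 2488), (4116, 5089), (4117, 6886), (4118, 2490), (4119, 6889), (4120, 2491), (4121, 4122), (4122, 4121), (4123, 2493), (4124, 6484), (4125, 2494), (4126, 4133), (4127, 6162), (4128, 6898), (4129, 6483), (4130, 2497), (4131, 6902), (4132, 4132), (4133, 4126), (4134, 6907), (4135, 2499), (4136, 2510), (4137, 3115), (4138, 6915), (4139, 2501), (4140, 2512), (4141, 2513), (4142, 4164), (4143, 6924), (4144, 4173), (4145, 6928), (4146, 2504), (4147, 6929), (4148, 6935), (4149, 6937), (4150, 2506), (4151, 6942), (4152, 2507), (4153, 4175), (4154, 6939), (4155, 6950), (4156, 6909), (4157, 6910), (4158, 6956), (4159, 6959)]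
    ⟨e3 q4096 (flp_f L95058) q2479, e3 q4097 L114897 q6862, e3 q4098 L95071 q4098, e3 q4099 L95078 q4099, e3 q4100 (flp_f L130692) q3016, e3 q4101 (flp_f L120204) q6701, e3 q4102 L114943 q6866, e3 q4103 (flp_f L120343) q3457, e3 q4104 (flp_f L95099) q2483, e3 q4105 L95115 q4106, e3 q4106 (flp_f L95115) q4105, e3 q4107 (flp_f L95117) q2485, e3 q4108 L114995 q6874, e3 q4109 (flp_f L137196) q3971, e3 q4110 L115032 q6877, e3 q4111 L115051 q6880, e3 q4112 (flp_f L95152) q2487, e3 q4113 L115070 q6883, e3 q4114 L115078 q6884, e3 q4115 (flp_f L95166) q2488, e3 q4116 L148245 q5089, e3 q4117 L115098 q6886, e3 q4118 (flp_f L95179) q2490, e3 q4119 L115132 q6889, e3 q4120 (flp_f L95193) q2491, e3 q4121 L95209 q4122, e3 q4122 (flp_f L95209) q4121, e3 q4123 (flp_f L95211) q2493, e3 q4124 (flp_f L119188) q6484, e3 q4125 (flp_f L95229) q2494, e3 q4126 L95285 q4133, e3 q4127 (flp_f L110053) q6162, e3 q4128 L115210 q6898, e3 q4129 (flp_f L119218) q6483, e3 q4130 (flp_f L95262) q2497, e3 q4131 L115253 q6902, e3 q4132 L95278 q4132,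 e3 q4133 (flp_f L95285) q4126, e3 q4134 L115293 q6907, e3 q4135 (flp_f L95292) q2499, e3 q4136 L95306 q2510, e3 q4137 (flp_f L95314) q3115, e3 q4138 L115331 q6915, e3 q4139 (flp_f L95322) q2501, e3 q4140 L95336 q2512, e3 q4141 L95342 q2513, e3 q4142 (flp_f L95442) q4164, e3 q4143 L115383 q6924, e3 q4144 L95494 q4173, e3 q4145 L115411 q6928, e3 q4146 (flp_f L95364) q2504, e3 q4147 (flp_f L115421) q6929, e3 q4148 L115450 q6935, e3 q4149 L115458 q6937, e3 q4150 (flp_f L95380) q2506, e3 q4151 L115482 q6942, e3 q4152 (flp_f L95384) q2507, e3 q4153 L95507 q4175, e3 q4154 (flp_f L115472) q6939, e3 q4155 L115513 q6950, e3 q4156 (flp_f L115307) q6909, e3 q4157 (flp_f L115311) q6910, e3 q4158 L115537 q6956, e3 q4159 L115553 q6959, trivial⟩ (by decide +kernel)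

theorem ce_f_65 : ∀ r, r < 64 → sm gf (Qf (4160 + r)) = Qf (tab Gen.f (4160 + r)) :=
  edges_tab (sm gf) Qf (tab Gen.f) 4160 [(4160, 6961), (4161, 2511), (4162, 6963), (4163, 6918), (4164, 4142), (4165, 6919), (4166, 6973), (4167, 2514), (4168, 6974), (4169, 6978), (4170, 2515), (4171, 6982), (4172, 2516), (4173, 4144), (4174, 4174), (4175, 4153), (4176, 6987), (4177, 2519), (4178, 4178), (4179, 4179), (4180, 6947), (4181, 6995), (4182, 2522), (4183, 6996), (4184, 7000), (4185, 2549), (4186, 2551), (4187, 4238), (4188, 7008), (4189, 7011), (4190, 7013), (4191, 2527), (4192, 7016), (4193, 4265), (4194, 7020), (4195, 2529), (4196, 2531), (4197, 7022), (4198, 7023), (4199, 7030), (4200, 2532), (4201, 7032), (4202, 7035), (4203, 2573), (4204, 2576), (4205, 2577), (4206, 4291), (4207, 7044), (4208, 4216), (4209, 7048), (4210, 2536), (4211, 6316), (4212, 7052), (4213, 2537), (4214, 7055), (4215, 2538), (4216, 4208), (4217, 2540), (4218, 7060), (4219, 7063), (4220, 4353), (4221, 7068), (4222, 7069), (4223, 2542)]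
    ⟨e3 q4160 L115563 q6961, e3 q4161 (flp_f L95422) q2511, e3 q4162 L115575 q6963, e3 q4163 (flp_f L115353) q6918, e3 q4164 L95442 q4142, e3 q4165 (flp_f L115359) q6919, e3 q4166 L115629 q6973, e3 q4167 (flp_f L95453) q2514, e3 q4168 L115651 q6974, e3 q4169 L115671 q6978, e3 q4170 (flp_f L95471) q2515, e3 q4171 L115694 q6982, e3 q4172 (flp_f L95482) q2516, e3 q4173 (flp_f L95494) q4144, e3 q4174 L95501 q4174, e3 q4175 (flp_f L95507) q4153, e3 q4176 (flp_f L166633) q6987, e3 q4177 (flp_f L95515) q2519, e3 q4178 L95531 q4178, e3 q4179 L103846 q4179, e3 q4180 (flp_f L151168) q6947, e3 q4181 L115794 q6995, e3 q4182 (flp_f L95546) q2522, e3 q4183 (flp_f L115800) q6996, e3 q4184 L115826 q7000, e3 q4185 L95558 q2549, e3 q4186 L95562 q2551, e3 q4187 (flp_f L95838) q4238, e3 q4188 L115862 q7008, e3 q4189 L115874 q7011, e3 q4190 L115884 q7013, e3 q4191 (flp_f L95580) q2527, e3 q4192 L115902 q7016, e3 q4193 L95963 q4265, e3 q4194 L115928 q7020, e3 q4195 (flp_f L95600) q2529, e3 q4196 L95608 q2531, e3 q4197 (flp_f L115938)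 q7022, e3 q4198 (flp_f L115942) q7023, e3 q4199 L115970 q7030, e3 q4200 (flp_f L95622) q2532, e3 q4201 L115986 q7032, e3 q4202 L116004 q7035, e3 q4203 L95640 q2573, e3 q4204 L95644 q2576, e3 q4205 L95649 q2577, e3 q4206 (flp_f L96117) q4291, e3 q4207 L116115 q7044, e3 q4208 L95711 q4216, e3 q4209 L116135 q7048, e3 q4210 (flp_f L95674) q2536, e3 q4211 L111003 q6316, e3 q4212 L116167 q7052, e3 q4213 (flp_f L95688) q2537, e3 q4214 L116184 q7055, e3 q4215 (flp_f L95699) q2538, e3 q4216 (flp_f L95711) q4208, e3 q4217 (flp_f L95721) q2540, e3 q4218 L116261 q7060, e3 q4219 L116277 q7063, e3 q4220 L96470 q4353, e3 q4221 L116320 q7068, e3 q4222 L116324 q7069, e3 q4223 (flp_f L95752) q2542, trivial⟩ (by decide +kernel)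

theorem ce_f_66 : ∀ r, r < 64 → sm gf (Qf (4224 + r)) = Qf (tab Gen.f (4224 + r)) :=
  edges_tab (sm gf) Qf (tab Gen.f) 4224 [(4224, 4224), (4225, 2545), (4226, 2546), (4227, 4230), (4228, 7077), (4229, 7074), (4230, 4227), (4231, 7075), (4232, 7085), (4233, 2547), (4234, 2548), (4235, 7089), (4236, 7091), (4237, 6253), (4238, 4187), (4239, 7097), (4240, 7002), (4241, 7003), (4242, 7103), (4243, 7105), (4244, 2552), (4245, 4254), (4246, 7110), (4247, 2553), (4248, 7111), (4249, 7115), (4250, 7119), (4251, 2555), (4252, 7123), (4253, 2556), (4254, 4245), (4255, 2558), (4256, 7129), (4257, 7131), (4258, 7133), (4259, 2559), (4260, 7127), (4261, 7140), (4262, 7141), (4263, 2561), (4264, 4264), (4265, 4193), (4266, 2565), (4267, 2566), (4268, 4272), (4269, 7154), (4270, 7155), (4271, 7148), (4272, 4268), (4273, 7149), (4274, 7165), (4275, 2567), (4276, 2568), (4277, 4282), (4278, 5521), (4279, 7172), (4280, 2569), (4281, 7176), (4282, 4277), (4283, 7180), (4284, 2571), (4285, 7182), (4286, 7185), (4287, 2572)]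
    ⟨e3 q4224 L95760 q4224, e3 q4225 L95765 q2545, e3 q4226 L95771 q2546, e3 q4227 (flp_f L95793) q4230, e3 q4228 L116385 q7077, e3 q4229 (flp_f L116361) q7074, e3 q4230 L95793 q4227, e3 q4231 (flp_f L116365) q7075, e3 q4232 L116429 q7085, e3 q4233 (flp_f L95804) q2547, e3 q4234 (flp_f L95818) q2548, e3 q4235 L116461 q7089, e3 q4236 L116475 q7091, e3 q4237 (flp_f L115824) q6253, e3 q4238 L95838 q4187, e3 q4239 L116499 q7097, e3 q4240 (flp_f L115838) q7002, e3 q4241 (flp_f L115844) q7003, e3 q4242 L116527 q7103, e3 q4243 L116545 q7105, e3 q4244 (flp_f L95856) q2552, e3 q4245 L95911 q4254, e3 q4246 L116563 q7110, e3 q4247 (flp_f L95874) q2553, e3 q4248 (flp_f L116571) q7111, e3 q4249 L116591 q7115, e3 q4250 L116605 q7119, e3 q4251 (flp_f L95890) q2555, e3 q4252 L116622 q7123, e3 q4253 (flp_f L95901) q2556, e3 q4254 (flp_f L95911) q4245, e3 q4255 (flp_f L95919) q2558, e3 q4256 L116659 q7129, e3 q4257 L116675 q7131, e3 q4258 L116683 q7133, e3 q4259 (flp_f L95933) q2559, e3 q4260 (flp_f L116649) q7127, e3 q4261 L116712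 q7140, e3 q4262 L116716 q7141, e3 q4263 (flp_f L95950) q2561, e3 q4264 L95956 q4264, e3 q4265 (flp_f L95963) q4193, e3 q4266 L95971 q2565, e3 q4267 L95977 q2566, e3 q4268 (flp_f L96009) q4272, e3 q4269 L116785 q7154, e3 q4270 L116803 q7155, e3 q4271 (flp_f L116759) q7148, e3 q4272 L96009 q4268, e3 q4273 (flp_f L116763) q7149, e3 q4274 L116857 q7165, e3 q4275 (flp_f L96020) q2567, e3 q4276 (flp_f L96030) q2568, e3 q4277 L96066 q4282, e3 q4278 (flp_f L119645) q5521, e3 q4279 L116919 q7172, e3 q4280 (flp_f L96050) q2569, e3 q4281 L116947 q7176, e3 q4282 (flp_f L96066) q4277, e3 q4283 L116979 q7180, e3 q4284 (flp_f L96074) q2571, e3 q4285 L116993 q7182, e3 q4286 L117011 q7185, e3 q4287 (flp_f L96091) q2572, trivial⟩ (by decide +kernel)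

theorem ce_f_67 : ∀ r, r < 64 → sm gf (Qf (4288 + r)) = Qf (tab Gen.f (4288 + r)) :=
  edges_tab (sm gf) Qf (tab Gen.f) 4288 [(4288, 7189), (4289, 7037), (4290, 7038), (4291, 4206), (4292, 7197), (4293, 7200), (4294, 7202), (4295, 2575), (4296, 7206), (4297, 7039), (4298, 2958), (4299, 7212), (4300, 7214), (4301, 7216), (4302, 2578), (4303, 4383), (4304, 2579), (4305, 7219), (4306, 7225), (4307, 4325), (4308, 7231), (4309, 2582), (4310, 2584), (4311, 7233), (4312, 7234), (4313, 7240), (4314, 7242), (4315, 7246), (4316, 2585), (4317, 7249), (4318, 7252), (4319, 7256), (4320, 2586), (4321, 7248), (4322, 7262), (4323, 7263), (4324, 2588), (4325, 4307), (4326, 7268), (4327, 2591), (4328, 4334), (4329, 7272), (4330, 7274), (4331, 2592), (4332, 7278), (4333, 2598), (4334, 4328), (4335, 2594), (4336, 7283), (4337, 7286), (4338, 2595), (4339, 7290), (4340, 7293), (4341, 7294), (4342, 2596), (4343, 7288), (4344, 7279), (4345, 7280), (4346, 6226), (4347, 7306), (4348, 7309), (4349, 7310), (4350, 2599), (4351, 2600)]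
    ⟨e3 q4288 L117031 q7189, e3 q4289 (flp_f L116018) q7037, e3 q4290 (flp_f L116026) q7038, e3 q4291 L96117 q4206, e3 q4292 L117087 q7197, e3 q4293 L117105 q7200, e3 q4294 L117117 q7202, e3 q4295 (flp_f L96131) q2575, e3 q4296 L117141 q7206, e3 q4297 (flp_f L116037) q7039, e3 q4298 L116066 q2958, e3 q4299 L117181 q7212, e3 q4300 L117197 q7214, e3 q4301 L117213 q7216, e3 q4302 (flp_f L96179) q2578, e3 q4303 L96629 q4383, e3 q4304 (flp_f L96193) q2579, e3 q4305 (flp_f L117229) q7219, e3 q4306 L117257 q7225, e3 q4307 L96301 q4325, e3 q4308 L117291 q7231, e3 q4309 (flp_f L96217) q2582, e3 q4310 L96227 q2584, e3 q4311 (flp_f L117303) q7233, e3 q4312 (flp_f L117311) q7234, e3 q4313 L117343 q7240, e3 q4314 L117357 q7242, e3 q4315 L117381 q7246, e3 q4316 (flp_f L96251) q2585, e3 q4317 L117401 q7249, e3 q4318 L117419 q7252, e3 q4319 L117439 q7256, e3 q4320 (flp_f L96267) q2586, e3 q4321 (flp_f L117397) q7248, e3 q4322 L117469 q7262, e3 q4323 L117473 q7263, e3 q4324 (flp_f L96289) q2588, e3 q4325 (flp_f L96301) q4307, e3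 q4326 L117503 q7268, e3 q4327 (flp_f L96315) q2591, e3 q4328 L96357 q4334, e3 q4329 L117539 q7272, e3 q4330 L117557 q7274, e3 q4331 (flp_f L96335) q2592, e3 q4332 L117585 q7278, e3 q4333 L96351 q2598, e3 q4334 (flp_f L96357) q4328, e3 q4335 (flp_f L96359) q2594, e3 q4336 L117627 q7283, e3 q4337 L117645 q7286, e3 q4338 (flp_f L96376) q2595, e3 q4339 L117665 q7290, e3 q4340 L117683 q7293, e3 q4341 L117693 q7294, e3 q4342 (flp_f L96396) q2596, e3 q4343 (flp_f L117657) q7288, e3 q4344 (flp_f L117599) q7279, e3 q4345 (flp_f L117607) q7280, e3 q4346 L110465 q6226, e3 q4347 L117759 q7306, e3 q4348 L117773 q7309, e3 q4349 L117783 q7310, e3 q4350 (flp_f L96448) q2599, e3 q4351 (flp_f L96452) q2600, trivial⟩ (by decide +kernel)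

theorem ce_f_68 : ∀ r, r < 64 → sm gf (Qf (4352 + r)) = Qf (tab Gen.f (4352 + r)) :=
  edges_tab (sm gf) Qf (tab Gen.f) 4352 [(4352, 2624), (4353, 4220), (4354, 2626), (4355, 4398), (4356, 7322), (4357, 7325), (4358, 2609), (4359, 2611), (4360, 4371), (4361, 7335), (4362, 7337), (4363, 7339), (4364, 2607), (4365, 7342), (4366, 7346), (4367, 2608), (4368, 6968), (4369, 7352), (4370, 7328), (4371, 4360), (4372, 6922), (4373, 7329), (4374, 7330), (4375, 7364), (4376, 2612), (4377, 3733), (4378, 7371), (4379, 7372), (4380, 2614), (4381, 6965), (4382, 2616), (4383, 4303), (4384, 2619), (4385, 7382), (4386, 7379), (4387, 7388), (4388, 7392), (4389, 2620), (4390, 7395), (4391, 4393), (4392, 7398), (4393, 4391), (4394, 7315), (4395, 7313), (4396, 7404), (4397, 7407), (4398, 4355), (4399, 2627), (4400, 3514), (4401, 7413), (4402, 3515), (4403, 7419), (4404, 7423), (4405, 2630), (4406, 7426), (4407, 3513), (4408, 7429), (4409, 3761), (4410, 4413), (4411, 2635), (4412, 7432), (4413, 4410), (4414, 3518), (4415, 3519)]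
    ⟨e3 q4352 L96462 q2624, e3 q4353 (flp_f L96470) q4220, e3 q4354 L96476 q2626, e3 q4355 (flp_f L96720) q4398, e3 q4356 L117851 q7322, e3 q4357 L117867 q7325, e3 q4358 L96496 q2609, e3 q4359 L96500 q2611, e3 q4360 (flp_f L96562) q4371, e3 q4361 L117923 q7335, e3 q4362 L117937 q7337, e3 q4363 L117949 q7339, e3 q4364 (flp_f L96522) q2607, e3 q4365 L117971 q7342, e3 q4366 L117995 q7346, e3 q4367 (flp_f L96538) q2608, e3 q4368 L115611 q6968, e3 q4369 L118033 q7352, e3 q4370 (flp_f L117889) q7328, e3 q4371 L96562 q4360, e3 q4372 L115377 q6922, e3 q4373 (flp_f L117893) q7329, e3 q4374 (flp_f L117897) q7330, e3 q4375 L118093 q7364, e3 q4376 (flp_f L96580) q2612, e3 q4377 L96594 q3733, e3 q4378 L118135 q7371, e3 q4379 L118143 q7372, e3 q4380 (flp_f L96606) q2614, e3 q4381 (flp_f L115591) q6965, e3 q4382 (flp_f L96615) q2616, e3 q4383 (flp_f L96629) q4303, e3 q4384 L96637 q2619, e3 q4385 L118252 q7382, e3 q4386 (flp_f L118238) q7379, e3 q4387 L118284 q7388, e3 q4388 L118306 q7392, e3 q4389 (flp_f L96659) q2620, e3 q4390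 L118322 q7395, e3 q4391 (flp_f L96689) q4393, e3 q4392 L118340 q7398, e3 q4393 L96689 q4391, e3 q4394 (flp_f L117821) q7315, e3 q4395 (flp_f L117805) q7313, e3 q4396 L118377 q7404, e3 q4397 L118400 q7407, e3 q4398 L96720 q4355, e3 q4399 (flp_f L96722) q2627, e3 q4400 L96736 q3514, e3 q4401 L118441 q7413, e3 q4402 L96748 q3515, e3 q4403 L118473 q7419, e3 q4404 L118495 q7423, e3 q4405 (flp_f L96758) q2630, e3 q4406 L118511 q7426, e3 q4407 L96774 q3513, e3 q4408 L118529 q7429, e3 q4409 L96788 q3761, e3 q4410 (flp_f L96823) q4413, e3 q4411 L96803 q2635, e3 q4412 (flp_f L118550) q7432, e3 q4413 L96823 q4410, e3 q4414 L96832 q3518, e3 q4415 L96838 q3519, trivial⟩ (by decide +kernel)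

theorem ce_f_69 : ∀ r, r < 64 → sm gf (Qf (4416 + r)) = Qf (tab Gen.f (4416 + r)) :=
  edges_tab (sm gf) Qf (tab Gen.f) 4416 [(4416, 7440), (4417, 4578), (4418, 2640), (4419, 4436), (4420, 5749), (4421, 7445), (4422, 4555), (4423, 6389), (4424, 4687), (4425, 6478), (4426, 7451), (4427, 2644), (4428, 4428), (4429, 7454), (4430, 7457), (4431, 2645), (4432, 7460), (4433, 2646), (4434, 7464), (4435, 4435), (4436, 4419), (4437, 7467), (4438, 2648), (4439, 4439), (4440, 4440), (4441, 7443), (4442, 7475), (4443, 2651), (4444, 7476), (4445, 3793), (4446, 2662), (4447, 2664), (4448, 4467), (4449, 4737), (4450, 2807), (4451, 7486), (4452, 2656), (4453, 6441), (4454, 4484), (4455, 7491), (4456, 2658), (4457, 2660), (4458, 6424), (4459, 7492), (4460, 7496), (4461, 3787), (4462, 6393), (4463, 2661), (4464, 6403), (4465, 2816), (4466, 7480), (4467, 4448), (4468, 2803), (4469, 7481), (4470, 7508), (4471, 7509), (4472, 2665), (4473, 6467), (4474, 7512), (4475, 2667), (4476, 4556), (4477, 7515), (4478, 7517), (4479, 2668)]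
    ⟨e3 q4416 L118697 q7440, e3 q4417 (flp_f L119209) q4578, e3 q4418 (flp_f L96920) q2640, e3 q4419 L96988 q4436, e3 q4420 (flp_f L107145) q5749, e3 q4421 L118752 q7445, e3 q4422 (flp_f L97548) q4555, e3 q4423 (flp_f L111431) q6389, e3 q4424 L98280 q4687, e3 q4425 L111940 q6478, e3 q4426 L118780 q7451, e3 q4427 (flp_f L96946) q2644, e3 q4428 L118948 q4428, e3 q4429 L118814 q7454, e3 q4430 L118840 q7457, e3 q4431 (flp_f L96963) q2645, e3 q4432 L118862 q7460, e3 q4433 (flp_f L96971) q2646, e3 q4434 L118887 q7464, e3 q4435 L96983 q4435, e3 q4436 (flp_f L96988) q4419, e3 q4437 L118917 q7467, e3 q4438 (flp_f L96995) q2648, e3 q4439 L97008 q4439, e3 q4440 L97053 q4440, e3 q4441 L118756 q7443, e3 q4442 L120659 q7475, e3 q4443 (flp_f L97023) q2651, e3 q4444 (flp_f L120665) q7476, e3 q4445 (flp_f L97033) q3793, e3 q4446 L97041 q2662, e3 q4447 L97056 q2664, e3 q4448 (flp_f L97136) q4467, e3 q4449 (flp_f L98541) q4737, e3 q4450 L98483 q2807, e3 q4451 L120764 q7486, e3 q4452 (flp_f L97072) q2656, e3 q4453 L111743 q6441, e3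 q4454 L97204 q4484, e3 q4455 L120800 q7491, e3 q4456 (flp_f L97088) q2658, e3 q4457 L97094 q2660, e3 q4458 (flp_f L111665) q6424, e3 q4459 (flp_f L120808) q7492, e3 q4460 L120824 q7496, e3 q4461 L97108 q3787, e3 q4462 (flp_f L111457) q6393, e3 q4463 (flp_f L97112) q2661, e3 q4464 (flp_f L111519) q6403, e3 q4465 L97124 q2816, e3 q4466 (flp_f L120734) q7480, e3 q4467 L97136 q4448, e3 q4468 (flp_f L97987) q2803, e3 q4469 (flp_f L120742) q7481, e3 q4470 L120899 q7508, e3 q4471 L120912 q7509, e3 q4472 (flp_f L97150) q2665, e3 q4473 (flp_f L111867) q6467, e3 q4474 L120955 q7512, e3 q4475 (flp_f L97166) q2667, e3 q4476 (flp_f L97919) q4556, e3 q4477 L120971 q7515, e3 q4478 L120985 q7517, e3 q4479 (flp_f L97176) q2668, trivial⟩ (by decide +kernel)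

theorem ce_f_70 : ∀ r, r < 64 → sm gf (Qf (4480 + r)) = Qf (tab Gen.f (4480 + r)) :=
  edges_tab (sm gf) Qf (tab Gen.f) 4480 [(4480, 4631), (4481, 7520), (4482, 2670), (4483, 4483), (4484, 4454), (4485, 4488), (4486, 3313), (4487, 3524), (4488, 4485), (4489, 2676), (4490, 7530), (4491, 7534), (4492, 2677), (4493, 7537), (4494, 2724), (4495, 2725), (4496, 4496), (4497, 2731), (4498, 2732), (4499, 4580), (4500, 4581), (4501, 7543), (4502, 7545), (4503, 2682), (4504, 4714), (4505, 4518), (4506, 7552), (4507, 2684), (4508, 6469), (4509, 6515), (4510, 3868), (4511, 7557), (4512, 7561), (4513, 2687), (4514, 7563), (4515, 7564), (4516, 2689), (4517, 4517), (4518, 4505), (4519, 4754), (4520, 2692), (4521, 7571), (4522, 2693), (4523, 3526), (4524, 2695), (4525, 7575), (4526, 7579), (4527, 2696), (4528, 7582), (4529, 4696), (4530, 4698), (4531, 7463), (4532, 6521), (4533, 7468), (4534, 2698), (4535, 2699), (4536, 4536), (4537, 4537), (4538, 7523), (4539, 7592), (4540, 2706), (4541, 2708), (4542, 4548), (4543, 3834)]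
    ⟨e3 q4480 (flp_f L97973) q4631, e3 q4481 L121016 q7520, e3 q4482 (flp_f L97191) q2670, e3 q4483 L97197 q4483, e3 q4484 (flp_f L97204) q4454, e3 q4485 L97226 q4488, e3 q4486 L119676 q3313, e3 q4487 L97222 q3524, e3 q4488 (flp_f L97226) q4485, e3 q4489 (flp_f L97228) q2676, e3 q4490 L121078 q7530, e3 q4491 L121109 q7534, e3 q4492 (flp_f L97242) q2677, e3 q4493 L121129 q7537, e3 q4494 L97252 q2724, e3 q4495 L97260 q2725, e3 q4496 L97265 q4496, e3 q4497 L97270 q2731, e3 q4498 L97278 q2732, e3 q4499 (flp_f L97678) q4580, e3 q4500 (flp_f L97686) q4581, e3 q4501 L121169 q7543, e3 q4502 L121178 q7545, e3 q4503 (flp_f L97301) q2682, e3 q4504 (flp_f L98615) q4714, e3 q4505 L97365 q4518, e3 q4506 L121210 q7552, e3 q4507 (flp_f L97315) q2684, e3 q4508 (flp_f L111881) q6469, e3 q4509 (flp_f L112194) q6515, e3 q4510 (flp_f L97329) q3868, e3 q4511 L121236 q7557, e3 q4512 L121254 q7561, e3 q4513 (flp_f L97337) q2687, e3 q4514 L121277 q7563, e3 q4515 L121281 q7564, e3 q4516 (flp_f L97350) q2689, e3 q4517 L97358 q4517, e3 q4518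 (flp_f L97365) q4505, e3 q4519 L98611 q4754, e3 q4520 (flp_f L97375) q2692, e3 q4521 L121341 q7571, e3 q4522 (flp_f L97389) q2693, e3 q4523 (flp_f L150378) q3526, e3 q4524 (flp_f L97401) q2695, e3 q4525 L121388 q7575, e3 q4526 L121402 q7579, e3 q4527 (flp_f L97413) q2696, e3 q4528 L121416 q7582, e3 q4529 L98325 q4696, e3 q4530 L98339 q4698, e3 q4531 (flp_f L149073) q7463, e3 q4532 L112232 q6521, e3 q4533 (flp_f L149156) q7468, e3 q4534 (flp_f L97451) q2698, e3 q4535 (flp_f L97455) q2699, e3 q4536 L97463 q4536, e3 q4537 L97469 q4537, e3 q4538 (flp_f L150713) q7523, e3 q4539 L121513 q7592, e3 q4540 L97480 q2706, e3 q4541 L97484 q2708, e3 q4542 (flp_f L97516) q4548, e3 q4543 L97492 q3834, trivial⟩ (by decide +kernel)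

theorem ce_f_71 : ∀ r, r < 64 → sm gf (Qf (4544 + r)) = Qf (tab Gen.f (4544 + r)) :=
  edges_tab (sm gf) Qf (tab Gen.f) 4544 [(4544, 6112), (4545, 2705), (4546, 7602), (4547, 7594), (4548, 4542), (4549, 7595), (4550, 7596), (4551, 7611), (4552, 7612), (4553, 2709), (4554, 3880), (4555, 4422), (4556, 4476), (4557, 7618), (4558, 3178), (4559, 7621), (4560, 3838), (4561, 7625), (4562, 2716), (4563, 3812), (4564, 3825), (4565, 7630), (4566, 2718), (4567, 4667), (4568, 7634), (4569, 2720), (4570, 4575), (4571, 7640), (4572, 7642), (4573, 2721), (4574, 7646), (4575, 4570), (4576, 7504), (4577, 2723), (4578, 4417), (4579, 7538), (4580, 4499), (4581, 4500), (4582, 7653), (4583, 7656), (4584, 7658), (4585, 2727), (4586, 4658), (4587, 7663), (4588, 2728), (4589, 7666), (4590, 2729), (4591, 7540), (4592, 6418), (4593, 7471), (4594, 7673), (4595, 7676), (4596, 2733), (4597, 7680), (4598, 2734), (4599, 4600), (4600, 4599), (4601, 2735), (4602, 7683), (4603, 7689), (4604, 4768), (4605, 7693), (4606, 2738), (4607, 2740)]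
    ⟨e3 q4544 (flp_f L155514) q6112, e3 q4545 (flp_f L97498) q2705, e3 q4546 L121571 q7602, e3 q4547 (flp_f L121529) q7594, e3 q4548 L97516 q4542, e3 q4549 (flp_f L121533) q7595, e3 q4550 (flp_f L121537) q7596, e3 q4551 L121623 q7611, e3 q4552 L121631 q7612, e3 q4553 (flp_f L97532) q2709, e3 q4554 (flp_f L98071) q3880, e3 q4555 L97548 q4422, e3 q4556 L97919 q4476, e3 q4557 L121663 q7618, e3 q4558 L119617 q3178, e3 q4559 L121684 q7621, e3 q4560 (flp_f L97585) q3838, e3 q4561 L121705 q7625, e3 q4562 (flp_f L97589) q2716, e3 q4563 (flp_f L97915) q3812, e3 q4564 L97605 q3825, e3 q4565 L121727 q7630, e3 q4566 (flp_f L97611) q2718, e3 q4567 L98181 q4667, e3 q4568 L121756 q7634, e3 q4569 (flp_f L97624) q2720, e3 q4570 L97648 q4575, e3 q4571 L121797 q7640, e3 q4572 L121805 q7642, e3 q4573 (flp_f L97638) q2721, e3 q4574 L121825 q7646, e3 q4575 (flp_f L97648) q4570, e3 q4576 L120876 q7504, e3 q4577 (flp_f L97654) q2723, e3 q4578 L119209 q4417, e3 q4579 (flp_f L121143) q7538, e3 q4580 L97678 q4499, e3 q4581 L97686 q4500, e3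 q4582 L121871 q7653, e3 q4583 L121883 q7656, e3 q4584 L121895 q7658, e3 q4585 (flp_f L97698) q2727, e3 q4586 (flp_f L98107) q4658, e3 q4587 L121917 q7663, e3 q4588 (flp_f L97708) q2728, e3 q4589 L121929 q7666, e3 q4590 (flp_f L97718) q2729, e3 q4591 (flp_f L121159) q7540, e3 q4592 L111643 q6418, e3 q4593 L120613 q7471, e3 q4594 L121970 q7673, e3 q4595 L121992 q7676, e3 q4596 (flp_f L97749) q2733, e3 q4597 L122036 q7680, e3 q4598 (flp_f L97763) q2734, e3 q4599 (flp_f L118181) q4600, e3 q4600 L118181 q4599, e3 q4601 (flp_f L97781) q2735, e3 q4602 (flp_f L122056) q7683, e3 q4603 L122074 q7689, e3 q4604 L98701 q4768, e3 q4605 L122094 q7693, e3 q4606 (flp_f L97803) q2738, e3 q4607 L97809 q2740, trivial⟩ (by decide +kernel)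

theorem ce_f_72 : ∀ r, r < 64 → sm gf (Qf (4608 + r)) = Qf (tab Gen.f (4608 + r)) :=
  edges_tab (sm gf) Qf (tab Gen.f) 4608 [(4608, 7696), (4609, 7697), (4610, 7702), (4611, 3784), (4612, 7706), (4613, 2741), (4614, 6399), (4615, 7710), (4616, 4652), (4617, 7717), (4618, 7718), (4619, 2743), (4620, 7695), (4621, 2746), (4622, 2747), (4623, 4625), (4624, 7723), (4625, 4623), (4626, 7724), (4627, 7732), (4628, 2748), (4629, 7734), (4630, 2749), (4631, 4480), (4632, 7738), (4633, 7741), (4634, 2750), (4635, 4733), (4636, 2756), (4637, 2752), (4638, 7747), (4639, 7751), (4640, 2753), (4641, 7755), (4642, 7758), (4643, 7759), (4644, 2754), (4645, 7753), (4646, 7744), (4647, 7766), (4648, 7769), (4649, 7771), (4650, 2757), (4651, 2758), (4652, 4616), (4653, 7777), (4654, 6534), (4655, 7780), (4656, 2761), (4657, 6502), (4658, 4586), (4659, 2764), (4660, 7785), (4661, 2765), (4662, 7783), (4663, 3864), (4664, 2767), (4665, 2779), (4666, 2780), (4667, 4567), (4668, 6410), (4669, 7799), (4670, 2771), (4671, 4677)]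
    ⟨e3 q4608 (flp_f L122108) q7696, e3 q4609 (flp_f L122112) q7697, e3 q4610 L122134 q7702, e3 q4611 (flp_f L98489) q3784, e3 q4612 L122152 q7706, e3 q4613 (flp_f L97825) q2741, e3 q4614 (flp_f L111477) q6399, e3 q4615 L122170 q7710, e3 q4616 L98049 q4652, e3 q4617 L122206 q7717, e3 q4618 L122210 q7718, e3 q4619 (flp_f L97847) q2743, e3 q4620 (flp_f L122104) q7695, e3 q4621 L97855 q2746, e3 q4622 L97859 q2747, e3 q4623 (flp_f L97873) q4625, e3 q4624 (flp_f L122230) q7723, e3 q4625 L97873 q4623, e3 q4626 (flp_f L122234) q7724, e3 q4627 L122266 q7732, e3 q4628 (flp_f L97927) q2748, e3 q4629 L122280 q7734, e3 q4630 (flp_f L97937) q2749, e3 q4631 L97973 q4480, e3 q4632 L122302 q7738, e3 q4633 L122314 q7741, e3 q4634 (flp_f L97951) q2750, e3 q4635 L163904 q4733, e3 q4636 L97961 q2756, e3 q4637 (flp_f L97977) q2752, e3 q4638 L122348 q7747, e3 q4639 L122362 q7751, e3 q4640 (flp_f L97995) q2753, e3 q4641 L122378 q7755, e3 q4642 L122394 q7758, e3 q4643 L122404 q7759, e3 q4644 (flp_f L98009) q2754, e3 q4645 (flp_f L122372)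 q7753, e3 q4646 (flp_f L122336) q7744, e3 q4647 L122436 q7766, e3 q4648 L122450 q7769, e3 q4649 L122460 q7771, e3 q4650 (flp_f L98035) q2757, e3 q4651 (flp_f L98039) q2758, e3 q4652 (flp_f L98049) q4616, e3 q4653 L122494 q7777, e3 q4654 L112298 q6534, e3 q4655 L122508 q7780, e3 q4656 (flp_f L98061) q2761, e3 q4657 (flp_f L112074) q6502, e3 q4658 L98107 q4586, e3 q4659 (flp_f L98125) q2764, e3 q4660 L122567 q7785, e3 q4661 (flp_f L98137) q2765, e3 q4662 (flp_f L122547) q7783, e3 q4663 (flp_f L102072) q3864, e3 q4664 (flp_f L98155) q2767, e3 q4665 L98167 q2779, e3 q4666 L98173 q2780, e3 q4667 (flp_f L98181) q4567, e3 q4668 L111591 q6410, e3 q4669 L122660 q7799, e3 q4670 (flp_f L98198) q2771, e3 q4671 L98226 q4677, trivial⟩ (by decide +kernel)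

theorem ce_f_73 : ∀ r, r < 64 → sm gf (Qf (4672 + r)) = Qf (tab Gen.f (4672 + r)) :=
  edges_tab (sm gf) Qf (tab Gen.f) 4672 [(4672, 7805), (4673, 7807), (4674, 2772), (4675, 7811), (4676, 2778), (4677, 4671), (4678, 2774), (4679, 7462), (4680, 7815), (4681, 2775), (4682, 2776), (4683, 7809), (4684, 7812), (4685, 7813), (4686, 7824), (4687, 4424), (4688, 7793), (4689, 7794), (4690, 6428), (4691, 7833), (4692, 2782), (4693, 7835), (4694, 2783), (4695, 4695), (4696, 4529), (4697, 2833), (4698, 4530), (4699, 2834), (4700, 2835), (4701, 4796), (4702, 7850), (4703, 7853), (4704, 2837), (4705, 2839), (4706, 4802), (4707, 7524), (4708, 7863), (4709, 7865), (4710, 2791), (4711, 7547), (4712, 7870), (4713, 2792), (4714, 4504), (4715, 7874), (4716, 2805), (4717, 2808), (4718, 2809), (4719, 4743), (4720, 7884), (4721, 4728), (4722, 7887), (4723, 2796), (4724, 7889), (4725, 2797), (4726, 7892), (4727, 2798), (4728, 4721), (4729, 7896), (4730, 2800), (4731, 4736), (4732, 7899), (4733, 4635), (4734, 2801), (4735, 7505)]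
    ⟨e3 q4672 L122696 q7805, e3 q4673 L122704 q7807, e3 q4674 (flp_f L98212) q2772, e3 q4675 L122724 q7811, e3 q4676 L98222 q2778, e3 q4677 (flp_f L98226) q4671, e3 q4678 (flp_f L98228) q2774, e3 q4679 (flp_f L147649) q7462, e3 q4680 L122768 q7815, e3 q4681 (flp_f L98244) q2775, e3 q4682 (flp_f L98254) q2776, e3 q4683 (flp_f L122716) q7809, e3 q4684 (flp_f L122734) q7812, e3 q4685 (flp_f L122738) q7813, e3 q4686 L122818 q7824, e3 q4687 (flp_f L98280) q4424, e3 q4688 (flp_f L122621) q7793, e3 q4689 (flp_f L122627) q7794, e3 q4690 (flp_f L111685) q6428, e3 q4691 L122863 q7833, e3 q4692 (flp_f L98299) q2782, e3 q4693 L122878 q7835, e3 q4694 (flp_f L98310) q2783, e3 q4695 L98318 q4695, e3 q4696 (flp_f L98325) q4529, e3 q4697 L98331 q2833, e3 q4698 (flp_f L98339) q4530, e3 q4699 L98345 q2834, e3 q4700 L98349 q2835, e3 q4701 L149380 q4796, e3 q4702 L122959 q7850, e3 q4703 L122969 q7853, e3 q4704 L98365 q2837, e3 q4705 L98371 q2839, e3 q4706 (flp_f L98860) q4802, e3 q4707 (flp_f L150734) q7524, e3 q4708 L123017 q7863,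 e3 q4709 L123033 q7865, e3 q4710 (flp_f L98387) q2791, e3 q4711 L121190 q7547, e3 q4712 L123055 q7870, e3 q4713 (flp_f L98399) q2792, e3 q4714 L98615 q4504, e3 q4715 L123073 q7874, e3 q4716 L98417 q2805, e3 q4717 L98421 q2808, e3 q4718 L98425 q2809, e3 q4719 (flp_f L98565) q4743, e3 q4720 L123115 q7884, e3 q4721 L98475 q4728, e3 q4722 L123129 q7887, e3 q4723 (flp_f L98445) q2796, e3 q4724 L123139 q7889, e3 q4725 (flp_f L98455) q2797, e3 q4726 L123151 q7892, e3 q4727 (flp_f L98467) q2798, e3 q4728 (flp_f L98475) q4721, e3 q4729 L123175 q7896, e3 q4730 (flp_f L98497) q2800, e3 q4731 L98533 q4736, e3 q4732 L123197 q7899, e3 q4733 (flp_f L163904) q4635, e3 q4734 (flp_f L98519) q2801, e3 q4735 (flp_f L120888) q7505, trivial⟩ (by decide +kernel)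

theorem ce_f_74 : ∀ r, r < 64 → sm gf (Qf (4736 + r)) = Qf (tab Gen.f (4736 + r)) :=
  edges_tab (sm gf) Qf (tab Gen.f) 4736 [(4736, 4731), (4737, 4449), (4738, 7907), (4739, 7911), (4740, 2804), (4741, 7915), (4742, 7876), (4743, 4719), (4744, 7918), (4745, 7484), (4746, 7922), (4747, 7878), (4748, 7926), (4749, 7927), (4750, 2810), (4751, 6610), (4752, 3854), (4753, 3855), (4754, 4519), (4755, 7936), (4756, 2813), (4757, 7500), (4758, 2814), (4759, 7499), (4760, 7497), (4761, 7942), (4762, 5140), (4763, 4765), (4764, 2817), (4765, 4763), (4766, 7946), (4767, 2819), (4768, 4604), (4769, 7951), (4770, 7953), (4771, 2825), (4772, 7957), (4773, 7961), (4774, 2824), (4775, 7964), (4776, 4837), (4777, 7955), (4778, 7968), (4779, 7972), (4780, 2826), (4781, 4786), (4782, 5467), (4783, 7979), (4784, 2827), (4785, 7982), (4786, 4781), (4787, 2829), (4788, 7986), (4789, 7989), (4790, 2831), (4791, 7992), (4792, 6560), (4793, 7842), (4794, 7843), (4795, 7996), (4796, 4701), (4797, 7997), (4798, 7999), (4799, 2836)]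
    ⟨e3 q4736 (flp_f L98533) q4731, e3 q4737 L98541 q4449, e3 q4738 L123243 q7907, e3 q4739 L123257 q7911, e3 q4740 (flp_f L98551) q2804, e3 q4741 L123273 q7915, e3 q4742 (flp_f L123083) q7876, e3 q4743 L98565 q4719, e3 q4744 L123297 q7918, e3 q4745 (flp_f L120760) q7484, e3 q4746 L123313 q7922, e3 q4747 (flp_f L123091) q7878, e3 q4748 L123331 q7926, e3 q4749 L123341 q7927, e3 q4750 (flp_f L98587) q2810, e3 q4751 (flp_f L112790) q6610, e3 q4752 L98601 q3854, e3 q4753 L98605 q3855, e3 q4754 (flp_f L98611) q4519, e3 q4755 L123391 q7936, e3 q4756 L118160 q2813, e3 q4757 (flp_f L120856) q7500, e3 q4758 L118190 q2814, e3 q4759 (flp_f L120850) q7499, e3 q4760 (flp_f L120836) q7497, e3 q4761 L123422 q7942, e3 q4762 L119843 q5140, e3 q4763 (flp_f L118202) q4765, e3 q4764 (flp_f L98675) q2817, e3 q4765 L118202 q4763, e3 q4766 L123450 q7946, e3 q4767 (flp_f L98689) q2819, e3 q4768 (flp_f L98701) q4604, e3 q4769 L123480 q7951, e3 q4770 L123490 q7953, e3 q4771 L98712 q2825, e3 q4772 L123512 q7957, e3 q4773 L123530 q7961, e3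 q4774 (flp_f L98724) q2824, e3 q4775 L123546 q7964, e3 q4776 (flp_f L99041) q4837, e3 q4777 (flp_f L123502) q7955, e3 q4778 L123568 q7968, e3 q4779 L123580 q7972, e3 q4780 (flp_f L98748) q2826, e3 q4781 L98774 q4786, e3 q4782 (flp_f L143417) q5467, e3 q4783 L123610 q7979, e3 q4784 (flp_f L98762) q2827, e3 q4785 L123626 q7982, e3 q4786 (flp_f L98774) q4781, e3 q4787 (flp_f L98776) q2829, e3 q4788 L123646 q7986, e3 q4789 L123658 q7989, e3 q4790 (flp_f L98788) q2831, e3 q4791 L123670 q7992, e3 q4792 L112472 q6560, e3 q4793 (flp_f L122913) q7842, e3 q4794 (flp_f L122919) q7843, e3 q4795 L123718 q7996, e3 q4796 (flp_f L149380) q4701, e3 q4797 L123770 q7997, e3 q4798 L123790 q7999, e3 q4799 (flp_f L98844) q2836, trivial⟩ (by decide +kernel)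

theorem ce_f_75 : ∀ r, r < 64 → sm gf (Qf (4800 + r)) = Qf (tab Gen.f (4800 + r)) :=
  edges_tab (sm gf) Qf (tab Gen.f) 4800 [(4800, 8001), (4801, 7856), (4802, 4706), (4803, 7857), (4804, 7858), (4805, 8005), (4806, 2840), (4807, 4807), (4808, 8011), (4809, 3641), (4810, 8015), (4811, 8019), (4812, 2844), (4813, 8022), (4814, 3642), (4815, 3643), (4816, 8026), (4817, 8030), (4818, 2846), (4819, 4824), (4820, 8036), (4821, 8037), (4822, 2847), (4823, 8040), (4824, 4819), (4825, 2849), (4826, 8044), (4827, 8047), (4828, 2851), (4829, 8050), (4830, 6156), (4831, 3013), (4832, 2853), (4833, 4861), (4834, 2857), (4835, 4082), (4836, 8055), (4837, 4776), (4838, 3327), (4839, 4036), (4840, 8062), (4841, 4037), (4842, 4864), (4843, 8068), (4844, 8071), (4845, 2862), (4846, 8074), (4847, 4045), (4848, 5128), (4849, 8080), (4850, 2886), (4851, 2864), (4852, 4859), (4853, 8086), (4854, 8089), (4855, 2865), (4856, 4884), (4857, 8093), (4858, 2866), (4859, 4852), (4860, 6641), (4861, 4833), (4862, 2871), (4863, 3353)]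
    ⟨e3 q4800 L123832 q8001, e3 q4801 (flp_f L122981) q7856, e3 q4802 L98860 q4706, e3 q4803 (flp_f L122985) q7857, e3 q4804 (flp_f L122991) q7858, e3 q4805 L123894 q8005, e3 q4806 (flp_f L98876) q2840, e3 q4807 L98886 q4807, e3 q4808 L123924 q8011, e3 q4809 L98895 q3641, e3 q4810 L123950 q8015, e3 q4811 L123993 q8019, e3 q4812 (flp_f L98907) q2844, e3 q4813 L124009 q8022, e3 q4814 L98919 q3642, e3 q4815 L98923 q3643, e3 q4816 L124029 q8026, e3 q4817 L124041 q8030, e3 q4818 (flp_f L98931) q2846, e3 q4819 L98957 q4824, e3 q4820 L124071 q8036, e3 q4821 L124079 q8037, e3 q4822 (flp_f L98945) q2847, e3 q4823 L124095 q8040, e3 q4824 (flp_f L98957) q4819, e3 q4825 (flp_f L98959) q2849, e3 q4826 L124115 q8044, e3 q4827 L124127 q8047, e3 q4828 (flp_f L98971) q2851, e3 q4829 L124139 q8050, e3 q4830 (flp_f L109838) q6156, e3 q4831 L119357 q3013, e3 q4832 (flp_f L98985) q2853, e3 q4833 (flp_f L148206) q4861, e3 q4834 L98999 q2857, e3 q4835 (flp_f L142021) q4082, e3 q4836 L124223 q8055, e3 q4837 L99041 q4776, e3 q4838 (flp_f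 L141818) q3327, e3 q4839 (flp_f L141116) q4036, e3 q4840 L124297 q8062, e3 q4841 (flp_f L133646) q4037, e3 q4842 (flp_f L99259) q4864, e3 q4843 L124357 q8068, e3 q4844 L124375 q8071, e3 q4845 (flp_f L99123) q2862, e3 q4846 L124391 q8074, e3 q4847 (flp_f L140999) q4045, e3 q4848 (flp_f L130484) q5128, e3 q4849 L124425 q8080, e3 q4850 (flp_f L146907) q2886, e3 q4851 (flp_f L99153) q2864, e3 q4852 L99201 q4859, e3 q4853 L124471 q8086, e3 q4854 L124485 q8089, e3 q4855 (flp_f L99173) q2865, e3 q4856 L147456 q4884, e3 q4857 L124509 q8093, e3 q4858 (flp_f L99185) q2866, e3 q4859 (flp_f L99201) q4852, e3 q4860 L113104 q6641, e3 q4861 L148206 q4833, e3 q4862 (flp_f L99225) q2871, e3 q4863 (flp_f L133423) q3353, trivial⟩ (by decide +kernel)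

theorem ce_f_76 : ∀ r, r < 64 → sm gf (Qf (4864 + r)) = Qf (tab Gen.f (4864 + r)) :=
  edges_tab (sm gf) Qf (tab Gen.f) 4864 [(4864, 4842), (4865, 8099), (4866, 3661), (4867, 3350), (4868, 2906), (4869, 8106), (4870, 8109), (4871, 2878), (4872, 8112), (4873, 8115), (4874, 2880), (4875, 8118), (4876, 3659), (4877, 8120), (4878, 8123), (4879, 2882), (4880, 8127), (4881, 8130), (4882, 2883), (4883, 8082), (4884, 4856), (4885, 6128), (4886, 8134), (4887, 2891), (4888, 8135), (4889, 8136), (4890, 8141), (4891, 6654), (4892, 8144), (4893, 2893), (4894, 8145), (4895, 8150), (4896, 2898), (4897, 2899), (4898, 4909), (4899, 8157), (4900, 8152), (4901, 8153), (4902, 8164), (4903, 2900), (4904, 5213), (4905, 8168), (4906, 6658), (4907, 4040), (4908, 8172), (4909, 4898), (4910, 8175), (4911, 2905), (4912, 8103), (4913, 4919), (4914, 2909), (4915, 4918), (4916, 4922), (4917, 8179), (4918, 4915), (4919, 4913), (4920, 8192), (4921, 2911), (4922, 4916), (4923, 3102), (4924, 8198), (4925, 8200), (4926, 2915), (4927, 8193)]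
    ⟨e3 q4864 L99259 q4842, e3 q4865 L124624 q8099, e3 q4866 L99275 q3661, e3 q4867 L141149 q3350, e3 q4868 L99291 q2906, e3 q4869 L124678 q8106, e3 q4870 L124698 q8109, e3 q4871 (flp_f L99313) q2878, e3 q4872 L124750 q8112, e3 q4873 L124768 q8115, e3 q4874 (flp_f L99351) q2880, e3 q4875 L124784 q8118, e3 q4876 L99365 q3659, e3 q4877 L124806 q8120, e3 q4878 L124818 q8123, e3 q4879 (flp_f L99381) q2882, e3 q4880 L124864 q8127, e3 q4881 L124878 q8130, e3 q4882 (flp_f L99401) q2883, e3 q4883 (flp_f L147142) q8082, e3 q4884 (flp_f L147456) q4856, e3 q4885 (flp_f L109604) q6128, e3 q4886 L125410 q8134, e3 q4887 L99871 q2891, e3 q4888 (flp_f L125485) q8135, e3 q4889 (flp_f L125489) q8136, e3 q4890 L125550 q8141, e3 q4891 L141044 q6654, e3 q4892 L125584 q8144, e3 q4893 (flp_f L99929) q2893, e3 q4894 (flp_f L125606) q8145, e3 q4895 L125656 q8150, e3 q4896 L99986 q2898, e3 q4897 L99990 q2899, e3 q4898 L148766 q4909, e3 q4899 L125822 q8157, e3 q4900 (flp_f L125723) q8152, e3 q4901 (flp_f L125727) q8153, e3 q4902 L125856 q8164,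 e3 q4903 (flp_f L100047) q2900, e3 q4904 (flp_f L139030) q5213, e3 q4905 L125914 q8168, e3 q4906 (flp_f L113216) q6658, e3 q4907 (flp_f L100091) q4040, e3 q4908 L125934 q8172, e3 q4909 (flp_f L148766) q4898, e3 q4910 L126358 q8175, e3 q4911 (flp_f L100333) q2905, e3 q4912 (flp_f L124652) q8103, e3 q4913 L148778 q4919, e3 q4914 (flp_f L148787) q2909, e3 q4915 L148759 q4918, e3 q4916 L100475 q4922, e3 q4917 (flp_f L148791) q8179, e3 q4918 (flp_f L148759) q4915, e3 q4919 (flp_f L148778) q4913, e3 q4920 L126660 q8192, e3 q4921 (flp_f L100467) q2911, e3 q4922 (flp_f L100475) q4916, e3 q4923 (flp_f L139761) q3102, e3 q4924 L126710 q8198, e3 q4925 L126716 q8200, e3 q4926 (flp_f L100509) q2915, e3 q4927 (flp_f L126666) q8193, trivial⟩ (by decide +kernel)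

theorem ce_f_77 : ∀ r, r < 64 → sm gf (Qf (4928 + r)) = Qf (tab Gen.f (4928 + r)) :=
  edges_tab (sm gf) Qf (tab Gen.f) 4928 [(4928, 2917), (4929, 4930), (4930, 4929), (4931, 2919), (4932, 2921), (4933, 4936), (4934, 2924), (4935, 8206), (4936, 4933), (4937, 2926), (4938, 8208), (4939, 4939), (4940, 8212), (4941, 6118), (4942, 8214), (4943, 2929), (4944, 8217), (4945, 2930), (4946, 4952), (4947, 6054), (4948, 8223), (4949, 2933), (4950, 6165), (4951, 2940), (4952, 4946), (4953, 8232), (4954, 2935), (4955, 2942), (4956, 4967), (4957, 8237), (4958, 4970), (4959, 2938), (4960, 8238), (4961, 8226), (4962, 8227), (4963, 8244), (4964, 8245), (4965, 8246), (4966, 2941), (4967, 4956), (4968, 2943), (4969, 2944), (4970, 4958), (4971, 2946), (4972, 4973), (4973, 4972), (4974, 2949), (4975, 6047), (4976, 8256), (4977, 8258), (4978, 2951), (4979, 7205), (4980, 8264), (4981, 8267), (4982, 8269), (4983, 2954), (4984, 8272), (4985, 2957), (4986, 8273), (4987, 8274), (4988, 8281), (4989, 7191), (4990, 8284), (4991, 8287)]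
    ⟨e3 q4928 (flp_f L101745) q2917, e3 q4929 L101767 q4930, e3 q4930 (flp_f L101767) q4929, e3 q4931 (flp_f L101769) q2919, e3 q4932 (flp_f L101793) q2921, e3 q4933 L101821 q4936, e3 q4934 (flp_f L101809) q2924, e3 q4935 L128611 q8206, e3 q4936 (flp_f L101821) q4933, e3 q4937 (flp_f L101823) q2926, e3 q4938 L128641 q8208, e3 q4939 L101836 q4939, e3 q4940 L128669 q8212, e3 q4941 (flp_f L119703) q6118, e3 q4942 L128695 q8214, e3 q4943 (flp_f L101863) q2929, e3 q4944 L128723 q8217, e3 q4945 (flp_f L101871) q2930, e3 q4946 L101933 q4952, e3 q4947 (flp_f L119427) q6054, e3 q4948 L128759 q8223, e3 q4949 (flp_f L101899) q2933, e3 q4950 L110077 q6165, e3 q4951 L101925 q2940, e3 q4952 (flp_f L101933) q4946, e3 q4953 L128831 q8232, e3 q4954 (flp_f L101943) q2935, e3 q4955 L101958 q2942, e3 q4956 (flp_f L102131) q4967, e3 q4957 L128857 q8237, e3 q4958 L102162 q4970, e3 q4959 (flp_f L101976) q2938, e3 q4960 (flp_f L128871) q8238, e3 q4961 (flp_f L128785) q8226, e3 q4962 (flp_f L128795) q8227, e3 q4963 L128909 q8244, e3 q4964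 L128927 q8245, e3 q4965 L128939 q8246, e3 q4966 (flp_f L102114) q2941, e3 q4967 L102131 q4956, e3 q4968 (flp_f L102133) q2943, e3 q4969 (flp_f L102146) q2944, e3 q4970 (flp_f L102162) q4958, e3 q4971 (flp_f L102164) q2946, e3 q4972 L102211 q4973, e3 q4973 (flp_f L102211) q4972, e3 q4974 (flp_f L102219) q2949, e3 q4975 (flp_f L119423) q6047, e3 q4976 L129038 q8256, e3 q4977 L129056 q8258, e3 q4978 (flp_f L102243) q2951, e3 q4979 L117139 q7205, e3 q4980 L129097 q8264, e3 q4981 L129109 q8267, e3 q4982 L129123 q8269, e3 q4983 (flp_f L102263) q2954, e3 q4984 L129142 q8272, e3 q4985 L102277 q2957, e3 q4986 (flp_f L129156) q8273, e3 q4987 (flp_f L129160) q8274, e3 q4988 L129193 q8281, e3 q4989 (flp_f L117049) q7191, e3 q4990 L129219 q8284, e3 q4991 L129238 q8287, trivial⟩ (by decide +kernel)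

theorem ce_f_78 : ∀ r, r < 64 → sm gf (Qf (4992 + r)) = Qf (tab Gen.f (4992 + r)) :=
  edges_tab (sm gf) Qf (tab Gen.f) 4992 [(4992, 5512), (4993, 8291), (4994, 2961), (4995, 8292), (4996, 8299), (4997, 2966), (4998, 8305), (4999, 8300), (5000, 8301), (5001, 8311), (5002, 8314), (5003, 8316), (5004, 2967), (5005, 5005), (5006, 5338), (5007, 6558), (5008, 8325), (5009, 2977), (5010, 2978), (5011, 5017), (5012, 5026), (5013, 8331), (5014, 2975), (5015, 6136), (5016, 8326), (5017, 5011), (5018, 8327), (5019, 8338), (5020, 2979), (5021, 8340), (5022, 8343), (5023, 2980), (5024, 8345), (5025, 2981), (5026, 5012), (5027, 5027), (5028, 5561), (5029, 2985), (5030, 8349), (5031, 2995), (5032, 3928), (5033, 8356), (5034, 2990), (5035, 2999), (5036, 3000), (5037, 5053), (5038, 8365), (5039, 5067), (5040, 8369), (5041, 2993), (5042, 8370), (5043, 8350), (5044, 8351), (5045, 8378), (5046, 8380), (5047, 8382), (5048, 8383), (5049, 2997), (5050, 8384), (5051, 6621), (5052, 8359), (5053, 5037), (5054, 8360), (5055, 8396)]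
    ⟨e3 q4992 (flp_f L105415) q5512, e3 q4993 L129265 q8291, e3 q4994 (flp_f L102325) q2961, e3 q4995 (flp_f L129292) q8292, e3 q4996 L129330 q8299, e3 q4997 L102347 q2966, e3 q4998 L129380 q8305, e3 q4999 (flp_f L129342) q8300, e3 q5000 (flp_f L129354) q8301, e3 q5001 L129428 q8311, e3 q5002 L129448 q8314, e3 q5003 L129460 q8316, e3 q5004 (flp_f L102381) q2967, e3 q5005 L102388 q5005, e3 q5006 (flp_f L104437) q5338, e3 q5007 (flp_f L119773) q6558, e3 q5008 L129655 q8325, e3 q5009 L102419 q2977, e3 q5010 L102423 q2978, e3 q5011 (flp_f L102453) q5017, e3 q5012 L102493 q5026, e3 q5013 L129714 q8331, e3 q5014 (flp_f L102439) q2975, e3 q5015 L120245 q6136, e3 q5016 (flp_f L129667) q8326, e3 q5017 L102453 q5011, e3 q5018 (flp_f L129678) q8327, e3 q5019 L129783 q8338, e3 q5020 (flp_f L102463) q2979, e3 q5021 L129803 q8340, e3 q5022 L129813 q8343, e3 q5023 (flp_f L102475) q2980, e3 q5024 L129830 q8345, e3 q5025 (flp_f L102485) q2981, e3 q5026 (flp_f L102493) q5012, e3 q5027 L102499 q5027, e3 q5028 (flp_f L105627) q5561,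 e3 q5029 (flp_f L102505) q2985, e3 q5030 L129858 q8349, e3 q5031 L102537 q2995, e3 q5032 (flp_f L146589) q3928, e3 q5033 L129932 q8356, e3 q5034 (flp_f L102551) q2990, e3 q5035 L102563 q2999, e3 q5036 L102569 q3000, e3 q5037 (flp_f L102653) q5053, e3 q5038 L129990 q8365, e3 q5039 L102735 q5067, e3 q5040 L130014 q8369, e3 q5041 (flp_f L102595) q2993, e3 q5042 (flp_f L130024) q8370, e3 q5043 (flp_f L129896) q8350, e3 q5044 (flp_f L129904) q8351, e3 q5045 L130078 q8378, e3 q5046 L130097 q8380, e3 q5047 L130113 q8382, e3 q5048 L130123 q8383, e3 q5049 (flp_f L102627) q2997, e3 q5050 (flp_f L130137) q8384, e3 q5051 L120449 q6621, e3 q5052 (flp_f L129958) q8359, e3 q5053 L102653 q5037, e3 q5054 (flp_f L129966) q8360, e3 q5055 L130210 q8396, trivial⟩ (by decide +kernel)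

theorem ce_f_79 : ∀ r, r < 64 → sm gf (Qf (5056 + r)) = Qf (tab Gen.f (5056 + r)) :=
  edges_tab (sm gf) Qf (tab Gen.f) 5056 [(5056, 8399), (5057, 3001), (5058, 8403), (5059, 8405), (5060, 3002), (5061, 8407), (5062, 8410), (5063, 3003), (5064, 8413), (5065, 3004), (5066, 3006), (5067, 5039), (5068, 8416), (5069, 8417), (5070, 8425), (5071, 3159), (5072, 5078), (5073, 8429), (5074, 3169), (5075, 8431), (5076, 3010), (5077, 8414), (5078, 5072), (5079, 3638), (5080, 3015), (5081, 3940), (5082, 8437), (5083, 3022), (5084, 8205), (5085, 8439), (5086, 3023), (5087, 6612), (5088, 4094), (5089, 4116), (5090, 6882), (5091, 3025), (5092, 3040), (5093, 8444), (5094, 3044), (5095, 3045), (5096, 5124), (5097, 4080), (5098, 5134), (5099, 8448), (5100, 3030), (5101, 8449), (5102, 3887), (5103, 3053), (5104, 5141), (5105, 8456), (5106, 8458), (5107, 8460), (5108, 3035), (5109, 8463), (5110, 5165), (5111, 3037), (5112, 3039), (5113, 8465), (5114, 8466), (5115, 8472), (5116, 4005), (5117, 4004), (5118, 6708), (5119, 8475)]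
    ⟨e3 q5056 L130232 q8399, e3 q5057 (flp_f L102671) q3001, e3 q5058 L130250 q8403, e3 q5059 L130262 q8405, e3 q5060 (flp_f L102689) q3002, e3 q5061 L130284 q8407, e3 q5062 L130300 q8410, e3 q5063 (flp_f L102705) q3003, e3 q5064 L130320 q8413, e3 q5065 (flp_f L102717) q3004, e3 q5066 L102727 q3006, e3 q5067 (flp_f L102735) q5039, e3 q5068 (flp_f L130344) q8416, e3 q5069 (flp_f L130350) q8417, e3 q5070 L130392 q8425, e3 q5071 L102757 q3159, e3 q5072 (flp_f L102803) q5078, e3 q5073 L130416 q8429, e3 q5074 L102775 q3169, e3 q5075 L130432 q8431, e3 q5076 (flp_f L102785) q3010, e3 q5077 (flp_f L130328) q8414, e3 q5078 L102803 q5072, e3 q5079 (flp_f L147511) q3638, e3 q5080 (flp_f L102831) q3015, e3 q5081 L119333 q3940, e3 q5082 L130598 q8437, e3 q5083 (flp_f L102910) q3022, e3 q5084 L128605 q8205, e3 q5085 L130618 q8439, e3 q5086 (flp_f L102930) q3023, e3 q5087 L119777 q6612, e3 q5088 (flp_f L119719) q4094, e3 q5089 (flp_f L148245) q4116, e3 q5090 L146707 q6882, e3 q5091 (flp_f L102952) q3025, e3 q5092 L102964 q3040,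 e3 q5093 L142847 q8444, e3 q5094 L102990 q3044, e3 q5095 L102994 q3045, e3 q5096 (flp_f L103136) q5124, e3 q5097 L147400 q4080, e3 q5098 L103206 q5134, e3 q5099 L142885 q8448, e3 q5100 (flp_f L103014) q3030, e3 q5101 (flp_f L142897) q8449, e3 q5102 L120402 q3887, e3 q5103 L103028 q3053, e3 q5104 (flp_f L103242) q5141, e3 q5105 L142935 q8456, e3 q5106 L142943 q8458, e3 q5107 L142953 q8460, e3 q5108 (flp_f L103050) q3035, e3 q5109 L142967 q8463, e3 q5110 L103352 q5165, e3 q5111 (flp_f L103068) q3037, e3 q5112 L103074 q3039, e3 q5113 (flp_f L143003) q8465, e3 q5114 (flp_f L143007) q8466, e3 q5115 L143033 q8472, e3 q5116 L119789 q4005, e3 q5117 L119803 q4004, e3 q5118 L119791 q6708, e3 q5119 L143073 q8475, trivial⟩ (by decide +kernel)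

theorem ce_f_80 : ∀ r, r < 64 → sm gf (Qf (5120 + r)) = Qf (tab Gen.f (5120 + r)) :=
  edges_tab (sm gf) Qf (tab Gen.f) 5120 [(5120, 8476), (5121, 6787), (5122, 3042), (5123, 8477), (5124, 5096), (5125, 6709), (5126, 8077), (5127, 3046), (5128, 4848), (5129, 8485), (5130, 3047), (5131, 3048), (5132, 3049), (5133, 3051), (5134, 5098), (5135, 8488), (5136, 8489), (5137, 8494), (5138, 3951), (5139, 6138), (5140, 4762), (5141, 5104), (5142, 8501), (5143, 5891), (5144, 7943), (5145, 8505), (5146, 3056), (5147, 5156), (5148, 8509), (5149, 3057), (5150, 8510), (5151, 8516), (5152, 8518), (5153, 3059), (5154, 8521), (5155, 3060), (5156, 5147), (5157, 3062), (5158, 8525), (5159, 8527), (5160, 3063), (5161, 8524), (5162, 8531), (5163, 3065), (5164, 3084), (5165, 5110), (5166, 3069), (5167, 3070), (5168, 5172), (5169, 8542), (5170, 8545), (5171, 8536), (5172, 5168), (5173, 8537), (5174, 8551), (5175, 3071), (5176, 3836), (5177, 6471), (5178, 3270), (5179, 5604), (5180, 3272), (5181, 3318), (5182, 5197), (5183, 7852)]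
    ⟨e3 q5120 L143083 q8476, e3 q5121 L148363 q6787, e3 q5122 (flp_f L103112) q3042, e3 q5123 (flp_f L143109) q8477, e3 q5124 L103136 q5096, e3 q5125 L120371 q6709, e3 q5126 (flp_f L130478) q8077, e3 q5127 (flp_f L103150) q3046, e3 q5128 L130484 q4848, e3 q5129 L143177 q8485, e3 q5130 (flp_f L103166) q3047, e3 q5131 (flp_f L103180) q3048, e3 q5132 (flp_f L103190) q3049, e3 q5133 L103198 q3051, e3 q5134 (flp_f L103206) q5098, e3 q5135 (flp_f L143235) q8488, e3 q5136 (flp_f L143239) q8489, e3 q5137 L143287 q8494, e3 q5138 L120096 q3951, e3 q5139 (flp_f L120404) q6138, e3 q5140 (flp_f L119843) q4762, e3 q5141 L103242 q5104, e3 q5142 L143327 q8501, e3 q5143 (flp_f L119845) q5891, e3 q5144 (flp_f L123438) q7943, e3 q5145 L143351 q8505, e3 q5146 (flp_f L103260) q3056, e3 q5147 L103306 q5156, e3 q5148 L143367 q8509, e3 q5149 (flp_f L103276) q3057, e3 q5150 (flp_f L143373) q8510, e3 q5151 L143387 q8516, e3 q5152 L143401 q8518, e3 q5153 (flp_f L103286) q3059, e3 q5154 L143465 q8521, e3 q5155 (flp_f L103296) q3060, e3 q5156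 (flp_f L103306) q5147, e3 q5157 (flp_f L103312) q3062, e3 q5158 L143519 q8525, e3 q5159 L143533 q8527, e3 q5160 (flp_f L103322) q3063, e3 q5161 (flp_f L143499) q8524, e3 q5162 L143569 q8531, e3 q5163 (flp_f L103338) q3065, e3 q5164 L103344 q3084, e3 q5165 (flp_f L103352) q5110, e3 q5166 L103356 q3069, e3 q5167 L103360 q3070, e3 q5168 (flp_f L103376) q5172, e3 q5169 L143627 q8542, e3 q5170 L143641 q8545, e3 q5171 (flp_f L143599) q8536, e3 q5172 L103376 q5168, e3 q5173 (flp_f L143611) q8537, e3 q5174 L143689 q8551, e3 q5175 (flp_f L103388) q3071, e3 q5176 L119665 q3836, e3 q5177 (flp_f L120287) q6471, e3 q5178 L103413 q3270, e3 q5179 L119864 q5604, e3 q5180 L103421 q3272, e3 q5181 (flp_f L103429) q3318, e3 q5182 (flp_f L103514) q5197, e3 q5183 L123802 q7852, trivial⟩ (by decide +kernel)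

theorem ce_f_81 : ∀ r, r < 64 → sm gf (Qf (5184 + r)) = Qf (tab Gen.f (5184 + r)) :=
  edges_tab (sm gf) Qf (tab Gen.f) 5184 [(5184, 8560), (5185, 3077), (5186, 3293), (5187, 7787), (5188, 3079), (5189, 5576), (5190, 8564), (5191, 8565), (5192, 3081), (5193, 3082), (5194, 8532), (5195, 8533), (5196, 8570), (5197, 5182), (5198, 5198), (5199, 3311), (5200, 3562), (5201, 3317), (5202, 3273), (5203, 8575), (5204, 8578), (5205, 3333), (5206, 3096), (5207, 5654), (5208, 3100), (5209, 8581), (5210, 3101), (5211, 8580), (5212, 8584), (5213, 4904), (5214, 8589), (5215, 3106), (5216, 5220), (5217, 3107), (5218, 8596), (5219, 3112), (5220, 5216), (5221, 8603), (5222, 3109), (5223, 8593), (5224, 8610), (5225, 8597), (5226, 8598), (5227, 8615), (5228, 8618), (5229, 8619), (5230, 3113), (5231, 8224), (5232, 8626), (5233, 3128), (5234, 3129), (5235, 5258), (5236, 8631), (5237, 5269), (5238, 7128), (5239, 3118), (5240, 8633), (5241, 8639), (5242, 3137), (5243, 3139), (5244, 5279), (5245, 8647), (5246, 8650), (5247, 8651)]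
    ⟨e3 q5184 L143747 q8560, e3 q5185 (flp_f L103441) q3077, e3 q5186 L103451 q3293, e3 q5187 L150397 q7787, e3 q5188 (flp_f L103460) q3079, e3 q5189 L105698 q5576, e3 q5190 L143817 q8564, e3 q5191 L143827 q8565, e3 q5192 (flp_f L103482) q3081, e3 q5193 (flp_f L103490) q3082, e3 q5194 (flp_f L143577) q8532, e3 q5195 (flp_f L143589) q8533, e3 q5196 L143865 q8570, e3 q5197 L103514 q5182, e3 q5198 L103521 q5198, e3 q5199 L119872 q3311, e3 q5200 L119517 q3562, e3 q5201 L103578 q3317, e3 q5202 (flp_f L103588) q3273, e3 q5203 L143905 q8575, e3 q5204 L143921 q8578, e3 q5205 L103612 q3333, e3 q5206 L139737 q3096, e3 q5207 L129623 q5654, e3 q5208 (flp_f L103658) q3100, e3 q5209 L144029 q8581, e3 q5210 (flp_f L103676) q3101, e3 q5211 (flp_f L144003) q8580, e3 q5212 (flp_f L149235) q8584, e3 q5213 L139030 q4904, e3 q5214 L144089 q8589, e3 q5215 (flp_f L103734) q3106, e3 q5216 L103772 q5220, e3 q5217 (flp_f L103750) q3107, e3 q5218 L144133 q8596, e3 q5219 L103766 q3112, e3 q5220 (flp_f L103772) q5216, e3 q5221 L144183 q8603,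 e3 q5222 (flp_f L103780) q3109, e3 q5223 (flp_f L144117) q8593, e3 q5224 L144211 q8610, e3 q5225 (flp_f L144147) q8597, e3 q5226 (flp_f L144161) q8598, e3 q5227 L144241 q8615, e3 q5228 L144259 q8618, e3 q5229 L144269 q8619, e3 q5230 (flp_f L103818) q3113, e3 q5231 (flp_f L128769) q8224, e3 q5232 L144329 q8626, e3 q5233 L103834 q3128, e3 q5234 L103851 q3129, e3 q5235 (flp_f L103985) q5258, e3 q5236 L144349 q8631, e3 q5237 L104059 q5269, e3 q5238 L116657 q7128, e3 q5239 (flp_f L103879) q3118, e3 q5240 (flp_f L144363) q8633, e3 q5241 L144387 q8639, e3 q5242 L103897 q3137, e3 q5243 L103901 q3139, e3 q5244 (flp_f L104113) q5279, e3 q5245 L144435 q8647, e3 q5246 L144449 q8650, e3 q5247 L144459 q8651, trivial⟩ (by decide +kernel)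

theorem ce_f_82 : ∀ r, r < 64 → sm gf (Qf (5248 + r)) = Qf (tab Gen.f (5248 + r)) :=
  edges_tab (sm gf) Qf (tab Gen.f) 5248 [(5248, 3123), (5249, 8655), (5250, 5306), (5251, 8659), (5252, 3125), (5253, 3127), (5254, 8661), (5255, 8662), (5256, 8668), (5257, 7208), (5258, 5235), (5259, 7087), (5260, 8675), (5261, 3130), (5262, 8678), (5263, 8679), (5264, 3131), (5265, 8682), (5266, 3132), (5267, 3133), (5268, 3135), (5269, 5237), (5270, 8685), (5271, 8686), (5272, 8692), (5273, 8694), (5274, 8698), (5275, 3136), (5276, 8702), (5277, 8704), (5278, 8641), (5279, 5244), (5280, 8711), (5281, 8642), (5282, 8714), (5283, 8717), (5284, 3140), (5285, 5294), (5286, 8722), (5287, 3141), (5288, 8723), (5289, 8729), (5290, 8733), (5291, 3143), (5292, 8736), (5293, 3144), (5294, 5285), (5295, 8739), (5296, 8743), (5297, 3146), (5298, 8747), (5299, 8749), (5300, 8752), (5301, 3147), (5302, 8745), (5303, 8757), (5304, 3149), (5305, 3172), (5306, 5250), (5307, 3153), (5308, 3154), (5309, 5313), (5310, 8771), (5311, 8774)]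
    ⟨e3 q5248 (flp_f L103923) q3123, e3 q5249 L144481 q8655, e3 q5250 L104264 q5306, e3 q5251 L144507 q8659, e3 q5252 (flp_f L103945) q3125, e3 q5253 L103955 q3127, e3 q5254 (flp_f L144519) q8661, e3 q5255 (flp_f L144525) q8662, e3 q5256 L144557 q8668, e3 q5257 (flp_f L117159) q7208, e3 q5258 L103985 q5235, e3 q5259 L116453 q7087, e3 q5260 L144601 q8675, e3 q5261 (flp_f L104001) q3130, e3 q5262 L144617 q8678, e3 q5263 L144627 q8679, e3 q5264 (flp_f L104015) q3131, e3 q5265 L144645 q8682, e3 q5266 (flp_f L104027) q3132, e3 q5267 (flp_f L104037) q3133, e3 q5268 L104051 q3135, e3 q5269 (flp_f L104059) q5237, e3 q5270 (flp_f L144671) q8685, e3 q5271 (flp_f L144677) q8686, e3 q5272 L144721 q8692, e3 q5273 L144739 q8694, e3 q5274 L144763 q8698, e3 q5275 (flp_f L104089) q3136, e3 q5276 L144787 q8702, e3 q5277 L144799 q8704, e3 q5278 (flp_f L144405) q8641, e3 q5279 L104113 q5244, e3 q5280 L144833 q8711, e3 q5281 (flp_f L144411) q8642, e3 q5282 L144851 q8714, e3 q5283 L144873 q8717, e3 q5284 (flp_f L104135) q3140, e3 q5285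 L104200 q5294, e3 q5286 L144897 q8722, e3 q5287 (flp_f L104157) q3141, e3 q5288 (flp_f L144907) q8723, e3 q5289 L144935 q8729, e3 q5290 L144957 q8733, e3 q5291 (flp_f L104175) q3143, e3 q5292 L144979 q8736, e3 q5293 (flp_f L104187) q3144, e3 q5294 (flp_f L104200) q5285, e3 q5295 L145008 q8739, e3 q5296 L145030 q8743, e3 q5297 (flp_f L104210) q3146, e3 q5298 L145054 q8747, e3 q5299 L145066 q8749, e3 q5300 L145080 q8752, e3 q5301 (flp_f L104226) q3147, e3 q5302 (flp_f L145046) q8745, e3 q5303 L145106 q8757, e3 q5304 (flp_f L104246) q3149, e3 q5305 L104254 q3172, e3 q5306 (flp_f L104264) q5250, e3 q5307 L104270 q3153, e3 q5308 L104276 q3154, e3 q5309 (flp_f L104302) q5313, e3 q5310 L145184 q8771, e3 q5311 L145200 q8774, trivial⟩ (by decide +kernel)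

theorem ce_f_83 : ∀ r, r < 64 → sm gf (Qf (5312 + r)) = Qf (tab Gen.f (5312 + r)) :=
  edges_tab (sm gf) Qf (tab Gen.f) 5312 [(5312, 8765), (5313, 5309), (5314, 8766), (5315, 5471), (5316, 3155), (5317, 8783), (5318, 5318), (5319, 8786), (5320, 8790), (5321, 3157), (5322, 8793), (5323, 5360), (5324, 8795), (5325, 8798), (5326, 3160), (5327, 8802), (5328, 8804), (5329, 3161), (5330, 8805), (5331, 3164), (5332, 8810), (5333, 8815), (5334, 5334), (5335, 5335), (5336, 5336), (5337, 8820), (5338, 5006), (5339, 8823), (5340, 8827), (5341, 3168), (5342, 8830), (5343, 8430), (5344, 3170), (5345, 8758), (5346, 3185), (5347, 8760), (5348, 8761), (5349, 8843), (5350, 8845), (5351, 3176), (5352, 3177), (5353, 8852), (5354, 8847), (5355, 8848), (5356, 8849), (5357, 6470), (5358, 7171), (5359, 8860), (5360, 5323), (5361, 5371), (5362, 3181), (5363, 8862), (5364, 5364), (5365, 8868), (5366, 5366), (5367, 8872), (5368, 8873), (5369, 3184), (5370, 8832), (5371, 5361), (5372, 3188), (5373, 3189), (5374, 8876), (5375, 8882)]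
    ⟨e3 q5312 (flp_f L145158) q8765, e3 q5313 L104302 q5309, e3 q5314 (flp_f L145162) q8766, e3 q5315 (flp_f L151530) q5471, e3 q5316 (flp_f L104315) q3155, e3 q5317 L145259 q8783, e3 q5318 L104332 q5318, e3 q5319 L145278 q8786, e3 q5320 L145312 q8790, e3 q5321 (flp_f L104345) q3157, e3 q5322 L145332 q8793, e3 q5323 (flp_f L104564) q5360, e3 q5324 L145346 q8795, e3 q5325 L145364 q8798, e3 q5326 (flp_f L104369) q3160, e3 q5327 L145386 q8802, e3 q5328 L145398 q8804, e3 q5329 (flp_f L104389) q3161, e3 q5330 (flp_f L145408) q8805, e3 q5331 L104403 q3164, e3 q5332 (flp_f L145436) q8810, e3 q5333 L145458 q8815, e3 q5334 L104419 q5334, e3 q5335 L104422 q5335, e3 q5336 L104425 q5336, e3 q5337 L145491 q8820, e3 q5338 L104437 q5006, e3 q5339 L145520 q8823, e3 q5340 L145540 q8827, e3 q5341 (flp_f L104450) q3168, e3 q5342 L145554 q8830, e3 q5343 (flp_f L130428) q8430, e3 q5344 (flp_f L104464) q3170, e3 q5345 (flp_f L145116) q8758, e3 q5346 (flp_f L104482) q3185, e3 q5347 (flp_f L145130) q8760, e3 q5348 (flp_f L145136) q8761,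 e3 q5349 L145630 q8843, e3 q5350 L145644 q8845, e3 q5351 L104510 q3176, e3 q5352 L104516 q3177, e3 q5353 L145686 q8852, e3 q5354 (flp_f L145662) q8847, e3 q5355 (flp_f L145668) q8848, e3 q5356 (flp_f L145672) q8849, e3 q5357 L120289 q6470, e3 q5358 L120291 q7171, e3 q5359 L145734 q8860, e3 q5360 L104564 q5323, e3 q5361 (flp_f L104657) q5371, e3 q5362 L104577 q3181, e3 q5363 (flp_f L145756) q8862, e3 q5364 L104595 q5364, e3 q5365 L145787 q8868, e3 q5366 L104612 q5366, e3 q5367 L145809 q8872, e3 q5368 L145833 q8873, e3 q5369 (flp_f L104629) q3184, e3 q5370 L145578 q8832, e3 q5371 L104657 q5361, e3 q5372 L104666 q3188, e3 q5373 L104672 q3189, e3 q5374 (flp_f L145876) q8876, e3 q5375 L145911 q8882, trivial⟩ (by decide +kernel)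

theorem ce_f_84 : ∀ r, r < 64 → sm gf (Qf (5376 + r)) = Qf (tab Gen.f (5376 + r)) :=
  edges_tab (sm gf) Qf (tab Gen.f) 5376 [(5376, 8878), (5377, 6630), (5378, 8887), (5379, 3198), (5380, 3199), (5381, 5389), (5382, 8893), (5383, 5396), (5384, 8895), (5385, 3196), (5386, 8896), (5387, 8902), (5388, 3571), (5389, 5381), (5390, 6013), (5391, 3200), (5392, 8909), (5393, 8911), (5394, 3201), (5395, 3202), (5396, 5383), (5397, 5398), (5398, 5397), (5399, 3204), (5400, 8915), (5401, 3228), (5402, 5443), (5403, 8921), (5404, 5412), (5405, 6823), (5406, 3208), (5407, 8296), (5408, 8927), (5409, 3209), (5410, 4076), (5411, 3210), (5412, 5404), (5413, 8930), (5414, 8931), (5415, 3212), (5416, 8932), (5417, 8933), (5418, 3214), (5419, 8464), (5420, 3217), (5421, 3218), (5422, 5425), (5423, 8941), (5424, 6727), (5425, 5422), (5426, 6726), (5427, 4029), (5428, 3219), (5429, 8947), (5430, 3220), (5431, 5436), (5432, 8951), (5433, 7442), (5434, 3221), (5435, 8957), (5436, 5431), (5437, 8961), (5438, 3223), (5439, 5963)]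
    ⟨e3 q5376 (flp_f L145892) q8878, e3 q5377 L120357 q6630, e3 q5378 L145941 q8887, e3 q5379 L104811 q3198, e3 q5380 L104815 q3199, e3 q5381 (flp_f L104843) q5389, e3 q5382 L145973 q8893, e3 q5383 L104879 q5396, e3 q5384 L145989 q8895, e3 q5385 (flp_f L104829) q3196, e3 q5386 (flp_f L145995) q8896, e3 q5387 L146110 q8902, e3 q5388 L119419 q3571, e3 q5389 L104843 q5381, e3 q5390 L119813 q6013, e3 q5391 (flp_f L104851) q3200, e3 q5392 L146148 q8909, e3 q5393 L146158 q8911, e3 q5394 (flp_f L104863) q3201, e3 q5395 (flp_f L104871) q3202, e3 q5396 (flp_f L104879) q5383, e3 q5397 L104885 q5398, e3 q5398 (flp_f L104885) q5397, e3 q5399 (flp_f L104887) q3204, e3 q5400 L151602 q8915, e3 q5401 L104909 q3228, e3 q5402 (flp_f L105087) q5443, e3 q5403 L151626 q8921, e3 q5404 L104949 q5412, e3 q5405 (flp_f L153022) q6823, e3 q5406 (flp_f L104925) q3208, e3 q5407 L129321 q8296, e3 q5408 L151662 q8927, e3 q5409 (flp_f L104933) q3209, e3 q5410 L152999 q4076, e3 q5411 (flp_f L104941) q3210, e3 q5412 (flp_f L104949) q5404, e3 q5413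 L151694 q8930, e3 q5414 L151706 q8931, e3 q5415 (flp_f L104955) q3212, e3 q5416 L151712 q8932, e3 q5417 L151720 q8933, e3 q5418 (flp_f L104975) q3214, e3 q5419 (flp_f L142999) q8464, e3 q5420 L104983 q3217, e3 q5421 L104987 q3218, e3 q5422 (flp_f L105001) q5425, e3 q5423 L151760 q8941, e3 q5424 (flp_f L153424) q6727, e3 q5425 L105001 q5422, e3 q5426 (flp_f L153449) q6726, e3 q5427 L153429 q4029, e3 q5428 (flp_f L105009) q3219, e3 q5429 L151834 q8947, e3 q5430 (flp_f L105019) q3220, e3 q5431 L105043 q5436, e3 q5432 L151866 q8951, e3 q5433 (flp_f L120511) q7442, e3 q5434 (flp_f L105033) q3221, e3 q5435 L151896 q8957, e3 q5436 (flp_f L105043) q5431, e3 q5437 L151932 q8961, e3 q5438 (flp_f L105049) q3223, e3 q5439 (flp_f L119821) q5963, trivial⟩ (by decide +kernel)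

theorem ce_f_85 : ∀ r, r < 64 → sm gf (Qf (5440 + r)) = Qf (tab Gen.f (5440 + r)) :=
  edges_tab (sm gf) Qf (tab Gen.f) 5440 [(5440, 3224), (5441, 8967), (5442, 5894), (5443, 5402), (5444, 8972), (5445, 8975), (5446, 8977), (5447, 3227), (5448, 8979), (5449, 8981), (5450, 3229), (5451, 5543), (5452, 8986), (5453, 3230), (5454, 8987), (5455, 8993), (5456, 3261), (5457, 3259), (5458, 3233), (5459, 3235), (5460, 8997), (5461, 8998), (5462, 9003), (5463, 9004), (5464, 3895), (5465, 3236), (5466, 9007), (5467, 4782), (5468, 5509), (5469, 3237), (5470, 6643), (5471, 5315), (5472, 9012), (5473, 9014), (5474, 3242), (5475, 5481), (5476, 9018), (5477, 9021), (5478, 3243), (5479, 9024), (5480, 3249), (5481, 5475), (5482, 3245), (5483, 9030), (5484, 3246), (5485, 9033), (5486, 9034), (5487, 3247), (5488, 9031), (5489, 9025), (5490, 9026), (5491, 8265), (5492, 3250), (5493, 3298), (5494, 3614), (5495, 3300), (5496, 3301), (5497, 5583), (5498, 9054), (5499, 9057), (5500, 9061), (5501, 9063), (5502, 9064), (5503, 3257)]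
    ⟨e3 q5440 (flp_f L105069) q3224, e3 q5441 L151960 q8967, e3 q5442 (flp_f L119819) q5894, e3 q5443 L105087 q5402, e3 q5444 L151988 q8972, e3 q5445 L152004 q8975, e3 q5446 L152014 q8977, e3 q5447 (flp_f L105095) q3227, e3 q5448 L152024 q8979, e3 q5449 L152046 q8981, e3 q5450 (flp_f L105109) q3229, e3 q5451 L105555 q5543, e3 q5452 L152074 q8986, e3 q5453 (flp_f L105129) q3230, e3 q5454 (flp_f L152080) q8987, e3 q5455 L152102 q8993, e3 q5456 L151482 q3261, e3 q5457 L151524 q3259, e3 q5458 (flp_f L105145) q3233, e3 q5459 L105151 q3235, e3 q5460 (flp_f L152128) q8997, e3 q5461 (flp_f L152132) q8998, e3 q5462 L152174 q9003, e3 q5463 L152180 q9004, e3 q5464 L143441 q3895, e3 q5465 (flp_f L105165) q3236, e3 q5466 L152210 q9007, e3 q5467 L143417 q4782, e3 q5468 L151540 q5509, e3 q5469 (flp_f L105175) q3237, e3 q5470 (flp_f L143419) q6643, e3 q5471 L151530 q5315, e3 q5472 L152240 q9012, e3 q5473 L152274 q9014, e3 q5474 (flp_f L105212) q3242, e3 q5475 L105240 q5481, e3 q5476 L152310 q9018, e3 q5477 L152324 q9021, e3 q5478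 (flp_f L105226) q3243, e3 q5479 L152340 q9024, e3 q5480 L105236 q3249, e3 q5481 (flp_f L105240) q5475, e3 q5482 (flp_f L105242) q3245, e3 q5483 L152390 q9030, e3 q5484 (flp_f L105262) q3246, e3 q5485 L152404 q9033, e3 q5486 L152412 q9034, e3 q5487 (flp_f L105272) q3247, e3 q5488 (flp_f L152398) q9031, e3 q5489 (flp_f L152352) q9025, e3 q5490 (flp_f L152364) q9026, e3 q5491 (flp_f L129119) q8265, e3 q5492 (flp_f L105292) q3250, e3 q5493 L105300 q3298, e3 q5494 L148003 q3614, e3 q5495 L105314 q3300, e3 q5496 L105318 q3301, e3 q5497 (flp_f L105724) q5583, e3 q5498 L152520 q9054, e3 q5499 L152534 q9057, e3 q5500 L152558 q9061, e3 q5501 L152568 q9063, e3 q5502 L152580 q9064, e3 q5503 (flp_f L105354) q3257, trivial⟩ (by decide +kernel)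

theorem ce_f_86 : ∀ r, r < 64 → sm gf (Qf (5504 + r)) = Qf (tab Gen.f (5504 + r)) :=
  edges_tab (sm gf) Qf (tab Gen.f) 5504 [(5504, 9066), (5505, 9068), (5506, 3258), (5507, 8905), (5508, 9071), (5509, 5468), (5510, 8891), (5511, 8720), (5512, 4992), (5513, 9074), (5514, 9077), (5515, 3264), (5516, 9080), (5517, 5517), (5518, 3883), (5519, 3266), (5520, 5523), (5521, 4278), (5522, 6535), (5523, 5520), (5524, 3269), (5525, 9086), (5526, 3271), (5527, 9090), (5528, 8554), (5529, 8572), (5530, 6067), (5531, 9095), (5532, 3274), (5533, 5534), (5534, 5533), (5535, 3275), (5536, 9097), (5537, 3906), (5538, 9101), (5539, 3277), (5540, 9103), (5541, 3278), (5542, 3280), (5543, 5451), (5544, 9107), (5545, 9111), (5546, 9105), (5547, 3282), (5548, 5630), (5549, 9115), (5550, 9120), (5551, 8286), (5552, 3283), (5553, 9124), (5554, 5554), (5555, 8289), (5556, 5556), (5557, 9128), (5558, 9131), (5559, 3287), (5560, 9134), (5561, 5028), (5562, 7784), (5563, 3289), (5564, 5567), (5565, 9137), (5566, 3290), (5567, 5564)]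
    ⟨e3 q5504 L152592 q9066, e3 q5505 L152610 q9068, e3 q5506 (flp_f L105366) q3258, e3 q5507 L151280 q8905, e3 q5508 L152632 q9071, e3 q5509 (flp_f L151540) q5468, e3 q5510 (flp_f L151131) q8891, e3 q5511 L151488 q8720, e3 q5512 L105415 q4992, e3 q5513 L152652 q9074, e3 q5514 L152671 q9077, e3 q5515 (flp_f L105425) q3264, e3 q5516 L152692 q9080, e3 q5517 L105440 q5517, e3 q5518 L119656 q3883, e3 q5519 (flp_f L105447) q3266, e3 q5520 L105471 q5523, e3 q5521 L119645 q4278, e3 q5522 L120295 q6535, e3 q5523 (flp_f L105471) q5520, e3 q5524 (flp_f L105473) q3269, e3 q5525 L152734 q9086, e3 q5526 (flp_f L105485) q3271, e3 q5527 L152752 q9090, e3 q5528 (flp_f L143715) q8554, e3 q5529 L143887 q8572, e3 q5530 L120546 q6067, e3 q5531 L152780 q9095, e3 q5532 (flp_f L105505) q3274, e3 q5533 L120581 q5534, e3 q5534 (flp_f L120581) q5533, e3 q5535 (flp_f L105519) q3275, e3 q5536 (flp_f L152798) q9097, e3 q5537 L120589 q3906, e3 q5538 L152822 q9101, e3 q5539 (flp_f L105533) q3277, e3 q5540 L152840 q9103, e3 q5541 (flp_f L105543)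 q3278, e3 q5542 L105549 q3280, e3 q5543 (flp_f L105555) q5451, e3 q5544 (flp_f L152860) q9107, e3 q5545 L152872 q9111, e3 q5546 (flp_f L152848) q9105, e3 q5547 L105569 q3282, e3 q5548 (flp_f L106051) q5630, e3 q5549 (flp_f L152892) q9115, e3 q5550 L152914 q9120, e3 q5551 (flp_f L153059) q8286, e3 q5552 (flp_f L105587) q3283, e3 q5553 L152941 q9124, e3 q5554 L105596 q5554, e3 q5555 (flp_f L151568) q8289, e3 q5556 L105603 q5556, e3 q5557 L153067 q9128, e3 q5558 L153086 q9131, e3 q5559 (flp_f L105612) q3287, e3 q5560 L153107 q9134, e3 q5561 L105627 q5028, e3 q5562 L150438 q7784, e3 q5563 (flp_f L105634) q3289, e3 q5564 L105658 q5567, e3 q5565 L153129 q9137, e3 q5566 (flp_f L105648) q3290, e3 q5567 (flp_f L105658) q5564, trivial⟩ (by decide +kernel)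

theorem ce_f_87 : ∀ r, r < 64 → sm gf (Qf (5568 + r)) = Qf (tab Gen.f (5568 + r)) :=
  edges_tab (sm gf) Qf (tab Gen.f) 5568 [(5568, 3292), (5569, 9141), (5570, 3294), (5571, 9144), (5572, 9145), (5573, 3295), (5574, 9142), (5575, 9043), (5576, 5189), (5577, 9045), (5578, 9046), (5579, 9152), (5580, 7792), (5581, 3907), (5582, 9049), (5583, 5497), (5584, 8995), (5585, 9160), (5586, 9162), (5587, 3302), (5588, 9164), (5589, 3303), (5590, 9168), (5591, 3307), (5592, 3308), (5593, 3309), (5594, 9174), (5595, 8924), (5596, 3306), (5597, 9178), (5598, 9169), (5599, 9181), (5600, 9171), (5601, 9182), (5602, 3310), (5603, 9185), (5604, 5179), (5605, 3456), (5606, 7525), (5607, 5657), (5608, 3312), (5609, 5613), (5610, 5872), (5611, 9193), (5612, 3343), (5613, 5609), (5614, 3336), (5615, 3316), (5616, 5852), (5617, 8556), (5618, 3610), (5619, 8555), (5620, 5646), (5621, 3320), (5622, 3578), (5623, 5714), (5624, 3321), (5625, 7998), (5626, 3326), (5627, 4038), (5628, 6891), (5629, 9207), (5630, 5548), (5631, 9211)]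
    ⟨e3 q5568 (flp_f L105660) q3292, e3 q5569 L153151 q9141, e3 q5570 (flp_f L105672) q3294, e3 q5571 L153167 q9144, e3 q5572 L153173 q9145, e3 q5573 (flp_f L105678) q3295, e3 q5574 (flp_f L153159) q9142, e3 q5575 (flp_f L152460) q9043, e3 q5576 (flp_f L105698) q5189, e3 q5577 (flp_f L152476) q9045, e3 q5578 (flp_f L152480) q9046, e3 q5579 L153215 q9152, e3 q5580 (flp_f L150972) q7792, e3 q5581 L151413 q3907, e3 q5582 (flp_f L152502) q9049, e3 q5583 L105724 q5497, e3 q5584 (flp_f L152118) q8995, e3 q5585 L153267 q9160, e3 q5586 L153281 q9162, e3 q5587 (flp_f L105740) q3302, e3 q5588 L153287 q9164, e3 q5589 (flp_f L105750) q3303, e3 q5590 L153311 q9168, e3 q5591 L105764 q3307, e3 q5592 L105770 q3308, e3 q5593 L105774 q3309, e3 q5594 L153343 q9174, e3 q5595 (flp_f L153495) q8924, e3 q5596 (flp_f L105784) q3306, e3 q5597 L153376 q9178, e3 q5598 (flp_f L153321) q9169, e3 q5599 L153394 q9181, e3 q5600 (flp_f L153333) q9171, e3 q5601 L153513 q9182, e3 q5602 L120439 q3310, e3 q5603 L153531 q9185, e3 q5604 (flp_f L119864)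 q5179, e3 q5605 L120493 q3456, e3 q5606 (flp_f L121046) q7525, e3 q5607 (flp_f L150550) q5657, e3 q5608 (flp_f L105845) q3312, e3 q5609 L105893 q5613, e3 q5610 L120309 q5872, e3 q5611 L153596 q9193, e3 q5612 L149251 q3343, e3 q5613 (flp_f L105893) q5609, e3 q5614 L147901 q3336, e3 q5615 (flp_f L105899) q3316, e3 q5616 (flp_f L120261) q5852, e3 q5617 L143735 q8556, e3 q5618 L120483 q3610, e3 q5619 (flp_f L143727) q8555, e3 q5620 L149293 q5646, e3 q5621 (flp_f L105941) q3320, e3 q5622 L120471 q3578, e3 q5623 L149273 q5714, e3 q5624 (flp_f L105957) q3321, e3 q5625 L123788 q7998, e3 q5626 L139118 q3326, e3 q5627 L105997 q4038, e3 q5628 (flp_f L150564) q6891, e3 q5629 L153700 q9207, e3 q5630 L106051 q5548, e3 q5631 L153726 q9211, trivial⟩ (by decide +kernel)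

theorem ce_f_88 : ∀ r, r < 64 → sm gf (Qf (5632 + r)) = Qf (tab Gen.f (5632 + r)) :=
  edges_tab (sm gf) Qf (tab Gen.f) 5632 [(5632, 9215), (5633, 8263), (5634, 9219), (5635, 3329), (5636, 9221), (5637, 5637), (5638, 9223), (5639, 9224), (5640, 3332), (5641, 8579), (5642, 5837), (5643, 9228), (5644, 9195), (5645, 3334), (5646, 5620), (5647, 9231), (5648, 3335), (5649, 3338), (5650, 9233), (5651, 3339), (5652, 6044), (5653, 3341), (5654, 5207), (5655, 9189), (5656, 3360), (5657, 5607), (5658, 9235), (5659, 3393), (5660, 3394), (5661, 3395), (5662, 9243), (5663, 3352), (5664, 8199), (5665, 9251), (5666, 9254), (5667, 9255), (5668, 3351), (5669, 8279), (5670, 9245), (5671, 9258), (5672, 3354), (5673, 9262), (5674, 3355), (5675, 5678), (5676, 9266), (5677, 8445), (5678, 5675), (5679, 3391), (5680, 9272), (5681, 5693), (5682, 3389), (5683, 3362), (5684, 9278), (5685, 5727), (5686, 5725), (5687, 3365), (5688, 6719), (5689, 5722), (5690, 3366), (5691, 9284), (5692, 3367), (5693, 5681), (5694, 5696), (5695, 9290)]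
    ⟨e3 q5632 L153763 q9215, e3 q5633 (flp_f L153046) q8263, e3 q5634 L153793 q9219, e3 q5635 (flp_f L106105) q3329, e3 q5636 L153806 q9221, e3 q5637 L106120 q5637, e3 q5638 L153827 q9223, e3 q5639 L153834 q9224, e3 q5640 (flp_f L106134) q3332, e3 q5641 (flp_f L143935) q8579, e3 q5642 L150606 q5837, e3 q5643 L153870 q9228, e3 q5644 (flp_f L153618) q9195, e3 q5645 (flp_f L106164) q3334, e3 q5646 (flp_f L149293) q5620, e3 q5647 L153894 q9231, e3 q5648 (flp_f L106184) q3335, e3 q5649 (flp_f L106218) q3338, e3 q5650 L153902 q9233, e3 q5651 (flp_f L106232) q3339, e3 q5652 L150496 q6044, e3 q5653 (flp_f L106252) q3341, e3 q5654 (flp_f L129623) q5207, e3 q5655 L153578 q9189, e3 q5656 L150524 q3360, e3 q5657 L150550 q5607, e3 q5658 (flp_f L153924) q9235, e3 q5659 L106294 q3393, e3 q5660 L106316 q3394, e3 q5661 L106322 q3395, e3 q5662 L153972 q9243, e3 q5663 L106372 q3352, e3 q5664 L151236 q8199, e3 q5665 L154029 q9251, e3 q5666 L154051 q9254, e3 q5667 L154061 q9255, e3 q5668 (flp_f L106428) q3351, e3 q5669 L153489 q8279,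 e3 q5670 (flp_f L153984) q9245, e3 q5671 L154092 q9258, e3 q5672 L120345 q3354, e3 q5673 L154112 q9262, e3 q5674 (flp_f L106633) q3355, e3 q5675 L106665 q5678, e3 q5676 L154134 q9266, e3 q5677 L142861 q8445, e3 q5678 (flp_f L106665) q5675, e3 q5679 L150514 q3391, e3 q5680 L154178 q9272, e3 q5681 L106739 q5693, e3 q5682 L149283 q3389, e3 q5683 (flp_f L106693) q3362, e3 q5684 L154216 q9278, e3 q5685 L151028 q5727, e3 q5686 L150558 q5725, e3 q5687 (flp_f L106711) q3365, e3 q5688 L151038 q6719, e3 q5689 L150596 q5722, e3 q5690 (flp_f L106721) q3366, e3 q5691 L154236 q9284, e3 q5692 (flp_f L106731) q3367, e3 q5693 (flp_f L106739) q5681, e3 q5694 L142752 q5696, e3 q5695 L154276 q9290, trivial⟩ (by decide +kernel)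

theorem ce_f_89 : ∀ r, r < 64 → sm gf (Qf (5696 + r)) = Qf (tab Gen.f (5696 + r)) :=
  edges_tab (sm gf) Qf (tab Gen.f) 5696 [(5696, 5694), (5697, 9239), (5698, 9295), (5699, 3371), (5700, 9285), (5701, 9299), (5702, 9302), (5703, 3373), (5704, 5708), (5705, 4064), (5706, 3374), (5707, 9309), (5708, 5704), (5709, 3376), (5710, 9312), (5711, 9313), (5712, 3378), (5713, 3379), (5714, 5623), (5715, 9314), (5716, 3382), (5717, 3384), (5718, 3390), (5719, 4065), (5720, 9275), (5721, 9274), (5722, 5689), (5723, 4070), (5724, 9269), (5725, 5686), (5726, 9267), (5727, 5685), (5728, 3392), (5729, 6871), (5730, 9336), (5731, 9240), (5732, 6839), (5733, 9339), (5734, 9341), (5735, 9344), (5736, 3397), (5737, 5741), (5738, 9349), (5739, 3398), (5740, 9351), (5741, 5737), (5742, 3400), (5743, 3402), (5744, 5745), (5745, 5744), (5746, 3404), (5747, 3405), (5748, 5754), (5749, 4420), (5750, 7477), (5751, 9356), (5752, 3408), (5753, 9359), (5754, 5748), (5755, 3410), (5756, 9364), (5757, 5757), (5758, 3413), (5759, 5763)]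
    ⟨e3 q5696 (flp_f L142752) q5694, e3 q5697 (flp_f L153954) q9239, e3 q5698 L154302 q9295, e3 q5699 (flp_f L106791) q3371, e3 q5700 (flp_f L154244) q9285, e3 q5701 L154338 q9299, e3 q5702 L154354 q9302, e3 q5703 (flp_f L106807) q3373, e3 q5704 L106839 q5708, e3 q5705 L148370 q4064, e3 q5706 (flp_f L106825) q3374, e3 q5707 L154398 q9309, e3 q5708 (flp_f L106839) q5704, e3 q5709 (flp_f L106841) q3376, e3 q5710 L154424 q9312, e3 q5711 L154430 q9313, e3 q5712 (flp_f L106857) q3378, e3 q5713 (flp_f L106865) q3379, e3 q5714 (flp_f L149273) q5623, e3 q5715 (flp_f L154440) q9314, e3 q5716 (flp_f L106883) q3382, e3 q5717 (flp_f L106905) q3384, e3 q5718 L106915 q3390, e3 q5719 L106927 q4065, e3 q5720 (flp_f L154204) q9275, e3 q5721 (flp_f L154194) q9274, e3 q5722 (flp_f L150596) q5689, e3 q5723 L150576 q4070, e3 q5724 (flp_f L154162) q9269, e3 q5725 (flp_f L150558) q5686, e3 q5726 (flp_f L154144) q9267, e3 q5727 (flp_f L151028) q5685, e3 q5728 (flp_f L106969) q3392, e3 q5729 (flp_f L150788) q6871, e3 q5730 L154656 q9336,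 e3 q5731 (flp_f L153964) q9240, e3 q5732 (flp_f L114708) q6839, e3 q5733 L154676 q9339, e3 q5734 L154692 q9341, e3 q5735 L154718 q9344, e3 q5736 (flp_f L107029) q3397, e3 q5737 L107063 q5741, e3 q5738 L154750 q9349, e3 q5739 (flp_f L107047) q3398, e3 q5740 L154764 q9351, e3 q5741 (flp_f L107063) q5737, e3 q5742 (flp_f L107065) q3400, e3 q5743 (flp_f L107085) q3402, e3 q5744 L107113 q5745, e3 q5745 (flp_f L107113) q5744, e3 q5746 (flp_f L107115) q3404, e3 q5747 (flp_f L107127) q3405, e3 q5748 L107172 q5754, e3 q5749 L107145 q4420, e3 q5750 (flp_f L120712) q7477, e3 q5751 L154810 q9356, e3 q5752 (flp_f L107154) q3408, e3 q5753 L154834 q9359, e3 q5754 (flp_f L107172) q5748, e3 q5755 (flp_f L107174) q3410, e3 q5756 L154874 q9364, e3 q5757 L107189 q5757, e3 q5758 (flp_f L107190) q3413, e3 q5759 L107234 q5763, trivial⟩ (by decide +kernel)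

theorem ce_f_90 : ∀ r, r < 64 → sm gf (Qf (5760 + r)) = Qf (tab Gen.f (5760 + r)) :=
  edges_tab (sm gf) Qf (tab Gen.f) 5760 [(5760, 9368), (5761, 9373), (5762, 3424), (5763, 5759), (5764, 9378), (5765, 3417), (5766, 3426), (5767, 5781), (5768, 9383), (5769, 5785), (5770, 3420), (5771, 9384), (5772, 3779), (5773, 9389), (5774, 9374), (5775, 6183), (5776, 9394), (5777, 9396), (5778, 9398), (5779, 3425), (5780, 9400), (5781, 5767), (5782, 3427), (5783, 9404), (5784, 3428), (5785, 5769), (5786, 3430), (5787, 5807), (5788, 3436), (5789, 9143), (5790, 5790), (5791, 9411), (5792, 3433), (5793, 5804), (5794, 9408), (5795, 9088), (5796, 9414), (5797, 3437), (5798, 9415), (5799, 9417), (5800, 3438), (5801, 9420), (5802, 3439), (5803, 9422), (5804, 5793), (5805, 3441), (5806, 3454), (5807, 5787), (5808, 9427), (5809, 3443), (5810, 5830), (5811, 9432), (5812, 3446), (5813, 9433), (5814, 9439), (5815, 9442), (5816, 9444), (5817, 3450), (5818, 3453), (5819, 9446), (5820, 9447), (5821, 9454), (5822, 9186), (5823, 6864)]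
    ⟨e3 q5760 (flp_f L154900) q9368, e3 q5761 L154936 q9373, e3 q5762 L107224 q3424, e3 q5763 (flp_f L107234) q5759, e3 q5764 L154974 q9378, e3 q5765 (flp_f L107244) q3417, e3 q5766 L107261 q3426, e3 q5767 (flp_f L107351) q5781, e3 q5768 L155000 q9383, e3 q5769 L107382 q5785, e3 q5770 (flp_f L107279) q3420, e3 q5771 (flp_f L155010) q9384, e3 q5772 L107296 q3779, e3 q5773 L155040 q9389, e3 q5774 (flp_f L154950) q9374, e3 q5775 (flp_f L110190) q6183, e3 q5776 L155096 q9394, e3 q5777 L155118 q9396, e3 q5778 L155138 q9398, e3 q5779 (flp_f L107336) q3425, e3 q5780 L155162 q9400, e3 q5781 L107351 q5767, e3 q5782 (flp_f L107353) q3427, e3 q5783 L155184 q9404, e3 q5784 (flp_f L107366) q3428, e3 q5785 (flp_f L107382) q5769, e3 q5786 (flp_f L107384) q3430, e3 q5787 L107519 q5807, e3 q5788 L107402 q3436, e3 q5789 L153165 q9143, e3 q5790 L119004 q5790, e3 q5791 L155234 q9411, e3 q5792 (flp_f L107417) q3433, e3 q5793 L107491 q5804, e3 q5794 (flp_f L155210) q9408, e3 q5795 L152742 q9088, e3 q5796 L155260 q9414, e3 q5797 (flp_f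 L107447) q3437, e3 q5798 L155268 q9415, e3 q5799 L155292 q9417, e3 q5800 (flp_f L107463) q3438, e3 q5801 L155318 q9420, e3 q5802 (flp_f L107471) q3439, e3 q5803 L155336 q9422, e3 q5804 (flp_f L107491) q5793, e3 q5805 (flp_f L107497) q3441, e3 q5806 L107511 q3454, e3 q5807 (flp_f L107519) q5787, e3 q5808 L155366 q9427, e3 q5809 (flp_f L107529) q3443, e3 q5810 (flp_f L107647) q5830, e3 q5811 L155390 q9432, e3 q5812 (flp_f L107567) q3446, e3 q5813 (flp_f L155400) q9433, e3 q5814 L155423 q9439, e3 q5815 L155431 q9442, e3 q5816 L155449 q9444, e3 q5817 (flp_f L107585) q3450, e3 q5818 L107593 q3453, e3 q5819 (flp_f L155461) q9446, e3 q5820 (flp_f L155465) q9447, e3 q5821 L155536 q9454, e3 q5822 (flp_f L153548) q9186, e3 q5823 (flp_f L120373) q6864, trivial⟩ (by decide +kernel)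

theorem ce_f_91 : ∀ r, r < 64 → sm gf (Qf (5824 + r)) = Qf (tab Gen.f (5824 + r)) :=
  edges_tab (sm gf) Qf (tab Gen.f) 5824 [(5824, 9459), (5825, 9462), (5826, 9463), (5827, 3455), (5828, 9190), (5829, 6867), (5830, 5810), (5831, 9468), (5832, 3458), (5833, 9201), (5834, 9470), (5835, 3459), (5836, 3460), (5837, 5642), (5838, 3462), (5839, 9477), (5840, 9480), (5841, 6117), (5842, 3465), (5843, 9485), (5844, 9483), (5845, 9490), (5846, 3482), (5847, 3483), (5848, 5873), (5849, 5886), (5850, 7059), (5851, 3469), (5852, 5616), (5853, 3491), (5854, 3493), (5855, 5896), (5856, 9502), (5857, 9505), (5858, 9507), (5859, 3473), (5860, 9509), (5861, 5923), (5862, 9514), (5863, 3475), (5864, 3477), (5865, 9516), (5866, 9517), (5867, 9524), (5868, 5950), (5869, 6468), (5870, 3480), (5871, 9526), (5872, 5610), (5873, 5848), (5874, 9491), (5875, 7031), (5876, 9535), (5877, 3484), (5878, 9538), (5879, 6278), (5880, 3485), (5881, 9541), (5882, 3486), (5883, 9545), (5884, 3487), (5885, 3489), (5886, 5849), (5887, 9546)]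
    ⟨e3 q5824 L155578 q9459, e3 q5825 L155608 q9462, e3 q5826 L155618 q9463, e3 q5827 (flp_f L107629) q3455, e3 q5828 (flp_f L153588) q9190, e3 q5829 (flp_f L120507) q6867, e3 q5830 L107647 q5810, e3 q5831 L155654 q9468, e3 q5832 (flp_f L107657) q3458, e3 q5833 (flp_f L153670) q9201, e3 q5834 L155670 q9470, e3 q5835 (flp_f L107673) q3459, e3 q5836 (flp_f L107685) q3460, e3 q5837 (flp_f L150606) q5642, e3 q5838 (flp_f L107704) q3462, e3 q5839 L155720 q9477, e3 q5840 L155735 q9480, e3 q5841 (flp_f L109521) q6117, e3 q5842 (flp_f L107719) q3465, e3 q5843 L155762 q9485, e3 q5844 (flp_f L155754) q9483, e3 q5845 L155792 q9490, e3 q5846 L107733 q3482, e3 q5847 L107743 q3483, e3 q5848 (flp_f L107933) q5873, e3 q5849 L108007 q5886, e3 q5850 L150096 q7059, e3 q5851 (flp_f L107769) q3469, e3 q5852 L120261 q5616, e3 q5853 L107785 q3491, e3 q5854 L107791 q3493, e3 q5855 (flp_f L108055) q5896, e3 q5856 L155872 q9502, e3 q5857 L155886 q9505, e3 q5858 L155898 q9507, e3 q5859 (flp_f L107815) q3473, e3 q5860 L155912 q9509, e3 q5861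 L108202 q5923, e3 q5862 L155948 q9514, e3 q5863 (flp_f L107839) q3475, e3 q5864 L107851 q3477, e3 q5865 (flp_f L155964) q9516, e3 q5866 (flp_f L155970) q9517, e3 q5867 L156010 q9524, e3 q5868 L108457 q5950, e3 q5869 L151226 q6468, e3 q5870 (flp_f L107903) q3480, e3 q5871 (flp_f L156048) q9526, e3 q5872 (flp_f L120309) q5610, e3 q5873 L107933 q5848, e3 q5874 (flp_f L155804) q9491, e3 q5875 L115984 q7031, e3 q5876 L156130 q9535, e3 q5877 (flp_f L107953) q3484, e3 q5878 L156152 q9538, e3 q5879 L151218 q6278, e3 q5880 (flp_f L107967) q3485, e3 q5881 L156182 q9541, e3 q5882 (flp_f L107981) q3486, e3 q5883 L156210 q9545, e3 q5884 (flp_f L107991) q3487, e3 q5885 L107999 q3489, e3 q5886 (flp_f L108007) q5849, e3 q5887 (flp_f L156222) q9546, trivial⟩ (by decide +kernel)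

theorem ce_f_92 : ∀ r, r < 64 → sm gf (Qf (5888 + r)) = Qf (tab Gen.f (5888 + r)) :=
  edges_tab (sm gf) Qf (tab Gen.f) 5888 [(5888, 9547), (5889, 6315), (5890, 9553), (5891, 5143), (5892, 3490), (5893, 9557), (5894, 5442), (5895, 9495), (5896, 5855), (5897, 9565), (5898, 9496), (5899, 9497), (5900, 9569), (5901, 3494), (5902, 5911), (5903, 9574), (5904, 3495), (5905, 9575), (5906, 9581), (5907, 9585), (5908, 3497), (5909, 9588), (5910, 3498), (5911, 5902), (5912, 9197), (5913, 9592), (5914, 3500), (5915, 9595), (5916, 9044), (5917, 9599), (5918, 3501), (5919, 9593), (5920, 9605), (5921, 9606), (5922, 3503), (5923, 5861), (5924, 3507), (5925, 3508), (5926, 5930), (5927, 9616), (5928, 9619), (5929, 9610), (5930, 5926), (5931, 9611), (5932, 9627), (5933, 3509), (5934, 9631), (5935, 5935), (5936, 5936), (5937, 5937), (5938, 9638), (5939, 7410), (5940, 7415), (5941, 7416), (5942, 5942), (5943, 9646), (5944, 5944), (5945, 7436), (5946, 9652), (5947, 7438), (5948, 5998), (5949, 3521), (5950, 5868), (5951, 3525)]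
    ⟨e3 q5888 (flp_f L156234) q9547, e3 q5889 L151323 q6315, e3 q5890 L156282 q9553, e3 q5891 L119845 q5143, e3 q5892 (flp_f L108031) q3490, e3 q5893 L156318 q9557, e3 q5894 L119819 q5442, e3 q5895 (flp_f L155836) q9495, e3 q5896 L108055 q5855, e3 q5897 L156376 q9565, e3 q5898 (flp_f L155840) q9496, e3 q5899 (flp_f L155846) q9497, e3 q5900 L156398 q9569, e3 q5901 (flp_f L108075) q3494, e3 q5902 L108140 q5911, e3 q5903 L156426 q9574, e3 q5904 (flp_f L108097) q3495, e3 q5905 (flp_f L156436) q9575, e3 q5906 L156468 q9581, e3 q5907 L156490 q9585, e3 q5908 (flp_f L108115) q3497, e3 q5909 L156508 q9588, e3 q5910 (flp_f L108127) q3498, e3 q5911 (flp_f L108140) q5902, e3 q5912 L153636 q9197, e3 q5913 L156541 q9592, e3 q5914 (flp_f L108150) q3500, e3 q5915 L156559 q9595, e3 q5916 L152470 q9044, e3 q5917 L156599 q9599, e3 q5918 (flp_f L108166) q3501, e3 q5919 (flp_f L156551) q9593, e3 q5920 L156635 q9605, e3 q5921 L156639 q9606, e3 q5922 (flp_f L108190) q3503, e3 q5923 (flp_f L108202) q5861, e3 q5924 L108208 q3507, e3 q5925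 L108214 q3508, e3 q5926 (flp_f L108240) q5930, e3 q5927 L156697 q9616, e3 q5928 L156719 q9619, e3 q5929 (flp_f L156667) q9610, e3 q5930 L108240 q5926, e3 q5931 (flp_f L156671) q9611, e3 q5932 L156766 q9627, e3 q5933 (flp_f L108253) q3509, e3 q5934 L156875 q9631, e3 q5935 L108271 q5935, e3 q5936 L108274 q5936, e3 q5937 L108277 q5937, e3 q5938 L156914 q9638, e3 q5939 (flp_f L118427) q7410, e3 q5940 (flp_f L118457) q7415, e3 q5941 (flp_f L118461) q7416, e3 q5942 L108303 q5942, e3 q5943 L156960 q9646, e3 q5944 L108322 q5944, e3 q5945 (flp_f L118597) q7436, e3 q5946 L156997 q9652, e3 q5947 (flp_f L118619) q7438, e3 q5948 (flp_f L108853) q5998, e3 q5949 (flp_f L108439) q3521, e3 q5950 (flp_f L108457) q5868, e3 q5951 (flp_f L108465) q3525, trivial⟩ (by decide +kernel)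

theorem ce_f_93 : ∀ r, r < 64 → sm gf (Qf (5952 + r)) = Qf (tab Gen.f (5952 + r)) :=
  edges_tab (sm gf) Qf (tab Gen.f) 5952 [(5952, 6010), (5953, 9658), (5954, 9659), (5955, 9661), (5956, 3531), (5957, 3533), (5958, 3535), (5959, 9663), (5960, 9664), (5961, 9669), (5962, 8588), (5963, 5439), (5964, 3593), (5965, 3597), (5966, 6049), (5967, 9676), (5968, 5976), (5969, 9680), (5970, 3540), (5971, 9488), (5972, 9686), (5973, 3541), (5974, 9689), (5975, 3542), (5976, 5968), (5977, 3544), (5978, 9692), (5979, 6095), (5980, 9694), (5981, 3546), (5982, 3821), (5983, 3549), (5984, 3550), (5985, 5988), (5986, 9705), (5987, 9700), (5988, 5985), (5989, 9701), (5990, 9712), (5991, 3551), (5992, 5994), (5993, 3553), (5994, 5992), (5995, 3556), (5996, 3557), (5997, 3558), (5998, 5948), (5999, 3648), (6000, 9717), (6001, 9720), (6002, 9721), (6003, 3563), (6004, 3564), (6005, 3565), (6006, 3567), (6007, 9723), (6008, 9724), (6009, 6514), (6010, 5952), (6011, 9731), (6012, 8612), (6013, 5390), (6014, 9735), (6015, 3572)]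
    ⟨e3 q5952 (flp_f L108977) q6010, e3 q5953 L157051 q9658, e3 q5954 L157063 q9659, e3 q5955 L157093 q9661, e3 q5956 (flp_f L108519) q3531, e3 q5957 (flp_f L108539) q3533, e3 q5958 L108549 q3535, e3 q5959 (flp_f L157111) q9663, e3 q5960 (flp_f L157117) q9664, e3 q5961 L157145 q9669, e3 q5962 (flp_f L144083) q8588, e3 q5963 L119821 q5439, e3 q5964 L108593 q3593, e3 q5965 L108603 q3597, e3 q5966 (flp_f L109213) q6049, e3 q5967 L157195 q9676, e3 q5968 L108647 q5976, e3 q5969 L157209 q9680, e3 q5970 (flp_f L108621) q3540, e3 q5971 L155785 q9488, e3 q5972 L157233 q9686, e3 q5973 (flp_f L108629) q3541, e3 q5974 L157247 q9689, e3 q5975 (flp_f L108639) q3542, e3 q5976 (flp_f L108647) q5968, e3 q5977 (flp_f L108653) q3544, e3 q5978 L157265 q9692, e3 q5979 L109442 q6095, e3 q5980 L157283 q9694, e3 q5981 (flp_f L108677) q3546, e3 q5982 L108683 q3821, e3 q5983 L108687 q3549, e3 q5984 L108691 q3550, e3 q5985 (flp_f L108705) q5988, e3 q5986 L157331 q9705, e3 q5987 (flp_f L157313) q9700, e3 q5988 L108705 q5985, e3 q5989 (flp_f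 L157317) q9701, e3 q5990 L157363 q9712, e3 q5991 (flp_f L108715) q3551, e3 q5992 (flp_f L108779) q5994, e3 q5993 (flp_f L108759) q3553, e3 q5994 L108779 q5992, e3 q5995 L118996 q3556, e3 q5996 (flp_f L108807) q3557, e3 q5997 (flp_f L108819) q3558, e3 q5998 L108853 q5948, e3 q5999 L119471 q3648, e3 q6000 L157417 q9717, e3 q6001 L157439 q9720, e3 q6002 L157453 q9721, e3 q6003 (flp_f L108887) q3563, e3 q6004 (flp_f L108903) q3564, e3 q6005 (flp_f L108915) q3565, e3 q6006 L108925 q3567, e3 q6007 (flp_f L157489) q9723, e3 q6008 (flp_f L157497) q9724, e3 q6009 L151321 q6514, e3 q6010 L108977 q5952, e3 q6011 L157551 q9731, e3 q6012 (flp_f L144225) q8612, e3 q6013 (flp_f L119813) q5390, e3 q6014 L157581 q9735, e3 q6015 (flp_f L108993) q3572, trivial⟩ (by decide +kernel)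

theorem ce_f_94 : ∀ r, r < 64 → sm gf (Qf (6016 + r)) = Qf (tab Gen.f (6016 + r)) :=
  edges_tab (sm gf) Qf (tab Gen.f) 6016 [(6016, 6025), (6017, 9739), (6018, 3573), (6019, 9740), (6020, 8585), (6021, 9745), (6022, 3575), (6023, 9748), (6024, 3576), (6025, 6016), (6026, 3579), (6027, 9200), (6028, 9752), (6029, 3581), (6030, 8067), (6031, 3655), (6032, 3585), (6033, 3586), (6034, 6038), (6035, 8196), (6036, 8574), (6037, 9757), (6038, 6034), (6039, 9758), (6040, 6748), (6041, 3587), (6042, 3588), (6043, 8498), (6044, 5652), (6045, 9771), (6046, 3591), (6047, 4975), (6048, 9671), (6049, 5966), (6050, 9777), (6051, 9778), (6052, 9780), (6053, 3595), (6054, 4947), (6055, 8255), (6056, 9784), (6057, 3598), (6058, 7984), (6059, 9791), (6060, 6078), (6061, 9797), (6062, 3601), (6063, 3603), (6064, 9799), (6065, 7558), (6066, 9803), (6067, 5530), (6068, 9806), (6069, 3604), (6070, 9089), (6071, 9810), (6072, 9814), (6073, 3605), (6074, 6513), (6075, 6541), (6076, 9819), (6077, 3607), (6078, 6060), (6079, 9824)]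
    ⟨e3 q6016 L109047 q6025, e3 q6017 L157603 q9739, e3 q6018 (flp_f L109011) q3573, e3 q6019 (flp_f L157615) q9740, e3 q6020 L144055 q8585, e3 q6021 L157649 q9745, e3 q6022 (flp_f L109027) q3575, e3 q6023 L157661 q9748, e3 q6024 (flp_f L109037) q3576, e3 q6025 (flp_f L109047) q6016, e3 q6026 (flp_f L109069) q3579, e3 q6027 (flp_f L153662) q9200, e3 q6028 L157691 q9752, e3 q6029 (flp_f L109085) q3581, e3 q6030 (flp_f L149533) q8067, e3 q6031 L147760 q3655, e3 q6032 L109103 q3585, e3 q6033 L109107 q3586, e3 q6034 (flp_f L109131) q6038, e3 q6035 (flp_f L149502) q8196, e3 q6036 L143903 q8574, e3 q6037 (flp_f L157729) q9757, e3 q6038 L109131 q6034, e3 q6039 (flp_f L157735) q9758, e3 q6040 L157481 q6748, e3 q6041 (flp_f L109139) q3587, e3 q6042 (flp_f L109151) q3588, e3 q6043 L143319 q8498, e3 q6044 (flp_f L150496) q5652, e3 q6045 L157813 q9771, e3 q6046 (flp_f L109181) q3591, e3 q6047 L119423 q4975, e3 q6048 (flp_f L157171) q9671, e3 q6049 L109213 q5966, e3 q6050 L157847 q9777, e3 q6051 L157851 q9778, e3 q6052 L157861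 q9780, e3 q6053 (flp_f L109221) q3595, e3 q6054 L119427 q4947, e3 q6055 (flp_f L129036) q8255, e3 q6056 L157891 q9784, e3 q6057 (flp_f L109247) q3598, e3 q6058 (flp_f L123638) q7984, e3 q6059 L157923 q9791, e3 q6060 L109330 q6078, e3 q6061 L157949 q9797, e3 q6062 (flp_f L109269) q3601, e3 q6063 L109275 q3603, e3 q6064 (flp_f L157959) q9799, e3 q6065 L121242 q7558, e3 q6066 L157991 q9803, e3 q6067 (flp_f L120546) q5530, e3 q6068 L158009 q9806, e3 q6069 (flp_f L109289) q3604, e3 q6070 L152750 q9089, e3 q6071 L158029 q9810, e3 q6072 L158043 q9814, e3 q6073 (flp_f L109299) q3605, e3 q6074 (flp_f L112184) q6513, e3 q6075 L175474 q6541, e3 q6076 L158081 q9819, e3 q6077 (flp_f L109319) q3607, e3 q6078 (flp_f L109330) q6060, e3 q6079 L158109 q9824, trivial⟩ (by decide +kernel)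

theorem ce_f_95 : ∀ r, r < 64 → sm gf (Qf (6080 + r)) = Qf (tab Gen.f (6080 + r)) :=
  edges_tab (sm gf) Qf (tab Gen.f) 6080 [(6080, 6083), (6081, 3611), (6082, 3617), (6083, 6080), (6084, 3613), (6085, 8259), (6086, 9828), (6087, 3615), (6088, 9047), (6089, 6510), (6090, 6509), (6091, 9440), (6092, 9835), (6093, 3618), (6094, 3619), (6095, 5979), (6096, 9841), (6097, 9844), (6098, 3627), (6099, 3629), (6100, 6111), (6101, 7599), (6102, 9854), (6103, 9855), (6104, 3625), (6105, 8573), (6106, 9859), (6107, 3626), (6108, 9654), (6109, 9863), (6110, 9847), (6111, 6100), (6112, 4544), (6113, 9848), (6114, 9849), (6115, 9873), (6116, 3630), (6117, 5841), (6118, 4941), (6119, 3902), (6120, 9880), (6121, 6132), (6122, 3634), (6123, 9884), (6124, 6124), (6125, 9887), (6126, 6126), (6127, 8348), (6128, 4885), (6129, 9883), (6130, 9881), (6131, 3640), (6132, 6121), (6133, 8013), (6134, 9894), (6135, 8024), (6136, 5015), (6137, 6142), (6138, 5139), (6139, 9902), (6140, 3645), (6141, 8332), (6142, 6137), (6143, 3958)]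
    ⟨e3 q6080 L109368 q6083, e3 q6081 (flp_f L109354) q3611, e3 q6082 L109364 q3617, e3 q6083 (flp_f L109368) q6080, e3 q6084 (flp_f L109370) q3613, e3 q6085 L148195 q8259, e3 q6086 L158139 q9828, e3 q6087 (flp_f L109396) q3615, e3 q6088 (flp_f L152490) q9047, e3 q6089 (flp_f L112162) q6510, e3 q6090 (flp_f L112125) q6509, e3 q6091 (flp_f L155439) q9440, e3 q6092 L158173 q9835, e3 q6093 (flp_f L109428) q3618, e3 q6094 (flp_f L109432) q3619, e3 q6095 (flp_f L109442) q5979, e3 q6096 L158209 q9841, e3 q6097 L158221 q9844, e3 q6098 L109452 q3627, e3 q6099 L109456 q3629, e3 q6100 (flp_f L109496) q6111, e3 q6101 (flp_f L155518) q7599, e3 q6102 L158269 q9854, e3 q6103 L158279 q9855, e3 q6104 (flp_f L109470) q3625, e3 q6105 (flp_f L143893) q8573, e3 q6106 L158309 q9859, e3 q6107 (flp_f L109480) q3626, e3 q6108 (flp_f L157023) q9654, e3 q6109 L158329 q9863, e3 q6110 (flp_f L158237) q9847, e3 q6111 L109496 q6100, e3 q6112 L155514 q4544, e3 q6113 (flp_f L158241) q9848, e3 q6114 (flp_f L158245) q9849, e3 q6115 L158386 q9873,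 e3 q6116 (flp_f L109511) q3630, e3 q6117 L109521 q5841, e3 q6118 L119703 q4941, e3 q6119 L109545 q3902, e3 q6120 L158425 q9880, e3 q6121 L152202 q6132, e3 q6122 (flp_f L109561) q3634, e3 q6123 L158457 q9884, e3 q6124 L109574 q6124, e3 q6125 L158477 q9887, e3 q6126 L109581 q6126, e3 q6127 L147521 q8348, e3 q6128 L109604 q4885, e3 q6129 L158455 q9883, e3 q6130 (flp_f L158439) q9881, e3 q6131 (flp_f L109620) q3640, e3 q6132 (flp_f L152202) q6121, e3 q6133 (flp_f L123940) q8013, e3 q6134 L158514 q9894, e3 q6135 (flp_f L124023) q8024, e3 q6136 (flp_f L120245) q5015, e3 q6137 L109695 q6142, e3 q6138 L120404 q5139, e3 q6139 L158569 q9902, e3 q6140 (flp_f L109667) q3645, e3 q6141 (flp_f L129735) q8332, e3 q6142 (flp_f L109695) q6137, e3 q6143 L109707 q3958, trivial⟩ (by decide +kernel)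

theorem ce_f_96 : ∀ r, r < 64 → sm gf (Qf (6144 + r)) = Qf (tab Gen.f (6144 + r)) :=
  edges_tab (sm gf) Qf (tab Gen.f) 6144 [(6144, 9907), (6145, 9910), (6146, 3651), (6147, 8066), (6148, 6148), (6149, 9915), (6150, 3653), (6151, 9918), (6152, 9919), (6153, 3654), (6154, 9921), (6155, 3657), (6156, 4830), (6157, 9742), (6158, 9927), (6159, 3660), (6160, 9929), (6161, 8101), (6162, 4127), (6163, 9933), (6164, 3673), (6165, 4950), (6166, 9938), (6167, 3665), (6168, 6184), (6169, 7223), (6170, 3668), (6171, 9942), (6172, 9945), (6173, 3670), (6174, 9950), (6175, 9947), (6176, 9956), (6177, 6185), (6178, 9934), (6179, 9962), (6180, 9965), (6181, 9967), (6182, 3674), (6183, 5775), (6184, 6168), (6185, 6177), (6186, 3677), (6187, 9971), (6188, 3678), (6189, 9968), (6190, 3679), (6191, 6191), (6192, 6192), (6193, 9953), (6194, 9977), (6195, 3683), (6196, 9978), (6197, 9982), (6198, 3710), (6199, 3712), (6200, 6255), (6201, 9991), (6202, 9994), (6203, 9996), (6204, 3688), (6205, 9999), (6206, 6273), (6207, 10005)]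
    ⟨e3 q6144 L158605 q9907, e3 q6145 L158629 q9910, e3 q6146 (flp_f L109757) q3651, e3 q6147 L150464 q8066, e3 q6148 L109768 q6148, e3 q6149 L158670 q9915, e3 q6150 (flp_f L109782) q3653, e3 q6151 L158692 q9918, e3 q6152 L158696 q9919, e3 q6153 (flp_f L109798) q3654, e3 q6154 L158716 q9921, e3 q6155 (flp_f L109828) q3657, e3 q6156 L109838 q4830, e3 q6157 (flp_f L157641) q9742, e3 q6158 L158756 q9927, e3 q6159 (flp_f L109888) q3660, e3 q6160 L158767 q9929, e3 q6161 (flp_f L124636) q8101, e3 q6162 L110053 q4127, e3 q6163 L158797 q9933, e3 q6164 L110067 q3673, e3 q6165 (flp_f L110077) q4950, e3 q6166 L158829 q9938, e3 q6167 (flp_f L110087) q3665, e3 q6168 (flp_f L110200) q6184, e3 q6169 L117251 q7223, e3 q6170 (flp_f L110119) q3668, e3 q6171 (flp_f L158859) q9942, e3 q6172 L158879 q9945, e3 q6173 (flp_f L110132) q3670, e3 q6174 L158916 q9950, e3 q6175 (flp_f L158900) q9947, e3 q6176 L158956 q9956, e3 q6177 (flp_f L110206) q6185, e3 q6178 (flp_f L158809) q9934, e3 q6179 L158997 q9962, e3 q6180 L159023 q9965, e3 q6181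 L159035 q9967, e3 q6182 (flp_f L110178) q3674, e3 q6183 L110190 q5775, e3 q6184 L110200 q6168, e3 q6185 L110206 q6177, e3 q6186 (flp_f L110216) q3677, e3 q6187 L159071 q9971, e3 q6188 (flp_f L110230) q3678, e3 q6189 L159049 q9968, e3 q6190 (flp_f L110240) q3679, e3 q6191 L110261 q6191, e3 q6192 L110270 q6192, e3 q6193 L158942 q9953, e3 q6194 (flp_f L167037) q9977, e3 q6195 (flp_f L110289) q3683, e3 q6196 (flp_f L159146) q9978, e3 q6197 L159169 q9982, e3 q6198 L110311 q3710, e3 q6199 L110315 q3712, e3 q6200 (flp_f L110627) q6255, e3 q6201 L159251 q9991, e3 q6202 L159271 q9994, e3 q6203 L159285 q9996, e3 q6204 (flp_f L110341) q3688, e3 q6205 L159305 q9999, e3 q6206 L110727 q6273, e3 q6207 L159351 q10005, trivial⟩ (by decide +kernel)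

theorem ce_f_97 : ∀ r, r < 64 → sm gf (Qf (6208 + r)) = Qf (tab Gen.f (6208 + r)) :=
  edges_tab (sm gf) Qf (tab Gen.f) 6208 [(6208, 3690), (6209, 3692), (6210, 10006), (6211, 10007), (6212, 10014), (6213, 6917), (6214, 10018), (6215, 3693), (6216, 10021), (6217, 10024), (6218, 3725), (6219, 3728), (6220, 3729), (6221, 6285), (6222, 10036), (6223, 6231), (6224, 10040), (6225, 3697), (6226, 4346), (6227, 10044), (6228, 3698), (6229, 10047), (6230, 3699), (6231, 6223), (6232, 7177), (6233, 10052), (6234, 3701), (6235, 10055), (6236, 10058), (6237, 6322), (6238, 10065), (6239, 10066), (6240, 3703), (6241, 9515), (6242, 3706), (6243, 3707), (6244, 6247), (6245, 7178), (6246, 10072), (6247, 6244), (6248, 10073), (6249, 10082), (6250, 3708), (6251, 3709), (6252, 10085), (6253, 4237), (6254, 9985), (6255, 6200), (6256, 10090), (6257, 9986), (6258, 9987), (6259, 10096), (6260, 10097), (6261, 3713), (6262, 7166), (6263, 3715), (6264, 10104), (6265, 7143), (6266, 10105), (6267, 3716), (6268, 10102), (6269, 10112), (6270,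 10113), (6271, 3718)]
    ⟨e3 q6208 (flp_f L110367) q3690, e3 q6209 L110379 q3692, e3 q6210 (flp_f L159365) q10006, e3 q6211 (flp_f L159371) q10007, e3 q6212 L159413 q10014, e3 q6213 L115345 q6917, e3 q6214 L159439 q10018, e3 q6215 (flp_f L110407) q3693, e3 q6216 L159459 q10021, e3 q6217 L159479 q10024, e3 q6218 L110425 q3725, e3 q6219 L110429 q3728, e3 q6220 L110433 q3729, e3 q6221 (flp_f L110815) q6285, e3 q6222 L159549 q10036, e3 q6223 L110497 q6231, e3 q6224 L159573 q10040, e3 q6225 (flp_f L110457) q3697, e3 q6226 (flp_f L110465) q4346, e3 q6227 L159593 q10044, e3 q6228 (flp_f L110473) q3698, e3 q6229 L159609 q10047, e3 q6230 (flp_f L110485) q3699, e3 q6231 (flp_f L110497) q6223, e3 q6232 (flp_f L116961) q7177, e3 q6233 L159639 q10052, e3 q6234 (flp_f L110507) q3701, e3 q6235 L159659 q10055, e3 q6236 L159679 q10058, e3 q6237 L111037 q6322, e3 q6238 L159725 q10065, e3 q6239 L159729 q10066, e3 q6240 (flp_f L110537) q3703, e3 q6241 (flp_f L155956) q9515, e3 q6242 L110549 q3706, e3 q6243 L110555 q3707, e3 q6244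 (flp_f L110579) q6247, e3 q6245 (flp_f L116971) q7178, e3 q6246 (flp_f L159767) q10072, e3 q6247 L110579 q6244, e3 q6248 (flp_f L159771) q10073, e3 q6249 L159813 q10082, e3 q6250 (flp_f L110591) q3708, e3 q6251 (flp_f L110599) q3709, e3 q6252 L159845 q10085, e3 q6253 L115824 q4237, e3 q6254 (flp_f L159199) q9985, e3 q6255 L110627 q6200, e3 q6256 L159879 q10090, e3 q6257 (flp_f L159205) q9986, e3 q6258 (flp_f L159223) q9987, e3 q6259 L159911 q10096, e3 q6260 L159924 q10097, e3 q6261 (flp_f L110651) q3713, e3 q6262 (flp_f L116873) q7166, e3 q6263 (flp_f L110667) q3715, e3 q6264 L159972 q10104, e3 q6265 L148994 q7143, e3 q6266 L159986 q10105, e3 q6267 (flp_f L110687) q3716, e3 q6268 (flp_f L159958) q10102, e3 q6269 L160025 q10112, e3 q6270 L160029 q10113, e3 q6271 (flp_f L110710) q3718, trivial⟩ (by decide +kernel)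

theorem ce_f_98 : ∀ r, r < 64 → sm gf (Qf (6272 + r)) = Qf (tab Gen.f (6272 + r)) :=
  edges_tab (sm gf) Qf (tab Gen.f) 6272 [(6272, 6272), (6273, 6206), (6274, 10120), (6275, 3721), (6276, 6277), (6277, 6276), (6278, 5879), (6279, 3723), (6280, 10122), (6281, 3724), (6282, 7174), (6283, 10026), (6284, 10027), (6285, 6221), (6286, 10132), (6287, 9534), (6288, 9533), (6289, 3727), (6290, 10029), (6291, 10030), (6292, 10139), (6293, 10141), (6294, 10144), (6295, 3730), (6296, 6348), (6297, 3731), (6298, 10147), (6299, 7366), (6300, 7367), (6301, 10153), (6302, 3734), (6303, 6305), (6304, 3740), (6305, 6303), (6306, 3736), (6307, 10155), (6308, 3737), (6309, 7277), (6310, 10160), (6311, 10161), (6312, 3738), (6313, 10157), (6314, 7049), (6315, 5889), (6316, 4211), (6317, 10168), (6318, 10170), (6319, 3741), (6320, 3742), (6321, 3764), (6322, 6237), (6323, 3765), (6324, 6367), (6325, 10183), (6326, 7086), (6327, 10185), (6328, 3746), (6329, 9081), (6330, 10191), (6331, 3747), (6332, 6337), (6333, 10197), (6334, 10199),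 (6335, 3748)]
    ⟨e3 q6272 L110718 q6272, e3 q6273 (flp_f L110727) q6206, e3 q6274 L160074 q10120, e3 q6275 (flp_f L110735) q3721, e3 q6276 L110755 q6277, e3 q6277 (flp_f L110755) q6276, e3 q6278 (flp_f L151218) q5879, e3 q6279 (flp_f L110763) q3723, e3 q6280 L160094 q10122, e3 q6281 (flp_f L110781) q3724, e3 q6282 L116941 q7174, e3 q6283 (flp_f L159497) q10026, e3 q6284 (flp_f L159505) q10027, e3 q6285 L110815 q6221, e3 q6286 L160178 q10132, e3 q6287 L156128 q9534, e3 q6288 (flp_f L156114) q9533, e3 q6289 (flp_f L110829) q3727, e3 q6290 (flp_f L159515) q10029, e3 q6291 (flp_f L159523) q10030, e3 q6292 L160220 q10139, e3 q6293 L160236 q10141, e3 q6294 L160256 q10144, e3 q6295 (flp_f L110863) q3730, e3 q6296 L111183 q6348, e3 q6297 (flp_f L110877) q3731, e3 q6298 (flp_f L160272) q10147, e3 q6299 (flp_f L118109) q7366, e3 q6300 (flp_f L118115) q7367, e3 q6301 L160304 q10153, e3 q6302 (flp_f L110901) q3734, e3 q6303 L110927 q6305, e3 q6304 L110921 q3740, e3 q6305 (flp_f L110927) q6303, e3 q6306 (flp_f L110929) q3736,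 e3 q6307 L160324 q10155, e3 q6308 (flp_f L110949) q3737, e3 q6309 L117579 q7277, e3 q6310 L160364 q10160, e3 q6311 L160374 q10161, e3 q6312 (flp_f L110977) q3738, e3 q6313 (flp_f L160348) q10157, e3 q6314 L116157 q7049, e3 q6315 (flp_f L151323) q5889, e3 q6316 (flp_f L111003) q4211, e3 q6317 L160432 q10168, e3 q6318 L160442 q10170, e3 q6319 (flp_f L111015) q3741, e3 q6320 (flp_f L111019) q3742, e3 q6321 L111029 q3764, e3 q6322 (flp_f L111037) q6237, e3 q6323 L111043 q3765, e3 q6324 (flp_f L111289) q6367, e3 q6325 L160514 q10183, e3 q6326 (flp_f L116443) q7086, e3 q6327 L160528 q10185, e3 q6328 (flp_f L111063) q3746, e3 q6329 (flp_f L152706) q9081, e3 q6330 L160572 q10191, e3 q6331 (flp_f L111081) q3747, e3 q6332 L111116 q6337, e3 q6333 L160600 q10197, e3 q6334 L160608 q10199, e3 q6335 (flp_f L111103) q3748, trivial⟩ (by decide +kernel)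

theorem ce_f_99 : ∀ r, r < 64 → sm gf (Qf (6336 + r)) = Qf (tab Gen.f (6336 + r)) :=
  edges_tab (sm gf) Qf (tab Gen.f) 6336 [(6336, 10202), (6337, 6332), (6338, 10205), (6339, 3750), (6340, 10208), (6341, 3752), (6342, 10212), (6343, 10215), (6344, 10217), (6345, 3754), (6346, 10219), (6347, 3755), (6348, 6296), (6349, 10223), (6350, 10226), (6351, 3757), (6352, 6358), (6353, 10232), (6354, 10234), (6355, 3758), (6356, 10237), (6357, 3762), (6358, 6352), (6359, 3760), (6360, 10238), (6361, 10244), (6362, 10173), (6363, 10175), (6364, 10176), (6365, 10253), (6366, 10254), (6367, 6324), (6368, 3766), (6369, 8497), (6370, 10261), (6371, 3767), (6372, 6377), (6373, 10267), (6374, 10269), (6375, 3768), (6376, 10272), (6377, 6372), (6378, 3770), (6379, 10276), (6380, 10279), (6381, 3772), (6382, 6387), (6383, 10285), (6384, 10287), (6385, 3773), (6386, 10290), (6387, 6382), (6388, 3775), (6389, 4423), (6390, 6512), (6391, 10296), (6392, 3778), (6393, 4462), (6394, 7498), (6395, 10298), (6396, 7616), (6397, 3781), (6398,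 9789), (6399, 4614)]
    ⟨e3 q6336 L160626 q10202, e3 q6337 (flp_f L111116) q6332, e3 q6338 L160644 q10205, e3 q6339 (flp_f L111124) q3750, e3 q6340 L160658 q10208, e3 q6341 (flp_f L111137) q3752, e3 q6342 L160684 q10212, e3 q6343 L160700 q10215, e3 q6344 L160710 q10217, e3 q6345 (flp_f L111155) q3754, e3 q6346 L160722 q10219, e3 q6347 (flp_f L111165) q3755, e3 q6348 (flp_f L111183) q6296, e3 q6349 L160748 q10223, e3 q6350 L160768 q10226, e3 q6351 (flp_f L111197) q3757, e3 q6352 L111238 q6358, e3 q6353 L160796 q10232, e3 q6354 L160804 q10234, e3 q6355 (flp_f L111219) q3758, e3 q6356 L160822 q10237, e3 q6357 L111231 q3762, e3 q6358 (flp_f L111238) q6352, e3 q6359 (flp_f L111240) q3760, e3 q6360 (flp_f L160834) q10238, e3 q6361 L160862 q10244, e3 q6362 (flp_f L160464) q10173, e3 q6363 (flp_f L160480) q10175, e3 q6364 (flp_f L160484) q10176, e3 q6365 L160910 q10253, e3 q6366 L160918 q10254, e3 q6367 L111289 q6324, e3 q6368 (flp_f L111291) q3766, e3 q6369 (flp_f L143309) q8497, e3 q6370 L160964 q10261, e3 q6371 (flp_f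 L111309) q3767, e3 q6372 L111353 q6377, e3 q6373 L161000 q10267, e3 q6374 L161008 q10269, e3 q6375 (flp_f L111335) q3768, e3 q6376 L161030 q10272, e3 q6377 (flp_f L111353) q6372, e3 q6378 (flp_f L111355) q3770, e3 q6379 L161058 q10276, e3 q6380 L161078 q10279, e3 q6381 (flp_f L111373) q3772, e3 q6382 L111417 q6387, e3 q6383 L161114 q10285, e3 q6384 L161122 q10287, e3 q6385 (flp_f L111399) q3773, e3 q6386 L161144 q10290, e3 q6387 (flp_f L111417) q6382, e3 q6388 (flp_f L111419) q3775, e3 q6389 L111431 q4423, e3 q6390 L112178 q6512, e3 q6391 L161186 q10296, e3 q6392 (flp_f L111445) q3778, e3 q6393 L111457 q4462, e3 q6394 (flp_f L120844) q7498, e3 q6395 L161196 q10298, e3 q6396 L150269 q7616, e3 q6397 (flp_f L111469) q3781, e3 q6398 L157919 q9789, e3 q6399 L111477 q4614, trivial⟩ (by decide +kernel)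

theorem ce_f_100 : ∀ r, r < 64 → sm gf (Qf (6400 + r)) = Qf (tab Gen.f (6400 + r)) :=
  edges_tab (sm gf) Qf (tab Gen.f) 6400 [(6400, 7703), (6401, 3786), (6402, 7737), (6403, 4464), (6404, 3790), (6405, 7479), (6406, 6412), (6407, 9896), (6408, 3794), (6409, 10307), (6410, 4668), (6411, 3796), (6412, 6406), (6413, 8553), (6414, 3797), (6415, 10302), (6416, 3839), (6417, 3846), (6418, 4592), (6419, 6473), (6420, 8190), (6421, 10319), (6422, 10320), (6423, 3802), (6424, 4458), (6425, 6435), (6426, 10325), (6427, 3804), (6428, 4690), (6429, 10330), (6430, 10332), (6431, 3807), (6432, 10334), (6433, 10335), (6434, 3809), (6435, 6425), (6436, 7627), (6437, 10339), (6438, 10341), (6439, 3813), (6440, 10344), (6441, 4453), (6442, 3815), (6443, 10346), (6444, 10349), (6445, 3816), (6446, 10350), (6447, 6523), (6448, 10351), (6449, 3818), (6450, 3819), (6451, 9695), (6452, 9696), (6453, 9697), (6454, 10358), (6455, 7487), (6456, 3826), (6457, 3828), (6458, 6462), (6459, 7628), (6460, 10365), (6461, 10361), (6462, 6458),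 (6463, 8076)]
    ⟨e3 q6400 (flp_f L122144) q7703, e3 q6401 L111503 q3786, e3 q6402 (flp_f L163937) q7737, e3 q6403 L111519 q4464, e3 q6404 (flp_f L111525) q3790, e3 q6405 (flp_f L120722) q7479, e3 q6406 (flp_f L111607) q6412, e3 q6407 (flp_f L158527) q9896, e3 q6408 (flp_f L111579) q3794, e3 q6409 L161286 q10307, e3 q6410 (flp_f L111591) q4668, e3 q6411 (flp_f L111595) q3796, e3 q6412 L111607 q6406, e3 q6413 (flp_f L143705) q8553, e3 q6414 (flp_f L111613) q3797, e3 q6415 (flp_f L161260) q10302, e3 q6416 L111627 q3839, e3 q6417 L111635 q3846, e3 q6418 (flp_f L111643) q4592, e3 q6419 (flp_f L111918) q6473, e3 q6420 (flp_f L163513) q8190, e3 q6421 L161364 q10319, e3 q6422 L161382 q10320, e3 q6423 (flp_f L111659) q3802, e3 q6424 L111665 q4458, e3 q6425 L111719 q6435, e3 q6426 L161418 q10325, e3 q6427 (flp_f L111679) q3804, e3 q6428 L111685 q4690, e3 q6429 L161446 q10330, e3 q6430 L161454 q10332, e3 q6431 (flp_f L111693) q3807, e3 q6432 L161472 q10334, e3 q6433 L161476 q10335, e3 q6434 (flp_f L111705) q3809, e3 q6435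 (flp_f L111719) q6425, e3 q6436 (flp_f L121713) q7627, e3 q6437 L161507 q10339, e3 q6438 L161519 q10341, e3 q6439 (flp_f L111731) q3813, e3 q6440 L161539 q10344, e3 q6441 (flp_f L111743) q4453, e3 q6442 (flp_f L111747) q3815, e3 q6443 L161553 q10346, e3 q6444 L161575 q10349, e3 q6445 (flp_f L111763) q3816, e3 q6446 L161579 q10350, e3 q6447 L112246 q6523, e3 q6448 L161587 q10351, e3 q6449 (flp_f L111783) q3818, e3 q6450 (flp_f L111791) q3819, e3 q6451 (flp_f L157293) q9695, e3 q6452 (flp_f L157297) q9696, e3 q6453 (flp_f L157301) q9697, e3 q6454 L161639 q10358, e3 q6455 L120774 q7487, e3 q6456 L111819 q3826, e3 q6457 L111823 q3828, e3 q6458 (flp_f L111845) q6462, e3 q6459 (flp_f L121719) q7628, e3 q6460 L161697 q10365, e3 q6461 (flp_f L161659) q10361, e3 q6462 L111845 q6458, e3 q6463 (flp_f L163346) q8076, trivial⟩ (by decide +kernel)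

theorem ce_f_101 : ∀ r, r < 64 → sm gf (Qf (6464 + r)) = Qf (tab Gen.f (6464 + r)) :=
  edges_tab (sm gf) Qf (tab Gen.f) 6464 [(6464, 8075), (6465, 10371), (6466, 3829), (6467, 4473), (6468, 5869), (6469, 4508), (6470, 5357), (6471, 5177), (6472, 10374), (6473, 6419), (6474, 10378), (6475, 10380), (6476, 9449), (6477, 3841), (6478, 4425), (6479, 9525), (6480, 3842), (6481, 9715), (6482, 3843), (6483, 4129), (6484, 4124), (6485, 6516), (6486, 9352), (6487, 10387), (6488, 3847), (6489, 6605), (6490, 3848), (6491, 6570), (6492, 6602), (6493, 10394), (6494, 3853), (6495, 10395), (6496, 10396), (6497, 10403), (6498, 7932), (6499, 7933), (6500, 6739), (6501, 3856), (6502, 4657), (6503, 3869), (6504, 8874), (6505, 3862), (6506, 3867), (6507, 3865), (6508, 10407), (6509, 6090), (6510, 6089), (6511, 9833), (6512, 6390), (6513, 6074), (6514, 6009), (6515, 4509), (6516, 6485), (6517, 6900), (6518, 3871), (6519, 10420), (6520, 3872), (6521, 4532), (6522, 3933), (6523, 6447), (6524, 3934), (6525, 10426), (6526, 9099), (6527,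 10431)]
    ⟨e3 q6464 (flp_f L163324) q8075, e3 q6465 L161731 q10371, e3 q6466 (flp_f L111855) q3829, e3 q6467 L111867 q4473, e3 q6468 (flp_f L151226) q5869, e3 q6469 L111881 q4508, e3 q6470 (flp_f L120289) q5357, e3 q6471 L120287 q5177, e3 q6472 L161750 q10374, e3 q6473 L111918 q6419, e3 q6474 L161768 q10378, e3 q6475 L161778 q10380, e3 q6476 (flp_f L155486) q9449, e3 q6477 (flp_f L111930) q3841, e3 q6478 (flp_f L111940) q4425, e3 q6479 L156030 q9525, e3 q6480 (flp_f L111948) q3842, e3 q6481 (flp_f L157409) q9715, e3 q6482 (flp_f L111960) q3843, e3 q6483 L119218 q4129, e3 q6484 L119188 q4124, e3 q6485 (flp_f L148329) q6516, e3 q6486 (flp_f L154782) q9352, e3 q6487 L161844 q10387, e3 q6488 (flp_f L111994) q3847, e3 q6489 L149778 q6605, e3 q6490 (flp_f L112010) q3848, e3 q6491 L112530 q6570, e3 q6492 L149780 q6602, e3 q6493 L161890 q10394, e3 q6494 L112040 q3853, e3 q6495 (flp_f L161898) q10395, e3 q6496 (flp_f L161904) q10396, e3 q6497 L161936 q10403, e3 q6498 (flp_f L123367) q7932, e3 q6499 (flp_f L123371) q7933,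 e3 q6500 (flp_f L163596) q6739, e3 q6501 (flp_f L112062) q3856, e3 q6502 L112074 q4657, e3 q6503 L112084 q3869, e3 q6504 L150411 q8874, e3 q6505 (flp_f L112093) q3862, e3 q6506 L112109 q3867, e3 q6507 (flp_f L112111) q3865, e3 q6508 (flp_f L161976) q10407, e3 q6509 L112125 q6090, e3 q6510 L112162 q6089, e3 q6511 (flp_f L158163) q9833, e3 q6512 (flp_f L112178) q6390, e3 q6513 L112184 q6074, e3 q6514 (flp_f L151321) q6009, e3 q6515 L112194 q4509, e3 q6516 L148329 q6485, e3 q6517 L148289 q6900, e3 q6518 (flp_f L112206) q3871, e3 q6519 L162066 q10420, e3 q6520 (flp_f L112216) q3872, e3 q6521 (flp_f L112232) q4532, e3 q6522 L112238 q3933, e3 q6523 (flp_f L112246) q6447, e3 q6524 L112252 q3934, e3 q6525 L162116 q10426, e3 q6526 (flp_f L152812) q9099, e3 q6527 L162138 q10431, trivial⟩ (by decide +kernel)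

theorem ce_f_102 : ∀ r, r < 64 → sm gf (Qf (6528 + r)) = Qf (tab Gen.f (6528 + r)) :=
  edges_tab (sm gf) Qf (tab Gen.f) 6528 [(6528, 10434), (6529, 10436), (6530, 3879), (6531, 7614), (6532, 6814), (6533, 3881), (6534, 4654), (6535, 5522), (6536, 8451), (6537, 10444), (6538, 3884), (6539, 6546), (6540, 8946), (6541, 6075), (6542, 8358), (6543, 10451), (6544, 3888), (6545, 10454), (6546, 6539), (6547, 10457), (6548, 3890), (6549, 9816), (6550, 6557), (6551, 3892), (6552, 9908), (6553, 8728), (6554, 8559), (6555, 10465), (6556, 3896), (6557, 6550), (6558, 5007), (6559, 10471), (6560, 4792), (6561, 10474), (6562, 10476), (6563, 9048), (6564, 3904), (6565, 8800), (6566, 8837), (6567, 3905), (6568, 9102), (6569, 3936), (6570, 6491), (6571, 3909), (6572, 10487), (6573, 10490), (6574, 3912), (6575, 10493), (6576, 10494), (6577, 3913), (6578, 6586), (6579, 10491), (6580, 10498), (6581, 10500), (6582, 3916), (6583, 3917), (6584, 10504), (6585, 3924), (6586, 6578), (6587, 3919), (6588, 3925), (6589, 6595), (6590, 10511),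 (6591, 8006)]
    ⟨e3 q6528 L162150 q10434, e3 q6529 L162160 q10436, e3 q6530 (flp_f L112278) q3879, e3 q6531 (flp_f L121645) q7614, e3 q6532 (flp_f L163712) q6814, e3 q6533 (flp_f L112288) q3881, e3 q6534 (flp_f L112298) q4654, e3 q6535 (flp_f L120295) q5522, e3 q6536 (flp_f L142915) q8451, e3 q6537 L162224 q10444, e3 q6538 (flp_f L112328) q3884, e3 q6539 L112368 q6546, e3 q6540 L151812 q8946, e3 q6541 (flp_f L175474) q6075, e3 q6542 (flp_f L129948) q8358, e3 q6543 L162273 q10451, e3 q6544 (flp_f L112356) q3888, e3 q6545 L162297 q10454, e3 q6546 (flp_f L112368) q6539, e3 q6547 L162319 q10457, e3 q6548 (flp_f L112376) q3890, e3 q6549 (flp_f L175476) q9816, e3 q6550 L112422 q6557, e3 q6551 (flp_f L112390) q3892, e3 q6552 L158621 q9908, e3 q6553 L144933 q8728, e3 q6554 L146082 q8559, e3 q6555 L162358 q10465, e3 q6556 (flp_f L112412) q3896, e3 q6557 (flp_f L112422) q6550, e3 q6558 L119773 q5007, e3 q6559 L162384 q10471, e3 q6560 (flp_f L112472) q4792, e3 q6561 L162402 q10474, e3 q6562 L162416 q10476, e3 q6563 (flp_f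 L152494) q9048, e3 q6564 (flp_f L112484) q3904, e3 q6565 L145378 q8800, e3 q6566 L151453 q8837, e3 q6567 (flp_f L112496) q3905, e3 q6568 (flp_f L152834) q9102, e3 q6569 L149132 q3936, e3 q6570 (flp_f L112530) q6491, e3 q6571 (flp_f L112536) q3909, e3 q6572 L162486 q10487, e3 q6573 L162514 q10490, e3 q6574 (flp_f L112552) q3912, e3 q6575 L162534 q10493, e3 q6576 L162542 q10494, e3 q6577 (flp_f L112572) q3913, e3 q6578 L112618 q6586, e3 q6579 (flp_f L162522) q10491, e3 q6580 L162567 q10498, e3 q6581 L162585 q10500, e3 q6582 (flp_f L112592) q3916, e3 q6583 (flp_f L112600) q3917, e3 q6584 L162615 q10504, e3 q6585 L112612 q3924, e3 q6586 (flp_f L112618) q6578, e3 q6587 (flp_f L112620) q3919, e3 q6588 L112630 q3925, e3 q6589 (flp_f L112660) q6595, e3 q6590 L162655 q10511, e3 q6591 (flp_f L123904) q8006, trivial⟩ (by decide +kernel)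

theorem ce_f_103 : ∀ r, r < 64 → sm gf (Qf (6592 + r)) = Qf (tab Gen.f (6592 + r)) :=
  edges_tab (sm gf) Qf (tab Gen.f) 6592 [(6592, 10502), (6593, 10505), (6594, 10515), (6595, 6589), (6596, 3926), (6597, 10519), (6598, 3932), (6599, 3930), (6600, 8353), (6601, 10520), (6602, 6492), (6603, 10527), (6604, 10422), (6605, 6489), (6606, 10479), (6607, 10531), (6608, 3937), (6609, 10533), (6610, 4751), (6611, 8436), (6612, 5087), (6613, 6613), (6614, 10540), (6615, 10541), (6616, 3943), (6617, 6618), (6618, 6617), (6619, 3944), (6620, 9916), (6621, 5051), (6622, 6628), (6623, 6716), (6624, 6633), (6625, 10549), (6626, 3949), (6627, 8388), (6628, 6622), (6629, 8898), (6630, 5377), (6631, 3952), (6632, 10557), (6633, 6624), (6634, 10560), (6635, 3954), (6636, 3984), (6637, 6653), (6638, 10565), (6639, 3956), (6640, 6685), (6641, 4860), (6642, 10569), (6643, 5470), (6644, 3960), (6645, 8546), (6646, 10574), (6647, 10576), (6648, 3963), (6649, 10579), (6650, 3964), (6651, 10582), (6652, 3965), (6653, 6637), (6654, 4891),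 (6655, 10587)]
    ⟨e3 q6592 (flp_f L162607) q10502, e3 q6593 (flp_f L162629) q10505, e3 q6594 L162676 q10515, e3 q6595 L112660 q6589, e3 q6596 (flp_f L112662) q3926, e3 q6597 L162690 q10519, e3 q6598 L112696 q3932, e3 q6599 (flp_f L112708) q3930, e3 q6600 (flp_f L148570) q8353, e3 q6601 (flp_f L162702) q10520, e3 q6602 (flp_f L149780) q6492, e3 q6603 L162746 q10527, e3 q6604 (flp_f L162096) q10422, e3 q6605 (flp_f L149778) q6489, e3 q6606 (flp_f L162442) q10479, e3 q6607 L162766 q10531, e3 q6608 (flp_f L112782) q3937, e3 q6609 L162778 q10533, e3 q6610 L112790 q4751, e3 q6611 (flp_f L130539) q8436, e3 q6612 (flp_f L119777) q5087, e3 q6613 L112819 q6613, e3 q6614 L162839 q10540, e3 q6615 L162847 q10541, e3 q6616 (flp_f L112916) q3943, e3 q6617 L120367 q6618, e3 q6618 (flp_f L120367) q6617, e3 q6619 (flp_f L112952) q3944, e3 q6620 (flp_f L158680) q9916, e3 q6621 (flp_f L120449) q5051, e3 q6622 L113026 q6628, e3 q6623 (flp_f L120457) q6716, e3 q6624 L113060 q6633, e3 q6625 L162941 q10549, e3 q6626 (flp_f L113014) q3949,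 e3 q6627 (flp_f L130170) q8388, e3 q6628 (flp_f L113026) q6622, e3 q6629 (flp_f L146052) q8898, e3 q6630 (flp_f L120357) q5377, e3 q6631 (flp_f L113046) q3952, e3 q6632 L163013 q10557, e3 q6633 (flp_f L113060) q6624, e3 q6634 L163041 q10560, e3 q6635 (flp_f L113068) q3954, e3 q6636 L149035 q3984, e3 q6637 L113174 q6653, e3 q6638 L163083 q10565, e3 q6639 (flp_f L113090) q3956, e3 q6640 L149622 q6685, e3 q6641 (flp_f L113104) q4860, e3 q6642 L163109 q10569, e3 q6643 L143419 q5470, e3 q6644 (flp_f L113118) q3960, e3 q6645 L143649 q8546, e3 q6646 L164025 q10574, e3 q6647 L164039 q10576, e3 q6648 (flp_f L113142) q3963, e3 q6649 L164069 q10579, e3 q6650 (flp_f L113154) q3964, e3 q6651 L164085 q10582, e3 q6652 (flp_f L113164) q3965, e3 q6653 (flp_f L113174) q6637, e3 q6654 (flp_f L141044) q4891, e3 q6655 L164123 q10587, trivial⟩ (by decide +kernel)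

theorem ce_f_104 : ∀ r, r < 64 → sm gf (Qf (6656 + r)) = Qf (tab Gen.f (6656 + r)) :=
  edges_tab (sm gf) Qf (tab Gen.f) 6656 [(6656, 4087), (6657, 4086), (6658, 4906), (6659, 10593), (6660, 3970), (6661, 6875), (6662, 3973), (6663, 10594), (6664, 10597), (6665, 10598), (6666, 9899), (6667, 3974), (6668, 10599), (6669, 10601), (6670, 3975), (6671, 10602), (6672, 3976), (6673, 10604), (6674, 3979), (6675, 10607), (6676, 3990), (6677, 3981), (6678, 10608), (6679, 3982), (6680, 10553), (6681, 3993), (6682, 4057), (6683, 3994), (6684, 3995), (6685, 6640), (6686, 3988), (6687, 10606), (6688, 8890), (6689, 10621), (6690, 10609), (6691, 10611), (6692, 10612), (6693, 8483), (6694, 10615), (6695, 10616), (6696, 10632), (6697, 3996), (6698, 4083), (6699, 10635), (6700, 4088), (6701, 4101), (6702, 4092), (6703, 6865), (6704, 10642), (6705, 10645), (6706, 6710), (6707, 8320), (6708, 5118), (6709, 5125), (6710, 6706), (6711, 10652), (6712, 4008), (6713, 6744), (6714, 6736), (6715, 4010), (6716, 6623), (6717, 7728), (6718, 9323),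 (6719, 5688)]
    ⟨e3 q6656 L113198 q4087, e3 q6657 L113208 q4086, e3 q6658 L113216 q4906, e3 q6659 L164170 q10593, e3 q6660 (flp_f L113234) q3970, e3 q6661 (flp_f L142726) q6875, e3 q6662 L113320 q3973, e3 q6663 (flp_f L164184) q10594, e3 q6664 L164202 q10597, e3 q6665 L164212 q10598, e3 q6666 (flp_f L158553) q9899, e3 q6667 (flp_f L113380) q3974, e3 q6668 L164222 q10599, e3 q6669 L164246 q10601, e3 q6670 (flp_f L113396) q3975, e3 q6671 L164254 q10602, e3 q6672 (flp_f L113416) q3976, e3 q6673 L164274 q10604, e3 q6674 (flp_f L113442) q3979, e3 q6675 L164298 q10607, e3 q6676 L113454 q3990, e3 q6677 (flp_f L113462) q3981, e3 q6678 L164308 q10608, e3 q6679 (flp_f L113474) q3982, e3 q6680 (flp_f L162981) q10553, e3 q6681 L113486 q3993, e3 q6682 (flp_f L148534) q4057, e3 q6683 L113508 q3994, e3 q6684 L113512 q3995, e3 q6685 (flp_f L149622) q6640, e3 q6686 (flp_f L113522) q3988, e3 q6687 (flp_f L164296) q10606, e3 q6688 L150764 q8890, e3 q6689 L164422 q10621, e3 q6690 (flp_f L164322) q10609, e3 q6691 (flp_f L164342) q10611,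 e3 q6692 (flp_f L164352) q10612, e3 q6693 L147441 q8483, e3 q6694 (flp_f L164386) q10615, e3 q6695 (flp_f L164392) q10616, e3 q6696 L164494 q10632, e3 q6697 (flp_f L113598) q3996, e3 q6698 L113616 q4083, e3 q6699 L164520 q10635, e3 q6700 L113624 q4088, e3 q6701 L120204 q4101, e3 q6702 L120200 q4092, e3 q6703 L120195 q6865, e3 q6704 L164560 q10642, e3 q6705 L164583 q10645, e3 q6706 L113767 q6710, e3 q6707 (flp_f L129508) q8320, e3 q6708 (flp_f L119791) q5118, e3 q6709 (flp_f L120371) q5125, e3 q6710 (flp_f L113767) q6706, e3 q6711 L164655 q10652, e3 q6712 (flp_f L113773) q4008, e3 q6713 (flp_f L154554) q6744, e3 q6714 (flp_f L154568) q6736, e3 q6715 (flp_f L113819) q4010, e3 q6716 L120457 q6623, e3 q6717 L163491 q7728, e3 q6718 (flp_f L154544) q9323, e3 q6719 (flp_f L151038) q5688, trivial⟩ (by decide +kernel)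

theorem ce_f_105 : ∀ r, r < 64 → sm gf (Qf (6720 + r)) = Qf (tab Gen.f (6720 + r)) :=
  edges_tab (sm gf) Qf (tab Gen.f) 6720 [(6720, 10405), (6721, 4014), (6722, 9340), (6723, 9320), (6724, 4015), (6725, 9332), (6726, 5426), (6727, 5424), (6728, 4017), (6729, 4019), (6730, 10664), (6731, 7729), (6732, 10671), (6733, 10674), (6734, 10675), (6735, 4021), (6736, 6714), (6737, 10676), (6738, 4022), (6739, 6500), (6740, 4023), (6741, 4025), (6742, 10679), (6743, 10681), (6744, 6713), (6745, 9469), (6746, 4026), (6747, 10649), (6748, 6040), (6749, 8943), (6750, 4027), (6751, 10684), (6752, 8667), (6753, 4044), (6754, 4033), (6755, 4034), (6756, 6759), (6757, 10655), (6758, 10562), (6759, 6756), (6760, 4035), (6761, 10698), (6762, 8059), (6763, 8064), (6764, 10703), (6765, 9203), (6766, 10708), (6767, 10377), (6768, 4039), (6769, 10713), (6770, 8170), (6771, 10716), (6772, 6847), (6773, 4042), (6774, 8944), (6775, 9754), (6776, 10723), (6777, 6887), (6778, 10725), (6779, 4046), (6780, 10726), (6781, 6892), (6782, 4050),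 (6783, 10732)]
    ⟨e3 q6720 L163588 q10405, e3 q6721 (flp_f L113873) q4014, e3 q6722 L154688 q9340, e3 q6723 (flp_f L154488) q9320, e3 q6724 (flp_f L113885) q4015, e3 q6725 (flp_f L154624) q9332, e3 q6726 L153449 q5426, e3 q6727 L153424 q5424, e3 q6728 (flp_f L113901) q4017, e3 q6729 L113907 q4019, e3 q6730 (flp_f L164741) q10664, e3 q6731 (flp_f L163576) q7729, e3 q6732 L164779 q10671, e3 q6733 L164803 q10674, e3 q6734 L164815 q10675, e3 q6735 (flp_f L113949) q4021, e3 q6736 L154568 q6714, e3 q6737 L164825 q10676, e3 q6738 (flp_f L113963) q4022, e3 q6739 L163596 q6500, e3 q6740 (flp_f L113975) q4023, e3 q6741 L113985 q4025, e3 q6742 (flp_f L164859) q10679, e3 q6743 L164875 q10681, e3 q6744 L154554 q6713, e3 q6745 L157473 q9469, e3 q6746 (flp_f L114015) q4026, e3 q6747 L164637 q10649, e3 q6748 (flp_f L157481) q6040, e3 q6749 L153459 q8943, e3 q6750 (flp_f L114025) q4027, e3 q6751 (flp_f L164905) q10684, e3 q6752 L153469 q8667, e3 q6753 L114047 q4044, e3 q6754 L114061 q4033, e3 q6755 L114065 q4034, e3 q6756 (flp_f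 L114087) q6759, e3 q6757 (flp_f L164679) q10655, e3 q6758 L163067 q10562, e3 q6759 L114087 q6756, e3 q6760 (flp_f L114097) q4035, e3 q6761 L164999 q10698, e3 q6762 (flp_f L141030) q8059, e3 q6763 (flp_f L142702) q8064, e3 q6764 L165023 q10703, e3 q6765 (flp_f L153682) q9203, e3 q6766 L165047 q10708, e3 q6767 L163675 q10377, e3 q6768 (flp_f L114151) q4039, e3 q6769 L165070 q10713, e3 q6770 L125926 q8170, e3 q6771 L165088 q10716, e3 q6772 L114746 q6847, e3 q6773 (flp_f L114171) q4042, e3 q6774 L153471 q8944, e3 q6775 (flp_f L157709) q9754, e3 q6776 L165136 q10723, e3 q6777 L148353 q6887, e3 q6778 L165149 q10725, e3 q6779 (flp_f L114208) q4046, e3 q6780 (flp_f L165161) q10726, e3 q6781 (flp_f L115156) q6892, e3 q6782 (flp_f L114290) q4050, e3 q6783 L165216 q10732, trivial⟩ (by decide +kernel)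

theorem ce_f_106 : ∀ r, r < 64 → sm gf (Qf (6784 + r)) = Qf (tab Gen.f (6784 + r)) :=
  edges_tab (sm gf) Qf (tab Gen.f) 6784 [(6784, 4051), (6785, 4052), (6786, 4056), (6787, 5121), (6788, 4054), (6789, 10734), (6790, 10735), (6791, 10702), (6792, 10610), (6793, 4067), (6794, 4068), (6795, 4069), (6796, 6812), (6797, 10743), (6798, 4073), (6799, 4075), (6800, 6824), (6801, 10747), (6802, 9301), (6803, 9306), (6804, 9322), (6805, 10752), (6806, 10737), (6807, 10739), (6808, 7886), (6809, 6831), (6810, 10736), (6811, 7779), (6812, 6796), (6813, 7778), (6814, 6532), (6815, 9321), (6816, 10764), (6817, 4071), (6818, 10766), (6819, 10767), (6820, 4072), (6821, 10769), (6822, 9737), (6823, 5405), (6824, 6800), (6825, 10775), (6826, 10745), (6827, 10776), (6828, 6834), (6829, 10778), (6830, 4077), (6831, 6809), (6832, 8447), (6833, 4079), (6834, 6828), (6835, 10782), (6836, 8053), (6837, 10633), (6838, 10786), (6839, 5732), (6840, 10790), (6841, 10793), (6842, 4085), (6843, 10641), (6844, 10591), (6845, 9127), (6846,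 10589), (6847, 6772)]
    ⟨e3 q6784 (flp_f L114308) q4051, e3 q6785 (flp_f L114320) q4052, e3 q6786 L114330 q4056, e3 q6787 (flp_f L148363) q5121, e3 q6788 (flp_f L114340) q4054, e3 q6789 (flp_f L165246) q10734, e3 q6790 (flp_f L165254) q10735, e3 q6791 L165021 q10702, e3 q6792 L164334 q10610, e3 q6793 L114402 q4067, e3 q6794 L114422 q4068, e3 q6795 L114428 q4069, e3 q6796 (flp_f L114530) q6812, e3 q6797 L165308 q10743, e3 q6798 L114448 q4073, e3 q6799 L114452 q4075, e3 q6800 (flp_f L114592) q6824, e3 q6801 L165342 q10747, e3 q6802 L154352 q9301, e3 q6803 (flp_f L154380) q9306, e3 q6804 (flp_f L154538) q9322, e3 q6805 L165360 q10752, e3 q6806 (flp_f L165274) q10737, e3 q6807 (flp_f L165288) q10739, e3 q6808 L163818 q7886, e3 q6809 L151054 q6831, e3 q6810 L165266 q10736, e3 q6811 L163774 q7779, e3 q6812 L114530 q6796, e3 q6813 L163669 q7778, e3 q6814 L163712 q6532, e3 q6815 (flp_f L154534) q9321, e3 q6816 L165474 q10764, e3 q6817 (flp_f L114566) q4071, e3 q6818 L165502 q10766, e3 q6819 L165510 q10767, e3 q6820 (flp_f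 L114576) q4072, e3 q6821 L165522 q10769, e3 q6822 (flp_f L157595) q9737, e3 q6823 L153022 q5405, e3 q6824 L114592 q6800, e3 q6825 L165574 q10775, e3 q6826 (flp_f L165326) q10745, e3 q6827 L165578 q10776, e3 q6828 L114664 q6834, e3 q6829 L165586 q10778, e3 q6830 (flp_f L114628) q4077, e3 q6831 (flp_f L151054) q6809, e3 q6832 L149013 q8447, e3 q6833 (flp_f L114642) q4079, e3 q6834 (flp_f L114664) q6828, e3 q6835 L165620 q10782, e3 q6836 (flp_f L142774) q8053, e3 q6837 (flp_f L164508) q10633, e3 q6838 L165650 q10786, e3 q6839 L114708 q5732, e3 q6840 L165676 q10790, e3 q6841 L165694 q10793, e3 q6842 (flp_f L114718) q4085, e3 q6843 (flp_f L164568) q10641, e3 q6844 (flp_f L164155) q10591, e3 q6845 L152963 q9127, e3 q6846 (flp_f L164141) q10589, e3 q6847 (flp_f L114746) q6772, trivial⟩ (by decide +kernel)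

theorem ce_f_107 : ∀ r, r < 64 → sm gf (Qf (6848 + r)) = Qf (tab Gen.f (6848 + r)) :=
  edges_tab (sm gf) Qf (tab Gen.f) 6848 [(6848, 10802), (6849, 10803), (6850, 4090), (6851, 8441), (6852, 10637), (6853, 10807), (6854, 6854), (6855, 7532), (6856, 6861), (6857, 7529), (6858, 9076), (6859, 4095), (6860, 10813), (6861, 6856), (6862, 4097), (6863, 6863), (6864, 5823), (6865, 6703), (6866, 4102), (6867, 5829), (6868, 9465), (6869, 10822), (6870, 10825), (6871, 5729), (6872, 10826), (6873, 10827), (6874, 4108), (6875, 6661), (6876, 10829), (6877, 4110), (6878, 10831), (6879, 10832), (6880, 4111), (6881, 10834), (6882, 5090), (6883, 4113), (6884, 4114), (6885, 10837), (6886, 4117), (6887, 6777), (6888, 9473), (6889, 4119), (6890, 10840), (6891, 5628), (6892, 6781), (6893, 7167), (6894, 9930), (6895, 7299), (6896, 10133), (6897, 10852), (6898, 4128), (6899, 6899), (6900, 6517), (6901, 10856), (6902, 4131), (6903, 6903), (6904, 6904), (6905, 10386), (6906, 10863), (6907, 4134), (6908, 10864), (6909, 4156), (6910, 4157),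 (6911, 6953)]
    ⟨e3 q6848 L165758 q10802, e3 q6849 L165766 q10803, e3 q6850 (flp_f L114754) q4090, e3 q6851 (flp_f L130634) q8441, e3 q6852 (flp_f L164537) q10637, e3 q6853 L165796 q10807, e3 q6854 L114839 q6854, e3 q6855 L121099 q7532, e3 q6856 L114891 q6861, e3 q6857 L121076 q7529, e3 q6858 L152669 q9076, e3 q6859 (flp_f L114878) q4095, e3 q6860 L165836 q10813, e3 q6861 (flp_f L114891) q6856, e3 q6862 (flp_f L114897) q4097, e3 q6863 L114911 q6863, e3 q6864 L120373 q5823, e3 q6865 (flp_f L120195) q6703, e3 q6866 (flp_f L114943) q4102, e3 q6867 L120507 q5829, e3 q6868 (flp_f L155642) q9465, e3 q6869 L165905 q10822, e3 q6870 L165937 q10825, e3 q6871 L150788 q5729, e3 q6872 L165949 q10826, e3 q6873 L165959 q10827, e3 q6874 (flp_f L114995) q4108, e3 q6875 L142726 q6661, e3 q6876 L165977 q10829, e3 q6877 (flp_f L115032) q4110, e3 q6878 L165987 q10831, e3 q6879 L165995 q10832, e3 q6880 (flp_f L115051) q4111, e3 q6881 L166021 q10834, e3 q6882 (flp_f L146707) q5090, e3 q6883 (flp_f L115070) q4113, e3 q6884 (flp_f L115078)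 q4114, e3 q6885 L166044 q10837, e3 q6886 (flp_f L115098) q4117, e3 q6887 (flp_f L148353) q6777, e3 q6888 L155698 q9473, e3 q6889 (flp_f L115132) q4119, e3 q6890 (flp_f L166078) q10840, e3 q6891 L150564 q5628, e3 q6892 L115156 q6781, e3 q6893 (flp_f L116879) q7167, e3 q6894 (flp_f L158781) q9930, e3 q6895 L117729 q7299, e3 q6896 (flp_f L160188) q10133, e3 q6897 L166160 q10852, e3 q6898 (flp_f L115210) q4128, e3 q6899 L115238 q6899, e3 q6900 (flp_f L148289) q6517, e3 q6901 L166188 q10856, e3 q6902 (flp_f L115253) q4131, e3 q6903 L115268 q6903, e3 q6904 L115276 q6904, e3 q6905 L161842 q10386, e3 q6906 L166256 q10863, e3 q6907 (flp_f L115293) q4134, e3 q6908 (flp_f L166274) q10864, e3 q6909 L115307 q4156, e3 q6910 L115311 q4157, e3 q6911 (flp_f L115529) q6953, trivial⟩ (by decide +kernel)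

theorem ce_f_108 : ∀ r, r < 64 → sm gf (Qf (6912 + r)) = Qf (tab Gen.f (6912 + r)) :=
  edges_tab (sm gf) Qf (tab Gen.f) 6912 [(6912, 10874), (6913, 6962), (6914, 10878), (6915, 4138), (6916, 10879), (6917, 6213), (6918, 4163), (6919, 4165), (6920, 6967), (6921, 7349), (6922, 4372), (6923, 10888), (6924, 4143), (6925, 10054), (6926, 6984), (6927, 10891), (6928, 4145), (6929, 4147), (6930, 10037), (6931, 10892), (6932, 10896), (6933, 6933), (6934, 10898), (6935, 4148), (6936, 6940), (6937, 4149), (6938, 10903), (6939, 4154), (6940, 6936), (6941, 6997), (6942, 4151), (6943, 10900), (6944, 10913), (6945, 6991), (6946, 10904), (6947, 4180), (6948, 10919), (6949, 10921), (6950, 4155), (6951, 10922), (6952, 10868), (6953, 6911), (6954, 10869), (6955, 10931), (6956, 4158), (6957, 10932), (6958, 10935), (6959, 4159), (6960, 10939), (6961, 4160), (6962, 6913), (6963, 4162), (6964, 9969), (6965, 4381), (6966, 10883), (6967, 6920), (6968, 4368), (6969, 10311), (6970, 10310), (6971, 10951), (6972, 10952), (6973, 4166), (6974,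 4168), (6975, 7168)]
    ⟨e3 q6912 L166336 q10874, e3 q6913 L115573 q6962, e3 q6914 L166366 q10878, e3 q6915 (flp_f L115331) q4138, e3 q6916 (flp_f L166374) q10879, e3 q6917 (flp_f L115345) q6213, e3 q6918 L115353 q4163, e3 q6919 L115359 q4165, e3 q6920 (flp_f L115605) q6967, e3 q6921 (flp_f L118021) q7349, e3 q6922 (flp_f L115377) q4372, e3 q6923 L166422 q10888, e3 q6924 (flp_f L115383) q4143, e3 q6925 L159655 q10054, e3 q6926 L115711 q6984, e3 q6927 L166448 q10891, e3 q6928 (flp_f L115411) q4145, e3 q6929 L115421 q4147, e3 q6930 (flp_f L159557) q10037, e3 q6931 (flp_f L166456) q10892, e3 q6932 L166476 q10896, e3 q6933 L144304 q6933, e3 q6934 L166494 q10898, e3 q6935 (flp_f L115450) q4148, e3 q6936 L115476 q6940, e3 q6937 (flp_f L115458) q4149, e3 q6938 L166534 q10903, e3 q6939 L115472 q4154, e3 q6940 (flp_f L115476) q6936, e3 q6941 (flp_f L151291) q6997, e3 q6942 (flp_f L115482) q4151, e3 q6943 (flp_f L166517) q10900, e3 q6944 L166608 q10913, e3 q6945 L151288 q6991, e3 q6946 (flp_f L166546) q10904, e3 q6947 L151168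 q4180, e3 q6948 L166662 q10919, e3 q6949 L166672 q10921, e3 q6950 (flp_f L115513) q4155, e3 q6951 L166678 q10922, e3 q6952 (flp_f L166310) q10868, e3 q6953 L115529 q6911, e3 q6954 (flp_f L166314) q10869, e3 q6955 L166732 q10931, e3 q6956 (flp_f L115537) q4158, e3 q6957 L166740 q10932, e3 q6958 L166766 q10935, e3 q6959 (flp_f L115553) q4159, e3 q6960 L166788 q10939, e3 q6961 (flp_f L115563) q4160, e3 q6962 (flp_f L115573) q6913, e3 q6963 (flp_f L115575) q4162, e3 q6964 L159061 q9969, e3 q6965 L115591 q4381, e3 q6966 (flp_f L166400) q10883, e3 q6967 L115605 q6920, e3 q6968 (flp_f L115611) q4368, e3 q6969 (flp_f L161322) q10311, e3 q6970 (flp_f L161310) q10310, e3 q6971 L166863 q10951, e3 q6972 L166871 q10952, e3 q6973 (flp_f L115629) q4166, e3 q6974 (flp_f L115651) q4168, e3 q6975 L116887 q7168, trivial⟩ (by decide +kernel)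

theorem ce_f_109 : ∀ r, r < 64 → sm gf (Qf (6976 + r)) = Qf (tab Gen.f (6976 + r)) :=
  edges_tab (sm gf) Qf (tab Gen.f) 6976 [(6976, 10954), (6977, 10956), (6978, 4169), (6979, 7243), (6980, 10960), (6981, 10961), (6982, 4171), (6983, 6983), (6984, 6926), (6985, 6985), (6986, 10910), (6987, 4176), (6988, 10912), (6989, 6989), (6990, 6990), (6991, 6945), (6992, 10915), (6993, 10917), (6994, 10973), (6995, 4181), (6996, 4183), (6997, 6941), (6998, 10974), (6999, 10978), (7000, 4184), (7001, 10981), (7002, 4240), (7003, 4241), (7004, 7093), (7005, 10986), (7006, 7014), (7007, 10990), (7008, 4188), (7009, 10109), (7010, 10995), (7011, 4189), (7012, 10998), (7013, 4190), (7014, 7006), (7015, 11002), (7016, 4192), (7017, 11005), (7018, 11006), (7019, 11007), (7020, 4194), (7021, 10004), (7022, 4197), (7023, 4198), (7024, 7027), (7025, 11016), (7026, 11012), (7027, 7024), (7028, 11013), (7029, 11024), (7030, 4199), (7031, 5875), (7032, 4201), (7033, 11026), (7034, 11028), (7035, 4202), (7036, 11031), (7037, 4289), (7038,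 4290), (7039, 4297)]
    ⟨e3 q6976 L166885 q10954, e3 q6977 L166899 q10956, e3 q6978 (flp_f L115671) q4169, e3 q6979 (flp_f L117369) q7243, e3 q6980 L166929 q10960, e3 q6981 L166933 q10961, e3 q6982 (flp_f L115694) q4171, e3 q6983 L115702 q6983, e3 q6984 (flp_f L115711) q6926, e3 q6985 L115717 q6985, e3 q6986 (flp_f L166595) q10910, e3 q6987 L166633 q4176, e3 q6988 (flp_f L166619) q10912, e3 q6989 L115755 q6989, e3 q6990 L115761 q6990, e3 q6991 (flp_f L151288) q6945, e3 q6992 L166646 q10915, e3 q6993 L166656 q10917, e3 q6994 (flp_f L167028) q10973, e3 q6995 (flp_f L115794) q4181, e3 q6996 L115800 q4183, e3 q6997 L151291 q6941, e3 q6998 (flp_f L167052) q10974, e3 q6999 L167070 q10978, e3 q7000 (flp_f L115826) q4184, e3 q7001 L167088 q10981, e3 q7002 L115838 q4240, e3 q7003 L115844 q4241, e3 q7004 (flp_f L116489) q7093, e3 q7005 L167128 q10986, e3 q7006 L115894 q7014, e3 q7007 L167150 q10990, e3 q7008 (flp_f L115862) q4188, e3 q7009 L160014 q10109, e3 q7010 L167172 q10995, e3 q7011 (flp_f L115874) q4189, e3 q7012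 L167184 q10998, e3 q7013 (flp_f L115884) q4190, e3 q7014 (flp_f L115894) q7006, e3 q7015 L167208 q11002, e3 q7016 (flp_f L115902) q4192, e3 q7017 L167226 q11005, e3 q7018 L167234 q11006, e3 q7019 L167242 q11007, e3 q7020 (flp_f L115928) q4194, e3 q7021 L167040 q10004, e3 q7022 L115938 q4197, e3 q7023 L115942 q4198, e3 q7024 (flp_f L115962) q7027, e3 q7025 L167296 q11016, e3 q7026 (flp_f L167282) q11012, e3 q7027 L115962 q7024, e3 q7028 (flp_f L167286) q11013, e3 q7029 L167330 q11024, e3 q7030 (flp_f L115970) q4199, e3 q7031 (flp_f L115984) q5875, e3 q7032 (flp_f L115986) q4201, e3 q7033 L167346 q11026, e3 q7034 L167365 q11028, e3 q7035 (flp_f L116004) q4202, e3 q7036 L167395 q11031, e3 q7037 L116018 q4289, e3 q7038 L116026 q4290, e3 q7039 L116037 q4297, trivial⟩ (by decide +kernel)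

theorem ce_f_110 : ∀ r, r < 64 → sm gf (Qf (7040 + r)) = Qf (tab Gen.f (7040 + r)) :=
  edges_tab (sm gf) Qf (tab Gen.f) 7040 [(7040, 7192), (7041, 7193), (7042, 11036), (7043, 11038), (7044, 4207), (7045, 7326), (7046, 7057), (7047, 11045), (7048, 4209), (7049, 6314), (7050, 11049), (7051, 11053), (7052, 4212), (7053, 11057), (7054, 11058), (7055, 4214), (7056, 7056), (7057, 7046), (7058, 7368), (7059, 5850), (7060, 4218), (7061, 11064), (7062, 11066), (7063, 4219), (7064, 11069), (7065, 7312), (7066, 7314), (7067, 11070), (7068, 4221), (7069, 4222), (7070, 7070), (7071, 7071), (7072, 10964), (7073, 11078), (7074, 4229), (7075, 4231), (7076, 7080), (7077, 4228), (7078, 11087), (7079, 11080), (7080, 7076), (7081, 11081), (7082, 11082), (7083, 11098), (7084, 11099), (7085, 4232), (7086, 6326), (7087, 5259), (7088, 11105), (7089, 4235), (7090, 9984), (7091, 4236), (7092, 7101), (7093, 7004), (7094, 11113), (7095, 11116), (7096, 11118), (7097, 4239), (7098, 11120), (7099, 8669), (7100, 11032), (7101, 7092), (7102,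 11126), (7103, 4242)]
    ⟨e3 q7040 (flp_f L117061) q7192, e3 q7041 (flp_f L117071) q7193, e3 q7042 L167431 q11036, e3 q7043 L167440 q11038, e3 q7044 (flp_f L116115) q4207, e3 q7045 L117879 q7326, e3 q7046 L116203 q7057, e3 q7047 L167480 q11045, e3 q7048 (flp_f L116135) q4209, e3 q7049 (flp_f L116157) q6314, e3 q7050 L167496 q11049, e3 q7051 L167520 q11053, e3 q7052 (flp_f L116167) q4212, e3 q7053 L167545 q11057, e3 q7054 L167549 q11058, e3 q7055 (flp_f L116184) q4214, e3 q7056 L116194 q7056, e3 q7057 (flp_f L116203) q7046, e3 q7058 L118121 q7368, e3 q7059 (flp_f L150096) q5850, e3 q7060 (flp_f L116261) q4218, e3 q7061 L167586 q11064, e3 q7062 L167605 q11066, e3 q7063 (flp_f L116277) q4219, e3 q7064 L167633 q11069, e3 q7065 L117797 q7312, e3 q7066 L117815 q7314, e3 q7067 L167643 q11070, e3 q7068 (flp_f L116320) q4221, e3 q7069 (flp_f L116324) q4222, e3 q7070 L116334 q7070, e3 q7071 L116344 q7071, e3 q7072 L166960 q10964, e3 q7073 L167696 q11078, e3 q7074 L116361 q4229, e3 q7075 L116365 q4231, e3 q7076 (flp_f L116409)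 q7080, e3 q7077 (flp_f L116385) q4228, e3 q7078 L167742 q11087, e3 q7079 (flp_f L167714) q11080, e3 q7080 L116409 q7076, e3 q7081 (flp_f L167718) q11081, e3 q7082 (flp_f L167722) q11082, e3 q7083 L167808 q11098, e3 q7084 L167816 q11099, e3 q7085 (flp_f L116429) q4232, e3 q7086 L116443 q6326, e3 q7087 (flp_f L116453) q5259, e3 q7088 L167862 q11105, e3 q7089 (flp_f L116461) q4235, e3 q7090 (flp_f L159187) q9984, e3 q7091 (flp_f L116475) q4236, e3 q7092 (flp_f L116520) q7101, e3 q7093 L116489 q7004, e3 q7094 L167908 q11113, e3 q7095 L167928 q11116, e3 q7096 L167940 q11118, e3 q7097 (flp_f L116499) q4239, e3 q7098 L167956 q11120, e3 q7099 (flp_f L144573) q8669, e3 q7100 L167413 q11032, e3 q7101 L116520 q7092, e3 q7102 L167986 q11126, e3 q7103 (flp_f L116527) q4242, trivial⟩ (by decide +kernel)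

theorem ce_f_111 : ∀ r, r < 64 → sm gf (Qf (7104 + r)) = Qf (tab Gen.f (7104 + r)) :=
  edges_tab (sm gf) Qf (tab Gen.f) 7104 [(7104, 11129), (7105, 4243), (7106, 11130), (7107, 11136), (7108, 7125), (7109, 11142), (7110, 4246), (7111, 4248), (7112, 11144), (7113, 11145), (7114, 11151), (7115, 4249), (7116, 11153), (7117, 11156), (7118, 11159), (7119, 4250), (7120, 11152), (7121, 11164), (7122, 11165), (7123, 4252), (7124, 7124), (7125, 7108), (7126, 11172), (7127, 4260), (7128, 5238), (7129, 4256), (7130, 11008), (7131, 4257), (7132, 11179), (7133, 4258), (7134, 11178), (7135, 11173), (7136, 11174), (7137, 9992), (7138, 11190), (7139, 11191), (7140, 4261), (7141, 4262), (7142, 7142), (7143, 6265), (7144, 7144), (7145, 10116), (7146, 11202), (7147, 11205), (7148, 4271), (7149, 4273), (7150, 7159), (7151, 11215), (7152, 11217), (7153, 11219), (7154, 4269), (7155, 4270), (7156, 10926), (7157, 11225), (7158, 11208), (7159, 7150), (7160, 10872), (7161, 11209), (7162, 11210), (7163, 11236), (7164, 11237), (7165, 4274),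 (7166, 6262), (7167, 6893)]
    ⟨e3 q7104 L168016 q11129, e3 q7105 (flp_f L116545) q4243, e3 q7106 (flp_f L168022) q11130, e3 q7107 L168090 q11136, e3 q7108 L116637 q7125, e3 q7109 L168122 q11142, e3 q7110 (flp_f L116563) q4246, e3 q7111 L116571 q4248, e3 q7112 (flp_f L168132) q11144, e3 q7113 (flp_f L168138) q11145, e3 q7114 L168168 q11151, e3 q7115 (flp_f L116591) q4249, e3 q7116 L168184 q11153, e3 q7117 L168204 q11156, e3 q7118 L168212 q11159, e3 q7119 (flp_f L116605) q4250, e3 q7120 (flp_f L168180) q11152, e3 q7121 L168231 q11164, e3 q7122 L168235 q11165, e3 q7123 (flp_f L116622) q4252, e3 q7124 L116630 q7124, e3 q7125 (flp_f L116637) q7108, e3 q7126 L168268 q11172, e3 q7127 L116649 q4260, e3 q7128 (flp_f L116657) q5238, e3 q7129 (flp_f L116659) q4256, e3 q7130 (flp_f L167258) q11008, e3 q7131 (flp_f L116675) q4257, e3 q7132 L168322 q11179, e3 q7133 (flp_f L116683) q4258, e3 q7134 (flp_f L168320) q11178, e3 q7135 (flp_f L168282) q11173, e3 q7136 (flp_f L168288) q11174, e3 q7137 L159263 q9992, e3 q7138 L168382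 q11190, e3 q7139 L168385 q11191, e3 q7140 (flp_f L116712) q4261, e3 q7141 (flp_f L116716) q4262, e3 q7142 L116724 q7142, e3 q7143 (flp_f L148994) q6265, e3 q7144 L116740 q7144, e3 q7145 L160056 q10116, e3 q7146 L168444 q11202, e3 q7147 L168474 q11205, e3 q7148 L116759 q4271, e3 q7149 L116763 q4273, e3 q7150 (flp_f L116831) q7159, e3 q7151 L168536 q11215, e3 q7152 L168548 q11217, e3 q7153 L168562 q11219, e3 q7154 (flp_f L116785) q4269, e3 q7155 (flp_f L116803) q4270, e3 q7156 L166718 q10926, e3 q7157 L168608 q11225, e3 q7158 (flp_f L168500) q11208, e3 q7159 L116831 q7150, e3 q7160 L166330 q10872, e3 q7161 (flp_f L168504) q11209, e3 q7162 (flp_f L168508) q11210, e3 q7163 L168662 q11236, e3 q7164 L168670 q11237, e3 q7165 (flp_f L116857) q4274, e3 q7166 L116873 q6262, e3 q7167 L116879 q6893, trivial⟩ (by decide +kernel)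

theorem ce_f_112 : ∀ r, r < 64 → sm gf (Qf (7168 + r)) = Qf (tab Gen.f (7168 + r)) :=
  edges_tab (sm gf) Qf (tab Gen.f) 7168 [(7168, 6975), (7169, 8789), (7170, 11245), (7171, 5358), (7172, 4279), (7173, 11249), (7174, 6282), (7175, 11253), (7176, 4281), (7177, 6232), (7178, 6245), (7179, 11258), (7180, 4283), (7181, 7281), (7182, 4285), (7183, 7187), (7184, 10646), (7185, 4286), (7186, 11264), (7187, 7183), (7188, 10945), (7189, 4288), (7190, 11268), (7191, 4989), (7192, 7040), (7193, 7041), (7194, 11274), (7195, 11277), (7196, 11279), (7197, 4292), (7198, 7270), (7199, 11284), (7200, 4293), (7201, 11287), (7202, 4294), (7203, 11290), (7204, 11294), (7205, 4979), (7206, 4296), (7207, 11299), (7208, 5257), (7209, 10982), (7210, 8282), (7211, 8653), (7212, 4299), (7213, 11304), (7214, 4300), (7215, 7373), (7216, 4301), (7217, 11307), (7218, 11313), (7219, 4305), (7220, 11315), (7221, 11316), (7222, 11321), (7223, 6169), (7224, 11325), (7225, 4306), (7226, 9940), (7227, 11329), (7228, 7264), (7229, 11336), (7230,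 11337), (7231, 4308)]
    ⟨e3 q7168 (flp_f L116887) q6975, e3 q7169 L145310 q8789, e3 q7170 L168730 q11245, e3 q7171 (flp_f L120291) q5358, e3 q7172 (flp_f L116919) q4279, e3 q7173 L168764 q11249, e3 q7174 (flp_f L116941) q6282, e3 q7175 L168790 q11253, e3 q7176 (flp_f L116947) q4281, e3 q7177 L116961 q6232, e3 q7178 L116971 q6245, e3 q7179 L168820 q11258, e3 q7180 (flp_f L116979) q4283, e3 q7181 L117615 q7281, e3 q7182 (flp_f L116993) q4285, e3 q7183 L117023 q7187, e3 q7184 (flp_f L164599) q10646, e3 q7185 (flp_f L117011) q4286, e3 q7186 L168861 q11264, e3 q7187 (flp_f L117023) q7183, e3 q7188 (flp_f L166828) q10945, e3 q7189 (flp_f L117031) q4288, e3 q7190 L168889 q11268, e3 q7191 L117049 q4989, e3 q7192 L117061 q7040, e3 q7193 L117071 q7041, e3 q7194 L168921 q11274, e3 q7195 L168937 q11277, e3 q7196 L168951 q11279, e3 q7197 (flp_f L117087) q4292, e3 q7198 (flp_f L117521) q7270, e3 q7199 L168981 q11284, e3 q7200 (flp_f L117105) q4293, e3 q7201 L168997 q11287, e3 q7202 (flp_f L117117) q4294, e3 q7203 L169013 q11290,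 e3 q7204 L169043 q11294, e3 q7205 (flp_f L117139) q4979, e3 q7206 (flp_f L117141) q4296, e3 q7207 L169085 q11299, e3 q7208 L117159 q5257, e3 q7209 L167102 q10982, e3 q7210 (flp_f L129211) q8282, e3 q7211 (flp_f L151704) q8653, e3 q7212 (flp_f L117181) q4299, e3 q7213 L169121 q11304, e3 q7214 (flp_f L117197) q4300, e3 q7215 L118210 q7373, e3 q7216 (flp_f L117213) q4301, e3 q7217 (flp_f L169143) q11307, e3 q7218 L169167 q11313, e3 q7219 L117229 q4305, e3 q7220 (flp_f L169183) q11315, e3 q7221 (flp_f L169189) q11316, e3 q7222 L169219 q11321, e3 q7223 (flp_f L117251) q6169, e3 q7224 L169243 q11325, e3 q7225 (flp_f L117257) q4306, e3 q7226 (flp_f L158845) q9940, e3 q7227 L169271 q11329, e3 q7228 L117485 q7264, e3 q7229 L169315 q11336, e3 q7230 L169319 q11337, e3 q7231 (flp_f L117291) q4308, trivial⟩ (by decide +kernel)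

theorem ce_f_113 : ∀ r, r < 64 → sm gf (Qf (7232 + r)) = Qf (tab Gen.f (7232 + r)) :=
  edges_tab (sm gf) Qf (tab Gen.f) 7232 [(7232, 10274), (7233, 4311), (7234, 4312), (7235, 7237), (7236, 11342), (7237, 7235), (7238, 11343), (7239, 11351), (7240, 4313), (7241, 11354), (7242, 4314), (7243, 6979), (7244, 11358), (7245, 11361), (7246, 4315), (7247, 7901), (7248, 4321), (7249, 4317), (7250, 11368), (7251, 11372), (7252, 4318), (7253, 11376), (7254, 11379), (7255, 11380), (7256, 4319), (7257, 11374), (7258, 11365), (7259, 11388), (7260, 11391), (7261, 11393), (7262, 4322), (7263, 4323), (7264, 7228), (7265, 11400), (7266, 10186), (7267, 11402), (7268, 4326), (7269, 9393), (7270, 7198), (7271, 11404), (7272, 4329), (7273, 11407), (7274, 4330), (7275, 11410), (7276, 11405), (7277, 6309), (7278, 4332), (7279, 4344), (7280, 4345), (7281, 7181), (7282, 10020), (7283, 4336), (7284, 7289), (7285, 11421), (7286, 4337), (7287, 11424), (7288, 4343), (7289, 7284), (7290, 4339), (7291, 11428), (7292, 8293), (7293, 4340), (7294,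 4341), (7295, 11422)]
    ⟨e3 q7232 (flp_f L161048) q10274, e3 q7233 L117303 q4311, e3 q7234 L117311 q4312, e3 q7235 (flp_f L117331) q7237, e3 q7236 (flp_f L169349) q11342, e3 q7237 L117331 q7235, e3 q7238 (flp_f L169355) q11343, e3 q7239 L169399 q11351, e3 q7240 (flp_f L117343) q4313, e3 q7241 L169421 q11354, e3 q7242 (flp_f L117357) q4314, e3 q7243 L117369 q6979, e3 q7244 L169455 q11358, e3 q7245 L169473 q11361, e3 q7246 (flp_f L117381) q4315, e3 q7247 (flp_f L163977) q7901, e3 q7248 L117397 q4321, e3 q7249 (flp_f L117401) q4317, e3 q7250 L169513 q11368, e3 q7251 L169533 q11372, e3 q7252 (flp_f L117419) q4318, e3 q7253 L169553 q11376, e3 q7254 L169571 q11379, e3 q7255 L169581 q11380, e3 q7256 (flp_f L117439) q4319, e3 q7257 (flp_f L169545) q11374, e3 q7258 (flp_f L169497) q11365, e3 q7259 L169623 q11388, e3 q7260 L169637 q11391, e3 q7261 L169647 q11393, e3 q7262 (flp_f L117469) q4322, e3 q7263 (flp_f L117473) q4323, e3 q7264 (flp_f L117485) q7228, e3 q7265 L169687 q11400, e3 q7266 L160540 q10186, e3 q7267 L169705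 q11402, e3 q7268 (flp_f L117503) q4326, e3 q7269 (flp_f L155092) q9393, e3 q7270 L117521 q7198, e3 q7271 L169729 q11404, e3 q7272 (flp_f L117539) q4329, e3 q7273 L169753 q11407, e3 q7274 (flp_f L117557) q4330, e3 q7275 L169773 q11410, e3 q7276 (flp_f L169739) q11405, e3 q7277 (flp_f L117579) q6309, e3 q7278 (flp_f L117585) q4332, e3 q7279 L117599 q4344, e3 q7280 L117607 q4345, e3 q7281 (flp_f L117615) q7181, e3 q7282 L159455 q10020, e3 q7283 (flp_f L117627) q4336, e3 q7284 L117663 q7289, e3 q7285 L169846 q11421, e3 q7286 (flp_f L117645) q4337, e3 q7287 L169868 q11424, e3 q7288 L117657 q4343, e3 q7289 (flp_f L117663) q7284, e3 q7290 (flp_f L117665) q4339, e3 q7291 L169894 q11428, e3 q7292 L148948 q8293, e3 q7293 (flp_f L117683) q4340, e3 q7294 (flp_f L117693) q4341, e3 q7295 (flp_f L169856) q11422, trivial⟩ (by decide +kernel)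

theorem ce_f_114 : ∀ r, r < 64 → sm gf (Qf (7296 + r)) = Qf (tab Gen.f (7296 + r)) :=
  edges_tab (sm gf) Qf (tab Gen.f) 7296 [(7296, 11425), (7297, 11426), (7298, 11440), (7299, 6895), (7300, 11416), (7301, 11417), (7302, 10041), (7303, 11449), (7304, 11453), (7305, 11455), (7306, 4347), (7307, 11458), (7308, 11459), (7309, 4348), (7310, 4349), (7311, 11456), (7312, 7065), (7313, 4395), (7314, 7066), (7315, 4394), (7316, 7402), (7317, 11469), (7318, 11472), (7319, 10965), (7320, 11477), (7321, 11479), (7322, 4356), (7323, 11040), (7324, 11484), (7325, 4357), (7326, 7045), (7327, 11488), (7328, 4370), (7329, 4373), (7330, 4374), (7331, 7356), (7332, 11500), (7333, 7340), (7334, 11503), (7335, 4361), (7336, 11505), (7337, 4362), (7338, 11508), (7339, 4363), (7340, 7333), (7341, 11513), (7342, 4365), (7343, 7348), (7344, 11517), (7345, 11520), (7346, 4366), (7347, 10946), (7348, 7343), (7349, 6921), (7350, 11527), (7351, 11531), (7352, 4369), (7353, 11535), (7354, 11490), (7355, 11491), (7356, 7331), (7357, 11542),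 (7358, 10886), (7359, 11547)]
    ⟨e3 q7296 (flp_f L169882) q11425, e3 q7297 (flp_f L169888) q11426, e3 q7298 L169962 q11440, e3 q7299 (flp_f L117729) q6895, e3 q7300 (flp_f L169815) q11416, e3 q7301 (flp_f L169821) q11417, e3 q7302 (flp_f L159583) q10041, e3 q7303 L170018 q11449, e3 q7304 L170048 q11453, e3 q7305 L170060 q11455, e3 q7306 (flp_f L117759) q4347, e3 q7307 L170092 q11458, e3 q7308 L170102 q11459, e3 q7309 (flp_f L117773) q4348, e3 q7310 (flp_f L117783) q4349, e3 q7311 (flp_f L170078) q11456, e3 q7312 (flp_f L117797) q7065, e3 q7313 L117805 q4395, e3 q7314 (flp_f L117815) q7066, e3 q7315 L117821 q4394, e3 q7316 (flp_f L118368) q7402, e3 q7317 L170156 q11469, e3 q7318 L170172 q11472, e3 q7319 (flp_f L166966) q10965, e3 q7320 L170204 q11477, e3 q7321 L170218 q11479, e3 q7322 (flp_f L117851) q4356, e3 q7323 L167456 q11040, e3 q7324 L170248 q11484, e3 q7325 (flp_f L117867) q4357, e3 q7326 (flp_f L117879) q7045, e3 q7327 L170272 q11488, e3 q7328 L117889 q4370, e3 q7329 L117893 q4373, e3 q7330 L117897 q4374,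 e3 q7331 (flp_f L118059) q7356, e3 q7332 L170338 q11500, e3 q7333 L117961 q7340, e3 q7334 L170358 q11503, e3 q7335 (flp_f L117923) q4361, e3 q7336 L170370 q11505, e3 q7337 (flp_f L117937) q4362, e3 q7338 L170388 q11508, e3 q7339 (flp_f L117949) q4363, e3 q7340 (flp_f L117961) q7333, e3 q7341 L170422 q11513, e3 q7342 (flp_f L117971) q4365, e3 q7343 L118013 q7348, e3 q7344 L170458 q11517, e3 q7345 L170480 q11520, e3 q7346 (flp_f L117995) q4366, e3 q7347 (flp_f L166836) q10946, e3 q7348 (flp_f L118013) q7343, e3 q7349 L118021 q6921, e3 q7350 L170524 q11527, e3 q7351 L170548 q11531, e3 q7352 (flp_f L118033) q4369, e3 q7353 L170568 q11535, e3 q7354 (flp_f L170286) q11490, e3 q7355 (flp_f L170294) q11491, e3 q7356 L118059 q7331, e3 q7357 L170616 q11542, e3 q7358 (flp_f L166418) q10886, e3 q7359 L170638 q11547, trivial⟩ (by decide +kernel)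

theorem ce_f_115 : ∀ r, r < 64 → sm gf (Qf (7360 + r)) = Qf (tab Gen.f (7360 + r)) :=
  edges_tab (sm gf) Qf (tab Gen.f) 7360 [(7360, 11493), (7361, 11494), (7362, 11554), (7363, 11555), (7364, 4375), (7365, 10256), (7366, 6299), (7367, 6300), (7368, 7058), (7369, 8307), (7370, 11563), (7371, 4378), (7372, 4379), (7373, 7215), (7374, 8309), (7375, 9390), (7376, 11568), (7377, 11571), (7378, 11573), (7379, 4386), (7380, 11577), (7381, 11581), (7382, 4385), (7383, 11584), (7384, 7434), (7385, 11575), (7386, 11588), (7387, 11592), (7388, 4387), (7389, 7394), (7390, 11598), (7391, 11600), (7392, 4388), (7393, 11603), (7394, 7389), (7395, 4390), (7396, 11608), (7397, 11610), (7398, 4392), (7399, 11613), (7400, 11614), (7401, 11462), (7402, 7316), (7403, 11616), (7404, 4396), (7405, 11618), (7406, 11619), (7407, 4397), (7408, 7408), (7409, 11625), (7410, 5939), (7411, 11629), (7412, 11633), (7413, 4401), (7414, 11636), (7415, 5940), (7416, 5941), (7417, 11640), (7418, 11644), (7419, 4403), (7420, 7425), (7421, 11650),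 (7422, 11652), (7423, 4404)]
    ⟨e3 q7360 (flp_f L170304) q11493, e3 q7361 (flp_f L170312) q11494, e3 q7362 L170670 q11554, e3 q7363 L170678 q11555, e3 q7364 (flp_f L118093) q4375, e3 q7365 (flp_f L160934) q10256, e3 q7366 L118109 q6299, e3 q7367 L118115 q6300, e3 q7368 (flp_f L118121) q7058, e3 q7369 (flp_f L129398) q8307, e3 q7370 L170742 q11563, e3 q7371 (flp_f L118135) q4378, e3 q7372 (flp_f L118143) q4379, e3 q7373 (flp_f L118210) q7215, e3 q7374 (flp_f L129418) q8309, e3 q7375 L155062 q9390, e3 q7376 L170791 q11568, e3 q7377 L170813 q11571, e3 q7378 L170823 q11573, e3 q7379 L118238 q4386, e3 q7380 L170849 q11577, e3 q7381 L170875 q11581, e3 q7382 (flp_f L118252) q4385, e3 q7383 L170893 q11584, e3 q7384 (flp_f L118572) q7434, e3 q7385 (flp_f L170839) q11575, e3 q7386 L170915 q11588, e3 q7387 L170935 q11592, e3 q7388 (flp_f L118284) q4387, e3 q7389 L118320 q7394, e3 q7390 L170973 q11598, e3 q7391 L170981 q11600, e3 q7392 (flp_f L118306) q4388, e3 q7393 L171001 q11603, e3 q7394 (flp_f L118320) q7389, e3 q7395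 (flp_f L118322) q4390, e3 q7396 L171029 q11608, e3 q7397 L171041 q11610, e3 q7398 (flp_f L118340) q4392, e3 q7399 L171063 q11613, e3 q7400 L171071 q11614, e3 q7401 (flp_f L170124) q11462, e3 q7402 L118368 q7316, e3 q7403 L171093 q11616, e3 q7404 (flp_f L118377) q4396, e3 q7405 L171110 q11618, e3 q7406 L171120 q11619, e3 q7407 (flp_f L118400) q4397, e3 q7408 L118416 q7408, e3 q7409 L171162 q11625, e3 q7410 L118427 q5939, e3 q7411 L171192 q11629, e3 q7412 L171218 q11633, e3 q7413 (flp_f L118441) q4401, e3 q7414 L171236 q11636, e3 q7415 L118457 q5940, e3 q7416 L118461 q5941, e3 q7417 L171258 q11640, e3 q7418 L171278 q11644, e3 q7419 (flp_f L118473) q4403, e3 q7420 L118509 q7425, e3 q7421 L171316 q11650, e3 q7422 L171324 q11652, e3 q7423 (flp_f L118495) q4404, trivial⟩ (by decide +kernel)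

theorem ce_f_116 : ∀ r, r < 64 → sm gf (Qf (7424 + r)) = Qf (tab Gen.f (7424 + r)) :=
  edges_tab (sm gf) Qf (tab Gen.f) 7424 [(7424, 11655), (7425, 7420), (7426, 4406), (7427, 11660), (7428, 11662), (7429, 4408), (7430, 11665), (7431, 7435), (7432, 4412), (7433, 11670), (7434, 7384), (7435, 7431), (7436, 5945), (7437, 11677), (7438, 5947), (7439, 7637), (7440, 4416), (7441, 7459), (7442, 5433), (7443, 4441), (7444, 11681), (7445, 4421), (7446, 7615), (7447, 10293), (7448, 7825), (7449, 10382), (7450, 11686), (7451, 4426), (7452, 7452), (7453, 7453), (7454, 4429), (7455, 9421), (7456, 10537), (7457, 4430), (7458, 11690), (7459, 7441), (7460, 4432), (7461, 7461), (7462, 4679), (7463, 4531), (7464, 4434), (7465, 7465), (7466, 7650), (7467, 4437), (7468, 4533), (7469, 7469), (7470, 7470), (7471, 4593), (7472, 7671), (7473, 11680), (7474, 11696), (7475, 4442), (7476, 4444), (7477, 5750), (7478, 9013), (7479, 6405), (7480, 4466), (7481, 4469), (7482, 7503), (7483, 7904), (7484, 4745), (7485, 11702), (7486, 4451), (7487,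 6455)]
    ⟨e3 q7424 L171344 q11655, e3 q7425 (flp_f L118509) q7420, e3 q7426 (flp_f L118511) q4406, e3 q7427 L171372 q11660, e3 q7428 L171384 q11662, e3 q7429 (flp_f L118529) q4408, e3 q7430 L171406 q11665, e3 q7431 (flp_f L118589) q7435, e3 q7432 L118550 q4412, e3 q7433 L171427 q11670, e3 q7434 L118572 q7384, e3 q7435 L118589 q7431, e3 q7436 L118597 q5945, e3 q7437 L171460 q11677, e3 q7438 L118619 q5947, e3 q7439 L121779 q7637, e3 q7440 (flp_f L118697) q4416, e3 q7441 L118858 q7459, e3 q7442 L120511 q5433, e3 q7443 (flp_f L118756) q4441, e3 q7444 L171486 q11681, e3 q7445 (flp_f L118752) q4421, e3 q7446 (flp_f L121651) q7615, e3 q7447 (flp_f L161168) q10293, e3 q7448 (flp_f L122826) q7825, e3 q7449 (flp_f L161802) q10382, e3 q7450 L171516 q11686, e3 q7451 (flp_f L118780) q4426, e3 q7452 L118951 q7452, e3 q7453 L118949 q7453, e3 q7454 (flp_f L118814) q4429, e3 q7455 L155334 q9421, e3 q7456 (flp_f L162820) q10537, e3 q7457 (flp_f L118840) q4430, e3 q7458 L171548 q11690, e3 q7459 (flp_f L118858) q7441, e3 q7460 (flp_f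 L118862) q4432, e3 q7461 L118874 q7461, e3 q7462 L147649 q4679, e3 q7463 L149073 q4531, e3 q7464 (flp_f L118887) q4434, e3 q7465 L118904 q7465, e3 q7466 (flp_f L121855) q7650, e3 q7467 (flp_f L118917) q4437, e3 q7468 L149156 q4533, e3 q7469 L118930 q7469, e3 q7470 L120608 q7470, e3 q7471 (flp_f L120613) q4593, e3 q7472 L121963 q7671, e3 q7473 L171484 q11680, e3 q7474 L171597 q11696, e3 q7475 (flp_f L120659) q4442, e3 q7476 L120665 q4444, e3 q7477 L120712 q5750, e3 q7478 L152272 q9013, e3 q7479 L120722 q6405, e3 q7480 L120734 q4466, e3 q7481 L120742 q4469, e3 q7482 (flp_f L120872) q7503, e3 q7483 (flp_f L123231) q7904, e3 q7484 L120760 q4745, e3 q7485 L171644 q11702, e3 q7486 (flp_f L120764) q4451, e3 q7487 (flp_f L120774) q6455, trivial⟩ (by decide +kernel)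

theorem ce_f_117 : ∀ r, r < 64 → sm gf (Qf (7488 + r)) = Qf (tab Gen.f (7488 + r)) :=
  edges_tab (sm gf) Qf (tab Gen.f) 7488 [(7488, 10343), (7489, 7522), (7490, 11704), (7491, 4455), (7492, 4459), (7493, 10322), (7494, 9136), (7495, 8032), (7496, 4460), (7497, 4760), (7498, 6394), (7499, 4759), (7500, 4757), (7501, 7939), (7502, 11697), (7503, 7482), (7504, 4576), (7505, 4735), (7506, 11714), (7507, 11716), (7508, 4470), (7509, 4471), (7510, 7699), (7511, 9484), (7512, 4474), (7513, 8000), (7514, 11718), (7515, 4477), (7516, 11719), (7517, 4478), (7518, 7821), (7519, 7735), (7520, 4481), (7521, 7521), (7522, 7489), (7523, 4538), (7524, 4707), (7525, 5606), (7526, 9188), (7527, 9713), (7528, 7528), (7529, 6857), (7530, 4490), (7531, 7536), (7532, 6855), (7533, 11729), (7534, 4491), (7535, 10810), (7536, 7531), (7537, 4493), (7538, 4579), (7539, 7539), (7540, 4591), (7541, 11734), (7542, 11736), (7543, 4501), (7544, 11739), (7545, 4502), (7546, 7871), (7547, 4711), (7548, 11742), (7549, 7566), (7550, 11746), (7551,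 11747)]
    ⟨e3 q7488 L161537 q10343, e3 q7489 L121031 q7522, e3 q7490 L171660 q11704, e3 q7491 (flp_f L120800) q4455, e3 q7492 L120808 q4459, e3 q7493 (flp_f L161398) q10322, e3 q7494 (flp_f L153127) q9136, e3 q7495 L124059 q8032, e3 q7496 (flp_f L120824) q4460, e3 q7497 L120836 q4760, e3 q7498 L120844 q6394, e3 q7499 L120850 q4759, e3 q7500 L120856 q4757, e3 q7501 (flp_f L123408) q7939, e3 q7502 (flp_f L171614) q11697, e3 q7503 L120872 q7482, e3 q7504 (flp_f L120876) q4576, e3 q7505 L120888 q4735, e3 q7506 L171731 q11714, e3 q7507 L171746 q11716, e3 q7508 (flp_f L120899) q4470, e3 q7509 (flp_f L120912) q4471, e3 q7510 (flp_f L122122) q7699, e3 q7511 L155760 q9484, e3 q7512 (flp_f L120955) q4474, e3 q7513 L150680 q8000, e3 q7514 L171764 q11718, e3 q7515 (flp_f L120971) q4477, e3 q7516 L171770 q11719, e3 q7517 (flp_f L120985) q4478, e3 q7518 L151085 q7821, e3 q7519 (flp_f L122292) q7735, e3 q7520 (flp_f L121016) q4481, e3 q7521 L121024 q7521, e3 q7522 (flp_f L121031) q7489, e3 q7523 L150713 q4538, e3 q7524 L150734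 q4707, e3 q7525 L121046 q5606, e3 q7526 (flp_f L153566) q9188, e3 q7527 (flp_f L157373) q9713, e3 q7528 L121063 q7528, e3 q7529 (flp_f L121076) q6857, e3 q7530 (flp_f L121078) q4490, e3 q7531 L121127 q7536, e3 q7532 (flp_f L121099) q6855, e3 q7533 L171856 q11729, e3 q7534 (flp_f L121109) q4491, e3 q7535 (flp_f L165822) q10810, e3 q7536 (flp_f L121127) q7531, e3 q7537 (flp_f L121129) q4493, e3 q7538 L121143 q4579, e3 q7539 L121152 q7539, e3 q7540 L121159 q4591, e3 q7541 L171915 q11734, e3 q7542 L171922 q11736, e3 q7543 (flp_f L121169) q4501, e3 q7544 L171938 q11739, e3 q7545 (flp_f L121178) q4502, e3 q7546 L123065 q7871, e3 q7547 (flp_f L121190) q4711, e3 q7548 L171956 q11742, e3 q7549 L121296 q7566, e3 q7550 L171984 q11746, e3 q7551 L171990 q11747, trivial⟩ (by decide +kernel)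

theorem ce_f_118 : ∀ r, r < 64 → sm gf (Qf (7552 + r)) = Qf (tab Gen.f (7552 + r)) :=
  edges_tab (sm gf) Qf (tab Gen.f) 7552 [(7552, 4506), (7553, 11740), (7554, 9801), (7555, 9802), (7556, 11754), (7557, 4511), (7558, 6065), (7559, 11756), (7560, 11757), (7561, 4512), (7562, 11755), (7563, 4514), (7564, 4515), (7565, 7565), (7566, 7549), (7567, 7590), (7568, 11760), (7569, 7934), (7570, 9198), (7571, 4521), (7572, 9875), (7573, 8319), (7574, 11770), (7575, 4525), (7576, 7581), (7577, 10833), (7578, 11772), (7579, 4526), (7580, 11774), (7581, 7576), (7582, 4528), (7583, 7837), (7584, 10418), (7585, 10421), (7586, 7586), (7587, 7587), (7588, 11725), (7589, 7589), (7590, 7567), (7591, 9868), (7592, 4539), (7593, 11785), (7594, 4547), (7595, 4549), (7596, 4550), (7597, 7606), (7598, 11786), (7599, 6101), (7600, 11795), (7601, 9060), (7602, 4546), (7603, 9853), (7604, 11787), (7605, 11788), (7606, 7597), (7607, 11803), (7608, 11804), (7609, 11806), (7610, 11808), (7611, 4551), (7612, 4552), (7613, 11810), (7614, 6531),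 (7615, 7446)]
    ⟨e3 q7552 (flp_f L121210) q4506, e3 q7553 (flp_f L171946) q11740, e3 q7554 (flp_f L157977) q9801, e3 q7555 L157989 q9802, e3 q7556 L172027 q11754, e3 q7557 (flp_f L121236) q4511, e3 q7558 (flp_f L121242) q6065, e3 q7559 L172041 q11756, e3 q7560 L172053 q11757, e3 q7561 (flp_f L121254) q4512, e3 q7562 (flp_f L172039) q11755, e3 q7563 (flp_f L121277) q4514, e3 q7564 (flp_f L121281) q4515, e3 q7565 L121289 q7565, e3 q7566 (flp_f L121296) q7549, e3 q7567 (flp_f L151093) q7590, e3 q7568 (flp_f L172075) q11760, e3 q7569 L123377 q7934, e3 q7570 L153644 q9198, e3 q7571 (flp_f L121341) q4521, e3 q7572 (flp_f L158401) q9875, e3 q7573 L151152 q8319, e3 q7574 L172125 q11770, e3 q7575 (flp_f L121388) q4525, e3 q7576 L121414 q7581, e3 q7577 L166007 q10833, e3 q7578 L172147 q11772, e3 q7579 (flp_f L121402) q4526, e3 q7580 L172167 q11774, e3 q7581 (flp_f L121414) q7576, e3 q7582 (flp_f L121416) q4528, e3 q7583 L122895 q7837, e3 q7584 (flp_f L162052) q10418, e3 q7585 L162086 q10421, e3 q7586 L121476 q7586, e3 q7587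 L121484 q7587, e3 q7588 L171822 q11725, e3 q7589 L121506 q7589, e3 q7590 L151093 q7567, e3 q7591 L158357 q9868, e3 q7592 (flp_f L121513) q4539, e3 q7593 L172255 q11785, e3 q7594 L121529 q4547, e3 q7595 L121533 q4549, e3 q7596 L121537 q4550, e3 q7597 (flp_f L121591) q7606, e3 q7598 (flp_f L172265) q11786, e3 q7599 L155518 q6101, e3 q7600 L172318 q11795, e3 q7601 L155526 q9060, e3 q7602 (flp_f L121571) q4546, e3 q7603 (flp_f L158267) q9853, e3 q7604 (flp_f L172271) q11787, e3 q7605 (flp_f L172281) q11788, e3 q7606 L121591 q7597, e3 q7607 L172376 q11803, e3 q7608 L172382 q11804, e3 q7609 L172397 q11806, e3 q7610 L172410 q11808, e3 q7611 (flp_f L121623) q4551, e3 q7612 (flp_f L121631) q4552, e3 q7613 (flp_f L172424) q11810, e3 q7614 L121645 q6531, e3 q7615 L121651 q7446, trivial⟩ (by decide +kernel)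

theorem ce_f_119 : ∀ r, r < 64 → sm gf (Qf (7616 + r)) = Qf (tab Gen.f (7616 + r)) :=
  edges_tab (sm gf) Qf (tab Gen.f) 7616 [(7616, 6396), (7617, 11816), (7618, 4557), (7619, 8858), (7620, 11820), (7621, 4559), (7622, 11824), (7623, 11827), (7624, 11829), (7625, 4561), (7626, 7708), (7627, 6436), (7628, 6459), (7629, 11836), (7630, 4565), (7631, 7795), (7632, 11839), (7633, 11841), (7634, 4568), (7635, 7644), (7636, 11846), (7637, 7439), (7638, 11728), (7639, 11848), (7640, 4571), (7641, 11851), (7642, 4572), (7643, 11854), (7644, 7635), (7645, 11711), (7646, 4574), (7647, 7687), (7648, 7659), (7649, 11712), (7650, 7466), (7651, 11862), (7652, 11864), (7653, 4582), (7654, 11844), (7655, 11869), (7656, 4583), (7657, 8012), (7658, 4584), (7659, 7648), (7660, 7782), (7661, 7705), (7662, 11875), (7663, 4587), (7664, 10331), (7665, 11880), (7666, 4589), (7667, 8020), (7668, 10859), (7669, 10314), (7670, 11886), (7671, 7472), (7672, 11888), (7673, 4594), (7674, 7841), (7675, 11891), (7676, 4595), (7677, 7840), (7678,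 7679), (7679, 7678)]
    ⟨e3 q7616 (flp_f L150269) q6396, e3 q7617 L172460 q11816, e3 q7618 (flp_f L121663) q4557, e3 q7619 (flp_f L145728) q8858, e3 q7620 L172479 q11820, e3 q7621 (flp_f L121684) q4559, e3 q7622 L172505 q11824, e3 q7623 L172523 q11827, e3 q7624 L172533 q11829, e3 q7625 (flp_f L121705) q4561, e3 q7626 (flp_f L151191) q7708, e3 q7627 L121713 q6436, e3 q7628 L121719 q6459, e3 q7629 L172581 q11836, e3 q7630 (flp_f L121727) q4565, e3 q7631 L122635 q7795, e3 q7632 L172597 q11839, e3 q7633 L172618 q11841, e3 q7634 (flp_f L121756) q4568, e3 q7635 L121817 q7644, e3 q7636 L172647 q11846, e3 q7637 (flp_f L121779) q7439, e3 q7638 (flp_f L171852) q11728, e3 q7639 L172667 q11848, e3 q7640 (flp_f L121797) q4571, e3 q7641 L172695 q11851, e3 q7642 (flp_f L121805) q4572, e3 q7643 L172717 q11854, e3 q7644 (flp_f L121817) q7635, e3 q7645 (flp_f L171712) q11711, e3 q7646 (flp_f L121825) q4574, e3 q7647 (flp_f L171894) q7687, e3 q7648 L121903 q7659, e3 q7649 (flp_f L171718) q11712, e3 q7650 L121855 q7466, e3 q7651 L172777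 q11862, e3 q7652 L172787 q11864, e3 q7653 (flp_f L121871) q4582, e3 q7654 L172653 q11844, e3 q7655 L172823 q11869, e3 q7656 (flp_f L121883) q4583, e3 q7657 (flp_f L163487) q8012, e3 q7658 (flp_f L121895) q4584, e3 q7659 (flp_f L121903) q7648, e3 q7660 (flp_f L122526) q7782, e3 q7661 L163995 q7705, e3 q7662 L172869 q11875, e3 q7663 (flp_f L121917) q4587, e3 q7664 (flp_f L163483) q10331, e3 q7665 L172899 q11880, e3 q7666 (flp_f L121929) q4589, e3 q7667 L163572 q8020, e3 q7668 L166230 q10859, e3 q7669 L161342 q10314, e3 q7670 L172955 q11886, e3 q7671 (flp_f L121963) q7472, e3 q7672 L172972 q11888, e3 q7673 (flp_f L121970) q4594, e3 q7674 L149810 q7841, e3 q7675 L173000 q11891, e3 q7676 (flp_f L121992) q4595, e3 q7677 (flp_f L149774) q7840, e3 q7678 L122008 q7679, e3 q7679 (flp_f L122008) q7678, trivial⟩ (by decide +kernel)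

theorem ce_f_120 : ∀ r, r < 64 → sm gf (Qf (7680 + r)) = Qf (tab Gen.f (7680 + r)) :=
  edges_tab (sm gf) Qf (tab Gen.f) 7680 [(7680, 4597), (7681, 11894), (7682, 11900), (7683, 4602), (7684, 11902), (7685, 11903), (7686, 7849), (7687, 7647), (7688, 10354), (7689, 4603), (7690, 11732), (7691, 11909), (7692, 7947), (7693, 4605), (7694, 11912), (7695, 4620), (7696, 4608), (7697, 4609), (7698, 11916), (7699, 7510), (7700, 11917), (7701, 11923), (7702, 4610), (7703, 6400), (7704, 11928), (7705, 7661), (7706, 4612), (7707, 7898), (7708, 7626), (7709, 11936), (7710, 4615), (7711, 11832), (7712, 7772), (7713, 7773), (7714, 11942), (7715, 7879), (7716, 11946), (7717, 4617), (7718, 4618), (7719, 11911), (7720, 11913), (7721, 11914), (7722, 11956), (7723, 4624), (7724, 4626), (7725, 7727), (7726, 11957), (7727, 7725), (7728, 6717), (7729, 6731), (7730, 10673), (7731, 11963), (7732, 4627), (7733, 11860), (7734, 4629), (7735, 7519), (7736, 7826), (7737, 6402), (7738, 4632), (7739, 7869), (7740, 11514), (7741, 4633), (7742,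 11970), (7743, 11931)]
    ⟨e3 q7680 (flp_f L122036) q4597, e3 q7681 (flp_f L173018) q11894, e3 q7682 L173042 q11900, e3 q7683 L122056 q4602, e3 q7684 (flp_f L173060) q11902, e3 q7685 (flp_f L173070) q11903, e3 q7686 L166013 q7849, e3 q7687 L171894 q7647, e3 q7688 L161621 q10354, e3 q7689 (flp_f L122074) q4603, e3 q7690 (flp_f L171890) q11732, e3 q7691 L173122 q11909, e3 q7692 L123468 q7947, e3 q7693 (flp_f L122094) q4605, e3 q7694 (flp_f L173144) q11912, e3 q7695 L122104 q4620, e3 q7696 L122108 q4608, e3 q7697 L122112 q4609, e3 q7698 (flp_f L173168) q11916, e3 q7699 L122122 q7510, e3 q7700 (flp_f L173178) q11917, e3 q7701 L173238 q11923, e3 q7702 (flp_f L122134) q4610, e3 q7703 L122144 q6400, e3 q7704 L173280 q11928, e3 q7705 (flp_f L163995) q7661, e3 q7706 (flp_f L122152) q4612, e3 q7707 (flp_f L163881) q7898, e3 q7708 L151191 q7626, e3 q7709 L173331 q11936, e3 q7710 (flp_f L122170) q4615, e3 q7711 (flp_f L172551) q11832, e3 q7712 L122474 q7772, e3 q7713 L122482 q7773, e3 q7714 L173363 q11942, e3 q7715 L123099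 q7879, e3 q7716 L173383 q11946, e3 q7717 (flp_f L122206) q4617, e3 q7718 (flp_f L122210) q4618, e3 q7719 (flp_f L173138) q11911, e3 q7720 (flp_f L173150) q11913, e3 q7721 (flp_f L173156) q11914, e3 q7722 L173449 q11956, e3 q7723 L122230 q4624, e3 q7724 L122234 q4626, e3 q7725 (flp_f L122252) q7727, e3 q7726 (flp_f L173463) q11957, e3 q7727 L122252 q7725, e3 q7728 (flp_f L163491) q6717, e3 q7729 L163576 q6731, e3 q7730 (flp_f L164801) q10673, e3 q7731 L173518 q11963, e3 q7732 (flp_f L122266) q4627, e3 q7733 (flp_f L172769) q11860, e3 q7734 (flp_f L122280) q4629, e3 q7735 L122292 q7519, e3 q7736 L122838 q7826, e3 q7737 L163937 q6402, e3 q7738 (flp_f L122302) q4632, e3 q7739 L164003 q7869, e3 q7740 L170440 q11514, e3 q7741 (flp_f L122314) q4633, e3 q7742 (flp_f L173574) q11970, e3 q7743 (flp_f L173306) q11931, trivial⟩ (by decide +kernel)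

theorem ce_f_121 : ∀ r, r < 64 → sm gf (Qf (7744 + r)) = Qf (tab Gen.f (7744 + r)) :=
  edges_tab (sm gf) Qf (tab Gen.f) 7744 [(7744, 4646), (7745, 11684), (7746, 11706), (7747, 4638), (7748, 7754), (7749, 11705), (7750, 11986), (7751, 4639), (7752, 11989), (7753, 4645), (7754, 7748), (7755, 4641), (7756, 11994), (7757, 11997), (7758, 4642), (7759, 4643), (7760, 11990), (7761, 11999), (7762, 11977), (7763, 12004), (7764, 12008), (7765, 12011), (7766, 4647), (7767, 12014), (7768, 12016), (7769, 4648), (7770, 12018), (7771, 4649), (7772, 7712), (7773, 7713), (7774, 12023), (7775, 12025), (7776, 12027), (7777, 4653), (7778, 6813), (7779, 6811), (7780, 4655), (7781, 9388), (7782, 7660), (7783, 4662), (7784, 5562), (7785, 4660), (7786, 9139), (7787, 5187), (7788, 12031), (7789, 11976), (7790, 12042), (7791, 12043), (7792, 5580), (7793, 4688), (7794, 4689), (7795, 7631), (7796, 10305), (7797, 12052), (7798, 12054), (7799, 4669), (7800, 7810), (7801, 7801), (7802, 11689), (7803, 12060), (7804, 12061), (7805, 4672), (7806,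 12064), (7807, 4673)]
    ⟨e3 q7744 L122336 q4646, e3 q7745 (flp_f L171508) q11684, e3 q7746 (flp_f L171682) q11706, e3 q7747 (flp_f L122348) q4638, e3 q7748 L122376 q7754, e3 q7749 (flp_f L171672) q11705, e3 q7750 L173671 q11986, e3 q7751 (flp_f L122362) q4639, e3 q7752 L173687 q11989, e3 q7753 L122372 q4645, e3 q7754 (flp_f L122376) q7748, e3 q7755 (flp_f L122378) q4641, e3 q7756 L173719 q11994, e3 q7757 L173733 q11997, e3 q7758 (flp_f L122394) q4642, e3 q7759 (flp_f L122404) q4643, e3 q7760 (flp_f L173701) q11990, e3 q7761 L173757 q11999, e3 q7762 (flp_f L173621) q11977, e3 q7763 L173781 q12004, e3 q7764 L173801 q12008, e3 q7765 L173813 q12011, e3 q7766 (flp_f L122436) q4647, e3 q7767 L173831 q12014, e3 q7768 L173845 q12016, e3 q7769 (flp_f L122450) q4648, e3 q7770 L173855 q12018, e3 q7771 (flp_f L122460) q4649, e3 q7772 (flp_f L122474) q7712, e3 q7773 (flp_f L122482) q7713, e3 q7774 (flp_f L183413) q12023, e3 q7775 L173897 q12025, e3 q7776 L173909 q12027, e3 q7777 (flp_f L122494) q4653, e3 q7778 (flp_f L163669)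 q6813, e3 q7779 (flp_f L163774) q6811, e3 q7780 (flp_f L122508) q4655, e3 q7781 L155036 q9388, e3 q7782 L122526 q7660, e3 q7783 L122547 q4662, e3 q7784 (flp_f L150438) q5562, e3 q7785 (flp_f L122567) q4660, e3 q7786 (flp_f L153141) q9139, e3 q7787 (flp_f L150397) q5187, e3 q7788 (flp_f L173943) q12031, e3 q7789 L173617 q11976, e3 q7790 L174014 q12042, e3 q7791 L174024 q12043, e3 q7792 L150972 q5580, e3 q7793 L122621 q4688, e3 q7794 L122627 q4689, e3 q7795 (flp_f L122635) q7631, e3 q7796 L161282 q10305, e3 q7797 L174098 q12052, e3 q7798 L174119 q12054, e3 q7799 (flp_f L122660) q4669, e3 q7800 L122722 q7810, e3 q7801 L122674 q7801, e3 q7802 L171544 q11689, e3 q7803 L174164 q12060, e3 q7804 L174172 q12061, e3 q7805 (flp_f L122696) q4672, e3 q7806 L174202 q12064, e3 q7807 (flp_f L122704) q4673, trivial⟩ (by decide +kernel)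

theorem ce_f_122 : ∀ r, r < 64 → sm gf (Qf (7808 + r)) = Qf (tab Gen.f (7808 + r)) :=
  edges_tab (sm gf) Qf (tab Gen.f) 7808 [(7808, 12067), (7809, 4683), (7810, 7800), (7811, 4675), (7812, 4684), (7813, 4685), (7814, 11775), (7815, 4680), (7816, 12065), (7817, 12068), (7818, 12078), (7819, 12059), (7820, 12071), (7821, 7518), (7822, 12072), (7823, 7952), (7824, 4686), (7825, 7448), (7826, 7736), (7827, 12047), (7828, 12048), (7829, 12049), (7830, 10328), (7831, 12091), (7832, 12092), (7833, 4691), (7834, 7834), (7835, 4693), (7836, 7836), (7837, 7583), (7838, 7838), (7839, 7839), (7840, 7677), (7841, 7674), (7842, 4793), (7843, 4794), (7844, 7994), (7845, 12106), (7846, 12109), (7847, 11726), (7848, 12111), (7849, 7686), (7850, 4702), (7851, 12070), (7852, 5183), (7853, 4703), (7854, 12113), (7855, 8548), (7856, 4801), (7857, 4803), (7858, 4804), (7859, 12121), (7860, 7866), (7861, 10404), (7862, 12124), (7863, 4708), (7864, 12127), (7865, 4709), (7866, 7860), (7867, 9815), (7868, 12133), (7869, 7739), (7870,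 4712), (7871, 7546)]
    ⟨e3 q7808 L174228 q12067, e3 q7809 L122716 q4683, e3 q7810 (flp_f L122722) q7800, e3 q7811 (flp_f L122724) q4675, e3 q7812 L122734 q4684, e3 q7813 L122738 q4685, e3 q7814 (flp_f L172184) q11775, e3 q7815 (flp_f L122768) q4680, e3 q7816 (flp_f L174216) q12065, e3 q7817 (flp_f L174242) q12068, e3 q7818 L174318 q12078, e3 q7819 (flp_f L174156) q12059, e3 q7820 (flp_f L174262) q12071, e3 q7821 (flp_f L151085) q7518, e3 q7822 (flp_f L174274) q12072, e3 q7823 L163685 q7952, e3 q7824 (flp_f L122818) q4686, e3 q7825 L122826 q7448, e3 q7826 (flp_f L122838) q7736, e3 q7827 (flp_f L174062) q12047, e3 q7828 (flp_f L174072) q12048, e3 q7829 (flp_f L174082) q12049, e3 q7830 (flp_f L161436) q10328, e3 q7831 L174412 q12091, e3 q7832 L174424 q12092, e3 q7833 (flp_f L122863) q4691, e3 q7834 L122875 q7834, e3 q7835 (flp_f L122878) q4693, e3 q7836 L122886 q7836, e3 q7837 (flp_f L122895) q7583, e3 q7838 L122899 q7838, e3 q7839 L122902 q7839, e3 q7840 L149774 q7677, e3 q7841 (flp_f L149810) q7674, e3 q7842 L122913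 q4793, e3 q7843 L122919 q4794, e3 q7844 (flp_f L149452) q7994, e3 q7845 L174553 q12106, e3 q7846 L174577 q12109, e3 q7847 (flp_f L171828) q11726, e3 q7848 L174595 q12111, e3 q7849 (flp_f L166013) q7686, e3 q7850 (flp_f L122959) q4702, e3 q7851 (flp_f L174252) q12070, e3 q7852 (flp_f L123802) q5183, e3 q7853 (flp_f L122969) q4703, e3 q7854 L174619 q12113, e3 q7855 (flp_f L143671) q8548, e3 q7856 L122981 q4801, e3 q7857 L122985 q4803, e3 q7858 L122991 q4804, e3 q7859 L174673 q12121, e3 q7860 L123041 q7866, e3 q7861 L161946 q10404, e3 q7862 L174697 q12124, e3 q7863 (flp_f L123017) q4708, e3 q7864 L174731 q12127, e3 q7865 (flp_f L123033) q4709, e3 q7866 (flp_f L123041) q7860, e3 q7867 L158057 q9815, e3 q7868 L174795 q12133, e3 q7869 (flp_f L164003) q7739, e3 q7870 (flp_f L123055) q4712, e3 q7871 (flp_f L123065) q7546, trivial⟩ (by decide +kernel)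

theorem ce_f_123 : ∀ r, r < 64 → sm gf (Qf (7872 + r)) = Qf (tab Gen.f (7872 + r)) :=
  edges_tab (sm gf) Qf (tab Gen.f) 7872 [(7872, 12138), (7873, 12141), (7874, 4715), (7875, 12143), (7876, 4742), (7877, 12146), (7878, 4747), (7879, 7715), (7880, 7916), (7881, 12153), (7882, 12156), (7883, 12158), (7884, 4720), (7885, 7894), (7886, 6808), (7887, 4722), (7888, 10759), (7889, 4724), (7890, 10758), (7891, 12164), (7892, 4726), (7893, 12128), (7894, 7885), (7895, 12168), (7896, 4729), (7897, 12170), (7898, 7707), (7899, 4732), (7900, 11925), (7901, 7247), (7902, 12172), (7903, 11815), (7904, 7483), (7905, 12177), (7906, 12179), (7907, 4738), (7908, 7913), (7909, 12182), (7910, 12183), (7911, 4739), (7912, 12186), (7913, 7908), (7914, 12187), (7915, 4741), (7916, 7880), (7917, 10398), (7918, 4744), (7919, 11699), (7920, 12193), (7921, 12196), (7922, 4746), (7923, 12199), (7924, 12148), (7925, 12202), (7926, 4748), (7927, 4749), (7928, 10484), (7929, 10534), (7930, 10535), (7931, 12211), (7932, 6498), (7933, 6499),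 (7934, 7569), (7935, 8334)]
    ⟨e3 q7872 L174838 q12138, e3 q7873 L174848 q12141, e3 q7874 (flp_f L123073) q4715, e3 q7875 L174860 q12143, e3 q7876 L123083 q4742, e3 q7877 L174872 q12146, e3 q7878 L123091 q4747, e3 q7879 (flp_f L123099) q7715, e3 q7880 (flp_f L123285) q7916, e3 q7881 L174904 q12153, e3 q7882 L174916 q12156, e3 q7883 L174940 q12158, e3 q7884 (flp_f L123115) q4720, e3 q7885 L123165 q7894, e3 q7886 (flp_f L163818) q6808, e3 q7887 (flp_f L123129) q4722, e3 q7888 L165436 q10759, e3 q7889 (flp_f L123139) q4724, e3 q7890 L165426 q10758, e3 q7891 L175005 q12164, e3 q7892 (flp_f L123151) q4726, e3 q7893 (flp_f L174751) q12128, e3 q7894 (flp_f L123165) q7885, e3 q7895 L175033 q12168, e3 q7896 (flp_f L123175) q4729, e3 q7897 L175053 q12170, e3 q7898 L163881 q7707, e3 q7899 (flp_f L123197) q4732, e3 q7900 (flp_f L173262) q11925, e3 q7901 L163977 q7247, e3 q7902 (flp_f L175081) q12172, e3 q7903 L172458 q11815, e3 q7904 L123231 q7483, e3 q7905 L175116 q12177, e3 q7906 L175126 q12179, e3 q7907 (flp_f L123243)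 q4738, e3 q7908 L123267 q7913, e3 q7909 L175146 q12182, e3 q7910 L175158 q12183, e3 q7911 (flp_f L123257) q4739, e3 q7912 L175174 q12186, e3 q7913 (flp_f L123267) q7908, e3 q7914 L175186 q12187, e3 q7915 (flp_f L123273) q4741, e3 q7916 L123285 q7880, e3 q7917 (flp_f L161914) q10398, e3 q7918 (flp_f L123297) q4744, e3 q7919 (flp_f L171628) q11699, e3 q7920 L175222 q12193, e3 q7921 L175238 q12196, e3 q7922 (flp_f L123313) q4746, e3 q7923 L175256 q12199, e3 q7924 (flp_f L174882) q12148, e3 q7925 L175270 q12202, e3 q7926 (flp_f L123331) q4748, e3 q7927 (flp_f L123341) q4749, e3 q7928 (flp_f L162472) q10484, e3 q7929 (flp_f L162788) q10534, e3 q7930 (flp_f L162806) q10535, e3 q7931 L175326 q12211, e3 q7932 L123367 q6498, e3 q7933 L123371 q6499, e3 q7934 (flp_f L123377) q7569, e3 q7935 (flp_f L129751) q8334, trivial⟩ (by decide +kernel)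

theorem ce_f_124 : ∀ r, r < 64 → sm gf (Qf (7936 + r)) = Qf (tab Gen.f (7936 + r)) :=
  edges_tab (sm gf) Qf (tab Gen.f) 7936 [(7936, 4755), (7937, 8336), (7938, 12215), (7939, 7501), (7940, 9455), (7941, 9475), (7942, 4761), (7943, 5144), (7944, 7945), (7945, 7944), (7946, 4766), (7947, 7692), (7948, 12221), (7949, 11924), (7950, 12224), (7951, 4769), (7952, 7823), (7953, 4770), (7954, 11870), (7955, 4777), (7956, 9851), (7957, 4772), (7958, 7963), (7959, 11783), (7960, 12230), (7961, 4773), (7962, 12090), (7963, 7958), (7964, 4775), (7965, 12233), (7966, 8057), (7967, 12237), (7968, 4778), (7969, 12241), (7970, 9008), (7971, 12246), (7972, 4779), (7973, 7981), (7974, 12239), (7975, 10359), (7976, 9009), (7977, 8731), (7978, 12254), (7979, 4783), (7980, 12256), (7981, 7973), (7982, 4785), (7983, 12260), (7984, 6058), (7985, 12265), (7986, 4788), (7987, 7991), (7988, 12268), (7989, 4789), (7990, 12271), (7991, 7987), (7992, 4791), (7993, 12272), (7994, 7844), (7995, 12273), (7996, 4795), (7997, 4797), (7998, 5625),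 (7999, 4798)]
    ⟨e3 q7936 (flp_f L123391) q4755, e3 q7937 (flp_f L129775) q8336, e3 q7938 L175358 q12215, e3 q7939 L123408 q7501, e3 q7940 (flp_f L155548) q9455, e3 q7941 L155712 q9475, e3 q7942 (flp_f L123422) q4761, e3 q7943 L123438 q5144, e3 q7944 (flp_f L123448) q7945, e3 q7945 L123448 q7944, e3 q7946 (flp_f L123450) q4766, e3 q7947 (flp_f L123468) q7692, e3 q7948 L175406 q12221, e3 q7949 (flp_f L173252) q11924, e3 q7950 L175418 q12224, e3 q7951 (flp_f L123480) q4769, e3 q7952 (flp_f L163685) q7823, e3 q7953 (flp_f L123490) q4770, e3 q7954 (flp_f L172835) q11870, e3 q7955 L123502 q4777, e3 q7956 L163793 q9851, e3 q7957 (flp_f L123512) q4772, e3 q7958 L123544 q7963, e3 q7959 (flp_f L172245) q11783, e3 q7960 L175499 q12230, e3 q7961 (flp_f L123530) q4773, e3 q7962 (flp_f L174408) q12090, e3 q7963 (flp_f L123544) q7958, e3 q7964 (flp_f L123546) q4775, e3 q7965 L175517 q12233, e3 q7966 (flp_f L124235) q8057, e3 q7967 L175535 q12237, e3 q7968 (flp_f L123568) q4778, e3 q7969 L175565 q12241, e3 q7970 (flp_f L152224)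 q9008, e3 q7971 L175595 q12246, e3 q7972 (flp_f L123580) q4779, e3 q7973 L123624 q7981, e3 q7974 (flp_f L175551) q12239, e3 q7975 (flp_f L161649) q10359, e3 q7976 (flp_f L152230) q9009, e3 q7977 L144951 q8731, e3 q7978 L175637 q12254, e3 q7979 (flp_f L123610) q4783, e3 q7980 L175651 q12256, e3 q7981 (flp_f L123624) q7973, e3 q7982 (flp_f L123626) q4785, e3 q7983 L175683 q12260, e3 q7984 L123638 q6058, e3 q7985 L175723 q12265, e3 q7986 (flp_f L123646) q4788, e3 q7987 L123668 q7991, e3 q7988 L175737 q12268, e3 q7989 (flp_f L123658) q4789, e3 q7990 L175757 q12271, e3 q7991 (flp_f L123668) q7987, e3 q7992 (flp_f L123670) q4791, e3 q7993 L175765 q12272, e3 q7994 L149452 q7844, e3 q7995 L175773 q12273, e3 q7996 (flp_f L123718) q4795, e3 q7997 (flp_f L123770) q4797, e3 q7998 (flp_f L123788) q5625, e3 q7999 (flp_f L123790) q4798, trivial⟩ (by decide +kernel)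

theorem ce_f_125 : ∀ r, r < 64 → sm gf (Qf (8000 + r)) = Qf (tab Gen.f (8000 + r)) :=
  edges_tab (sm gf) Qf (tab Gen.f) 8000 [(8000, 7513), (8001, 4800), (8002, 12116), (8003, 12118), (8004, 12276), (8005, 4805), (8006, 6591), (8007, 8007), (8008, 8008), (8009, 12130), (8010, 11859), (8011, 4808), (8012, 7657), (8013, 6133), (8014, 11882), (8015, 4810), (8016, 8021), (8017, 12288), (8018, 12289), (8019, 4811), (8020, 7667), (8021, 8016), (8022, 4813), (8023, 12292), (8024, 6135), (8025, 12296), (8026, 4816), (8027, 12300), (8028, 12304), (8029, 12305), (8030, 4817), (8031, 8039), (8032, 7495), (8033, 12044), (8034, 12309), (8035, 12311), (8036, 4820), (8037, 4821), (8038, 12315), (8039, 8031), (8040, 4823), (8041, 12320), (8042, 10517), (8043, 12324), (8044, 4826), (8045, 8049), (8046, 12327), (8047, 4827), (8048, 12330), (8049, 8045), (8050, 4829), (8051, 12332), (8052, 11921), (8053, 6836), (8054, 12335), (8055, 4836), (8056, 8096), (8057, 7966), (8058, 12338), (8059, 6762), (8060, 12340), (8061, 10406), (8062,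 4840), (8063, 12346)]
    ⟨e3 q8000 (flp_f L150680) q7513, e3 q8001 (flp_f L123832) q4800, e3 q8002 (flp_f L174645) q12116, e3 q8003 (flp_f L174659) q12118, e3 q8004 L175803 q12276, e3 q8005 (flp_f L123894) q4805, e3 q8006 L123904 q6591, e3 q8007 L123908 q8007, e3 q8008 L123911 q8008, e3 q8009 (flp_f L174773) q12130, e3 q8010 (flp_f L172757) q11859, e3 q8011 (flp_f L123924) q4808, e3 q8012 L163487 q7657, e3 q8013 L123940 q6133, e3 q8014 L172925 q11882, e3 q8015 (flp_f L123950) q4810, e3 q8016 L124007 q8021, e3 q8017 L175881 q12288, e3 q8018 L175889 q12289, e3 q8019 (flp_f L123993) q4811, e3 q8020 (flp_f L163572) q7667, e3 q8021 (flp_f L124007) q8016, e3 q8022 (flp_f L124009) q4813, e3 q8023 L175907 q12292, e3 q8024 L124023 q6135, e3 q8025 L175925 q12296, e3 q8026 (flp_f L124029) q4816, e3 q8027 L175957 q12300, e3 q8028 L175981 q12304, e3 q8029 L175989 q12305, e3 q8030 (flp_f L124041) q4817, e3 q8031 L124093 q8039, e3 q8032 (flp_f L124059) q7495, e3 q8033 (flp_f L174036) q12044, e3 q8034 L176015 q12309, e3 q8035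 L176021 q12311, e3 q8036 (flp_f L124071) q4820, e3 q8037 (flp_f L124079) q4821, e3 q8038 L176045 q12315, e3 q8039 (flp_f L124093) q8031, e3 q8040 (flp_f L124095) q4823, e3 q8041 L176087 q12320, e3 q8042 (flp_f L162682) q10517, e3 q8043 L176115 q12324, e3 q8044 (flp_f L124115) q4826, e3 q8045 L124137 q8049, e3 q8046 L176129 q12327, e3 q8047 (flp_f L124127) q4827, e3 q8048 L176149 q12330, e3 q8049 (flp_f L124137) q8045, e3 q8050 (flp_f L124139) q4829, e3 q8051 L176169 q12332, e3 q8052 (flp_f L173222) q11921, e3 q8053 L142774 q6836, e3 q8054 L176199 q12335, e3 q8055 (flp_f L124223) q4836, e3 q8056 (flp_f L150988) q8096, e3 q8057 L124235 q7966, e3 q8058 L176237 q12338, e3 q8059 L141030 q6762, e3 q8060 L176262 q12340, e3 q8061 (flp_f L163673) q10406, e3 q8062 (flp_f L124297) q4840, e3 q8063 L176308 q12346, trivial⟩ (by decide +kernel)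

theorem ce_f_126 : ∀ r, r < 64 → sm gf (Qf (8064 + r)) = Qf (tab Gen.f (8064 + r)) :=
  edges_tab (sm gf) Qf (tab Gen.f) 8064 [(8064, 6763), (8065, 8097), (8066, 6147), (8067, 6030), (8068, 4843), (8069, 8073), (8070, 12351), (8071, 4844), (8072, 9755), (8073, 8069), (8074, 4846), (8075, 6464), (8076, 6463), (8077, 5126), (8078, 12359), (8079, 12362), (8080, 4849), (8081, 8091), (8082, 4883), (8083, 12365), (8084, 8128), (8085, 12369), (8086, 4853), (8087, 8132), (8088, 12373), (8089, 4854), (8090, 8129), (8091, 8081), (8092, 12375), (8093, 4857), (8094, 12376), (8095, 12378), (8096, 8056), (8097, 8065), (8098, 10636), (8099, 4865), (8100, 12125), (8101, 6161), (8102, 12382), (8103, 4912), (8104, 12386), (8105, 12390), (8106, 4869), (8107, 12392), (8108, 10717), (8109, 4870), (8110, 9924), (8111, 12394), (8112, 4872), (8113, 8117), (8114, 8913), (8115, 4873), (8116, 12398), (8117, 8113), (8118, 4875), (8119, 12400), (8120, 4877), (8121, 12367), (8122, 12404), (8123, 4878), (8124, 12401), (8125, 12360), (8126, 12409),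 (8127, 4880)]
    ⟨e3 q8064 L142702 q6763, e3 q8065 (flp_f L124606) q8097, e3 q8066 (flp_f L150464) q6147, e3 q8067 L149533 q6030, e3 q8068 (flp_f L124357) q4843, e3 q8069 L124389 q8073, e3 q8070 L176358 q12351, e3 q8071 (flp_f L124375) q4844, e3 q8072 (flp_f L157717) q9755, e3 q8073 (flp_f L124389) q8069, e3 q8074 (flp_f L124391) q4846, e3 q8075 L163324 q6464, e3 q8076 L163346 q6463, e3 q8077 L130478 q5126, e3 q8078 L176434 q12359, e3 q8079 L176460 q12362, e3 q8080 (flp_f L124425) q4849, e3 q8081 L124497 q8091, e3 q8082 L147142 q4883, e3 q8083 L176484 q12365, e3 q8084 (flp_f L148848) q8128, e3 q8085 L176512 q12369, e3 q8086 (flp_f L124471) q4853, e3 q8087 (flp_f L149039) q8132, e3 q8088 L176538 q12373, e3 q8089 (flp_f L124485) q4854, e3 q8090 L148880 q8129, e3 q8091 (flp_f L124497) q8081, e3 q8092 L176558 q12375, e3 q8093 (flp_f L124509) q4857, e3 q8094 L176568 q12376, e3 q8095 L176590 q12378, e3 q8096 L150988 q8056, e3 q8097 L124606 q8065, e3 q8098 L164532 q10636, e3 q8099 (flp_f L124624) q4865, e3 q8100 L174719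 q12125, e3 q8101 L124636 q6161, e3 q8102 (flp_f L176642) q12382, e3 q8103 L124652 q4912, e3 q8104 L176683 q12386, e3 q8105 L176717 q12390, e3 q8106 (flp_f L124678) q4869, e3 q8107 L176729 q12392, e3 q8108 (flp_f L165102) q10717, e3 q8109 (flp_f L124698) q4870, e3 q8110 (flp_f L158740) q9924, e3 q8111 L176745 q12394, e3 q8112 (flp_f L124750) q4872, e3 q8113 L124782 q8117, e3 q8114 (flp_f L151580) q8913, e3 q8115 (flp_f L124768) q4873, e3 q8116 L176791 q12398, e3 q8117 (flp_f L124782) q8113, e3 q8118 (flp_f L124784) q4875, e3 q8119 L176811 q12400, e3 q8120 (flp_f L124806) q4877, e3 q8121 L176506 q12367, e3 q8122 L176847 q12404, e3 q8123 (flp_f L124818) q4878, e3 q8124 (flp_f L176825) q12401, e3 q8125 L176450 q12360, e3 q8126 L176889 q12409, e3 q8127 (flp_f L124864) q4880, trivial⟩ (by decide +kernel)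

theorem ce_f_127 : ∀ r, r < 64 → sm gf (Qf (8128 + r)) = Qf (tab Gen.f (8128 + r)) :=
  edges_tab (sm gf) Qf (tab Gen.f) 8128 [(8128, 8084), (8129, 8090), (8130, 4881), (8131, 12361), (8132, 8087), (8133, 12413), (8134, 4886), (8135, 4888), (8136, 4889), (8137, 12419), (8138, 12415), (8139, 12416), (8140, 12422), (8141, 4890), (8142, 10584), (8143, 12425), (8144, 4892), (8145, 4894), (8146, 8176), (8147, 12427), (8148, 12433), (8149, 12434), (8150, 4895), (8151, 12438), (8152, 4900), (8153, 4901), (8154, 8173), (8155, 12435), (8156, 12446), (8157, 4899), (8158, 12449), (8159, 12441), (8160, 12442), (8161, 12443), (8162, 12456), (8163, 12457), (8164, 4902), (8165, 12423), (8166, 12461), (8167, 12463), (8168, 4905), (8169, 9210), (8170, 6770), (8171, 11885), (8172, 4908), (8173, 8154), (8174, 10318), (8175, 4910), (8176, 8146), (8177, 12385), (8178, 8189), (8179, 4917), (8180, 8185), (8181, 8186), (8182, 12475), (8183, 8194), (8184, 12470), (8185, 8180), (8186, 8181), (8187, 12417), (8188, 12485), (8189, 8178), (8190,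 6420), (8191, 12490)]
    ⟨e3 q8128 L148848 q8084, e3 q8129 (flp_f L148880) q8090, e3 q8130 (flp_f L124878) q4881, e3 q8131 (flp_f L176458) q12361, e3 q8132 L149039 q8087, e3 q8133 L176921 q12413, e3 q8134 (flp_f L125410) q4886, e3 q8135 L125485 q4888, e3 q8136 L125489 q4889, e3 q8137 L176979 q12419, e3 q8138 (flp_f L176945) q12415, e3 q8139 (flp_f L176951) q12416, e3 q8140 L177005 q12422, e3 q8141 (flp_f L125550) q4890, e3 q8142 (flp_f L164105) q10584, e3 q8143 L177029 q12425, e3 q8144 (flp_f L125584) q4892, e3 q8145 L125606 q4894, e3 q8146 L147059 q8176, e3 q8147 (flp_f L177049) q12427, e3 q8148 L177090 q12433, e3 q8149 L177102 q12434, e3 q8150 (flp_f L125656) q4895, e3 q8151 L177132 q12438, e3 q8152 L125723 q4900, e3 q8153 L125727 q4901, e3 q8154 (flp_f L148870) q8173, e3 q8155 L177122 q12435, e3 q8156 L177182 q12446, e3 q8157 (flp_f L125822) q4899, e3 q8158 L177202 q12449, e3 q8159 (flp_f L177154) q12441, e3 q8160 (flp_f L177158) q12442, e3 q8161 (flp_f L177164) q12443, e3 q8162 L177248 q12456, e3 q8163 L177260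 q12457, e3 q8164 (flp_f L125856) q4902, e3 q8165 (flp_f L177021) q12423, e3 q8166 L177299 q12461, e3 q8167 L177314 q12463, e3 q8168 (flp_f L125914) q4905, e3 q8169 (flp_f L153724) q9210, e3 q8170 (flp_f L125926) q6770, e3 q8171 L172953 q11885, e3 q8172 (flp_f L125934) q4908, e3 q8173 L148870 q8154, e3 q8174 L163503 q10318, e3 q8175 (flp_f L126358) q4910, e3 q8176 (flp_f L147059) q8146, e3 q8177 (flp_f L176677) q12385, e3 q8178 (flp_f L149660) q8189, e3 q8179 L148791 q4917, e3 q8180 (flp_f L149656) q8185, e3 q8181 (flp_f L149658) q8186, e3 q8182 L177409 q12475, e3 q8183 L126674 q8194, e3 q8184 (flp_f L177372) q12470, e3 q8185 L149656 q8180, e3 q8186 L149658 q8181, e3 q8187 (flp_f L176965) q12417, e3 q8188 L177477 q12485, e3 q8189 L149660 q8178, e3 q8190 L163513 q6420, e3 q8191 L177503 q12490, trivial⟩ (by decide +kernel)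

theorem ce_f_128 : ∀ r, r < 64 → sm gf (Qf (8192 + r)) = Qf (tab Gen.f (8192 + r)) :=
  edges_tab (sm gf) Qf (tab Gen.f) 8192 [(8192, 4920), (8193, 4927), (8194, 8183), (8195, 12436), (8196, 6035), (8197, 9247), (8198, 4924), (8199, 5664), (8200, 4925), (8201, 12491), (8202, 8202), (8203, 12500), (8204, 8204), (8205, 5084), (8206, 4935), (8207, 12455), (8208, 4938), (8209, 8209), (8210, 12095), (8211, 12503), (8212, 4940), (8213, 8216), (8214, 4942), (8215, 12506), (8216, 8213), (8217, 4944), (8218, 9781), (8219, 12514), (8220, 9773), (8221, 12517), (8222, 12519), (8223, 4948), (8224, 5231), (8225, 12522), (8226, 4961), (8227, 4962), (8228, 8242), (8229, 12526), (8230, 8247), (8231, 10103), (8232, 4953), (8233, 12527), (8234, 12533), (8235, 12536), (8236, 12538), (8237, 4957), (8238, 4960), (8239, 12540), (8240, 12541), (8241, 12548), (8242, 8228), (8243, 10083), (8244, 4963), (8245, 4964), (8246, 4965), (8247, 8230), (8248, 12557), (8249, 8782), (8250, 11071), (8251, 12566), (8252, 8991), (8253, 9836), (8254,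 8900), (8255, 6055)]
    ⟨e3 q8192 (flp_f L126660) q4920, e3 q8193 L126666 q4927, e3 q8194 (flp_f L126674) q8183, e3 q8195 (flp_f L177126) q12436, e3 q8196 L149502 q6035, e3 q8197 L154006 q9247, e3 q8198 (flp_f L126710) q4924, e3 q8199 (flp_f L151236) q5664, e3 q8200 (flp_f L126716) q4925, e3 q8201 (flp_f L177517) q12491, e3 q8202 L142816 q8202, e3 q8203 L177600 q12500, e3 q8204 L128566 q8204, e3 q8205 (flp_f L128605) q5084, e3 q8206 (flp_f L128611) q4935, e3 q8207 L177246 q12455, e3 q8208 (flp_f L128641) q4938, e3 q8209 L128650 q8209, e3 q8210 L174460 q12095, e3 q8211 L177621 q12503, e3 q8212 (flp_f L128669) q4940, e3 q8213 L128715 q8216, e3 q8214 (flp_f L128695) q4942, e3 q8215 L177651 q12506, e3 q8216 (flp_f L128715) q8213, e3 q8217 (flp_f L128723) q4944, e3 q8218 (flp_f L157871) q9781, e3 q8219 L177701 q12514, e3 q8220 (flp_f L157831) q9773, e3 q8221 L177721 q12517, e3 q8222 L177737 q12519, e3 q8223 (flp_f L128759) q4948, e3 q8224 L128769 q5231, e3 q8225 L177769 q12522, e3 q8226 L128785 q4961, e3 q8227 L128795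 q4962, e3 q8228 (flp_f L128897) q8242, e3 q8229 L177797 q12526, e3 q8230 L128957 q8247, e3 q8231 L159970 q10103, e3 q8232 (flp_f L128831) q4953, e3 q8233 (flp_f L177811) q12527, e3 q8234 L177846 q12533, e3 q8235 L177864 q12536, e3 q8236 L177882 q12538, e3 q8237 (flp_f L128857) q4957, e3 q8238 L128871 q4960, e3 q8239 (flp_f L177900) q12540, e3 q8240 (flp_f L177906) q12541, e3 q8241 L177953 q12548, e3 q8242 L128897 q8228, e3 q8243 L159831 q10083, e3 q8244 (flp_f L128909) q4963, e3 q8245 (flp_f L128927) q4964, e3 q8246 (flp_f L128939) q4965, e3 q8247 (flp_f L128957) q8230, e3 q8248 L178024 q12557, e3 q8249 (flp_f L145257) q8782, e3 q8250 (flp_f L167659) q11071, e3 q8251 L178087 q12566, e3 q8252 L152098 q8991, e3 q8253 (flp_f L158183) q9836, e3 q8254 L146102 q8900, e3 q8255 L129036 q6055, trivial⟩ (by decide +kernel)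

theorem ce_f_129 : ∀ r, r < 64 → sm gf (Qf (8256 + r)) = Qf (tab Gen.f (8256 + r)) :=
  edges_tab (sm gf) Qf (tab Gen.f) 8256 [(8256, 4976), (8257, 12568), (8258, 4977), (8259, 6085), (8260, 8888), (8261, 12569), (8262, 8270), (8263, 5633), (8264, 4980), (8265, 5491), (8266, 9218), (8267, 4981), (8268, 9216), (8269, 4982), (8270, 8262), (8271, 8958), (8272, 4984), (8273, 4986), (8274, 4987), (8275, 8278), (8276, 8959), (8277, 12577), (8278, 8275), (8279, 5669), (8280, 9249), (8281, 4988), (8282, 7210), (8283, 8939), (8284, 4990), (8285, 12586), (8286, 5551), (8287, 4991), (8288, 9072), (8289, 5555), (8290, 12587), (8291, 4993), (8292, 4995), (8293, 7292), (8294, 8925), (8295, 12589), (8296, 5407), (8297, 8945), (8298, 10714), (8299, 4996), (8300, 4999), (8301, 5000), (8302, 8308), (8303, 8317), (8304, 12594), (8305, 4998), (8306, 9897), (8307, 7369), (8308, 8302), (8309, 7374), (8310, 11562), (8311, 5001), (8312, 12597), (8313, 12598), (8314, 5002), (8315, 11620), (8316, 5003), (8317, 8303), (8318, 8318), (8319,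 7573)]
    ⟨e3 q8256 (flp_f L129038) q4976, e3 q8257 L178103 q12568, e3 q8258 (flp_f L129056) q4977, e3 q8259 (flp_f L148195) q6085, e3 q8260 L145953 q8888, e3 q8261 L178113 q12569, e3 q8262 L129133 q8270, e3 q8263 L153046 q5633, e3 q8264 (flp_f L129097) q4980, e3 q8265 L129119 q5491, e3 q8266 L153791 q9218, e3 q8267 (flp_f L129109) q4981, e3 q8268 (flp_f L153777) q9216, e3 q8269 (flp_f L129123) q4982, e3 q8270 (flp_f L129133) q8262, e3 q8271 L151908 q8958, e3 q8272 (flp_f L129142) q4984, e3 q8273 L129156 q4986, e3 q8274 L129160 q4987, e3 q8275 (flp_f L129181) q8278, e3 q8276 (flp_f L151920) q8959, e3 q8277 (flp_f L178201) q12577, e3 q8278 L129181 q8275, e3 q8279 (flp_f L153489) q5669, e3 q8280 (flp_f L154021) q9249, e3 q8281 (flp_f L129193) q4988, e3 q8282 L129211 q7210, e3 q8283 (flp_f L151754) q8939, e3 q8284 (flp_f L129219) q4990, e3 q8285 L178297 q12586, e3 q8286 L153059 q5551, e3 q8287 (flp_f L129238) q4991, e3 q8288 (flp_f L152640) q9072, e3 q8289 L151568 q5555, e3 q8290 L178311 q12587, e3 q8291 (flp_f L129265)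 q4993, e3 q8292 L129292 q4995, e3 q8293 (flp_f L148948) q7292, e3 q8294 L151654 q8925, e3 q8295 (flp_f L178335) q12589, e3 q8296 (flp_f L129321) q5407, e3 q8297 L152250 q8945, e3 q8298 (flp_f L165082) q10714, e3 q8299 (flp_f L129330) q4996, e3 q8300 L129342 q4999, e3 q8301 L129354 q5000, e3 q8302 (flp_f L129410) q8308, e3 q8303 L129474 q8317, e3 q8304 L178381 q12594, e3 q8305 (flp_f L129380) q4998, e3 q8306 (flp_f L158539) q9897, e3 q8307 L129398 q7369, e3 q8308 L129410 q8302, e3 q8309 L129418 q7374, e3 q8310 (flp_f L170740) q11562, e3 q8311 (flp_f L129428) q5001, e3 q8312 L178413 q12597, e3 q8313 L178423 q12598, e3 q8314 (flp_f L129448) q5002, e3 q8315 L171138 q11620, e3 q8316 (flp_f L129460) q5003, e3 q8317 (flp_f L129474) q8303, e3 q8318 L129483 q8318, e3 q8319 (flp_f L151152) q7573, trivial⟩ (by decide +kernel)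

theorem ce_f_130 : ∀ r, r < 64 → sm gf (Qf (8320 + r)) = Qf (tab Gen.f (8320 + r)) :=
  edges_tab (sm gf) Qf (tab Gen.f) 8320 [(8320, 6707), (8321, 10468), (8322, 10647), (8323, 12601), (8324, 12602), (8325, 5008), (8326, 5016), (8327, 5018), (8328, 8335), (8329, 8346), (8330, 12604), (8331, 5013), (8332, 6141), (8333, 12605), (8334, 7935), (8335, 8328), (8336, 7937), (8337, 12213), (8338, 5019), (8339, 8552), (8340, 5021), (8341, 12611), (8342, 12613), (8343, 5022), (8344, 12274), (8345, 5024), (8346, 8329), (8347, 9753), (8348, 6127), (8349, 5030), (8350, 5043), (8351, 5044), (8352, 8375), (8353, 6600), (8354, 8385), (8355, 11423), (8356, 5033), (8357, 12619), (8358, 6542), (8359, 5052), (8360, 5054), (8361, 8391), (8362, 12627), (8363, 12629), (8364, 12630), (8365, 5038), (8366, 12632), (8367, 8415), (8368, 12634), (8369, 5040), (8370, 5042), (8371, 12636), (8372, 12637), (8373, 12642), (8374, 10545), (8375, 8352), (8376, 11262), (8377, 12647), (8378, 5045), (8379, 12650), (8380, 5046), (8381, 12652), (8382,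 5047), (8383, 5048)]
    ⟨e3 q8320 L129508 q6707, e3 q8321 (flp_f L162370) q10468, e3 q8322 (flp_f L164613) q10647, e3 q8323 L178461 q12601, e3 q8324 L178475 q12602, e3 q8325 (flp_f L129655) q5008, e3 q8326 L129667 q5016, e3 q8327 L129678 q5018, e3 q8328 (flp_f L129763) q8335, e3 q8329 L129840 q8346, e3 q8330 L178497 q12604, e3 q8331 (flp_f L129714) q5013, e3 q8332 L129735 q6141, e3 q8333 L178507 q12605, e3 q8334 L129751 q7935, e3 q8335 L129763 q8328, e3 q8336 L129775 q7937, e3 q8337 (flp_f L175348) q12213, e3 q8338 (flp_f L129783) q5019, e3 q8339 (flp_f L143699) q8552, e3 q8340 (flp_f L129803) q5021, e3 q8341 L178553 q12611, e3 q8342 L178573 q12613, e3 q8343 (flp_f L129813) q5022, e3 q8344 L175791 q12274, e3 q8345 (flp_f L129830) q5024, e3 q8346 (flp_f L129840) q8329, e3 q8347 (flp_f L157703) q9753, e3 q8348 (flp_f L147521) q6127, e3 q8349 (flp_f L129858) q5030, e3 q8350 L129896 q5043, e3 q8351 L129904 q5044, e3 q8352 (flp_f L130060) q8375, e3 q8353 L148570 q6600, e3 q8354 L130145 q8385, e3 q8355 L169864 q11423,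 e3 q8356 (flp_f L129932) q5033, e3 q8357 (flp_f L178621) q12619, e3 q8358 L129948 q6542, e3 q8359 L129958 q5052, e3 q8360 L129966 q5054, e3 q8361 (flp_f L130188) q8391, e3 q8362 L178669 q12627, e3 q8363 L178679 q12629, e3 q8364 L178689 q12630, e3 q8365 (flp_f L129990) q5038, e3 q8366 L178709 q12632, e3 q8367 L130338 q8415, e3 q8368 L178725 q12634, e3 q8369 (flp_f L130014) q5040, e3 q8370 L130024 q5042, e3 q8371 (flp_f L178739) q12636, e3 q8372 (flp_f L178745) q12637, e3 q8373 L178775 q12642, e3 q8374 (flp_f L162911) q10545, e3 q8375 L130060 q8352, e3 q8376 L168853 q11262, e3 q8377 L178826 q12647, e3 q8378 (flp_f L130078) q5045, e3 q8379 L178850 q12650, e3 q8380 (flp_f L130097) q5046, e3 q8381 L178878 q12652, e3 q8382 (flp_f L130113) q5047, e3 q8383 (flp_f L130123) q5048, trivial⟩ (by decide +kernel)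

theorem ce_f_131 : ∀ r, r < 64 → sm gf (Qf (8384 + r)) = Qf (tab Gen.f (8384 + r)) :=
  edges_tab (sm gf) Qf (tab Gen.f) 8384 [(8384, 5050), (8385, 8354), (8386, 12655), (8387, 12660), (8388, 6627), (8389, 9900), (8390, 12622), (8391, 8361), (8392, 12668), (8393, 8788), (8394, 12671), (8395, 12673), (8396, 5055), (8397, 8406), (8398, 12676), (8399, 5056), (8400, 12677), (8401, 12681), (8402, 12684), (8403, 5058), (8404, 12687), (8405, 5059), (8406, 8397), (8407, 5061), (8408, 12692), (8409, 12694), (8410, 5062), (8411, 12690), (8412, 12698), (8413, 5064), (8414, 5077), (8415, 8367), (8416, 5068), (8417, 5069), (8418, 8422), (8419, 12707), (8420, 12710), (8421, 12703), (8422, 8418), (8423, 12704), (8424, 12717), (8425, 5070), (8426, 8435), (8427, 12722), (8428, 12724), (8429, 5073), (8430, 5343), (8431, 5075), (8432, 12699), (8433, 12701), (8434, 12732), (8435, 8426), (8436, 6611), (8437, 5082), (8438, 9358), (8439, 5085), (8440, 10538), (8441, 6851), (8442, 10828), (8443, 8473), (8444, 5093), (8445, 5677), (8446,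 10614), (8447, 6832)]
    ⟨e3 q8384 L130137 q5050, e3 q8385 (flp_f L130145) q8354, e3 q8386 (flp_f L178913) q12655, e3 q8387 L178955 q12660, e3 q8388 L130170 q6627, e3 q8389 (flp_f L158563) q9900, e3 q8390 (flp_f L178643) q12622, e3 q8391 L130188 q8361, e3 q8392 L179011 q12668, e3 q8393 L145300 q8788, e3 q8394 L179033 q12671, e3 q8395 L179047 q12673, e3 q8396 (flp_f L130210) q5055, e3 q8397 L130276 q8406, e3 q8398 L179065 q12676, e3 q8399 (flp_f L130232) q5056, e3 q8400 (flp_f L179075) q12677, e3 q8401 L179093 q12681, e3 q8402 L179119 q12684, e3 q8403 (flp_f L130250) q5058, e3 q8404 L179139 q12687, e3 q8405 (flp_f L130262) q5059, e3 q8406 (flp_f L130276) q8397, e3 q8407 (flp_f L130284) q5061, e3 q8408 L179177 q12692, e3 q8409 L179189 q12694, e3 q8410 (flp_f L130300) q5062, e3 q8411 (flp_f L179169) q12690, e3 q8412 L179217 q12698, e3 q8413 (flp_f L130320) q5064, e3 q8414 L130328 q5077, e3 q8415 (flp_f L130338) q8367, e3 q8416 L130344 q5068, e3 q8417 L130350 q5069, e3 q8418 (flp_f L130378) q8422, e3 q8419 L179273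 q12707, e3 q8420 L179291 q12710, e3 q8421 (flp_f L179253) q12703, e3 q8422 L130378 q8418, e3 q8423 (flp_f L179259) q12704, e3 q8424 L179343 q12717, e3 q8425 (flp_f L130392) q5070, e3 q8426 (flp_f L130464) q8435, e3 q8427 L179377 q12722, e3 q8428 L179393 q12724, e3 q8429 (flp_f L130416) q5073, e3 q8430 L130428 q5343, e3 q8431 (flp_f L130432) q5075, e3 q8432 (flp_f L179227) q12699, e3 q8433 (flp_f L179241) q12701, e3 q8434 L179453 q12732, e3 q8435 L130464 q8426, e3 q8436 L130539 q6611, e3 q8437 (flp_f L130598) q5082, e3 q8438 L154832 q9358, e3 q8439 (flp_f L130618) q5085, e3 q8440 L162829 q10538, e3 q8441 L130634 q6851, e3 q8442 L165973 q10828, e3 q8443 L143049 q8473, e3 q8444 (flp_f L142847) q5093, e3 q8445 (flp_f L142861) q5677, e3 q8446 (flp_f L164374) q10614, e3 q8447 (flp_f L149013) q6832, trivial⟩ (by decide +kernel)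

theorem ce_f_132 : ∀ r, r < 64 → sm gf (Qf (8448 + r)) = Qf (tab Gen.f (8448 + r)) :=
  edges_tab (sm gf) Qf (tab Gen.f) 8448 [(8448, 5099), (8449, 5101), (8450, 10694), (8451, 6536), (8452, 10443), (8453, 12735), (8454, 8461), (8455, 12738), (8456, 5105), (8457, 12739), (8458, 5106), (8459, 12740), (8460, 5107), (8461, 8454), (8462, 10501), (8463, 5109), (8464, 5419), (8465, 5113), (8466, 5114), (8467, 8469), (8468, 12745), (8469, 8467), (8470, 12746), (8471, 12750), (8472, 5115), (8473, 8443), (8474, 12355), (8475, 5119), (8476, 5120), (8477, 5123), (8478, 12395), (8479, 10661), (8480, 8486), (8481, 12354), (8482, 12356), (8483, 6693), (8484, 12753), (8485, 5129), (8486, 8480), (8487, 9472), (8488, 5135), (8489, 5136), (8490, 9668), (8491, 10558), (8492, 12755), (8493, 12758), (8494, 5137), (8495, 8892), (8496, 12759), (8497, 6369), (8498, 6043), (8499, 12578), (8500, 12576), (8501, 5142), (8502, 10258), (8503, 12073), (8504, 8561), (8505, 5145), (8506, 12766), (8507, 8522), (8508, 12189), (8509, 5148), (8510,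 5150), (8511, 12769)]
    ⟨e3 q8448 (flp_f L142885) q5099, e3 q8449 L142897 q5101, e3 q8450 L164975 q10694, e3 q8451 L142915 q6536, e3 q8452 (flp_f L162222) q10443, e3 q8453 L179473 q12735, e3 q8454 L142961 q8461, e3 q8455 L179497 q12738, e3 q8456 (flp_f L142935) q5105, e3 q8457 L179503 q12739, e3 q8458 (flp_f L142943) q5106, e3 q8459 L179513 q12740, e3 q8460 (flp_f L142953) q5107, e3 q8461 (flp_f L142961) q8454, e3 q8462 L162599 q10501, e3 q8463 (flp_f L142967) q5109, e3 q8464 L142999 q5419, e3 q8465 L143003 q5113, e3 q8466 L143007 q5114, e3 q8467 (flp_f L143023) q8469, e3 q8468 (flp_f L179553) q12745, e3 q8469 L143023 q8467, e3 q8470 (flp_f L179561) q12746, e3 q8471 L179591 q12750, e3 q8472 (flp_f L143033) q5115, e3 q8473 (flp_f L143049) q8443, e3 q8474 L176406 q12355, e3 q8475 (flp_f L143073) q5119, e3 q8476 (flp_f L143083) q5120, e3 q8477 L143109 q5123, e3 q8478 (flp_f L176763) q12395, e3 q8479 L164717 q10661, e3 q8480 L143189 q8486, e3 q8481 L176394 q12354, e3 q8482 (flp_f L176412) q12356, e3 q8483 (flp_f L147441)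 q6693, e3 q8484 L179609 q12753, e3 q8485 (flp_f L143177) q5129, e3 q8486 (flp_f L143189) q8480, e3 q8487 (flp_f L155686) q9472, e3 q8488 L143235 q5135, e3 q8489 L143239 q5136, e3 q8490 (flp_f L162897) q9668, e3 q8491 (flp_f L163029) q10558, e3 q8492 (flp_f L179629) q12755, e3 q8493 L179645 q12758, e3 q8494 (flp_f L143287) q5137, e3 q8495 L146060 q8892, e3 q8496 L179655 q12759, e3 q8497 L143309 q6369, e3 q8498 (flp_f L143319) q6043, e3 q8499 (flp_f L178211) q12578, e3 q8500 (flp_f L178189) q12576, e3 q8501 (flp_f L143327) q5142, e3 q8502 (flp_f L160952) q10258, e3 q8503 (flp_f L174284) q12073, e3 q8504 L143761 q8561, e3 q8505 (flp_f L143351) q5145, e3 q8506 (flp_f L179719) q12766, e3 q8507 L143477 q8522, e3 q8508 L175208 q12189, e3 q8509 (flp_f L143367) q5148, e3 q8510 L143373 q5150, e3 q8511 (flp_f L179747) q12769, trivial⟩ (by decide +kernel)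

theorem ce_f_133 : ∀ r, r < 64 → sm gf (Qf (8512 + r)) = Qf (tab Gen.f (8512 + r)) :=
  edges_tab (sm gf) Qf (tab Gen.f) 8512 [(8512, 12770), (8513, 9660), (8514, 12775), (8515, 12776), (8516, 5151), (8517, 10622), (8518, 5152), (8519, 12779), (8520, 12780), (8521, 5154), (8522, 8507), (8523, 12783), (8524, 5161), (8525, 5158), (8526, 12785), (8527, 5159), (8528, 9040), (8529, 8899), (8530, 10570), (8531, 5162), (8532, 5194), (8533, 5195), (8534, 8569), (8535, 12114), (8536, 5171), (8537, 5173), (8538, 8547), (8539, 12405), (8540, 12797), (8541, 12798), (8542, 5169), (8543, 10556), (8544, 12801), (8545, 5170), (8546, 6645), (8547, 8538), (8548, 7855), (8549, 12792), (8550, 11991), (8551, 5174), (8552, 8339), (8553, 6413), (8554, 5528), (8555, 5619), (8556, 5617), (8557, 11471), (8558, 12112), (8559, 6554), (8560, 5184), (8561, 8504), (8562, 12813), (8563, 12814), (8564, 5190), (8565, 5191), (8566, 12788), (8567, 12789), (8568, 10506), (8569, 8534), (8570, 5196), (8571, 8576), (8572, 5529), (8573, 6105), (8574,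 6036), (8575, 5203)]
    ⟨e3 q8512 (flp_f L179755) q12770, e3 q8513 (flp_f L162893) q9660, e3 q8514 L179787 q12775, e3 q8515 L179797 q12776, e3 q8516 (flp_f L143387) q5151, e3 q8517 (flp_f L164438) q10622, e3 q8518 (flp_f L143401) q5152, e3 q8519 L179823 q12779, e3 q8520 L179833 q12780, e3 q8521 (flp_f L143465) q5154, e3 q8522 (flp_f L143477) q8507, e3 q8523 L179861 q12783, e3 q8524 L143499 q5161, e3 q8525 (flp_f L143519) q5158, e3 q8526 L179883 q12785, e3 q8527 (flp_f L143533) q5159, e3 q8528 (flp_f L152446) q9040, e3 q8529 L146072 q8899, e3 q8530 L163125 q10570, e3 q8531 (flp_f L143569) q5162, e3 q8532 L143577 q5194, e3 q8533 L143589 q5195, e3 q8534 (flp_f L143863) q8569, e3 q8535 (flp_f L174633) q12114, e3 q8536 L143599 q5171, e3 q8537 L143611 q5173, e3 q8538 (flp_f L143659) q8547, e3 q8539 (flp_f L176861) q12405, e3 q8540 L179983 q12797, e3 q8541 L179993 q12798, e3 q8542 (flp_f L143627) q5169, e3 q8543 L163011 q10556, e3 q8544 L180015 q12801, e3 q8545 (flp_f L143641) q5170, e3 q8546 (flp_f L143649) q6645, e3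 q8547 L143659 q8538, e3 q8548 L143671 q7855, e3 q8549 (flp_f L179947) q12792, e3 q8550 L173707 q11991, e3 q8551 (flp_f L143689) q5174, e3 q8552 L143699 q8339, e3 q8553 L143705 q6413, e3 q8554 L143715 q5528, e3 q8555 L143727 q5619, e3 q8556 (flp_f L143735) q5617, e3 q8557 L170170 q11471, e3 q8558 (flp_f L174611) q12112, e3 q8559 (flp_f L146082) q6554, e3 q8560 (flp_f L143747) q5184, e3 q8561 (flp_f L143761) q8504, e3 q8562 L180123 q12813, e3 q8563 L180131 q12814, e3 q8564 (flp_f L143817) q5190, e3 q8565 (flp_f L143827) q5191, e3 q8566 (flp_f L179919) q12788, e3 q8567 (flp_f L179927) q12789, e3 q8568 L162641 q10506, e3 q8569 L143863 q8534, e3 q8570 (flp_f L143865) q5196, e3 q8571 (flp_f L150472) q8576, e3 q8572 (flp_f L143887) q5529, e3 q8573 L143893 q6105, e3 q8574 (flp_f L143903) q6036, e3 q8575 (flp_f L143905) q5203, trivial⟩ (by decide +kernel)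

theorem ce_f_134 : ∀ r, r < 64 → sm gf (Qf (8576 + r)) = Qf (tab Gen.f (8576 + r)) :=
  edges_tab (sm gf) Qf (tab Gen.f) 8576 [(8576, 8571), (8577, 9741), (8578, 5204), (8579, 5641), (8580, 5211), (8581, 5209), (8582, 9655), (8583, 8587), (8584, 5212), (8585, 6020), (8586, 12495), (8587, 8583), (8588, 5962), (8589, 5214), (8590, 8594), (8591, 10548), (8592, 12822), (8593, 5223), (8594, 8590), (8595, 12829), (8596, 5218), (8597, 5225), (8598, 5226), (8599, 8613), (8600, 12835), (8601, 8620), (8602, 12836), (8603, 5221), (8604, 12837), (8605, 12823), (8606, 12824), (8607, 12846), (8608, 12849), (8609, 12851), (8610, 5224), (8611, 12855), (8612, 6012), (8613, 8599), (8614, 9732), (8615, 5227), (8616, 12861), (8617, 12863), (8618, 5228), (8619, 5229), (8620, 8601), (8621, 8622), (8622, 8621), (8623, 11184), (8624, 12866), (8625, 11114), (8626, 5232), (8627, 11293), (8628, 12872), (8629, 12875), (8630, 12877), (8631, 5236), (8632, 12881), (8633, 5240), (8634, 12882), (8635, 12883), (8636, 12890), (8637, 8638), (8638,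 8637), (8639, 5241)]
    ⟨e3 q8576 L150472 q8571, e3 q8577 (flp_f L157631) q9741, e3 q8578 (flp_f L143921) q5204, e3 q8579 L143935 q5641, e3 q8580 L144003 q5211, e3 q8581 (flp_f L144029) q5209, e3 q8582 (flp_f L157035) q9655, e3 q8583 (flp_f L150482) q8587, e3 q8584 L149235 q5212, e3 q8585 (flp_f L144055) q6020, e3 q8586 L177570 q12495, e3 q8587 L150482 q8583, e3 q8588 L144083 q5962, e3 q8589 (flp_f L144089) q5214, e3 q8590 L144125 q8594, e3 q8591 L162939 q10548, e3 q8592 L180209 q12822, e3 q8593 L144117 q5223, e3 q8594 (flp_f L144125) q8590, e3 q8595 L180251 q12829, e3 q8596 (flp_f L144133) q5218, e3 q8597 L144147 q5225, e3 q8598 L144161 q5226, e3 q8599 (flp_f L144233) q8613, e3 q8600 L180299 q12835, e3 q8601 L144281 q8620, e3 q8602 L180311 q12836, e3 q8603 (flp_f L144183) q5221, e3 q8604 (flp_f L180327) q12837, e3 q8605 (flp_f L180219) q12823, e3 q8606 (flp_f L180225) q12824, e3 q8607 L180389 q12846, e3 q8608 L180405 q12849, e3 q8609 L180417 q12851, e3 q8610 (flp_f L144211) q5224, e3 q8611 L180447 q12855, e3 q8612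 L144225 q6012, e3 q8613 L144233 q8599, e3 q8614 (flp_f L157565) q9732, e3 q8615 (flp_f L144241) q5227, e3 q8616 L180499 q12861, e3 q8617 L180513 q12863, e3 q8618 (flp_f L144259) q5228, e3 q8619 (flp_f L144269) q5229, e3 q8620 (flp_f L144281) q8601, e3 q8621 (flp_f L144297) q8622, e3 q8622 L144297 q8621, e3 q8623 L168354 q11184, e3 q8624 L180547 q12866, e3 q8625 L167918 q11114, e3 q8626 (flp_f L144329) q5232, e3 q8627 L169041 q11293, e3 q8628 L180587 q12872, e3 q8629 L180601 q12875, e3 q8630 L180617 q12877, e3 q8631 (flp_f L144349) q5236, e3 q8632 L180639 q12881, e3 q8633 L144363 q5240, e3 q8634 (flp_f L180649) q12882, e3 q8635 (flp_f L180653) q12883, e3 q8636 L180689 q12890, e3 q8637 L144385 q8638, e3 q8638 (flp_f L144385) q8637, e3 q8639 (flp_f L144387) q5241, trivial⟩ (by decide +kernel)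

theorem ce_f_135 : ∀ r, r < 64 → sm gf (Qf (8640 + r)) = Qf (tab Gen.f (8640 + r)) :=
  edges_tab (sm gf) Qf (tab Gen.f) 8640 [(8640, 12892), (8641, 5278), (8642, 5281), (8643, 8707), (8644, 12897), (8645, 8652), (8646, 10771), (8647, 5245), (8648, 12563), (8649, 12903), (8650, 5246), (8651, 5247), (8652, 8645), (8653, 7211), (8654, 12907), (8655, 5249), (8656, 11298), (8657, 8759), (8658, 12908), (8659, 5251), (8660, 12635), (8661, 5254), (8662, 5255), (8663, 8666), (8664, 12916), (8665, 10663), (8666, 8663), (8667, 6752), (8668, 5256), (8669, 7099), (8670, 11122), (8671, 12925), (8672, 10933), (8673, 8680), (8674, 11221), (8675, 5260), (8676, 12928), (8677, 12933), (8678, 5262), (8679, 5263), (8680, 8673), (8681, 12937), (8682, 5265), (8683, 12938), (8684, 12553), (8685, 5270), (8686, 5271), (8687, 8690), (8688, 12947), (8689, 12949), (8690, 8687), (8691, 10936), (8692, 5272), (8693, 12954), (8694, 5273), (8695, 8700), (8696, 12958), (8697, 12962), (8698, 5274), (8699, 12966), (8700, 8695), (8701, 12969), (8702,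 5276), (8703, 12972)]
    ⟨e3 q8640 L180713 q12892, e3 q8641 L144405 q5278, e3 q8642 L144411 q5281, e3 q8643 (flp_f L144819) q8707, e3 q8644 L180739 q12897, e3 q8645 L144471 q8652, e3 q8646 (flp_f L165552) q10771, e3 q8647 (flp_f L144435) q5245, e3 q8648 L178072 q12563, e3 q8649 L180773 q12903, e3 q8650 (flp_f L144449) q5246, e3 q8651 (flp_f L144459) q5247, e3 q8652 (flp_f L144471) q8645, e3 q8653 L151704 q7211, e3 q8654 L180813 q12907, e3 q8655 (flp_f L144481) q5249, e3 q8656 L169083 q11298, e3 q8657 L145124 q8759, e3 q8658 L180823 q12908, e3 q8659 (flp_f L144507) q5251, e3 q8660 (flp_f L178733) q12635, e3 q8661 L144519 q5254, e3 q8662 L144525 q5255, e3 q8663 (flp_f L144547) q8666, e3 q8664 L180871 q12916, e3 q8665 (flp_f L164731) q10663, e3 q8666 L144547 q8663, e3 q8667 (flp_f L153469) q6752, e3 q8668 (flp_f L144557) q5256, e3 q8669 L144573 q7099, e3 q8670 (flp_f L167969) q11122, e3 q8671 L180941 q12925, e3 q8672 L166758 q10933, e3 q8673 L144637 q8680, e3 q8674 L168586 q11221, e3 q8675 (flp_f L144601) q5260, e3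 q8676 (flp_f L180969) q12928, e3 q8677 L180989 q12933, e3 q8678 (flp_f L144617) q5262, e3 q8679 (flp_f L144627) q5263, e3 q8680 (flp_f L144637) q8673, e3 q8681 L181011 q12937, e3 q8682 (flp_f L144645) q5265, e3 q8683 (flp_f L181027) q12938, e3 q8684 (flp_f L178001) q12553, e3 q8685 L144671 q5270, e3 q8686 L144677 q5271, e3 q8687 (flp_f L144709) q8690, e3 q8688 L181077 q12947, e3 q8689 L181093 q12949, e3 q8690 L144709 q8687, e3 q8691 (flp_f L166778) q10936, e3 q8692 (flp_f L144721) q5272, e3 q8693 L181129 q12954, e3 q8694 (flp_f L144739) q5273, e3 q8695 L144779 q8700, e3 q8696 L181163 q12958, e3 q8697 L181185 q12962, e3 q8698 (flp_f L144763) q5274, e3 q8699 L181205 q12966, e3 q8700 (flp_f L144779) q8695, e3 q8701 L181235 q12969, e3 q8702 (flp_f L144787) q5276, e3 q8703 L181255 q12972, trivial⟩ (by decide +kernel)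

theorem ce_f_136 : ∀ r, r < 64 → sm gf (Qf (8704 + r)) = Qf (tab Gen.f (8704 + r)) :=
  edges_tab (sm gf) Qf (tab Gen.f) 8704 [(8704, 5277), (8705, 12976), (8706, 9558), (8707, 8643), (8708, 12981), (8709, 12984), (8710, 12986), (8711, 5280), (8712, 12988), (8713, 12991), (8714, 5282), (8715, 8806), (8716, 12996), (8717, 5283), (8718, 12997), (8719, 13003), (8720, 5511), (8721, 13008), (8722, 5286), (8723, 5288), (8724, 13010), (8725, 13011), (8726, 13017), (8727, 13018), (8728, 6553), (8729, 5289), (8730, 13021), (8731, 7977), (8732, 13026), (8733, 5290), (8734, 10568), (8735, 8781), (8736, 5292), (8737, 13028), (8738, 13030), (8739, 5295), (8740, 8746), (8741, 13034), (8742, 13038), (8743, 5296), (8744, 13042), (8745, 5302), (8746, 8740), (8747, 5298), (8748, 13047), (8749, 5299), (8750, 13051), (8751, 13052), (8752, 5300), (8753, 13049), (8754, 13043), (8755, 13044), (8756, 12534), (8757, 5303), (8758, 5345), (8759, 8657), (8760, 5347), (8761, 5348), (8762, 8839), (8763, 13074), (8764, 13077), (8765, 5312),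 (8766, 5314), (8767, 8778)]
    ⟨e3 q8704 (flp_f L144799) q5277, e3 q8705 L181275 q12976, e3 q8706 (flp_f L156332) q9558, e3 q8707 L144819 q8643, e3 q8708 L181309 q12981, e3 q8709 L181333 q12984, e3 q8710 L181345 q12986, e3 q8711 (flp_f L144833) q5280, e3 q8712 L181359 q12988, e3 q8713 L181379 q12991, e3 q8714 (flp_f L144851) q5282, e3 q8715 L145416 q8806, e3 q8716 L181411 q12996, e3 q8717 (flp_f L144873) q5283, e3 q8718 (flp_f L181421) q12997, e3 q8719 L181449 q13003, e3 q8720 (flp_f L151488) q5511, e3 q8721 L181489 q13008, e3 q8722 (flp_f L144897) q5286, e3 q8723 L144907 q5288, e3 q8724 (flp_f L181507) q13010, e3 q8725 (flp_f L181515) q13011, e3 q8726 L181551 q13017, e3 q8727 L181559 q13018, e3 q8728 (flp_f L144933) q6553, e3 q8729 (flp_f L144935) q5289, e3 q8730 L181583 q13021, e3 q8731 (flp_f L144951) q7977, e3 q8732 L181621 q13026, e3 q8733 (flp_f L144957) q5290, e3 q8734 L163107 q10568, e3 q8735 (flp_f L151560) q8781, e3 q8736 (flp_f L144979) q5292, e3 q8737 L181637 q13028, e3 q8738 L181651 q13030, e3 q8739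 (flp_f L145008) q5295, e3 q8740 L145052 q8746, e3 q8741 L181685 q13034, e3 q8742 L181707 q13038, e3 q8743 (flp_f L145030) q5296, e3 q8744 L181727 q13042, e3 q8745 L145046 q5302, e3 q8746 (flp_f L145052) q8740, e3 q8747 (flp_f L145054) q5298, e3 q8748 L181773 q13047, e3 q8749 (flp_f L145066) q5299, e3 q8750 L181793 q13051, e3 q8751 L181803 q13052, e3 q8752 (flp_f L145080) q5300, e3 q8753 (flp_f L181785) q13049, e3 q8754 (flp_f L181741) q13043, e3 q8755 (flp_f L181755) q13044, e3 q8756 L177856 q12534, e3 q8757 (flp_f L145106) q5303, e3 q8758 L145116 q5345, e3 q8759 (flp_f L145124) q8657, e3 q8760 L145130 q5347, e3 q8761 L145136 q5348, e3 q8762 (flp_f L145610) q8839, e3 q8763 L181941 q13074, e3 q8764 L181957 q13077, e3 q8765 L145158 q5312, e3 q8766 L145162 q5314, e3 q8767 (flp_f L145224) q8778, trivial⟩ (by decide +kernel)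

theorem ce_f_137 : ∀ r, r < 64 → sm gf (Qf (8768 + r)) = Qf (tab Gen.f (8768 + r)) :=
  edges_tab (sm gf) Qf (tab Gen.f) 8768 [(8768, 13083), (8769, 13085), (8770, 13087), (8771, 5310), (8772, 13089), (8773, 13091), (8774, 5311), (8775, 12858), (8776, 13095), (8777, 13007), (8778, 8767), (8779, 12833), (8780, 13006), (8781, 8735), (8782, 8249), (8783, 5317), (8784, 13100), (8785, 13102), (8786, 5319), (8787, 8792), (8788, 8393), (8789, 7169), (8790, 5320), (8791, 13108), (8792, 8787), (8793, 5322), (8794, 13113), (8795, 5324), (8796, 13117), (8797, 13119), (8798, 5325), (8799, 13120), (8800, 6565), (8801, 13126), (8802, 5327), (8803, 13130), (8804, 5328), (8805, 5330), (8806, 8715), (8807, 13133), (8808, 13137), (8809, 13131), (8810, 5332), (8811, 8864), (8812, 13141), (8813, 13146), (8814, 13150), (8815, 5333), (8816, 13153), (8817, 8817), (8818, 13156), (8819, 8819), (8820, 5337), (8821, 13159), (8822, 13161), (8823, 5339), (8824, 8829), (8825, 13164), (8826, 13165), (8827, 5340), (8828, 13167), (8829, 8824),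 (8830, 5342), (8831, 13061)]
    ⟨e3 q8768 L181999 q13083, e3 q8769 L182013 q13085, e3 q8770 L182025 q13087, e3 q8771 (flp_f L145184) q5310, e3 q8772 L182041 q13089, e3 q8773 L182059 q13091, e3 q8774 (flp_f L145200) q5311, e3 q8775 (flp_f L180479) q12858, e3 q8776 L182089 q13095, e3 q8777 L181487 q13007, e3 q8778 L145224 q8767, e3 q8779 (flp_f L180283) q12833, e3 q8780 (flp_f L181473) q13006, e3 q8781 L151560 q8735, e3 q8782 L145257 q8249, e3 q8783 (flp_f L145259) q5317, e3 q8784 L182131 q13100, e3 q8785 L182153 q13102, e3 q8786 (flp_f L145278) q5319, e3 q8787 L145330 q8792, e3 q8788 (flp_f L145300) q8393, e3 q8789 (flp_f L145310) q7169, e3 q8790 (flp_f L145312) q5320, e3 q8791 L182207 q13108, e3 q8792 (flp_f L145330) q8787, e3 q8793 (flp_f L145332) q5322, e3 q8794 L182237 q13113, e3 q8795 (flp_f L145346) q5324, e3 q8796 L182265 q13117, e3 q8797 L182275 q13119, e3 q8798 (flp_f L145364) q5325, e3 q8799 (flp_f L182283) q13120, e3 q8800 (flp_f L145378) q6565, e3 q8801 L182313 q13126, e3 q8802 (flp_f L145386) q5327,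 e3 q8803 L182337 q13130, e3 q8804 (flp_f L145398) q5328, e3 q8805 L145408 q5330, e3 q8806 (flp_f L145416) q8715, e3 q8807 (flp_f L182361) q13133, e3 q8808 L182379 q13137, e3 q8809 (flp_f L182345) q13131, e3 q8810 L145436 q5332, e3 q8811 (flp_f L145770) q8864, e3 q8812 (flp_f L182405) q13141, e3 q8813 L182429 q13146, e3 q8814 L182449 q13150, e3 q8815 (flp_f L145458) q5333, e3 q8816 L182464 q13153, e3 q8817 L145471 q8817, e3 q8818 L182478 q13156, e3 q8819 L145480 q8819, e3 q8820 (flp_f L145491) q5337, e3 q8821 L182493 q13159, e3 q8822 L182515 q13161, e3 q8823 (flp_f L145520) q5339, e3 q8824 L145552 q8829, e3 q8825 L182543 q13164, e3 q8826 L182551 q13165, e3 q8827 (flp_f L145540) q5340, e3 q8828 L182565 q13167, e3 q8829 (flp_f L145552) q8824, e3 q8830 (flp_f L145554) q5342, e3 q8831 (flp_f L181865) q13061, trivial⟩ (by decide +kernel)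

theorem ce_f_138 : ∀ r, r < 64 → sm gf (Qf (8832 + r)) = Qf (tab Gen.f (8832 + r)) :=
  edges_tab (sm gf) Qf (tab Gen.f) 8832 [(8832, 5370), (8833, 13063), (8834, 13064), (8835, 13180), (8836, 13183), (8837, 6566), (8838, 13068), (8839, 8762), (8840, 13069), (8841, 13191), (8842, 13193), (8843, 5349), (8844, 13195), (8845, 5350), (8846, 13199), (8847, 5354), (8848, 5355), (8849, 5356), (8850, 13205), (8851, 13209), (8852, 5353), (8853, 13212), (8854, 13200), (8855, 13215), (8856, 13202), (8857, 10121), (8858, 7619), (8859, 13219), (8860, 5359), (8861, 8875), (8862, 5363), (8863, 13225), (8864, 8811), (8865, 13229), (8866, 13232), (8867, 13235), (8868, 5365), (8869, 8880), (8870, 8870), (8871, 13237), (8872, 5367), (8873, 5368), (8874, 6504), (8875, 8861), (8876, 5374), (8877, 13245), (8878, 5376), (8879, 13249), (8880, 8869), (8881, 13254), (8882, 5375), (8883, 13247), (8884, 8949), (8885, 9039), (8886, 12584), (8887, 5378), (8888, 8260), (8889, 8904), (8890, 6688), (8891, 5510), (8892, 8495), (8893, 5382), (8894,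 12575), (8895, 5384)]
    ⟨e3 q8832 (flp_f L145578) q5370, e3 q8833 (flp_f L181881) q13063, e3 q8834 (flp_f L181885) q13064, e3 q8835 L182647 q13180, e3 q8836 L182663 q13183, e3 q8837 (flp_f L151453) q6566, e3 q8838 (flp_f L181909) q13068, e3 q8839 L145610 q8762, e3 q8840 (flp_f L181917) q13069, e3 q8841 L182711 q13191, e3 q8842 L182729 q13193, e3 q8843 (flp_f L145630) q5349, e3 q8844 L182745 q13195, e3 q8845 (flp_f L145644) q5350, e3 q8846 L182775 q13199, e3 q8847 L145662 q5354, e3 q8848 L145668 q5355, e3 q8849 L145672 q5356, e3 q8850 L182811 q13205, e3 q8851 L182835 q13209, e3 q8852 (flp_f L145686) q5353, e3 q8853 L182852 q13212, e3 q8854 (flp_f L182787) q13200, e3 q8855 L182868 q13215, e3 q8856 (flp_f L182799) q13202, e3 q8857 L160092 q10121, e3 q8858 L145728 q7619, e3 q8859 L182889 q13219, e3 q8860 (flp_f L145734) q5359, e3 q8861 (flp_f L145864) q8875, e3 q8862 L145756 q5363, e3 q8863 L182932 q13225, e3 q8864 L145770 q8811, e3 q8865 L182958 q13229, e3 q8866 L182973 q13232, e3 q8867 L182991 q13235, e3 q8868 (flp_f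 L145787) q5365, e3 q8869 L222829 q8880, e3 q8870 L145800 q8870, e3 q8871 L183012 q13237, e3 q8872 (flp_f L145809) q5367, e3 q8873 (flp_f L145833) q5368, e3 q8874 (flp_f L150411) q6504, e3 q8875 L145864 q8861, e3 q8876 L145876 q5374, e3 q8877 L183077 q13245, e3 q8878 L145892 q5376, e3 q8879 L183109 q13249, e3 q8880 (flp_f L222829) q8869, e3 q8881 L183146 q13254, e3 q8882 (flp_f L145911) q5375, e3 q8883 (flp_f L183097) q13247, e3 q8884 (flp_f L151860) q8949, e3 q8885 (flp_f L152438) q9039, e3 q8886 L178275 q12584, e3 q8887 (flp_f L145941) q5378, e3 q8888 (flp_f L145953) q8260, e3 q8889 L146128 q8904, e3 q8890 (flp_f L150764) q6688, e3 q8891 L151131 q5510, e3 q8892 (flp_f L146060) q8495, e3 q8893 (flp_f L145973) q5382, e3 q8894 L178181 q12575, e3 q8895 (flp_f L145989) q5384, trivial⟩ (by decide +kernel)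

theorem ce_f_139 : ∀ r, r < 64 → sm gf (Qf (8896 + r)) = Qf (tab Gen.f (8896 + r)) :=
  edges_tab (sm gf) Qf (tab Gen.f) 8896 [(8896, 5386), (8897, 12570), (8898, 6629), (8899, 8529), (8900, 8254), (8901, 11813), (8902, 5387), (8903, 12567), (8904, 8889), (8905, 5507), (8906, 10720), (8907, 12581), (8908, 13256), (8909, 5392), (8910, 8950), (8911, 5393), (8912, 9005), (8913, 8114), (8914, 8916), (8915, 5400), (8916, 8914), (8917, 8968), (8918, 13258), (8919, 13260), (8920, 13261), (8921, 5403), (8922, 9058), (8923, 12583), (8924, 5595), (8925, 8294), (8926, 13267), (8927, 5408), (8928, 12396), (8929, 9073), (8930, 5413), (8931, 5414), (8932, 5416), (8933, 5417), (8934, 9825), (8935, 12742), (8936, 12743), (8937, 13275), (8938, 12762), (8939, 8283), (8940, 13279), (8941, 5423), (8942, 13280), (8943, 6749), (8944, 6774), (8945, 8297), (8946, 6540), (8947, 5429), (8948, 8955), (8949, 8884), (8950, 8910), (8951, 5432), (8952, 8965), (8953, 10385), (8954, 10447), (8955, 8948), (8956, 13287), (8957, 5435), (8958, 8271),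 (8959, 8276)]
    ⟨e3 q8896 L145995 q5386, e3 q8897 (flp_f L178131) q12570, e3 q8898 L146052 q6629, e3 q8899 (flp_f L146072) q8529, e3 q8900 (flp_f L146102) q8254, e3 q8901 (flp_f L172444) q11813, e3 q8902 (flp_f L146110) q5387, e3 q8903 (flp_f L178099) q12567, e3 q8904 (flp_f L146128) q8889, e3 q8905 (flp_f L151280) q5507, e3 q8906 (flp_f L165118) q10720, e3 q8907 (flp_f L178235) q12581, e3 q8908 L183175 q13256, e3 q8909 (flp_f L146148) q5392, e3 q8910 (flp_f L151910) q8950, e3 q8911 (flp_f L146158) q5393, e3 q8912 (flp_f L152190) q9005, e3 q8913 L151580 q8114, e3 q8914 L151610 q8916, e3 q8915 (flp_f L151602) q5400, e3 q8916 (flp_f L151610) q8914, e3 q8917 (flp_f L151976) q8968, e3 q8918 (flp_f L183195) q13258, e3 q8919 L183205 q13260, e3 q8920 L183221 q13261, e3 q8921 (flp_f L151626) q5403, e3 q8922 (flp_f L152650) q9058, e3 q8923 (flp_f L178255) q12583, e3 q8924 L153495 q5595, e3 q8925 (flp_f L151654) q8294, e3 q8926 L183267 q13267, e3 q8927 (flp_f L151662) q5408, e3 q8928 (flp_f L176775) q12396, e3 q8929 L152646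 q9073, e3 q8930 (flp_f L151694) q5413, e3 q8931 (flp_f L151706) q5414, e3 q8932 (flp_f L151712) q5416, e3 q8933 (flp_f L151720) q5417, e3 q8934 (flp_f L158119) q9825, e3 q8935 (flp_f L179533) q12742, e3 q8936 (flp_f L179537) q12743, e3 q8937 L183307 q13275, e3 q8938 (flp_f L179693) q12762, e3 q8939 L151754 q8283, e3 q8940 L183339 q13279, e3 q8941 (flp_f L151760) q5423, e3 q8942 L183349 q13280, e3 q8943 (flp_f L153459) q6749, e3 q8944 (flp_f L153471) q6774, e3 q8945 (flp_f L152250) q8297, e3 q8946 (flp_f L151812) q6540, e3 q8947 (flp_f L151834) q5429, e3 q8948 L151892 q8955, e3 q8949 L151860 q8884, e3 q8950 L151910 q8910, e3 q8951 (flp_f L151866) q5432, e3 q8952 L151954 q8965, e3 q8953 (flp_f L161832) q10385, e3 q8954 L162248 q10447, e3 q8955 (flp_f L151892) q8948, e3 q8956 L183397 q13287, e3 q8957 (flp_f L151896) q5435, e3 q8958 (flp_f L151908) q8271, e3 q8959 L151920 q8276, trivial⟩ (by decide +kernel)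

theorem ce_f_140 : ∀ r, r < 64 → sm gf (Qf (8960 + r)) = Qf (tab Gen.f (8960 + r)) :=
  edges_tab (sm gf) Qf (tab Gen.f) 8960 [(8960, 10390), (8961, 5437), (8962, 9027), (8963, 9494), (8964, 13292), (8965, 8952), (8966, 13296), (8967, 5441), (8968, 8917), (8969, 13301), (8970, 13303), (8971, 13304), (8972, 5444), (8973, 9017), (8974, 13306), (8975, 5445), (8976, 12307), (8977, 5446), (8978, 13310), (8979, 5448), (8980, 9098), (8981, 5449), (8982, 13300), (8983, 13314), (8984, 9106), (8985, 13317), (8986, 5452), (8987, 5454), (8988, 13319), (8989, 13320), (8990, 13326), (8991, 8252), (8992, 13330), (8993, 5455), (8994, 9783), (8995, 5584), (8996, 13318), (8997, 5460), (8998, 5461), (8999, 9001), (9000, 13336), (9001, 8999), (9002, 11751), (9003, 5462), (9004, 5463), (9005, 8912), (9006, 10456), (9007, 5466), (9008, 7970), (9009, 7976), (9010, 12245), (9011, 12592), (9012, 5472), (9013, 7478), (9014, 5473), (9015, 9023), (9016, 12588), (9017, 8973), (9018, 5476), (9019, 9032), (9020, 13345), (9021, 5477), (9022,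 12205), (9023, 9015)]
    ⟨e3 q8960 (flp_f L161876) q10390, e3 q8961 (flp_f L151932) q5437, e3 q8962 L152372 q9027, e3 q8963 (flp_f L155830) q9494, e3 q8964 L183475 q13292, e3 q8965 (flp_f L151954) q8952, e3 q8966 L183505 q13296, e3 q8967 (flp_f L151960) q5441, e3 q8968 L151976 q8917, e3 q8969 L183531 q13301, e3 q8970 L183559 q13303, e3 q8971 L183571 q13304, e3 q8972 (flp_f L151988) q5444, e3 q8973 (flp_f L152302) q9017, e3 q8974 L183589 q13306, e3 q8975 (flp_f L152004) q5445, e3 q8976 (flp_f L176007) q12307, e3 q8977 (flp_f L152014) q5446, e3 q8978 L183621 q13310, e3 q8979 (flp_f L152024) q5448, e3 q8980 L152808 q9098, e3 q8981 (flp_f L152046) q5449, e3 q8982 L183529 q13300, e3 q8983 L183649 q13314, e3 q8984 L152856 q9106, e3 q8985 L183677 q13317, e3 q8986 (flp_f L152074) q5452, e3 q8987 L152080 q5454, e3 q8988 (flp_f L183695) q13319, e3 q8989 (flp_f L183699) q13320, e3 q8990 L183731 q13326, e3 q8991 (flp_f L152098) q8252, e3 q8992 L183757 q13330, e3 q8993 (flp_f L152102) q5455, e3 q8994 (flp_f L157885) q9783,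 e3 q8995 L152118 q5584, e3 q8996 (flp_f L183691) q13318, e3 q8997 L152128 q5460, e3 q8998 L152132 q5461, e3 q8999 (flp_f L152148) q9001, e3 q9000 (flp_f L183809) q13336, e3 q9001 L152148 q8999, e3 q9002 (flp_f L172009) q11751, e3 q9003 (flp_f L152174) q5462, e3 q9004 (flp_f L152180) q5463, e3 q9005 L152190 q8912, e3 q9006 (flp_f L162317) q10456, e3 q9007 (flp_f L152210) q5466, e3 q9008 L152224 q7970, e3 q9009 L152230 q7976, e3 q9010 (flp_f L175593) q12245, e3 q9011 L178367 q12592, e3 q9012 (flp_f L152240) q5472, e3 q9013 (flp_f L152272) q7478, e3 q9014 (flp_f L152274) q5473, e3 q9015 L152338 q9023, e3 q9016 (flp_f L178325) q12588, e3 q9017 L152302 q8973, e3 q9018 (flp_f L152310) q5476, e3 q9019 L152402 q9032, e3 q9020 L183881 q13345, e3 q9021 (flp_f L152324) q5477, e3 q9022 (flp_f L175292) q12205, e3 q9023 (flp_f L152338) q9015, trivial⟩ (by decide +kernel)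

theorem ce_f_141 : ∀ r, r < 64 → sm gf (Qf (9024 + r)) = Qf (tab Gen.f (9024 + r)) :=
  edges_tab (sm gf) Qf (tab Gen.f) 9024 [(9024, 5479), (9025, 5489), (9026, 5490), (9027, 8962), (9028, 11296), (9029, 13350), (9030, 5483), (9031, 5488), (9032, 9019), (9033, 5485), (9034, 5486), (9035, 13351), (9036, 13353), (9037, 13354), (9038, 13365), (9039, 8885), (9040, 8528), (9041, 10428), (9042, 12572), (9043, 5575), (9044, 5916), (9045, 5577), (9046, 5578), (9047, 6088), (9048, 6563), (9049, 5582), (9050, 9155), (9051, 13376), (9052, 13379), (9053, 13337), (9054, 5498), (9055, 12787), (9056, 13383), (9057, 5499), (9058, 8922), (9059, 9065), (9060, 7601), (9061, 5500), (9062, 11797), (9063, 5501), (9064, 5502), (9065, 9059), (9066, 5504), (9067, 9069), (9068, 5505), (9069, 9067), (9070, 12313), (9071, 5508), (9072, 8288), (9073, 8929), (9074, 5513), (9075, 9079), (9076, 6858), (9077, 5514), (9078, 13390), (9079, 9075), (9080, 5516), (9081, 6329), (9082, 12175), (9083, 10188), (9084, 13395), (9085, 12806), (9086, 5525),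 (9087, 13399)]
    ⟨e3 q9024 (flp_f L152340) q5479, e3 q9025 L152352 q5489, e3 q9026 L152364 q5490, e3 q9027 (flp_f L152372) q8962, e3 q9028 L169063 q11296, e3 q9029 L183929 q13350, e3 q9030 (flp_f L152390) q5483, e3 q9031 L152398 q5488, e3 q9032 (flp_f L152402) q9019, e3 q9033 (flp_f L152404) q5485, e3 q9034 (flp_f L152412) q5486, e3 q9035 (flp_f L183939) q13351, e3 q9036 (flp_f L183957) q13353, e3 q9037 (flp_f L183963) q13354, e3 q9038 L184033 q13365, e3 q9039 L152438 q8885, e3 q9040 L152446 q8528, e3 q9041 L162128 q10428, e3 q9042 (flp_f L178153) q12572, e3 q9043 L152460 q5575, e3 q9044 (flp_f L152470) q5916, e3 q9045 L152476 q5577, e3 q9046 L152480 q5578, e3 q9047 L152490 q6088, e3 q9048 L152494 q6563, e3 q9049 L152502 q5582, e3 q9050 (flp_f L153243) q9155, e3 q9051 L184111 q13376, e3 q9052 L184125 q13379, e3 q9053 (flp_f L183821) q13337, e3 q9054 (flp_f L152520) q5498, e3 q9055 (flp_f L179911) q12787, e3 q9056 L184151 q13383, e3 q9057 (flp_f L152534) q5499, e3 q9058 L152650 q8922, e3 q9059 L152588 q9065, e3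 q9060 (flp_f L155526) q7601, e3 q9061 (flp_f L152558) q5500, e3 q9062 L172340 q11797, e3 q9063 (flp_f L152568) q5501, e3 q9064 (flp_f L152580) q5502, e3 q9065 (flp_f L152588) q9059, e3 q9066 (flp_f L152592) q5504, e3 q9067 L152622 q9069, e3 q9068 (flp_f L152610) q5505, e3 q9069 (flp_f L152622) q9067, e3 q9070 L176037 q12313, e3 q9071 (flp_f L152632) q5508, e3 q9072 L152640 q8288, e3 q9073 (flp_f L152646) q8929, e3 q9074 (flp_f L152652) q5513, e3 q9075 L152690 q9079, e3 q9076 (flp_f L152669) q6858, e3 q9077 (flp_f L152671) q5514, e3 q9078 L184211 q13390, e3 q9079 (flp_f L152690) q9075, e3 q9080 (flp_f L152692) q5516, e3 q9081 L152706 q6329, e3 q9082 (flp_f L175106) q12175, e3 q9083 (flp_f L160560) q10188, e3 q9084 L184240 q13395, e3 q9085 (flp_f L180061) q12806, e3 q9086 (flp_f L152734) q5525, e3 q9087 L184276 q13399, trivial⟩ (by decide +kernel)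

theorem ce_f_142 : ∀ r, r < 64 → sm gf (Qf (9088 + r)) = Qf (tab Gen.f (9088 + r)) :=
  edges_tab (sm gf) Qf (tab Gen.f) 9088 [(9088, 5795), (9089, 6070), (9090, 5527), (9091, 9493), (9092, 9579), (9093, 9094), (9094, 9093), (9095, 5531), (9096, 13402), (9097, 5536), (9098, 8980), (9099, 6526), (9100, 13406), (9101, 5538), (9102, 6568), (9103, 5540), (9104, 13413), (9105, 5546), (9106, 8984), (9107, 5544), (9108, 9110), (9109, 13417), (9110, 9108), (9111, 5545), (9112, 13414), (9113, 13412), (9114, 13423), (9115, 5549), (9116, 13281), (9117, 9209), (9118, 13428), (9119, 12585), (9120, 5550), (9121, 9123), (9122, 12556), (9123, 9121), (9124, 5553), (9125, 10797), (9126, 12559), (9127, 6845), (9128, 5557), (9129, 9133), (9130, 13440), (9131, 5558), (9132, 13442), (9133, 9129), (9134, 5560), (9135, 11406), (9136, 7494), (9137, 5565), (9138, 10496), (9139, 7786), (9140, 13449), (9141, 5569), (9142, 5574), (9143, 5789), (9144, 5571), (9145, 5572), (9146, 13450), (9147, 13368), (9148, 13369), (9149, 13455), (9150, 11415),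 (9151, 13457)]
    ⟨e3 q9088 (flp_f L152742) q5795, e3 q9089 (flp_f L152750) q6070, e3 q9090 (flp_f L152752) q5527, e3 q9091 L155822 q9493, e3 q9092 L156460 q9579, e3 q9093 L152778 q9094, e3 q9094 (flp_f L152778) q9093, e3 q9095 (flp_f L152780) q5531, e3 q9096 (flp_f L184310) q13402, e3 q9097 L152798 q5536, e3 q9098 (flp_f L152808) q8980, e3 q9099 L152812 q6526, e3 q9100 L184352 q13406, e3 q9101 (flp_f L152822) q5538, e3 q9102 L152834 q6568, e3 q9103 (flp_f L152840) q5540, e3 q9104 (flp_f L184396) q13413, e3 q9105 L152848 q5546, e3 q9106 (flp_f L152856) q8984, e3 q9107 L152860 q5544, e3 q9108 (flp_f L152870) q9110, e3 q9109 L184418 q13417, e3 q9110 L152870 q9108, e3 q9111 (flp_f L152872) q5545, e3 q9112 (flp_f L184400) q13414, e3 q9113 (flp_f L184390) q13412, e3 q9114 L184454 q13423, e3 q9115 L152892 q5549, e3 q9116 (flp_f L183357) q13281, e3 q9117 (flp_f L153712) q9209, e3 q9118 L184496 q13428, e3 q9119 L178295 q12585, e3 q9120 (flp_f L152914) q5550, e3 q9121 L152939 q9123, e3 q9122 L178022 q12556, e3 q9123 (flp_f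 L152939) q9121, e3 q9124 (flp_f L152941) q5553, e3 q9125 L165726 q10797, e3 q9126 (flp_f L178044) q12559, e3 q9127 (flp_f L152963) q6845, e3 q9128 (flp_f L153067) q5557, e3 q9129 L153105 q9133, e3 q9130 L184561 q13440, e3 q9131 (flp_f L153086) q5558, e3 q9132 L184581 q13442, e3 q9133 (flp_f L153105) q9129, e3 q9134 (flp_f L153107) q5560, e3 q9135 L169749 q11406, e3 q9136 L153127 q7494, e3 q9137 (flp_f L153129) q5565, e3 q9138 (flp_f L162558) q10496, e3 q9139 L153141 q7786, e3 q9140 L184630 q13449, e3 q9141 (flp_f L153151) q5569, e3 q9142 L153159 q5574, e3 q9143 (flp_f L153165) q5789, e3 q9144 (flp_f L153167) q5571, e3 q9145 (flp_f L153173) q5572, e3 q9146 (flp_f L184646) q13450, e3 q9147 (flp_f L184055) q13368, e3 q9148 (flp_f L184061) q13369, e3 q9149 L184688 q13455, e3 q9150 (flp_f L169807) q11415, e3 q9151 L184706 q13457, trivial⟩ (by decide +kernel)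

theorem ce_f_143 : ∀ r, r < 64 → sm gf (Qf (9152 + r)) = Qf (tab Gen.f (9152 + r)) :=
  edges_tab (sm gf) Qf (tab Gen.f) 9152 [(9152, 5579), (9153, 12045), (9154, 13332), (9155, 9050), (9156, 13463), (9157, 13328), (9158, 13005), (9159, 13467), (9160, 5585), (9161, 9165), (9162, 5586), (9163, 13468), (9164, 5588), (9165, 9161), (9166, 13473), (9167, 13265), (9168, 5590), (9169, 5598), (9170, 13478), (9171, 5600), (9172, 13480), (9173, 13264), (9174, 5594), (9175, 9177), (9176, 12900), (9177, 9175), (9178, 5597), (9179, 13489), (9180, 13490), (9181, 5599), (9182, 5601), (9183, 9184), (9184, 9183), (9185, 5603), (9186, 5822), (9187, 9527), (9188, 7526), (9189, 5655), (9190, 5828), (9191, 13495), (9192, 13496), (9193, 5611), (9194, 13497), (9195, 5644), (9196, 12810), (9197, 5912), (9198, 7570), (9199, 9230), (9200, 6027), (9201, 5833), (9202, 10730), (9203, 6765), (9204, 10839), (9205, 13504), (9206, 13505), (9207, 5629), (9208, 10660), (9209, 9117), (9210, 8169), (9211, 5631), (9212, 13513), (9213, 12571), (9214,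 13515), (9215, 5632)]
    ⟨e3 q9152 (flp_f L153215) q5579, e3 q9153 (flp_f L174044) q12045, e3 q9154 (flp_f L183775) q13332, e3 q9155 L153243 q9050, e3 q9156 L184754 q13463, e3 q9157 L183749 q13328, e3 q9158 (flp_f L181467) q13005, e3 q9159 L184780 q13467, e3 q9160 (flp_f L153267) q5585, e3 q9161 L153301 q9165, e3 q9162 (flp_f L153281) q5586, e3 q9163 (flp_f L184790) q13468, e3 q9164 (flp_f L153287) q5588, e3 q9165 (flp_f L153301) q9161, e3 q9166 L184830 q13473, e3 q9167 (flp_f L183255) q13265, e3 q9168 (flp_f L153311) q5590, e3 q9169 L153321 q5598, e3 q9170 L184870 q13478, e3 q9171 L153333 q5600, e3 q9172 L184888 q13480, e3 q9173 (flp_f L183243) q13264, e3 q9174 (flp_f L153343) q5594, e3 q9175 L153374 q9177, e3 q9176 (flp_f L180759) q12900, e3 q9177 (flp_f L153374) q9175, e3 q9178 (flp_f L153376) q5597, e3 q9179 L184931 q13489, e3 q9180 L184941 q13490, e3 q9181 (flp_f L153394) q5599, e3 q9182 (flp_f L153513) q5601, e3 q9183 L153529 q9184, e3 q9184 (flp_f L153529) q9183, e3 q9185 (flp_f L153531) q5603, e3 q9186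 L153548 q5822, e3 q9187 (flp_f L156068) q9527, e3 q9188 L153566 q7526, e3 q9189 (flp_f L153578) q5655, e3 q9190 L153588 q5828, e3 q9191 L184997 q13495, e3 q9192 L185005 q13496, e3 q9193 (flp_f L153596) q5611, e3 q9194 L185019 q13497, e3 q9195 L153618 q5644, e3 q9196 L180109 q12810, e3 q9197 (flp_f L153636) q5912, e3 q9198 (flp_f L153644) q7570, e3 q9199 (flp_f L153890) q9230, e3 q9200 L153662 q6027, e3 q9201 L153670 q5833, e3 q9202 (flp_f L165202) q10730, e3 q9203 L153682 q6765, e3 q9204 (flp_f L166068) q10839, e3 q9205 L185095 q13504, e3 q9206 L185109 q13505, e3 q9207 (flp_f L153700) q5629, e3 q9208 (flp_f L164711) q10660, e3 q9209 L153712 q9117, e3 q9210 L153724 q8169, e3 q9211 (flp_f L153726) q5631, e3 q9212 L185151 q13513, e3 q9213 (flp_f L178143) q12571, e3 q9214 L185165 q13515, e3 q9215 (flp_f L153763) q5632, trivial⟩ (by decide +kernel)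

theorem ce_f_144 : ∀ r, r < 64 → sm gf (Qf (9216 + r)) = Qf (tab Gen.f (9216 + r)) :=
  edges_tab (sm gf) Qf (tab Gen.f) 9216 [(9216, 8268), (9217, 12532), (9218, 8266), (9219, 5634), (9220, 13519), (9221, 5636), (9222, 9225), (9223, 5638), (9224, 5639), (9225, 9222), (9226, 9464), (9227, 13522), (9228, 5643), (9229, 9474), (9230, 9199), (9231, 5647), (9232, 9722), (9233, 5650), (9234, 9555), (9235, 5658), (9236, 13525), (9237, 13524), (9238, 10823), (9239, 5697), (9240, 5731), (9241, 9749), (9242, 13531), (9243, 5662), (9244, 10772), (9245, 5670), (9246, 12497), (9247, 8197), (9248, 12476), (9249, 8280), (9250, 13539), (9251, 5665), (9252, 9257), (9253, 13542), (9254, 5666), (9255, 5667), (9256, 12580), (9257, 9252), (9258, 5671), (9259, 9260), (9260, 9259), (9261, 13548), (9262, 5673), (9263, 13551), (9264, 9265), (9265, 9264), (9266, 5676), (9267, 5726), (9268, 9342), (9269, 5724), (9270, 10658), (9271, 13555), (9272, 5680), (9273, 10680), (9274, 5721), (9275, 5720), (9276, 9331), (9277, 13556), (9278, 5684),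 (9279, 10753)]
    ⟨e3 q9216 L153777 q8268, e3 q9217 L177844 q12532, e3 q9218 (flp_f L153791) q8266, e3 q9219 (flp_f L153793) q5634, e3 q9220 L185205 q13519, e3 q9221 (flp_f L153806) q5636, e3 q9222 L153852 q9225, e3 q9223 (flp_f L153827) q5638, e3 q9224 (flp_f L153834) q5639, e3 q9225 (flp_f L153852) q9222, e3 q9226 L155632 q9464, e3 q9227 L185229 q13522, e3 q9228 (flp_f L153870) q5643, e3 q9229 (flp_f L155704) q9474, e3 q9230 L153890 q9199, e3 q9231 (flp_f L153894) q5647, e3 q9232 (flp_f L157467) q9722, e3 q9233 (flp_f L153902) q5650, e3 q9234 L156308 q9555, e3 q9235 L153924 q5658, e3 q9236 L185267 q13525, e3 q9237 (flp_f L185263) q13524, e3 q9238 (flp_f L165919) q10823, e3 q9239 L153954 q5697, e3 q9240 L153964 q5731, e3 q9241 (flp_f L157669) q9749, e3 q9242 L185321 q13531, e3 q9243 (flp_f L153972) q5662, e3 q9244 L165562 q10772, e3 q9245 L153984 q5670, e3 q9246 L177585 q12497, e3 q9247 (flp_f L154006) q8197, e3 q9248 (flp_f L177423) q12476, e3 q9249 L154021 q8280, e3 q9250 L185367 q13539, e3 q9251 (flp_f L154029)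 q5665, e3 q9252 L154082 q9257, e3 q9253 L185397 q13542, e3 q9254 (flp_f L154051) q5666, e3 q9255 (flp_f L154061) q5667, e3 q9256 (flp_f L178225) q12580, e3 q9257 (flp_f L154082) q9252, e3 q9258 (flp_f L154092) q5671, e3 q9259 L154106 q9260, e3 q9260 (flp_f L154106) q9259, e3 q9261 L185439 q13548, e3 q9262 (flp_f L154112) q5673, e3 q9263 L185455 q13551, e3 q9264 L154132 q9265, e3 q9265 (flp_f L154132) q9264, e3 q9266 (flp_f L154134) q5676, e3 q9267 L154144 q5726, e3 q9268 (flp_f L154708) q9342, e3 q9269 L154162 q5724, e3 q9270 L164699 q10658, e3 q9271 L185505 q13555, e3 q9272 (flp_f L154178) q5680, e3 q9273 (flp_f L164871) q10680, e3 q9274 L154194 q5721, e3 q9275 L154204 q5720, e3 q9276 L154616 q9331, e3 q9277 L185517 q13556, e3 q9278 (flp_f L154216) q5684, e3 q9279 (flp_f L165378) q10753, trivial⟩ (by decide +kernel)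

theorem ce_f_145 : ∀ r, r < 64 → sm gf (Qf (9280 + r)) = Qf (tab Gen.f (9280 + r)) :=
  edges_tab (sm gf) Qf (tab Gen.f) 9280 [(9280, 9326), (9281, 10656), (9282, 13517), (9283, 13559), (9284, 5691), (9285, 5700), (9286, 9328), (9287, 9292), (9288, 13561), (9289, 10777), (9290, 5695), (9291, 13563), (9292, 9287), (9293, 13510), (9294, 13526), (9295, 5698), (9296, 13560), (9297, 10741), (9298, 9324), (9299, 5701), (9300, 13568), (9301, 6802), (9302, 5702), (9303, 9308), (9304, 13564), (9305, 13571), (9306, 6803), (9307, 10746), (9308, 9303), (9309, 5707), (9310, 9333), (9311, 9315), (9312, 5710), (9313, 5711), (9314, 5715), (9315, 9311), (9316, 13577), (9317, 13578), (9318, 13579), (9319, 13570), (9320, 6723), (9321, 6815), (9322, 6804), (9323, 6718), (9324, 9298), (9325, 10577), (9326, 9280), (9327, 10695), (9328, 9286), (9329, 10627), (9330, 10650), (9331, 9276), (9332, 6725), (9333, 9310), (9334, 10818), (9335, 13587), (9336, 5730), (9337, 10787), (9338, 13550), (9339, 5733), (9340, 6722), (9341, 5734), (9342,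 9268), (9343, 10665)]
    ⟨e3 q9280 L154588 q9326, e3 q9281 (flp_f L164687) q10656, e3 q9282 (flp_f L185189) q13517, e3 q9283 L185539 q13559, e3 q9284 (flp_f L154236) q5691, e3 q9285 L154244 q5700, e3 q9286 (flp_f L154600) q9328, e3 q9287 (flp_f L154290) q9292, e3 q9288 L185559 q13561, e3 q9289 (flp_f L165584) q10777, e3 q9290 (flp_f L154276) q5695, e3 q9291 L185577 q13563, e3 q9292 L154290 q9287, e3 q9293 L185139 q13510, e3 q9294 (flp_f L185285) q13526, e3 q9295 (flp_f L154302) q5698, e3 q9296 (flp_f L185555) q13560, e3 q9297 (flp_f L165302) q10741, e3 q9298 L154574 q9324, e3 q9299 (flp_f L154338) q5701, e3 q9300 L185641 q13568, e3 q9301 (flp_f L154352) q6802, e3 q9302 (flp_f L154354) q5702, e3 q9303 L154394 q9308, e3 q9304 (flp_f L185589) q13564, e3 q9305 (flp_f L185679) q13571, e3 q9306 L154380 q6803, e3 q9307 (flp_f L165338) q10746, e3 q9308 (flp_f L154394) q9303, e3 q9309 (flp_f L154398) q5707, e3 q9310 (flp_f L154636) q9333, e3 q9311 L154450 q9315, e3 q9312 (flp_f L154424) q5710, e3 q9313 (flp_f L154430) q5711,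 e3 q9314 L154440 q5715, e3 q9315 (flp_f L154450) q9311, e3 q9316 (flp_f L185723) q13577, e3 q9317 (flp_f L185735) q13578, e3 q9318 (flp_f L185749) q13579, e3 q9319 (flp_f L185669) q13570, e3 q9320 L154488 q6723, e3 q9321 L154534 q6815, e3 q9322 L154538 q6804, e3 q9323 L154544 q6718, e3 q9324 (flp_f L154574) q9298, e3 q9325 L164055 q10577, e3 q9326 (flp_f L154588) q9280, e3 q9327 (flp_f L164985) q10695, e3 q9328 L154600 q9286, e3 q9329 L164470 q10627, e3 q9330 (flp_f L164645) q10650, e3 q9331 (flp_f L154616) q9276, e3 q9332 L154624 q6725, e3 q9333 L154636 q9310, e3 q9334 (flp_f L165883) q10818, e3 q9335 L185831 q13587, e3 q9336 (flp_f L154656) q5730, e3 q9337 (flp_f L165668) q10787, e3 q9338 L185453 q13550, e3 q9339 (flp_f L154676) q5733, e3 q9340 (flp_f L154688) q6722, e3 q9341 (flp_f L154692) q5734, e3 q9342 L154708 q9268, e3 q9343 L164753 q10665, trivial⟩ (by decide +kernel)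

theorem ce_f_146 : ∀ r, r < 64 → sm gf (Qf (9344 + r)) = Qf (tab Gen.f (9344 + r)) :=
  edges_tab (sm gf) Qf (tab Gen.f) 9344 [(9344, 5735), (9345, 9350), (9346, 13590), (9347, 13586), (9348, 13596), (9349, 5738), (9350, 9345), (9351, 5740), (9352, 6486), (9353, 10865), (9354, 13599), (9355, 9355), (9356, 5751), (9357, 13604), (9358, 8438), (9359, 5753), (9360, 12098), (9361, 9361), (9362, 13608), (9363, 13610), (9364, 5756), (9365, 9365), (9366, 9366), (9367, 13612), (9368, 5760), (9369, 13451), (9370, 13615), (9371, 13397), (9372, 13620), (9373, 5761), (9374, 5774), (9375, 9391), (9376, 13624), (9377, 9399), (9378, 5764), (9379, 13625), (9380, 13631), (9381, 13634), (9382, 13636), (9383, 5768), (9384, 5771), (9385, 13638), (9386, 13639), (9387, 13646), (9388, 7781), (9389, 5773), (9390, 7375), (9391, 9375), (9392, 9957), (9393, 7269), (9394, 5776), (9395, 13649), (9396, 5777), (9397, 12550), (9398, 5778), (9399, 9377), (9400, 5780), (9401, 13647), (9402, 13654), (9403, 9628), (9404, 5783), (9405, 13658), (9406,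 13657), (9407, 13662)]
    ⟨e3 q9344 (flp_f L154718) q5735, e3 q9345 L154762 q9350, e3 q9346 (flp_f L185869) q13590, e3 q9347 (flp_f L185821) q13586, e3 q9348 L185923 q13596, e3 q9349 (flp_f L154750) q5738, e3 q9350 (flp_f L154762) q9345, e3 q9351 (flp_f L154764) q5740, e3 q9352 L154782 q6486, e3 q9353 (flp_f L166286) q10865, e3 q9354 L185949 q13599, e3 q9355 L154809 q9355, e3 q9356 (flp_f L154810) q5751, e3 q9357 L185993 q13604, e3 q9358 (flp_f L154832) q8438, e3 q9359 (flp_f L154834) q5753, e3 q9360 (flp_f L174487) q12098, e3 q9361 L154859 q9361, e3 q9362 L186034 q13608, e3 q9363 L186049 q13610, e3 q9364 (flp_f L154874) q5756, e3 q9365 L154882 q9365, e3 q9366 L154887 q9366, e3 q9367 L186064 q13612, e3 q9368 L154900 q5760, e3 q9369 L184660 q13451, e3 q9370 (flp_f L186085) q13615, e3 q9371 L184260 q13397, e3 q9372 L186125 q13620, e3 q9373 (flp_f L154936) q5761, e3 q9374 L154950 q5774, e3 q9375 (flp_f L155074) q9391, e3 q9376 L186159 q13624, e3 q9377 L155160 q9399, e3 q9378 (flp_f L154974) q5764, e3 q9379 (flp_f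 L186173) q13625, e3 q9380 L186216 q13631, e3 q9381 L186236 q13634, e3 q9382 L186248 q13636, e3 q9383 (flp_f L155000) q5768, e3 q9384 L155010 q5771, e3 q9385 (flp_f L186268) q13638, e3 q9386 (flp_f L186276) q13639, e3 q9387 L186321 q13646, e3 q9388 (flp_f L155036) q7781, e3 q9389 (flp_f L155040) q5773, e3 q9390 (flp_f L155062) q7375, e3 q9391 L155074 q9375, e3 q9392 (flp_f L158971) q9957, e3 q9393 L155092 q7269, e3 q9394 (flp_f L155096) q5776, e3 q9395 L186347 q13649, e3 q9396 (flp_f L155118) q5777, e3 q9397 (flp_f L177975) q12550, e3 q9398 (flp_f L155138) q5778, e3 q9399 (flp_f L155160) q9377, e3 q9400 (flp_f L155162) q5780, e3 q9401 L186337 q13647, e3 q9402 L186390 q13654, e3 q9403 (flp_f L156780) q9628, e3 q9404 (flp_f L155184) q5783, e3 q9405 L186417 q13658, e3 q9406 (flp_f L186415) q13657, e3 q9407 L186451 q13662, trivial⟩ (by decide +kernel)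

theorem ce_f_147 : ∀ r, r < 64 → sm gf (Qf (9408 + r)) = Qf (tab Gen.f (9408 + r)) :=
  edges_tab (sm gf) Qf (tab Gen.f) 9408 [(9408, 5794), (9409, 13352), (9410, 9410), (9411, 5791), (9412, 9419), (9413, 9670), (9414, 5796), (9415, 5798), (9416, 13603), (9417, 5799), (9418, 13664), (9419, 9412), (9420, 5801), (9421, 7455), (9422, 5803), (9423, 9423), (9424, 10830), (9425, 9457), (9426, 13521), (9427, 5808), (9428, 13674), (9429, 13679), (9430, 13682), (9431, 13684), (9432, 5811), (9433, 5813), (9434, 13686), (9435, 13687), (9436, 13694), (9437, 9445), (9438, 13683), (9439, 5814), (9440, 6091), (9441, 13695), (9442, 5815), (9443, 13696), (9444, 5816), (9445, 9437), (9446, 5819), (9447, 5820), (9448, 9451), (9449, 6476), (9450, 10326), (9451, 9448), (9452, 13693), (9453, 13700), (9454, 5821), (9455, 7940), (9456, 10815), (9457, 9425), (9458, 13702), (9459, 5824), (9460, 13500), (9461, 13703), (9462, 5825), (9463, 5826), (9464, 9226), (9465, 6868), (9466, 12418), (9467, 10659), (9468, 5831), (9469, 6745), (9470,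 5834), (9471, 12444)]
    ⟨e3 q9408 L155210 q5794, e3 q9409 L183951 q13352, e3 q9410 L155231 q9410, e3 q9411 (flp_f L155234) q5791, e3 q9412 L155316 q9419, e3 q9413 L157161 q9670, e3 q9414 (flp_f L155260) q5796, e3 q9415 (flp_f L155268) q5798, e3 q9416 L185989 q13603, e3 q9417 (flp_f L155292) q5799, e3 q9418 L186469 q13664, e3 q9419 (flp_f L155316) q9412, e3 q9420 (flp_f L155318) q5801, e3 q9421 (flp_f L155334) q7455, e3 q9422 (flp_f L155336) q5803, e3 q9423 L155350 q9423, e3 q9424 (flp_f L165985) q10830, e3 q9425 (flp_f L155570) q9457, e3 q9426 (flp_f L185225) q13521, e3 q9427 (flp_f L155366) q5808, e3 q9428 (flp_f L186567) q13674, e3 q9429 L186609 q13679, e3 q9430 L186637 q13682, e3 q9431 L186653 q13684, e3 q9432 (flp_f L155390) q5811, e3 q9433 L155400 q5813, e3 q9434 (flp_f L186682) q13686, e3 q9435 (flp_f L186690) q13687, e3 q9436 L186747 q13694, e3 q9437 L155457 q9445, e3 q9438 (flp_f L186651) q13683, e3 q9439 (flp_f L155423) q5814, e3 q9440 L155439 q6091, e3 q9441 L186761 q13695, e3 q9442 (flp_f L155431) q5815,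 e3 q9443 L186771 q13696, e3 q9444 (flp_f L155449) q5816, e3 q9445 (flp_f L155457) q9437, e3 q9446 L155461 q5819, e3 q9447 L155465 q5820, e3 q9448 (flp_f L155480) q9451, e3 q9449 L155486 q6476, e3 q9450 (flp_f L161426) q10326, e3 q9451 L155480 q9448, e3 q9452 L186744 q13693, e3 q9453 L186811 q13700, e3 q9454 (flp_f L155536) q5821, e3 q9455 L155548 q7940, e3 q9456 (flp_f L165857) q10815, e3 q9457 L155570 q9425, e3 q9458 L186833 q13702, e3 q9459 (flp_f L155578) q5824, e3 q9460 (flp_f L185063) q13500, e3 q9461 L186847 q13703, e3 q9462 (flp_f L155608) q5825, e3 q9463 (flp_f L155618) q5826, e3 q9464 (flp_f L155632) q9226, e3 q9465 L155642 q6868, e3 q9466 (flp_f L176977) q12418, e3 q9467 (flp_f L164705) q10659, e3 q9468 (flp_f L155654) q5831, e3 q9469 (flp_f L157473) q6745, e3 q9470 (flp_f L155670) q5834, e3 q9471 (flp_f L177170) q12444, trivial⟩ (by decide +kernel)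

theorem ce_f_148 : ∀ r, r < 64 → sm gf (Qf (9472 + r)) = Qf (tab Gen.f (9472 + r)) :=
  edges_tab (sm gf) Qf (tab Gen.f) 9472 [(9472, 8487), (9473, 6888), (9474, 9229), (9475, 7941), (9476, 9703), (9477, 5839), (9478, 13711), (9479, 13712), (9480, 5840), (9481, 9876), (9482, 13714), (9483, 5844), (9484, 7511), (9485, 5843), (9486, 9683), (9487, 13715), (9488, 5971), (9489, 13717), (9490, 5845), (9491, 5874), (9492, 11004), (9493, 9091), (9494, 8963), (9495, 5895), (9496, 5898), (9497, 5899), (9498, 9561), (9499, 13732), (9500, 9508), (9501, 13736), (9502, 5856), (9503, 13660), (9504, 13742), (9505, 5857), (9506, 13743), (9507, 5858), (9508, 9500), (9509, 5860), (9510, 13747), (9511, 9607), (9512, 13752), (9513, 13753), (9514, 5862), (9515, 6241), (9516, 5865), (9517, 5866), (9518, 9521), (9519, 13764), (9520, 13759), (9521, 9518), (9522, 13760), (9523, 13769), (9524, 5867), (9525, 6479), (9526, 5871), (9527, 9187), (9528, 13492), (9529, 13770), (9530, 13719), (9531, 10867), (9532, 10980), (9533, 6288), (9534, 6287),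 (9535, 5876)]
    ⟨e3 q9472 L155686 q8487, e3 q9473 (flp_f L155698) q6888, e3 q9474 L155704 q9229, e3 q9475 (flp_f L155712) q7941, e3 q9476 (flp_f L157325) q9703, e3 q9477 (flp_f L155720) q5839, e3 q9478 L186933 q13711, e3 q9479 L186941 q13712, e3 q9480 (flp_f L155735) q5840, e3 q9481 (flp_f L158407) q9876, e3 q9482 L186959 q13714, e3 q9483 L155754 q5844, e3 q9484 (flp_f L155760) q7511, e3 q9485 (flp_f L155762) q5843, e3 q9486 L157225 q9683, e3 q9487 (flp_f L186971) q13715, e3 q9488 (flp_f L155785) q5971, e3 q9489 L186983 q13717, e3 q9490 (flp_f L155792) q5845, e3 q9491 L155804 q5874, e3 q9492 L167224 q11004, e3 q9493 (flp_f L155822) q9091, e3 q9494 L155830 q8963, e3 q9495 L155836 q5895, e3 q9496 L155840 q5898, e3 q9497 L155846 q5899, e3 q9498 (flp_f L156358) q9561, e3 q9499 L187097 q13732, e3 q9500 L155910 q9508, e3 q9501 L187127 q13736, e3 q9502 (flp_f L155872) q5856, e3 q9503 L186442 q13660, e3 q9504 L187165 q13742, e3 q9505 (flp_f L155886) q5857, e3 q9506 L187175 q13743, e3 q9507 (flp_f L155898) q5858, e3 q9508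 (flp_f L155910) q9500, e3 q9509 (flp_f L155912) q5860, e3 q9510 L187211 q13747, e3 q9511 L156651 q9607, e3 q9512 L187251 q13752, e3 q9513 L187255 q13753, e3 q9514 (flp_f L155948) q5862, e3 q9515 L155956 q6241, e3 q9516 L155964 q5865, e3 q9517 L155970 q5866, e3 q9518 (flp_f L155998) q9521, e3 q9519 L187331 q13764, e3 q9520 (flp_f L187301) q13759, e3 q9521 L155998 q9518, e3 q9522 (flp_f L187305) q13760, e3 q9523 L187371 q13769, e3 q9524 (flp_f L156010) q5867, e3 q9525 (flp_f L156030) q6479, e3 q9526 L156048 q5871, e3 q9527 L156068 q9187, e3 q9528 (flp_f L184969) q13492, e3 q9529 (flp_f L187387) q13770, e3 q9530 (flp_f L187011) q13719, e3 q9531 L166302 q10867, e3 q9532 L167086 q10980, e3 q9533 L156114 q6288, e3 q9534 (flp_f L156128) q6287, e3 q9535 (flp_f L156130) q5876, trivial⟩ (by decide +kernel)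

theorem ce_f_149 : ∀ r, r < 64 → sm gf (Qf (9536 + r)) = Qf (tab Gen.f (9536 + r)) :=
  edges_tab (sm gf) Qf (tab Gen.f) 9536 [(9536, 9620), (9537, 9613), (9538, 5878), (9539, 10084), (9540, 13499), (9541, 5881), (9542, 13779), (9543, 13781), (9544, 11102), (9545, 5883), (9546, 5887), (9547, 5888), (9548, 9551), (9549, 12819), (9550, 13785), (9551, 9548), (9552, 13782), (9553, 5890), (9554, 12760), (9555, 9234), (9556, 13788), (9557, 5893), (9558, 8706), (9559, 13723), (9560, 13724), (9561, 9498), (9562, 13796), (9563, 13797), (9564, 13799), (9565, 5897), (9566, 13726), (9567, 13803), (9568, 13804), (9569, 5900), (9570, 11605), (9571, 13626), (9572, 9589), (9573, 13815), (9574, 5903), (9575, 5905), (9576, 13452), (9577, 11050), (9578, 13784), (9579, 9092), (9580, 13822), (9581, 5906), (9582, 13398), (9583, 13824), (9584, 13828), (9585, 5907), (9586, 13832), (9587, 13833), (9588, 5909), (9589, 9572), (9590, 13837), (9591, 9594), (9592, 5913), (9593, 5919), (9594, 9591), (9595, 5915), (9596, 13062), (9597, 13841),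 (9598, 13842), (9599, 5917)]
    ⟨e3 q9536 L156733 q9620, e3 q9537 (flp_f L156685) q9613, e3 q9538 (flp_f L156152) q5878, e3 q9539 L159843 q10084, e3 q9540 L185049 q13499, e3 q9541 (flp_f L156182) q5881, e3 q9542 (flp_f L187469) q13779, e3 q9543 L187481 q13781, e3 q9544 (flp_f L167844) q11102, e3 q9545 (flp_f L156210) q5883, e3 q9546 L156222 q5887, e3 q9547 L156234 q5888, e3 q9548 L156272 q9551, e3 q9549 (flp_f L180185) q12819, e3 q9550 L187519 q13785, e3 q9551 (flp_f L156272) q9548, e3 q9552 (flp_f L187493) q13782, e3 q9553 (flp_f L156282) q5890, e3 q9554 L179673 q12760, e3 q9555 (flp_f L156308) q9234, e3 q9556 L187543 q13788, e3 q9557 (flp_f L156318) q5893, e3 q9558 L156332 q8706, e3 q9559 (flp_f L187039) q13723, e3 q9560 (flp_f L187049) q13724, e3 q9561 L156358 q9498, e3 q9562 L187599 q13796, e3 q9563 L187605 q13797, e3 q9564 L187619 q13799, e3 q9565 (flp_f L156376) q5897, e3 q9566 (flp_f L187065) q13726, e3 q9567 L187641 q13803, e3 q9568 L187649 q13804, e3 q9569 (flp_f L156398) q5900, e3 q9570 (flp_f L171017)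 q11605, e3 q9571 (flp_f L186183) q13626, e3 q9572 L156521 q9589, e3 q9573 L187713 q13815, e3 q9574 (flp_f L156426) q5903, e3 q9575 L156436 q5905, e3 q9576 (flp_f L184668) q13452, e3 q9577 L167506 q11050, e3 q9578 (flp_f L187515) q13784, e3 q9579 (flp_f L156460) q9092, e3 q9580 L187759 q13822, e3 q9581 (flp_f L156468) q5906, e3 q9582 L184272 q13398, e3 q9583 L187787 q13824, e3 q9584 L187833 q13828, e3 q9585 (flp_f L156490) q5907, e3 q9586 L187861 q13832, e3 q9587 L187865 q13833, e3 q9588 (flp_f L156508) q5909, e3 q9589 (flp_f L156521) q9572, e3 q9590 L187891 q13837, e3 q9591 L156557 q9594, e3 q9592 (flp_f L156541) q5913, e3 q9593 L156551 q5919, e3 q9594 (flp_f L156557) q9591, e3 q9595 (flp_f L156559) q5915, e3 q9596 L181875 q13062, e3 q9597 L187923 q13841, e3 q9598 L187933 q13842, e3 q9599 (flp_f L156599) q5917, trivial⟩ (by decide +kernel)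

theorem ce_f_150 : ∀ r, r < 64 → sm gf (Qf (9600 + r)) = Qf (tab Gen.f (9600 + r)) :=
  edges_tab (sm gf) Qf (tab Gen.f) 9600 [(9600, 13370), (9601, 10164), (9602, 10163), (9603, 13632), (9604, 13850), (9605, 5920), (9606, 5921), (9607, 9511), (9608, 13857), (9609, 13859), (9610, 5929), (9611, 5931), (9612, 9623), (9613, 9537), (9614, 13777), (9615, 13868), (9616, 5927), (9617, 12817), (9618, 13871), (9619, 5928), (9620, 9536), (9621, 13873), (9622, 13861), (9623, 9612), (9624, 13862), (9625, 13863), (9626, 13883), (9627, 5932), (9628, 9403), (9629, 13889), (9630, 13893), (9631, 5934), (9632, 13895), (9633, 9633), (9634, 13898), (9635, 9635), (9636, 13902), (9637, 13906), (9638, 5938), (9639, 9882), (9640, 11627), (9641, 13911), (9642, 11638), (9643, 13914), (9644, 13917), (9645, 13920), (9646, 5943), (9647, 9650), (9648, 9648), (9649, 13923), (9650, 9647), (9651, 13928), (9652, 5946), (9653, 11679), (9654, 6108), (9655, 8582), (9656, 9662), (9657, 10733), (9658, 5953), (9659, 5954), (9660, 8513), (9661, 5955),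 (9662, 9656), (9663, 5959)]
    ⟨e3 q9600 (flp_f L184069) q13370, e3 q9601 (flp_f L160402) q10164, e3 q9602 (flp_f L160392) q10163, e3 q9603 L186228 q13632, e3 q9604 L187977 q13850, e3 q9605 (flp_f L156635) q5920, e3 q9606 (flp_f L156639) q5921, e3 q9607 (flp_f L156651) q9511, e3 q9608 L188019 q13857, e3 q9609 L188029 q13859, e3 q9610 L156667 q5929, e3 q9611 L156671 q5931, e3 q9612 (flp_f L156751) q9623, e3 q9613 L156685 q9537, e3 q9614 L187455 q13777, e3 q9615 L188083 q13868, e3 q9616 (flp_f L156697) q5927, e3 q9617 (flp_f L180161) q12817, e3 q9618 L188105 q13871, e3 q9619 (flp_f L156719) q5928, e3 q9620 (flp_f L156733) q9536, e3 q9621 L188133 q13873, e3 q9622 (flp_f L188047) q13861, e3 q9623 L156751 q9612, e3 q9624 (flp_f L188051) q13862, e3 q9625 (flp_f L188055) q13863, e3 q9626 L188218 q13883, e3 q9627 (flp_f L156766) q5932, e3 q9628 L156780 q9403, e3 q9629 L188255 q13889, e3 q9630 L188281 q13893, e3 q9631 (flp_f L156875) q5934, e3 q9632 L188290 q13895, e3 q9633 L156892 q9633, e3 q9634 L188308 q13898, e3 q9635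 L156901 q9635, e3 q9636 L188321 q13902, e3 q9637 L188349 q13906, e3 q9638 (flp_f L156914) q5938, e3 q9639 (flp_f L158445) q9882, e3 q9640 (flp_f L171182) q11627, e3 q9641 L188380 q13911, e3 q9642 (flp_f L171252) q11638, e3 q9643 L188393 q13914, e3 q9644 L188418 q13917, e3 q9645 L188442 q13920, e3 q9646 (flp_f L156960) q5943, e3 q9647 (flp_f L222607) q9650, e3 q9648 L156977 q9648, e3 q9649 L188475 q13923, e3 q9650 L222607 q9647, e3 q9651 L188524 q13928, e3 q9652 (flp_f L156997) q5946, e3 q9653 (flp_f L171472) q11679, e3 q9654 L157023 q6108, e3 q9655 L157035 q8582, e3 q9656 L157103 q9662, e3 q9657 (flp_f L165236) q10733, e3 q9658 (flp_f L157051) q5953, e3 q9659 (flp_f L157063) q5954, e3 q9660 L162893 q8513, e3 q9661 (flp_f L157093) q5955, e3 q9662 (flp_f L157103) q9656, e3 q9663 L157111 q5959, trivial⟩ (by decide +kernel)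

theorem ce_f_151 : ∀ r, r < 64 → sm gf (Qf (9664 + r)) = Qf (tab Gen.f (9664 + r)) :=
  edges_tab (sm gf) Qf (tab Gen.f) 9664 [(9664, 5960), (9665, 9666), (9666, 9665), (9667, 12794), (9668, 8490), (9669, 5961), (9670, 9413), (9671, 6048), (9672, 9774), (9673, 13936), (9674, 10321), (9675, 12430), (9676, 5967), (9677, 9845), (9678, 9690), (9679, 13940), (9680, 5969), (9681, 13710), (9682, 13716), (9683, 9486), (9684, 13948), (9685, 13951), (9686, 5972), (9687, 13955), (9688, 13956), (9689, 5974), (9690, 9678), (9691, 9877), (9692, 5978), (9693, 9837), (9694, 5980), (9695, 6451), (9696, 6452), (9697, 6453), (9698, 10356), (9699, 13962), (9700, 5987), (9701, 5989), (9702, 9708), (9703, 9476), (9704, 13966), (9705, 5986), (9706, 12086), (9707, 13963), (9708, 9702), (9709, 12471), (9710, 12426), (9711, 13977), (9712, 5990), (9713, 7527), (9714, 13523), (9715, 6481), (9716, 11878), (9717, 6000), (9718, 9760), (9719, 13981), (9720, 6001), (9721, 6002), (9722, 9232), (9723, 6007), (9724, 6008), (9725, 9728), (9726, 12460),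 (9727, 13983)]
    ⟨e3 q9664 L157117 q5960, e3 q9665 (flp_f L157133) q9666, e3 q9666 L157133 q9665, e3 q9667 (flp_f L179965) q12794, e3 q9668 L162897 q8490, e3 q9669 (flp_f L157145) q5961, e3 q9670 (flp_f L157161) q9413, e3 q9671 L157171 q6048, e3 q9672 (flp_f L157839) q9774, e3 q9673 L188603 q13936, e3 q9674 L161392 q10321, e3 q9675 (flp_f L177075) q12430, e3 q9676 (flp_f L157195) q5967, e3 q9677 (flp_f L158229) q9845, e3 q9678 L157257 q9690, e3 q9679 L188639 q13940, e3 q9680 (flp_f L157209) q5969, e3 q9681 (flp_f L186927) q13710, e3 q9682 L186981 q13716, e3 q9683 (flp_f L157225) q9486, e3 q9684 L188695 q13948, e3 q9685 L188709 q13951, e3 q9686 (flp_f L157233) q5972, e3 q9687 L188737 q13955, e3 q9688 L188741 q13956, e3 q9689 (flp_f L157247) q5974, e3 q9690 (flp_f L157257) q9678, e3 q9691 L158411 q9877, e3 q9692 (flp_f L157265) q5978, e3 q9693 L158195 q9837, e3 q9694 (flp_f L157283) q5980, e3 q9695 L157293 q6451, e3 q9696 L157297 q6452, e3 q9697 L157301 q6453, e3 q9698 (flp_f L161619) q10356, e3 q9699 L188787 q13962,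 e3 q9700 L157313 q5987, e3 q9701 L157317 q5989, e3 q9702 (flp_f L157351) q9708, e3 q9703 L157325 q9476, e3 q9704 L188817 q13966, e3 q9705 (flp_f L157331) q5986, e3 q9706 (flp_f L174378) q12086, e3 q9707 (flp_f L188801) q13963, e3 q9708 L157351 q9702, e3 q9709 (flp_f L177380) q12471, e3 q9710 (flp_f L177039) q12426, e3 q9711 L188901 q13977, e3 q9712 (flp_f L157363) q5990, e3 q9713 L157373 q7527, e3 q9714 (flp_f L185249) q13523, e3 q9715 L157409 q6481, e3 q9716 (flp_f L172889) q11878, e3 q9717 (flp_f L157417) q6000, e3 q9718 (flp_f L157749) q9760, e3 q9719 L188931 q13981, e3 q9720 (flp_f L157439) q6001, e3 q9721 (flp_f L157453) q6002, e3 q9722 L157467 q9232, e3 q9723 L157489 q6007, e3 q9724 L157497 q6008, e3 q9725 L157529 q9728, e3 q9726 (flp_f L177297) q12460, e3 q9727 (flp_f L188961) q13983, trivial⟩ (by decide +kernel)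

theorem ce_f_152 : ∀ r, r < 64 → sm gf (Qf (9728 + r)) = Qf (tab Gen.f (9728 + r)) :=
  edges_tab (sm gf) Qf (tab Gen.f) 9728 [(9728, 9725), (9729, 10417), (9730, 13498), (9731, 6011), (9732, 8614), (9733, 10801), (9734, 10804), (9735, 6014), (9736, 13675), (9737, 6822), (9738, 13396), (9739, 6017), (9740, 6019), (9741, 8577), (9742, 6157), (9743, 13997), (9744, 14000), (9745, 6021), (9746, 14003), (9747, 14004), (9748, 6023), (9749, 9241), (9750, 10415), (9751, 13680), (9752, 6028), (9753, 8347), (9754, 6775), (9755, 8072), (9756, 12818), (9757, 6037), (9758, 6039), (9759, 9765), (9760, 9718), (9761, 12494), (9762, 9912), (9763, 14016), (9764, 14009), (9765, 9759), (9766, 12781), (9767, 14010), (9768, 10686), (9769, 10688), (9770, 14026), (9771, 6045), (9772, 9826), (9773, 8220), (9774, 9672), (9775, 14029), (9776, 11951), (9777, 6050), (9778, 6051), (9779, 14033), (9780, 6052), (9781, 8218), (9782, 12516), (9783, 8994), (9784, 6056), (9785, 12258), (9786, 12261), (9787, 12262), (9788, 14041), (9789, 6398), (9790,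 14043), (9791, 6059)]
    ⟨e3 q9728 (flp_f L157529) q9725, e3 q9729 (flp_f L162042) q10417, e3 q9730 (flp_f L185035) q13498, e3 q9731 (flp_f L157551) q6011, e3 q9732 L157565 q8614, e3 q9733 L165756 q10801, e3 q9734 L165778 q10804, e3 q9735 (flp_f L157581) q6014, e3 q9736 (flp_f L186581) q13675, e3 q9737 L157595 q6822, e3 q9738 (flp_f L184250) q13396, e3 q9739 (flp_f L157603) q6017, e3 q9740 L157615 q6019, e3 q9741 L157631 q8577, e3 q9742 L157641 q6157, e3 q9743 L189053 q13997, e3 q9744 L189061 q14000, e3 q9745 (flp_f L157649) q6021, e3 q9746 L189089 q14003, e3 q9747 L189101 q14004, e3 q9748 (flp_f L157661) q6023, e3 q9749 L157669 q9241, e3 q9750 (flp_f L162022) q10415, e3 q9751 L186629 q13680, e3 q9752 (flp_f L157691) q6028, e3 q9753 L157703 q8347, e3 q9754 L157709 q6775, e3 q9755 L157717 q8072, e3 q9756 (flp_f L180173) q12818, e3 q9757 L157729 q6037, e3 q9758 L157735 q6039, e3 q9759 L157789 q9765, e3 q9760 L157749 q9718, e3 q9761 (flp_f L177556) q12494, e3 q9762 L158648 q9912, e3 q9763 L189175 q14016, e3 q9764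 (flp_f L189145) q14009, e3 q9765 (flp_f L157789) q9759, e3 q9766 (flp_f L179843) q12781, e3 q9767 (flp_f L189151) q14010, e3 q9768 (flp_f L164923) q10686, e3 q9769 (flp_f L164935) q10688, e3 q9770 L189247 q14026, e3 q9771 (flp_f L157813) q6045, e3 q9772 L158125 q9826, e3 q9773 L157831 q8220, e3 q9774 L157839 q9672, e3 q9775 L189279 q14029, e3 q9776 (flp_f L173407) q11951, e3 q9777 (flp_f L157847) q6050, e3 q9778 (flp_f L157851) q6051, e3 q9779 L189313 q14033, e3 q9780 (flp_f L157861) q6052, e3 q9781 L157871 q8218, e3 q9782 (flp_f L177719) q12516, e3 q9783 L157885 q8994, e3 q9784 (flp_f L157891) q6056, e3 q9785 (flp_f L175673) q12258, e3 q9786 (flp_f L175693) q12261, e3 q9787 (flp_f L175705) q12262, e3 q9788 L189371 q14041, e3 q9789 (flp_f L157919) q6398, e3 q9790 L189385 q14043, e3 q9791 (flp_f L157923) q6059, trivial⟩ (by decide +kernel)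

theorem ce_f_153 : ∀ r, r < 64 → sm gf (Qf (9792 + r)) = Qf (tab Gen.f (9792 + r)) :=
  edges_tab (sm gf) Qf (tab Gen.f) 9792 [(9792, 10300), (9793, 14047), (9794, 9820), (9795, 14053), (9796, 14054), (9797, 6061), (9798, 11881), (9799, 6064), (9800, 11752), (9801, 7554), (9802, 7555), (9803, 6066), (9804, 14057), (9805, 13409), (9806, 6068), (9807, 10486), (9808, 14062), (9809, 14064), (9810, 6071), (9811, 14068), (9812, 10448), (9813, 14070), (9814, 6072), (9815, 7867), (9816, 6549), (9817, 10446), (9818, 10194), (9819, 6076), (9820, 9794), (9821, 14080), (9822, 13718), (9823, 14081), (9824, 6079), (9825, 8934), (9826, 9772), (9827, 12520), (9828, 6086), (9829, 13371), (9830, 13361), (9831, 14087), (9832, 10410), (9833, 6511), (9834, 14092), (9835, 6092), (9836, 8253), (9837, 9693), (9838, 13357), (9839, 14096), (9840, 14055), (9841, 6096), (9842, 13938), (9843, 14099), (9844, 6097), (9845, 9677), (9846, 14066), (9847, 6110), (9848, 6113), (9849, 6114), (9850, 9867), (9851, 7956), (9852, 9856), (9853, 7603),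 (9854, 6102), (9855, 6103)]
    ⟨e3 q9792 (flp_f L161212) q10300, e3 q9793 L189409 q14047, e3 q9794 L158092 q9820, e3 q9795 L189463 q14053, e3 q9796 L189475 q14054, e3 q9797 (flp_f L157949) q6061, e3 q9798 (flp_f L172911) q11881, e3 q9799 L157959 q6064, e3 q9800 L172019 q11752, e3 q9801 L157977 q7554, e3 q9802 (flp_f L157989) q7555, e3 q9803 (flp_f L157991) q6066, e3 q9804 L189497 q14057, e3 q9805 (flp_f L184370) q13409, e3 q9806 (flp_f L158009) q6068, e3 q9807 L162484 q10486, e3 q9808 L189529 q14062, e3 q9809 L189549 q14064, e3 q9810 (flp_f L158029) q6071, e3 q9811 L189567 q14068, e3 q9812 (flp_f L175484) q10448, e3 q9813 L189585 q14070, e3 q9814 (flp_f L158043) q6072, e3 q9815 (flp_f L158057) q7867, e3 q9816 L175476 q6549, e3 q9817 (flp_f L175486) q10446, e3 q9818 (flp_f L175488) q10194, e3 q9819 (flp_f L158081) q6076, e3 q9820 (flp_f L158092) q9794, e3 q9821 L189655 q14080, e3 q9822 L187003 q13718, e3 q9823 L189659 q14081, e3 q9824 (flp_f L158109) q6079, e3 q9825 L158119 q8934, e3 q9826 (flp_f L158125) q9772,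 e3 q9827 L177755 q12520, e3 q9828 (flp_f L158139) q6086, e3 q9829 (flp_f L184077) q13371, e3 q9830 (flp_f L184007) q13361, e3 q9831 L189723 q14087, e3 q9832 (flp_f L161994) q10410, e3 q9833 L158163 q6511, e3 q9834 L189761 q14092, e3 q9835 (flp_f L158173) q6092, e3 q9836 L158183 q8253, e3 q9837 (flp_f L158195) q9693, e3 q9838 (flp_f L183973) q13357, e3 q9839 L189795 q14096, e3 q9840 (flp_f L189487) q14055, e3 q9841 (flp_f L158209) q6096, e3 q9842 L188629 q13938, e3 q9843 L189821 q14099, e3 q9844 (flp_f L158221) q6097, e3 q9845 L158229 q9677, e3 q9846 (flp_f L189561) q14066, e3 q9847 L158237 q6110, e3 q9848 L158241 q6113, e3 q9849 L158245 q6114, e3 q9850 (flp_f L158349) q9867, e3 q9851 (flp_f L163793) q7956, e3 q9852 L158295 q9856, e3 q9853 L158267 q7603, e3 q9854 (flp_f L158269) q6102, e3 q9855 (flp_f L158279) q6103, trivial⟩ (by decide +kernel)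

theorem ce_f_154 : ∀ r, r < 64 → sm gf (Qf (9856 + r)) = Qf (tab Gen.f (9856 + r)) :=
  edges_tab (sm gf) Qf (tab Gen.f) 9856 [(9856, 9852), (9857, 12037), (9858, 14112), (9859, 6106), (9860, 10532), (9861, 14115), (9862, 14048), (9863, 6109), (9864, 14119), (9865, 14103), (9866, 14104), (9867, 9850), (9868, 7591), (9869, 14125), (9870, 14105), (9871, 14106), (9872, 14128), (9873, 6115), (9874, 9874), (9875, 7572), (9876, 9481), (9877, 9691), (9878, 14134), (9879, 9890), (9880, 6120), (9881, 6130), (9882, 9639), (9883, 6129), (9884, 6123), (9885, 14139), (9886, 14141), (9887, 6125), (9888, 14143), (9889, 12080), (9890, 9879), (9891, 13890), (9892, 14148), (9893, 14150), (9894, 6134), (9895, 12279), (9896, 6407), (9897, 8306), (9898, 9904), (9899, 6666), (9900, 8389), (9901, 10304), (9902, 6139), (9903, 12595), (9904, 9898), (9905, 14162), (9906, 14166), (9907, 6144), (9908, 6552), (9909, 14170), (9910, 6145), (9911, 12347), (9912, 9762), (9913, 12784), (9914, 14175), (9915, 6149), (9916, 6620), (9917, 14177), (9918,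 6151), (9919, 6152)]
    ⟨e3 q9856 (flp_f L158295) q9852, e3 q9857 (flp_f L173968) q12037, e3 q9858 L189933 q14112, e3 q9859 (flp_f L158309) q6106, e3 q9860 L162774 q10532, e3 q9861 L189959 q14115, e3 q9862 (flp_f L189417) q14048, e3 q9863 (flp_f L158329) q6109, e3 q9864 L189995 q14119, e3 q9865 (flp_f L189861) q14103, e3 q9866 (flp_f L189873) q14104, e3 q9867 L158349 q9850, e3 q9868 (flp_f L158357) q7591, e3 q9869 L190047 q14125, e3 q9870 (flp_f L189881) q14105, e3 q9871 (flp_f L189893) q14106, e3 q9872 L190065 q14128, e3 q9873 (flp_f L158386) q6115, e3 q9874 L158396 q9874, e3 q9875 L158401 q7572, e3 q9876 L158407 q9481, e3 q9877 (flp_f L158411) q9691, e3 q9878 L190101 q14134, e3 q9879 L158496 q9890, e3 q9880 (flp_f L158425) q6120, e3 q9881 L158439 q6130, e3 q9882 L158445 q9639, e3 q9883 (flp_f L158455) q6129, e3 q9884 (flp_f L158457) q6123, e3 q9885 L190129 q14139, e3 q9886 L190149 q14141, e3 q9887 (flp_f L158477) q6125, e3 q9888 L190166 q14143, e3 q9889 (flp_f L174334) q12080, e3 q9890 (flp_f L158496) q9879,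 e3 q9891 (flp_f L188271) q13890, e3 q9892 L190202 q14148, e3 q9893 L190222 q14150, e3 q9894 (flp_f L158514) q6134, e3 q9895 (flp_f L175825) q12279, e3 q9896 L158527 q6407, e3 q9897 L158539 q8306, e3 q9898 L158597 q9904, e3 q9899 L158553 q6666, e3 q9900 L158563 q8389, e3 q9901 (flp_f L161276) q10304, e3 q9902 (flp_f L158569) q6139, e3 q9903 (flp_f L178397) q12595, e3 q9904 (flp_f L158597) q9898, e3 q9905 L190315 q14162, e3 q9906 L190339 q14166, e3 q9907 (flp_f L158605) q6144, e3 q9908 (flp_f L158621) q6552, e3 q9909 L190379 q14170, e3 q9910 (flp_f L158629) q6145, e3 q9911 (flp_f L176322) q12347, e3 q9912 (flp_f L158648) q9762, e3 q9913 L179881 q12784, e3 q9914 L190425 q14175, e3 q9915 (flp_f L158670) q6149, e3 q9916 L158680 q6620, e3 q9917 L190439 q14177, e3 q9918 (flp_f L158692) q6151, e3 q9919 (flp_f L158696) q6152, trivial⟩ (by decide +kernel)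

theorem ce_f_155 : ∀ r, r < 64 → sm gf (Qf (9920 + r)) = Qf (tab Gen.f (9920 + r)) :=
  edges_tab (sm gf) Qf (tab Gen.f) 9920 [(9920, 14179), (9921, 6154), (9922, 14183), (9923, 13994), (9924, 8110), (9925, 14190), (9926, 14191), (9927, 6158), (9928, 14193), (9929, 6160), (9930, 6894), (9931, 10166), (9932, 14198), (9933, 6163), (9934, 6178), (9935, 9959), (9936, 11134), (9937, 14204), (9938, 6166), (9939, 14205), (9940, 7226), (9941, 11322), (9942, 6171), (9943, 11969), (9944, 9944), (9945, 6172), (9946, 9948), (9947, 6175), (9948, 9946), (9949, 9979), (9950, 6174), (9951, 9974), (9952, 14209), (9953, 6193), (9954, 14218), (9955, 14220), (9956, 6176), (9957, 9392), (9958, 9970), (9959, 9935), (9960, 14199), (9961, 14226), (9962, 6179), (9963, 12926), (9964, 14228), (9965, 6180), (9966, 14230), (9967, 6181), (9968, 6189), (9969, 6964), (9970, 9958), (9971, 6187), (9972, 14232), (9973, 9973), (9974, 9951), (9975, 14214), (9976, 14216), (9977, 6194), (9978, 6196), (9979, 9949), (9980, 14241), (9981, 14246), (9982,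 6197), (9983, 14249)]
    ⟨e3 q9920 L190453 q14179, e3 q9921 (flp_f L158716) q6154, e3 q9922 L190495 q14183, e3 q9923 (flp_f L189045) q13994, e3 q9924 L158740 q8110, e3 q9925 L190567 q14190, e3 q9926 L190575 q14191, e3 q9927 (flp_f L158756) q6158, e3 q9928 L190590 q14193, e3 q9929 (flp_f L158767) q6160, e3 q9930 L158781 q6894, e3 q9931 L160422 q10166, e3 q9932 L190631 q14198, e3 q9933 (flp_f L158797) q6163, e3 q9934 L158809 q6178, e3 q9935 (flp_f L158987) q9959, e3 q9936 L168086 q11134, e3 q9937 L190675 q14204, e3 q9938 (flp_f L158829) q6166, e3 q9939 (flp_f L190687) q14205, e3 q9940 L158845 q7226, e3 q9941 (flp_f L169233) q11322, e3 q9942 L158859 q6171, e3 q9943 (flp_f L173566) q11969, e3 q9944 L158877 q9944, e3 q9945 (flp_f L158879) q6172, e3 q9946 L158907 q9948, e3 q9947 L158900 q6175, e3 q9948 (flp_f L158907) q9946, e3 q9949 (flp_f L159157) q9979, e3 q9950 (flp_f L158916) q6174, e3 q9951 L159112 q9974, e3 q9952 (flp_f L190707) q14209, e3 q9953 (flp_f L158942) q6193, e3 q9954 L190764 q14218, e3 q9955 L190777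 q14220, e3 q9956 (flp_f L158956) q6176, e3 q9957 L158971 q9392, e3 q9958 (flp_f L159069) q9970, e3 q9959 L158987 q9935, e3 q9960 (flp_f L190641) q14199, e3 q9961 L190811 q14226, e3 q9962 (flp_f L158997) q6179, e3 q9963 (flp_f L180953) q12926, e3 q9964 L190825 q14228, e3 q9965 (flp_f L159023) q6180, e3 q9966 L190839 q14230, e3 q9967 (flp_f L159035) q6181, e3 q9968 (flp_f L159049) q6189, e3 q9969 (flp_f L159061) q6964, e3 q9970 L159069 q9958, e3 q9971 (flp_f L159071) q6187, e3 q9972 L190855 q14232, e3 q9973 L159094 q9973, e3 q9974 (flp_f L159112) q9951, e3 q9975 L190744 q14214, e3 q9976 L190756 q14216, e3 q9977 L167037 q6194, e3 q9978 L159146 q6196, e3 q9979 L159157 q9949, e3 q9980 (flp_f L190914) q14241, e3 q9981 L190943 q14246, e3 q9982 (flp_f L159169) q6197, e3 q9983 L190965 q14249, trivial⟩ (by decide +kernel)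

theorem ce_f_156 : ∀ r, r < 64 → sm gf (Qf (9984 + r)) = Qf (tab Gen.f (9984 + r)) :=
  edges_tab (sm gf) Qf (tab Gen.f) 9984 [(9984, 7090), (9985, 6254), (9986, 6257), (9987, 6258), (9988, 10086), (9989, 9997), (9990, 14255), (9991, 6201), (9992, 7137), (9993, 14259), (9994, 6202), (9995, 14262), (9996, 6203), (9997, 9989), (9998, 14266), (9999, 6205), (10000, 14269), (10001, 11010), (10002, 10115), (10003, 14271), (10004, 7021), (10005, 6207), (10006, 6210), (10007, 6211), (10008, 10011), (10009, 11103), (10010, 14273), (10011, 10008), (10012, 14274), (10013, 14284), (10014, 6212), (10015, 10263), (10016, 10022), (10017, 14290), (10018, 6214), (10019, 14294), (10020, 7282), (10021, 6216), (10022, 10016), (10023, 14299), (10024, 6217), (10025, 14287), (10026, 6283), (10027, 6284), (10028, 13725), (10029, 6290), (10030, 6291), (10031, 10127), (10032, 10128), (10033, 14315), (10034, 14318), (10035, 14319), (10036, 6222), (10037, 6930), (10038, 10048), (10039, 14325), (10040, 6224), (10041, 7302), (10042, 14330),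 (10043, 14333), (10044, 6227), (10045, 14336), (10046, 14337), (10047, 6229)]
    ⟨e3 q9984 L159187 q7090, e3 q9985 L159199 q6254, e3 q9986 L159205 q6257, e3 q9987 L159223 q6258, e3 q9988 (flp_f L159863) q10086, e3 q9989 L159299 q9997, e3 q9990 L191027 q14255, e3 q9991 (flp_f L159251) q6201, e3 q9992 (flp_f L159263) q7137, e3 q9993 L191047 q14259, e3 q9994 (flp_f L159271) q6202, e3 q9995 L191063 q14262, e3 q9996 (flp_f L159285) q6203, e3 q9997 (flp_f L159299) q9989, e3 q9998 L191087 q14266, e3 q9999 (flp_f L159305) q6205, e3 q10000 L191109 q14269, e3 q10001 L167272 q11010, e3 q10002 L160048 q10115, e3 q10003 L191135 q14271, e3 q10004 (flp_f L167040) q7021, e3 q10005 (flp_f L159351) q6207, e3 q10006 L159365 q6210, e3 q10007 L159371 q6211, e3 q10008 (flp_f L159401) q10011, e3 q10009 (flp_f L167856) q11103, e3 q10010 (flp_f L191163) q14273, e3 q10011 L159401 q10008, e3 q10012 (flp_f L191169) q14274, e3 q10013 L191217 q14284, e3 q10014 (flp_f L159413) q6212, e3 q10015 (flp_f L160982) q10263, e3 q10016 (flp_f L159473)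 q10022, e3 q10017 L191261 q14290, e3 q10018 (flp_f L159439) q6214, e3 q10019 L191285 q14294, e3 q10020 (flp_f L159455) q7282, e3 q10021 (flp_f L159459) q6216, e3 q10022 L159473 q10016, e3 q10023 L191319 q14299, e3 q10024 (flp_f L159479) q6217, e3 q10025 (flp_f L191249) q14287, e3 q10026 L159497 q6283, e3 q10027 L159505 q6284, e3 q10028 (flp_f L187059) q13725, e3 q10029 L159515 q6290, e3 q10030 L159523 q6291, e3 q10031 (flp_f L160142) q10127, e3 q10032 (flp_f L160152) q10128, e3 q10033 L191411 q14315, e3 q10034 L191433 q14318, e3 q10035 L191443 q14319, e3 q10036 (flp_f L159549) q6222, e3 q10037 L159557 q6930, e3 q10038 L159621 q10048, e3 q10039 L191495 q14325, e3 q10040 (flp_f L159573) q6224, e3 q10041 L159583 q7302, e3 q10042 L191527 q14330, e3 q10043 L191553 q14333, e3 q10044 (flp_f L159593) q6227, e3 q10045 L191579 q14336, e3 q10046 L191587 q14337, e3 q10047 (flp_f L159609) q6229, trivial⟩ (by decide +kernel)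

theorem ce_f_157 : ∀ r, r < 64 → sm gf (Qf (10048 + r)) = Qf (tab Gen.f (10048 + r)) :=
  edges_tab (sm gf) Qf (tab Gen.f) 10048 [(10048, 10038), (10049, 11255), (10050, 14342), (10051, 14345), (10052, 6233), (10053, 14349), (10054, 6925), (10055, 6235), (10056, 14351), (10057, 14354), (10058, 6236), (10059, 14356), (10060, 10172), (10061, 10174), (10062, 14362), (10063, 14363), (10064, 14365), (10065, 6238), (10066, 6239), (10067, 13754), (10068, 13755), (10069, 13756), (10070, 14375), (10071, 10889), (10072, 6246), (10073, 6248), (10074, 10078), (10075, 11256), (10076, 14385), (10077, 14378), (10078, 10074), (10079, 14379), (10080, 12353), (10081, 14393), (10082, 6249), (10083, 8243), (10084, 9539), (10085, 6252), (10086, 9988), (10087, 11133), (10088, 13774), (10089, 14400), (10090, 6256), (10091, 14403), (10092, 14250), (10093, 14308), (10094, 10984), (10095, 14410), (10096, 6259), (10097, 6260), (10098, 14412), (10099, 11239), (10100, 11240), (10101, 14416), (10102, 6268), (10103, 8231), (10104, 6264), (10105,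 6266), (10106, 11196), (10107, 10992), (10108, 14417), (10109, 7009), (10110, 14425), (10111, 14428)]
    ⟨e3 q10048 (flp_f L159621) q10038, e3 q10049 (flp_f L168804) q11255, e3 q10050 L191626 q14342, e3 q10051 L191644 q14345, e3 q10052 (flp_f L159639) q6233, e3 q10053 L191666 q14349, e3 q10054 (flp_f L159655) q6925, e3 q10055 (flp_f L159659) q6235, e3 q10056 L191684 q14351, e3 q10057 L191702 q14354, e3 q10058 (flp_f L159679) q6236, e3 q10059 L191716 q14356, e3 q10060 L160456 q10172, e3 q10061 L160474 q10174, e3 q10062 L191756 q14362, e3 q10063 L191758 q14363, e3 q10064 L191772 q14365, e3 q10065 (flp_f L159725) q6238, e3 q10066 (flp_f L159729) q6239, e3 q10067 (flp_f L187265) q13754, e3 q10068 (flp_f L187271) q13755, e3 q10069 (flp_f L187277) q13756, e3 q10070 L191836 q14375, e3 q10071 L166436 q10889, e3 q10072 L159767 q6246, e3 q10073 L159771 q6248, e3 q10074 (flp_f L159801) q10078, e3 q10075 (flp_f L168812) q11256, e3 q10076 L191908 q14385, e3 q10077 (flp_f L191864) q14378, e3 q10078 L159801 q10074, e3 q10079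 (flp_f L191872) q14379, e3 q10080 (flp_f L176384) q12353, e3 q10081 L191978 q14393, e3 q10082 (flp_f L159813) q6249, e3 q10083 (flp_f L159831) q8243, e3 q10084 (flp_f L159843) q9539, e3 q10085 (flp_f L159845) q6252, e3 q10086 L159863 q9988, e3 q10087 (flp_f L168070) q11133, e3 q10088 (flp_f L187421) q13774, e3 q10089 L192025 q14400, e3 q10090 (flp_f L159879) q6256, e3 q10091 L192047 q14403, e3 q10092 (flp_f L190985) q14250, e3 q10093 L191385 q14308, e3 q10094 (flp_f L167122) q10984, e3 q10095 L192087 q14410, e3 q10096 (flp_f L159911) q6259, e3 q10097 (flp_f L159924) q6260, e3 q10098 (flp_f L192103) q14412, e3 q10099 (flp_f L168690) q11239, e3 q10100 (flp_f L168696) q11240, e3 q10101 L192127 q14416, e3 q10102 L159958 q6268, e3 q10103 (flp_f L159970) q8231, e3 q10104 (flp_f L159972) q6264, e3 q10105 (flp_f L159986) q6266, e3 q10106 (flp_f L168415) q11196, e3 q10107 L167164 q10992, e3 q10108 (flp_f L192141) q14417, e3 q10109 (flp_f L160014) q7009, e3 q10110 L192193 q14425, e3 q10111 L192211 q14428, trivial⟩ (by decide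 +kernel)

theorem ce_f_158 : ∀ r, r < 64 → sm gf (Qf (10112 + r)) = Qf (tab Gen.f (10112 + r)) :=
  edges_tab (sm gf) Qf (tab Gen.f) 10112 [(10112, 6269), (10113, 6270), (10114, 10114), (10115, 10002), (10116, 7145), (10117, 11183), (10118, 11025), (10119, 14437), (10120, 6274), (10121, 8857), (10122, 6280), (10123, 11247), (10124, 14440), (10125, 14443), (10126, 14303), (10127, 10031), (10128, 10032), (10129, 14451), (10130, 14453), (10131, 13641), (10132, 6286), (10133, 6896), (10134, 11107), (10135, 14251), (10136, 14309), (10137, 14461), (10138, 14464), (10139, 6292), (10140, 10529), (10141, 6293), (10142, 10218), (10143, 14471), (10144, 6294), (10145, 14472), (10146, 14477), (10147, 6298), (10148, 14478), (10149, 14479), (10150, 14485), (10151, 11560), (10152, 10678), (10153, 6301), (10154, 13239), (10155, 6307), (10156, 11409), (10157, 6313), (10158, 14492), (10159, 14495), (10160, 6310), (10161, 6311), (10162, 14488), (10163, 9602), (10164, 9601), (10165, 13848), (10166, 9931), (10167, 14505), (10168, 6317),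 (10169, 14508), (10170, 6318), (10171, 13851), (10172, 10060), (10173, 6362), (10174, 10061), (10175, 6363)]
    ⟨e3 q10112 (flp_f L160025) q6269, e3 q10113 (flp_f L160029) q6270, e3 q10114 L160039 q10114, e3 q10115 (flp_f L160048) q10002, e3 q10116 (flp_f L160056) q7145, e3 q10117 (flp_f L168346) q11183, e3 q10118 (flp_f L167342) q11025, e3 q10119 L192267 q14437, e3 q10120 (flp_f L160074) q6274, e3 q10121 (flp_f L160092) q8857, e3 q10122 (flp_f L160094) q6280, e3 q10123 L168758 q11247, e3 q10124 L192293 q14440, e3 q10125 L192313 q14443, e3 q10126 (flp_f L191355) q14303, e3 q10127 L160142 q10031, e3 q10128 L160152 q10032, e3 q10129 L192359 q14451, e3 q10130 L192371 q14453, e3 q10131 (flp_f L186287) q13641, e3 q10132 (flp_f L160178) q6286, e3 q10133 L160188 q6896, e3 q10134 (flp_f L167882) q11107, e3 q10135 L190999 q14251, e3 q10136 (flp_f L191389) q14309, e3 q10137 L192429 q14461, e3 q10138 L192445 q14464, e3 q10139 (flp_f L160220) q6292, e3 q10140 (flp_f L162760) q10529, e3 q10141 (flp_f L160236) q6293, e3 q10142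 L160720 q10218, e3 q10143 L192481 q14471, e3 q10144 (flp_f L160256) q6294, e3 q10145 (flp_f L192489) q14472, e3 q10146 L192507 q14477, e3 q10147 L160272 q6298, e3 q10148 (flp_f L192517) q14478, e3 q10149 (flp_f L192525) q14479, e3 q10150 L192567 q14485, e3 q10151 (flp_f L170714) q11560, e3 q10152 (flp_f L164849) q10678, e3 q10153 (flp_f L160304) q6301, e3 q10154 L183038 q13239, e3 q10155 (flp_f L160324) q6307, e3 q10156 L169771 q11409, e3 q10157 L160348 q6313, e3 q10158 L192623 q14492, e3 q10159 L192641 q14495, e3 q10160 (flp_f L160364) q6310, e3 q10161 (flp_f L160374) q6311, e3 q10162 (flp_f L192599) q14488, e3 q10163 L160392 q9602, e3 q10164 L160402 q9601, e3 q10165 (flp_f L187971) q13848, e3 q10166 (flp_f L160422) q9931, e3 q10167 L192711 q14505, e3 q10168 (flp_f L160432) q6317, e3 q10169 L192731 q14508, e3 q10170 (flp_f L160442) q6318, e3 q10171 (flp_f L187985) q13851, e3 q10172 (flp_f L160456) q10060, e3 q10173 L160464 q6362, e3 q10174 (flp_f L160474) q10061, e3 q10175 L160480 q6363, trivial⟩ (by decide +kernel)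

theorem ce_f_159 : ∀ r, r < 64 → sm gf (Qf (10176 + r)) = Qf (tab Gen.f (10176 + r)) :=
  edges_tab (sm gf) Qf (tab Gen.f) 10176 [(10176, 6364), (10177, 10250), (10178, 14524), (10179, 13404), (10180, 14529), (10181, 14532), (10182, 14533), (10183, 6325), (10184, 11101), (10185, 6327), (10186, 7266), (10187, 13101), (10188, 9083), (10189, 14542), (10190, 14544), (10191, 6330), (10192, 10201), (10193, 13283), (10194, 9818), (10195, 14549), (10196, 14551), (10197, 6333), (10198, 14555), (10199, 6334), (10200, 14557), (10201, 10192), (10202, 6336), (10203, 14073), (10204, 10209), (10205, 6338), (10206, 14168), (10207, 14564), (10208, 6340), (10209, 10204), (10210, 13115), (10211, 14570), (10212, 6342), (10213, 14573), (10214, 14577), (10215, 6343), (10216, 14580), (10217, 6344), (10218, 10142), (10219, 6346), (10220, 13783), (10221, 14587), (10222, 14588), (10223, 6349), (10224, 14593), (10225, 14595), (10226, 6350), (10227, 10236), (10228, 14589), (10229, 14599), (10230, 14601), (10231, 14603), (10232, 6353), (10233,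 14606), (10234, 6354), (10235, 14608), (10236, 10227), (10237, 6356), (10238, 6360), (10239, 10243)]
    ⟨e3 q10176 L160484 q6364, e3 q10177 (flp_f L160902) q10250, e3 q10178 L192819 q14524, e3 q10179 (flp_f L184326) q13404, e3 q10180 L192851 q14529, e3 q10181 L192873 q14532, e3 q10182 L192881 q14533, e3 q10183 (flp_f L160514) q6325, e3 q10184 (flp_f L167836) q11101, e3 q10185 (flp_f L160528) q6327, e3 q10186 (flp_f L160540) q7266, e3 q10187 L182151 q13101, e3 q10188 L160560 q9083, e3 q10189 L192953 q14542, e3 q10190 L192965 q14544, e3 q10191 (flp_f L160572) q6330, e3 q10192 L160624 q10201, e3 q10193 (flp_f L183371) q13283, e3 q10194 L175488 q9818, e3 q10195 (flp_f L193025) q14549, e3 q10196 (flp_f L193019) q14551, e3 q10197 (flp_f L160600) q6333, e3 q10198 L193041 q14555, e3 q10199 (flp_f L160608) q6334, e3 q10200 L193057 q14557, e3 q10201 (flp_f L160624) q10192, e3 q10202 (flp_f L160626) q6336, e3 q10203 (flp_f L189619) q14073, e3 q10204 L160672 q10209, e3 q10205 (flp_f L160644) q6338, e3 q10206 (flp_f L190369)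 q14168, e3 q10207 L193095 q14564, e3 q10208 (flp_f L160658) q6340, e3 q10209 (flp_f L160672) q10204, e3 q10210 L182257 q13115, e3 q10211 L193123 q14570, e3 q10212 (flp_f L160684) q6342, e3 q10213 L193143 q14573, e3 q10214 L193161 q14577, e3 q10215 (flp_f L160700) q6343, e3 q10216 L193177 q14580, e3 q10217 (flp_f L160710) q6344, e3 q10218 (flp_f L160720) q10142, e3 q10219 (flp_f L160722) q6346, e3 q10220 (flp_f L187503) q13783, e3 q10221 L193225 q14587, e3 q10222 L193231 q14588, e3 q10223 (flp_f L160748) q6349, e3 q10224 L193267 q14593, e3 q10225 L193279 q14595, e3 q10226 (flp_f L160768) q6350, e3 q10227 L160820 q10236, e3 q10228 (flp_f L193247) q14589, e3 q10229 L193309 q14599, e3 q10230 L193319 q14601, e3 q10231 L193341 q14603, e3 q10232 (flp_f L160796) q6353, e3 q10233 L193357 q14606, e3 q10234 (flp_f L160804) q6354, e3 q10235 L193373 q14608, e3 q10236 (flp_f L160820) q10227, e3 q10237 (flp_f L160822) q6356, e3 q10238 L160834 q6360, e3 q10239 (flp_f L160860) q10243, trivial⟩ (by decide +kernel)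

theorem ce_f_160 : ∀ r, r < 64 → sm gf (Qf (10240 + r)) = Qf (tab Gen.f (10240 + r)) :=
  edges_tab (sm gf) Qf (tab Gen.f) 10240 [(10240, 14613), (10241, 10292), (10242, 14615), (10243, 10239), (10244, 6361), (10245, 14514), (10246, 14515), (10247, 14622), (10248, 14624), (10249, 14518), (10250, 10177), (10251, 14519), (10252, 14631), (10253, 6365), (10254, 6366), (10255, 14633), (10256, 7365), (10257, 12664), (10258, 8502), (10259, 14640), (10260, 12216), (10261, 6370), (10262, 10271), (10263, 10015), (10264, 14646), (10265, 14648), (10266, 14651), (10267, 6373), (10268, 14656), (10269, 6374), (10270, 14658), (10271, 10262), (10272, 6376), (10273, 14662), (10274, 7232), (10275, 14666), (10276, 6379), (10277, 14669), (10278, 14671), (10279, 6380), (10280, 10289), (10281, 12803), (10282, 14348), (10283, 14677), (10284, 14680), (10285, 6383), (10286, 14685), (10287, 6384), (10288, 14687), (10289, 10280), (10290, 6386), (10291, 14692), (10292, 10241), (10293, 7447), (10294, 10416), (10295, 14698), (10296, 6391), (10297,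 14699), (10298, 6395), (10299, 11973), (10300, 9792), (10301, 10308), (10302, 6415), (10303, 14153)]
    ⟨e3 q10240 L193399 q14613, e3 q10241 (flp_f L161162) q10292, e3 q10242 L193411 q14615, e3 q10243 L160860 q10239, e3 q10244 (flp_f L160862) q6361, e3 q10245 (flp_f L192763) q14514, e3 q10246 (flp_f L192769) q14515, e3 q10247 L193445 q14622, e3 q10248 L193459 q14624, e3 q10249 (flp_f L192789) q14518, e3 q10250 L160902 q10177, e3 q10251 (flp_f L192793) q14519, e3 q10252 L193489 q14631, e3 q10253 (flp_f L160910) q6365, e3 q10254 (flp_f L160918) q6366, e3 q10255 L193503 q14633, e3 q10256 L160934 q7365, e3 q10257 (flp_f L178989) q12664, e3 q10258 L160952 q8502, e3 q10259 L193569 q14640, e3 q10260 (flp_f L175376) q12216, e3 q10261 (flp_f L160964) q6370, e3 q10262 L161028 q10271, e3 q10263 L160982 q10015, e3 q10264 L193611 q14646, e3 q10265 L193627 q14648, e3 q10266 L193643 q14651, e3 q10267 (flp_f L161000) q6373, e3 q10268 L193675 q14656, e3 q10269 (flp_f L161008) q6374, e3 q10270 L193691 q14658, e3 q10271 (flp_f L161028)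 q10262, e3 q10272 (flp_f L161030) q6376, e3 q10273 L193719 q14662, e3 q10274 L161048 q7232, e3 q10275 L193747 q14666, e3 q10276 (flp_f L161058) q6379, e3 q10277 L193781 q14669, e3 q10278 L193793 q14671, e3 q10279 (flp_f L161078) q6380, e3 q10280 L161142 q10289, e3 q10281 (flp_f L180039) q12803, e3 q10282 L191664 q14348, e3 q10283 L193843 q14677, e3 q10284 L193859 q14680, e3 q10285 (flp_f L161114) q6383, e3 q10286 L193891 q14685, e3 q10287 (flp_f L161122) q6384, e3 q10288 L193907 q14687, e3 q10289 (flp_f L161142) q10280, e3 q10290 (flp_f L161144) q6386, e3 q10291 L193945 q14692, e3 q10292 L161162 q10241, e3 q10293 L161168 q7447, e3 q10294 (flp_f L162032) q10416, e3 q10295 L193989 q14698, e3 q10296 (flp_f L161186) q6391, e3 q10297 L193999 q14699, e3 q10298 (flp_f L161196) q6395, e3 q10299 (flp_f L173597) q11973, e3 q10300 L161212 q9792, e3 q10301 (flp_f L161300) q10308, e3 q10302 L161260 q6415, e3 q10303 (flp_f L190257) q14153, trivial⟩ (by decide +kernel)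

theorem ce_f_161 : ∀ r, r < 64 → sm gf (Qf (10304 + r)) = Qf (tab Gen.f (10304 + r)) :=
  edges_tab (sm gf) Qf (tab Gen.f) 10304 [(10304, 9901), (10305, 7796), (10306, 12342), (10307, 6409), (10308, 10301), (10309, 10313), (10310, 6970), (10311, 6969), (10312, 14701), (10313, 10309), (10314, 7669), (10315, 12489), (10316, 12487), (10317, 12764), (10318, 8174), (10319, 6421), (10320, 6422), (10321, 9674), (10322, 7493), (10323, 14712), (10324, 10336), (10325, 6426), (10326, 9450), (10327, 11833), (10328, 7830), (10329, 11834), (10330, 6429), (10331, 7664), (10332, 6430), (10333, 14716), (10334, 6432), (10335, 6433), (10336, 10324), (10337, 14719), (10338, 14720), (10339, 6437), (10340, 14722), (10341, 6438), (10342, 14721), (10343, 7488), (10344, 6440), (10345, 14725), (10346, 6443), (10347, 14726), (10348, 14727), (10349, 6444), (10350, 6446), (10351, 6448), (10352, 13959), (10353, 12768), (10354, 7688), (10355, 13961), (10356, 9698), (10357, 14730), (10358, 6454), (10359, 7975), (10360, 12259), (10361, 6461),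 (10362, 10367), (10363, 13697), (10364, 14734), (10365, 6460), (10366, 12084), (10367, 10362)]
    ⟨e3 q10304 L161276 q9901, e3 q10305 (flp_f L161282) q7796, e3 q10306 (flp_f L176286) q12342, e3 q10307 (flp_f L161286) q6409, e3 q10308 L161300 q10301, e3 q10309 L161334 q10313, e3 q10310 L161310 q6970, e3 q10311 L161322 q6969, e3 q10312 (flp_f L194031) q14701, e3 q10313 (flp_f L161334) q10309, e3 q10314 (flp_f L161342) q7669, e3 q10315 (flp_f L177501) q12489, e3 q10316 (flp_f L177487) q12487, e3 q10317 (flp_f L179709) q12764, e3 q10318 (flp_f L163503) q8174, e3 q10319 (flp_f L161364) q6421, e3 q10320 (flp_f L161382) q6422, e3 q10321 (flp_f L161392) q9674, e3 q10322 L161398 q7493, e3 q10323 L194117 q14712, e3 q10324 L161486 q10336, e3 q10325 (flp_f L161418) q6426, e3 q10326 L161426 q9450, e3 q10327 (flp_f L172559) q11833, e3 q10328 L161436 q7830, e3 q10329 L172575 q11834, e3 q10330 (flp_f L161446) q6429, e3 q10331 L163483 q7664, e3 q10332 (flp_f L161454) q6430, e3 q10333 (flp_f L194161) q14716, e3 q10334 (flp_f L161472)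 q6432, e3 q10335 (flp_f L161476) q6433, e3 q10336 (flp_f L161486) q10324, e3 q10337 L194180 q14719, e3 q10338 L194185 q14720, e3 q10339 (flp_f L161507) q6437, e3 q10340 L194201 q14722, e3 q10341 (flp_f L161519) q6438, e3 q10342 (flp_f L194197) q14721, e3 q10343 (flp_f L161537) q7488, e3 q10344 (flp_f L161539) q6440, e3 q10345 L194225 q14725, e3 q10346 (flp_f L161553) q6443, e3 q10347 L194235 q14726, e3 q10348 L194245 q14727, e3 q10349 (flp_f L161575) q6444, e3 q10350 (flp_f L161579) q6446, e3 q10351 (flp_f L161587) q6448, e3 q10352 (flp_f L188765) q13959, e3 q10353 (flp_f L179735) q12768, e3 q10354 (flp_f L161621) q7688, e3 q10355 (flp_f L188783) q13961, e3 q10356 L161619 q9698, e3 q10357 L194269 q14730, e3 q10358 (flp_f L161639) q6454, e3 q10359 L161649 q7975, e3 q10360 L175681 q12259, e3 q10361 L161659 q6461, e3 q10362 (flp_f L161711) q10367, e3 q10363 L186789 q13697, e3 q10364 L194315 q14734, e3 q10365 (flp_f L161697) q6460, e3 q10366 (flp_f L174364) q12084, e3 q10367 L161711 q10362, trivial⟩ (by decide +kernel)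

theorem ce_f_162 : ∀ r, r < 64 → sm gf (Qf (10368 + r)) = Qf (tab Gen.f (10368 + r)) :=
  edges_tab (sm gf) Qf (tab Gen.f) 10368 [(10368, 14736), (10369, 12349), (10370, 12754), (10371, 6465), (10372, 12163), (10373, 13419), (10374, 6472), (10375, 14742), (10376, 14744), (10377, 6767), (10378, 6474), (10379, 14025), (10380, 6475), (10381, 13689), (10382, 7449), (10383, 13979), (10384, 10384), (10385, 8953), (10386, 6905), (10387, 6487), (10388, 10481), (10389, 10523), (10390, 8960), (10391, 10525), (10392, 13313), (10393, 12761), (10394, 6493), (10395, 6495), (10396, 6496), (10397, 10400), (10398, 7917), (10399, 12161), (10400, 10397), (10401, 14752), (10402, 14758), (10403, 6497), (10404, 7861), (10405, 6720), (10406, 8061), (10407, 6508), (10408, 10414), (10409, 13240), (10410, 9832), (10411, 14760), (10412, 14090), (10413, 13271), (10414, 10408), (10415, 9750), (10416, 10294), (10417, 9729), (10418, 7584), (10419, 14768), (10420, 6519), (10421, 7585), (10422, 6604), (10423, 14771), (10424, 13289), (10425, 13373),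 (10426, 6525), (10427, 12248), (10428, 9041), (10429, 10437), (10430, 14774), (10431, 6527)]
    ⟨e3 q10368 L194339 q14736, e3 q10369 (flp_f L176342) q12349, e3 q10370 L179625 q12754, e3 q10371 (flp_f L161731) q6465, e3 q10372 (flp_f L175002) q12163, e3 q10373 (flp_f L184436) q13419, e3 q10374 (flp_f L161750) q6472, e3 q10375 L194378 q14742, e3 q10376 L194396 q14744, e3 q10377 (flp_f L163675) q6767, e3 q10378 (flp_f L161768) q6474, e3 q10379 (flp_f L189243) q14025, e3 q10380 (flp_f L161778) q6475, e3 q10381 (flp_f L186710) q13689, e3 q10382 L161802 q7449, e3 q10383 (flp_f L188923) q13979, e3 q10384 L161822 q10384, e3 q10385 L161832 q8953, e3 q10386 (flp_f L161842) q6905, e3 q10387 (flp_f L161844) q6487, e3 q10388 L162460 q10481, e3 q10389 (flp_f L162720) q10523, e3 q10390 L161876 q8960, e3 q10391 (flp_f L162734) q10525, e3 q10392 (flp_f L183647) q13313, e3 q10393 L179685 q12761, e3 q10394 (flp_f L161890) q6493, e3 q10395 L161898 q6495, e3 q10396 L161904 q6496, e3 q10397 (flp_f L161926) q10400, e3 q10398 L161914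 q7917, e3 q10399 (flp_f L174984) q12161, e3 q10400 L161926 q10397, e3 q10401 (flp_f L194476) q14752, e3 q10402 L194534 q14758, e3 q10403 (flp_f L161936) q6497, e3 q10404 (flp_f L161946) q7861, e3 q10405 (flp_f L163588) q6720, e3 q10406 L163673 q8061, e3 q10407 L161976 q6508, e3 q10408 L162014 q10414, e3 q10409 (flp_f L183044) q13240, e3 q10410 L161994 q9832, e3 q10411 (flp_f L194554) q14760, e3 q10412 (flp_f L189753) q14090, e3 q10413 (flp_f L183287) q13271, e3 q10414 (flp_f L162014) q10408, e3 q10415 L162022 q9750, e3 q10416 L162032 q10294, e3 q10417 L162042 q9729, e3 q10418 L162052 q7584, e3 q10419 L194621 q14768, e3 q10420 (flp_f L162066) q6519, e3 q10421 (flp_f L162086) q7585, e3 q10422 L162096 q6604, e3 q10423 L194647 q14771, e3 q10424 (flp_f L183453) q13289, e3 q10425 L184099 q13373, e3 q10426 (flp_f L162116) q6525, e3 q10427 (flp_f L175613) q12248, e3 q10428 (flp_f L162128) q9041, e3 q10429 L162168 q10437, e3 q10430 L194675 q14774, e3 q10431 (flp_f L162138) q6527, trivial⟩ (by decide +kernel)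

theorem ce_f_163 : ∀ r, r < 64 → sm gf (Qf (10432 + r)) = Qf (tab Gen.f (10432 + r)) :=
  edges_tab (sm gf) Qf (tab Gen.f) 10432 [(10432, 12115), (10433, 14776), (10434, 6528), (10435, 14777), (10436, 6529), (10437, 10429), (10438, 11918), (10439, 10760), (10440, 14778), (10441, 14049), (10442, 10449), (10443, 8452), (10444, 6537), (10445, 10452), (10446, 9817), (10447, 8954), (10448, 9812), (10449, 10442), (10450, 14784), (10451, 6543), (10452, 10445), (10453, 14787), (10454, 6545), (10455, 14072), (10456, 9006), (10457, 6547), (10458, 14167), (10459, 14071), (10460, 13299), (10461, 14164), (10462, 14792), (10463, 12723), (10464, 12812), (10465, 6555), (10466, 14797), (10467, 14799), (10468, 8321), (10469, 12599), (10470, 10477), (10471, 6559), (10472, 14802), (10473, 13067), (10474, 6561), (10475, 13372), (10476, 6562), (10477, 10470), (10478, 13127), (10479, 6606), (10480, 13174), (10481, 10388), (10482, 13410), (10483, 14811), (10484, 7928), (10485, 13286), (10486, 9807), (10487, 6572), (10488, 12028), (10489,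 14814), (10490, 6573), (10491, 6579), (10492, 14815), (10493, 6575), (10494, 6576), (10495, 10503)]
    ⟨e3 q10432 (flp_f L174639) q12115, e3 q10433 L194695 q14776, e3 q10434 (flp_f L162150) q6528, e3 q10435 L194705 q14777, e3 q10436 (flp_f L162160) q6529, e3 q10437 (flp_f L162168) q10429, e3 q10438 (flp_f L173188) q11918, e3 q10439 L165448 q10760, e3 q10440 (flp_f L194723) q14778, e3 q10441 (flp_f L189429) q14049, e3 q10442 (flp_f L162261) q10449, e3 q10443 L162222 q8452, e3 q10444 (flp_f L162224) q6537, e3 q10445 L162289 q10452, e3 q10446 L175486 q9817, e3 q10447 (flp_f L162248) q8954, e3 q10448 L175484 q9812, e3 q10449 L162261 q10442, e3 q10450 L194785 q14784, e3 q10451 (flp_f L162273) q6543, e3 q10452 (flp_f L162289) q10445, e3 q10453 L194805 q14787, e3 q10454 (flp_f L162297) q6545, e3 q10455 (flp_f L189611) q14072, e3 q10456 L162317 q9006, e3 q10457 (flp_f L162319) q6547, e3 q10458 (flp_f L190357) q14167, e3 q10459 (flp_f L189597) q14071, e3 q10460 (flp_f L183521) q13299, e3 q10461 L190329 q14164, e3 q10462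 L194849 q14792, e3 q10463 L179391 q12723, e3 q10464 (flp_f L180121) q12812, e3 q10465 (flp_f L162358) q6555, e3 q10466 L194893 q14797, e3 q10467 L194915 q14799, e3 q10468 L162370 q8321, e3 q10469 L178445 q12599, e3 q10470 L162428 q10477, e3 q10471 (flp_f L162384) q6559, e3 q10472 L194947 q14802, e3 q10473 (flp_f L181899) q13067, e3 q10474 (flp_f L162402) q6561, e3 q10475 (flp_f L184087) q13372, e3 q10476 (flp_f L162416) q6562, e3 q10477 (flp_f L162428) q10470, e3 q10478 (flp_f L182327) q13127, e3 q10479 L162442 q6606, e3 q10480 L182619 q13174, e3 q10481 (flp_f L162460) q10388, e3 q10482 (flp_f L184376) q13410, e3 q10483 L195021 q14811, e3 q10484 L162472 q7928, e3 q10485 L183393 q13286, e3 q10486 (flp_f L162484) q9807, e3 q10487 (flp_f L162486) q6572, e3 q10488 L173917 q12028, e3 q10489 L195047 q14814, e3 q10490 (flp_f L162514) q6573, e3 q10491 L162522 q6579, e3 q10492 L195053 q14815, e3 q10493 (flp_f L162534) q6575, e3 q10494 (flp_f L162542) q6576, e3 q10495 L162613 q10503, trivial⟩ (by decide +kernel)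

theorem ce_f_164 : ∀ r, r < 64 → sm gf (Qf (10496 + r)) = Qf (tab Gen.f (10496 + r)) :=
  edges_tab (sm gf) Qf (tab Gen.f) 10496 [(10496, 9138), (10497, 14107), (10498, 6580), (10499, 14818), (10500, 6581), (10501, 8462), (10502, 6592), (10503, 10495), (10504, 6584), (10505, 6593), (10506, 8568), (10507, 13348), (10508, 12277), (10509, 14085), (10510, 14729), (10511, 6590), (10512, 12278), (10513, 14819), (10514, 14827), (10515, 6594), (10516, 14829), (10517, 8042), (10518, 14832), (10519, 6597), (10520, 6601), (10521, 10526), (10522, 12618), (10523, 10389), (10524, 14836), (10525, 10391), (10526, 10521), (10527, 6603), (10528, 14838), (10529, 10140), (10530, 13288), (10531, 6607), (10532, 9860), (10533, 6609), (10534, 7929), (10535, 7930), (10536, 12208), (10537, 7456), (10538, 8440), (10539, 10542), (10540, 6614), (10541, 6615), (10542, 10539), (10543, 10544), (10544, 10543), (10545, 8374), (10546, 10551), (10547, 10555), (10548, 8591), (10549, 6625), (10550, 12643), (10551, 10546), (10552, 12839), (10553, 6680),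 (10554, 12590), (10555, 10547), (10556, 8543), (10557, 6632), (10558, 8491), (10559, 14851)]
    ⟨e3 q10496 L162558 q9138, e3 q10497 L189903 q14107, e3 q10498 (flp_f L162567) q6580, e3 q10499 L195085 q14818, e3 q10500 (flp_f L162585) q6581, e3 q10501 (flp_f L162599) q8462, e3 q10502 L162607 q6592, e3 q10503 (flp_f L162613) q10495, e3 q10504 (flp_f L162615) q6584, e3 q10505 L162629 q6593, e3 q10506 (flp_f L162641) q8568, e3 q10507 (flp_f L183919) q13348, e3 q10508 (flp_f L175817) q12277, e3 q10509 (flp_f L189703) q14085, e3 q10510 (flp_f L194263) q14729, e3 q10511 (flp_f L162655) q6590, e3 q10512 (flp_f L175821) q12278, e3 q10513 (flp_f L195105) q14819, e3 q10514 L195163 q14827, e3 q10515 (flp_f L162676) q6594, e3 q10516 L195183 q14829, e3 q10517 L162682 q8042, e3 q10518 L195213 q14832, e3 q10519 (flp_f L162690) q6597, e3 q10520 L162702 q6601, e3 q10521 (flp_f L162742) q10526, e3 q10522 (flp_f L178613) q12618, e3 q10523 L162720 q10389, e3 q10524 L195253 q14836, e3 q10525 L162734 q10391, e3 q10526 L162742 q10521,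 e3 q10527 (flp_f L162746) q6603, e3 q10528 L195269 q14838, e3 q10529 L162760 q10140, e3 q10530 (flp_f L183443) q13288, e3 q10531 (flp_f L162766) q6607, e3 q10532 (flp_f L162774) q9860, e3 q10533 (flp_f L162778) q6609, e3 q10534 L162788 q7929, e3 q10535 L162806 q7930, e3 q10536 (flp_f L175314) q12208, e3 q10537 L162820 q7456, e3 q10538 (flp_f L162829) q8440, e3 q10539 L162863 q10542, e3 q10540 (flp_f L162839) q6614, e3 q10541 (flp_f L162847) q6615, e3 q10542 (flp_f L162863) q10539, e3 q10543 L162885 q10544, e3 q10544 (flp_f L162885) q10543, e3 q10545 L162911 q8374, e3 q10546 L162967 q10551, e3 q10547 L162999 q10555, e3 q10548 (flp_f L162939) q8591, e3 q10549 (flp_f L162941) q6625, e3 q10550 (flp_f L178795) q12643, e3 q10551 (flp_f L162967) q10546, e3 q10552 (flp_f L180345) q12839, e3 q10553 L162981 q6680, e3 q10554 L178349 q12590, e3 q10555 (flp_f L162999) q10547, e3 q10556 (flp_f L163011) q8543, e3 q10557 (flp_f L163013) q6632, e3 q10558 L163029 q8491, e3 q10559 L195392 q14851, trivial⟩ (by decide +kernel)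

theorem ce_f_165 : ∀ r, r < 64 → sm gf (Qf (10560 + r)) = Qf (tab Gen.f (10560 + r)) :=
  edges_tab (sm gf) Qf (tab Gen.f) 10560 [(10560, 6634), (10561, 10613), (10562, 6758), (10563, 10583), (10564, 14856), (10565, 6638), (10566, 10617), (10567, 12711), (10568, 8734), (10569, 6642), (10570, 8530), (10571, 12800), (10572, 12802), (10573, 12157), (10574, 6646), (10575, 12155), (10576, 6647), (10577, 9325), (10578, 14865), (10579, 6649), (10580, 14869), (10581, 14870), (10582, 6651), (10583, 10563), (10584, 8142), (10585, 14857), (10586, 13426), (10587, 6655), (10588, 12126), (10589, 6846), (10590, 14876), (10591, 6844), (10592, 13663), (10593, 6659), (10594, 6663), (10595, 10596), (10596, 10595), (10597, 6664), (10598, 6665), (10599, 6668), (10600, 14877), (10601, 6669), (10602, 6671), (10603, 14879), (10604, 6673), (10605, 14848), (10606, 6687), (10607, 6675), (10608, 6678), (10609, 6690), (10610, 6792), (10611, 6691), (10612, 6692), (10613, 10561), (10614, 8446), (10615, 6694), (10616, 6695), (10617, 10566), (10618,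 14880), (10619, 12832), (10620, 12649), (10621, 6689), (10622, 8517), (10623, 14881)]
    ⟨e3 q10560 (flp_f L163041) q6634, e3 q10561 L164364 q10613, e3 q10562 (flp_f L163067) q6758, e3 q10563 L164097 q10583, e3 q10564 L195432 q14856, e3 q10565 (flp_f L163083) q6638, e3 q10566 L164398 q10617, e3 q10567 L179305 q12711, e3 q10568 (flp_f L163107) q8734, e3 q10569 (flp_f L163109) q6642, e3 q10570 (flp_f L163125) q8530, e3 q10571 L180011 q12800, e3 q10572 L180029 q12802, e3 q10573 L174938 q12157, e3 q10574 (flp_f L164025) q6646, e3 q10575 (flp_f L174924) q12155, e3 q10576 (flp_f L164039) q6647, e3 q10577 (flp_f L164055) q9325, e3 q10578 L195500 q14865, e3 q10579 (flp_f L164069) q6649, e3 q10580 L195538 q14869, e3 q10581 L195546 q14870, e3 q10582 (flp_f L164085) q6651, e3 q10583 (flp_f L164097) q10563, e3 q10584 L164105 q8142, e3 q10585 (flp_f L195444) q14857, e3 q10586 L184484 q13426, e3 q10587 (flp_f L164123) q6655, e3 q10588 (flp_f L174729) q12126, e3 q10589 L164141 q6846, e3 q10590 L195596 q14876, e3 q10591 L164155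 q6844, e3 q10592 L186465 q13663, e3 q10593 (flp_f L164170) q6659, e3 q10594 L164184 q6663, e3 q10595 (flp_f L164200) q10596, e3 q10596 L164200 q10595, e3 q10597 (flp_f L164202) q6664, e3 q10598 (flp_f L164212) q6665, e3 q10599 (flp_f L164222) q6668, e3 q10600 L195608 q14877, e3 q10601 (flp_f L164246) q6669, e3 q10602 (flp_f L164254) q6671, e3 q10603 L195633 q14879, e3 q10604 (flp_f L164274) q6673, e3 q10605 (flp_f L195368) q14848, e3 q10606 L164296 q6687, e3 q10607 (flp_f L164298) q6675, e3 q10608 (flp_f L164308) q6678, e3 q10609 L164322 q6690, e3 q10610 (flp_f L164334) q6792, e3 q10611 L164342 q6691, e3 q10612 L164352 q6692, e3 q10613 (flp_f L164364) q10561, e3 q10614 L164374 q8446, e3 q10615 L164386 q6694, e3 q10616 L164392 q6695, e3 q10617 (flp_f L164398) q10566, e3 q10618 (flp_f L195651) q14880, e3 q10619 L180277 q12832, e3 q10620 L178848 q12649, e3 q10621 (flp_f L164422) q6689, e3 q10622 L164438 q8517, e3 q10623 (flp_f L195661) q14881, trivial⟩ (by decide +kernel)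

theorem ce_f_166 : ∀ r, r < 64 → sm gf (Qf (10624 + r)) = Qf (tab Gen.f (10624 + r)) :=
  edges_tab (sm gf) Qf (tab Gen.f) 10624 [(10624, 14882), (10625, 12029), (10626, 12752), (10627, 9329), (10628, 14885), (10629, 14886), (10630, 14887), (10631, 14900), (10632, 6696), (10633, 6837), (10634, 12381), (10635, 6699), (10636, 8098), (10637, 6852), (10638, 10805), (10639, 10785), (10640, 10672), (10641, 6843), (10642, 6704), (10643, 13589), (10644, 10783), (10645, 6705), (10646, 7184), (10647, 8322), (10648, 12406), (10649, 6747), (10650, 9330), (10651, 10654), (10652, 6711), (10653, 10677), (10654, 10651), (10655, 6757), (10656, 9281), (10657, 13592), (10658, 9270), (10659, 9467), (10660, 9208), (10661, 8479), (10662, 14913), (10663, 8665), (10664, 6730), (10665, 9343), (10666, 14916), (10667, 11959), (10668, 11348), (10669, 13585), (10670, 14917), (10671, 6732), (10672, 10640), (10673, 7730), (10674, 6733), (10675, 6734), (10676, 6737), (10677, 10653), (10678, 10152), (10679, 6742), (10680, 9273), (10681, 6743),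 (10682, 10685), (10683, 13494), (10684, 6751), (10685, 10682), (10686, 9768), (10687, 12918)]
    ⟨e3 q10624 (flp_f L195673) q14882, e3 q10625 (flp_f L173925) q12029, e3 q10626 (flp_f L179607) q12752, e3 q10627 (flp_f L164470) q9329, e3 q10628 (flp_f L195701) q14885, e3 q10629 (flp_f L195705) q14886, e3 q10630 (flp_f L195715) q14887, e3 q10631 L195809 q14900, e3 q10632 (flp_f L164494) q6696, e3 q10633 L164508 q6837, e3 q10634 L176628 q12381, e3 q10635 (flp_f L164520) q6699, e3 q10636 (flp_f L164532) q8098, e3 q10637 L164537 q6852, e3 q10638 (flp_f L165788) q10805, e3 q10639 (flp_f L165648) q10785, e3 q10640 L164793 q10672, e3 q10641 L164568 q6843, e3 q10642 (flp_f L164560) q6704, e3 q10643 (flp_f L185855) q13589, e3 q10644 L165630 q10783, e3 q10645 (flp_f L164583) q6705, e3 q10646 L164599 q7184, e3 q10647 L164613 q8322, e3 q10648 L176873 q12406, e3 q10649 (flp_f L164637) q6747, e3 q10650 L164645 q9330, e3 q10651 L164669 q10654, e3 q10652 (flp_f L164655) q6711, e3 q10653 (flp_f L164841) q10677, e3 q10654 (flp_f L164669)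 q10651, e3 q10655 L164679 q6757, e3 q10656 L164687 q9281, e3 q10657 (flp_f L185891) q13592, e3 q10658 (flp_f L164699) q9270, e3 q10659 L164705 q9467, e3 q10660 L164711 q9208, e3 q10661 (flp_f L164717) q8479, e3 q10662 L195926 q14913, e3 q10663 L164731 q8665, e3 q10664 L164741 q6730, e3 q10665 (flp_f L164753) q9343, e3 q10666 L195954 q14916, e3 q10667 (flp_f L173489) q11959, e3 q10668 (flp_f L169385) q11348, e3 q10669 L185809 q13585, e3 q10670 L195966 q14917, e3 q10671 (flp_f L164779) q6732, e3 q10672 (flp_f L164793) q10640, e3 q10673 L164801 q7730, e3 q10674 (flp_f L164803) q6733, e3 q10675 (flp_f L164815) q6734, e3 q10676 (flp_f L164825) q6737, e3 q10677 L164841 q10653, e3 q10678 L164849 q10152, e3 q10679 L164859 q6742, e3 q10680 L164871 q9273, e3 q10681 (flp_f L164875) q6743, e3 q10682 L164915 q10685, e3 q10683 (flp_f L184993) q13494, e3 q10684 L164905 q6751, e3 q10685 (flp_f L164915) q10682, e3 q10686 L164923 q9768, e3 q10687 L180893 q12918, trivial⟩ (by decide +kernel)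

theorem ce_f_167 : ∀ r, r < 64 → sm gf (Qf (10688 + r)) = Qf (tab Gen.f (10688 + r)) :=
  edges_tab (sm gf) Qf (tab Gen.f) 10688 [(10688, 9769), (10689, 14922), (10690, 13706), (10691, 14904), (10692, 10722), (10693, 14907), (10694, 8450), (10695, 9327), (10696, 14927), (10697, 13713), (10698, 6761), (10699, 12165), (10700, 12339), (10701, 10756), (10702, 6791), (10703, 6764), (10704, 10727), (10705, 13502), (10706, 14932), (10707, 14743), (10708, 6766), (10709, 10712), (10710, 14741), (10711, 14031), (10712, 10709), (10713, 6769), (10714, 8298), (10715, 14942), (10716, 6771), (10717, 8108), (10718, 12919), (10719, 12782), (10720, 8906), (10721, 12616), (10722, 10692), (10723, 6776), (10724, 14949), (10725, 6778), (10726, 6780), (10727, 10704), (10728, 10844), (10729, 10845), (10730, 9202), (10731, 14953), (10732, 6783), (10733, 9657), (10734, 6789), (10735, 6790), (10736, 6810), (10737, 6806), (10738, 14954), (10739, 6807), (10740, 13562), (10741, 9297), (10742, 13528), (10743, 6797), (10744, 13989), (10745, 6826),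 (10746, 9307), (10747, 6801), (10748, 10843), (10749, 13569), (10750, 13574), (10751, 12474)]
    ⟨e3 q10688 L164935 q9769, e3 q10689 (flp_f L196021) q14922, e3 q10690 (flp_f L186891) q13706, e3 q10691 (flp_f L195850) q14904, e3 q10692 (flp_f L165134) q10722, e3 q10693 (flp_f L195882) q14907, e3 q10694 (flp_f L164975) q8450, e3 q10695 L164985 q9327, e3 q10696 L196069 q14927, e3 q10697 (flp_f L186955) q13713, e3 q10698 (flp_f L164999) q6761, e3 q10699 (flp_f L175019) q12165, e3 q10700 (flp_f L176256) q12339, e3 q10701 L165404 q10756, e3 q10702 (flp_f L165021) q6791, e3 q10703 (flp_f L165023) q6764, e3 q10704 (flp_f L165175) q10727, e3 q10705 (flp_f L185083) q13502, e3 q10706 L196111 q14932, e3 q10707 L194394 q14743, e3 q10708 (flp_f L165047) q6766, e3 q10709 L165067 q10712, e3 q10710 L194376 q14741, e3 q10711 L189307 q14031, e3 q10712 (flp_f L165067) q10709, e3 q10713 (flp_f L165070) q6769, e3 q10714 L165082 q8298, e3 q10715 L196169 q14942, e3 q10716 (flp_f L165088) q6771, e3 q10717 L165102 q8108, e3 q10718 (flp_f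 L180901) q12919, e3 q10719 L179859 q12782, e3 q10720 L165118 q8906, e3 q10721 (flp_f L178595) q12616, e3 q10722 L165134 q10692, e3 q10723 (flp_f L165136) q6776, e3 q10724 L196226 q14949, e3 q10725 (flp_f L165149) q6778, e3 q10726 L165161 q6780, e3 q10727 L165175 q10704, e3 q10728 (flp_f L166102) q10844, e3 q10729 (flp_f L166116) q10845, e3 q10730 L165202 q9202, e3 q10731 L196261 q14953, e3 q10732 (flp_f L165216) q6783, e3 q10733 L165236 q9657, e3 q10734 L165246 q6789, e3 q10735 L165254 q6790, e3 q10736 (flp_f L165266) q6810, e3 q10737 L165274 q6806, e3 q10738 L196273 q14954, e3 q10739 L165288 q6807, e3 q10740 (flp_f L185573) q13562, e3 q10741 L165302 q9297, e3 q10742 L185303 q13528, e3 q10743 (flp_f L165308) q6797, e3 q10744 (flp_f L189013) q13989, e3 q10745 L165326 q6826, e3 q10746 L165338 q9307, e3 q10747 (flp_f L165342) q6801, e3 q10748 (flp_f L166094) q10843, e3 q10749 (flp_f L185659) q13569, e3 q10750 (flp_f L185701) q13574, e3 q10751 (flp_f L185637) q12474, trivial⟩ (by decide +kernel)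

theorem ce_f_168 : ∀ r, r < 64 → sm gf (Qf (10752 + r)) = Qf (tab Gen.f (10752 + r)) :=
  edges_tab (sm gf) Qf (tab Gen.f) 10752 [(10752, 6805), (10753, 9279), (10754, 14754), (10755, 10779), (10756, 10701), (10757, 12160), (10758, 7890), (10759, 7888), (10760, 10439), (10761, 14967), (10762, 11401), (10763, 10765), (10764, 6816), (10765, 10763), (10766, 6818), (10767, 6819), (10768, 14971), (10769, 6821), (10770, 13990), (10771, 8646), (10772, 9244), (10773, 13580), (10774, 14951), (10775, 6825), (10776, 6827), (10777, 9289), (10778, 6829), (10779, 10755), (10780, 10824), (10781, 11922), (10782, 6835), (10783, 10644), (10784, 12334), (10785, 10639), (10786, 6838), (10787, 9337), (10788, 14980), (10789, 14983), (10790, 6840), (10791, 10794), (10792, 14986), (10793, 6841), (10794, 10791), (10795, 13437), (10796, 13438), (10797, 9125), (10798, 12380), (10799, 14993), (10800, 14994), (10801, 9733), (10802, 6848), (10803, 6849), (10804, 9734), (10805, 10638), (10806, 14998), (10807, 6853), (10808, 10812), (10809, 15000),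 (10810, 7535), (10811, 15002), (10812, 10808), (10813, 6860), (10814, 15005), (10815, 9456)]
    ⟨e3 q10752 (flp_f L165360) q6805, e3 q10753 L165378 q9279, e3 q10754 (flp_f L194494) q14754, e3 q10755 (flp_f L165606) q10779, e3 q10756 (flp_f L165404) q10701, e3 q10757 (flp_f L174970) q12160, e3 q10758 (flp_f L165426) q7890, e3 q10759 (flp_f L165436) q7888, e3 q10760 (flp_f L165448) q10439, e3 q10761 (flp_f L196401) q14967, e3 q10762 (flp_f L169699) q11401, e3 q10763 L165498 q10765, e3 q10764 (flp_f L165474) q6816, e3 q10765 (flp_f L165498) q10763, e3 q10766 (flp_f L165502) q6818, e3 q10767 (flp_f L165510) q6819, e3 q10768 L196442 q14971, e3 q10769 (flp_f L165522) q6821, e3 q10770 (flp_f L189023) q13990, e3 q10771 L165552 q8646, e3 q10772 (flp_f L165562) q9244, e3 q10773 L185759 q13580, e3 q10774 (flp_f L196251) q14951, e3 q10775 (flp_f L165574) q6825, e3 q10776 (flp_f L165578) q6827, e3 q10777 L165584 q9289, e3 q10778 (flp_f L165586) q6829, e3 q10779 L165606 q10755, e3 q10780 L165935 q10824, e3 q10781 L173236 q11922,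 e3 q10782 (flp_f L165620) q6835, e3 q10783 (flp_f L165630) q10644, e3 q10784 (flp_f L176193) q12334, e3 q10785 L165648 q10639, e3 q10786 (flp_f L165650) q6838, e3 q10787 L165668 q9337, e3 q10788 L196528 q14980, e3 q10789 L196544 q14983, e3 q10790 (flp_f L165676) q6840, e3 q10791 L165704 q10794, e3 q10792 L196563 q14986, e3 q10793 (flp_f L165694) q6841, e3 q10794 (flp_f L165704) q10791, e3 q10795 L184539 q13437, e3 q10796 L184547 q13438, e3 q10797 (flp_f L165726) q9125, e3 q10798 (flp_f L176614) q12380, e3 q10799 L196620 q14993, e3 q10800 L196628 q14994, e3 q10801 (flp_f L165756) q9733, e3 q10802 (flp_f L165758) q6848, e3 q10803 (flp_f L165766) q6849, e3 q10804 (flp_f L165778) q9734, e3 q10805 L165788 q10638, e3 q10806 L196659 q14998, e3 q10807 (flp_f L165796) q6853, e3 q10808 L165834 q10812, e3 q10809 (flp_f L196681) q15000, e3 q10810 L165822 q7535, e3 q10811 L196689 q15002, e3 q10812 (flp_f L165834) q10808, e3 q10813 (flp_f L165836) q6860, e3 q10814 L196719 q15005, e3 q10815 L165857 q9456, trivial⟩ (by decide +kernel)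

theorem ce_f_169 : ∀ r, r < 64 → sm gf (Qf (10816 + r)) = Qf (tab Gen.f (10816 + r)) :=
  edges_tab (sm gf) Qf (tab Gen.f) 10816 [(10816, 13701), (10817, 14977), (10818, 9334), (10819, 14914), (10820, 13552), (10821, 15010), (10822, 6869), (10823, 9238), (10824, 10780), (10825, 6870), (10826, 6872), (10827, 6873), (10828, 8442), (10829, 6876), (10830, 9424), (10831, 6878), (10832, 6879), (10833, 7577), (10834, 6881), (10835, 10835), (10836, 13704), (10837, 6885), (10838, 14973), (10839, 9204), (10840, 6890), (10841, 14963), (10842, 15019), (10843, 10748), (10844, 10728), (10845, 10729), (10846, 13566), (10847, 11242), (10848, 14195), (10849, 11441), (10850, 14454), (10851, 15029), (10852, 6897), (10853, 10853), (10854, 10854), (10855, 10862), (10856, 6901), (10857, 10857), (10858, 10858), (10859, 7668), (10860, 11883), (10861, 14747), (10862, 10855), (10863, 6906), (10864, 6908), (10865, 9353), (10866, 13344), (10867, 9531), (10868, 6952), (10869, 6954), (10870, 10925), (10871, 11222), (10872, 7160), (10873, 15043),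 (10874, 6912), (10875, 14268), (10876, 10941), (10877, 15050), (10878, 6914), (10879, 6916)]
    ⟨e3 q10816 (flp_f L186829) q13701, e3 q10817 (flp_f L196506) q14977, e3 q10818 L165883 q9334, e3 q10819 (flp_f L195944) q14914, e3 q10820 (flp_f L185473) q13552, e3 q10821 L196753 q15010, e3 q10822 (flp_f L165905) q6869, e3 q10823 L165919 q9238, e3 q10824 (flp_f L165935) q10780, e3 q10825 (flp_f L165937) q6870, e3 q10826 (flp_f L165949) q6872, e3 q10827 (flp_f L165959) q6873, e3 q10828 (flp_f L165973) q8442, e3 q10829 (flp_f L165977) q6876, e3 q10830 L165985 q9424, e3 q10831 (flp_f L165987) q6878, e3 q10832 (flp_f L165995) q6879, e3 q10833 (flp_f L166007) q7577, e3 q10834 (flp_f L166021) q6881, e3 q10835 L166031 q10835, e3 q10836 L186869 q13704, e3 q10837 (flp_f L166044) q6885, e3 q10838 (flp_f L196468) q14973, e3 q10839 L166068 q9204, e3 q10840 L166078 q6890, e3 q10841 L196361 q14963, e3 q10842 (flp_f L196839) q15019, e3 q10843 L166094 q10748, e3 q10844 L166102 q10728, e3 q10845 L166116 q10729, e3 q10846 (flp_f L185615)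 q13566, e3 q10847 (flp_f L168714) q11242, e3 q10848 (flp_f L190613) q14195, e3 q10849 (flp_f L169976) q11441, e3 q10850 (flp_f L192387) q14454, e3 q10851 L196905 q15029, e3 q10852 (flp_f L166160) q6897, e3 q10853 L166169 q10853, e3 q10854 L166179 q10854, e3 q10855 (flp_f L166254) q10862, e3 q10856 (flp_f L166188) q6901, e3 q10857 L166203 q10857, e3 q10858 L166217 q10858, e3 q10859 (flp_f L166230) q7668, e3 q10860 L172935 q11883, e3 q10861 L194436 q14747, e3 q10862 L166254 q10855, e3 q10863 (flp_f L166256) q6906, e3 q10864 L166274 q6908, e3 q10865 L166286 q9353, e3 q10866 (flp_f L183877) q13344, e3 q10867 (flp_f L166302) q9531, e3 q10868 L166310 q6952, e3 q10869 L166314 q6954, e3 q10870 (flp_f L166710) q10925, e3 q10871 (flp_f L168596) q11222, e3 q10872 (flp_f L166330) q7160, e3 q10873 L196987 q15043, e3 q10874 (flp_f L166336) q6912, e3 q10875 L191105 q14268, e3 q10876 L166800 q10941, e3 q10877 L197045 q15050, e3 q10878 (flp_f L166366) q6914, e3 q10879 L166374 q6916, trivial⟩ (by decide +kernel)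

theorem ce_f_170 : ∀ r, r < 64 → sm gf (Qf (10880 + r)) = Qf (tab Gen.f (10880 + r)) :=
  edges_tab (sm gf) Qf (tab Gen.f) 10880 [(10880, 14252), (10881, 15052), (10882, 15056), (10883, 6966), (10884, 10944), (10885, 11524), (10886, 7358), (10887, 15061), (10888, 6923), (10889, 10071), (10890, 10963), (10891, 6927), (10892, 6931), (10893, 14321), (10894, 15062), (10895, 11646), (10896, 6932), (10897, 10897), (10898, 6934), (10899, 10901), (10900, 6943), (10901, 10899), (10902, 10967), (10903, 6938), (10904, 6946), (10905, 10905), (10906, 10976), (10907, 10975), (10908, 10909), (10909, 10908), (10910, 6986), (10911, 15077), (10912, 6988), (10913, 6944), (10914, 10969), (10915, 6992), (10916, 15070), (10917, 6993), (10918, 15084), (10919, 6948), (10920, 15086), (10921, 6949), (10922, 6951), (10923, 12942), (10924, 15035), (10925, 10870), (10926, 7156), (10927, 15036), (10928, 15037), (10929, 15094), (10930, 15096), (10931, 6955), (10932, 6957), (10933, 8672), (10934, 15099), (10935, 6958), (10936, 8691), (10937,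 15101), (10938, 15102), (10939, 6960), (10940, 15087), (10941, 10876), (10942, 11566), (10943, 14705)]
    ⟨e3 q10880 (flp_f L191009) q14252, e3 q10881 (flp_f L197053) q15052, e3 q10882 L197073 q15056, e3 q10883 L166400 q6966, e3 q10884 (flp_f L166822) q10944, e3 q10885 (flp_f L170508) q11524, e3 q10886 L166418 q7358, e3 q10887 L197099 q15061, e3 q10888 (flp_f L166422) q6923, e3 q10889 (flp_f L166436) q10071, e3 q10890 L166952 q10963, e3 q10891 (flp_f L166448) q6927, e3 q10892 L166456 q6931, e3 q10893 (flp_f L191469) q14321, e3 q10894 (flp_f L197107) q15062, e3 q10895 (flp_f L171296) q11646, e3 q10896 (flp_f L166476) q6932, e3 q10897 L166491 q10897, e3 q10898 (flp_f L166494) q6934, e3 q10899 L166525 q10901, e3 q10900 L166517 q6943, e3 q10901 (flp_f L166525) q10899, e3 q10902 (flp_f L166980) q10967, e3 q10903 (flp_f L166534) q6938, e3 q10904 L166546 q6946, e3 q10905 L166550 q10905, e3 q10906 (flp_f L167064) q10976, e3 q10907 (flp_f L167058) q10975, e3 q10908 L166571 q10909, e3 q10909 (flp_f L166571) q10908, e3 q10910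 L166595 q6986, e3 q10911 L197182 q15077, e3 q10912 L166619 q6988, e3 q10913 (flp_f L166608) q6944, e3 q10914 (flp_f L166998) q10969, e3 q10915 (flp_f L166646) q6992, e3 q10916 (flp_f L197149) q15070, e3 q10917 (flp_f L166656) q6993, e3 q10918 L197232 q15084, e3 q10919 (flp_f L166662) q6948, e3 q10920 L197247 q15086, e3 q10921 (flp_f L166672) q6949, e3 q10922 (flp_f L166678) q6951, e3 q10923 (flp_f L181049) q12942, e3 q10924 (flp_f L196943) q15035, e3 q10925 L166710 q10870, e3 q10926 (flp_f L166718) q7156, e3 q10927 (flp_f L196953) q15036, e3 q10928 (flp_f L196965) q15037, e3 q10929 L197295 q15094, e3 q10930 L197305 q15096, e3 q10931 (flp_f L166732) q6955, e3 q10932 (flp_f L166740) q6957, e3 q10933 (flp_f L166758) q8672, e3 q10934 L197321 q15099, e3 q10935 (flp_f L166766) q6958, e3 q10936 L166778 q8691, e3 q10937 L197333 q15101, e3 q10938 L197337 q15102, e3 q10939 (flp_f L166788) q6960, e3 q10940 (flp_f L197257) q15087, e3 q10941 (flp_f L166800) q10876, e3 q10942 (flp_f L170779) q11566, e3 q10943 (flp_f L194061)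 q14705, trivial⟩ (by decide +kernel)

theorem ce_f_171 : ∀ r, r < 64 → sm gf (Qf (10944 + r)) = Qf (tab Gen.f (10944 + r)) :=
  edges_tab (sm gf) Qf (tab Gen.f) 10944 [(10944, 10884), (10945, 7188), (10946, 7347), (10947, 14298), (10948, 15114), (10949, 15116), (10950, 15118), (10951, 6971), (10952, 6972), (10953, 11318), (10954, 6976), (10955, 15120), (10956, 6977), (10957, 11437), (10958, 11355), (10959, 15124), (10960, 6980), (10961, 6981), (10962, 10962), (10963, 10890), (10964, 7072), (10965, 7319), (10966, 15076), (10967, 10902), (10968, 10968), (10969, 10914), (10970, 15135), (10971, 15079), (10972, 15081), (10973, 6994), (10974, 6998), (10975, 10907), (10976, 10906), (10977, 15141), (10978, 6999), (10979, 15150), (10980, 9532), (10981, 7001), (10982, 7209), (10983, 11108), (10984, 10094), (10985, 14456), (10986, 7005), (10987, 11206), (10988, 11000), (10989, 15161), (10990, 7007), (10991, 14422), (10992, 10107), (10993, 15167), (10994, 15170), (10995, 7010), (10996, 15174), (10997, 15175), (10998, 7012),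 (10999, 15082), (11000, 10988), (11001, 11241), (11002, 7015), (11003, 15184), (11004, 9492), (11005, 7017), (11006, 7018), (11007, 7019)]
    ⟨e3 q10944 L166822 q10884, e3 q10945 L166828 q7188, e3 q10946 L166836 q7347, e3 q10947 L191317 q14298, e3 q10948 L197411 q15114, e3 q10949 L197430 q15116, e3 q10950 L197447 q15118, e3 q10951 (flp_f L166863) q6971, e3 q10952 (flp_f L166871) q6972, e3 q10953 (flp_f L169205) q11318, e3 q10954 (flp_f L166885) q6976, e3 q10955 L197461 q15120, e3 q10956 (flp_f L166899) q6977, e3 q10957 (flp_f L169948) q11437, e3 q10958 L169439 q11355, e3 q10959 L197499 q15124, e3 q10960 (flp_f L166929) q6980, e3 q10961 (flp_f L166933) q6981, e3 q10962 L166943 q10962, e3 q10963 (flp_f L166952) q10890, e3 q10964 (flp_f L166960) q7072, e3 q10965 L166966 q7319, e3 q10966 L197180 q15076, e3 q10967 L166980 q10902, e3 q10968 L166985 q10968, e3 q10969 L166998 q10914, e3 q10970 (flp_f L197591) q15135, e3 q10971 L197205 q15079, e3 q10972 L197218 q15081, e3 q10973 L167028 q6994, e3 q10974 L167052 q6998, e3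 q10975 L167058 q10907, e3 q10976 L167064 q10906, e3 q10977 (flp_f L197637) q15141, e3 q10978 (flp_f L167070) q6999, e3 q10979 L197693 q15150, e3 q10980 (flp_f L167086) q9532, e3 q10981 (flp_f L167088) q7001, e3 q10982 (flp_f L167102) q7209, e3 q10983 L167892 q11108, e3 q10984 L167122 q10094, e3 q10985 (flp_f L192409) q14456, e3 q10986 (flp_f L167128) q7005, e3 q10987 L168490 q11206, e3 q10988 L167198 q11000, e3 q10989 L197763 q15161, e3 q10990 (flp_f L167150) q7007, e3 q10991 L192179 q14422, e3 q10992 (flp_f L167164) q10107, e3 q10993 L197791 q15167, e3 q10994 L197799 q15170, e3 q10995 (flp_f L167172) q7010, e3 q10996 L197815 q15174, e3 q10997 L197819 q15175, e3 q10998 (flp_f L167184) q7012, e3 q10999 (flp_f L197222) q15082, e3 q11000 (flp_f L167198) q10988, e3 q11001 L168704 q11241, e3 q11002 (flp_f L167208) q7015, e3 q11003 L197873 q15184, e3 q11004 (flp_f L167224) q9492, e3 q11005 (flp_f L167226) q7017, e3 q11006 (flp_f L167234) q7018, e3 q11007 (flp_f L167242) q7019, trivial⟩ (by decide +kernel)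

theorem ce_f_172 : ∀ r, r < 64 → sm gf (Qf (11008 + r)) = Qf (tab Gen.f (11008 + r)) :=
  edges_tab (sm gf) Qf (tab Gen.f) 11008 [(11008, 7130), (11009, 14270), (11010, 10001), (11011, 15190), (11012, 7026), (11013, 7028), (11014, 11019), (11015, 15198), (11016, 7025), (11017, 15201), (11018, 15192), (11019, 11014), (11020, 15193), (11021, 15194), (11022, 15211), (11023, 15213), (11024, 7029), (11025, 10118), (11026, 7033), (11027, 11030), (11028, 7034), (11029, 13099), (11030, 11027), (11031, 7036), (11032, 7100), (11033, 12914), (11034, 15220), (11035, 15222), (11036, 7042), (11037, 15225), (11038, 7043), (11039, 11485), (11040, 7323), (11041, 15229), (11042, 11060), (11043, 15236), (11044, 15237), (11045, 7047), (11046, 15226), (11047, 13819), (11048, 15245), (11049, 7050), (11050, 9577), (11051, 15250), (11052, 15251), (11053, 7051), (11054, 15247), (11055, 15256), (11056, 15258), (11057, 7053), (11058, 7054), (11059, 11059), (11060, 11042), (11061, 11076), (11062, 15254), (11063, 11561), (11064, 7061), (11065,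 11068), (11066, 7062), (11067, 13158), (11068, 11065), (11069, 7064), (11070, 7067), (11071, 8250)]
    ⟨e3 q11008 L167258 q7130, e3 q11009 L191133 q14270, e3 q11010 (flp_f L167272) q10001, e3 q11011 L197915 q15190, e3 q11012 L167282 q7026, e3 q11013 L167286 q7028, e3 q11014 (flp_f L167316) q11019, e3 q11015 L197955 q15198, e3 q11016 (flp_f L167296) q7025, e3 q11017 L197971 q15201, e3 q11018 (flp_f L197933) q15192, e3 q11019 L167316 q11014, e3 q11020 (flp_f L197937) q15193, e3 q11021 (flp_f L197941) q15194, e3 q11022 L198007 q15211, e3 q11023 L198021 q15213, e3 q11024 (flp_f L167330) q7029, e3 q11025 L167342 q10118, e3 q11026 (flp_f L167346) q7033, e3 q11027 L167393 q11030, e3 q11028 (flp_f L167365) q7034, e3 q11029 L182129 q13099, e3 q11030 (flp_f L167393) q11027, e3 q11031 (flp_f L167395) q7036, e3 q11032 (flp_f L167413) q7100, e3 q11033 (flp_f L180861) q12914, e3 q11034 L198074 q15220, e3 q11035 L198083 q15222, e3 q11036 (flp_f L167431) q7042, e3 q11037 L198097 q15225, e3 q11038 (flp_f L167440) q7043, e3 q11039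 L170262 q11485, e3 q11040 (flp_f L167456) q7323, e3 q11041 L198117 q15229, e3 q11042 L167566 q11060, e3 q11043 L198165 q15236, e3 q11044 L198169 q15237, e3 q11045 (flp_f L167480) q7047, e3 q11046 (flp_f L198107) q15226, e3 q11047 L187745 q13819, e3 q11048 L198224 q15245, e3 q11049 (flp_f L167496) q7050, e3 q11050 (flp_f L167506) q9577, e3 q11051 L198252 q15250, e3 q11052 L198262 q15251, e3 q11053 (flp_f L167520) q7051, e3 q11054 (flp_f L198238) q15247, e3 q11055 L198316 q15256, e3 q11056 L198330 q15258, e3 q11057 (flp_f L167545) q7053, e3 q11058 (flp_f L167549) q7054, e3 q11059 L167559 q11059, e3 q11060 (flp_f L167566) q11042, e3 q11061 L167690 q11076, e3 q11062 (flp_f L198290) q15254, e3 q11063 L170730 q11561, e3 q11064 (flp_f L167586) q7061, e3 q11065 L167631 q11068, e3 q11066 (flp_f L167605) q7062, e3 q11067 L182491 q13158, e3 q11068 (flp_f L167631) q11065, e3 q11069 (flp_f L167633) q7064, e3 q11070 (flp_f L167643) q7067, e3 q11071 L167659 q8250, trivial⟩ (by decide +kernel)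

theorem ce_f_173 : ∀ r, r < 64 → sm gf (Qf (11072 + r)) = Qf (tab Gen.f (11072 + r)) :=
  edges_tab (sm gf) Qf (tab Gen.f) 11072 [(11072, 11072), (11073, 11073), (11074, 15130), (11075, 11075), (11076, 11061), (11077, 13878), (11078, 7073), (11079, 15282), (11080, 7079), (11081, 7081), (11082, 7082), (11083, 11091), (11084, 15283), (11085, 15295), (11086, 15298), (11087, 7078), (11088, 13866), (11089, 15284), (11090, 15285), (11091, 11083), (11092, 15307), (11093, 15287), (11094, 15288), (11095, 15313), (11096, 15315), (11097, 15317), (11098, 7083), (11099, 7084), (11100, 15319), (11101, 10184), (11102, 9544), (11103, 10009), (11104, 15325), (11105, 7088), (11106, 11175), (11107, 10134), (11108, 10983), (11109, 14413), (11110, 15327), (11111, 15332), (11112, 15334), (11113, 7094), (11114, 8625), (11115, 15336), (11116, 7095), (11117, 15339), (11118, 7096), (11119, 14844), (11120, 7098), (11121, 15344), (11122, 8670), (11123, 15348), (11124, 15350), (11125, 15352), (11126, 7102), (11127, 11131), (11128, 15356),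 (11129, 7104), (11130, 7106), (11131, 11127), (11132, 15358), (11133, 10087), (11134, 9936), (11135, 15366)]
    ⟨e3 q11072 L167667 q11072, e3 q11073 L167670 q11073, e3 q11074 L197553 q15130, e3 q11075 L167681 q11075, e3 q11076 (flp_f L167690) q11061, e3 q11077 (flp_f L188193) q13878, e3 q11078 (flp_f L167696) q7073, e3 q11079 L198482 q15282, e3 q11080 L167714 q7079, e3 q11081 L167718 q7081, e3 q11082 L167722 q7082, e3 q11083 (flp_f L167772) q11091, e3 q11084 (flp_f L198496) q15283, e3 q11085 L198571 q15295, e3 q11086 L198595 q15298, e3 q11087 (flp_f L167742) q7078, e3 q11088 (flp_f L188077) q13866, e3 q11089 (flp_f L198502) q15284, e3 q11090 (flp_f L198510) q15285, e3 q11091 L167772 q11083, e3 q11092 L198655 q15307, e3 q11093 (flp_f L198520) q15287, e3 q11094 (flp_f L198528) q15288, e3 q11095 L198709 q15313, e3 q11096 L198726 q15315, e3 q11097 L198741 q15317, e3 q11098 (flp_f L167808) q7083, e3 q11099 (flp_f L167816) q7084, e3 q11100 (flp_f L198757) q15319, e3 q11101 L167836 q10184, e3 q11102 L167844 q9544, e3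 q11103 L167856 q10009, e3 q11104 L198799 q15325, e3 q11105 (flp_f L167862) q7088, e3 q11106 L168298 q11175, e3 q11107 L167882 q10134, e3 q11108 (flp_f L167892) q10983, e3 q11109 (flp_f L192113) q14413, e3 q11110 (flp_f L198821) q15327, e3 q11111 L198839 q15332, e3 q11112 L198849 q15334, e3 q11113 (flp_f L167908) q7094, e3 q11114 (flp_f L167918) q8625, e3 q11115 L198859 q15336, e3 q11116 (flp_f L167928) q7095, e3 q11117 L198873 q15339, e3 q11118 (flp_f L167940) q7096, e3 q11119 (flp_f L195317) q14844, e3 q11120 (flp_f L167956) q7098, e3 q11121 L198909 q15344, e3 q11122 L167969 q8670, e3 q11123 L198944 q15348, e3 q11124 L198957 q15350, e3 q11125 L198966 q15352, e3 q11126 (flp_f L167986) q7102, e3 q11127 (flp_f L168072) q11131, e3 q11128 L198984 q15356, e3 q11129 (flp_f L168016) q7104, e3 q11130 L168022 q7106, e3 q11131 L168072 q11127, e3 q11132 (flp_f L198996) q15358, e3 q11133 L168070 q10087, e3 q11134 (flp_f L168086) q9936, e3 q11135 L199044 q15366, trivial⟩ (by decide +kernel)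

theorem ce_f_174 : ∀ r, r < 64 → sm gf (Qf (11136 + r)) = Qf (tab Gen.f (11136 + r)) :=
  edges_tab (sm gf) Qf (tab Gen.f) 11136 [(11136, 7107), (11137, 14201), (11138, 15370), (11139, 11167), (11140, 15375), (11141, 15376), (11142, 7109), (11143, 15357), (11144, 7112), (11145, 7113), (11146, 11148), (11147, 15380), (11148, 11146), (11149, 15381), (11150, 15390), (11151, 7114), (11152, 7120), (11153, 7116), (11154, 15394), (11155, 15398), (11156, 7117), (11157, 15402), (11158, 15403), (11159, 7118), (11160, 15400), (11161, 15391), (11162, 15411), (11163, 15414), (11164, 7121), (11165, 7122), (11166, 11166), (11167, 11139), (11168, 11198), (11169, 15407), (11170, 14438), (11171, 15427), (11172, 7126), (11173, 7135), (11174, 7136), (11175, 11106), (11176, 14248), (11177, 15187), (11178, 7134), (11179, 7132), (11180, 15186), (11181, 14434), (11182, 15432), (11183, 10117), (11184, 8623), (11185, 15428), (11186, 15429), (11187, 14256), (11188, 15445), (11189, 15446), (11190, 7138), (11191, 7139), (11192, 15447), (11193,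 11193), (11194, 11194), (11195, 14432), (11196, 10106), (11197, 11197), (11198, 11168), (11199, 14418)]
    ⟨e3 q11136 (flp_f L168090) q7107, e3 q11137 (flp_f L190657) q14201, e3 q11138 L199064 q15370, e3 q11139 L168250 q11167, e3 q11140 L199084 q15375, e3 q11141 L199092 q15376, e3 q11142 (flp_f L168122) q7109, e3 q11143 (flp_f L198990) q15357, e3 q11144 L168132 q7112, e3 q11145 L168138 q7113, e3 q11146 (flp_f L168158) q11148, e3 q11147 (flp_f L199112) q15380, e3 q11148 L168158 q11146, e3 q11149 (flp_f L199116) q15381, e3 q11150 L199152 q15390, e3 q11151 (flp_f L168168) q7114, e3 q11152 L168180 q7120, e3 q11153 (flp_f L168184) q7116, e3 q11154 L199173 q15394, e3 q11155 L199187 q15398, e3 q11156 (flp_f L168204) q7117, e3 q11157 L199203 q15402, e3 q11158 L199209 q15403, e3 q11159 (flp_f L168212) q7118, e3 q11160 (flp_f L199197) q15400, e3 q11161 (flp_f L199162) q15391, e3 q11162 L199241 q15411, e3 q11163 L199249 q15414, e3 q11164 (flp_f L168231) q7121, e3 q11165 (flp_f L168235) q7122, e3 q11166 L168243 q11166, e3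 q11167 (flp_f L168250) q11139, e3 q11168 L168432 q11198, e3 q11169 L199295 q15407, e3 q11170 L192281 q14438, e3 q11171 L199337 q15427, e3 q11172 (flp_f L168268) q7126, e3 q11173 L168282 q7135, e3 q11174 L168288 q7136, e3 q11175 (flp_f L168298) q11106, e3 q11176 L190961 q14248, e3 q11177 (flp_f L197901) q15187, e3 q11178 L168320 q7134, e3 q11179 (flp_f L168322) q7132, e3 q11180 (flp_f L197893) q15186, e3 q11181 (flp_f L192249) q14434, e3 q11182 (flp_f L199379) q15432, e3 q11183 L168346 q10117, e3 q11184 (flp_f L168354) q8623, e3 q11185 (flp_f L199349) q15428, e3 q11186 (flp_f L199355) q15429, e3 q11187 (flp_f L191037) q14256, e3 q11188 L199433 q15445, e3 q11189 L199440 q15446, e3 q11190 (flp_f L168382) q7138, e3 q11191 (flp_f L168385) q7139, e3 q11192 (flp_f L199457) q15447, e3 q11193 L168401 q11193, e3 q11194 L168404 q11194, e3 q11195 L192239 q14432, e3 q11196 L168415 q10106, e3 q11197 L168423 q11197, e3 q11198 (flp_f L168432) q11168, e3 q11199 (flp_f L192149) q14418, trivial⟩ (by decide +kernel)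

theorem ce_f_175 : ∀ r, r < 64 → sm gf (Qf (11200 + r)) = Qf (tab Gen.f (11200 + r)) :=
  edges_tab (sm gf) Qf (tab Gen.f) 11200 [(11200, 15464), (11201, 15466), (11202, 7146), (11203, 15156), (11204, 15470), (11205, 7147), (11206, 10987), (11207, 15474), (11208, 7158), (11209, 7161), (11210, 7162), (11211, 11228), (11212, 15475), (11213, 11220), (11214, 15486), (11215, 7151), (11216, 15489), (11217, 7152), (11218, 15492), (11219, 7153), (11220, 11213), (11221, 8674), (11222, 10871), (11223, 15498), (11224, 15502), (11225, 7157), (11226, 15506), (11227, 15476), (11228, 11211), (11229, 15511), (11230, 15041), (11231, 15515), (11232, 15478), (11233, 15519), (11234, 15521), (11235, 15523), (11236, 7163), (11237, 7164), (11238, 15525), (11239, 10099), (11240, 10100), (11241, 11001), (11242, 10847), (11243, 15533), (11244, 15536), (11245, 7170), (11246, 13217), (11247, 10123), (11248, 15541), (11249, 7173), (11250, 15545), (11251, 15548), (11252, 15550), (11253, 7175), (11254, 11327), (11255, 10049), (11256, 10075),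 (11257, 15558), (11258, 7179), (11259, 11418), (11260, 15563), (11261, 14800), (11262, 8376), (11263, 15109)]
    ⟨e3 q11200 L199570 q15464, e3 q11201 L199586 q15466, e3 q11202 (flp_f L168444) q7146, e3 q11203 L197743 q15156, e3 q11204 L199612 q15470, e3 q11205 (flp_f L168474) q7147, e3 q11206 (flp_f L168490) q10987, e3 q11207 L199640 q15474, e3 q11208 L168500 q7158, e3 q11209 L168504 q7161, e3 q11210 L168508 q7162, e3 q11211 (flp_f L168628) q11228, e3 q11212 (flp_f L199652) q15475, e3 q11213 L168572 q11220, e3 q11214 L199712 q15486, e3 q11215 (flp_f L168536) q7151, e3 q11216 L199726 q15489, e3 q11217 (flp_f L168548) q7152, e3 q11218 L199740 q15492, e3 q11219 (flp_f L168562) q7153, e3 q11220 (flp_f L168572) q11213, e3 q11221 (flp_f L168586) q8674, e3 q11222 L168596 q10871, e3 q11223 L199775 q15498, e3 q11224 L199803 q15502, e3 q11225 (flp_f L168608) q7157, e3 q11226 L199823 q15506, e3 q11227 (flp_f L199658) q15476, e3 q11228 L168628 q11211, e3 q11229 L199857 q15511, e3 q11230 (flp_f L196981) q15041, e3 q11231 L199875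 q15515, e3 q11232 (flp_f L199668) q15478, e3 q11233 L199891 q15519, e3 q11234 L199910 q15521, e3 q11235 L199925 q15523, e3 q11236 (flp_f L168662) q7163, e3 q11237 (flp_f L168670) q7164, e3 q11238 (flp_f L199941) q15525, e3 q11239 L168690 q10099, e3 q11240 L168696 q10100, e3 q11241 (flp_f L168704) q11001, e3 q11242 L168714 q10847, e3 q11243 L200001 q15533, e3 q11244 L200033 q15536, e3 q11245 (flp_f L168730) q7170, e3 q11246 (flp_f L182883) q13217, e3 q11247 (flp_f L168758) q10123, e3 q11248 L200063 q15541, e3 q11249 (flp_f L168764) q7173, e3 q11250 L200089 q15545, e3 q11251 L200111 q15548, e3 q11252 L200125 q15550, e3 q11253 (flp_f L168790) q7175, e3 q11254 L169265 q11327, e3 q11255 L168804 q10049, e3 q11256 L168812 q10075, e3 q11257 L200179 q15558, e3 q11258 (flp_f L168820) q7179, e3 q11259 L169831 q11418, e3 q11260 L200211 q15563, e3 q11261 L194935 q14800, e3 q11262 (flp_f L168853) q8376, e3 q11263 (flp_f L197377) q15109, trivial⟩ (by decide +kernel)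

theorem ce_f_176 : ∀ r, r < 64 → sm gf (Qf (11264 + r)) = Qf (tab Gen.f (11264 + r)) :=
  edges_tab (sm gf) Qf (tab Gen.f) 11264 [(11264, 7186), (11265, 11311), (11266, 11280), (11267, 15110), (11268, 7190), (11269, 14845), (11270, 12899), (11271, 15573), (11272, 15576), (11273, 15578), (11274, 7194), (11275, 15561), (11276, 15583), (11277, 7195), (11278, 15586), (11279, 7196), (11280, 11266), (11281, 11403), (11282, 11930), (11283, 15591), (11284, 7199), (11285, 15596), (11286, 15597), (11287, 7201), (11288, 12290), (11289, 15601), (11290, 7203), (11291, 11297), (11292, 15603), (11293, 8627), (11294, 7204), (11295, 15608), (11296, 9028), (11297, 11291), (11298, 8656), (11299, 7207), (11300, 12921), (11301, 12879), (11302, 12859), (11303, 11564), (11304, 7213), (11305, 15613), (11306, 15618), (11307, 7217), (11308, 15620), (11309, 15621), (11310, 15626), (11311, 11265), (11312, 14371), (11313, 7218), (11314, 15216), (11315, 7220), (11316, 7221), (11317, 15630), (11318, 10953), (11319, 15631), (11320, 15636), (11321,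 7222), (11322, 9941), (11323, 15641), (11324, 15645), (11325, 7224), (11326, 12171), (11327, 11254)]
    ⟨e3 q11264 (flp_f L168861) q7186, e3 q11265 L171898 q11311, e3 q11266 L168963 q11280, e3 q11267 (flp_f L197385) q15110, e3 q11268 (flp_f L168889) q7190, e3 q11269 L195330 q14845, e3 q11270 (flp_f L180751) q12899, e3 q11271 L200285 q15573, e3 q11272 L200303 q15576, e3 q11273 L200317 q15578, e3 q11274 (flp_f L168921) q7194, e3 q11275 L200202 q15561, e3 q11276 L200345 q15583, e3 q11277 (flp_f L168937) q7195, e3 q11278 L200363 q15586, e3 q11279 (flp_f L168951) q7196, e3 q11280 (flp_f L168963) q11266, e3 q11281 (flp_f L169723) q11403, e3 q11282 (flp_f L173298) q11930, e3 q11283 L200387 q15591, e3 q11284 (flp_f L168981) q7199, e3 q11285 L200413 q15596, e3 q11286 L200417 q15597, e3 q11287 (flp_f L168997) q7201, e3 q11288 L175901 q12290, e3 q11289 L200449 q15601, e3 q11290 (flp_f L169013) q7203, e3 q11291 L169073 q11297, e3 q11292 L200467 q15603, e3 q11293 (flp_f L169041) q8627, e3 q11294 (flp_f L169043) q7204, e3 q11295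 L200515 q15608, e3 q11296 (flp_f L169063) q9028, e3 q11297 (flp_f L169073) q11291, e3 q11298 (flp_f L169083) q8656, e3 q11299 (flp_f L169085) q7207, e3 q11300 L180925 q12921, e3 q11301 L180633 q12879, e3 q11302 L180489 q12859, e3 q11303 L170764 q11564, e3 q11304 (flp_f L169121) q7213, e3 q11305 (flp_f L200565) q15613, e3 q11306 L200603 q15618, e3 q11307 L169143 q7217, e3 q11308 (flp_f L200621) q15620, e3 q11309 (flp_f L200627) q15621, e3 q11310 L200667 q15626, e3 q11311 (flp_f L171898) q11265, e3 q11312 L191802 q14371, e3 q11313 (flp_f L169167) q7218, e3 q11314 (flp_f L198045) q15216, e3 q11315 L169183 q7220, e3 q11316 L169189 q7221, e3 q11317 (flp_f L200709) q15630, e3 q11318 L169205 q10953, e3 q11319 (flp_f L200715) q15631, e3 q11320 L200761 q15636, e3 q11321 (flp_f L169219) q7222, e3 q11322 L169233 q9941, e3 q11323 L200803 q15641, e3 q11324 L200825 q15645, e3 q11325 (flp_f L169243) q7224, e3 q11326 (flp_f L175073) q12171, e3 q11327 (flp_f L169265) q11254, trivial⟩ (by decide +kernel)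

theorem ce_f_177 : ∀ r, r < 64 → sm gf (Qf (11328 + r)) = Qf (tab Gen.f (11328 + r)) :=
  edges_tab (sm gf) Qf (tab Gen.f) 11328 [(11328, 15652), (11329, 7227), (11330, 15553), (11331, 11395), (11332, 11396), (11333, 15660), (11334, 15416), (11335, 15664), (11336, 7229), (11337, 7230), (11338, 14660), (11339, 14663), (11340, 14664), (11341, 15675), (11342, 7236), (11343, 7238), (11344, 11346), (11345, 15676), (11346, 11344), (11347, 13194), (11348, 10668), (11349, 15687), (11350, 15688), (11351, 7239), (11352, 15691), (11353, 15693), (11354, 7241), (11355, 10958), (11356, 11442), (11357, 15700), (11358, 7244), (11359, 12135), (11360, 15705), (11361, 7245), (11362, 11519), (11363, 15702), (11364, 15647), (11365, 7258), (11366, 15026), (11367, 15715), (11368, 7250), (11369, 11375), (11370, 15720), (11371, 15722), (11372, 7251), (11373, 15726), (11374, 7257), (11375, 11369), (11376, 7253), (11377, 15730), (11378, 15733), (11379, 7254), (11380, 7255), (11381, 15724), (11382, 14674), (11383, 15738), (11384, 15711),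 (11385, 15744), (11386, 15748), (11387, 15751), (11388, 7259), (11389, 15755), (11390, 15757), (11391, 7260)]
    ⟨e3 q11328 L200872 q15652, e3 q11329 (flp_f L169271) q7227, e3 q11330 (flp_f L200151) q15553, e3 q11331 L169661 q11395, e3 q11332 L169671 q11396, e3 q11333 L200914 q15660, e3 q11334 L199265 q15416, e3 q11335 L200934 q15664, e3 q11336 (flp_f L169315) q7229, e3 q11337 (flp_f L169319) q7230, e3 q11338 (flp_f L193711) q14660, e3 q11339 (flp_f L193729) q14663, e3 q11340 (flp_f L193737) q14664, e3 q11341 L201008 q15675, e3 q11342 L169349 q7236, e3 q11343 L169355 q7238, e3 q11344 (flp_f L169379) q11346, e3 q11345 (flp_f L201024) q15676, e3 q11346 L169379 q11344, e3 q11347 (flp_f L182741) q13194, e3 q11348 L169385 q10668, e3 q11349 L201121 q15687, e3 q11350 L201129 q15688, e3 q11351 (flp_f L169399) q7239, e3 q11352 L201145 q15691, e3 q11353 L201159 q15693, e3 q11354 (flp_f L169421) q7241, e3 q11355 (flp_f L169439) q10958, e3 q11356 L169990 q11442, e3 q11357 L201231 q15700, e3 q11358 (flp_f L169455) q7244, e3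 q11359 (flp_f L174817) q12135, e3 q11360 L201268 q15705, e3 q11361 (flp_f L169473) q7245, e3 q11362 L170478 q11519, e3 q11363 (flp_f L201249) q15702, e3 q11364 (flp_f L200847) q15647, e3 q11365 L169497 q7258, e3 q11366 (flp_f L196889) q15026, e3 q11367 L201340 q15715, e3 q11368 (flp_f L169513) q7250, e3 q11369 L169551 q11375, e3 q11370 L201366 q15720, e3 q11371 L201374 q15722, e3 q11372 (flp_f L169533) q7251, e3 q11373 L201398 q15726, e3 q11374 L169545 q7257, e3 q11375 (flp_f L169551) q11369, e3 q11376 (flp_f L169553) q7253, e3 q11377 L201420 q15730, e3 q11378 L201434 q15733, e3 q11379 (flp_f L169571) q7254, e3 q11380 (flp_f L169581) q7255, e3 q11381 (flp_f L201390) q15724, e3 q11382 (flp_f L193821) q14674, e3 q11383 L201468 q15738, e3 q11384 (flp_f L201314) q15711, e3 q11385 L201504 q15744, e3 q11386 L201524 q15748, e3 q11387 L201536 q15751, e3 q11388 (flp_f L169623) q7259, e3 q11389 L201558 q15755, e3 q11390 L201572 q15757, e3 q11391 (flp_f L169637) q7260, trivial⟩ (by decide +kernel)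

theorem ce_f_178 : ∀ r, r < 64 → sm gf (Qf (11392 + r)) = Qf (tab Gen.f (11392 + r)) :=
  edges_tab (sm gf) Qf (tab Gen.f) 11392 [(11392, 15760), (11393, 7261), (11394, 15753), (11395, 11331), (11396, 11332), (11397, 15768), (11398, 15770), (11399, 15771), (11400, 7265), (11401, 10762), (11402, 7267), (11403, 11281), (11404, 7271), (11405, 7276), (11406, 9135), (11407, 7273), (11408, 15776), (11409, 10156), (11410, 7275), (11411, 15778), (11412, 15710), (11413, 15790), (11414, 15791), (11415, 9150), (11416, 7300), (11417, 7301), (11418, 11259), (11419, 14292), (11420, 11420), (11421, 7285), (11422, 7295), (11423, 8355), (11424, 7287), (11425, 7296), (11426, 7297), (11427, 15269), (11428, 7291), (11429, 12982), (11430, 12555), (11431, 15804), (11432, 15805), (11433, 15806), (11434, 15819), (11435, 15803), (11436, 15809), (11437, 10957), (11438, 15810), (11439, 12225), (11440, 7298), (11441, 10849), (11442, 11356), (11443, 15795), (11444, 15796), (11445, 15797), (11446, 14328), (11447, 15838), (11448, 15839), (11449,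 7303), (11450, 11457), (11451, 15841), (11452, 15607), (11453, 7304), (11454, 15843), (11455, 7305)]
    ⟨e3 q11392 L201586 q15760, e3 q11393 (flp_f L169647) q7261, e3 q11394 (flp_f L201550) q15753, e3 q11395 (flp_f L169661) q11331, e3 q11396 (flp_f L169671) q11332, e3 q11397 L201622 q15768, e3 q11398 L201636 q15770, e3 q11399 L201644 q15771, e3 q11400 (flp_f L169687) q7265, e3 q11401 L169699 q10762, e3 q11402 (flp_f L169705) q7267, e3 q11403 L169723 q11281, e3 q11404 (flp_f L169729) q7271, e3 q11405 L169739 q7276, e3 q11406 (flp_f L169749) q9135, e3 q11407 (flp_f L169753) q7273, e3 q11408 (flp_f L201698) q15776, e3 q11409 (flp_f L169771) q10156, e3 q11410 (flp_f L169773) q7275, e3 q11411 (flp_f L201718) q15778, e3 q11412 L201310 q15710, e3 q11413 L201796 q15790, e3 q11414 L201808 q15791, e3 q11415 L169807 q9150, e3 q11416 L169815 q7300, e3 q11417 L169821 q7301, e3 q11418 (flp_f L169831) q11259, e3 q11419 L191275 q14292, e3 q11420 L169845 q11420, e3 q11421 (flp_f L169846) q7285, e3 q11422 L169856 q7295, e3 q11423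 (flp_f L169864) q8355, e3 q11424 (flp_f L169868) q7287, e3 q11425 L169882 q7296, e3 q11426 L169888 q7297, e3 q11427 (flp_f L198402) q15269, e3 q11428 (flp_f L169894) q7291, e3 q11429 L181321 q12982, e3 q11430 (flp_f L178285) q12555, e3 q11431 (flp_f L201910) q15804, e3 q11432 (flp_f L201916) q15805, e3 q11433 (flp_f L201920) q15806, e3 q11434 L202004 q15819, e3 q11435 L201900 q15803, e3 q11436 (flp_f L201942) q15809, e3 q11437 L169948 q10957, e3 q11438 (flp_f L201950) q15810, e3 q11439 (flp_f L175430) q12225, e3 q11440 (flp_f L169962) q7298, e3 q11441 L169976 q10849, e3 q11442 (flp_f L169990) q11356, e3 q11443 (flp_f L201844) q15795, e3 q11444 (flp_f L201850) q15796, e3 q11445 (flp_f L201854) q15797, e3 q11446 (flp_f L191519) q14328, e3 q11447 L202116 q15838, e3 q11448 L202126 q15839, e3 q11449 (flp_f L170018) q7303, e3 q11450 L170088 q11457, e3 q11451 L202146 q15841, e3 q11452 L200513 q15607, e3 q11453 (flp_f L170048) q7304, e3 q11454 L202166 q15843, e3 q11455 (flp_f L170060) q7305, trivial⟩ (by decide +kernel)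

theorem ce_f_179 : ∀ r, r < 64 → sm gf (Qf (11456 + r)) = Qf (tab Gen.f (11456 + r)) :=
  edges_tab (sm gf) Qf (tab Gen.f) 11456 [(11456, 7311), (11457, 11450), (11458, 7307), (11459, 7308), (11460, 15605), (11461, 13032), (11462, 7401), (11463, 11615), (11464, 13439), (11465, 15852), (11466, 15131), (11467, 15857), (11468, 15859), (11469, 7317), (11470, 15808), (11471, 8557), (11472, 7318), (11473, 15863), (11474, 11480), (11475, 14486), (11476, 15866), (11477, 7320), (11478, 15868), (11479, 7321), (11480, 11474), (11481, 13829), (11482, 15875), (11483, 15879), (11484, 7324), (11485, 11039), (11486, 15883), (11487, 15884), (11488, 7327), (11489, 15886), (11490, 7354), (11491, 7355), (11492, 15890), (11493, 7360), (11494, 7361), (11495, 11538), (11496, 11539), (11497, 15899), (11498, 15902), (11499, 15904), (11500, 7332), (11501, 11510), (11502, 15907), (11503, 7334), (11504, 15911), (11505, 7336), (11506, 15914), (11507, 15915), (11508, 7338), (11509, 15869), (11510, 11501), (11511, 15921), (11512, 15923), (11513,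 7341), (11514, 7740), (11515, 15927), (11516, 15929), (11517, 7344), (11518, 15933), (11519, 11362)]
    ⟨e3 q11456 L170078 q7311, e3 q11457 (flp_f L170088) q11450, e3 q11458 (flp_f L170092) q7307, e3 q11459 (flp_f L170102) q7308, e3 q11460 L200493 q15605, e3 q11461 (flp_f L181675) q13032, e3 q11462 L170124 q7401, e3 q11463 (flp_f L171091) q11615, e3 q11464 (flp_f L184557) q13439, e3 q11465 L202244 q15852, e3 q11466 (flp_f L197559) q15131, e3 q11467 L202282 q15857, e3 q11468 L202298 q15859, e3 q11469 (flp_f L170156) q7317, e3 q11470 (flp_f L201930) q15808, e3 q11471 (flp_f L170170) q8557, e3 q11472 (flp_f L170172) q7318, e3 q11473 L202334 q15863, e3 q11474 L170230 q11480, e3 q11475 L192583 q14486, e3 q11476 L202362 q15866, e3 q11477 (flp_f L170204) q7320, e3 q11478 L202378 q15868, e3 q11479 (flp_f L170218) q7321, e3 q11480 (flp_f L170230) q11474, e3 q11481 (flp_f L187847) q13829, e3 q11482 L202444 q15875, e3 q11483 L202468 q15879, e3 q11484 (flp_f L170248) q7324, e3 q11485 (flp_f L170262) q11039, e3 q11486 L202505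 q15883, e3 q11487 L202519 q15884, e3 q11488 (flp_f L170272) q7327, e3 q11489 L202531 q15886, e3 q11490 L170286 q7354, e3 q11491 L170294 q7355, e3 q11492 L202561 q15890, e3 q11493 L170304 q7360, e3 q11494 L170312 q7361, e3 q11495 (flp_f L170594) q11538, e3 q11496 (flp_f L170604) q11539, e3 q11497 L202601 q15899, e3 q11498 L202623 q15902, e3 q11499 L202643 q15904, e3 q11500 (flp_f L170338) q7332, e3 q11501 L170406 q11510, e3 q11502 L202677 q15907, e3 q11503 (flp_f L170358) q7334, e3 q11504 L202723 q15911, e3 q11505 (flp_f L170370) q7336, e3 q11506 L202746 q15914, e3 q11507 L202750 q15915, e3 q11508 (flp_f L170388) q7338, e3 q11509 (flp_f L202396) q15869, e3 q11510 (flp_f L170406) q11501, e3 q11511 L202794 q15921, e3 q11512 L202812 q15923, e3 q11513 (flp_f L170422) q7341, e3 q11514 (flp_f L170440) q7740, e3 q11515 L202854 q15927, e3 q11516 L202878 q15929, e3 q11517 (flp_f L170458) q7344, e3 q11518 L202917 q15933, e3 q11519 (flp_f L170478) q11362, trivial⟩ (by decide +kernel)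

theorem ce_f_180 : ∀ r, r < 64 → sm gf (Qf (11520 + r)) = Qf (tab Gen.f (11520 + r)) :=
  edges_tab (sm gf) Qf (tab Gen.f) 11520 [(11520, 7345), (11521, 15111), (11522, 15931), (11523, 15535), (11524, 10885), (11525, 15939), (11526, 15941), (11527, 7350), (11528, 11533), (11529, 15946), (11530, 15948), (11531, 7351), (11532, 15952), (11533, 11528), (11534, 15953), (11535, 7353), (11536, 15956), (11537, 15655), (11538, 11495), (11539, 11496), (11540, 15961), (11541, 14481), (11542, 7357), (11543, 15058), (11544, 15969), (11545, 15973), (11546, 15976), (11547, 7359), (11548, 15980), (11549, 15892), (11550, 15479), (11551, 15893), (11552, 15987), (11553, 15988), (11554, 7362), (11555, 7363), (11556, 14632), (11557, 14634), (11558, 14635), (11559, 15997), (11560, 10151), (11561, 11063), (11562, 8310), (11563, 7370), (11564, 11303), (11565, 16003), (11566, 10942), (11567, 13651), (11568, 7376), (11569, 15637), (11570, 16005), (11571, 7377), (11572, 16008), (11573, 7378), (11574, 16010), (11575, 7385), (11576, 16013),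 (11577, 7380), (11578, 11583), (11579, 16018), (11580, 16020), (11581, 7381), (11582, 16023), (11583, 11578)]
    ⟨e3 q11520 (flp_f L170480) q7345, e3 q11521 (flp_f L197393) q15111, e3 q11522 (flp_f L202902) q15931, e3 q11523 L200031 q15535, e3 q11524 L170508 q10885, e3 q11525 L202961 q15939, e3 q11526 L202975 q15941, e3 q11527 (flp_f L170524) q7350, e3 q11528 L170560 q11533, e3 q11529 L203003 q15946, e3 q11530 L203011 q15948, e3 q11531 (flp_f L170548) q7351, e3 q11532 L203035 q15952, e3 q11533 (flp_f L170560) q11528, e3 q11534 L203043 q15953, e3 q11535 (flp_f L170568) q7353, e3 q11536 L203057 q15956, e3 q11537 (flp_f L223801) q15655, e3 q11538 L170594 q11495, e3 q11539 L170604 q11496, e3 q11540 L203091 q15961, e3 q11541 (flp_f L192539) q14481, e3 q11542 (flp_f L170616) q7357, e3 q11543 (flp_f L197091) q15058, e3 q11544 L203141 q15969, e3 q11545 L203161 q15973, e3 q11546 L203173 q15976, e3 q11547 (flp_f L170638) q7359, e3 q11548 L203195 q15980, e3 q11549 (flp_f L202575) q15892, e3 q11550 L199676 q15479, e3 q11551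 (flp_f L202579) q15893, e3 q11552 L203231 q15987, e3 q11553 L203243 q15988, e3 q11554 (flp_f L170670) q7362, e3 q11555 (flp_f L170678) q7363, e3 q11556 (flp_f L193501) q14632, e3 q11557 (flp_f L193517) q14634, e3 q11558 (flp_f L193525) q14635, e3 q11559 L203287 q15997, e3 q11560 L170714 q10151, e3 q11561 (flp_f L170730) q11063, e3 q11562 L170740 q8310, e3 q11563 (flp_f L170742) q7370, e3 q11564 (flp_f L170764) q11303, e3 q11565 L203346 q16003, e3 q11566 L170779 q10942, e3 q11567 L186375 q13651, e3 q11568 (flp_f L170791) q7376, e3 q11569 (flp_f L200779) q15637, e3 q11570 L203359 q16005, e3 q11571 (flp_f L170813) q7377, e3 q11572 L203377 q16008, e3 q11573 (flp_f L170823) q7378, e3 q11574 L203393 q16010, e3 q11575 L170839 q7385, e3 q11576 L203415 q16013, e3 q11577 (flp_f L170849) q7380, e3 q11578 L170891 q11583, e3 q11579 L203439 q16018, e3 q11580 L203447 q16020, e3 q11581 (flp_f L170875) q7381, e3 q11582 L203475 q16023, e3 q11583 (flp_f L170891) q11578, trivial⟩ (by decide +kernel)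

theorem ce_f_181 : ∀ r, r < 64 → sm gf (Qf (11584 + r)) = Qf (tab Gen.f (11584 + r)) :=
  edges_tab (sm gf) Qf (tab Gen.f) 11584 [(11584, 7383), (11585, 16026), (11586, 11672), (11587, 16030), (11588, 7386), (11589, 16034), (11590, 16038), (11591, 16040), (11592, 7387), (11593, 11602), (11594, 16032), (11595, 14376), (11596, 16047), (11597, 16050), (11598, 7390), (11599, 16055), (11600, 7391), (11601, 16057), (11602, 11593), (11603, 7393), (11604, 16061), (11605, 9570), (11606, 16066), (11607, 16068), (11608, 7396), (11609, 11612), (11610, 7397), (11611, 16073), (11612, 11609), (11613, 7399), (11614, 7400), (11615, 11463), (11616, 7403), (11617, 11617), (11618, 7405), (11619, 7406), (11620, 8315), (11621, 11621), (11622, 11622), (11623, 15871), (11624, 16084), (11625, 7409), (11626, 11871), (11627, 9640), (11628, 16089), (11629, 7411), (11630, 11635), (11631, 16094), (11632, 16096), (11633, 7412), (11634, 16099), (11635, 11630), (11636, 7414), (11637, 16102), (11638, 9642), (11639, 16106), (11640, 7417), (11641,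 16110), (11642, 16114), (11643, 16116), (11644, 7418), (11645, 11654), (11646, 10895), (11647, 15792)]
    ⟨e3 q11584 (flp_f L170893) q7383, e3 q11585 L203489 q16026, e3 q11586 (flp_f L171439) q11672, e3 q11587 L203507 q16030, e3 q11588 (flp_f L170915) q7386, e3 q11589 L203537 q16034, e3 q11590 L203561 q16038, e3 q11591 L203573 q16040, e3 q11592 (flp_f L170935) q7387, e3 q11593 L170999 q11602, e3 q11594 (flp_f L203521) q16032, e3 q11595 (flp_f L191850) q14376, e3 q11596 L203627 q16047, e3 q11597 L203639 q16050, e3 q11598 (flp_f L170973) q7390, e3 q11599 L203669 q16055, e3 q11600 (flp_f L170981) q7391, e3 q11601 L203685 q16057, e3 q11602 (flp_f L170999) q11593, e3 q11603 (flp_f L171001) q7393, e3 q11604 L203715 q16061, e3 q11605 L171017 q9570, e3 q11606 L203751 q16066, e3 q11607 L203759 q16068, e3 q11608 (flp_f L171029) q7396, e3 q11609 L171061 q11612, e3 q11610 (flp_f L171041) q7397, e3 q11611 L203797 q16073, e3 q11612 (flp_f L171061) q11609, e3 q11613 (flp_f L171063) q7399, e3 q11614 (flp_f L171071) q7400, e3 q11615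 L171091 q11463, e3 q11616 (flp_f L171093) q7403, e3 q11617 L171109 q11617, e3 q11618 (flp_f L171110) q7405, e3 q11619 (flp_f L171120) q7406, e3 q11620 (flp_f L171138) q8315, e3 q11621 L171146 q11621, e3 q11622 L171151 q11622, e3 q11623 (flp_f L202420) q15871, e3 q11624 L203877 q16084, e3 q11625 (flp_f L171162) q7409, e3 q11626 (flp_f L172843) q11871, e3 q11627 L171182 q9640, e3 q11628 L203915 q16089, e3 q11629 (flp_f L171192) q7411, e3 q11630 L171234 q11635, e3 q11631 L203939 q16094, e3 q11632 L203947 q16096, e3 q11633 (flp_f L171218) q7412, e3 q11634 L203971 q16099, e3 q11635 (flp_f L171234) q11630, e3 q11636 (flp_f L171236) q7414, e3 q11637 L203989 q16102, e3 q11638 L171252 q9642, e3 q11639 L204007 q16106, e3 q11640 (flp_f L171258) q7417, e3 q11641 L204039 q16110, e3 q11642 L204065 q16114, e3 q11643 L204077 q16116, e3 q11644 (flp_f L171278) q7418, e3 q11645 L171342 q11654, e3 q11646 L171296 q10895, e3 q11647 (flp_f L201820) q15792, trivial⟩ (by decide +kernel)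

theorem ce_f_182 : ∀ r, r < 64 → sm gf (Qf (11648 + r)) = Qf (tab Gen.f (11648 + r)) :=
  edges_tab (sm gf) Qf (tab Gen.f) 11648 [(11648, 16123), (11649, 16126), (11650, 7421), (11651, 16131), (11652, 7422), (11653, 16133), (11654, 11645), (11655, 7424), (11656, 16138), (11657, 14617), (11658, 16142), (11659, 16144), (11660, 7427), (11661, 11664), (11662, 7428), (11663, 16149), (11664, 11661), (11665, 7430), (11666, 11673), (11667, 16155), (11668, 16159), (11669, 16163), (11670, 7433), (11671, 16166), (11672, 11586), (11673, 11666), (11674, 16170), (11675, 16174), (11676, 16178), (11677, 7437), (11678, 16181), (11679, 9653), (11680, 7473), (11681, 7444), (11682, 14695), (11683, 12083), (11684, 7745), (11685, 15611), (11686, 7450), (11687, 12298), (11688, 11688), (11689, 7802), (11690, 7458), (11691, 16183), (11692, 11692), (11693, 11693), (11694, 11694), (11695, 16187), (11696, 7474), (11697, 7502), (11698, 11710), (11699, 7919), (11700, 12185), (11701, 16190), (11702, 7485), (11703, 11723), (11704, 7490), (11705,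 7749), (11706, 7746), (11707, 13163), (11708, 11985), (11709, 12214), (11710, 11698), (11711, 7645)]
    ⟨e3 q11648 L204131 q16123, e3 q11649 L204143 q16126, e3 q11650 (flp_f L171316) q7421, e3 q11651 L204173 q16131, e3 q11652 (flp_f L171324) q7422, e3 q11653 L204189 q16133, e3 q11654 (flp_f L171342) q11645, e3 q11655 (flp_f L171344) q7424, e3 q11656 L204225 q16138, e3 q11657 (flp_f L193423) q14617, e3 q11658 L204255 q16142, e3 q11659 L204263 q16144, e3 q11660 (flp_f L171372) q7427, e3 q11661 L171404 q11664, e3 q11662 (flp_f L171384) q7428, e3 q11663 L204301 q16149, e3 q11664 (flp_f L171404) q11661, e3 q11665 (flp_f L171406) q7430, e3 q11666 (flp_f L171446) q11673, e3 q11667 L204342 q16155, e3 q11668 L204362 q16159, e3 q11669 L204382 q16163, e3 q11670 (flp_f L171427) q7433, e3 q11671 L204398 q16166, e3 q11672 L171439 q11586, e3 q11673 L171446 q11666, e3 q11674 L204429 q16170, e3 q11675 L204449 q16174, e3 q11676 L204469 q16178, e3 q11677 (flp_f L171460) q7437, e3 q11678 L204485 q16181, e3 q11679 L171472 q9653, e3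 q11680 (flp_f L171484) q7473, e3 q11681 (flp_f L171486) q7444, e3 q11682 (flp_f L193969) q14695, e3 q11683 (flp_f L174354) q12083, e3 q11684 L171508 q7745, e3 q11685 (flp_f L200543) q15611, e3 q11686 (flp_f L171516) q7450, e3 q11687 L175941 q12298, e3 q11688 L171533 q11688, e3 q11689 (flp_f L171544) q7802, e3 q11690 (flp_f L171548) q7458, e3 q11691 L204502 q16183, e3 q11692 L171573 q11692, e3 q11693 L171580 q11693, e3 q11694 L171587 q11694, e3 q11695 L204544 q16187, e3 q11696 (flp_f L171597) q7474, e3 q11697 L171614 q7502, e3 q11698 (flp_f L171706) q11710, e3 q11699 L171628 q7919, e3 q11700 L175172 q12185, e3 q11701 L204575 q16190, e3 q11702 (flp_f L171644) q7485, e3 q11703 L171809 q11723, e3 q11704 (flp_f L171660) q7490, e3 q11705 L171672 q7749, e3 q11706 L171682 q7746, e3 q11707 (flp_f L182537) q13163, e3 q11708 L173667 q11985, e3 q11709 (flp_f L175356) q12214, e3 q11710 L171706 q11698, e3 q11711 L171712 q7645, trivial⟩ (by decide +kernel)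

theorem ce_f_183 : ∀ r, r < 64 → sm gf (Qf (11712 + r)) = Qf (tab Gen.f (11712 + r)) :=
  edges_tab (sm gf) Qf (tab Gen.f) 11712 [(11712, 7649), (11713, 16195), (11714, 7506), (11715, 16198), (11716, 7507), (11717, 11904), (11718, 7514), (11719, 7516), (11720, 12077), (11721, 12081), (11722, 11722), (11723, 11703), (11724, 11724), (11725, 7588), (11726, 7847), (11727, 11731), (11728, 7638), (11729, 7533), (11730, 13389), (11731, 11727), (11732, 7690), (11733, 11733), (11734, 7541), (11735, 16206), (11736, 7542), (11737, 16209), (11738, 16210), (11739, 7544), (11740, 7553), (11741, 16213), (11742, 7548), (11743, 11749), (11744, 11761), (11745, 11763), (11746, 7550), (11747, 7551), (11748, 16211), (11749, 11743), (11750, 11793), (11751, 9002), (11752, 9800), (11753, 16219), (11754, 7556), (11755, 7562), (11756, 7559), (11757, 7560), (11758, 16220), (11759, 11767), (11760, 7568), (11761, 11744), (11762, 11762), (11763, 11745), (11764, 11764), (11765, 11782), (11766, 16224), (11767, 11759), (11768, 16225), (11769,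 14735), (11770, 7574), (11771, 15015), (11772, 7578), (11773, 13441), (11774, 7580), (11775, 7814)]
    ⟨e3 q11712 L171718 q7649, e3 q11713 L204613 q16195, e3 q11714 (flp_f L171731) q7506, e3 q11715 L204640 q16198, e3 q11716 (flp_f L171746) q7507, e3 q11717 L173084 q11904, e3 q11718 (flp_f L171764) q7514, e3 q11719 (flp_f L171770) q7516, e3 q11720 (flp_f L174314) q12077, e3 q11721 L174342 q12081, e3 q11722 L171798 q11722, e3 q11723 (flp_f L171809) q11703, e3 q11724 L171815 q11724, e3 q11725 (flp_f L171822) q7588, e3 q11726 L171828 q7847, e3 q11727 L171884 q11731, e3 q11728 L171852 q7638, e3 q11729 (flp_f L171856) q7533, e3 q11730 L184209 q13389, e3 q11731 (flp_f L171884) q11727, e3 q11732 L171890 q7690, e3 q11733 L171910 q11733, e3 q11734 (flp_f L171915) q7541, e3 q11735 L204712 q16206, e3 q11736 (flp_f L171922) q7542, e3 q11737 L204742 q16209, e3 q11738 L204750 q16210, e3 q11739 (flp_f L171938) q7544, e3 q11740 L171946 q7553, e3 q11741 L204774 q16213, e3 q11742 (flp_f L171956) q7548, e3 q11743 (flp_f L172000) q11749,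 e3 q11744 L172083 q11761, e3 q11745 L172096 q11763, e3 q11746 (flp_f L171984) q7550, e3 q11747 (flp_f L171990) q7551, e3 q11748 (flp_f L204760) q16211, e3 q11749 L172000 q11743, e3 q11750 (flp_f L172308) q11793, e3 q11751 L172009 q9002, e3 q11752 (flp_f L172019) q9800, e3 q11753 L204827 q16219, e3 q11754 (flp_f L172027) q7556, e3 q11755 L172039 q7562, e3 q11756 (flp_f L172041) q7559, e3 q11757 (flp_f L172053) q7560, e3 q11758 (flp_f L204843) q16220, e3 q11759 L172113 q11767, e3 q11760 L172075 q7568, e3 q11761 (flp_f L172083) q11744, e3 q11762 L172089 q11762, e3 q11763 (flp_f L172096) q11745, e3 q11764 L172100 q11764, e3 q11765 L172239 q11782, e3 q11766 (flp_f L204869) q16224, e3 q11767 (flp_f L172113) q11759, e3 q11768 L204877 q16225, e3 q11769 (flp_f L194333) q14735, e3 q11770 (flp_f L172125) q7574, e3 q11771 L196807 q15015, e3 q11772 (flp_f L172147) q7578, e3 q11773 L184579 q13441, e3 q11774 (flp_f L172167) q7580, e3 q11775 L172184 q7814, trivial⟩ (by decide +kernel)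

theorem ce_f_184 : ∀ r, r < 64 → sm gf (Qf (11776 + r)) = Qf (tab Gen.f (11776 + r)) :=
  edges_tab (sm gf) Qf (tab Gen.f) 11776 [(11776, 14766), (11777, 16200), (11778, 11778), (11779, 16203), (11780, 11780), (11781, 11781), (11782, 11765), (11783, 7959), (11784, 13342), (11785, 7593), (11786, 7598), (11787, 7604), (11788, 7605), (11789, 11799), (11790, 11800), (11791, 16243), (11792, 12229), (11793, 11750), (11794, 13338), (11795, 7600), (11796, 13082), (11797, 9062), (11798, 11811), (11799, 11789), (11800, 11790), (11801, 16254), (11802, 16255), (11803, 7607), (11804, 7608), (11805, 16256), (11806, 7609), (11807, 16258), (11808, 7610), (11809, 16259), (11810, 7613), (11811, 11798), (11812, 12293), (11813, 8901), (11814, 11830), (11815, 7903), (11816, 7617), (11817, 16269), (11818, 16272), (11819, 16274), (11820, 7620), (11821, 11932), (11822, 13405), (11823, 12786), (11824, 7622), (11825, 14796), (11826, 12173), (11827, 7623), (11828, 14100), (11829, 7624), (11830, 11814), (11831, 11926), (11832, 7711), (11833,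 10327), (11834, 10329), (11835, 16282), (11836, 7629), (11837, 16279), (11838, 12050), (11839, 7632)]
    ⟨e3 q11776 (flp_f L194604) q14766, e3 q11777 L204660 q16200, e3 q11778 L172212 q11778, e3 q11779 L204687 q16203, e3 q11780 L172223 q11780, e3 q11781 L172232 q11781, e3 q11782 (flp_f L172239) q11765, e3 q11783 L172245 q7959, e3 q11784 (flp_f L183857) q13342, e3 q11785 (flp_f L172255) q7593, e3 q11786 L172265 q7598, e3 q11787 L172271 q7604, e3 q11788 L172281 q7605, e3 q11789 (flp_f L172354) q11799, e3 q11790 (flp_f L172364) q11800, e3 q11791 (flp_f L205022) q16243, e3 q11792 L175456 q12229, e3 q11793 L172308 q11750, e3 q11794 L183833 q13338, e3 q11795 (flp_f L172318) q7600, e3 q11796 L181997 q13082, e3 q11797 (flp_f L172340) q9062, e3 q11798 (flp_f L172432) q11811, e3 q11799 L172354 q11789, e3 q11800 L172364 q11790, e3 q11801 L205111 q16254, e3 q11802 L205119 q16255, e3 q11803 (flp_f L172376) q7607, e3 q11804 (flp_f L172382) q7608, e3 q11805 L205127 q16256, e3 q11806 (flp_f L172397) q7609, e3 q11807 L205139 q16258,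 e3 q11808 (flp_f L172410) q7610, e3 q11809 (flp_f L205151) q16259, e3 q11810 L172424 q7613, e3 q11811 L172432 q11798, e3 q11812 L175917 q12293, e3 q11813 L172444 q8901, e3 q11814 L172541 q11830, e3 q11815 (flp_f L172458) q7903, e3 q11816 (flp_f L172460) q7617, e3 q11817 L205238 q16269, e3 q11818 L205258 q16272, e3 q11819 L205279 q16274, e3 q11820 (flp_f L172479) q7620, e3 q11821 (flp_f L173319) q11932, e3 q11822 L184338 q13405, e3 q11823 (flp_f L179899) q12786, e3 q11824 (flp_f L172505) q7622, e3 q11825 L194891 q14796, e3 q11826 L175094 q12173, e3 q11827 (flp_f L172523) q7623, e3 q11828 (flp_f L189833) q14100, e3 q11829 (flp_f L172533) q7624, e3 q11830 (flp_f L172541) q11814, e3 q11831 (flp_f L173272) q11926, e3 q11832 L172551 q7711, e3 q11833 L172559 q10327, e3 q11834 (flp_f L172575) q10329, e3 q11835 L205352 q16282, e3 q11836 (flp_f L172581) q7629, e3 q11837 (flp_f L205322) q16279, e3 q11838 L174092 q12050, e3 q11839 (flp_f L172597) q7632, trivial⟩ (by decide +kernel)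

theorem ce_f_185 : ∀ r, r < 64 → sm gf (Qf (11840 + r)) = Qf (tab Gen.f (11840 + r)) :=
  edges_tab (sm gf) Qf (tab Gen.f) 11840 [(11840, 11850), (11841, 7633), (11842, 11852), (11843, 16287), (11844, 7654), (11845, 16289), (11846, 7636), (11847, 13388), (11848, 7639), (11849, 14901), (11850, 11840), (11851, 7641), (11852, 11842), (11853, 16194), (11854, 7643), (11855, 11898), (11856, 11865), (11857, 11905), (11858, 11906), (11859, 8010), (11860, 7733), (11861, 16294), (11862, 7651), (11863, 16286), (11864, 7652), (11865, 11856), (11866, 16288), (11867, 16284), (11868, 11965), (11869, 7655), (11870, 7954), (11871, 11626), (11872, 12030), (11873, 14715), (11874, 16303), (11875, 7662), (11876, 11927), (11877, 16306), (11878, 9716), (11879, 14331), (11880, 7665), (11881, 9798), (11882, 8014), (11883, 10860), (11884, 16309), (11885, 8171), (11886, 7670), (11887, 16310), (11888, 7672), (11889, 12097), (11890, 12101), (11891, 7675), (11892, 12100), (11893, 16314), (11894, 7681), (11895, 16316), (11896, 16317), (11897,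 12105), (11898, 11855), (11899, 12110), (11900, 7682), (11901, 16204), (11902, 7684), (11903, 7685)]
    ⟨e3 q11840 L172693 q11850, e3 q11841 (flp_f L172618) q7633, e3 q11842 L172709 q11852, e3 q11843 L205397 q16287, e3 q11844 (flp_f L172653) q7654, e3 q11845 L205422 q16289, e3 q11846 (flp_f L172647) q7636, e3 q11847 L184199 q13388, e3 q11848 (flp_f L172667) q7639, e3 q11849 L195827 q14901, e3 q11850 (flp_f L172693) q11840, e3 q11851 (flp_f L172695) q7641, e3 q11852 (flp_f L172709) q11842, e3 q11853 (flp_f L204611) q16194, e3 q11854 (flp_f L172717) q7643, e3 q11855 L173038 q11898, e3 q11856 L172805 q11865, e3 q11857 (flp_f L173092) q11905, e3 q11858 L173104 q11906, e3 q11859 L172757 q8010, e3 q11860 L172769 q7733, e3 q11861 L205464 q16294, e3 q11862 (flp_f L172777) q7651, e3 q11863 L205395 q16286, e3 q11864 (flp_f L172787) q7652, e3 q11865 (flp_f L172805) q11856, e3 q11866 (flp_f L205413) q16288, e3 q11867 (flp_f L205366) q16284, e3 q11868 L173530 q11965, e3 q11869 (flp_f L172823) q7655, e3 q11870 L172835 q7954,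 e3 q11871 L172843 q11626, e3 q11872 (flp_f L173935) q12030, e3 q11873 L194151 q14715, e3 q11874 L205554 q16303, e3 q11875 (flp_f L172869) q7662, e3 q11876 L173278 q11927, e3 q11877 L205578 q16306, e3 q11878 L172889 q9716, e3 q11879 L191541 q14331, e3 q11880 (flp_f L172899) q7665, e3 q11881 L172911 q9798, e3 q11882 (flp_f L172925) q8014, e3 q11883 (flp_f L172935) q10860, e3 q11884 L205611 q16309, e3 q11885 (flp_f L172953) q8171, e3 q11886 (flp_f L172955) q7670, e3 q11887 L205621 q16310, e3 q11888 (flp_f L172972) q7672, e3 q11889 L174477 q12097, e3 q11890 (flp_f L174525) q12101, e3 q11891 (flp_f L173000) q7675, e3 q11892 L174519 q12100, e3 q11893 L205645 q16314, e3 q11894 L173018 q7681, e3 q11895 (flp_f L205665) q16316, e3 q11896 (flp_f L205677) q16317, e3 q11897 L174551 q12105, e3 q11898 (flp_f L173038) q11855, e3 q11899 (flp_f L174593) q12110, e3 q11900 (flp_f L173042) q7682, e3 q11901 (flp_f L204695) q16204, e3 q11902 L173060 q7684, e3 q11903 L173070 q7685, trivial⟩ (by decide +kernel)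

theorem ce_f_186 : ∀ r, r < 64 → sm gf (Qf (11904 + r)) = Qf (tab Gen.f (11904 + r)) :=
  edges_tab (sm gf) Qf (tab Gen.f) 11904 [(11904, 11717), (11905, 11857), (11906, 11858), (11907, 16322), (11908, 16323), (11909, 7691), (11910, 12217), (11911, 7719), (11912, 7694), (11913, 7720), (11914, 7721), (11915, 11953), (11916, 7698), (11917, 7700), (11918, 10438), (11919, 12123), (11920, 14889), (11921, 8052), (11922, 10781), (11923, 7701), (11924, 7949), (11925, 7900), (11926, 11831), (11927, 11876), (11928, 7704), (11929, 12132), (11930, 11282), (11931, 7743), (11932, 11821), (11933, 11938), (11934, 12020), (11935, 16334), (11936, 7709), (11937, 16277), (11938, 11933), (11939, 12019), (11940, 13484), (11941, 16341), (11942, 7714), (11943, 16344), (11944, 12149), (11945, 16347), (11946, 7716), (11947, 16343), (11948, 16325), (11949, 16324), (11950, 16353), (11951, 9776), (11952, 13941), (11953, 11915), (11954, 14883), (11955, 16354), (11956, 7722), (11957, 7726), (11958, 14779), (11959, 10667), (11960, 16355), (11961,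 13591), (11962, 14975), (11963, 7731), (11964, 16356), (11965, 11868), (11966, 16266), (11967, 16358)]
    ⟨e3 q11904 (flp_f L173084) q11717, e3 q11905 L173092 q11857, e3 q11906 (flp_f L173104) q11858, e3 q11907 L205723 q16322, e3 q11908 L205733 q16323, e3 q11909 (flp_f L173122) q7691, e3 q11910 L175388 q12217, e3 q11911 L173138 q7719, e3 q11912 L173144 q7694, e3 q11913 L173150 q7720, e3 q11914 L173156 q7721, e3 q11915 (flp_f L173419) q11953, e3 q11916 L173168 q7698, e3 q11917 L173178 q7700, e3 q11918 L173188 q10438, e3 q11919 (flp_f L174691) q12123, e3 q11920 (flp_f L195733) q14889, e3 q11921 L173222 q8052, e3 q11922 (flp_f L173236) q10781, e3 q11923 (flp_f L173238) q7701, e3 q11924 L173252 q7949, e3 q11925 L173262 q7900, e3 q11926 L173272 q11831, e3 q11927 (flp_f L173278) q11876, e3 q11928 (flp_f L173280) q7704, e3 q11929 L174793 q12132, e3 q11930 L173298 q11282, e3 q11931 L173306 q7743, e3 q11932 L173319 q11821, e3 q11933 L173347 q11938, e3 q11934 (flp_f L183423) q12020, e3 q11935 L205820 q16334, e3 q11936 (flp_f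 L173331) q7709, e3 q11937 L205308 q16277, e3 q11938 (flp_f L173347) q11933, e3 q11939 L173867 q12019, e3 q11940 L184908 q13484, e3 q11941 L205872 q16341, e3 q11942 (flp_f L173363) q7714, e3 q11943 L205891 q16344, e3 q11944 L174890 q12149, e3 q11945 L205913 q16347, e3 q11946 (flp_f L173383) q7716, e3 q11947 (flp_f L205888) q16343, e3 q11948 (flp_f L205755) q16325, e3 q11949 (flp_f L205745) q16324, e3 q11950 L205947 q16353, e3 q11951 L173407 q9776, e3 q11952 (flp_f L188655) q13941, e3 q11953 L173419 q11915, e3 q11954 L195687 q14883, e3 q11955 L205959 q16354, e3 q11956 (flp_f L173449) q7722, e3 q11957 L173463 q7726, e3 q11958 L194733 q14779, e3 q11959 L173489 q10667, e3 q11960 L205969 q16355, e3 q11961 (flp_f L185879) q13591, e3 q11962 L196492 q14975, e3 q11963 (flp_f L173518) q7731, e3 q11964 (flp_f L205982) q16356, e3 q11965 (flp_f L173530) q11868, e3 q11966 (flp_f L205219) q16266, e3 q11967 L205986 q16358, trivial⟩ (by decide +kernel)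

theorem ce_f_187 : ∀ r, r < 64 → sm gf (Qf (11968 + r)) = Qf (tab Gen.f (11968 + r)) :=
  edges_tab (sm gf) Qf (tab Gen.f) 11968 [(11968, 11971), (11969, 9943), (11970, 7742), (11971, 11968), (11972, 16329), (11973, 10299), (11974, 12041), (11975, 12039), (11976, 7789), (11977, 7762), (11978, 15849), (11979, 12240), (11980, 16192), (11981, 11988), (11982, 14783), (11983, 16366), (11984, 16191), (11985, 11708), (11986, 7750), (11987, 16370), (11988, 11981), (11989, 7752), (11990, 7760), (11991, 8550), (11992, 16375), (11993, 16378), (11994, 7756), (11995, 16381), (11996, 16383), (11997, 7757), (11998, 16371), (11999, 7761), (12000, 16361), (12001, 16387), (12002, 16391), (12003, 16394), (12004, 7763), (12005, 12013), (12006, 12257), (12007, 16399), (12008, 7764), (12009, 16402), (12010, 16403), (12011, 7765), (12012, 16406), (12013, 12005), (12014, 7767), (12015, 16409), (12016, 7768), (12017, 15966), (12018, 7770), (12019, 11939), (12020, 11934), (12021, 16414), (12022, 16415), (12023, 7774), (12024, 16417), (12025,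 7775), (12026, 16419), (12027, 7776), (12028, 10488), (12029, 10625), (12030, 11872), (12031, 7788)]
    ⟨e3 q11968 L173584 q11971, e3 q11969 L173566 q9943, e3 q11970 L173574 q7742, e3 q11971 (flp_f L173584) q11968, e3 q11972 (flp_f L205791) q16329, e3 q11973 L173597 q10299, e3 q11974 L174012 q12041, e3 q11975 (flp_f L173986) q12039, e3 q11976 (flp_f L173617) q7789, e3 q11977 L173621 q7762, e3 q11978 (flp_f L202224) q15849, e3 q11979 L175561 q12240, e3 q11980 (flp_f L204599) q16192, e3 q11981 L173685 q11988, e3 q11982 (flp_f L194769) q14783, e3 q11983 L206064 q16366, e3 q11984 (flp_f L204589) q16191, e3 q11985 (flp_f L173667) q11708, e3 q11986 (flp_f L173671) q7750, e3 q11987 L206098 q16370, e3 q11988 (flp_f L173685) q11981, e3 q11989 (flp_f L173687) q7752, e3 q11990 L173701 q7760, e3 q11991 (flp_f L173707) q8550, e3 q11992 L206142 q16375, e3 q11993 L206168 q16378, e3 q11994 (flp_f L173719) q7756, e3 q11995 L206182 q16381, e3 q11996 L206202 q16383, e3 q11997 (flp_f L173733) q7757, e3 q11998 (flp_f L206114) q16371,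 e3 q11999 (flp_f L173757) q7761, e3 q12000 (flp_f L206024) q16361, e3 q12001 L206246 q16387, e3 q12002 L206280 q16391, e3 q12003 L206304 q16394, e3 q12004 (flp_f L173781) q7763, e3 q12005 L173829 q12013, e3 q12006 (flp_f L175663) q12257, e3 q12007 L206342 q16399, e3 q12008 (flp_f L173801) q7764, e3 q12009 L206360 q16402, e3 q12010 L206370 q16403, e3 q12011 (flp_f L173813) q7765, e3 q12012 L206402 q16406, e3 q12013 (flp_f L173829) q12005, e3 q12014 (flp_f L173831) q7767, e3 q12015 L206426 q16409, e3 q12016 (flp_f L173845) q7768, e3 q12017 L203129 q15966, e3 q12018 (flp_f L173855) q7770, e3 q12019 (flp_f L173867) q11939, e3 q12020 L183423 q11934, e3 q12021 L206470 q16414, e3 q12022 L206482 q16415, e3 q12023 L183413 q7774, e3 q12024 L206492 q16417, e3 q12025 (flp_f L173897) q7775, e3 q12026 L206512 q16419, e3 q12027 (flp_f L173909) q7776, e3 q12028 (flp_f L173917) q10488, e3 q12029 L173925 q10625, e3 q12030 L173935 q11872, e3 q12031 L173943 q7788, trivial⟩ (by decide +kernel)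

theorem ce_f_188 : ∀ r, r < 64 → sm gf (Qf (12032 + r)) = Qf (tab Gen.f (12032 + r)) :=
  edges_tab (sm gf) Qf (tab Gen.f) 12032 [(12032, 13169), (12033, 13446), (12034, 13447), (12035, 16430), (12036, 16432), (12037, 9857), (12038, 16360), (12039, 11975), (12040, 16359), (12041, 11974), (12042, 7790), (12043, 7791), (12044, 8033), (12045, 9153), (12046, 12299), (12047, 7827), (12048, 7828), (12049, 7829), (12050, 11838), (12051, 14144), (12052, 7797), (12053, 12063), (12054, 7798), (12055, 12066), (12056, 12056), (12057, 12057), (12058, 12058), (12059, 7819), (12060, 7803), (12061, 7804), (12062, 15012), (12063, 12053), (12064, 7806), (12065, 7816), (12066, 12055), (12067, 7808), (12068, 7817), (12069, 16235), (12070, 7851), (12071, 7820), (12072, 7822), (12073, 8503), (12074, 16444), (12075, 16448), (12076, 16441), (12077, 11720), (12078, 7818), (12079, 16443), (12080, 9889), (12081, 11721), (12082, 15922), (12083, 11683), (12084, 10366), (12085, 16435), (12086, 9706), (12087, 13985), (12088, 16436), (12089,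 14382), (12090, 7962), (12091, 7831), (12092, 7832), (12093, 12093), (12094, 12094), (12095, 8210)]
    ⟨e3 q12032 (flp_f L182585) q13169, e3 q12033 (flp_f L184612) q13446, e3 q12034 (flp_f L184620) q13447, e3 q12035 L206606 q16430, e3 q12036 L206623 q16432, e3 q12037 L173968 q9857, e3 q12038 L206018 q16360, e3 q12039 L173986 q11975, e3 q12040 L206006 q16359, e3 q12041 (flp_f L174012) q11974, e3 q12042 (flp_f L174014) q7790, e3 q12043 (flp_f L174024) q7791, e3 q12044 L174036 q8033, e3 q12045 L174044 q9153, e3 q12046 L175953 q12299, e3 q12047 L174062 q7827, e3 q12048 L174072 q7828, e3 q12049 L174082 q7829, e3 q12050 (flp_f L174092) q11838, e3 q12051 (flp_f L190180) q14144, e3 q12052 (flp_f L174098) q7797, e3 q12053 L174198 q12063, e3 q12054 (flp_f L174119) q7798, e3 q12055 L174224 q12066, e3 q12056 L174141 q12056, e3 q12057 L174144 q12057, e3 q12058 L174147 q12058, e3 q12059 L174156 q7819, e3 q12060 (flp_f L174164) q7803, e3 q12061 (flp_f L174172) q7804, e3 q12062 L196781 q15012, e3 q12063 (flp_f L174198) q12053,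 e3 q12064 (flp_f L174202) q7806, e3 q12065 L174216 q7816, e3 q12066 (flp_f L174224) q12055, e3 q12067 (flp_f L174228) q7808, e3 q12068 L174242 q7817, e3 q12069 (flp_f L204938) q16235, e3 q12070 L174252 q7851, e3 q12071 L174262 q7820, e3 q12072 L174274 q7822, e3 q12073 L174284 q8503, e3 q12074 (flp_f L206757) q16444, e3 q12075 L206787 q16448, e3 q12076 L206724 q16441, e3 q12077 L174314 q11720, e3 q12078 (flp_f L174318) q7818, e3 q12079 L206747 q16443, e3 q12080 L174334 q9889, e3 q12081 (flp_f L174342) q11721, e3 q12082 (flp_f L202810) q15922, e3 q12083 L174354 q11683, e3 q12084 L174364 q10366, e3 q12085 (flp_f L206657) q16435, e3 q12086 L174378 q9706, e3 q12087 L188979 q13985, e3 q12088 (flp_f L206669) q16436, e3 q12089 (flp_f L191896) q14382, e3 q12090 L174408 q7962, e3 q12091 (flp_f L174412) q7831, e3 q12092 (flp_f L174424) q7832, e3 q12093 L174438 q12093, e3 q12094 L174445 q12094, e3 q12095 (flp_f L174460) q8210, trivial⟩ (by decide +kernel)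

theorem ce_f_189 : ∀ r, r < 64 → sm gf (Qf (12096 + r)) = Qf (tab Gen.f (12096 + r)) :=
  edges_tab (sm gf) Qf (tab Gen.f) 12096 [(12096, 12096), (12097, 11889), (12098, 9360), (12099, 12099), (12100, 11892), (12101, 11890), (12102, 16463), (12103, 16201), (12104, 16465), (12105, 11897), (12106, 7845), (12107, 16320), (12108, 16292), (12109, 7846), (12110, 11899), (12111, 7848), (12112, 8558), (12113, 7854), (12114, 8535), (12115, 10432), (12116, 8002), (12117, 14178), (12118, 8003), (12119, 12159), (12120, 12212), (12121, 7859), (12122, 12129), (12123, 11919), (12124, 7862), (12125, 8100), (12126, 10588), (12127, 7864), (12128, 7893), (12129, 12122), (12130, 8009), (12131, 14135), (12132, 11929), (12133, 7868), (12134, 16326), (12135, 11359), (12136, 16471), (12137, 13377), (12138, 7872), (12139, 16475), (12140, 16476), (12141, 7873), (12142, 16478), (12143, 7875), (12144, 16480), (12145, 16482), (12146, 7877), (12147, 12357), (12148, 7924), (12149, 11944), (12150, 16489), (12151, 16491), (12152, 16492), (12153,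 7881), (12154, 13359), (12155, 10575), (12156, 7882), (12157, 10573), (12158, 7883), (12159, 12119)]
    ⟨e3 q12096 L174468 q12096, e3 q12097 (flp_f L174477) q11889, e3 q12098 L174487 q9360, e3 q12099 L174497 q12099, e3 q12100 (flp_f L174519) q11892, e3 q12101 L174525 q11890, e3 q12102 L206934 q16463, e3 q12103 (flp_f L204666) q16201, e3 q12104 L206954 q16465, e3 q12105 (flp_f L174551) q11897, e3 q12106 (flp_f L174553) q7845, e3 q12107 L205709 q16320, e3 q12108 (flp_f L205450) q16292, e3 q12109 (flp_f L174577) q7846, e3 q12110 L174593 q11899, e3 q12111 (flp_f L174595) q7848, e3 q12112 L174611 q8558, e3 q12113 (flp_f L174619) q7854, e3 q12114 L174633 q8535, e3 q12115 L174639 q10432, e3 q12116 L174645 q8002, e3 q12117 (flp_f L190451) q14178, e3 q12118 L174659 q8003, e3 q12119 L174954 q12159, e3 q12120 (flp_f L175338) q12212, e3 q12121 (flp_f L174673) q7859, e3 q12122 L174765 q12129, e3 q12123 L174691 q11919, e3 q12124 (flp_f L174697) q7862, e3 q12125 (flp_f L174719) q8100, e3 q12126 L174729 q10588, e3 q12127 (flp_f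 L174731) q7864, e3 q12128 L174751 q7893, e3 q12129 (flp_f L174765) q12122, e3 q12130 L174773 q8009, e3 q12131 (flp_f L190111) q14135, e3 q12132 (flp_f L174793) q11929, e3 q12133 (flp_f L174795) q7868, e3 q12134 (flp_f L205761) q16326, e3 q12135 L174817 q11359, e3 q12136 (flp_f L207014) q16471, e3 q12137 L184119 q13377, e3 q12138 (flp_f L174838) q7872, e3 q12139 L207037 q16475, e3 q12140 L207043 q16476, e3 q12141 (flp_f L174848) q7873, e3 q12142 L207057 q16478, e3 q12143 (flp_f L174860) q7875, e3 q12144 L207073 q16480, e3 q12145 L207087 q16482, e3 q12146 (flp_f L174872) q7877, e3 q12147 L176426 q12357, e3 q12148 L174882 q7924, e3 q12149 (flp_f L174890) q11944, e3 q12150 L207135 q16489, e3 q12151 L207146 q16491, e3 q12152 L207152 q16492, e3 q12153 (flp_f L174904) q7881, e3 q12154 (flp_f L183987) q13359, e3 q12155 L174924 q10575, e3 q12156 (flp_f L174916) q7882, e3 q12157 (flp_f L174938) q10573, e3 q12158 (flp_f L174940) q7883, e3 q12159 (flp_f L174954) q12119, trivial⟩ (by decide +kernel)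

theorem ce_f_190 : ∀ r, r < 64 → sm gf (Qf (12160 + r)) = Qf (tab Gen.f (12160 + r)) :=
  edges_tab (sm gf) Qf (tab Gen.f) 12160 [(12160, 10757), (12161, 10399), (12162, 13575), (12163, 10372), (12164, 7891), (12165, 10699), (12166, 14132), (12167, 13978), (12168, 7895), (12169, 13945), (12170, 7897), (12171, 11326), (12172, 7902), (12173, 11826), (12174, 16265), (12175, 9082), (12176, 16499), (12177, 7905), (12178, 16500), (12179, 7906), (12180, 14082), (12181, 16502), (12182, 7909), (12183, 7910), (12184, 16504), (12185, 11700), (12186, 7912), (12187, 7914), (12188, 14751), (12189, 8508), (12190, 16188), (12191, 16507), (12192, 16510), (12193, 7920), (12194, 12198), (12195, 16512), (12196, 7921), (12197, 16515), (12198, 12194), (12199, 7923), (12200, 16486), (12201, 16518), (12202, 7925), (12203, 13408), (12204, 14807), (12205, 9022), (12206, 13347), (12207, 14840), (12208, 10536), (12209, 14841), (12210, 16527), (12211, 7931), (12212, 12120), (12213, 8337), (12214, 11709), (12215, 7938), (12216, 10260), (12217,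 11910), (12218, 16529), (12219, 14074), (12220, 14140), (12221, 7948), (12222, 12337), (12223, 12336)]
    ⟨e3 q12160 L174970 q10757, e3 q12161 L174984 q10399, e3 q12162 L185713 q13575, e3 q12163 L175002 q10372, e3 q12164 (flp_f L175005) q7891, e3 q12165 L175019 q10699, e3 q12166 L190095 q14132, e3 q12167 (flp_f L188915) q13978, e3 q12168 (flp_f L175033) q7895, e3 q12169 L188685 q13945, e3 q12170 (flp_f L175053) q7897, e3 q12171 L175073 q11326, e3 q12172 L175081 q7902, e3 q12173 (flp_f L175094) q11826, e3 q12174 (flp_f L205195) q16265, e3 q12175 L175106 q9082, e3 q12176 L207211 q16499, e3 q12177 (flp_f L175116) q7905, e3 q12178 L207221 q16500, e3 q12179 (flp_f L175126) q7906, e3 q12180 (flp_f L189673) q14082, e3 q12181 L207233 q16502, e3 q12182 (flp_f L175146) q7909, e3 q12183 (flp_f L175158) q7910, e3 q12184 L207255 q16504, e3 q12185 (flp_f L175172) q11700, e3 q12186 (flp_f L175174) q7912, e3 q12187 (flp_f L175186) q7914, e3 q12188 (flp_f L194468) q14751, e3 q12189 (flp_f L175208) q8508, e3 q12190 (flp_f L204563)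 q16188, e3 q12191 L207291 q16507, e3 q12192 L207315 q16510, e3 q12193 (flp_f L175222) q7920, e3 q12194 L175254 q12198, e3 q12195 L207331 q16512, e3 q12196 (flp_f L175238) q7921, e3 q12197 L207349 q16515, e3 q12198 (flp_f L175254) q12194, e3 q12199 (flp_f L175256) q7923, e3 q12200 (flp_f L207120) q16486, e3 q12201 L207375 q16518, e3 q12202 (flp_f L175270) q7925, e3 q12203 (flp_f L184364) q13408, e3 q12204 (flp_f L194991) q14807, e3 q12205 L175292 q9022, e3 q12206 (flp_f L183905) q13347, e3 q12207 (flp_f L195283) q14840, e3 q12208 L175314 q10536, e3 q12209 (flp_f L195291) q14841, e3 q12210 L207461 q16527, e3 q12211 (flp_f L175326) q7931, e3 q12212 L175338 q12120, e3 q12213 L175348 q8337, e3 q12214 L175356 q11709, e3 q12215 (flp_f L175358) q7938, e3 q12216 L175376 q10260, e3 q12217 (flp_f L175388) q11910, e3 q12218 L207477 q16529, e3 q12219 L189627 q14074, e3 q12220 (flp_f L190145) q14140, e3 q12221 (flp_f L175406) q7948, e3 q12222 L176235 q12337, e3 q12223 (flp_f L176223) q12336, trivial⟩ (by decide +kernel)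

theorem ce_f_191 : ∀ r, r < 64 → sm gf (Qf (12224 + r)) = Qf (tab Gen.f (12224 + r)) :=
  edges_tab (sm gf) Qf (tab Gen.f) 12224 [(12224, 7950), (12225, 11439), (12226, 13865), (12227, 16241), (12228, 15279), (12229, 11792), (12230, 7960), (12231, 15837), (12232, 16534), (12233, 7965), (12234, 16234), (12235, 15848), (12236, 15856), (12237, 7967), (12238, 13285), (12239, 7974), (12240, 11979), (12241, 7969), (12242, 16540), (12243, 13341), (12244, 13022), (12245, 9010), (12246, 7971), (12247, 12255), (12248, 10427), (12249, 13080), (12250, 16246), (12251, 13023), (12252, 16554), (12253, 13331), (12254, 7978), (12255, 12247), (12256, 7980), (12257, 12006), (12258, 9785), (12259, 10360), (12260, 7983), (12261, 9786), (12262, 9787), (12263, 14039), (12264, 14006), (12265, 7985), (12266, 12270), (12267, 16561), (12268, 7988), (12269, 14944), (12270, 12266), (12271, 7990), (12272, 7993), (12273, 7995), (12274, 8344), (12275, 14686), (12276, 8004), (12277, 10508), (12278, 10512), (12279, 9895), (12280, 14122), (12281,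 12281), (12282, 12282), (12283, 12383), (12284, 15570), (12285, 15600), (12286, 16566), (12287, 16568)]
    ⟨e3 q12224 (flp_f L175418) q7950, e3 q12225 L175430 q11439, e3 q12226 L188069 q13865, e3 q12227 (flp_f L205002) q16241, e3 q12228 (flp_f L198472) q15279, e3 q12229 (flp_f L175456) q11792, e3 q12230 (flp_f L175499) q7960, e3 q12231 (flp_f L202112) q15837, e3 q12232 L207513 q16534, e3 q12233 (flp_f L175517) q7965, e3 q12234 (flp_f L204928) q16234, e3 q12235 (flp_f L202214) q15848, e3 q12236 L202280 q15856, e3 q12237 (flp_f L175535) q7967, e3 q12238 (flp_f L183387) q13285, e3 q12239 L175551 q7974, e3 q12240 (flp_f L175561) q11979, e3 q12241 (flp_f L175565) q7969, e3 q12242 (flp_f L207581) q16540, e3 q12243 (flp_f L183853) q13341, e3 q12244 (flp_f L181599) q13022, e3 q12245 L175593 q9010, e3 q12246 (flp_f L175595) q7971, e3 q12247 L175649 q12255, e3 q12248 L175613 q10427, e3 q12249 (flp_f L181981) q13080, e3 q12250 (flp_f L205042) q16246, e3 q12251 (flp_f L181605) q13023, e3 q12252 L207672 q16554, e3 q12253 L183769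 q13331, e3 q12254 (flp_f L175637) q7978, e3 q12255 (flp_f L175649) q12247, e3 q12256 (flp_f L175651) q7980, e3 q12257 L175663 q12006, e3 q12258 L175673 q9785, e3 q12259 (flp_f L175681) q10360, e3 q12260 (flp_f L175683) q7983, e3 q12261 L175693 q9786, e3 q12262 L175705 q9787, e3 q12263 (flp_f L189361) q14039, e3 q12264 (flp_f L189121) q14006, e3 q12265 (flp_f L175723) q7985, e3 q12266 L175753 q12270, e3 q12267 L207730 q16561, e3 q12268 (flp_f L175737) q7988, e3 q12269 (flp_f L196191) q14944, e3 q12270 (flp_f L175753) q12266, e3 q12271 (flp_f L175757) q7990, e3 q12272 (flp_f L175765) q7993, e3 q12273 (flp_f L175773) q7995, e3 q12274 (flp_f L175791) q8344, e3 q12275 L193905 q14686, e3 q12276 (flp_f L175803) q8004, e3 q12277 L175817 q10508, e3 q12278 L175821 q10512, e3 q12279 L175825 q9895, e3 q12280 (flp_f L190025) q14122, e3 q12281 L175837 q12281, e3 q12282 L175848 q12282, e3 q12283 (flp_f L176652) q12383, e3 q12284 (flp_f L200267) q15570, e3 q12285 L200447 q15600, e3 q12286 L207774 q16566, e3 q12287 L207788 q16568,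 trivial⟩ (by decide +kernel)

theorem ce_f_192 : ∀ r, r < 64 → sm gf (Qf (12288 + r)) = Qf (tab Gen.f (12288 + r)) :=
  edges_tab (sm gf) Qf (tab Gen.f) 12288 [(12288, 8017), (12289, 8018), (12290, 11288), (12291, 16569), (12292, 8023), (12293, 11812), (12294, 16572), (12295, 16573), (12296, 8025), (12297, 16574), (12298, 11687), (12299, 12046), (12300, 8027), (12301, 16578), (12302, 16580), (12303, 16582), (12304, 8028), (12305, 8029), (12306, 12314), (12307, 8976), (12308, 16584), (12309, 8034), (12310, 16587), (12311, 8035), (12312, 12411), (12313, 9070), (12314, 12306), (12315, 8038), (12316, 13470), (12317, 13385), (12318, 14097), (12319, 16593), (12320, 8041), (12321, 14830), (12322, 14780), (12323, 12718), (12324, 8043), (12325, 12329), (12326, 12904), (12327, 8046), (12328, 16597), (12329, 12325), (12330, 8048), (12331, 16598), (12332, 8051), (12333, 14908), (12334, 10784), (12335, 8054), (12336, 12223), (12337, 12222), (12338, 8058), (12339, 10700), (12340, 8060), (12341, 12345), (12342, 10306), (12343,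 14487), (12344, 14798), (12345, 12341), (12346, 8063), (12347, 9911), (12348, 12352), (12349, 10369), (12350, 14946), (12351, 8070)]
    ⟨e3 q12288 (flp_f L175881) q8017, e3 q12289 (flp_f L175889) q8018, e3 q12290 (flp_f L175901) q11288, e3 q12291 L207798 q16569, e3 q12292 (flp_f L175907) q8023, e3 q12293 (flp_f L175917) q11812, e3 q12294 L207828 q16572, e3 q12295 L207842 q16573, e3 q12296 (flp_f L175925) q8025, e3 q12297 L207852 q16574, e3 q12298 (flp_f L175941) q11687, e3 q12299 (flp_f L175953) q12046, e3 q12300 (flp_f L175957) q8027, e3 q12301 L207888 q16578, e3 q12302 L207903 q16580, e3 q12303 L207917 q16582, e3 q12304 (flp_f L175981) q8028, e3 q12305 (flp_f L175989) q8029, e3 q12306 L176043 q12314, e3 q12307 L176007 q8976, e3 q12308 L207931 q16584, e3 q12309 (flp_f L176015) q8034, e3 q12310 L207947 q16587, e3 q12311 (flp_f L176021) q8035, e3 q12312 (flp_f L176911) q12411, e3 q12313 (flp_f L176037) q9070, e3 q12314 (flp_f L176043) q12306, e3 q12315 (flp_f L176045) q8038, e3 q12316 (flp_f L184806) q13470, e3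 q12317 (flp_f L184169) q13385, e3 q12318 L189807 q14097, e3 q12319 L207995 q16593, e3 q12320 (flp_f L176087) q8041, e3 q12321 (flp_f L195195) q14830, e3 q12322 (flp_f L194737) q14780, e3 q12323 (flp_f L179359) q12718, e3 q12324 (flp_f L176115) q8043, e3 q12325 L176145 q12329, e3 q12326 (flp_f L180791) q12904, e3 q12327 (flp_f L176129) q8046, e3 q12328 L208029 q16597, e3 q12329 (flp_f L176145) q12325, e3 q12330 (flp_f L176149) q8048, e3 q12331 L208043 q16598, e3 q12332 (flp_f L176169) q8051, e3 q12333 (flp_f L195888) q14908, e3 q12334 L176193 q10784, e3 q12335 (flp_f L176199) q8054, e3 q12336 L176223 q12223, e3 q12337 (flp_f L176235) q12222, e3 q12338 (flp_f L176237) q8058, e3 q12339 L176256 q10700, e3 q12340 (flp_f L176262) q8060, e3 q12341 L176306 q12345, e3 q12342 L176286 q10306, e3 q12343 (flp_f L192593) q14487, e3 q12344 L194913 q14798, e3 q12345 (flp_f L176306) q12341, e3 q12346 (flp_f L176308) q8063, e3 q12347 L176322 q9911, e3 q12348 L176376 q12352, e3 q12349 L176342 q10369, e3 q12350 L196211 q14946, e3 q12351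 (flp_f L176358) q8070, trivial⟩ (by decide +kernel)

theorem ce_f_193 : ∀ r, r < 64 → sm gf (Qf (12352 + r)) = Qf (tab Gen.f (12352 + r)) :=
  edges_tab (sm gf) Qf (tab Gen.f) 12352 [(12352, 12348), (12353, 10080), (12354, 8481), (12355, 8474), (12356, 8482), (12357, 12147), (12358, 16606), (12359, 8078), (12360, 8125), (12361, 8131), (12362, 8079), (12363, 12374), (12364, 12772), (12365, 8083), (12366, 12410), (12367, 8121), (12368, 16615), (12369, 8085), (12370, 12412), (12371, 13327), (12372, 16619), (12373, 8088), (12374, 12363), (12375, 8092), (12376, 8094), (12377, 13982), (12378, 8095), (12379, 14969), (12380, 10798), (12381, 10634), (12382, 8102), (12383, 12283), (12384, 12384), (12385, 8177), (12386, 8104), (12387, 12391), (12388, 14831), (12389, 16625), (12390, 8105), (12391, 12387), (12392, 8107), (12393, 14187), (12394, 8111), (12395, 8478), (12396, 8928), (12397, 12808), (12398, 8116), (12399, 16626), (12400, 8119), (12401, 8124), (12402, 16339), (12403, 16612), (12404, 8122), (12405, 8539), (12406,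 10648), (12407, 16607), (12408, 16632), (12409, 8126), (12410, 12366), (12411, 12312), (12412, 12370), (12413, 8133), (12414, 16636), (12415, 8138)]
    ⟨e3 q12352 (flp_f L176376) q12348, e3 q12353 L176384 q10080, e3 q12354 (flp_f L176394) q8481, e3 q12355 (flp_f L176406) q8474, e3 q12356 L176412 q8482, e3 q12357 (flp_f L176426) q12147, e3 q12358 L208120 q16606, e3 q12359 (flp_f L176434) q8078, e3 q12360 (flp_f L176450) q8125, e3 q12361 L176458 q8131, e3 q12362 (flp_f L176460) q8079, e3 q12363 L176556 q12374, e3 q12364 L179771 q12772, e3 q12365 (flp_f L176484) q8083, e3 q12366 L176903 q12410, e3 q12367 (flp_f L176506) q8121, e3 q12368 L208195 q16615, e3 q12369 (flp_f L176512) q8085, e3 q12370 (flp_f L176919) q12412, e3 q12371 (flp_f L183743) q13327, e3 q12372 L208219 q16619, e3 q12373 (flp_f L176538) q8088, e3 q12374 (flp_f L176556) q12363, e3 q12375 (flp_f L176558) q8092, e3 q12376 (flp_f L176568) q8094, e3 q12377 (flp_f L188951) q13982, e3 q12378 (flp_f L176590) q8095, e3 q12379 (flp_f L196420) q14969, e3 q12380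 L176614 q10798, e3 q12381 (flp_f L176628) q10634, e3 q12382 L176642 q8102, e3 q12383 L176652 q12283, e3 q12384 L176668 q12384, e3 q12385 L176677 q8177, e3 q12386 (flp_f L176683) q8104, e3 q12387 L176727 q12391, e3 q12388 L195209 q14831, e3 q12389 L208289 q16625, e3 q12390 (flp_f L176717) q8105, e3 q12391 (flp_f L176727) q12387, e3 q12392 (flp_f L176729) q8107, e3 q12393 (flp_f L190543) q14187, e3 q12394 (flp_f L176745) q8111, e3 q12395 L176763 q8478, e3 q12396 L176775 q8928, e3 q12397 L180087 q12808, e3 q12398 (flp_f L176791) q8116, e3 q12399 L208295 q16626, e3 q12400 (flp_f L176811) q8119, e3 q12401 L176825 q8124, e3 q12402 (flp_f L205864) q16339, e3 q12403 L208181 q16612, e3 q12404 (flp_f L176847) q8122, e3 q12405 L176861 q8539, e3 q12406 (flp_f L176873) q10648, e3 q12407 L208138 q16607, e3 q12408 L208337 q16632, e3 q12409 (flp_f L176889) q8126, e3 q12410 (flp_f L176903) q12366, e3 q12411 L176911 q12312, e3 q12412 L176919 q12370, e3 q12413 (flp_f L176921) q8133, e3 q12414 L208369 q16636, e3 q12415 L176945 q8138,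 trivial⟩ (by decide +kernel)

theorem ce_f_194 : ∀ r, r < 64 → sm gf (Qf (12416 + r)) = Qf (tab Gen.f (12416 + r)) :=
  edges_tab (sm gf) Qf (tab Gen.f) 12416 [(12416, 8139), (12417, 8187), (12418, 9466), (12419, 8137), (12420, 13678), (12421, 16638), (12422, 8140), (12423, 8165), (12424, 16641), (12425, 8143), (12426, 9710), (12427, 8147), (12428, 12459), (12429, 12467), (12430, 9675), (12431, 12472), (12432, 16644), (12433, 8148), (12434, 8149), (12435, 8155), (12436, 8195), (12437, 13593), (12438, 8151), (12439, 12468), (12440, 16648), (12441, 8159), (12442, 8160), (12443, 8161), (12444, 9471), (12445, 13671), (12446, 8156), (12447, 14007), (12448, 16653), (12449, 8158), (12450, 16654), (12451, 13960), (12452, 16649), (12453, 16650), (12454, 16659), (12455, 8207), (12456, 8162), (12457, 8163), (12458, 16640), (12459, 12428), (12460, 9726), (12461, 8166), (12462, 16660), (12463, 8167), (12464, 16308), (12465, 14713), (12466, 14317), (12467, 12429), (12468, 12439), (12469, 12488), (12470, 8184), (12471, 9709),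 (12472, 12431), (12473, 12480), (12474, 10751), (12475, 8182), (12476, 9248), (12477, 12492), (12478, 12793), (12479, 16662)]
    ⟨e3 q12416 L176951 q8139, e3 q12417 L176965 q8187, e3 q12418 L176977 q9466, e3 q12419 (flp_f L176979) q8137, e3 q12420 L186607 q13678, e3 q12421 (flp_f L208401) q16638, e3 q12422 (flp_f L177005) q8140, e3 q12423 L177021 q8165, e3 q12424 L208435 q16641, e3 q12425 (flp_f L177029) q8143, e3 q12426 L177039 q9710, e3 q12427 L177049 q8147, e3 q12428 (flp_f L177279) q12459, e3 q12429 L177350 q12467, e3 q12430 L177075 q9675, e3 q12431 (flp_f L177390) q12472, e3 q12432 L208469 q16644, e3 q12433 (flp_f L177090) q8148, e3 q12434 (flp_f L177102) q8149, e3 q12435 (flp_f L177122) q8155, e3 q12436 L177126 q8195, e3 q12437 (flp_f L185901) q13593, e3 q12438 (flp_f L177132) q8151, e3 q12439 (flp_f L177358) q12468, e3 q12440 L208521 q16648, e3 q12441 L177154 q8159, e3 q12442 L177158 q8160, e3 q12443 L177164 q8161, e3 q12444 L177170 q9471, e3 q12445 (flp_f L186537) q13671, e3 q12446 (flp_f L177182) q8156,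 e3 q12447 (flp_f L189131) q14007, e3 q12448 L208562 q16653, e3 q12449 (flp_f L177202) q8158, e3 q12450 L208570 q16654, e3 q12451 L188775 q13960, e3 q12452 (flp_f L208537) q16649, e3 q12453 (flp_f L208543) q16650, e3 q12454 L208622 q16659, e3 q12455 (flp_f L177246) q8207, e3 q12456 (flp_f L177248) q8162, e3 q12457 (flp_f L177260) q8163, e3 q12458 (flp_f L208429) q16640, e3 q12459 L177279 q12428, e3 q12460 L177297 q9726, e3 q12461 (flp_f L177299) q8166, e3 q12462 L208634 q16660, e3 q12463 (flp_f L177314) q8167, e3 q12464 L205609 q16308, e3 q12465 (flp_f L194131) q14713, e3 q12466 L191431 q14317, e3 q12467 (flp_f L177350) q12429, e3 q12468 L177358 q12439, e3 q12469 (flp_f L177495) q12488, e3 q12470 L177372 q8184, e3 q12471 L177380 q9709, e3 q12472 L177390 q12431, e3 q12473 (flp_f L177445) q12480, e3 q12474 L185637 q10751, e3 q12475 (flp_f L177409) q8182, e3 q12476 L177423 q9248, e3 q12477 L177531 q12492, e3 q12478 L179955 q12793, e3 q12479 (flp_f L208652) q16662, trivial⟩ (by decide +kernel)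

theorem ce_f_195 : ∀ r, r < 64 → sm gf (Qf (12480 + r)) = Qf (tab Gen.f (12480 + r)) :=
  edges_tab (sm gf) Qf (tab Gen.f) 12480 [(12480, 12473), (12481, 13932), (12482, 16639), (12483, 16428), (12484, 16426), (12485, 8188), (12486, 13676), (12487, 10316), (12488, 12469), (12489, 10315), (12490, 8191), (12491, 8201), (12492, 12477), (12493, 12493), (12494, 9761), (12495, 8586), (12496, 12496), (12497, 9246), (12498, 16676), (12499, 16658), (12500, 8203), (12501, 12501), (12502, 16458), (12503, 8211), (12504, 12505), (12505, 12504), (12506, 8215), (12507, 13001), (12508, 14093), (12509, 14027), (12510, 14034), (12511, 16687), (12512, 16690), (12513, 16692), (12514, 8219), (12515, 12853), (12516, 9782), (12517, 8221), (12518, 16695), (12519, 8222), (12520, 9827), (12521, 12865), (12522, 8225), (12523, 16698), (12524, 16701), (12525, 16703), (12526, 8229), (12527, 8233), (12528, 16705), (12529, 16706), (12530, 16713), (12531, 12539), (12532, 9217), (12533, 8234), (12534, 8756), (12535, 13518), (12536, 8235), (12537,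 16719), (12538, 8236), (12539, 12531), (12540, 8239), (12541, 8240), (12542, 12545), (12543, 12967)]
    ⟨e3 q12480 L177445 q12473, e3 q12481 (flp_f L188579) q13932, e3 q12482 (flp_f L208413) q16639, e3 q12483 (flp_f L206592) q16428, e3 q12484 (flp_f L206573) q16426, e3 q12485 (flp_f L177477) q8188, e3 q12486 (flp_f L186589) q13676, e3 q12487 L177487 q10316, e3 q12488 L177495 q12469, e3 q12489 L177501 q10315, e3 q12490 (flp_f L177503) q8191, e3 q12491 L177517 q8201, e3 q12492 (flp_f L177531) q12477, e3 q12493 L177545 q12493, e3 q12494 L177556 q9761, e3 q12495 (flp_f L177570) q8586, e3 q12496 L177576 q12496, e3 q12497 (flp_f L177585) q9246, e3 q12498 (flp_f L208789) q16676, e3 q12499 L208620 q16658, e3 q12500 (flp_f L177600) q8203, e3 q12501 L177610 q12501, e3 q12502 L206894 q16458, e3 q12503 (flp_f L177621) q8211, e3 q12504 L177649 q12505, e3 q12505 (flp_f L177649) q12504, e3 q12506 (flp_f L177651) q8215, e3 q12507 L181443 q13001, e3 q12508 (flp_f L189771) q14093, e3 q12509 (flp_f L189263) q14027, e3 q12510 (flp_f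 L189327) q14034, e3 q12511 L208875 q16687, e3 q12512 L208899 q16690, e3 q12513 L208913 q16692, e3 q12514 (flp_f L177701) q8219, e3 q12515 L180437 q12853, e3 q12516 L177719 q9782, e3 q12517 (flp_f L177721) q8221, e3 q12518 L208941 q16695, e3 q12519 (flp_f L177737) q8222, e3 q12520 (flp_f L177755) q9827, e3 q12521 L180543 q12865, e3 q12522 (flp_f L177769) q8225, e3 q12523 L208965 q16698, e3 q12524 L208989 q16701, e3 q12525 L209007 q16703, e3 q12526 (flp_f L177797) q8229, e3 q12527 L177811 q8233, e3 q12528 (flp_f L209029) q16705, e3 q12529 (flp_f L209035) q16706, e3 q12530 L209085 q16713, e3 q12531 L177894 q12539, e3 q12532 (flp_f L177844) q9217, e3 q12533 (flp_f L177846) q8234, e3 q12534 (flp_f L177856) q8756, e3 q12535 L185203 q13518, e3 q12536 (flp_f L177864) q8235, e3 q12537 L209141 q16719, e3 q12538 (flp_f L177882) q8236, e3 q12539 (flp_f L177894) q12531, e3 q12540 L177900 q8239, e3 q12541 L177906 q8240, e3 q12542 (flp_f L177935) q12545, e3 q12543 (flp_f L181221) q12967, trivial⟩ (by decide +kernel)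

theorem ce_f_196 : ∀ r, r < 64 → sm gf (Qf (12544 + r)) = Qf (tab Gen.f (12544 + r)) :=
  edges_tab (sm gf) Qf (tab Gen.f) 12544 [(12544, 16721), (12545, 12542), (12546, 14151), (12547, 13538), (12548, 8241), (12549, 15450), (12550, 9397), (12551, 12952), (12552, 15270), (12553, 8684), (12554, 16733), (12555, 11430), (12556, 9122), (12557, 8248), (12558, 13097), (12559, 9126), (12560, 16736), (12561, 12901), (12562, 15271), (12563, 8648), (12564, 12920), (12565, 14940), (12566, 8251), (12567, 8903), (12568, 8257), (12569, 8261), (12570, 8897), (12571, 9213), (12572, 9042), (12573, 16741), (12574, 13516), (12575, 8894), (12576, 8500), (12577, 8277), (12578, 8499), (12579, 12734), (12580, 9256), (12581, 8907), (12582, 13277), (12583, 8923), (12584, 8886), (12585, 9119), (12586, 8285), (12587, 8290), (12588, 9016), (12589, 8295), (12590, 10554), (12591, 13266), (12592, 9011), (12593, 12596), (12594, 8304), (12595, 9903), (12596, 12593), (12597, 8312), (12598, 8313), (12599, 10469), (12600, 14905), (12601, 8323), (12602,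 8324), (12603, 12607), (12604, 8330), (12605, 8333), (12606, 14707), (12607, 12603)]
    ⟨e3 q12544 (flp_f L209171) q16721, e3 q12545 L177935 q12542, e3 q12546 L190237 q14151, e3 q12547 (flp_f L185365) q13538, e3 q12548 (flp_f L177953) q8241, e3 q12549 (flp_f L199488) q15450, e3 q12550 L177975 q9397, e3 q12551 (flp_f L181121) q12952, e3 q12552 (flp_f L198412) q15270, e3 q12553 L178001 q8684, e3 q12554 L209263 q16733, e3 q12555 L178285 q11430, e3 q12556 (flp_f L178022) q9122, e3 q12557 (flp_f L178024) q8248, e3 q12558 (flp_f L182109) q13097, e3 q12559 L178044 q9126, e3 q12560 L209286 q16736, e3 q12561 L180767 q12901, e3 q12562 (flp_f L198418) q15271, e3 q12563 (flp_f L178072) q8648, e3 q12564 (flp_f L180911) q12920, e3 q12565 (flp_f L196159) q14940, e3 q12566 (flp_f L178087) q8251, e3 q12567 L178099 q8903, e3 q12568 (flp_f L178103) q8257, e3 q12569 (flp_f L178113) q8261, e3 q12570 L178131 q8897, e3 q12571 L178143 q9213, e3 q12572 L178153 q9042, e3 q12573 L209325 q16741, e3 q12574 (flp_f L185181) q13516, e3 q12575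 (flp_f L178181) q8894, e3 q12576 L178189 q8500, e3 q12577 L178201 q8277, e3 q12578 L178211 q8499, e3 q12579 (flp_f L179479) q12734, e3 q12580 L178225 q9256, e3 q12581 L178235 q8907, e3 q12582 (flp_f L183325) q13277, e3 q12583 L178255 q8923, e3 q12584 (flp_f L178275) q8886, e3 q12585 (flp_f L178295) q9119, e3 q12586 (flp_f L178297) q8285, e3 q12587 (flp_f L178311) q8290, e3 q12588 L178325 q9016, e3 q12589 L178335 q8295, e3 q12590 (flp_f L178349) q10554, e3 q12591 L183265 q13266, e3 q12592 (flp_f L178367) q9011, e3 q12593 L178411 q12596, e3 q12594 (flp_f L178381) q8304, e3 q12595 L178397 q9903, e3 q12596 (flp_f L178411) q12593, e3 q12597 (flp_f L178413) q8312, e3 q12598 (flp_f L178423) q8313, e3 q12599 (flp_f L178445) q10469, e3 q12600 L195862 q14905, e3 q12601 (flp_f L178461) q8323, e3 q12602 (flp_f L178475) q8324, e3 q12603 L178537 q12607, e3 q12604 (flp_f L178497) q8330, e3 q12605 (flp_f L178507) q8333, e3 q12606 L194081 q14707, e3 q12607 (flp_f L178537) q12603, trivial⟩ (by decide +kernel)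

theorem ce_f_197 : ∀ r, r < 64 → sm gf (Qf (12608 + r)) = Qf (tab Gen.f (12608 + r)) :=
  edges_tab (sm gf) Qf (tab Gen.f) 12608 [(12608, 15572), (12609, 13392), (12610, 12807), (12611, 8341), (12612, 15128), (12613, 8342), (12614, 16749), (12615, 15846), (12616, 10721), (12617, 14834), (12618, 10522), (12619, 8357), (12620, 14804), (12621, 14781), (12622, 8390), (12623, 12665), (12624, 16755), (12625, 12631), (12626, 16757), (12627, 8362), (12628, 16758), (12629, 8363), (12630, 8364), (12631, 12625), (12632, 8366), (12633, 12700), (12634, 8368), (12635, 8660), (12636, 8371), (12637, 8372), (12638, 12640), (12639, 16764), (12640, 12638), (12641, 16767), (12642, 8373), (12643, 10550), (12644, 12682), (12645, 16770), (12646, 12651), (12647, 8377), (12648, 16771), (12649, 10620), (12650, 8379), (12651, 12646), (12652, 8381), (12653, 16773), (12654, 12654), (12655, 8386), (12656, 12659), (12657, 16777), (12658, 12697), (12659, 12656), (12660, 8387), (12661, 12834), (12662, 14155), (12663, 16779), (12664, 10257), (12665,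 12623), (12666, 16722), (12667, 16720), (12668, 8392), (12669, 14637), (12670, 16786), (12671, 8394)]
    ⟨e3 q12608 (flp_f L200283) q15572, e3 q12609 (flp_f L184228) q13392, e3 q12610 (flp_f L180071) q12807, e3 q12611 (flp_f L178553) q8341, e3 q12612 L197540 q15128, e3 q12613 (flp_f L178573) q8342, e3 q12614 (flp_f L209407) q16749, e3 q12615 (flp_f L202196) q15846, e3 q12616 L178595 q10721, e3 q12617 (flp_f L195241) q14834, e3 q12618 L178613 q10522, e3 q12619 L178621 q8357, e3 q12620 L194975 q14804, e3 q12621 (flp_f L194753) q14781, e3 q12622 L178643 q8390, e3 q12623 (flp_f L178999) q12665, e3 q12624 L209447 q16755, e3 q12625 L178705 q12631, e3 q12626 L209467 q16757, e3 q12627 (flp_f L178669) q8362, e3 q12628 L209475 q16758, e3 q12629 (flp_f L178679) q8363, e3 q12630 (flp_f L178689) q8364, e3 q12631 (flp_f L178705) q12625, e3 q12632 (flp_f L178709) q8366, e3 q12633 L179235 q12700, e3 q12634 (flp_f L178725) q8368, e3 q12635 L178733 q8660, e3 q12636 L178739 q8371, e3 q12637 L178745 q8372, e3 q12638 (flp_f L178765)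 q12640, e3 q12639 (flp_f L209533) q16764, e3 q12640 L178765 q12638, e3 q12641 L209557 q16767, e3 q12642 (flp_f L178775) q8373, e3 q12643 L178795 q10550, e3 q12644 L179109 q12682, e3 q12645 L209587 q16770, e3 q12646 L178874 q12651, e3 q12647 (flp_f L178826) q8377, e3 q12648 (flp_f L209607) q16771, e3 q12649 (flp_f L178848) q10620, e3 q12650 (flp_f L178850) q8379, e3 q12651 (flp_f L178874) q12646, e3 q12652 (flp_f L178878) q8381, e3 q12653 (flp_f L209631) q16773, e3 q12654 L178904 q12654, e3 q12655 L178913 q8386, e3 q12656 (flp_f L178951) q12659, e3 q12657 L209671 q16777, e3 q12658 (flp_f L179213) q12697, e3 q12659 L178951 q12656, e3 q12660 (flp_f L178955) q8387, e3 q12661 L180297 q12834, e3 q12662 (flp_f L190271) q14155, e3 q12663 L209689 q16779, e3 q12664 L178989 q10257, e3 q12665 L178999 q12623, e3 q12666 (flp_f L209181) q16722, e3 q12667 (flp_f L209157) q16720, e3 q12668 (flp_f L179011) q8392, e3 q12669 (flp_f L193545) q14637, e3 q12670 L209737 q16786, e3 q12671 (flp_f L179033) q8394, trivial⟩ (by decide +kernel)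

theorem ce_f_198 : ∀ r, r < 64 → sm gf (Qf (12672 + r)) = Qf (tab Gen.f (12672 + r)) :=
  edges_tab (sm gf) Qf (tab Gen.f) 12672 [(12672, 12725), (12673, 8395), (12674, 12688), (12675, 16791), (12676, 8398), (12677, 8400), (12678, 13931), (12679, 16768), (12680, 16795), (12681, 8401), (12682, 12644), (12683, 16797), (12684, 8402), (12685, 16799), (12686, 16800), (12687, 8404), (12688, 12674), (12689, 16562), (12690, 8411), (12691, 16804), (12692, 8408), (12693, 16806), (12694, 8409), (12695, 13058), (12696, 12840), (12697, 12658), (12698, 8412), (12699, 8432), (12700, 12633), (12701, 8433), (12702, 12731), (12703, 8421), (12704, 8423), (12705, 12713), (12706, 16629), (12707, 8419), (12708, 14847), (12709, 16821), (12710, 8420), (12711, 10567), (12712, 16814), (12713, 12705), (12714, 16815), (12715, 16816), (12716, 16827), (12717, 8424), (12718, 12323), (12719, 15862), (12720, 16832), (12721, 16834), (12722, 8427), (12723, 10463), (12724, 8428), (12725, 12672), (12726, 16809), (12727, 16810), (12728, 16811), (12729,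 16842), (12730, 14820), (12731, 12702), (12732, 8434), (12733, 13262), (12734, 12579), (12735, 8453)]
    ⟨e3 q12672 L179411 q12725, e3 q12673 (flp_f L179047) q8395, e3 q12674 L179153 q12688, e3 q12675 L209773 q16791, e3 q12676 (flp_f L179065) q8398, e3 q12677 L179075 q8400, e3 q12678 (flp_f L188569) q13931, e3 q12679 (flp_f L209573) q16768, e3 q12680 L209803 q16795, e3 q12681 (flp_f L179093) q8401, e3 q12682 (flp_f L179109) q12644, e3 q12683 L209821 q16797, e3 q12684 (flp_f L179119) q8402, e3 q12685 L209839 q16799, e3 q12686 L209843 q16800, e3 q12687 (flp_f L179139) q8404, e3 q12688 (flp_f L179153) q12674, e3 q12689 L207750 q16562, e3 q12690 L179169 q8411, e3 q12691 L209885 q16804, e3 q12692 (flp_f L179177) q8408, e3 q12693 L209901 q16806, e3 q12694 (flp_f L179189) q8409, e3 q12695 (flp_f L181847) q13058, e3 q12696 L180361 q12840, e3 q12697 L179213 q12658, e3 q12698 (flp_f L179217) q8412, e3 q12699 L179227 q8432, e3 q12700 (flp_f L179235) q12633, e3 q12701 L179241 q8433, e3 q12702 (flp_f L179451) q12731, e3 q12703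 L179253 q8421, e3 q12704 L179259 q8423, e3 q12705 (flp_f L179325) q12713, e3 q12706 (flp_f L208323) q16629, e3 q12707 (flp_f L179273) q8419, e3 q12708 L195358 q14847, e3 q12709 L210005 q16821, e3 q12710 (flp_f L179291) q8420, e3 q12711 (flp_f L179305) q10567, e3 q12712 (flp_f L209957) q16814, e3 q12713 L179325 q12705, e3 q12714 (flp_f L209963) q16815, e3 q12715 (flp_f L209971) q16816, e3 q12716 L210055 q16827, e3 q12717 (flp_f L179343) q8424, e3 q12718 L179359 q12323, e3 q12719 (flp_f L202330) q15862, e3 q12720 L210101 q16832, e3 q12721 L210119 q16834, e3 q12722 (flp_f L179377) q8427, e3 q12723 (flp_f L179391) q10463, e3 q12724 (flp_f L179393) q8428, e3 q12725 (flp_f L179411) q12672, e3 q12726 (flp_f L209927) q16809, e3 q12727 (flp_f L209933) q16810, e3 q12728 (flp_f L209937) q16811, e3 q12729 L210173 q16842, e3 q12730 L195117 q14820, e3 q12731 L179451 q12702, e3 q12732 (flp_f L179453) q8434, e3 q12733 L183231 q13262, e3 q12734 L179479 q12579, e3 q12735 (flp_f L179473) q8453, trivial⟩ (by decide +kernel)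

theorem ce_f_199 : ∀ r, r < 64 → sm gf (Qf (12736 + r)) = Qf (tab Gen.f (12736 + r)) :=
  edges_tab (sm gf) Qf (tab Gen.f) 12736 [(12736, 12741), (12737, 13541), (12738, 8455), (12739, 8457), (12740, 8459), (12741, 12736), (12742, 8935), (12743, 8936), (12744, 13273), (12745, 8468), (12746, 8470), (12747, 12748), (12748, 12747), (12749, 13583), (12750, 8471), (12751, 16603), (12752, 10626), (12753, 8484), (12754, 10370), (12755, 8492), (12756, 14850), (12757, 16850), (12758, 8493), (12759, 8496), (12760, 9554), (12761, 10393), (12762, 8938), (12763, 15811), (12764, 10317), (12765, 16673), (12766, 8506), (12767, 15963), (12768, 10353), (12769, 8511), (12770, 8512), (12771, 16856), (12772, 12364), (12773, 13930), (12774, 16745), (12775, 8514), (12776, 8515), (12777, 14892), (12778, 16860), (12779, 8519), (12780, 8520), (12781, 9766), (12782, 10719), (12783, 8523), (12784, 9913), (12785, 8526), (12786, 11823), (12787, 9055), (12788, 8566), (12789, 8567), (12790, 14188), (12791, 16864), (12792, 8549), (12793, 12478),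 (12794, 9667), (12795, 13974), (12796, 16867), (12797, 8540), (12798, 8541), (12799, 14849)]
    ⟨e3 q12736 L179529 q12741, e3 q12737 L185393 q13541, e3 q12738 (flp_f L179497) q8455, e3 q12739 (flp_f L179503) q8457, e3 q12740 (flp_f L179513) q8459, e3 q12741 (flp_f L179529) q12736, e3 q12742 L179533 q8935, e3 q12743 L179537 q8936, e3 q12744 (flp_f L183301) q13273, e3 q12745 L179553 q8468, e3 q12746 L179561 q8470, e3 q12747 (flp_f L179579) q12748, e3 q12748 L179579 q12747, e3 q12749 L185795 q13583, e3 q12750 (flp_f L179591) q8471, e3 q12751 L208104 q16603, e3 q12752 L179607 q10626, e3 q12753 (flp_f L179609) q8484, e3 q12754 (flp_f L179625) q10370, e3 q12755 L179629 q8492, e3 q12756 (flp_f L195388) q14850, e3 q12757 L210230 q16850, e3 q12758 (flp_f L179645) q8493, e3 q12759 (flp_f L179655) q8496, e3 q12760 (flp_f L179673) q9554, e3 q12761 (flp_f L179685) q10393, e3 q12762 L179693 q8938, e3 q12763 (flp_f L201958) q15811, e3 q12764 L179709 q10317, e3 q12765 (flp_f L208761) q16673, e3 q12766 L179719 q8506, e3 q12767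 L203113 q15963, e3 q12768 L179735 q10353, e3 q12769 L179747 q8511, e3 q12770 L179755 q8512, e3 q12771 (flp_f L210297) q16856, e3 q12772 (flp_f L179771) q12364, e3 q12773 (flp_f L188565) q13930, e3 q12774 (flp_f L209373) q16745, e3 q12775 (flp_f L179787) q8514, e3 q12776 (flp_f L179797) q8515, e3 q12777 (flp_f L195755) q14892, e3 q12778 L210329 q16860, e3 q12779 (flp_f L179823) q8519, e3 q12780 (flp_f L179833) q8520, e3 q12781 L179843 q9766, e3 q12782 (flp_f L179859) q10719, e3 q12783 (flp_f L179861) q8523, e3 q12784 (flp_f L179881) q9913, e3 q12785 (flp_f L179883) q8526, e3 q12786 L179899 q11823, e3 q12787 L179911 q9055, e3 q12788 L179919 q8566, e3 q12789 L179927 q8567, e3 q12790 L190557 q14188, e3 q12791 L210371 q16864, e3 q12792 L179947 q8549, e3 q12793 (flp_f L179955) q12478, e3 q12794 L179965 q9667, e3 q12795 (flp_f L188873) q13974, e3 q12796 L210395 q16867, e3 q12797 (flp_f L179983) q8540, e3 q12798 (flp_f L179993) q8541, e3 q12799 (flp_f L195376) q14849, trivial⟩ (by decide +kernel)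

theorem ce_f_200 : ∀ r, r < 64 → sm gf (Qf (12800 + r)) = Qf (tab Gen.f (12800 + r)) :=
  edges_tab (sm gf) Qf (tab Gen.f) 12800 [(12800, 10571), (12801, 8544), (12802, 10572), (12803, 10281), (12804, 16372), (12805, 15727), (12806, 9085), (12807, 12610), (12808, 12397), (12809, 14706), (12810, 9196), (12811, 15861), (12812, 10464), (12813, 8562), (12814, 8563), (12815, 16863), (12816, 16871), (12817, 9617), (12818, 9756), (12819, 9549), (12820, 13491), (12821, 13057), (12822, 8592), (12823, 8605), (12824, 8606), (12825, 12843), (12826, 16878), (12827, 12852), (12828, 16881), (12829, 8595), (12830, 16882), (12831, 12857), (12832, 10619), (12833, 8779), (12834, 12661), (12835, 8600), (12836, 8602), (12837, 8604), (12838, 16714), (12839, 10552), (12840, 12696), (12841, 16887), (12842, 16872), (12843, 12825), (12844, 16873), (12845, 16896), (12846, 8607), (12847, 16898), (12848, 16901), (12849, 8608), (12850, 16905), (12851, 8609), (12852, 12827), (12853, 12515), (12854, 16264), (12855, 8611), (12856, 16694), (12857,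 12831), (12858, 8775), (12859, 11302), (12860, 16911), (12861, 8616), (12862, 12956), (12863, 8617)]
    ⟨e3 q12800 (flp_f L180011) q10571, e3 q12801 (flp_f L180015) q8544, e3 q12802 (flp_f L180029) q10572, e3 q12803 L180039 q10281, e3 q12804 L206124 q16372, e3 q12805 L201410 q15727, e3 q12806 L180061 q9085, e3 q12807 L180071 q12610, e3 q12808 (flp_f L180087) q12397, e3 q12809 L194069 q14706, e3 q12810 (flp_f L180109) q9196, e3 q12811 (flp_f L202322) q15861, e3 q12812 L180121 q10464, e3 q12813 (flp_f L180123) q8562, e3 q12814 (flp_f L180131) q8563, e3 q12815 (flp_f L210367) q16863, e3 q12816 L210439 q16871, e3 q12817 L180161 q9617, e3 q12818 L180173 q9756, e3 q12819 L180185 q9549, e3 q12820 (flp_f L184955) q13491, e3 q12821 (flp_f L181837) q13057, e3 q12822 (flp_f L180209) q8592, e3 q12823 L180219 q8605, e3 q12824 L180225 q8606, e3 q12825 (flp_f L180379) q12843, e3 q12826 L210495 q16878, e3 q12827 L180427 q12852, e3 q12828 L210527 q16881, e3 q12829 (flp_f L180251) q8595, e3 q12830 (flp_f L210535) q16882, e3 q12831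 L180469 q12857, e3 q12832 (flp_f L180277) q10619, e3 q12833 L180283 q8779, e3 q12834 (flp_f L180297) q12661, e3 q12835 (flp_f L180299) q8600, e3 q12836 (flp_f L180311) q8602, e3 q12837 L180327 q8604, e3 q12838 (flp_f L209099) q16714, e3 q12839 L180345 q10552, e3 q12840 (flp_f L180361) q12696, e3 q12841 L210569 q16887, e3 q12842 (flp_f L210455) q16872, e3 q12843 L180379 q12825, e3 q12844 (flp_f L210467) q16873, e3 q12845 L210637 q16896, e3 q12846 (flp_f L180389) q8607, e3 q12847 L210657 q16898, e3 q12848 L210691 q16901, e3 q12849 (flp_f L180405) q8608, e3 q12850 L210725 q16905, e3 q12851 (flp_f L180417) q8609, e3 q12852 (flp_f L180427) q12827, e3 q12853 (flp_f L180437) q12515, e3 q12854 (flp_f L205189) q16264, e3 q12855 (flp_f L180447) q8611, e3 q12856 L208937 q16694, e3 q12857 (flp_f L180469) q12831, e3 q12858 L180479 q8775, e3 q12859 (flp_f L180489) q11302, e3 q12860 L210765 q16911, e3 q12861 (flp_f L180499) q8616, e3 q12862 (flp_f L181153) q12956, e3 q12863 (flp_f L180513) q8617, trivial⟩ (by decide +kernel)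

theorem ce_f_201 : ∀ r, r < 64 → sm gf (Qf (12864 + r)) = Qf (tab Gen.f (12864 + r)) :=
  edges_tab (sm gf) Qf (tab Gen.f) 12864 [(12864, 13019), (12865, 12521), (12866, 8624), (12867, 12891), (12868, 14305), (12869, 16914), (12870, 12878), (12871, 16916), (12872, 8628), (12873, 15346), (12874, 16920), (12875, 8629), (12876, 15215), (12877, 8630), (12878, 12870), (12879, 11301), (12880, 16925), (12881, 8632), (12882, 8634), (12883, 8635), (12884, 12887), (12885, 16930), (12886, 15529), (12887, 12884), (12888, 15528), (12889, 16934), (12890, 8636), (12891, 12867), (12892, 8640), (12893, 12977), (12894, 16939), (12895, 16941), (12896, 16942), (12897, 8644), (12898, 13078), (12899, 11270), (12900, 9176), (12901, 12561), (12902, 16949), (12903, 8649), (12904, 12326), (12905, 13098), (12906, 16926), (12907, 8654), (12908, 8658), (12909, 16760), (12910, 16761), (12911, 16762), (12912, 16958), (12913, 16853), (12914, 11033), (12915, 16963), (12916, 8664), (12917, 15865), (12918, 10687), (12919, 10718), (12920, 12564),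 (12921, 11300), (12922, 16969), (12923, 15449), (12924, 16972), (12925, 8671), (12926, 9963), (12927, 16975)]
    ⟨e3 q12864 (flp_f L181573) q13019, e3 q12865 (flp_f L180543) q12521, e3 q12866 (flp_f L180547) q8624, e3 q12867 (flp_f L180701) q12891, e3 q12868 (flp_f L191365) q14305, e3 q12869 L210793 q16914, e3 q12870 L180627 q12878, e3 q12871 L210807 q16916, e3 q12872 (flp_f L180587) q8628, e3 q12873 L198938 q15346, e3 q12874 L210825 q16920, e3 q12875 (flp_f L180601) q8629, e3 q12876 (flp_f L198035) q15215, e3 q12877 (flp_f L180617) q8630, e3 q12878 (flp_f L180627) q12870, e3 q12879 (flp_f L180633) q11301, e3 q12880 L210871 q16925, e3 q12881 (flp_f L180639) q8632, e3 q12882 L180649 q8634, e3 q12883 L180653 q8635, e3 q12884 (flp_f L180675) q12887, e3 q12885 L210897 q16930, e3 q12886 (flp_f L199973) q15529, e3 q12887 L180675 q12884, e3 q12888 (flp_f L199965) q15528, e3 q12889 L210923 q16934, e3 q12890 (flp_f L180689) q8636, e3 q12891 L180701 q12867, e3 q12892 (flp_f L180713) q8640, e3 q12893 (flp_f L181293) q12977,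 e3 q12894 L210953 q16939, e3 q12895 L210965 q16941, e3 q12896 L210973 q16942, e3 q12897 (flp_f L180739) q8644, e3 q12898 L181969 q13078, e3 q12899 L180751 q11270, e3 q12900 L180759 q9176, e3 q12901 (flp_f L180767) q12561, e3 q12902 L211031 q16949, e3 q12903 (flp_f L180773) q8649, e3 q12904 L180791 q12326, e3 q12905 L182117 q13098, e3 q12906 L210885 q16926, e3 q12907 (flp_f L180813) q8654, e3 q12908 (flp_f L180823) q8658, e3 q12909 (flp_f L209499) q16760, e3 q12910 (flp_f L209505) q16761, e3 q12911 (flp_f L209511) q16762, e3 q12912 L211089 q16958, e3 q12913 (flp_f L210269) q16853, e3 q12914 L180861 q11033, e3 q12915 L211129 q16963, e3 q12916 (flp_f L180871) q8664, e3 q12917 (flp_f L202356) q15865, e3 q12918 (flp_f L180893) q10687, e3 q12919 L180901 q10718, e3 q12920 L180911 q12564, e3 q12921 (flp_f L180925) q11300, e3 q12922 L211187 q16969, e3 q12923 (flp_f L199478) q15449, e3 q12924 L211206 q16972, e3 q12925 (flp_f L180941) q8671, e3 q12926 L180953 q9963, e3 q12927 L211224 q16975, trivial⟩ (by decide +kernel)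

theorem ce_f_202 : ∀ r, r < 64 → sm gf (Qf (12928 + r)) = Qf (tab Gen.f (12928 + r)) :=
  edges_tab (sm gf) Qf (tab Gen.f) 12928 [(12928, 8676), (12929, 16977), (12930, 16978), (12931, 16984), (12932, 16985), (12933, 8677), (12934, 16987), (12935, 14860), (12936, 16990), (12937, 8681), (12938, 8683), (12939, 16992), (12940, 16993), (12941, 16699), (12942, 10923), (12943, 17000), (12944, 17004), (12945, 17006), (12946, 17008), (12947, 8688), (12948, 17010), (12949, 8689), (12950, 16891), (12951, 16876), (12952, 12551), (12953, 17017), (12954, 8693), (12955, 12964), (12956, 12862), (12957, 17019), (12958, 8696), (12959, 12974), (12960, 14405), (12961, 14746), (12962, 8697), (12963, 17025), (12964, 12955), (12965, 17027), (12966, 8699), (12967, 12543), (12968, 14748), (12969, 8701), (12970, 13045), (12971, 13721), (12972, 8703), (12973, 17034), (12974, 12959), (12975, 17038), (12976, 8705), (12977, 12893), (12978, 17043), (12979, 17045), (12980, 17047), (12981, 8708), (12982, 11429), (12983, 17050), (12984, 8709),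 (12985, 17053), (12986, 8710), (12987, 17057), (12988, 8712), (12989, 13121), (12990, 17062), (12991, 8713)]
    ⟨e3 q12928 L180969 q8676, e3 q12929 (flp_f L211246) q16977, e3 q12930 (flp_f L211254) q16978, e3 q12931 L211286 q16984, e3 q12932 L211294 q16985, e3 q12933 (flp_f L180989) q8677, e3 q12934 L211314 q16987, e3 q12935 (flp_f L195470) q14860, e3 q12936 L211340 q16990, e3 q12937 (flp_f L181011) q8681, e3 q12938 L181027 q8683, e3 q12939 (flp_f L211366) q16992, e3 q12940 (flp_f L211374) q16993, e3 q12941 L208979 q16699, e3 q12942 L181049 q10923, e3 q12943 L211419 q17000, e3 q12944 L211455 q17004, e3 q12945 L211467 q17006, e3 q12946 L211481 q17008, e3 q12947 (flp_f L181077) q8688, e3 q12948 L211495 q17010, e3 q12949 (flp_f L181093) q8689, e3 q12950 (flp_f L210607) q16891, e3 q12951 (flp_f L210489) q16876, e3 q12952 L181121 q12551, e3 q12953 L211573 q17017, e3 q12954 (flp_f L181129) q8693, e3 q12955 L181199 q12964, e3 q12956 L181153 q12862, e3 q12957 L211595 q17019, e3 q12958 (flp_f L181163) q8696, e3 q12959 L181267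 q12974, e3 q12960 (flp_f L192061) q14405, e3 q12961 (flp_f L194422) q14746, e3 q12962 (flp_f L181185) q8697, e3 q12963 L211635 q17025, e3 q12964 (flp_f L181199) q12955, e3 q12965 L211651 q17027, e3 q12966 (flp_f L181205) q8699, e3 q12967 L181221 q12543, e3 q12968 L194444 q14748, e3 q12969 (flp_f L181235) q8701, e3 q12970 L181763 q13045, e3 q12971 (flp_f L187023) q13721, e3 q12972 (flp_f L181255) q8703, e3 q12973 L211709 q17034, e3 q12974 (flp_f L181267) q12959, e3 q12975 L211739 q17038, e3 q12976 (flp_f L181275) q8705, e3 q12977 L181293 q12893, e3 q12978 L211761 q17043, e3 q12979 L211771 q17045, e3 q12980 L211787 q17047, e3 q12981 (flp_f L181309) q8708, e3 q12982 (flp_f L181321) q11429, e3 q12983 L211813 q17050, e3 q12984 (flp_f L181333) q8709, e3 q12985 L211831 q17053, e3 q12986 (flp_f L181345) q8710, e3 q12987 L211857 q17057, e3 q12988 (flp_f L181359) q8712, e3 q12989 L182291 q13121, e3 q12990 L211905 q17062, e3 q12991 (flp_f L181379) q8713, trivial⟩ (by decide +kernel)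

theorem ce_f_203 : ∀ r, r < 64 → sm gf (Qf (12992 + r)) = Qf (tab Gen.f (12992 + r)) :=
  edges_tab (sm gf) Qf (tab Gen.f) 12992 [(12992, 17063), (12993, 17068), (12994, 13132), (12995, 17072), (12996, 8716), (12997, 8718), (12998, 17074), (12999, 17075), (13000, 17082), (13001, 12507), (13002, 17086), (13003, 8719), (13004, 14036), (13005, 9158), (13006, 8780), (13007, 8777), (13008, 8721), (13009, 17073), (13010, 8724), (13011, 8725), (13012, 13014), (13013, 17094), (13014, 13012), (13015, 17095), (13016, 16218), (13017, 8726), (13018, 8727), (13019, 12864), (13020, 14786), (13021, 8730), (13022, 12244), (13023, 12251), (13024, 16547), (13025, 13096), (13026, 8732), (13027, 16739), (13028, 8737), (13029, 17108), (13030, 8738), (13031, 13041), (13032, 11461), (13033, 17110), (13034, 8741), (13035, 13050), (13036, 15188), (13037, 17113), (13038, 8742), (13039, 17116), (13040, 16520), (13041, 13031), (13042, 8744), (13043, 8754), (13044, 8755), (13045, 12970), (13046, 17121), (13047, 8748), (13048, 17124), (13049,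 8753), (13050, 13035), (13051, 8750), (13052, 8751), (13053, 17122), (13054, 17125), (13055, 17126)]
    ⟨e3 q12992 (flp_f L211913) q17063, e3 q12993 L211939 q17068, e3 q12994 L182355 q13132, e3 q12995 L211977 q17072, e3 q12996 (flp_f L181411) q8716, e3 q12997 L181421 q8718, e3 q12998 (flp_f L211991) q17074, e3 q12999 (flp_f L211997) q17075, e3 q13000 L212037 q17082, e3 q13001 (flp_f L181443) q12507, e3 q13002 L212063 q17086, e3 q13003 (flp_f L181449) q8719, e3 q13004 (flp_f L189339) q14036, e3 q13005 L181467 q9158, e3 q13006 L181473 q8780, e3 q13007 (flp_f L181487) q8777, e3 q13008 (flp_f L181489) q8721, e3 q13009 (flp_f L211985) q17073, e3 q13010 L181507 q8724, e3 q13011 L181515 q8725, e3 q13012 (flp_f L181539) q13014, e3 q13013 (flp_f L212139) q17094, e3 q13014 L181539 q13012, e3 q13015 (flp_f L212147) q17095, e3 q13016 (flp_f L204823) q16218, e3 q13017 (flp_f L181551) q8726, e3 q13018 (flp_f L181559) q8727, e3 q13019 L181573 q12864, e3 q13020 (flp_f L194803) q14786, e3 q13021 (flp_f L181583) q8730, e3 q13022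 L181599 q12244, e3 q13023 L181605 q12251, e3 q13024 (flp_f L207640) q16547, e3 q13025 L182103 q13096, e3 q13026 (flp_f L181621) q8732, e3 q13027 L209315 q16739, e3 q13028 (flp_f L181637) q8737, e3 q13029 L212241 q17108, e3 q13030 (flp_f L181651) q8738, e3 q13031 L181725 q13041, e3 q13032 L181675 q11461, e3 q13033 L212263 q17110, e3 q13034 (flp_f L181685) q8741, e3 q13035 L181791 q13050, e3 q13036 (flp_f L197909) q15188, e3 q13037 L212285 q17113, e3 q13038 (flp_f L181707) q8742, e3 q13039 L212303 q17116, e3 q13040 (flp_f L207397) q16520, e3 q13041 (flp_f L181725) q13031, e3 q13042 (flp_f L181727) q8744, e3 q13043 L181741 q8754, e3 q13044 L181755 q8755, e3 q13045 (flp_f L181763) q12970, e3 q13046 L212347 q17121, e3 q13047 (flp_f L181773) q8748, e3 q13048 L212365 q17124, e3 q13049 L181785 q8753, e3 q13050 (flp_f L181791) q13035, e3 q13051 (flp_f L181793) q8750, e3 q13052 (flp_f L181803) q8751, e3 q13053 (flp_f L212357) q17122, e3 q13054 (flp_f L212377) q17125, e3 q13055 (flp_f L212385) q17126, trivial⟩ (by decide +kernel)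

theorem ce_f_204 : ∀ r, r < 64 → sm gf (Qf (13056 + r)) = Qf (tab Gen.f (13056 + r)) :=
  edges_tab (sm gf) Qf (tab Gen.f) 13056 [(13056, 17138), (13057, 12821), (13058, 12695), (13059, 17120), (13060, 16716), (13061, 8831), (13062, 9596), (13063, 8833), (13064, 8834), (13065, 13176), (13066, 17153), (13067, 10473), (13068, 8838), (13069, 8840), (13070, 13185), (13071, 17162), (13072, 17165), (13073, 17096), (13074, 8763), (13075, 16862), (13076, 17171), (13077, 8764), (13078, 12898), (13079, 17174), (13080, 12249), (13081, 13088), (13082, 11796), (13083, 8768), (13084, 16249), (13085, 8769), (13086, 17180), (13087, 8770), (13088, 13081), (13089, 8772), (13090, 13092), (13091, 8773), (13092, 13090), (13093, 16589), (13094, 17185), (13095, 8776), (13096, 13025), (13097, 12558), (13098, 12905), (13099, 11029), (13100, 8784), (13101, 10187), (13102, 8785), (13103, 13107), (13104, 16498), (13105, 16780), (13106, 14537), (13107, 13103), (13108, 8791), (13109, 17192), (13110, 16828), (13111, 13401), (13112, 17195), (13113,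 8794), (13114, 17196), (13115, 10210), (13116, 17200), (13117, 8796), (13118, 17202), (13119, 8797)]
    ⟨e3 q13056 L212451 q17138, e3 q13057 L181837 q12821, e3 q13058 L181847 q12695, e3 q13059 (flp_f L212345) q17120, e3 q13060 (flp_f L209123) q16716, e3 q13061 L181865 q8831, e3 q13062 (flp_f L181875) q9596, e3 q13063 L181881 q8833, e3 q13064 L181885 q8834, e3 q13065 (flp_f L182633) q13176, e3 q13066 L212565 q17153, e3 q13067 L181899 q10473, e3 q13068 L181909 q8838, e3 q13069 L181917 q8840, e3 q13070 (flp_f L182683) q13185, e3 q13071 L212635 q17162, e3 q13072 L212653 q17165, e3 q13073 (flp_f L212159) q17096, e3 q13074 (flp_f L181941) q8763, e3 q13075 (flp_f L210357) q16862, e3 q13076 L212691 q17171, e3 q13077 (flp_f L181957) q8764, e3 q13078 (flp_f L181969) q12898, e3 q13079 L212719 q17174, e3 q13080 L181981 q12249, e3 q13081 L182037 q13088, e3 q13082 (flp_f L181997) q11796, e3 q13083 (flp_f L181999) q8768, e3 q13084 L205083 q16249, e3 q13085 (flp_f L182013) q8769, e3 q13086 L212759 q17180, e3 q13087 (flp_f L182025)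 q8770, e3 q13088 (flp_f L182037) q13081, e3 q13089 (flp_f L182041) q8772, e3 q13090 L182071 q13092, e3 q13091 (flp_f L182059) q8773, e3 q13092 (flp_f L182071) q13090, e3 q13093 L207965 q16589, e3 q13094 L212795 q17185, e3 q13095 (flp_f L182089) q8776, e3 q13096 (flp_f L182103) q13025, e3 q13097 L182109 q12558, e3 q13098 (flp_f L182117) q12905, e3 q13099 (flp_f L182129) q11029, e3 q13100 (flp_f L182131) q8784, e3 q13101 (flp_f L182151) q10187, e3 q13102 (flp_f L182153) q8785, e3 q13103 L182205 q13107, e3 q13104 (flp_f L207207) q16498, e3 q13105 L209709 q16780, e3 q13106 (flp_f L192927) q14537, e3 q13107 (flp_f L182205) q13103, e3 q13108 (flp_f L182207) q8791, e3 q13109 L212847 q17192, e3 q13110 (flp_f L210067) q16828, e3 q13111 (flp_f L184300) q13401, e3 q13112 L212869 q17195, e3 q13113 (flp_f L182237) q8794, e3 q13114 (flp_f L212881) q17196, e3 q13115 (flp_f L182257) q10210, e3 q13116 L212911 q17200, e3 q13117 (flp_f L182265) q8796, e3 q13118 L212931 q17202, e3 q13119 (flp_f L182275) q8797, trivial⟩ (by decide +kernel)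

theorem ce_f_205 : ∀ r, r < 64 → sm gf (Qf (13120 + r)) = Qf (tab Gen.f (13120 + r)) :=
  edges_tab (sm gf) Qf (tab Gen.f) 13120 [(13120, 8799), (13121, 12989), (13122, 17205), (13123, 17206), (13124, 17213), (13125, 17215), (13126, 8801), (13127, 10478), (13128, 17221), (13129, 17222), (13130, 8803), (13131, 8809), (13132, 12994), (13133, 8807), (13134, 13136), (13135, 17228), (13136, 13134), (13137, 8808), (13138, 17225), (13139, 17223), (13140, 17234), (13141, 8812), (13142, 17236), (13143, 13227), (13144, 17239), (13145, 17243), (13146, 8813), (13147, 13152), (13148, 17249), (13149, 16735), (13150, 8814), (13151, 17252), (13152, 13147), (13153, 8816), (13154, 17256), (13155, 17258), (13156, 8818), (13157, 17261), (13158, 11067), (13159, 8821), (13160, 15777), (13161, 8822), (13162, 13166), (13163, 11707), (13164, 8825), (13165, 8826), (13166, 13162), (13167, 8828), (13168, 14816), (13169, 12032), (13170, 17144), (13171, 17145), (13172, 17273), (13173, 15784), (13174, 10480), (13175, 17149), (13176, 13065),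 (13177, 17150), (13178, 17280), (13179, 17283), (13180, 8835), (13181, 17286), (13182, 17288), (13183, 8836)]
    ⟨e3 q13120 L182283 q8799, e3 q13121 (flp_f L182291) q12989, e3 q13122 (flp_f L212955) q17205, e3 q13123 (flp_f L212959) q17206, e3 q13124 L212995 q17213, e3 q13125 L213013 q17215, e3 q13126 (flp_f L182313) q8801, e3 q13127 L182327 q10478, e3 q13128 L213055 q17221, e3 q13129 L213061 q17222, e3 q13130 (flp_f L182337) q8803, e3 q13131 L182345 q8809, e3 q13132 (flp_f L182355) q12994, e3 q13133 L182361 q8807, e3 q13134 (flp_f L182377) q13136, e3 q13135 L213099 q17228, e3 q13136 L182377 q13134, e3 q13137 (flp_f L182379) q8808, e3 q13138 (flp_f L213085) q17225, e3 q13139 (flp_f L213071) q17223, e3 q13140 L213143 q17234, e3 q13141 L182405 q8812, e3 q13142 L213157 q17236, e3 q13143 (flp_f L182948) q13227, e3 q13144 L213169 q17239, e3 q13145 L213191 q17243, e3 q13146 (flp_f L182429) q8813, e3 q13147 L182462 q13152, e3 q13148 L213227 q17249, e3 q13149 (flp_f L209282) q16735, e3 q13150 (flp_f L182449) q8814, e3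 q13151 L213241 q17252, e3 q13152 (flp_f L182462) q13147, e3 q13153 (flp_f L182464) q8816, e3 q13154 L213262 q17256, e3 q13155 L213272 q17258, e3 q13156 (flp_f L182478) q8818, e3 q13157 L213295 q17261, e3 q13158 (flp_f L182491) q11067, e3 q13159 (flp_f L182493) q8821, e3 q13160 L201710 q15777, e3 q13161 (flp_f L182515) q8822, e3 q13162 L182563 q13166, e3 q13163 L182537 q11707, e3 q13164 (flp_f L182543) q8825, e3 q13165 (flp_f L182551) q8826, e3 q13166 (flp_f L182563) q13162, e3 q13167 (flp_f L182565) q8828, e3 q13168 (flp_f L195069) q14816, e3 q13169 L182585 q12032, e3 q13170 (flp_f L212493) q17144, e3 q13171 (flp_f L212499) q17145, e3 q13172 L213385 q17273, e3 q13173 (flp_f L201750) q15784, e3 q13174 (flp_f L182619) q10480, e3 q13175 (flp_f L212527) q17149, e3 q13176 L182633 q13065, e3 q13177 (flp_f L212535) q17150, e3 q13178 L213445 q17280, e3 q13179 L213463 q17283, e3 q13180 (flp_f L182647) q8835, e3 q13181 L213479 q17286, e3 q13182 L213493 q17288, e3 q13183 (flp_f L182663) q8836, trivial⟩ (by decide +kernel)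

theorem ce_f_206 : ∀ r, r < 64 → sm gf (Qf (13184 + r)) = Qf (tab Gen.f (13184 + r)) :=
  edges_tab (sm gf) Qf (tab Gen.f) 13184 [(13184, 17156), (13185, 13070), (13186, 17295), (13187, 17157), (13188, 17089), (13189, 17300), (13190, 17302), (13191, 8841), (13192, 13196), (13193, 8842), (13194, 11347), (13195, 8844), (13196, 13192), (13197, 17307), (13198, 17309), (13199, 8846), (13200, 8854), (13201, 17312), (13202, 8856), (13203, 17315), (13204, 17319), (13205, 8850), (13206, 13211), (13207, 17325), (13208, 16947), (13209, 8851), (13210, 17328), (13211, 13206), (13212, 8853), (13213, 17332), (13214, 17334), (13215, 8855), (13216, 17337), (13217, 11246), (13218, 16331), (13219, 8859), (13220, 17230), (13221, 13241), (13222, 17342), (13223, 17345), (13224, 17348), (13225, 8863), (13226, 15286), (13227, 13143), (13228, 17352), (13229, 8865), (13230, 17355), (13231, 17358), (13232, 8866), (13233, 17362), (13234, 17364), (13235, 8867), (13236, 13251), (13237, 8871), (13238, 15125), (13239, 10154), (13240, 10409),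 (13241, 13221), (13242, 17370), (13243, 17373), (13244, 17376), (13245, 8877), (13246, 17378), (13247, 8883)]
    ⟨e3 q13184 (flp_f L212599) q17156, e3 q13185 L182683 q13070, e3 q13186 L213545 q17295, e3 q13187 (flp_f L212607) q17157, e3 q13188 (flp_f L212095) q17089, e3 q13189 L213575 q17300, e3 q13190 L213593 q17302, e3 q13191 (flp_f L182711) q8841, e3 q13192 L182763 q13196, e3 q13193 (flp_f L182729) q8842, e3 q13194 L182741 q11347, e3 q13195 (flp_f L182745) q8844, e3 q13196 (flp_f L182763) q13192, e3 q13197 L213629 q17307, e3 q13198 L213645 q17309, e3 q13199 (flp_f L182775) q8846, e3 q13200 L182787 q8854, e3 q13201 L213667 q17312, e3 q13202 L182799 q8856, e3 q13203 L213679 q17315, e3 q13204 L213701 q17319, e3 q13205 (flp_f L182811) q8850, e3 q13206 L182850 q13211, e3 q13207 L213737 q17325, e3 q13208 (flp_f L211017) q16947, e3 q13209 (flp_f L182835) q8851, e3 q13210 L213751 q17328, e3 q13211 (flp_f L182850) q13206, e3 q13212 (flp_f L182852) q8853, e3 q13213 L213772 q17332, e3 q13214 L213782 q17334, e3 q13215 (flp_f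 L182868) q8855, e3 q13216 L213801 q17337, e3 q13217 L182883 q11246, e3 q13218 (flp_f L205808) q16331, e3 q13219 (flp_f L182889) q8859, e3 q13220 (flp_f L213121) q17230, e3 q13221 (flp_f L183051) q13241, e3 q13222 L213845 q17342, e3 q13223 L213867 q17345, e3 q13224 L213893 q17348, e3 q13225 (flp_f L182932) q8863, e3 q13226 (flp_f L222842) q15286, e3 q13227 L182948 q13143, e3 q13228 L213931 q17352, e3 q13229 (flp_f L182958) q8865, e3 q13230 L213949 q17355, e3 q13231 L213978 q17358, e3 q13232 (flp_f L182973) q8866, e3 q13233 L214080 q17362, e3 q13234 L214088 q17364, e3 q13235 (flp_f L182991) q8867, e3 q13236 (flp_f L222755) q13251, e3 q13237 (flp_f L183012) q8871, e3 q13238 (flp_f L197509) q15125, e3 q13239 (flp_f L183038) q10154, e3 q13240 L183044 q10409, e3 q13241 L183051 q13221, e3 q13242 L214150 q17370, e3 q13243 L214172 q17373, e3 q13244 L214202 q17376, e3 q13245 (flp_f L183077) q8877, e3 q13246 L214230 q17378, e3 q13247 L183097 q8883, trivial⟩ (by decide +kernel)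

theorem ce_f_207 : ∀ r, r < 64 → sm gf (Qf (13248 + r)) = Qf (tab Gen.f (13248 + r)) :=
  edges_tab (sm gf) Qf (tab Gen.f) 13248 [(13248, 17380), (13249, 8879), (13250, 17383), (13251, 13236), (13252, 17388), (13253, 17389), (13254, 8881), (13255, 14696), (13256, 8908), (13257, 17390), (13258, 8918), (13259, 16743), (13260, 8919), (13261, 8920), (13262, 12733), (13263, 13384), (13264, 9173), (13265, 9167), (13266, 12591), (13267, 8926), (13268, 13476), (13269, 13529), (13270, 13838), (13271, 10413), (13272, 16846), (13273, 12744), (13274, 16740), (13275, 8937), (13276, 14896), (13277, 12582), (13278, 17397), (13279, 8940), (13280, 8942), (13281, 9116), (13282, 14024), (13283, 10193), (13284, 14547), (13285, 12238), (13286, 10485), (13287, 8956), (13288, 10530), (13289, 10424), (13290, 17399), (13291, 14028), (13292, 8964), (13293, 13295), (13294, 13305), (13295, 13293), (13296, 8966), (13297, 14795), (13298, 17403), (13299, 10460), (13300, 8982), (13301, 8969), (13302, 13339), (13303, 8970), (13304, 8971), (13305,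 13294), (13306, 8974), (13307, 16120), (13308, 14051), (13309, 13403), (13310, 8978), (13311, 17402)]
    ⟨e3 q13248 L214244 q17380, e3 q13249 (flp_f L183109) q8879, e3 q13250 L214268 q17383, e3 q13251 L222755 q13236, e3 q13252 L214401 q17388, e3 q13253 L214409 q17389, e3 q13254 (flp_f L183146) q8881, e3 q13255 L193979 q14696, e3 q13256 (flp_f L183175) q8908, e3 q13257 L214443 q17390, e3 q13258 L183195 q8918, e3 q13259 L209351 q16743, e3 q13260 (flp_f L183205) q8919, e3 q13261 (flp_f L183221) q8920, e3 q13262 (flp_f L183231) q12733, e3 q13263 L184163 q13384, e3 q13264 L183243 q9173, e3 q13265 L183255 q9167, e3 q13266 (flp_f L183265) q12591, e3 q13267 (flp_f L183267) q8926, e3 q13268 (flp_f L184856) q13476, e3 q13269 L185311 q13529, e3 q13270 (flp_f L187905) q13838, e3 q13271 L183287 q10413, e3 q13272 (flp_f L210202) q16846, e3 q13273 L183301 q12744, e3 q13274 (flp_f L209323) q16740, e3 q13275 (flp_f L183307) q8937, e3 q13276 (flp_f L195785) q14896, e3 q13277 L183325 q12582, e3 q13278 L214501 q17397, e3 q13279 (flp_f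 L183339) q8940, e3 q13280 (flp_f L183349) q8942, e3 q13281 L183357 q9116, e3 q13282 (flp_f L189231) q14024, e3 q13283 L183371 q10193, e3 q13284 L192993 q14547, e3 q13285 L183387 q12238, e3 q13286 (flp_f L183393) q10485, e3 q13287 (flp_f L183397) q8956, e3 q13288 L183443 q10530, e3 q13289 L183453 q10424, e3 q13290 L214519 q17399, e3 q13291 L189273 q14028, e3 q13292 (flp_f L183475) q8964, e3 q13293 L183503 q13295, e3 q13294 L183585 q13305, e3 q13295 (flp_f L183503) q13293, e3 q13296 (flp_f L183505) q8966, e3 q13297 (flp_f L194883) q14795, e3 q13298 L214555 q17403, e3 q13299 L183521 q10460, e3 q13300 (flp_f L183529) q8982, e3 q13301 (flp_f L183531) q8969, e3 q13302 (flp_f L183839) q13339, e3 q13303 (flp_f L183559) q8970, e3 q13304 (flp_f L183571) q8971, e3 q13305 (flp_f L183585) q13294, e3 q13306 (flp_f L183589) q8974, e3 q13307 (flp_f L204117) q16120, e3 q13308 L189453 q14051, e3 q13309 L184320 q13403, e3 q13310 (flp_f L183621) q8978, e3 q13311 L214553 q17402, trivial⟩ (by decide +kernel)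

theorem ce_f_208 : ∀ r, r < 64 → sm gf (Qf (13312 + r)) = Qf (tab Gen.f (13312 + r)) :=
  edges_tab (sm gf) Qf (tab Gen.f) 13312 [(13312, 14030), (13313, 10392), (13314, 8983), (13315, 13316), (13316, 13315), (13317, 8985), (13318, 8996), (13319, 8988), (13320, 8989), (13321, 13324), (13322, 16336), (13323, 17405), (13324, 13321), (13325, 17409), (13326, 8990), (13327, 12371), (13328, 9157), (13329, 17410), (13330, 8992), (13331, 12253), (13332, 9154), (13333, 13458), (13334, 16216), (13335, 16215), (13336, 9000), (13337, 9053), (13338, 11794), (13339, 13302), (13340, 17415), (13341, 12243), (13342, 11784), (13343, 16545), (13344, 10866), (13345, 9020), (13346, 16522), (13347, 12206), (13348, 10507), (13349, 15615), (13350, 9029), (13351, 9035), (13352, 9409), (13353, 9036), (13354, 9037), (13355, 13363), (13356, 14826), (13357, 9838), (13358, 17416), (13359, 12154), (13360, 14086), (13361, 9830), (13362, 16364), (13363, 13355), (13364, 17418), (13365, 9038), (13366, 14526), (13367, 14022), (13368, 9147), (13369,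 9148), (13370, 9600), (13371, 9829), (13372, 10475), (13373, 10425), (13374, 13380), (13375, 17424)]
    ⟨e3 q13312 L189299 q14030, e3 q13313 L183647 q10392, e3 q13314 (flp_f L183649) q8983, e3 q13315 L183675 q13316, e3 q13316 (flp_f L183675) q13315, e3 q13317 (flp_f L183677) q8985, e3 q13318 L183691 q8996, e3 q13319 L183695 q8988, e3 q13320 L183699 q8989, e3 q13321 (flp_f L183723) q13324, e3 q13322 L205842 q16336, e3 q13323 (flp_f L214581) q17405, e3 q13324 L183723 q13321, e3 q13325 L214611 q17409, e3 q13326 (flp_f L183731) q8990, e3 q13327 L183743 q12371, e3 q13328 (flp_f L183749) q9157, e3 q13329 L214623 q17410, e3 q13330 (flp_f L183757) q8992, e3 q13331 (flp_f L183769) q12253, e3 q13332 L183775 q9154, e3 q13333 (flp_f L184722) q13458, e3 q13334 (flp_f L204800) q16216, e3 q13335 (flp_f L204790) q16215, e3 q13336 L183809 q9000, e3 q13337 L183821 q9053, e3 q13338 (flp_f L183833) q11794, e3 q13339 L183839 q13302, e3 q13340 L214673 q17415, e3 q13341 L183853 q12243, e3 q13342 L183857 q11784, e3 q13343 L207626 q16545,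 e3 q13344 L183877 q10866, e3 q13345 (flp_f L183881) q9020, e3 q13346 (flp_f L207413) q16522, e3 q13347 L183905 q12206, e3 q13348 L183919 q10507, e3 q13349 (flp_f L200583) q15615, e3 q13350 (flp_f L183929) q9029, e3 q13351 L183939 q9035, e3 q13352 (flp_f L183951) q9409, e3 q13353 L183957 q9036, e3 q13354 L183963 q9037, e3 q13355 (flp_f L184021) q13363, e3 q13356 (flp_f L195161) q14826, e3 q13357 L183973 q9838, e3 q13358 (flp_f L214687) q17416, e3 q13359 L183987 q12154, e3 q13360 (flp_f L189719) q14086, e3 q13361 L184007 q9830, e3 q13362 (flp_f L206056) q16364, e3 q13363 L184021 q13355, e3 q13364 (flp_f L214707) q17418, e3 q13365 (flp_f L184033) q9038, e3 q13366 L192833 q14526, e3 q13367 L189219 q14022, e3 q13368 L184055 q9147, e3 q13369 L184061 q9148, e3 q13370 L184069 q9600, e3 q13371 L184077 q9829, e3 q13372 L184087 q10475, e3 q13373 (flp_f L184099) q10425, e3 q13374 L184139 q13380, e3 q13375 L214761 q17424, trivial⟩ (by decide +kernel)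

theorem ce_f_209 : ∀ r, r < 64 → sm gf (Qf (13376 + r)) = Qf (tab Gen.f (13376 + r)) :=
  edges_tab (sm gf) Qf (tab Gen.f) 13376 [(13376, 9051), (13377, 12137), (13378, 17412), (13379, 9052), (13380, 13374), (13381, 14867), (13382, 14863), (13383, 9056), (13384, 13263), (13385, 12317), (13386, 16373), (13387, 16466), (13388, 11847), (13389, 11730), (13390, 9078), (13391, 17432), (13392, 12609), (13393, 16275), (13394, 17395), (13395, 9084), (13396, 9738), (13397, 9371), (13398, 9582), (13399, 9087), (13400, 13776), (13401, 13111), (13402, 9096), (13403, 13309), (13404, 10179), (13405, 11822), (13406, 9100), (13407, 17439), (13408, 12203), (13409, 9805), (13410, 10482), (13411, 14059), (13412, 9113), (13413, 9104), (13414, 9112), (13415, 13421), (13416, 17442), (13417, 9109), (13418, 17400), (13419, 10373), (13420, 13485), (13421, 13415), (13422, 17441), (13423, 9114), (13424, 14874), (13425, 16964), (13426, 10586), (13427, 17445), (13428, 9118), (13429, 17392), (13430, 16734), (13431, 16484), (13432, 17447), (13433,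 17450), (13434, 17393), (13435, 16751), (13436, 14990), (13437, 10795), (13438, 10796), (13439, 11464)]
    ⟨e3 q13376 (flp_f L184111) q9051, e3 q13377 (flp_f L184119) q12137, e3 q13378 (flp_f L214651) q17412, e3 q13379 (flp_f L184125) q9052, e3 q13380 (flp_f L184139) q13374, e3 q13381 L195532 q14867, e3 q13382 L195492 q14863, e3 q13383 (flp_f L184151) q9056, e3 q13384 (flp_f L184163) q13263, e3 q13385 L184169 q12317, e3 q13386 L206136 q16373, e3 q13387 (flp_f L206970) q16466, e3 q13388 (flp_f L184199) q11847, e3 q13389 (flp_f L184209) q11730, e3 q13390 (flp_f L184211) q9078, e3 q13391 L214854 q17432, e3 q13392 L184228 q12609, e3 q13393 L205291 q16275, e3 q13394 L214489 q17395, e3 q13395 (flp_f L184240) q9084, e3 q13396 L184250 q9738, e3 q13397 (flp_f L184260) q9371, e3 q13398 (flp_f L184272) q9582, e3 q13399 (flp_f L184276) q9087, e3 q13400 (flp_f L187441) q13776, e3 q13401 L184300 q13111, e3 q13402 L184310 q9096, e3 q13403 (flp_f L184320) q13309, e3 q13404 L184326 q10179, e3 q13405 (flp_f L184338) q11822, e3 q13406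 (flp_f L184352) q9100, e3 q13407 (flp_f L214924) q17439, e3 q13408 L184364 q12203, e3 q13409 L184370 q9805, e3 q13410 L184376 q10482, e3 q13411 (flp_f L189515) q14059, e3 q13412 L184390 q9113, e3 q13413 L184396 q9104, e3 q13414 L184400 q9112, e3 q13415 (flp_f L184448) q13421, e3 q13416 L214950 q17442, e3 q13417 (flp_f L184418) q9109, e3 q13418 (flp_f L214535) q17400, e3 q13419 L184436 q10373, e3 q13420 (flp_f L184916) q13485, e3 q13421 L184448 q13415, e3 q13422 (flp_f L214948) q17441, e3 q13423 (flp_f L184454) q9114, e3 q13424 L195586 q14874, e3 q13425 L211149 q16964, e3 q13426 (flp_f L184484) q10586, e3 q13427 L214986 q17445, e3 q13428 (flp_f L184496) q9118, e3 q13429 (flp_f L214459) q17392, e3 q13430 (flp_f L209277) q16734, e3 q13431 L207105 q16484, e3 q13432 L215010 q17447, e3 q13433 L215032 q17450, e3 q13434 L214469 q17393, e3 q13435 (flp_f L209417) q16751, e3 q13436 L196596 q14990, e3 q13437 (flp_f L184539) q10795, e3 q13438 (flp_f L184547) q10796, e3 q13439 L184557 q11464, trivial⟩ (by decide +kernel)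

theorem ce_f_210 : ∀ r, r < 64 → sm gf (Qf (13440 + r)) = Qf (tab Gen.f (13440 + r)) :=
  edges_tab (sm gf) Qf (tab Gen.f) 13440 [(13440, 9130), (13441, 11773), (13442, 9132), (13443, 17458), (13444, 13444), (13445, 14019), (13446, 12033), (13447, 12034), (13448, 16427), (13449, 9140), (13450, 9146), (13451, 9369), (13452, 9576), (13453, 17146), (13454, 17462), (13455, 9149), (13456, 15793), (13457, 9151), (13458, 13333), (13459, 17088), (13460, 17407), (13461, 14791), (13462, 14790), (13463, 9156), (13464, 17411), (13465, 17084), (13466, 13475), (13467, 9159), (13468, 9163), (13469, 16564), (13470, 12316), (13471, 14765), (13472, 14866), (13473, 9166), (13474, 16946), (13475, 13466), (13476, 13268), (13477, 17469), (13478, 9170), (13479, 16505), (13480, 9172), (13481, 16407), (13482, 16945), (13483, 16384), (13484, 11940), (13485, 13420), (13486, 13486), (13487, 17477), (13488, 17478), (13489, 9179), (13490, 9180), (13491, 12820), (13492, 9528), (13493, 13501), (13494, 10683), (13495, 9191), (13496, 9192), (13497,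 9194), (13498, 9730), (13499, 9540), (13500, 9460), (13501, 13493), (13502, 10705), (13503, 17480)]
    ⟨e3 q13440 (flp_f L184561) q9130, e3 q13441 (flp_f L184579) q11773, e3 q13442 (flp_f L184581) q9132, e3 q13443 L215104 q17458, e3 q13444 L184599 q13444, e3 q13445 L189191 q14019, e3 q13446 L184612 q12033, e3 q13447 L184620 q12034, e3 q13448 (flp_f L206583) q16427, e3 q13449 (flp_f L184630) q9140, e3 q13450 L184646 q9146, e3 q13451 (flp_f L184660) q9369, e3 q13452 L184668 q9576, e3 q13453 L212507 q17146, e3 q13454 L215137 q17462, e3 q13455 (flp_f L184688) q9149, e3 q13456 (flp_f L201830) q15793, e3 q13457 (flp_f L184706) q9151, e3 q13458 L184722 q13333, e3 q13459 (flp_f L212085) q17088, e3 q13460 (flp_f L214595) q17407, e3 q13461 (flp_f L194841) q14791, e3 q13462 (flp_f L194831) q14790, e3 q13463 (flp_f L184754) q9156, e3 q13464 (flp_f L214641) q17411, e3 q13465 L212059 q17084, e3 q13466 L184848 q13475, e3 q13467 (flp_f L184780) q9159, e3 q13468 L184790 q9163, e3 q13469 L207766 q16564, e3 q13470 L184806 q12316,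 e3 q13471 L194597 q14765, e3 q13472 L195520 q14866, e3 q13473 (flp_f L184830) q9166, e3 q13474 (flp_f L211013) q16946, e3 q13475 (flp_f L184848) q13466, e3 q13476 L184856 q13268, e3 q13477 L215213 q17469, e3 q13478 (flp_f L184870) q9170, e3 q13479 (flp_f L207275) q16505, e3 q13480 (flp_f L184888) q9172, e3 q13481 (flp_f L206414) q16407, e3 q13482 (flp_f L211003) q16945, e3 q13483 L206222 q16384, e3 q13484 (flp_f L184908) q11940, e3 q13485 L184916 q13420, e3 q13486 L184922 q13486, e3 q13487 L215291 q17477, e3 q13488 L215299 q17478, e3 q13489 (flp_f L184931) q9179, e3 q13490 (flp_f L184941) q9180, e3 q13491 L184955 q12820, e3 q13492 L184969 q9528, e3 q13493 L185075 q13501, e3 q13494 L184993 q10683, e3 q13495 (flp_f L184997) q9191, e3 q13496 (flp_f L185005) q9192, e3 q13497 (flp_f L185019) q9194, e3 q13498 L185035 q9730, e3 q13499 (flp_f L185049) q9540, e3 q13500 L185063 q9460, e3 q13501 (flp_f L185075) q13493, e3 q13502 L185083 q10705, e3 q13503 L215323 q17480, trivial⟩ (by decide +kernel)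

theorem ce_f_211 : ∀ r, r < 64 → sm gf (Qf (13504 + r)) = Qf (tab Gen.f (13504 + r)) :=
  edges_tab (sm gf) Qf (tab Gen.f) 13504 [(13504, 9205), (13505, 9206), (13506, 17482), (13507, 14911), (13508, 14948), (13509, 15006), (13510, 9293), (13511, 16223), (13512, 15008), (13513, 9212), (13514, 16715), (13515, 9214), (13516, 12574), (13517, 9282), (13518, 12535), (13519, 9220), (13520, 14910), (13521, 9426), (13522, 9227), (13523, 9714), (13524, 9237), (13525, 9236), (13526, 9294), (13527, 14005), (13528, 10742), (13529, 13269), (13530, 17492), (13531, 9242), (13532, 14981), (13533, 16664), (13534, 16663), (13535, 16665), (13536, 16642), (13537, 14884), (13538, 12547), (13539, 9250), (13540, 13543), (13541, 12737), (13542, 9253), (13543, 13540), (13544, 14960), (13545, 14906), (13546, 13594), (13547, 13553), (13548, 9261), (13549, 14923), (13550, 9338), (13551, 9263), (13552, 10820), (13553, 13547), (13554, 13582), (13555, 9271), (13556, 9277), (13557, 13588), (13558, 17486), (13559, 9283), (13560, 9296), (13561,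 9288), (13562, 10740), (13563, 9291), (13564, 9304), (13565, 13572), (13566, 10846), (13567, 14964)]
    ⟨e3 q13504 (flp_f L185095) q9205, e3 q13505 (flp_f L185109) q9206, e3 q13506 (flp_f L215339) q17482, e3 q13507 (flp_f L195912) q14911, e3 q13508 (flp_f L196220) q14948, e3 q13509 (flp_f L196733) q15006, e3 q13510 (flp_f L185139) q9293, e3 q13511 (flp_f L204857) q16223, e3 q13512 (flp_f L196747) q15008, e3 q13513 (flp_f L185151) q9212, e3 q13514 (flp_f L209113) q16715, e3 q13515 (flp_f L185165) q9214, e3 q13516 L185181 q12574, e3 q13517 L185189 q9282, e3 q13518 (flp_f L185203) q12535, e3 q13519 (flp_f L185205) q9220, e3 q13520 (flp_f L195904) q14910, e3 q13521 L185225 q9426, e3 q13522 (flp_f L185229) q9227, e3 q13523 L185249 q9714, e3 q13524 L185263 q9237, e3 q13525 (flp_f L185267) q9236, e3 q13526 L185285 q9294, e3 q13527 (flp_f L189109) q14005, e3 q13528 (flp_f L185303) q10742, e3 q13529 (flp_f L185311) q13269, e3 q13530 L215433 q17492, e3 q13531 (flp_f L185321) q9242, e3 q13532 L196538 q14981, e3 q13533 (flp_f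 L208676) q16664, e3 q13534 (flp_f L208664) q16663, e3 q13535 (flp_f L208690) q16665, e3 q13536 (flp_f L208451) q16642, e3 q13537 (flp_f L195695) q14884, e3 q13538 L185365 q12547, e3 q13539 (flp_f L185367) q9250, e3 q13540 L185415 q13543, e3 q13541 (flp_f L185393) q12737, e3 q13542 (flp_f L185397) q9253, e3 q13543 (flp_f L185415) q13540, e3 q13544 (flp_f L196335) q14960, e3 q13545 (flp_f L195872) q14906, e3 q13546 (flp_f L185911) q13594, e3 q13547 L185489 q13553, e3 q13548 (flp_f L185439) q9261, e3 q13549 L196039 q14923, e3 q13550 (flp_f L185453) q9338, e3 q13551 (flp_f L185455) q9263, e3 q13552 L185473 q10820, e3 q13553 (flp_f L185489) q13547, e3 q13554 L185783 q13582, e3 q13555 (flp_f L185505) q9271, e3 q13556 (flp_f L185517) q9277, e3 q13557 L185847 q13588, e3 q13558 (flp_f L215377) q17486, e3 q13559 (flp_f L185539) q9283, e3 q13560 L185555 q9296, e3 q13561 (flp_f L185559) q9288, e3 q13562 L185573 q10740, e3 q13563 (flp_f L185577) q9291, e3 q13564 L185589 q9304, e3 q13565 (flp_f L185687) q13572, e3 q13566 L185615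 q10846, e3 q13567 (flp_f L196371) q14964, trivial⟩ (by decide +kernel)

theorem ce_f_212 : ∀ r, r < 64 → sm gf (Qf (13568 + r)) = Qf (tab Gen.f (13568 + r)) :=
  edges_tab (sm gf) Qf (tab Gen.f) 13568 [(13568, 9300), (13569, 10749), (13570, 9319), (13571, 9305), (13572, 13565), (13573, 13707), (13574, 10750), (13575, 12162), (13576, 13708), (13577, 9316), (13578, 9317), (13579, 9318), (13580, 10773), (13581, 14961), (13582, 13554), (13583, 12749), (13584, 14775), (13585, 10669), (13586, 9347), (13587, 9335), (13588, 13557), (13589, 10643), (13590, 9346), (13591, 11961), (13592, 10657), (13593, 12437), (13594, 13546), (13595, 17506), (13596, 9348), (13597, 17509), (13598, 17511), (13599, 9354), (13600, 13600), (13601, 13601), (13602, 17513), (13603, 9416), (13604, 9357), (13605, 16460), (13606, 13606), (13607, 17516), (13608, 9362), (13609, 17517), (13610, 9363), (13611, 13611), (13612, 9367), (13613, 13613), (13614, 17518), (13615, 9370), (13616, 17417), (13617, 17520), (13618, 13722), (13619, 17525), (13620, 9372),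 (13621, 17526), (13622, 13733), (13623, 17529), (13624, 9376), (13625, 9379), (13626, 9571), (13627, 15925), (13628, 13810), (13629, 13637), (13630, 17534), (13631, 9380)]
    ⟨e3 q13568 (flp_f L185641) q9300, e3 q13569 L185659 q10749, e3 q13570 L185669 q9319, e3 q13571 L185679 q9305, e3 q13572 L185687 q13565, e3 q13573 (flp_f L186903) q13707, e3 q13574 L185701 q10750, e3 q13575 (flp_f L185713) q12162, e3 q13576 (flp_f L186915) q13708, e3 q13577 L185723 q9316, e3 q13578 L185735 q9317, e3 q13579 L185749 q9318, e3 q13580 (flp_f L185759) q10773, e3 q13581 (flp_f L196343) q14961, e3 q13582 (flp_f L185783) q13554, e3 q13583 (flp_f L185795) q12749, e3 q13584 L194693 q14775, e3 q13585 (flp_f L185809) q10669, e3 q13586 L185821 q9347, e3 q13587 (flp_f L185831) q9335, e3 q13588 (flp_f L185847) q13557, e3 q13589 L185855 q10643, e3 q13590 L185869 q9346, e3 q13591 L185879 q11961, e3 q13592 L185891 q10657, e3 q13593 L185901 q12437, e3 q13594 L185911 q13546, e3 q13595 L215568 q17506, e3 q13596 (flp_f L185923) q9348, e3 q13597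 L215600 q17509, e3 q13598 L215621 q17511, e3 q13599 (flp_f L185949) q9354, e3 q13600 L185963 q13600, e3 q13601 L185970 q13601, e3 q13602 L215644 q17513, e3 q13603 (flp_f L185989) q9416, e3 q13604 (flp_f L185993) q9357, e3 q13605 (flp_f L206914) q16460, e3 q13606 L186024 q13606, e3 q13607 L215665 q17516, e3 q13608 (flp_f L186034) q9362, e3 q13609 L215675 q17517, e3 q13610 (flp_f L186049) q9363, e3 q13611 L186057 q13611, e3 q13612 (flp_f L186064) q9367, e3 q13613 L186072 q13613, e3 q13614 L215687 q17518, e3 q13615 L186085 q9370, e3 q13616 L214699 q17417, e3 q13617 (flp_f L215703) q17520, e3 q13618 L187033 q13722, e3 q13619 L215739 q17525, e3 q13620 (flp_f L186125) q9372, e3 q13621 L215749 q17526, e3 q13622 L187109 q13733, e3 q13623 L215775 q17529, e3 q13624 (flp_f L186159) q9376, e3 q13625 L186173 q9379, e3 q13626 L186183 q9571, e3 q13627 (flp_f L202838) q15925, e3 q13628 L187689 q13810, e3 q13629 L186260 q13637, e3 q13630 L215817 q17534, e3 q13631 (flp_f L186216) q9380, trivial⟩ (by decide +kernel)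

theorem ce_f_213 : ∀ r, r < 64 → sm gf (Qf (13632 + r)) = Qf (tab Gen.f (13632 + r)) :=
  edges_tab (sm gf) Qf (tab Gen.f) 13632 [(13632, 9603), (13633, 17535), (13634, 9381), (13635, 17536), (13636, 9382), (13637, 13629), (13638, 9385), (13639, 9386), (13640, 13643), (13641, 10131), (13642, 14326), (13643, 13640), (13644, 16423), (13645, 17541), (13646, 9387), (13647, 9401), (13648, 13739), (13649, 9395), (13650, 17543), (13651, 11567), (13652, 13762), (13653, 17546), (13654, 9402), (13655, 13885), (13656, 17548), (13657, 9406), (13658, 9405), (13659, 17549), (13660, 9503), (13661, 17552), (13662, 9407), (13663, 10592), (13664, 9418), (13665, 13665), (13666, 15013), (13667, 13667), (13668, 15011), (13669, 13669), (13670, 15014), (13671, 12445), (13672, 13929), (13673, 16273), (13674, 9428), (13675, 9736), (13676, 12486), (13677, 13685), (13678, 12420), (13679, 9429), (13680, 9751), (13681, 14732), (13682, 9430), (13683, 9438), (13684, 9431), (13685, 13677), (13686, 9434), (13687, 9435), (13688, 13691), (13689,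 10381), (13690, 13699), (13691, 13688), (13692, 13698), (13693, 9452), (13694, 9436), (13695, 9441)]
    ⟨e3 q13632 (flp_f L186228) q9603, e3 q13633 L215823 q17535, e3 q13634 (flp_f L186236) q9381, e3 q13635 L215833 q17536, e3 q13636 (flp_f L186248) q9382, e3 q13637 (flp_f L186260) q13629, e3 q13638 L186268 q9385, e3 q13639 L186276 q9386, e3 q13640 (flp_f L186305) q13643, e3 q13641 L186287 q10131, e3 q13642 (flp_f L191505) q14326, e3 q13643 L186305 q13640, e3 q13644 (flp_f L206552) q16423, e3 q13645 L215879 q17541, e3 q13646 (flp_f L186321) q9387, e3 q13647 (flp_f L186337) q9401, e3 q13648 L187151 q13739, e3 q13649 (flp_f L186347) q9395, e3 q13650 (flp_f L215907) q17543, e3 q13651 (flp_f L186375) q11567, e3 q13652 (flp_f L187323) q13762, e3 q13653 L215922 q17546, e3 q13654 (flp_f L186390) q9402, e3 q13655 (flp_f L188235) q13885, e3 q13656 L215944 q17548, e3 q13657 L186415 q9406, e3 q13658 (flp_f L186417) q9405, e3 q13659 (flp_f L215960) q17549, e3 q13660 (flp_f L186442) q9503, e3 q13661 L215975 q17552, e3 q13662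 (flp_f L186451) q9407, e3 q13663 (flp_f L186465) q10592, e3 q13664 (flp_f L186469) q9418, e3 q13665 L186491 q13665, e3 q13666 (flp_f L196789) q15013, e3 q13667 L186507 q13667, e3 q13668 (flp_f L196769) q15011, e3 q13669 L186520 q13669, e3 q13670 (flp_f L196793) q15014, e3 q13671 L186537 q12445, e3 q13672 (flp_f L188557) q13929, e3 q13673 (flp_f L205277) q16273, e3 q13674 L186567 q9428, e3 q13675 L186581 q9736, e3 q13676 L186589 q12486, e3 q13677 L186672 q13685, e3 q13678 (flp_f L186607) q12420, e3 q13679 (flp_f L186609) q9429, e3 q13680 (flp_f L186629) q9751, e3 q13681 L194297 q14732, e3 q13682 (flp_f L186637) q9430, e3 q13683 L186651 q9438, e3 q13684 (flp_f L186653) q9431, e3 q13685 (flp_f L186672) q13677, e3 q13686 L186682 q9434, e3 q13687 L186690 q9435, e3 q13688 (flp_f L186728) q13691, e3 q13689 L186710 q10381, e3 q13690 L186809 q13699, e3 q13691 L186728 q13688, e3 q13692 (flp_f L186799) q13698, e3 q13693 (flp_f L186744) q9452, e3 q13694 (flp_f L186747) q9436, e3 q13695 (flp_f L186761) q9441, trivial⟩ (by decide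 +kernel)

theorem ce_f_214 : ∀ r, r < 64 → sm gf (Qf (13696 + r)) = Qf (tab Gen.f (13696 + r)) :=
  edges_tab (sm gf) Qf (tab Gen.f) 13696 [(13696, 9443), (13697, 10363), (13698, 13692), (13699, 13690), (13700, 9453), (13701, 10816), (13702, 9458), (13703, 9461), (13704, 10836), (13705, 14909), (13706, 10690), (13707, 13573), (13708, 13576), (13709, 13944), (13710, 9681), (13711, 9478), (13712, 9479), (13713, 10697), (13714, 9482), (13715, 9487), (13716, 9682), (13717, 9489), (13718, 9822), (13719, 9530), (13720, 15183), (13721, 12971), (13722, 13618), (13723, 9559), (13724, 9560), (13725, 10028), (13726, 9566), (13727, 13791), (13728, 13792), (13729, 17574), (13730, 14320), (13731, 16643), (13732, 9499), (13733, 13622), (13734, 13744), (13735, 17577), (13736, 9501), (13737, 17542), (13738, 17551), (13739, 13648), (13740, 17585), (13741, 17586), (13742, 9504), (13743, 9506), (13744, 13734), (13745, 13886), (13746, 17591), (13747, 9510), (13748, 13852), (13749, 13853), (13750, 17595), (13751, 17597), (13752, 9512),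 (13753, 9513), (13754, 10067), (13755, 10068), (13756, 10069), (13757, 14373), (13758, 17530), (13759, 9520)]
    ⟨e3 q13696 (flp_f L186771) q9443, e3 q13697 (flp_f L186789) q10363, e3 q13698 L186799 q13692, e3 q13699 (flp_f L186809) q13690, e3 q13700 (flp_f L186811) q9453, e3 q13701 L186829 q10816, e3 q13702 (flp_f L186833) q9458, e3 q13703 (flp_f L186847) q9461, e3 q13704 (flp_f L186869) q10836, e3 q13705 (flp_f L195896) q14909, e3 q13706 L186891 q10690, e3 q13707 L186903 q13573, e3 q13708 L186915 q13576, e3 q13709 (flp_f L188675) q13944, e3 q13710 L186927 q9681, e3 q13711 (flp_f L186933) q9478, e3 q13712 (flp_f L186941) q9479, e3 q13713 L186955 q10697, e3 q13714 (flp_f L186959) q9482, e3 q13715 L186971 q9487, e3 q13716 (flp_f L186981) q9682, e3 q13717 (flp_f L186983) q9489, e3 q13718 (flp_f L187003) q9822, e3 q13719 L187011 q9530, e3 q13720 L197871 q15183, e3 q13721 L187023 q12971, e3 q13722 (flp_f L187033) q13618, e3 q13723 L187039 q9559, e3 q13724 L187049 q9560, e3 q13725 L187059 q10028, e3 q13726 L187065 q9566,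 e3 q13727 (flp_f L187573) q13791, e3 q13728 (flp_f L187583) q13792, e3 q13729 L216143 q17574, e3 q13730 L191461 q14320, e3 q13731 (flp_f L208463) q16643, e3 q13732 (flp_f L187097) q9499, e3 q13733 (flp_f L187109) q13622, e3 q13734 L187191 q13744, e3 q13735 L216169 q17577, e3 q13736 (flp_f L187127) q9501, e3 q13737 (flp_f L215895) q17542, e3 q13738 L215973 q17551, e3 q13739 (flp_f L187151) q13648, e3 q13740 L216227 q17585, e3 q13741 L216231 q17586, e3 q13742 (flp_f L187165) q9504, e3 q13743 (flp_f L187175) q9506, e3 q13744 (flp_f L187191) q13734, e3 q13745 L188243 q13886, e3 q13746 L216273 q17591, e3 q13747 (flp_f L187211) q9510, e3 q13748 L187993 q13852, e3 q13749 L188003 q13853, e3 q13750 L216303 q17595, e3 q13751 L216315 q17597, e3 q13752 (flp_f L187251) q9512, e3 q13753 (flp_f L187255) q9513, e3 q13754 L187265 q10067, e3 q13755 L187271 q10068, e3 q13756 L187277 q10069, e3 q13757 (flp_f L191822) q14373, e3 q13758 L215791 q17530, e3 q13759 L187301 q9520, trivial⟩ (by decide +kernel)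

theorem ce_f_215 : ∀ r, r < 64 → sm gf (Qf (13760 + r)) = Qf (tab Gen.f (13760 + r)) :=
  edges_tab (sm gf) Qf (tab Gen.f) 13760 [(13760, 9522), (13761, 13767), (13762, 13652), (13763, 17610), (13764, 9519), (13765, 16454), (13766, 17604), (13767, 13761), (13768, 17616), (13769, 9523), (13770, 9529), (13771, 17553), (13772, 15033), (13773, 15148), (13774, 10088), (13775, 13872), (13776, 13400), (13777, 9614), (13778, 14395), (13779, 9542), (13780, 15322), (13781, 9543), (13782, 9552), (13783, 10220), (13784, 9578), (13785, 9550), (13786, 17623), (13787, 17627), (13788, 9556), (13789, 13839), (13790, 17565), (13791, 13727), (13792, 13728), (13793, 17633), (13794, 17635), (13795, 15670), (13796, 9562), (13797, 9563), (13798, 17639), (13799, 9564), (13800, 17568), (13801, 17643), (13802, 17645), (13803, 9567), (13804, 9568), (13805, 16059), (13806, 16062), (13807, 16063), (13808, 17655), (13809, 17531), (13810, 13628), (13811, 17661), (13812, 13834), (13813, 14399), (13814, 17667), (13815, 9573), (13816, 15599), (13817,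 15242), (13818, 15246), (13819, 11047), (13820, 17673), (13821, 17675), (13822, 9580), (13823, 14584)]
    ⟨e3 q13760 L187305 q9522, e3 q13761 (flp_f L187361) q13767, e3 q13762 L187323 q13652, e3 q13763 L216401 q17610, e3 q13764 (flp_f L187331) q9519, e3 q13765 (flp_f L206851) q16454, e3 q13766 (flp_f L216361) q17604, e3 q13767 L187361 q13761, e3 q13768 L216445 q17616, e3 q13769 (flp_f L187371) q9523, e3 q13770 L187387 q9529, e3 q13771 L215999 q17553, e3 q13772 (flp_f L196933) q15033, e3 q13773 L197685 q15148, e3 q13774 L187421 q10088, e3 q13775 (flp_f L188121) q13872, e3 q13776 L187441 q13400, e3 q13777 (flp_f L187455) q9614, e3 q13778 (flp_f L191995) q14395, e3 q13779 L187469 q9542, e3 q13780 (flp_f L198781) q15322, e3 q13781 (flp_f L187481) q9543, e3 q13782 L187493 q9552, e3 q13783 L187503 q10220, e3 q13784 L187515 q9578, e3 q13785 (flp_f L187519) q9550, e3 q13786 (flp_f L216501) q17623, e3 q13787 L216527 q17627, e3 q13788 (flp_f L187543) q9556, e3 q13789 L187913 q13839, e3 q13790 (flp_f L216093) q17565, e3 q13791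 L187573 q13727, e3 q13792 L187583 q13728, e3 q13793 L216563 q17633, e3 q13794 L216581 q17635, e3 q13795 (flp_f L200962) q15670, e3 q13796 (flp_f L187599) q9562, e3 q13797 (flp_f L187605) q9563, e3 q13798 L216635 q17639, e3 q13799 (flp_f L187619) q9564, e3 q13800 (flp_f L216115) q17568, e3 q13801 L216659 q17643, e3 q13802 L216673 q17645, e3 q13803 (flp_f L187641) q9567, e3 q13804 (flp_f L187649) q9568, e3 q13805 (flp_f L203703) q16059, e3 q13806 (flp_f L203727) q16062, e3 q13807 (flp_f L203735) q16063, e3 q13808 L216725 q17655, e3 q13809 (flp_f L215801) q17531, e3 q13810 (flp_f L187689) q13628, e3 q13811 L216779 q17661, e3 q13812 L187878 q13834, e3 q13813 (flp_f L192023) q14399, e3 q13814 L216827 q17667, e3 q13815 (flp_f L187713) q9573, e3 q13816 (flp_f L200433) q15599, e3 q13817 L198208 q15242, e3 q13818 L198232 q15246, e3 q13819 (flp_f L187745) q11047, e3 q13820 L216879 q17673, e3 q13821 L216901 q17675, e3 q13822 (flp_f L187759) q9580, e3 q13823 L193207 q14584, trivial⟩ (by decide +kernel)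

theorem ce_f_216 : ∀ r, r < 64 → sm gf (Qf (13824 + r)) = Qf (tab Gen.f (13824 + r)) :=
  edges_tab (sm gf) Qf (tab Gen.f) 13824 [(13824, 9583), (13825, 17678), (13826, 17680), (13827, 17681), (13828, 9584), (13829, 11481), (13830, 17685), (13831, 17688), (13832, 9586), (13833, 9587), (13834, 13812), (13835, 17695), (13836, 17697), (13837, 9590), (13838, 13270), (13839, 13789), (13840, 17701), (13841, 9597), (13842, 9598), (13843, 17147), (13844, 17422), (13845, 17421), (13846, 17709), (13847, 14498), (13848, 10165), (13849, 17713), (13850, 9604), (13851, 10171), (13852, 13748), (13853, 13749), (13854, 17720), (13855, 17722), (13856, 17669), (13857, 9608), (13858, 17727), (13859, 9609), (13860, 17730), (13861, 9622), (13862, 9624), (13863, 9625), (13864, 13877), (13865, 12226), (13866, 11088), (13867, 17740), (13868, 9615), (13869, 15785), (13870, 17743), (13871, 9618), (13872, 13775), (13873, 9621), (13874, 17746), (13875, 17732), (13876, 17733), (13877, 13864), (13878, 11077), (13879, 17753), (13880, 17735),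 (13881, 17758), (13882, 17759), (13883, 9626), (13884, 13884), (13885, 13655), (13886, 13745), (13887, 17766)]
    ⟨e3 q13824 (flp_f L187787) q9583, e3 q13825 L216936 q17678, e3 q13826 L216956 q17680, e3 q13827 L216966 q17681, e3 q13828 (flp_f L187833) q9584, e3 q13829 L187847 q11481, e3 q13830 L216998 q17685, e3 q13831 L217012 q17688, e3 q13832 (flp_f L187861) q9586, e3 q13833 (flp_f L187865) q9587, e3 q13834 (flp_f L187878) q13812, e3 q13835 L217060 q17695, e3 q13836 L217078 q17697, e3 q13837 (flp_f L187891) q9590, e3 q13838 L187905 q13270, e3 q13839 (flp_f L187913) q13789, e3 q13840 L217116 q17701, e3 q13841 (flp_f L187923) q9597, e3 q13842 (flp_f L187933) q9598, e3 q13843 (flp_f L212515) q17147, e3 q13844 (flp_f L214745) q17422, e3 q13845 (flp_f L214735) q17421, e3 q13846 L217182 q17709, e3 q13847 (flp_f L192665) q14498, e3 q13848 L187971 q10165, e3 q13849 L217222 q17713, e3 q13850 (flp_f L187977) q9604, e3 q13851 L187985 q10171, e3 q13852 (flp_f L187993) q13748, e3 q13853 (flp_f L188003) q13749, e3 q13854 L217262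 q17720, e3 q13855 L217276 q17722, e3 q13856 (flp_f L216851) q17669, e3 q13857 (flp_f L188019) q9608, e3 q13858 L217318 q17727, e3 q13859 (flp_f L188029) q9609, e3 q13860 L217344 q17730, e3 q13861 L188047 q9622, e3 q13862 L188051 q9624, e3 q13863 L188055 q9625, e3 q13864 (flp_f L188185) q13877, e3 q13865 (flp_f L188069) q12226, e3 q13866 L188077 q11088, e3 q13867 L217430 q17740, e3 q13868 (flp_f L188083) q9615, e3 q13869 (flp_f L201756) q15785, e3 q13870 L217464 q17743, e3 q13871 (flp_f L188105) q9618, e3 q13872 L188121 q13775, e3 q13873 (flp_f L188133) q9621, e3 q13874 L217492 q17746, e3 q13875 (flp_f L217370) q17732, e3 q13876 (flp_f L217380) q17733, e3 q13877 L188185 q13864, e3 q13878 L188193 q11077, e3 q13879 L217554 q17753, e3 q13880 (flp_f L217396) q17735, e3 q13881 L217577 q17758, e3 q13882 L217587 q17759, e3 q13883 (flp_f L188218) q9626, e3 q13884 L188230 q13884, e3 q13885 L188235 q13655, e3 q13886 (flp_f L188243) q13745, e3 q13887 L217646 q17766, trivial⟩ (by decide +kernel)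

theorem ce_f_217 : ∀ r, r < 64 → sm gf (Qf (13888 + r)) = Qf (tab Gen.f (13888 + r)) :=
  edges_tab (sm gf) Qf (tab Gen.f) 13888 [(13888, 17769), (13889, 9629), (13890, 9891), (13891, 17774), (13892, 13907), (13893, 9630), (13894, 17777), (13895, 9632), (13896, 17780), (13897, 17782), (13898, 9634), (13899, 17785), (13900, 15821), (13901, 17776), (13902, 9636), (13903, 13908), (13904, 17792), (13905, 17770), (13906, 9637), (13907, 13892), (13908, 13903), (13909, 17796), (13910, 17798), (13911, 9641), (13912, 17801), (13913, 17803), (13914, 9643), (13915, 17806), (13916, 17809), (13917, 9644), (13918, 17813), (13919, 17815), (13920, 9645), (13921, 13925), (13922, 17818), (13923, 9649), (13924, 17821), (13925, 13921), (13926, 17826), (13927, 17827), (13928, 9651), (13929, 13672), (13930, 12773), (13931, 12678), (13932, 12481), (13933, 16865), (13934, 16772), (13935, 17830), (13936, 9673), (13937, 14711), (13938, 9842), (13939, 13957), (13940, 9679), (13941, 11952), (13942, 16300), (13943, 17831), (13944, 13709),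 (13945, 12169), (13946, 14182), (13947, 14180), (13948, 9684), (13949, 13976), (13950, 13975), (13951, 9685)]
    ⟨e3 q13888 L217668 q17769, e3 q13889 (flp_f L188255) q9629, e3 q13890 L188271 q9891, e3 q13891 L217704 q17774, e3 q13892 L188360 q13907, e3 q13893 (flp_f L188281) q9630, e3 q13894 L217722 q17777, e3 q13895 (flp_f L188290) q9632, e3 q13896 L217742 q17780, e3 q13897 L217750 q17782, e3 q13898 (flp_f L188308) q9634, e3 q13899 L217767 q17785, e3 q13900 (flp_f L202022) q15821, e3 q13901 L217720 q17776, e3 q13902 (flp_f L188321) q9636, e3 q13903 L188370 q13908, e3 q13904 L217819 q17792, e3 q13905 (flp_f L217682) q17770, e3 q13906 (flp_f L188349) q9637, e3 q13907 (flp_f L188360) q13892, e3 q13908 (flp_f L188370) q13903, e3 q13909 L217843 q17796, e3 q13910 L217851 q17798, e3 q13911 (flp_f L188380) q9641, e3 q13912 L217868 q17801, e3 q13913 L217884 q17803, e3 q13914 (flp_f L188393) q9643, e3 q13915 L217914 q17806, e3 q13916 L217944 q17809, e3 q13917 (flp_f L188418) q9644, e3 q13918 L217976 q17813, e3 q13919 L217984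 q17815, e3 q13920 (flp_f L188442) q9645, e3 q13921 L222848 q13925, e3 q13922 L218030 q17818, e3 q13923 (flp_f L188475) q9649, e3 q13924 L218060 q17821, e3 q13925 (flp_f L222848) q13921, e3 q13926 L218122 q17826, e3 q13927 L218130 q17827, e3 q13928 (flp_f L188524) q9651, e3 q13929 L188557 q13672, e3 q13930 L188565 q12773, e3 q13931 L188569 q12678, e3 q13932 L188579 q12481, e3 q13933 (flp_f L210385) q16865, e3 q13934 L209621 q16772, e3 q13935 L218184 q17830, e3 q13936 (flp_f L188603) q9673, e3 q13937 L194115 q14711, e3 q13938 (flp_f L188629) q9842, e3 q13939 L188755 q13957, e3 q13940 (flp_f L188639) q9679, e3 q13941 L188655 q11952, e3 q13942 (flp_f L205530) q16300, e3 q13943 L218196 q17831, e3 q13944 L188675 q13709, e3 q13945 (flp_f L188685) q12169, e3 q13946 L190505 q14182, e3 q13947 (flp_f L190503) q14180, e3 q13948 (flp_f L188695) q9684, e3 q13949 L188897 q13976, e3 q13950 L188885 q13975, e3 q13951 (flp_f L188709) q9685, trivial⟩ (by decide +kernel)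

theorem ce_f_218 : ∀ r, r < 64 → sm gf (Qf (13952 + r)) = Qf (tab Gen.f (13952 + r)) :=
  edges_tab (sm gf) Qf (tab Gen.f) 13952 [(13952, 17834), (13953, 16858), (13954, 13972), (13955, 9687), (13956, 9688), (13957, 13939), (13958, 14714), (13959, 10352), (13960, 12451), (13961, 10355), (13962, 9699), (13963, 9707), (13964, 16494), (13965, 16299), (13966, 9704), (13967, 16453), (13968, 14181), (13969, 17845), (13970, 14001), (13971, 14020), (13972, 13954), (13973, 17847), (13974, 12795), (13975, 13950), (13976, 13949), (13977, 9711), (13978, 12167), (13979, 10383), (13980, 17838), (13981, 9719), (13982, 12377), (13983, 9727), (13984, 17853), (13985, 12087), (13986, 14921), (13987, 14992), (13988, 16672), (13989, 10744), (13990, 10770), (13991, 16307), (13992, 14996), (13993, 17850), (13994, 9923), (13995, 16679), (13996, 17829), (13997, 9743), (13998, 17861), (13999, 17862), (14000, 9744), (14001, 13970), (14002, 17864), (14003, 9746), (14004, 9747), (14005, 13527), (14006, 12264), (14007, 12447), (14008, 17488),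 (14009, 9764), (14010, 9767), (14011, 17843), (14012, 17867), (14013, 14172), (14014, 14936), (14015, 17872)]
    ⟨e3 q13952 (flp_f L218230) q17834, e3 q13953 L210315 q16858, e3 q13954 (flp_f L188865) q13972, e3 q13955 (flp_f L188737) q9687, e3 q13956 (flp_f L188741) q9688, e3 q13957 (flp_f L188755) q13939, e3 q13958 (flp_f L194141) q14714, e3 q13959 L188765 q10352, e3 q13960 (flp_f L188775) q12451, e3 q13961 L188783 q10355, e3 q13962 (flp_f L188787) q9699, e3 q13963 L188801 q9707, e3 q13964 L207184 q16494, e3 q13965 (flp_f L205518) q16299, e3 q13966 (flp_f L188817) q9704, e3 q13967 (flp_f L206843) q16453, e3 q13968 L190475 q14181, e3 q13969 L218340 q17845, e3 q13970 L189079 q14001, e3 q13971 L189201 q14020, e3 q13972 L188865 q13954, e3 q13973 L218356 q17847, e3 q13974 L188873 q12795, e3 q13975 (flp_f L188885) q13950, e3 q13976 (flp_f L188897) q13949, e3 q13977 (flp_f L188901) q9711, e3 q13978 L188915 q12167, e3 q13979 L188923 q10383, e3 q13980 (flp_f L218268) q17838, e3 q13981 (flp_f L188931) q9719, e3 q13982 L188951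 q12377, e3 q13983 L188961 q9727, e3 q13984 L218416 q17853, e3 q13985 (flp_f L188979) q12087, e3 q13986 (flp_f L196007) q14921, e3 q13987 L196616 q14992, e3 q13988 L208751 q16672, e3 q13989 L189013 q10744, e3 q13990 L189023 q10770, e3 q13991 (flp_f L205592) q16307, e3 q13992 (flp_f L196647) q14996, e3 q13993 (flp_f L218396) q17850, e3 q13994 L189045 q9923, e3 q13995 L208817 q16679, e3 q13996 (flp_f L218180) q17829, e3 q13997 (flp_f L189053) q9743, e3 q13998 L218474 q17861, e3 q13999 L218486 q17862, e3 q14000 (flp_f L189061) q9744, e3 q14001 (flp_f L189079) q13970, e3 q14002 L218502 q17864, e3 q14003 (flp_f L189089) q9746, e3 q14004 (flp_f L189101) q9747, e3 q14005 L189109 q13527, e3 q14006 L189121 q12264, e3 q14007 L189131 q12447, e3 q14008 (flp_f L215399) q17488, e3 q14009 L189145 q9764, e3 q14010 L189151 q9767, e3 q14011 (flp_f L218322) q17843, e3 q14012 L218534 q17867, e3 q14013 L190402 q14172, e3 q14014 L196137 q14936, e3 q14015 L218572 q17872, trivial⟩ (by decide +kernel)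

theorem ce_f_219 : ∀ r, r < 64 → sm gf (Qf (14016 + r)) = Qf (tab Gen.f (14016 + r)) :=
  edges_tab (sm gf) Qf (tab Gen.f) 14016 [(14016, 9763), (14017, 17499), (14018, 17866), (14019, 13445), (14020, 13971), (14021, 16802), (14022, 13367), (14023, 14924), (14024, 13282), (14025, 10379), (14026, 9770), (14027, 12509), (14028, 13291), (14029, 9775), (14030, 13312), (14031, 10711), (14032, 17879), (14033, 9779), (14034, 12510), (14035, 16684), (14036, 13004), (14037, 16556), (14038, 16557), (14039, 12263), (14040, 16262), (14041, 9788), (14042, 14114), (14043, 9790), (14044, 14700), (14045, 14117), (14046, 14116), (14047, 9793), (14048, 9862), (14049, 10441), (14050, 14077), (14051, 13308), (14052, 17888), (14053, 9795), (14054, 9796), (14055, 9840), (14056, 14794), (14057, 9804), (14058, 17217), (14059, 13411), (14060, 16450), (14061, 14102), (14062, 9808), (14063, 14067), (14064, 9809), (14065, 17893), (14066, 9846), (14067, 14063), (14068, 9811), (14069, 14548), (14070, 9813), (14071, 10459), (14072, 10455), (14073,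 10203), (14074, 12219), (14075, 14782), (14076, 14546), (14077, 14050), (14078, 16298), (14079, 17901)]
    ⟨e3 q14016 (flp_f L189175) q9763, e3 q14017 (flp_f L215502) q17499, e3 q14018 (flp_f L218530) q17866, e3 q14019 (flp_f L189191) q13445, e3 q14020 (flp_f L189201) q13971, e3 q14021 (flp_f L209865) q16802, e3 q14022 (flp_f L189219) q13367, e3 q14023 (flp_f L196047) q14924, e3 q14024 L189231 q13282, e3 q14025 L189243 q10379, e3 q14026 (flp_f L189247) q9770, e3 q14027 L189263 q12509, e3 q14028 (flp_f L189273) q13291, e3 q14029 (flp_f L189279) q9775, e3 q14030 (flp_f L189299) q13312, e3 q14031 (flp_f L189307) q10711, e3 q14032 L218638 q17879, e3 q14033 (flp_f L189313) q9779, e3 q14034 L189327 q12510, e3 q14035 (flp_f L208863) q16684, e3 q14036 L189339 q13004, e3 q14037 (flp_f L207694) q16556, e3 q14038 (flp_f L207704) q16557, e3 q14039 L189361 q12263, e3 q14040 (flp_f L205167) q16262, e3 q14041 (flp_f L189371) q9788, e3 q14042 L189953 q14114, e3 q14043 (flp_f L189385) q9790, e3 q14044 (flp_f L194019) q14700, e3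 q14045 (flp_f L189983) q14117, e3 q14046 (flp_f L189977) q14116, e3 q14047 (flp_f L189409) q9793, e3 q14048 L189417 q9862, e3 q14049 L189429 q10441, e3 q14050 L189645 q14077, e3 q14051 (flp_f L189453) q13308, e3 q14052 L218728 q17888, e3 q14053 (flp_f L189463) q9795, e3 q14054 (flp_f L189475) q9796, e3 q14055 L189487 q9840, e3 q14056 (flp_f L194869) q14794, e3 q14057 (flp_f L189497) q9804, e3 q14058 (flp_f L213033) q17217, e3 q14059 L189515 q13411, e3 q14060 (flp_f L206815) q16450, e3 q14061 L189855 q14102, e3 q14062 (flp_f L189529) q9808, e3 q14063 L189565 q14067, e3 q14064 (flp_f L189549) q9809, e3 q14065 (flp_f L218790) q17893, e3 q14066 L189561 q9846, e3 q14067 (flp_f L189565) q14063, e3 q14068 (flp_f L189567) q9811, e3 q14069 (flp_f L193001) q14548, e3 q14070 (flp_f L189585) q9813, e3 q14071 L189597 q10459, e3 q14072 L189611 q10455, e3 q14073 L189619 q10203, e3 q14074 (flp_f L189627) q12219, e3 q14075 L194761 q14782, e3 q14076 L192985 q14546, e3 q14077 (flp_f L189645) q14050, e3 q14078 (flp_f L205510) q16298,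 e3 q14079 L218854 q17901, trivial⟩ (by decide +kernel)

theorem ce_f_220 : ∀ r, r < 64 → sm gf (Qf (14080 + r)) = Qf (tab Gen.f (14080 + r)) :=
  edges_tab (sm gf) Qf (tab Gen.f) 14080 [(14080, 9821), (14081, 9823), (14082, 12180), (14083, 14817), (14084, 16693), (14085, 10509), (14086, 13360), (14087, 9831), (14088, 14764), (14089, 14761), (14090, 10412), (14091, 17905), (14092, 9834), (14093, 12508), (14094, 17129), (14095, 17889), (14096, 9839), (14097, 12318), (14098, 14101), (14099, 9843), (14100, 11828), (14101, 14098), (14102, 14061), (14103, 9865), (14104, 9866), (14105, 9870), (14106, 9871), (14107, 10497), (14108, 14121), (14109, 16425), (14110, 14828), (14111, 17913), (14112, 9858), (14113, 16434), (14114, 14042), (14115, 9861), (14116, 14046), (14117, 14045), (14118, 17662), (14119, 9864), (14120, 17908), (14121, 14108), (14122, 12280), (14123, 17467), (14124, 17920), (14125, 9869), (14126, 17909), (14127, 17910), (14128, 9872), (14129, 14129), (14130, 14130), (14131, 16451), (14132, 12166), (14133,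 17924), (14134, 9878), (14135, 12131), (14136, 16301), (14137, 17926), (14138, 17928), (14139, 9885), (14140, 12220), (14141, 9886), (14142, 16718), (14143, 9888)]
    ⟨e3 q14080 (flp_f L189655) q9821, e3 q14081 (flp_f L189659) q9823, e3 q14082 L189673 q12180, e3 q14083 (flp_f L195079) q14817, e3 q14084 L208927 q16693, e3 q14085 L189703 q10509, e3 q14086 L189719 q13360, e3 q14087 (flp_f L189723) q9831, e3 q14088 (flp_f L194583) q14764, e3 q14089 (flp_f L194563) q14761, e3 q14090 L189753 q10412, e3 q14091 L218890 q17905, e3 q14092 (flp_f L189761) q9834, e3 q14093 L189771 q12508, e3 q14094 (flp_f L212399) q17129, e3 q14095 (flp_f L218746) q17889, e3 q14096 (flp_f L189795) q9839, e3 q14097 (flp_f L189807) q12318, e3 q14098 (flp_f L189841) q14101, e3 q14099 (flp_f L189821) q9843, e3 q14100 L189833 q11828, e3 q14101 L189841 q14098, e3 q14102 (flp_f L189855) q14061, e3 q14103 L189861 q9865, e3 q14104 L189873 q9866, e3 q14105 L189881 q9870, e3 q14106 L189893 q9871, e3 q14107 (flp_f L189903) q10497, e3 q14108 (flp_f L190017)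 q14121, e3 q14109 (flp_f L206565) q16425, e3 q14110 L195179 q14828, e3 q14111 L218972 q17913, e3 q14112 (flp_f L189933) q9858, e3 q14113 (flp_f L206643) q16434, e3 q14114 (flp_f L189953) q14042, e3 q14115 (flp_f L189959) q9861, e3 q14116 L189977 q14046, e3 q14117 L189983 q14045, e3 q14118 L216797 q17662, e3 q14119 (flp_f L189995) q9864, e3 q14120 (flp_f L218928) q17908, e3 q14121 L190017 q14108, e3 q14122 L190025 q12280, e3 q14123 L215199 q17467, e3 q14124 L219046 q17920, e3 q14125 (flp_f L190047) q9869, e3 q14126 (flp_f L218940) q17909, e3 q14127 (flp_f L218948) q17910, e3 q14128 (flp_f L190065) q9872, e3 q14129 L190075 q14129, e3 q14130 L190078 q14130, e3 q14131 (flp_f L206825) q16451, e3 q14132 (flp_f L190095) q12166, e3 q14133 L219072 q17924, e3 q14134 (flp_f L190101) q9878, e3 q14135 L190111 q12131, e3 q14136 (flp_f L205542) q16301, e3 q14137 L219106 q17926, e3 q14138 L219114 q17928, e3 q14139 (flp_f L190129) q9885, e3 q14140 L190145 q12220, e3 q14141 (flp_f L190149) q9886, e3 q14142 (flp_f L209135) q16718,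 e3 q14143 (flp_f L190166) q9888, trivial⟩ (by decide +kernel)

theorem ce_f_221 : ∀ r, r < 64 → sm gf (Qf (14144 + r)) = Qf (tab Gen.f (14144 + r)) :=
  edges_tab (sm gf) Qf (tab Gen.f) 14144 [(14144, 12051), (14145, 16328), (14146, 17836), (14147, 16725), (14148, 9892), (14149, 14152), (14150, 9893), (14151, 12546), (14152, 14149), (14153, 10303), (14154, 14158), (14155, 12662), (14156, 14703), (14157, 16352), (14158, 14154), (14159, 17934), (14160, 14184), (14161, 16455), (14162, 9905), (14163, 14926), (14164, 10461), (14165, 17937), (14166, 9906), (14167, 10458), (14168, 10206), (14169, 14710), (14170, 9909), (14171, 14989), (14172, 14013), (14173, 17941), (14174, 16805), (14175, 9914), (14176, 17942), (14177, 9917), (14178, 12117), (14179, 9920), (14180, 13947), (14181, 13968), (14182, 13946), (14183, 9922), (14184, 14160), (14185, 14810), (14186, 17856), (14187, 12393), (14188, 12790), (14189, 17949), (14190, 9925), (14191, 9926), (14192, 17950), (14193, 9928), (14194, 14194), (14195, 10848), (14196, 14503),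 (14197, 17955), (14198, 9932), (14199, 9960), (14200, 14222), (14201, 11137), (14202, 15363), (14203, 17962), (14204, 9937), (14205, 9939), (14206, 17964), (14207, 15638)]
    ⟨e3 q14144 L190180 q12051, e3 q14145 L205785 q16328, e3 q14146 (flp_f L218248) q17836, e3 q14147 L209209 q16725, e3 q14148 (flp_f L190202) q9892, e3 q14149 L190247 q14152, e3 q14150 (flp_f L190222) q9893, e3 q14151 (flp_f L190237) q12546, e3 q14152 (flp_f L190247) q14149, e3 q14153 L190257 q10303, e3 q14154 L190297 q14158, e3 q14155 L190271 q12662, e3 q14156 (flp_f L194047) q14703, e3 q14157 (flp_f L205945) q16352, e3 q14158 (flp_f L190297) q14154, e3 q14159 L219168 q17934, e3 q14160 (flp_f L190515) q14184, e3 q14161 L206859 q16455, e3 q14162 (flp_f L190315) q9905, e3 q14163 L196065 q14926, e3 q14164 (flp_f L190329) q10461, e3 q14165 L219198 q17937, e3 q14166 (flp_f L190339) q9906, e3 q14167 L190357 q10458, e3 q14168 L190369 q10206, e3 q14169 (flp_f L194101) q14710, e3 q14170 (flp_f L190379) q9909, e3 q14171 (flp_f L196584) q14989, e3 q14172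 (flp_f L190402) q14013, e3 q14173 L219246 q17941, e3 q14174 L209899 q16805, e3 q14175 (flp_f L190425) q9914, e3 q14176 L219258 q17942, e3 q14177 (flp_f L190439) q9917, e3 q14178 L190451 q12117, e3 q14179 (flp_f L190453) q9920, e3 q14180 L190503 q13947, e3 q14181 (flp_f L190475) q13968, e3 q14182 (flp_f L190505) q13946, e3 q14183 (flp_f L190495) q9922, e3 q14184 L190515 q14160, e3 q14185 (flp_f L195015) q14810, e3 q14186 (flp_f L218444) q17856, e3 q14187 L190543 q12393, e3 q14188 (flp_f L190557) q12790, e3 q14189 L219328 q17949, e3 q14190 (flp_f L190567) q9925, e3 q14191 (flp_f L190575) q9926, e3 q14192 L219336 q17950, e3 q14193 (flp_f L190590) q9928, e3 q14194 L190608 q14194, e3 q14195 L190613 q10848, e3 q14196 (flp_f L192697) q14503, e3 q14197 L219392 q17955, e3 q14198 (flp_f L190631) q9932, e3 q14199 L190641 q9960, e3 q14200 (flp_f L190797) q14222, e3 q14201 L190657 q11137, e3 q14202 (flp_f L199034) q15363, e3 q14203 L219442 q17962, e3 q14204 (flp_f L190675) q9937, e3 q14205 L190687 q9939, e3 q14206 (flp_f L219458)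 q17964, e3 q14207 (flp_f L200789) q15638, trivial⟩ (by decide +kernel)

theorem ce_f_222 : ∀ r, r < 64 → sm gf (Qf (14208 + r)) = Qf (tab Gen.f (14208 + r)) :=
  edges_tab (sm gf) Qf (tab Gen.f) 14208 [(14208, 15699), (14209, 9952), (14210, 14210), (14211, 14243), (14212, 14242), (14213, 14237), (14214, 9975), (14215, 17966), (14216, 9976), (14217, 17979), (14218, 9954), (14219, 17982), (14220, 9955), (14221, 14234), (14222, 14200), (14223, 17956), (14224, 17988), (14225, 17990), (14226, 9961), (14227, 17993), (14228, 9964), (14229, 17994), (14230, 9966), (14231, 17983), (14232, 9972), (14233, 18001), (14234, 14221), (14235, 18005), (14236, 17996), (14237, 14213), (14238, 18008), (14239, 17973), (14240, 17976), (14241, 9980), (14242, 14212), (14243, 14211), (14244, 14357), (14245, 18021), (14246, 9981), (14247, 18025), (14248, 11176), (14249, 9983), (14250, 10092), (14251, 10135), (14252, 10880), (14253, 14264), (14254, 18031), (14255, 9990), (14256, 11187), (14257, 18037), (14258, 18040), (14259, 9993), (14260,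 18042), (14261, 18043), (14262, 9995), (14263, 17977), (14264, 14253), (14265, 18050), (14266, 9998), (14267, 18054), (14268, 10875), (14269, 10000), (14270, 11009), (14271, 10003)]
    ⟨e3 q14208 L201229 q15699, e3 q14209 L190707 q9952, e3 q14210 L190716 q14210, e3 q14211 (flp_f L190933) q14243, e3 q14212 (flp_f L190925) q14242, e3 q14213 (flp_f L190883) q14237, e3 q14214 (flp_f L190744) q9975, e3 q14215 (flp_f L219472) q17966, e3 q14216 (flp_f L190756) q9976, e3 q14217 L219556 q17979, e3 q14218 (flp_f L190764) q9954, e3 q14219 L219574 q17982, e3 q14220 (flp_f L190777) q9955, e3 q14221 (flp_f L190863) q14234, e3 q14222 L190797 q14200, e3 q14223 (flp_f L219406) q17956, e3 q14224 L219616 q17988, e3 q14225 L219630 q17990, e3 q14226 (flp_f L190811) q9961, e3 q14227 L219666 q17993, e3 q14228 (flp_f L190825) q9964, e3 q14229 L219674 q17994, e3 q14230 (flp_f L190839) q9966, e3 q14231 (flp_f L219586) q17983, e3 q14232 (flp_f L190855) q9972, e3 q14233 L219712 q18001, e3 q14234 L190863 q14221, e3 q14235 L219738 q18005, e3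 q14236 L219692 q17996, e3 q14237 L190883 q14213, e3 q14238 (flp_f L219767) q18008, e3 q14239 L219524 q17973, e3 q14240 (flp_f L219538) q17976, e3 q14241 L190914 q9980, e3 q14242 L190925 q14212, e3 q14243 L190933 q14211, e3 q14244 (flp_f L191730) q14357, e3 q14245 L219832 q18021, e3 q14246 (flp_f L190943) q9981, e3 q14247 L219858 q18025, e3 q14248 (flp_f L190961) q11176, e3 q14249 (flp_f L190965) q9983, e3 q14250 L190985 q10092, e3 q14251 (flp_f L190999) q10135, e3 q14252 L191009 q10880, e3 q14253 L191081 q14264, e3 q14254 L219900 q18031, e3 q14255 (flp_f L191027) q9990, e3 q14256 L191037 q11187, e3 q14257 L219948 q18037, e3 q14258 L219968 q18040, e3 q14259 (flp_f L191047) q9993, e3 q14260 L219982 q18042, e3 q14261 L219986 q18043, e3 q14262 (flp_f L191063) q9995, e3 q14263 (flp_f L219544) q17977, e3 q14264 (flp_f L191081) q14253, e3 q14265 L220048 q18050, e3 q14266 (flp_f L191087) q9998, e3 q14267 L220074 q18054, e3 q14268 (flp_f L191105) q10875, e3 q14269 (flp_f L191109) q10000, e3 q14270 (flp_f L191133) q11009,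 e3 q14271 (flp_f L191135) q10003, trivial⟩ (by decide +kernel)

theorem ce_f_223 : ∀ r, r < 64 → sm gf (Qf (14272 + r)) = Qf (tab Gen.f (14272 + r)) :=
  edges_tab (sm gf) Qf (tab Gen.f) 14272 [(14272, 15044), (14273, 10010), (14274, 10012), (14275, 14279), (14276, 15323), (14277, 18066), (14278, 18057), (14279, 14275), (14280, 18058), (14281, 18059), (14282, 18074), (14283, 18076), (14284, 10013), (14285, 14643), (14286, 14295), (14287, 10025), (14288, 16893), (14289, 16892), (14290, 10017), (14291, 18087), (14292, 11419), (14293, 16601), (14294, 10019), (14295, 14286), (14296, 14301), (14297, 15088), (14298, 10947), (14299, 10023), (14300, 18079), (14301, 14296), (14302, 17972), (14303, 10126), (14304, 14653), (14305, 12868), (14306, 17566), (14307, 18098), (14308, 10093), (14309, 10136), (14310, 14446), (14311, 18104), (14312, 16675), (14313, 18109), (14314, 18110), (14315, 10033), (14316, 16854), (14317, 12466), (14318, 10034), (14319, 10035), (14320, 13730), (14321, 10893), (14322, 18115), (14323, 14338), (14324,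 18118), (14325, 10039), (14326, 13642), (14327, 16280), (14328, 11446), (14329, 16281), (14330, 10042), (14331, 11879), (14332, 18126), (14333, 10043), (14334, 18125), (14335, 18128)]
    ⟨e3 q14272 L197001 q15044, e3 q14273 L191163 q10010, e3 q14274 L191169 q10012, e3 q14275 (flp_f L191199) q14279, e3 q14276 (flp_f L198791) q15323, e3 q14277 L220164 q18066, e3 q14278 (flp_f L220100) q18057, e3 q14279 L191199 q14275, e3 q14280 (flp_f L220104) q18058, e3 q14281 (flp_f L220112) q18059, e3 q14282 L220212 q18074, e3 q14283 L220228 q18076, e3 q14284 (flp_f L191217) q10013, e3 q14285 (flp_f L193595) q14643, e3 q14286 (flp_f L191299) q14295, e3 q14287 L191249 q10025, e3 q14288 (flp_f L210627) q16893, e3 q14289 (flp_f L210615) q16892, e3 q14290 (flp_f L191261) q10017, e3 q14291 L220316 q18087, e3 q14292 (flp_f L191275) q11419, e3 q14293 (flp_f L208090) q16601, e3 q14294 (flp_f L191285) q10019, e3 q14295 L191299 q14286, e3 q14296 L191341 q14301, e3 q14297 (flp_f L197269) q15088, e3 q14298 (flp_f L191317) q10947, e3 q14299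 (flp_f L191319) q10023, e3 q14300 (flp_f L220260) q18079, e3 q14301 (flp_f L191341) q14296, e3 q14302 (flp_f L219514) q17972, e3 q14303 L191355 q10126, e3 q14304 (flp_f L193659) q14653, e3 q14305 L191365 q12868, e3 q14306 (flp_f L216101) q17566, e3 q14307 L220398 q18098, e3 q14308 (flp_f L191385) q10093, e3 q14309 L191389 q10136, e3 q14310 (flp_f L192339) q14446, e3 q14311 L220428 q18104, e3 q14312 (flp_f L208777) q16675, e3 q14313 L220456 q18109, e3 q14314 L220464 q18110, e3 q14315 (flp_f L191411) q10033, e3 q14316 (flp_f L210279) q16854, e3 q14317 (flp_f L191431) q12466, e3 q14318 (flp_f L191433) q10034, e3 q14319 (flp_f L191443) q10035, e3 q14320 (flp_f L191461) q13730, e3 q14321 L191469 q10893, e3 q14322 L220510 q18115, e3 q14323 L191603 q14338, e3 q14324 L220542 q18118, e3 q14325 (flp_f L191495) q10039, e3 q14326 L191505 q13642, e3 q14327 (flp_f L205336) q16280, e3 q14328 L191519 q11446, e3 q14329 (flp_f L205348) q16281, e3 q14330 (flp_f L191527) q10042, e3 q14331 (flp_f L191541) q11879, e3 q14332 L220616 q18126,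 e3 q14333 (flp_f L191553) q10043, e3 q14334 (flp_f L220610) q18125, e3 q14335 L220638 q18128, trivial⟩ (by decide +kernel)

theorem ce_f_224 : ∀ r, r < 64 → sm gf (Qf (14336 + r)) = Qf (tab Gen.f (14336 + r)) :=
  edges_tab (sm gf) Qf (tab Gen.f) 14336 [(14336, 10045), (14337, 10046), (14338, 14323), (14339, 18131), (14340, 15554), (14341, 18133), (14342, 10050), (14343, 18137), (14344, 18138), (14345, 10051), (14346, 18141), (14347, 18134), (14348, 10282), (14349, 10053), (14350, 18142), (14351, 10056), (14352, 18144), (14353, 18145), (14354, 10057), (14355, 18146), (14356, 10059), (14357, 14244), (14358, 14510), (14359, 18148), (14360, 18149), (14361, 18150), (14362, 10062), (14363, 10063), (14364, 18154), (14365, 10064), (14366, 18151), (14367, 17599), (14368, 17600), (14369, 17601), (14370, 18165), (14371, 11312), (14372, 17603), (14373, 13757), (14374, 18167), (14375, 10070), (14376, 11595), (14377, 16060), (14378, 10077), (14379, 10079), (14380, 14388), (14381, 17537), (14382, 12089), (14383, 15555), (14384,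 18176), (14385, 10076), (14386, 15999), (14387, 18170), (14388, 14380), (14389, 18179), (14390, 18171), (14391, 18181), (14392, 16848), (14393, 10081), (14394, 15912), (14395, 13778), (14396, 15360), (14397, 15362), (14398, 17619), (14399, 13813)]
    ⟨e3 q14336 (flp_f L191579) q10045, e3 q14337 (flp_f L191587) q10046, e3 q14338 (flp_f L191603) q14323, e3 q14339 L220665 q18131, e3 q14340 (flp_f L200159) q15554, e3 q14341 L220682 q18133, e3 q14342 (flp_f L191626) q10050, e3 q14343 L220718 q18137, e3 q14344 L220722 q18138, e3 q14345 (flp_f L191644) q10051, e3 q14346 L220746 q18141, e3 q14347 (flp_f L220698) q18134, e3 q14348 (flp_f L191664) q10282, e3 q14349 (flp_f L191666) q10053, e3 q14350 L220756 q18142, e3 q14351 (flp_f L191684) q10056, e3 q14352 L220770 q18144, e3 q14353 L220778 q18145, e3 q14354 (flp_f L191702) q10057, e3 q14355 L220788 q18146, e3 q14356 (flp_f L191716) q10059, e3 q14357 L191730 q14244, e3 q14358 L192747 q14510, e3 q14359 L220804 q18148, e3 q14360 L220810 q18149, e3 q14361 L220820 q18150, e3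 q14362 (flp_f L191756) q10062, e3 q14363 (flp_f L191758) q10063, e3 q14364 L220842 q18154, e3 q14365 (flp_f L191772) q10064, e3 q14366 (flp_f L220826) q18151, e3 q14367 (flp_f L216329) q17599, e3 q14368 (flp_f L216335) q17600, e3 q14369 (flp_f L216339) q17601, e3 q14370 L220898 q18165, e3 q14371 (flp_f L191802) q11312, e3 q14372 (flp_f L216351) q17603, e3 q14373 L191822 q13757, e3 q14374 L220918 q18167, e3 q14375 (flp_f L191836) q10070, e3 q14376 L191850 q11595, e3 q14377 L203713 q16060, e3 q14378 L191864 q10077, e3 q14379 L191872 q10079, e3 q14380 (flp_f L191942) q14388, e3 q14381 L215851 q17537, e3 q14382 L191896 q12089, e3 q14383 (flp_f L200165) q15555, e3 q14384 L221002 q18176, e3 q14385 (flp_f L191908) q10076, e3 q14386 L203315 q15999, e3 q14387 (flp_f L220956) q18170, e3 q14388 L191942 q14380, e3 q14389 L221042 q18179, e3 q14390 (flp_f L220968) q18171, e3 q14391 L221064 q18181, e3 q14392 L210219 q16848, e3 q14393 (flp_f L191978) q10081, e3 q14394 (flp_f L202737) q15912, e3 q14395 L191995 q13778, e3 q14396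 L199012 q15360, e3 q14397 (flp_f L199026) q15362, e3 q14398 (flp_f L216475) q17619, e3 q14399 L192023 q13813, trivial⟩ (by decide +kernel)

theorem ce_f_225 : ∀ r, r < 64 → sm gf (Qf (14400 + r)) = Qf (tab Gen.f (14400 + r)) :=
  edges_tab (sm gf) Qf (tab Gen.f) 14400 [(14400, 10089), (14401, 14402), (14402, 14401), (14403, 10091), (14404, 18190), (14405, 12960), (14406, 15153), (14407, 18197), (14408, 18199), (14409, 18201), (14410, 10095), (14411, 18202), (14412, 10098), (14413, 11109), (14414, 18205), (14415, 18208), (14416, 10101), (14417, 10108), (14418, 11199), (14419, 15457), (14420, 15164), (14421, 17748), (14422, 10991), (14423, 18213), (14424, 18215), (14425, 10110), (14426, 18217), (14427, 18218), (14428, 10111), (14429, 18216), (14430, 14430), (14431, 14431), (14432, 11195), (14433, 15433), (14434, 11181), (14435, 15437), (14436, 15439), (14437, 10119), (14438, 11170), (14439, 18234), (14440, 10124), (14441, 18189), (14442, 17562), (14443, 10125), (14444, 18240), (14445, 17021), (14446, 14310), (14447,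 18245), (14448, 18247), (14449, 18250), (14450, 18251), (14451, 10129), (14452, 17626), (14453, 10130), (14454, 10850), (14455, 14638), (14456, 10985), (14457, 18032), (14458, 17016), (14459, 18259), (14460, 18262), (14461, 10137), (14462, 18265), (14463, 18267)]
    ⟨e3 q14400 (flp_f L192025) q10089, e3 q14401 L192045 q14402, e3 q14402 (flp_f L192045) q14401, e3 q14403 (flp_f L192047) q10091, e3 q14404 L221134 q18190, e3 q14405 L192061 q12960, e3 q14406 (flp_f L197721) q15153, e3 q14407 L221165 q18197, e3 q14408 L221174 q18199, e3 q14409 L221189 q18201, e3 q14410 (flp_f L192087) q10095, e3 q14411 (flp_f L221201) q18202, e3 q14412 L192103 q10098, e3 q14413 L192113 q11109, e3 q14414 (flp_f L221225) q18205, e3 q14415 L221243 q18208, e3 q14416 (flp_f L192127) q10101, e3 q14417 L192141 q10108, e3 q14418 L192149 q11199, e3 q14419 (flp_f L199528) q15457, e3 q14420 L197783 q15164, e3 q14421 (flp_f L217520) q17748, e3 q14422 (flp_f L192179) q10991, e3 q14423 L221283 q18213, e3 q14424 L221298 q18215, e3 q14425 (flp_f L192193)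 q10110, e3 q14426 L221309 q18217, e3 q14427 L221318 q18218, e3 q14428 (flp_f L192211) q10111, e3 q14429 (flp_f L221307) q18216, e3 q14430 L192225 q14430, e3 q14431 L192232 q14431, e3 q14432 (flp_f L192239) q11195, e3 q14433 (flp_f L199387) q15433, e3 q14434 L192249 q11181, e3 q14435 L199405 q15437, e3 q14436 L199415 q15439, e3 q14437 (flp_f L192267) q10119, e3 q14438 (flp_f L192281) q11170, e3 q14439 L221424 q18234, e3 q14440 (flp_f L192293) q10124, e3 q14441 (flp_f L221125) q18189, e3 q14442 (flp_f L216071) q17562, e3 q14443 (flp_f L192313) q10125, e3 q14444 L221470 q18240, e3 q14445 (flp_f L211613) q17021, e3 q14446 L192339 q14310, e3 q14447 L221502 q18245, e3 q14448 L221516 q18247, e3 q14449 L221542 q18250, e3 q14450 L221550 q18251, e3 q14451 (flp_f L192359) q10129, e3 q14452 (flp_f L216523) q17626, e3 q14453 (flp_f L192371) q10130, e3 q14454 L192387 q10850, e3 q14455 L193555 q14638, e3 q14456 L192409 q10985, e3 q14457 (flp_f L219912) q18032, e3 q14458 L211569 q17016, e3 q14459 L221620 q18259, e3 q14460 L221644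 q18262, e3 q14461 (flp_f L192429) q10137, e3 q14462 L221654 q18265, e3 q14463 L221664 q18267, trivial⟩ (by decide +kernel)

theorem ce_f_226 : ∀ r, r < 64 → sm gf (Qf (14464 + r)) = Qf (tab Gen.f (14464 + r)) :=
  edges_tab (sm gf) Qf (tab Gen.f) 14464 [(14464, 10138), (14465, 14571), (14466, 14839), (14467, 14835), (14468, 18275), (14469, 14582), (14470, 18280), (14471, 10143), (14472, 10145), (14473, 18282), (14474, 18283), (14475, 18288), (14476, 16852), (14477, 10146), (14478, 10148), (14479, 10149), (14480, 14483), (14481, 11541), (14482, 15908), (14483, 14480), (14484, 18291), (14485, 10150), (14486, 11475), (14487, 12343), (14488, 10162), (14489, 14502), (14490, 18294), (14491, 18296), (14492, 10158), (14493, 18299), (14494, 18300), (14495, 10159), (14496, 18297), (14497, 17368), (14498, 13847), (14499, 17638), (14500, 17711), (14501, 17394), (14502, 14489), (14503, 14196), (14504, 18310), (14505, 10167), (14506, 15182), (14507, 18314), (14508, 10169), (14509, 17714), (14510, 14358), (14511, 17716), (14512,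 16128), (14513, 18325), (14514, 10245), (14515, 10246), (14516, 18329), (14517, 17438), (14518, 10249), (14519, 10251), (14520, 14627), (14521, 18341), (14522, 18343), (14523, 18344), (14524, 10178), (14525, 16044), (14526, 13366), (14527, 14534)]
    ⟨e3 q14464 (flp_f L192445) q10138, e3 q14465 L193137 q14571, e3 q14466 (flp_f L195277) q14839, e3 q14467 (flp_f L195249) q14835, e3 q14468 L221728 q18275, e3 q14469 L193191 q14582, e3 q14470 L221758 q18280, e3 q14471 (flp_f L192481) q10143, e3 q14472 L192489 q10145, e3 q14473 (flp_f L221774) q18282, e3 q14474 (flp_f L221780) q18283, e3 q14475 L221824 q18288, e3 q14476 L210261 q16852, e3 q14477 (flp_f L192507) q10146, e3 q14478 L192517 q10148, e3 q14479 L192525 q10149, e3 q14480 (flp_f L192557) q14483, e3 q14481 L192539 q11541, e3 q14482 (flp_f L202689) q15908, e3 q14483 L192557 q14480, e3 q14484 L221854 q18291, e3 q14485 (flp_f L192567) q10150, e3 q14486 (flp_f L192583) q11475, e3 q14487 L192593 q12343, e3 q14488 L192599 q10162, e3 q14489 L192689 q14502, e3 q14490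 L221886 q18294, e3 q14491 L221906 q18296, e3 q14492 (flp_f L192623) q10158, e3 q14493 L221926 q18299, e3 q14494 L221936 q18300, e3 q14495 (flp_f L192641) q10159, e3 q14496 (flp_f L221916) q18297, e3 q14497 (flp_f L214135) q17368, e3 q14498 L192665 q13847, e3 q14499 L216633 q17638, e3 q14500 (flp_f L217216) q17711, e3 q14501 (flp_f L214477) q17394, e3 q14502 (flp_f L192689) q14489, e3 q14503 L192697 q14196, e3 q14504 L222010 q18310, e3 q14505 (flp_f L192711) q10167, e3 q14506 (flp_f L197863) q15182, e3 q14507 L222042 q18314, e3 q14508 (flp_f L192731) q10169, e3 q14509 (flp_f L217230) q17714, e3 q14510 (flp_f L192747) q14358, e3 q14511 (flp_f L217244) q17716, e3 q14512 (flp_f L204159) q16128, e3 q14513 L222118 q18325, e3 q14514 L192763 q10245, e3 q14515 L192769 q10246, e3 q14516 L222144 q18329, e3 q14517 (flp_f L214914) q17438, e3 q14518 L192789 q10249, e3 q14519 L192793 q10251, e3 q14520 (flp_f L193477) q14627, e3 q14521 L222267 q18341, e3 q14522 L222287 q18343, e3 q14523 L222299 q18344, e3 q14524 (flp_f L192819)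 q10178, e3 q14525 (flp_f L203613) q16044, e3 q14526 (flp_f L192833) q13366, e3 q14527 L192895 q14534, trivial⟩ (by decide +kernel)

theorem ce_f_227 : ∀ r, r < 64 → sm gf (Qf (14528 + r)) = Qf (tab Gen.f (14528 + r)) :=
  edges_tab (sm gf) Qf (tab Gen.f) 14528 [(14528, 18346), (14529, 10180), (14530, 14675), (14531, 18347), (14532, 10181), (14533, 10182), (14534, 14527), (14535, 15632), (14536, 16595), (14537, 13106), (14538, 17885), (14539, 16889), (14540, 18352), (14541, 18354), (14542, 10189), (14543, 14553), (14544, 10190), (14545, 14556), (14546, 14076), (14547, 13284), (14548, 14069), (14549, 10195), (14550, 18363), (14551, 10196), (14552, 18366), (14553, 14543), (14554, 18369), (14555, 10198), (14556, 14545), (14557, 10200), (14558, 17897), (14559, 16075), (14560, 17895), (14561, 17401), (14562, 17936), (14563, 18378), (14564, 10207), (14565, 18380), (14566, 18382), (14567, 17201), (14568, 17199), (14569, 18389), (14570, 10211), (14571, 14465), (14572, 18394), (14573, 10213), (14574, 17624), (14575, 18399),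 (14576, 18335), (14577, 10214), (14578, 18334), (14579, 18404), (14580, 10216), (14581, 16052), (14582, 14469), (14583, 18409), (14584, 13823), (14585, 15772), (14586, 18411), (14587, 10221), (14588, 10222), (14589, 10228), (14590, 18413), (14591, 18415)]
    ⟨e3 q14528 L222317 q18346, e3 q14529 (flp_f L192851) q10180, e3 q14530 (flp_f L193827) q14675, e3 q14531 L222327 q18347, e3 q14532 (flp_f L192873) q10181, e3 q14533 (flp_f L192881) q10182, e3 q14534 (flp_f L192895) q14527, e3 q14535 (flp_f L200729) q15632, e3 q14536 (flp_f L208015) q16595, e3 q14537 L192927 q13106, e3 q14538 (flp_f L218706) q17885, e3 q14539 (flp_f L210591) q16889, e3 q14540 L222387 q18352, e3 q14541 L222407 q18354, e3 q14542 (flp_f L192953) q10189, e3 q14543 L193037 q14553, e3 q14544 (flp_f L192965) q10190, e3 q14545 L193055 q14556, e3 q14546 (flp_f L192985) q14076, e3 q14547 (flp_f L192993) q13284, e3 q14548 L193001 q14069, e3 q14549 L193025 q10195, e3 q14550 L222463 q18363, e3 q14551 L193019 q10196, e3 q14552 L222489 q18366, e3 q14553 (flp_f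 L193037) q14543, e3 q14554 L222505 q18369, e3 q14555 (flp_f L193041) q10198, e3 q14556 (flp_f L193055) q14545, e3 q14557 (flp_f L193057) q10200, e3 q14558 (flp_f L218832) q17897, e3 q14559 (flp_f L203817) q16075, e3 q14560 (flp_f L218812) q17895, e3 q14561 L214545 q17401, e3 q14562 (flp_f L219196) q17936, e3 q14563 L222946 q18378, e3 q14564 (flp_f L193095) q10207, e3 q14565 L222966 q18380, e3 q14566 L222990 q18382, e3 q14567 (flp_f L212929) q17201, e3 q14568 (flp_f L212905) q17199, e3 q14569 L223030 q18389, e3 q14570 (flp_f L193123) q10211, e3 q14571 (flp_f L193137) q14465, e3 q14572 L223066 q18394, e3 q14573 (flp_f L193143) q10213, e3 q14574 (flp_f L216509) q17624, e3 q14575 L223092 q18399, e3 q14576 (flp_f L222184) q18335, e3 q14577 (flp_f L193161) q10214, e3 q14578 (flp_f L222176) q18334, e3 q14579 L223112 q18404, e3 q14580 (flp_f L193177) q10216, e3 q14581 (flp_f L203655) q16052, e3 q14582 (flp_f L193191) q14469, e3 q14583 L223149 q18409, e3 q14584 (flp_f L193207) q13823, e3 q14585 L201656 q15772, e3 q14586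 L223165 q18411, e3 q14587 (flp_f L193225) q10221, e3 q14588 (flp_f L193231) q10222, e3 q14589 L193247 q10228, e3 q14590 L223183 q18413, e3 q14591 L223203 q18415, trivial⟩ (by decide +kernel)

theorem ce_f_228 : ∀ r, r < 64 → sm gf (Qf (14592 + r)) = Qf (tab Gen.f (14592 + r)) :=
  edges_tab (sm gf) Qf (tab Gen.f) 14592 [(14592, 18417), (14593, 10224), (14594, 14605), (14595, 10225), (14596, 14607), (14597, 18412), (14598, 17911), (14599, 10229), (14600, 18423), (14601, 10230), (14602, 18426), (14603, 10231), (14604, 14682), (14605, 14594), (14606, 10233), (14607, 14596), (14608, 10235), (14609, 18437), (14610, 14689), (14611, 17706), (14612, 18166), (14613, 10240), (14614, 14693), (14615, 10242), (14616, 18442), (14617, 11657), (14618, 18446), (14619, 18327), (14620, 18328), (14621, 18453), (14622, 10247), (14623, 18456), (14624, 10248), (14625, 18458), (14626, 18460), (14627, 14520), (14628, 18336), (14629, 18463), (14630, 15351), (14631, 10252), (14632, 11556), (14633, 10255), (14634, 11557), (14635, 11558), (14636,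 15995), (14637, 12669), (14638, 14455), (14639, 16528), (14640, 10259), (14641, 14654), (14642, 14657), (14643, 14285), (14644, 18476), (14645, 18477), (14646, 10264), (14647, 16912), (14648, 10265), (14649, 18481), (14650, 18482), (14651, 10266), (14652, 18486), (14653, 14304), (14654, 14641), (14655, 18489)]
    ⟨e3 q14592 L223223 q18417, e3 q14593 (flp_f L193267) q10224, e3 q14594 L193353 q14605, e3 q14595 (flp_f L193279) q10225, e3 q14596 L193371 q14607, e3 q14597 (flp_f L223181) q18412, e3 q14598 L218958 q17911, e3 q14599 (flp_f L193309) q10229, e3 q14600 L223265 q18423, e3 q14601 (flp_f L193319) q10230, e3 q14602 L223289 q18426, e3 q14603 (flp_f L193341) q10231, e3 q14604 (flp_f L193875) q14682, e3 q14605 (flp_f L193353) q14594, e3 q14606 (flp_f L193357) q10233, e3 q14607 (flp_f L193371) q14596, e3 q14608 (flp_f L193373) q10235, e3 q14609 L223353 q18437, e3 q14610 (flp_f L193927) q14689, e3 q14611 (flp_f L217148) q17706, e3 q14612 (flp_f L220912) q18166, e3 q14613 (flp_f L193399) q10240, e3 q14614 (flp_f L193955)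 q14693, e3 q14615 (flp_f L193411) q10242, e3 q14616 L223395 q18442, e3 q14617 L193423 q11657, e3 q14618 L223435 q18446, e3 q14619 (flp_f L222138) q18327, e3 q14620 (flp_f L222142) q18328, e3 q14621 L223477 q18453, e3 q14622 (flp_f L193445) q10247, e3 q14623 L223503 q18456, e3 q14624 (flp_f L193459) q10248, e3 q14625 L223515 q18458, e3 q14626 L223525 q18460, e3 q14627 L193477 q14520, e3 q14628 (flp_f L222192) q18336, e3 q14629 L223533 q18463, e3 q14630 (flp_f L222214) q15351, e3 q14631 (flp_f L193489) q10252, e3 q14632 L193501 q11556, e3 q14633 (flp_f L193503) q10255, e3 q14634 L193517 q11557, e3 q14635 L193525 q11558, e3 q14636 (flp_f L203279) q15995, e3 q14637 L193545 q12669, e3 q14638 (flp_f L193555) q14455, e3 q14639 (flp_f L207475) q16528, e3 q14640 (flp_f L193569) q10259, e3 q14641 L193667 q14654, e3 q14642 L193689 q14657, e3 q14643 L193595 q14285, e3 q14644 L223635 q18476, e3 q14645 L223641 q18477, e3 q14646 (flp_f L193611) q10264, e3 q14647 (flp_f L210779) q16912, e3 q14648 (flp_f L193627) q10265, e3 q14649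 L223681 q18481, e3 q14650 (flp_f L223703) q18482, e3 q14651 (flp_f L193643) q10266, e3 q14652 L223729 q18486, e3 q14653 L193659 q14304, e3 q14654 (flp_f L193667) q14641, e3 q14655 L223747 q18489, trivial⟩ (by decide +kernel)

theorem ce_f_229 : ∀ r, r < 64 → sm gf (Qf (14656 + r)) = Qf (tab Gen.f (14656 + r)) :=
  edges_tab (sm gf) Qf (tab Gen.f) 14656 [(14656, 10268), (14657, 14642), (14658, 10270), (14659, 18493), (14660, 11338), (14661, 17898), (14662, 10273), (14663, 11339), (14664, 11340), (14665, 15672), (14666, 10275), (14667, 18498), (14668, 18499), (14669, 10277), (14670, 14683), (14671, 10278), (14672, 16868), (14673, 18140), (14674, 11382), (14675, 14530), (14676, 18506), (14677, 10283), (14678, 18509), (14679, 18511), (14680, 10284), (14681, 18514), (14682, 14604), (14683, 14670), (14684, 18152), (14685, 10286), (14686, 12275), (14687, 10288), (14688, 18522), (14689, 14610), (14690, 15905), (14691, 15998), (14692, 10291), (14693, 14614), (14694, 17917), (14695, 11682), (14696, 13255), (14697, 18527),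 (14698, 10295), (14699, 10297), (14700, 14044), (14701, 10312), (14702, 14759), (14703, 14156), (14704, 16389), (14705, 10943), (14706, 12809), (14707, 12606), (14708, 15108), (14709, 16674), (14710, 14169), (14711, 13937), (14712, 10323), (14713, 12465), (14714, 13958), (14715, 11873), (14716, 10333), (14717, 16263), (14718, 16623), (14719, 10337)]
    ⟨e3 q14656 (flp_f L193675) q10268, e3 q14657 (flp_f L193689) q14642, e3 q14658 (flp_f L193691) q10270, e3 q14659 L223775 q18493, e3 q14660 L193711 q11338, e3 q14661 L218842 q17898, e3 q14662 (flp_f L193719) q10273, e3 q14663 L193729 q11339, e3 q14664 L193737 q11340, e3 q14665 (flp_f L200984) q15672, e3 q14666 (flp_f L193747) q10275, e3 q14667 L223867 q18498, e3 q14668 L223879 q18499, e3 q14669 (flp_f L193781) q10277, e3 q14670 L193881 q14683, e3 q14671 (flp_f L193793) q10278, e3 q14672 (flp_f L210413) q16868, e3 q14673 L220744 q18140, e3 q14674 L193821 q11382, e3 q14675 L193827 q14530, e3 q14676 L223935 q18506, e3 q14677 (flp_f L193843) q10283, e3 q14678 L223963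 q18509, e3 q14679 L223987 q18511, e3 q14680 (flp_f L193859) q10284, e3 q14681 L224011 q18514, e3 q14682 L193875 q14604, e3 q14683 (flp_f L193881) q14670, e3 q14684 L220836 q18152, e3 q14685 (flp_f L193891) q10286, e3 q14686 (flp_f L193905) q12275, e3 q14687 (flp_f L193907) q10288, e3 q14688 L224067 q18522, e3 q14689 L193927 q14610, e3 q14690 L202661 q15905, e3 q14691 (flp_f L203303) q15998, e3 q14692 (flp_f L193945) q10291, e3 q14693 L193955 q14614, e3 q14694 (flp_f L219024) q17917, e3 q14695 L193969 q11682, e3 q14696 (flp_f L193979) q13255, e3 q14697 L224109 q18527, e3 q14698 (flp_f L193989) q10295, e3 q14699 (flp_f L193999) q10297, e3 q14700 L194019 q14044, e3 q14701 L194031 q10312, e3 q14702 (flp_f L194544) q14759, e3 q14703 L194047 q14156, e3 q14704 L206272 q16389, e3 q14705 L194061 q10943, e3 q14706 (flp_f L194069) q12809, e3 q14707 (flp_f L194081) q12606, e3 q14708 (flp_f L197371) q15108, e3 q14709 (flp_f L208773) q16674, e3 q14710 L194101 q14169, e3 q14711 (flp_f L194115) q13937, e3 q14712 (flp_f L194117)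 q10323, e3 q14713 L194131 q12465, e3 q14714 L194141 q13958, e3 q14715 (flp_f L194151) q11873, e3 q14716 L194161 q10333, e3 q14717 (flp_f L205175) q16263, e3 q14718 (flp_f L208276) q16623, e3 q14719 (flp_f L194180) q10337, trivial⟩ (by decide +kernel)

theorem ce_f_230 : ∀ r, r < 64 → sm gf (Qf (14720 + r)) = Qf (tab Gen.f (14720 + r)) :=
  edges_tab (sm gf) Qf (tab Gen.f) 14720 [(14720, 10338), (14721, 10342), (14722, 10340), (14723, 17428), (14724, 15126), (14725, 10345), (14726, 10347), (14727, 10348), (14728, 16792), (14729, 10510), (14730, 10357), (14731, 14757), (14732, 13681), (14733, 18531), (14734, 10364), (14735, 11769), (14736, 10368), (14737, 14968), (14738, 16495), (14739, 14935), (14740, 18533), (14741, 10710), (14742, 10375), (14743, 10707), (14744, 10376), (14745, 14745), (14746, 12961), (14747, 10861), (14748, 12968), (14749, 14833), (14750, 17067), (14751, 12188), (14752, 10401), (14753, 14755), (14754, 10754), (14755, 14753), (14756, 14965), (14757, 14731), (14758, 10402), (14759, 14702), (14760,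 10411), (14761, 14089), (14762, 17369), (14763, 17903), (14764, 14088), (14765, 13471), (14766, 11776), (14767, 18539), (14768, 10419), (14769, 17030), (14770, 17155), (14771, 10423), (14772, 16467), (14773, 17495), (14774, 10430), (14775, 13584), (14776, 10433), (14777, 10435), (14778, 10440), (14779, 11958), (14780, 12322), (14781, 12621), (14782, 14075), (14783, 11982)]
    ⟨e3 q14720 (flp_f L194185) q10338, e3 q14721 L194197 q10342, e3 q14722 (flp_f L194201) q10340, e3 q14723 (flp_f L214815) q17428, e3 q14724 L197519 q15126, e3 q14725 (flp_f L194225) q10345, e3 q14726 (flp_f L194235) q10347, e3 q14727 (flp_f L194245) q10348, e3 q14728 (flp_f L209783) q16792, e3 q14729 L194263 q10510, e3 q14730 (flp_f L194269) q10357, e3 q14731 L194532 q14757, e3 q14732 (flp_f L194297) q13681, e3 q14733 L224143 q18531, e3 q14734 (flp_f L194315) q10364, e3 q14735 L194333 q11769, e3 q14736 (flp_f L194339) q10368, e3 q14737 (flp_f L196411) q14968, e3 q14738 (flp_f L207191) q16495, e3 q14739 L196131 q14935, e3 q14740 L224167 q18533,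 e3 q14741 (flp_f L194376) q10710, e3 q14742 (flp_f L194378) q10375, e3 q14743 (flp_f L194394) q10707, e3 q14744 (flp_f L194396) q10376, e3 q14745 L194411 q14745, e3 q14746 L194422 q12961, e3 q14747 (flp_f L194436) q10861, e3 q14748 (flp_f L194444) q12968, e3 q14749 (flp_f L195231) q14833, e3 q14750 (flp_f L211937) q17067, e3 q14751 L194468 q12188, e3 q14752 L194476 q10401, e3 q14753 (flp_f L194510) q14755, e3 q14754 L194494 q10754, e3 q14755 L194510 q14753, e3 q14756 L196385 q14965, e3 q14757 (flp_f L194532) q14731, e3 q14758 (flp_f L194534) q10402, e3 q14759 L194544 q14702, e3 q14760 L194554 q10411, e3 q14761 L194563 q14089, e3 q14762 (flp_f L214145) q17369, e3 q14763 (flp_f L218880) q17903, e3 q14764 L194583 q14088, e3 q14765 (flp_f L194597) q13471, e3 q14766 L194604 q11776, e3 q14767 L224235 q18539, e3 q14768 (flp_f L194621) q10419, e3 q14769 (flp_f L211685) q17030, e3 q14770 L212591 q17155, e3 q14771 (flp_f L194647) q10423, e3 q14772 L206978 q16467, e3 q14773 L215467 q17495, e3 q14774 (flp_f L194675) q10430,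 e3 q14775 (flp_f L194693) q13584, e3 q14776 (flp_f L194695) q10433, e3 q14777 (flp_f L194705) q10435, e3 q14778 L194723 q10440, e3 q14779 (flp_f L194733) q11958, e3 q14780 L194737 q12322, e3 q14781 L194753 q12621, e3 q14782 (flp_f L194761) q14075, e3 q14783 L194769 q11982, trivial⟩ (by decide +kernel)

theorem ce_f_231 : ∀ r, r < 64 → sm gf (Qf (14784 + r)) = Qf (tab Gen.f (14784 + r)) :=
  edges_tab (sm gf) Qf (tab Gen.f) 14784 [(14784, 10450), (14785, 17896), (14786, 13020), (14787, 10453), (14788, 17938), (14789, 17500), (14790, 13462), (14791, 13461), (14792, 10462), (14793, 16836), (14794, 14056), (14795, 13297), (14796, 11825), (14797, 10466), (14798, 12344), (14799, 10467), (14800, 11261), (14801, 17154), (14802, 10472), (14803, 17148), (14804, 12620), (14805, 17218), (14806, 18545), (14807, 12204), (14808, 17275), (14809, 17026), (14810, 14185), (14811, 10483), (14812, 16420), (14813, 17496), (14814, 10489), (14815, 10492), (14816, 13168), (14817, 14083), (14818, 10499), (14819, 10513), (14820, 12730), (14821,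 17119), (14822, 15679), (14823, 16655), (14824, 15680), (14825, 18551), (14826, 13356), (14827, 10514), (14828, 14110), (14829, 10516), (14830, 12321), (14831, 12388), (14832, 10518), (14833, 14749), (14834, 12617), (14835, 14467), (14836, 10524), (14837, 17028), (14838, 10528), (14839, 14466), (14840, 12207), (14841, 12209), (14842, 16524), (14843, 14846), (14844, 11119), (14845, 11269), (14846, 14843), (14847, 12708)]
    ⟨e3 q14784 (flp_f L194785) q10450, e3 q14785 (flp_f L218824) q17896, e3 q14786 L194803 q13020, e3 q14787 (flp_f L194805) q10453, e3 q14788 (flp_f L219220) q17938, e3 q14789 (flp_f L215510) q17500, e3 q14790 L194831 q13462, e3 q14791 L194841 q13461, e3 q14792 (flp_f L194849) q10462, e3 q14793 (flp_f L210135) q16836, e3 q14794 L194869 q14056, e3 q14795 L194883 q13297, e3 q14796 (flp_f L194891) q11825, e3 q14797 (flp_f L194893) q10466, e3 q14798 (flp_f L194913) q12344, e3 q14799 (flp_f L194915) q10467, e3 q14800 (flp_f L194935) q11261, e3 q14801 (flp_f L212579) q17154, e3 q14802 (flp_f L194947)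 q10472, e3 q14803 (flp_f L212521) q17148, e3 q14804 (flp_f L194975) q12620, e3 q14805 (flp_f L213041) q17218, e3 q14806 L224293 q18545, e3 q14807 L194991 q12204, e3 q14808 (flp_f L213407) q17275, e3 q14809 L211649 q17026, e3 q14810 L195015 q14185, e3 q14811 (flp_f L195021) q10483, e3 q14812 L206530 q16420, e3 q14813 (flp_f L215479) q17496, e3 q14814 (flp_f L195047) q10489, e3 q14815 (flp_f L195053) q10492, e3 q14816 L195069 q13168, e3 q14817 L195079 q14083, e3 q14818 (flp_f L195085) q10499, e3 q14819 L195105 q10513, e3 q14820 (flp_f L195117) q12730, e3 q14821 (flp_f L212337) q17119, e3 q14822 (flp_f L201050) q15679, e3 q14823 (flp_f L208588) q16655, e3 q14824 (flp_f L201072) q15680, e3 q14825 L224349 q18551, e3 q14826 L195161 q13356, e3 q14827 (flp_f L195163) q10514, e3 q14828 (flp_f L195179) q14110, e3 q14829 (flp_f L195183) q10516, e3 q14830 L195195 q12321, e3 q14831 (flp_f L195209) q12388, e3 q14832 (flp_f L195213) q10518, e3 q14833 L195231 q14749, e3 q14834 L195241 q12617, e3 q14835 L195249 q14467, e3 q14836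 (flp_f L195253) q10524, e3 q14837 (flp_f L211667) q17028, e3 q14838 (flp_f L195269) q10528, e3 q14839 L195277 q14466, e3 q14840 L195283 q12207, e3 q14841 L195291 q12209, e3 q14842 (flp_f L207435) q16524, e3 q14843 L195344 q14846, e3 q14844 L195317 q11119, e3 q14845 (flp_f L195330) q11269, e3 q14846 (flp_f L195344) q14843, e3 q14847 (flp_f L195358) q12708, trivial⟩ (by decide +kernel)

theorem ce_f_232 : ∀ r, r < 64 → sm gf (Qf (14848 + r)) = Qf (tab Gen.f (14848 + r)) :=
  edges_tab (sm gf) Qf (tab Gen.f) 14848 [(14848, 10605), (14849, 12799), (14850, 12756), (14851, 10559), (14852, 16646), (14853, 14871), (14854, 17426), (14855, 18525), (14856, 10564), (14857, 10585), (14858, 14888), (14859, 16822), (14860, 12935), (14861, 16744), (14862, 15901), (14863, 13382), (14864, 15903), (14865, 10578), (14866, 13472), (14867, 13381), (14868, 18567), (14869, 10580), (14870, 10581), (14871, 14853), (14872, 17427), (14873, 17444), (14874, 13424), (14875, 15634), (14876, 10590), (14877, 10600), (14878, 15448), (14879, 10603),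 (14880, 10618), (14881, 10623), (14882, 10624), (14883, 11954), (14884, 13537), (14885, 10628), (14886, 10629), (14887, 10630), (14888, 14858), (14889, 11920), (14890, 18570), (14891, 16875), (14892, 12777), (14893, 15773), (14894, 16550), (14895, 18573), (14896, 13276), (14897, 18574), (14898, 16613), (14899, 18581), (14900, 10631), (14901, 11849), (14902, 18582), (14903, 14919), (14904, 10691), (14905, 12600), (14906, 13545), (14907, 10693), (14908, 12333), (14909, 13705), (14910, 13520), (14911, 13507)]
    ⟨e3 q14848 L195368 q10605, e3 q14849 L195376 q12799, e3 q14850 L195388 q12756, e3 q14851 (flp_f L195392) q10559, e3 q14852 (flp_f L208505) q16646, e3 q14853 L195558 q14871, e3 q14854 L214793 q17426, e3 q14855 (flp_f L224093) q18525, e3 q14856 (flp_f L195432) q10564, e3 q14857 L195444 q10585, e3 q14858 L195721 q14888, e3 q14859 L210021 q16822, e3 q14860 L195470 q12935, e3 q14861 L209363 q16744, e3 q14862 L202619 q15901, e3 q14863 (flp_f L195492) q13382, e3 q14864 L202641 q15903, e3 q14865 (flp_f L195500) q10578,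 e3 q14866 (flp_f L195520) q13472, e3 q14867 (flp_f L195532) q13381, e3 q14868 L224475 q18567, e3 q14869 (flp_f L195538) q10580, e3 q14870 (flp_f L195546) q10581, e3 q14871 (flp_f L195558) q14853, e3 q14872 (flp_f L214803) q17427, e3 q14873 L214982 q17444, e3 q14874 (flp_f L195586) q13424, e3 q14875 L200743 q15634, e3 q14876 (flp_f L195596) q10590, e3 q14877 (flp_f L195608) q10600, e3 q14878 L199470 q15448, e3 q14879 (flp_f L195633) q10603, e3 q14880 L195651 q10618, e3 q14881 L195661 q10623, e3 q14882 L195673 q10624, e3 q14883 (flp_f L195687) q11954, e3 q14884 L195695 q13537, e3 q14885 L195701 q10628, e3 q14886 L195705 q10629, e3 q14887 L195715 q10630, e3 q14888 (flp_f L195721) q14858, e3 q14889 L195733 q11920, e3 q14890 (flp_f L224511) q18570, e3 q14891 L210483 q16875, e3 q14892 L195755 q12777, e3 q14893 (flp_f L201666) q15773, e3 q14894 (flp_f L207654) q16550, e3 q14895 (flp_f L224545) q18573, e3 q14896 L195785 q13276, e3 q14897 (flp_f L224553) q18574, e3 q14898 (flp_f L208189) q16613, e3 q14899 L224595 q18581,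 e3 q14900 (flp_f L195809) q10631, e3 q14901 (flp_f L195827) q11849, e3 q14902 L224607 q18582, e3 q14903 (flp_f L195988) q14919, e3 q14904 L195850 q10691, e3 q14905 (flp_f L195862) q12600, e3 q14906 L195872 q13545, e3 q14907 L195882 q10693, e3 q14908 L195888 q12333, e3 q14909 L195896 q13705, e3 q14910 L195904 q13520, e3 q14911 L195912 q13507, trivial⟩ (by decide +kernel)

theorem ce_f_233 : ∀ r, r < 64 → sm gf (Qf (14912 + r)) = Qf (tab Gen.f (14912 + r)) :=
  edges_tab (sm gf) Qf (tab Gen.f) 14912 [(14912, 18584), (14913, 10662), (14914, 10819), (14915, 18557), (14916, 10666), (14917, 10670), (14918, 18586), (14919, 14903), (14920, 18585), (14921, 13986), (14922, 10689), (14923, 13549), (14924, 14023), (14925, 16645), (14926, 14163), (14927, 10696), (14928, 17547), (14929, 14955), (14930, 17833), (14931, 17452), (14932, 10706), (14933, 14978), (14934, 18532), (14935, 14739), (14936, 14014), (14937, 14937), (14938, 15916), (14939, 14939), (14940, 12565), (14941, 17947), (14942, 10715), (14943, 16803), (14944, 12269),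 (14945, 16559), (14946, 12350), (14947, 17503), (14948, 13508), (14949, 10724), (14950, 14950), (14951, 10774), (14952, 14970), (14953, 10731), (14954, 10738), (14955, 14929), (14956, 16621), (14957, 14959), (14958, 17489), (14959, 14957), (14960, 13544), (14961, 13581), (14962, 15022), (14963, 10841), (14964, 13567), (14965, 14756), (14966, 17848), (14967, 10761), (14968, 14737), (14969, 12379), (14970, 14952), (14971, 10768), (14972, 17854), (14973, 10838), (14974, 17944), (14975, 11962)]
    ⟨e3 q14912 L224623 q18584, e3 q14913 (flp_f L195926) q10662, e3 q14914 L195944 q10819, e3 q14915 (flp_f L224403) q18557, e3 q14916 (flp_f L195954) q10666, e3 q14917 (flp_f L195966) q10670, e3 q14918 L224648 q18586, e3 q14919 L195988 q14903, e3 q14920 (flp_f L224643) q18585, e3 q14921 L196007 q13986, e3 q14922 L196021 q10689, e3 q14923 (flp_f L196039) q13549, e3 q14924 L196047 q14023, e3 q14925 (flp_f L208491) q16645, e3 q14926 (flp_f L196065) q14163, e3 q14927 (flp_f L196069) q10696, e3 q14928 (flp_f L215940) q17547, e3 q14929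 (flp_f L196291) q14955, e3 q14930 (flp_f L218220) q17833, e3 q14931 (flp_f L215050) q17452, e3 q14932 (flp_f L196111) q10706, e3 q14933 L196522 q14978, e3 q14934 L224165 q18532, e3 q14935 (flp_f L196131) q14739, e3 q14936 (flp_f L196137) q14014, e3 q14937 L196143 q14937, e3 q14938 (flp_f L202764) q15916, e3 q14939 L196152 q14939, e3 q14940 L196159 q12565, e3 q14941 (flp_f L219312) q17947, e3 q14942 (flp_f L196169) q10715, e3 q14943 (flp_f L209877) q16803, e3 q14944 L196191 q12269, e3 q14945 (flp_f L207720) q16559, e3 q14946 (flp_f L196211) q12350, e3 q14947 (flp_f L215543) q17503, e3 q14948 L196220 q13508, e3 q14949 (flp_f L196226) q10724, e3 q14950 L196242 q14950, e3 q14951 L196251 q10774, e3 q14952 (flp_f L196434) q14970, e3 q14953 (flp_f L196261) q10731, e3 q14954 (flp_f L196273) q10738, e3 q14955 L196291 q14929, e3 q14956 L208250 q16621, e3 q14957 (flp_f L196323) q14959, e3 q14958 (flp_f L215407) q17489, e3 q14959 L196323 q14957, e3 q14960 L196335 q13544, e3 q14961 L196343 q13581, e3 q14962 (flp_f L196865) q15022,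 e3 q14963 (flp_f L196361) q10841, e3 q14964 L196371 q13567, e3 q14965 (flp_f L196385) q14756, e3 q14966 (flp_f L218372) q17848, e3 q14967 L196401 q10761, e3 q14968 L196411 q14737, e3 q14969 L196420 q12379, e3 q14970 L196434 q14952, e3 q14971 (flp_f L196442) q10768, e3 q14972 (flp_f L218426) q17854, e3 q14973 L196468 q10838, e3 q14974 L219280 q17944, e3 q14975 (flp_f L196492) q11962, trivial⟩ (by decide +kernel)

theorem ce_f_234 : ∀ r, r < 64 → sm gf (Qf (14976 + r)) = Qf (tab Gen.f (14976 + r)) :=
  edges_tab (sm gf) Qf (tab Gen.f) 14976 [(14976, 15635), (14977, 10817), (14978, 14933), (14979, 18598), (14980, 10788), (14981, 13532), (14982, 17696), (14983, 10789), (14984, 18599), (14985, 17504), (14986, 10792), (14987, 18600), (14988, 17453), (14989, 14171), (14990, 13436), (14991, 16596), (14992, 13987), (14993, 10799), (14994, 10800), (14995, 16851), (14996, 13992), (14997, 18593), (14998, 10806), (14999, 16449), (15000, 10809), (15001, 18603), (15002, 10811), (15003, 16296), (15004, 18605), (15005, 10814), (15006,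 13509), (15007, 16637), (15008, 13512), (15009, 17844), (15010, 10821), (15011, 13668), (15012, 12062), (15013, 13666), (15014, 13670), (15015, 11771), (15016, 15016), (15017, 15017), (15018, 16666), (15019, 10842), (15020, 18571), (15021, 17559), (15022, 14962), (15023, 15531), (15024, 17952), (15025, 15827), (15026, 11366), (15027, 18252), (15028, 18614), (15029, 10851), (15030, 16108), (15031, 18535), (15032, 17107), (15033, 13772), (15034, 17560), (15035, 10924), (15036, 10927), (15037, 10928), (15038, 15089), (15039, 18625)]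
    ⟨e3 q14976 L200757 q15635, e3 q14977 L196506 q10817, e3 q14978 (flp_f L196522) q14933, e3 q14979 L224756 q18598, e3 q14980 (flp_f L196528) q10788, e3 q14981 (flp_f L196538) q13532, e3 q14982 L217074 q17696, e3 q14983 (flp_f L196544) q10789, e3 q14984 (flp_f L224770) q18599, e3 q14985 (flp_f L215552) q17504, e3 q14986 (flp_f L196563) q10792, e3 q14987 L224772 q18600, e3 q14988 L215060 q17453, e3 q14989 L196584 q14171, e3 q14990 (flp_f L196596) q13436, e3 q14991 L208027 q16596, e3 q14992 (flp_f L196616) q13987, e3 q14993 (flp_f L196620) q10799, e3 q14994 (flp_f L196628) q10800, e3 q14995 (flp_f L210248) q16851, e3 q14996 L196647 q13992, e3 q14997 L224715 q18593, e3 q14998 (flp_f L196659) q10806, e3 q14999 (flp_f L206803) q16449, e3 q15000 L196681 q10809, e3 q15001 (flp_f L224803) q18603, e3 q15002 (flp_f L196689) q10811, e3 q15003 (flp_f L205492) q16296, e3 q15004 L224823 q18605, e3 q15005 (flp_f L196719) q10814, e3 q15006 L196733 q13509, e3 q15007 (flp_f L208389) q16637, e3 q15008 L196747 q13512, e3 q15009 L218336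 q17844, e3 q15010 (flp_f L196753) q10821, e3 q15011 L196769 q13668, e3 q15012 (flp_f L196781) q12062, e3 q15013 L196789 q13666, e3 q15014 L196793 q13670, e3 q15015 (flp_f L196807) q11771, e3 q15016 L196815 q15016, e3 q15017 L196824 q15017, e3 q15018 L208702 q16666, e3 q15019 L196839 q10842, e3 q15020 (flp_f L224525) q18571, e3 q15021 L216053 q17559, e3 q15022 L196865 q14962, e3 q15023 (flp_f L199991) q15531, e3 q15024 (flp_f L219368) q17952, e3 q15025 (flp_f L202054) q15827, e3 q15026 L196889 q11366, e3 q15027 (flp_f L221568) q18252, e3 q15028 L224901 q18614, e3 q15029 (flp_f L196905) q10851, e3 q15030 L204023 q16108, e3 q15031 L224199 q18535, e3 q15032 L212239 q17107, e3 q15033 L196933 q13772, e3 q15034 (flp_f L216059) q17560, e3 q15035 L196943 q10924, e3 q15036 L196953 q10927, e3 q15037 L196965 q10928, e3 q15038 (flp_f L197277) q15089, e3 q15039 L224989 q18625, trivial⟩ (by decide +kernel)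

theorem ce_f_235 : ∀ r, r < 64 → sm gf (Qf (15040 + r)) = Qf (tab Gen.f (15040 + r)) :=
  edges_tab (sm gf) Qf (tab Gen.f) 15040 [(15040, 15495), (15041, 11230), (15042, 18629), (15043, 10873), (15044, 14272), (15045, 18053), (15046, 18633), (15047, 15104), (15048, 18635), (15049, 18636), (15050, 10877), (15051, 16906), (15052, 10881), (15053, 18026), (15054, 18641), (15055, 18645), (15056, 10882), (15057, 15937), (15058, 11543), (15059, 18650), (15060, 18651), (15061, 10887), (15062, 10894), (15063, 18114), (15064, 18036), (15065, 17263), (15066, 16118), (15067, 15067), (15068, 15068), (15069, 15133), (15070, 10916), (15071, 15071), (15072, 15072), (15073, 15145), (15074, 15142), (15075, 15143), (15076, 10966), (15077, 10911), (15078, 15134), (15079, 10971), (15080, 18081), (15081, 10972), (15082, 10999), (15083, 15146), (15084, 10918), (15085, 18673), (15086, 10920), (15087, 10940), (15088, 14297), (15089, 15038), (15090, 18679), (15091, 18091), (15092, 18090), (15093, 18684), (15094, 10929), (15095, 15179),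 (15096, 10930), (15097, 18035), (15098, 18687), (15099, 10934), (15100, 16728), (15101, 10937), (15102, 10938), (15103, 18674)]
    ⟨e3 q15040 (flp_f L199760) q15495, e3 q15041 L196981 q11230, e3 q15042 L225013 q18629, e3 q15043 (flp_f L196987) q10873, e3 q15044 (flp_f L197001) q14272, e3 q15045 L220072 q18053, e3 q15046 L225047 q18633, e3 q15047 L197351 q15104, e3 q15048 L225065 q18635, e3 q15049 L225077 q18636, e3 q15050 (flp_f L197045) q10877, e3 q15051 (flp_f L210731) q16906, e3 q15052 L197053 q10881, e3 q15053 (flp_f L219874) q18026, e3 q15054 (flp_f L225105) q18641, e3 q15055 L225129 q18645, e3 q15056 (flp_f L197073) q10882, e3 q15057 (flp_f L202949) q15937, e3 q15058 L197091 q11543, e3 q15059 L225165 q18650, e3 q15060 L225171 q18651, e3 q15061 (flp_f L197099) q10887, e3 q15062 L197107 q10894, e3 q15063 (flp_f L220504) q18114, e3 q15064 L219946 q18036, e3 q15065 (flp_f L213317) q17263, e3 q15066 (flp_f L204099) q16118, e3 q15067 L197131 q15067, e3 q15068 L197140 q15068, e3 q15069 (flp_f L197573) q15133, e3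 q15070 L197149 q10916, e3 q15071 L197155 q15071, e3 q15072 L197158 q15072, e3 q15073 (flp_f L197661) q15145, e3 q15074 (flp_f L197645) q15142, e3 q15075 (flp_f L197653) q15143, e3 q15076 (flp_f L197180) q10966, e3 q15077 (flp_f L197182) q10911, e3 q15078 (flp_f L197581) q15134, e3 q15079 (flp_f L197205) q10971, e3 q15080 (flp_f L220278) q18081, e3 q15081 (flp_f L197218) q10972, e3 q15082 L197222 q10999, e3 q15083 (flp_f L197669) q15146, e3 q15084 (flp_f L197232) q10918, e3 q15085 L225299 q18673, e3 q15086 (flp_f L197247) q10920, e3 q15087 L197257 q10940, e3 q15088 L197269 q14297, e3 q15089 L197277 q15038, e3 q15090 L225341 q18679, e3 q15091 L220356 q18091, e3 q15092 (flp_f L220346) q18090, e3 q15093 L225359 q18684, e3 q15094 (flp_f L197295) q10929, e3 q15095 L197847 q15179, e3 q15096 (flp_f L197305) q10930, e3 q15097 (flp_f L219936) q18035, e3 q15098 L225375 q18687, e3 q15099 (flp_f L197321) q10934, e3 q15100 (flp_f L209229) q16728, e3 q15101 (flp_f L197333) q10937, e3 q15102 (flp_f L197337) q10938, e3 q15103 (flp_f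 L225309) q18674, trivial⟩ (by decide +kernel)

theorem ce_f_236 : ∀ r, r < 64 → sm gf (Qf (15104 + r)) = Qf (tab Gen.f (15104 + r)) :=
  edges_tab (sm gf) Qf (tab Gen.f) 15104 [(15104, 15047), (15105, 18675), (15106, 15212), (15107, 18697), (15108, 14708), (15109, 11263), (15110, 11267), (15111, 11521), (15112, 18620), (15113, 16335), (15114, 10948), (15115, 16571), (15116, 10949), (15117, 16577), (15118, 10950), (15119, 15623), (15120, 10955), (15121, 15816), (15122, 15823), (15123, 15694), (15124, 10959), (15125, 13238), (15126, 14724), (15127, 15127), (15128, 12612), (15129, 15129), (15130, 11074), (15131, 11466), (15132, 18712), (15133, 15069), (15134, 15078), (15135, 10970), (15136, 18717), (15137, 18722), (15138, 15139), (15139, 15138), (15140, 18668), (15141, 10977), (15142, 15074), (15143, 15075), (15144, 18733), (15145, 15073), (15146, 15083), (15147, 18727), (15148, 13773), (15149, 18740), (15150, 10979), (15151, 16897), (15152, 18203), (15153, 14406), (15154, 18253), (15155, 15471), (15156, 11203), (15157,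 18747), (15158, 15177), (15159, 18752), (15160, 18753), (15161, 10989), (15162, 18254), (15163, 18758), (15164, 14420), (15165, 17991), (15166, 18763), (15167, 10993)]
    ⟨e3 q15104 (flp_f L197351) q15047, e3 q15105 (flp_f L225317) q18675, e3 q15106 (flp_f L198019) q15212, e3 q15107 L225419 q18697, e3 q15108 L197371 q14708, e3 q15109 L197377 q11263, e3 q15110 L197385 q11267, e3 q15111 L197393 q11521, e3 q15112 L224967 q18620, e3 q15113 (flp_f L205830) q16335, e3 q15114 (flp_f L197411) q10948, e3 q15115 L207824 q16571, e3 q15116 (flp_f L197430) q10949, e3 q15117 L207886 q16577, e3 q15118 (flp_f L197447) q10950, e3 q15119 (flp_f L200651) q15623, e3 q15120 (flp_f L197461) q10955, e3 q15121 (flp_f L201988) q15816, e3 q15122 L202036 q15823, e3 q15123 L201179 q15694, e3 q15124 (flp_f L197499) q10959, e3 q15125 L197509 q13238, e3 q15126 (flp_f L197519) q14724, e3 q15127 L197527 q15127, e3 q15128 (flp_f L197540) q12612, e3 q15129 L197546 q15129, e3 q15130 (flp_f L197553) q11074, e3 q15131 L197559 q11466, e3 q15132 (flp_f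 L225562) q18712, e3 q15133 L197573 q15069, e3 q15134 L197581 q15078, e3 q15135 L197591 q10970, e3 q15136 (flp_f L225603) q18717, e3 q15137 L225647 q18722, e3 q15138 (flp_f L197621) q15139, e3 q15139 L197621 q15138, e3 q15140 L225275 q18668, e3 q15141 L197637 q10977, e3 q15142 L197645 q15074, e3 q15143 L197653 q15075, e3 q15144 L225747 q18733, e3 q15145 L197661 q15073, e3 q15146 L197669 q15083, e3 q15147 (flp_f L225689) q18727, e3 q15148 (flp_f L197685) q13773, e3 q15149 L225791 q18740, e3 q15150 (flp_f L197693) q10979, e3 q15151 L210651 q16897, e3 q15152 (flp_f L221213) q18203, e3 q15153 L197721 q14406, e3 q15154 (flp_f L221584) q18253, e3 q15155 L199626 q15471, e3 q15156 (flp_f L197743) q11203, e3 q15157 L225837 q18747, e3 q15158 L197833 q15177, e3 q15159 L225861 q18752, e3 q15160 L225869 q18753, e3 q15161 (flp_f L197763) q10989, e3 q15162 (flp_f L221590) q18254, e3 q15163 L225891 q18758, e3 q15164 (flp_f L197783) q14420, e3 q15165 L219642 q17991, e3 q15166 L225919 q18763, e3 q15167 (flp_f L197791) q10993, trivial⟩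 (by decide +kernel)

theorem ce_f_237 : ∀ r, r < 64 → sm gf (Qf (15168 + r)) = Qf (tab Gen.f (15168 + r)) :=
  edges_tab (sm gf) Qf (tab Gen.f) 15168 [(15168, 18767), (15169, 18768), (15170, 10994), (15171, 18765), (15172, 18773), (15173, 18775), (15174, 10996), (15175, 10997), (15176, 18669), (15177, 15158), (15178, 18670), (15179, 15095), (15180, 18788), (15181, 15530), (15182, 14506), (15183, 13720), (15184, 11003), (15185, 16991), (15186, 11180), (15187, 11177), (15188, 13036), (15189, 18795), (15190, 11011), (15191, 18798), (15192, 11018), (15193, 11020), (15194, 11021), (15195, 15204), (15196, 18807), (15197, 18809), (15198, 11015), (15199, 18812), (15200, 18814), (15201, 11017), (15202, 18818), (15203, 18800), (15204, 15195), (15205, 18822), (15206, 18824), (15207, 18802), (15208, 18828), (15209, 18830), (15210, 18833), (15211, 11022), (15212, 15106), (15213, 11023), (15214, 18836), (15215, 12876), (15216, 11314), (15217, 15452), (15218, 16960), (15219, 16575), (15220, 11034), (15221, 18844), (15222, 11035),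 (15223, 18848), (15224, 18849), (15225, 11037), (15226, 11046), (15227, 15880), (15228, 18853), (15229, 11041), (15230, 15239), (15231, 15260)]
    ⟨e3 q15168 L225935 q18767, e3 q15169 L225945 q18768, e3 q15170 (flp_f L197799) q10994, e3 q15171 (flp_f L225929) q18765, e3 q15172 L225971 q18773, e3 q15173 L225975 q18775, e3 q15174 (flp_f L197815) q10996, e3 q15175 (flp_f L197819) q10997, e3 q15176 (flp_f L225281) q18669, e3 q15177 (flp_f L197833) q15158, e3 q15178 (flp_f L225287) q18670, e3 q15179 (flp_f L197847) q15095, e3 q15180 L226049 q18788, e3 q15181 L199983 q15530, e3 q15182 L197863 q14506, e3 q15183 (flp_f L197871) q13720, e3 q15184 (flp_f L197873) q11003, e3 q15185 (flp_f L211356) q16991, e3 q15186 L197893 q11180, e3 q15187 L197901 q11177, e3 q15188 L197909 q13036, e3 q15189 L226083 q18795, e3 q15190 (flp_f L197915) q11011, e3 q15191 L226109 q18798, e3 q15192 L197933 q11018, e3 q15193 L197937 q11020, e3 q15194 L197941 q11021, e3 q15195 (flp_f L197985) q15204, e3 q15196 L226151 q18807, e3 q15197 L226163 q18809,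 e3 q15198 (flp_f L197955) q11015, e3 q15199 L226183 q18812, e3 q15200 L226191 q18814, e3 q15201 (flp_f L197971) q11017, e3 q15202 L226211 q18818, e3 q15203 (flp_f L226121) q18800, e3 q15204 L197985 q15195, e3 q15205 L226233 q18822, e3 q15206 L226257 q18824, e3 q15207 (flp_f L226131) q18802, e3 q15208 L226269 q18828, e3 q15209 L226283 q18830, e3 q15210 L226299 q18833, e3 q15211 (flp_f L198007) q11022, e3 q15212 L198019 q15106, e3 q15213 (flp_f L198021) q11023, e3 q15214 (flp_f L226317) q18836, e3 q15215 L198035 q12876, e3 q15216 L198045 q11314, e3 q15217 (flp_f L199502) q15452, e3 q15218 (flp_f L211111) q16960, e3 q15219 (flp_f L207866) q16575, e3 q15220 (flp_f L198074) q11034, e3 q15221 L226367 q18844, e3 q15222 (flp_f L198083) q11035, e3 q15223 L226397 q18848, e3 q15224 L226401 q18849, e3 q15225 (flp_f L198097) q11037, e3 q15226 L198107 q11046, e3 q15227 L202484 q15880, e3 q15228 L226423 q18853, e3 q15229 (flp_f L198117) q11041, e3 q15230 (flp_f L198183) q15239, e3 q15231 L198344 q15260, trivial⟩ (by decide +kernel)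

theorem ce_f_238 : ∀ r, r < 64 → sm gf (Qf (15232 + r)) = Qf (tab Gen.f (15232 + r)) :=
  edges_tab (sm gf) Qf (tab Gen.f) 15232 [(15232, 15262), (15233, 17374), (15234, 18777), (15235, 18860), (15236, 11043), (15237, 11044), (15238, 18850), (15239, 15230), (15240, 15293), (15241, 17672), (15242, 13817), (15243, 18867), (15244, 18869), (15245, 11048), (15246, 13818), (15247, 11054), (15248, 18871), (15249, 18873), (15250, 11051), (15251, 11052), (15252, 18870), (15253, 15266), (15254, 11062), (15255, 18880), (15256, 11055), (15257, 18882), (15258, 11056), (15259, 17359), (15260, 15231), (15261, 15261), (15262, 15232), (15263, 15263), (15264, 15278), (15265, 18878), (15266, 15253), (15267, 18879), (15268, 18177), (15269, 11427), (15270, 12552), (15271, 12562), (15272, 15272), (15273, 16536), (15274, 15274), (15275, 16542), (15276, 15276), (15277, 15277), (15278, 15264), (15279, 12228), (15280, 17750), (15281, 18908), (15282, 11079), (15283, 11084), (15284, 11089), (15285, 11090), (15286, 13226), (15287, 11093),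 (15288, 11094), (15289, 15303), (15290, 15304), (15291, 18909), (15292, 16533), (15293, 15240), (15294, 18920), (15295, 11085)]
    ⟨e3 q15232 L198361 q15262, e3 q15233 L222781 q17374, e3 q15234 L225991 q18777, e3 q15235 L226477 q18860, e3 q15236 (flp_f L198165) q11043, e3 q15237 (flp_f L198169) q11044, e3 q15238 (flp_f L226411) q18850, e3 q15239 L198183 q15230, e3 q15240 (flp_f L198559) q15293, e3 q15241 L216877 q17672, e3 q15242 (flp_f L198208) q13817, e3 q15243 L226517 q18867, e3 q15244 L226539 q18869, e3 q15245 (flp_f L198224) q11048, e3 q15246 (flp_f L198232) q13818, e3 q15247 L198238 q11054, e3 q15248 L226555 q18871, e3 q15249 L226563 q18873, e3 q15250 (flp_f L198252) q11051, e3 q15251 (flp_f L198262) q11052, e3 q15252 (flp_f L226553) q18870, e3 q15253 L198382 q15266, e3 q15254 L198290 q11062, e3 q15255 L226629 q18880, e3 q15256 (flp_f L198316) q11055, e3 q15257 L226641 q18882, e3 q15258 (flp_f L198330) q11056, e3 q15259 (flp_f L214060) q17359, e3 q15260 (flp_f L198344) q15231, e3 q15261 L198352 q15261, e3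 q15262 (flp_f L198361) q15232, e3 q15263 L198365 q15263, e3 q15264 L198464 q15278, e3 q15265 (flp_f L226615) q18878, e3 q15266 (flp_f L198382) q15253, e3 q15267 L226627 q18879, e3 q15268 (flp_f L221024) q18177, e3 q15269 L198402 q11427, e3 q15270 L198412 q12552, e3 q15271 L198418 q12562, e3 q15272 L198426 q15272, e3 q15273 L207539 q16536, e3 q15274 L198439 q15274, e3 q15275 (flp_f L207599) q16542, e3 q15276 L198448 q15276, e3 q15277 L198455 q15277, e3 q15278 (flp_f L198464) q15264, e3 q15279 L198472 q12228, e3 q15280 (flp_f L217536) q17750, e3 q15281 L226834 q18908, e3 q15282 (flp_f L198482) q11079, e3 q15283 L198496 q11084, e3 q15284 L198502 q11089, e3 q15285 L198510 q11090, e3 q15286 L222842 q13226, e3 q15287 L198520 q11093, e3 q15288 L198528 q11094, e3 q15289 (flp_f L198631) q15303, e3 q15290 (flp_f L198641) q15304, e3 q15291 (flp_f L226846) q18909, e3 q15292 L207511 q16533, e3 q15293 L198559 q15240, e3 q15294 L226910 q18920, e3 q15295 (flp_f L198571) q11085, trivial⟩ (by decide +kernel)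

theorem ce_f_239 : ∀ r, r < 64 → sm gf (Qf (15296 + r)) = Qf (tab Gen.f (15296 + r)) :=
  edges_tab (sm gf) Qf (tab Gen.f) 15296 [(15296, 18922), (15297, 17177), (15298, 11086), (15299, 17738), (15300, 15320), (15301, 18926), (15302, 18911), (15303, 15289), (15304, 15290), (15305, 18933), (15306, 18934), (15307, 11092), (15308, 18913), (15309, 18803), (15310, 18914), (15311, 18939), (15312, 18942), (15313, 11095), (15314, 18945), (15315, 11096), (15316, 18929), (15317, 11097), (15318, 18932), (15319, 11100), (15320, 15300), (15321, 16570), (15322, 13780), (15323, 14276), (15324, 18955), (15325, 11104), (15326, 15430), (15327, 11110), (15328, 18206), (15329, 18958), (15330, 18959), (15331, 18965), (15332, 11111), (15333, 18968), (15334, 11112), (15335, 18971), (15336, 11115), (15337, 18974), (15338, 18975), (15339, 11117), (15340, 18969), (15341, 15342), (15342, 15341), (15343, 16918), (15344, 11121), (15345, 16994), (15346, 12873), (15347, 18983), (15348, 11123), (15349, 18985), (15350, 11124), (15351, 14630),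 (15352, 11125), (15353, 15359), (15354, 18991), (15355, 18992), (15356, 11128), (15357, 11143), (15358, 11132), (15359, 15353)]
    ⟨e3 q15296 L226928 q18922, e3 q15297 (flp_f L212747) q17177, e3 q15298 (flp_f L198595) q11086, e3 q15299 (flp_f L217420) q17738, e3 q15300 (flp_f L198767) q15320, e3 q15301 L226966 q18926, e3 q15302 (flp_f L226858) q18911, e3 q15303 L198631 q15289, e3 q15304 L198641 q15290, e3 q15305 L227034 q18933, e3 q15306 L227044 q18934, e3 q15307 (flp_f L198655) q11092, e3 q15308 (flp_f L226878) q18913, e3 q15309 L226139 q18803, e3 q15310 (flp_f L226884) q18914, e3 q15311 L227080 q18939, e3 q15312 L227100 q18942, e3 q15313 (flp_f L198709) q11095, e3 q15314 L227127 q18945, e3 q15315 (flp_f L198726) q11096, e3 q15316 (flp_f L226996) q18929, e3 q15317 (flp_f L198741) q11097, e3 q15318 L227032 q18932, e3 q15319 L198757 q11100, e3 q15320 L198767 q15300, e3 q15321 L207812 q16570, e3 q15322 L198781 q13780, e3 q15323 L198791 q14276, e3 q15324 L227200 q18955, e3 q15325 (flp_f L198799) q11104, e3 q15326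 L199365 q15430, e3 q15327 L198821 q11110, e3 q15328 (flp_f L221235) q18206, e3 q15329 (flp_f L227224) q18958, e3 q15330 (flp_f L227234) q18959, e3 q15331 L227262 q18965, e3 q15332 (flp_f L198839) q11111, e3 q15333 L227276 q18968, e3 q15334 (flp_f L198849) q11112, e3 q15335 L227296 q18971, e3 q15336 (flp_f L198859) q11115, e3 q15337 L227312 q18974, e3 q15338 L227322 q18975, e3 q15339 (flp_f L198873) q11117, e3 q15340 (flp_f L227288) q18969, e3 q15341 L198895 q15342, e3 q15342 (flp_f L198895) q15341, e3 q15343 L210819 q16918, e3 q15344 (flp_f L198909) q11121, e3 q15345 L211386 q16994, e3 q15346 (flp_f L198938) q12873, e3 q15347 L227395 q18983, e3 q15348 (flp_f L198944) q11123, e3 q15349 L227451 q18985, e3 q15350 (flp_f L198957) q11124, e3 q15351 L222214 q14630, e3 q15352 (flp_f L198966) q11125, e3 q15353 (flp_f L199002) q15359, e3 q15354 L227500 q18991, e3 q15355 L227512 q18992, e3 q15356 (flp_f L198984) q11128, e3 q15357 L198990 q11143, e3 q15358 L198996 q11132, e3 q15359 L199002 q15353, trivial⟩ (by decide +kernel)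

theorem ce_f_240 : ∀ r, r < 64 → sm gf (Qf (15360 + r)) = Qf (tab Gen.f (15360 + r)) :=
  edges_tab (sm gf) Qf (tab Gen.f) 15360 [(15360, 14396), (15361, 18995), (15362, 14397), (15363, 14202), (15364, 19003), (15365, 19007), (15366, 11135), (15367, 17959), (15368, 19011), (15369, 19014), (15370, 11138), (15371, 15378), (15372, 15418), (15373, 15957), (15374, 19019), (15375, 11140), (15376, 11141), (15377, 18993), (15378, 15371), (15379, 18994), (15380, 11147), (15381, 11149), (15382, 15385), (15383, 19032), (15384, 19028), (15385, 15382), (15386, 18434), (15387, 18439), (15388, 18281), (15389, 18266), (15390, 11150), (15391, 11161), (15392, 15496), (15393, 19042), (15394, 11154), (15395, 15401), (15396, 19046), (15397, 19048), (15398, 11155), (15399, 19052), (15400, 11160), (15401, 15395), (15402, 11157), (15403, 11158), (15404, 19050), (15405, 15422), (15406, 19053), (15407, 11169), (15408, 19038), (15409, 19068), (15410, 19070), (15411, 11162), (15412, 15513), (15413, 19074), (15414, 11163), (15415, 19072),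 (15416, 11334), (15417, 15417), (15418, 15372), (15419, 15419), (15420, 15460), (15421, 19059), (15422, 15405), (15423, 19061)]
    ⟨e3 q15360 (flp_f L199012) q14396, e3 q15361 (flp_f L227532) q18995, e3 q15362 L199026 q14397, e3 q15363 L199034 q14202, e3 q15364 L227580 q19003, e3 q15365 L227598 q19007, e3 q15366 (flp_f L199044) q11135, e3 q15367 (flp_f L219426) q17959, e3 q15368 L227632 q19011, e3 q15369 L227644 q19014, e3 q15370 (flp_f L199064) q11138, e3 q15371 (flp_f L199307) q15378, e3 q15372 L199278 q15418, e3 q15373 (flp_f L223821) q15957, e3 q15374 L227682 q19019, e3 q15375 (flp_f L199084) q11140, e3 q15376 (flp_f L199092) q11141, e3 q15377 (flp_f L227520) q18993, e3 q15378 L199307 q15371, e3 q15379 (flp_f L227524) q18994, e3 q15380 L199112 q11147, e3 q15381 L199116 q11149, e3 q15382 (flp_f L199138) q15385, e3 q15383 L227760 q19032, e3 q15384 (flp_f L227732) q19028, e3 q15385 L199138 q15382, e3 q15386 (flp_f L223335) q18434, e3 q15387 (flp_f L223371) q18439, e3 q15388 (flp_f L221768) q18281, e3 q15389 (flp_f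 L221676) q18266, e3 q15390 (flp_f L199152) q11150, e3 q15391 L199162 q11161, e3 q15392 (flp_f L199783) q15496, e3 q15393 L227825 q19042, e3 q15394 (flp_f L199173) q11154, e3 q15395 L199201 q15401, e3 q15396 L227855 q19046, e3 q15397 L227867 q19048, e3 q15398 (flp_f L199187) q11155, e3 q15399 L227887 q19052, e3 q15400 L199197 q11160, e3 q15401 (flp_f L199201) q15395, e3 q15402 (flp_f L199203) q11157, e3 q15403 (flp_f L199209) q11158, e3 q15404 (flp_f L227879) q19050, e3 q15405 L199297 q15422, e3 q15406 (flp_f L227897) q19053, e3 q15407 (flp_f L199295) q11169, e3 q15408 (flp_f L227804) q19038, e3 q15409 L227980 q19068, e3 q15410 L227996 q19070, e3 q15411 (flp_f L199241) q11162, e3 q15412 (flp_f L230892) q15513, e3 q15413 L228026 q19074, e3 q15414 (flp_f L199249) q11163, e3 q15415 (flp_f L228008) q19072, e3 q15416 (flp_f L199265) q11334, e3 q15417 L199271 q15417, e3 q15418 (flp_f L199278) q15372, e3 q15419 L199282 q15419, e3 q15420 L199550 q15460, e3 q15421 (flp_f L227933) q19059, e3 q15422 (flp_f L199297) q15405,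 e3 q15423 L227945 q19061, trivial⟩ (by decide +kernel)

theorem ce_f_241 : ∀ r, r < 64 → sm gf (Qf (15424 + r)) = Qf (tab Gen.f (15424 + r)) :=
  edges_tab (sm gf) Qf (tab Gen.f) 15424 [(15424, 19063), (15425, 18233), (15426, 16922), (15427, 11171), (15428, 11185), (15429, 11186), (15430, 15326), (15431, 18023), (15432, 11182), (15433, 14433), (15434, 18227), (15435, 18793), (15436, 18230), (15437, 14435), (15438, 19098), (15439, 14436), (15440, 19092), (15441, 19093), (15442, 19094), (15443, 18034), (15444, 19117), (15445, 11188), (15446, 11189), (15447, 11192), (15448, 14878), (15449, 12923), (15450, 12549), (15451, 19118), (15452, 15217), (15453, 15453), (15454, 18224), (15455, 15455), (15456, 18226), (15457, 14419), (15458, 15458), (15459, 15459), (15460, 15420), (15461, 15472), (15462, 18209), (15463, 19135), (15464, 11200), (15465, 19138), (15466, 11201), (15467, 18744), (15468, 19142), (15469, 19146), (15470, 11204), (15471, 15155), (15472, 15461), (15473, 19153), (15474, 11207), (15475, 11212), (15476, 11227),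 (15477, 19155), (15478, 11232), (15479, 11550), (15480, 15507), (15481, 19154), (15482, 19150), (15483, 19143), (15484, 15494), (15485, 19166), (15486, 11214), (15487, 18757)]
    ⟨e3 q15424 L227955 q19063, e3 q15425 L221422 q18233, e3 q15426 L210847 q16922, e3 q15427 (flp_f L199337) q11171, e3 q15428 L199349 q11185, e3 q15429 L199355 q11186, e3 q15430 (flp_f L199365) q15326, e3 q15431 L219852 q18023, e3 q15432 L199379 q11182, e3 q15433 L199387 q14433, e3 q15434 (flp_f L221370) q18227, e3 q15435 (flp_f L226077) q18793, e3 q15436 (flp_f L221394) q18230, e3 q15437 (flp_f L199405) q14435, e3 q15438 (flp_f L228172) q19098, e3 q15439 (flp_f L199415) q14436, e3 q15440 (flp_f L228136) q19092, e3 q15441 (flp_f L228142) q19093, e3 q15442 (flp_f L228146) q19094, e3 q15443 (flp_f L219926) q18034, e3 q15444 L228284 q19117, e3 q15445 (flp_f L199433) q11188, e3 q15446 (flp_f L199440) q11189, e3 q15447 L199457 q11192, e3 q15448 (flp_f L199470) q14878, e3 q15449 L199478 q12923, e3 q15450 L199488 q12549, e3 q15451 (flp_f L228298)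 q19118, e3 q15452 L199502 q15217, e3 q15453 L199510 q15453, e3 q15454 L221351 q18224, e3 q15455 L199519 q15455, e3 q15456 L221364 q18226, e3 q15457 L199528 q14419, e3 q15458 L199534 q15458, e3 q15459 L199541 q15459, e3 q15460 (flp_f L199550) q15420, e3 q15461 L199634 q15472, e3 q15462 (flp_f L221261) q18209, e3 q15463 L228449 q19135, e3 q15464 (flp_f L199570) q11200, e3 q15465 L228471 q19138, e3 q15466 (flp_f L199586) q11201, e3 q15467 L225819 q18744, e3 q15468 L228497 q19142, e3 q15469 L228529 q19146, e3 q15470 (flp_f L199612) q11204, e3 q15471 (flp_f L199626) q15155, e3 q15472 (flp_f L199634) q15461, e3 q15473 L228573 q19153, e3 q15474 (flp_f L199640) q11207, e3 q15475 L199652 q11212, e3 q15476 L199658 q11227, e3 q15477 L228587 q19155, e3 q15478 L199668 q11232, e3 q15479 (flp_f L199676) q11550, e3 q15480 (flp_f L199839) q15507, e3 q15481 (flp_f L228585) q19154, e3 q15482 L228563 q19150, e3 q15483 (flp_f L228513) q19143, e3 q15484 L199754 q15494, e3 q15485 L228657 q19166, e3 q15486 (flp_f L199712) q11214, e3 q15487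 (flp_f L225889) q18757, trivial⟩ (by decide +kernel)

theorem ce_f_242 : ∀ r, r < 64 → sm gf (Qf (15488 + r)) = Qf (tab Gen.f (15488 + r)) :=
  edges_tab (sm gf) Qf (tab Gen.f) 15488 [(15488, 19170), (15489, 11216), (15490, 19172), (15491, 19173), (15492, 11218), (15493, 18313), (15494, 15484), (15495, 15040), (15496, 15392), (15497, 19179), (15498, 11223), (15499, 15504), (15500, 19183), (15501, 19185), (15502, 11224), (15503, 19189), (15504, 15499), (15505, 15526), (15506, 11226), (15507, 15480), (15508, 19196), (15509, 19198), (15510, 19200), (15511, 11229), (15512, 18628), (15513, 15412), (15514, 19206), (15515, 11231), (15516, 19016), (15517, 19210), (15518, 19213), (15519, 11233), (15520, 19216), (15521, 11234), (15522, 15983), (15523, 11235), (15524, 19195), (15525, 11238), (15526, 15505), (15527, 19219), (15528, 12888), (15529, 12886), (15530, 15181), (15531, 15023), (15532, 19227), (15533, 11243), (15534, 15551), (15535, 11523), (15536, 11244), (15537, 19231), (15538, 19234), (15539, 19235), (15540, 19236),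 (15541, 11248), (15542, 15648), (15543, 17437), (15544, 16861), (15545, 11250), (15546, 18379), (15547, 15932), (15548, 11251), (15549, 19226), (15550, 11252), (15551, 15534)]
    ⟨e3 q15488 L228693 q19170, e3 q15489 (flp_f L199726) q11216, e3 q15490 L228707 q19172, e3 q15491 L228713 q19173, e3 q15492 (flp_f L199740) q11218, e3 q15493 (flp_f L222036) q18313, e3 q15494 (flp_f L199754) q15484, e3 q15495 L199760 q15040, e3 q15496 L199783 q15392, e3 q15497 L228754 q19179, e3 q15498 (flp_f L199775) q11223, e3 q15499 L199815 q15504, e3 q15500 L228788 q19183, e3 q15501 L228800 q19185, e3 q15502 (flp_f L199803) q11224, e3 q15503 L228824 q19189, e3 q15504 (flp_f L199815) q15499, e3 q15505 (flp_f L199951) q15526, e3 q15506 (flp_f L199823) q11226, e3 q15507 L199839 q15480, e3 q15508 L228878 q19196, e3 q15509 L228894 q19198, e3 q15510 L228906 q19200, e3 q15511 (flp_f L199857) q11229, e3 q15512 (flp_f L225007) q18628, e3 q15513 L230892 q15412, e3 q15514 L228955 q19206, e3 q15515 (flp_f L199875) q11231, e3 q15516 (flp_f L227662)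 q19016, e3 q15517 L228993 q19210, e3 q15518 L229013 q19213, e3 q15519 (flp_f L199891) q11233, e3 q15520 L229036 q19216, e3 q15521 (flp_f L199910) q11234, e3 q15522 (flp_f L222232) q15983, e3 q15523 (flp_f L199925) q11235, e3 q15524 L228870 q19195, e3 q15525 L199941 q11238, e3 q15526 L199951 q15505, e3 q15527 (flp_f L229064) q19219, e3 q15528 L199965 q12888, e3 q15529 L199973 q12886, e3 q15530 (flp_f L199983) q15181, e3 q15531 L199991 q15023, e3 q15532 L229122 q19227, e3 q15533 (flp_f L200001) q11243, e3 q15534 L200137 q15551, e3 q15535 (flp_f L200031) q11523, e3 q15536 (flp_f L200033) q11244, e3 q15537 L229156 q19231, e3 q15538 L229178 q19234, e3 q15539 L229186 q19235, e3 q15540 L229198 q19236, e3 q15541 (flp_f L200063) q11248, e3 q15542 (flp_f L200856) q15648, e3 q15543 L214906 q17437, e3 q15544 (flp_f L210345) q16861, e3 q15545 (flp_f L200089) q11250, e3 q15546 L222964 q18379, e3 q15547 L202915 q15932, e3 q15548 (flp_f L200111) q11251, e3 q15549 (flp_f L229120) q19226, e3 q15550 (flp_f L200125) q11252, e3 q15551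 (flp_f L200137) q15534, trivial⟩ (by decide +kernel)

theorem ce_f_243 : ∀ r, r < 64 → sm gf (Qf (15552 + r)) = Qf (tab Gen.f (15552 + r)) :=
  edges_tab (sm gf) Qf (tab Gen.f) 15552 [(15552, 15639), (15553, 11330), (15554, 14340), (15555, 14383), (15556, 19251), (15557, 19252), (15558, 11257), (15559, 19243), (15560, 15798), (15561, 11275), (15562, 19259), (15563, 11260), (15564, 16746), (15565, 15616), (15566, 15579), (15567, 18699), (15568, 15627), (15569, 15629), (15570, 12284), (15571, 18700), (15572, 12608), (15573, 11271), (15574, 16208), (15575, 16506), (15576, 11272), (15577, 19270), (15578, 11273), (15579, 15566), (15580, 19257), (15581, 19254), (15582, 19276), (15583, 11276), (15584, 19281), (15585, 16085), (15586, 11278), (15587, 15775), (15588, 15644), (15589, 19285), (15590, 19286), (15591, 11283), (15592, 16327), (15593, 19291), (15594, 19294), (15595, 19296), (15596, 11285), (15597, 11286), (15598, 16097), (15599, 13816), (15600, 12285), (15601, 11289), (15602, 15606), (15603, 11292), (15604, 18479),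 (15605, 11460), (15606, 15602), (15607, 11452), (15608, 11295), (15609, 15840), (15610, 16924), (15611, 11685), (15612, 19303), (15613, 11305), (15614, 19304), (15615, 13349)]
    ⟨e3 q15552 (flp_f L200797) q15639, e3 q15553 L200151 q11330, e3 q15554 L200159 q14340, e3 q15555 L200165 q14383, e3 q15556 L229332 q19251, e3 q15557 L229342 q19252, e3 q15558 (flp_f L200179) q11257, e3 q15559 (flp_f L229264) q19243, e3 q15560 L201864 q15798, e3 q15561 (flp_f L200202) q11275, e3 q15562 L229402 q19259, e3 q15563 (flp_f L200211) q11260, e3 q15564 (flp_f L209385) q16746, e3 q15565 L200595 q15616, e3 q15566 L200327 q15579, e3 q15567 (flp_f L225445) q18699, e3 q15568 (flp_f L200681) q15627, e3 q15569 L200699 q15629, e3 q15570 L200267 q12284, e3 q15571 (flp_f L225455) q18700, e3 q15572 L200283 q12608, e3 q15573 (flp_f L200285) q11271, e3 q15574 L204740 q16208, e3 q15575 L207289 q16506, e3 q15576 (flp_f L200303) q11272, e3 q15577 L229502 q19270, e3 q15578 (flp_f L200317) q11273, e3 q15579 (flp_f L200327) q15566, e3 q15580 (flp_f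 L229388) q19257, e3 q15581 (flp_f L229362) q19254, e3 q15582 L229550 q19276, e3 q15583 (flp_f L200345) q11276, e3 q15584 L229608 q19281, e3 q15585 L203891 q16085, e3 q15586 (flp_f L200363) q11278, e3 q15587 (flp_f L201688) q15775, e3 q15588 L200823 q15644, e3 q15589 L229636 q19285, e3 q15590 L229646 q19286, e3 q15591 (flp_f L200387) q11283, e3 q15592 (flp_f L205773) q16327, e3 q15593 L229682 q19291, e3 q15594 L229720 q19294, e3 q15595 L229734 q19296, e3 q15596 (flp_f L200413) q11285, e3 q15597 (flp_f L200417) q11286, e3 q15598 L203963 q16097, e3 q15599 L200433 q13816, e3 q15600 (flp_f L200447) q12285, e3 q15601 (flp_f L200449) q11289, e3 q15602 L200503 q15606, e3 q15603 (flp_f L200467) q11292, e3 q15604 L223673 q18479, e3 q15605 (flp_f L200493) q11460, e3 q15606 (flp_f L200503) q15602, e3 q15607 (flp_f L200513) q11452, e3 q15608 (flp_f L200515) q11295, e3 q15609 (flp_f L202144) q15840, e3 q15610 (flp_f L210863) q16924, e3 q15611 L200543 q11685, e3 q15612 L229812 q19303, e3 q15613 L200565 q11305, e3 q15614 (flp_f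 L229832) q19304, e3 q15615 L200583 q13349, trivial⟩ (by decide +kernel)

theorem ce_f_244 : ∀ r, r < 64 → sm gf (Qf (15616 + r)) = Qf (tab Gen.f (15616 + r)) :=
  edges_tab (sm gf) Qf (tab Gen.f) 15616 [(15616, 15565), (15617, 19306), (15618, 11306), (15619, 17186), (15620, 11308), (15621, 11309), (15622, 19309), (15623, 15119), (15624, 19310), (15625, 19314), (15626, 11310), (15627, 15568), (15628, 18161), (15629, 15569), (15630, 11317), (15631, 11319), (15632, 14535), (15633, 19318), (15634, 14875), (15635, 14976), (15636, 11320), (15637, 11569), (15638, 14207), (15639, 15552), (15640, 19325), (15641, 11323), (15642, 16470), (15643, 19331), (15644, 15588), (15645, 11324), (15646, 15928), (15647, 11364), (15648, 15542), (15649, 15654), (15650, 19336), (15651, 19338), (15652, 11328), (15653, 19239), (15654, 15649), (15655, 11537), (15656, 15762), (15657, 19343), (15658, 19345), (15659, 19349), (15660, 11333), (15661, 19353), (15662, 19076), (15663, 19356), (15664, 11335), (15665, 19351), (15666, 18491), (15667,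 18494), (15668, 18495), (15669, 19369), (15670, 13795), (15671, 17578), (15672, 14665), (15673, 18497), (15674, 19370), (15675, 11341), (15676, 11345), (15677, 15681), (15678, 18348), (15679, 14822)]
    ⟨e3 q15616 (flp_f L200595) q15565, e3 q15617 L229848 q19306, e3 q15618 (flp_f L200603) q11306, e3 q15619 (flp_f L212805) q17186, e3 q15620 L200621 q11308, e3 q15621 L200627 q11309, e3 q15622 (flp_f L229888) q19309, e3 q15623 L200651 q15119, e3 q15624 (flp_f L229896) q19310, e3 q15625 L229930 q19314, e3 q15626 (flp_f L200667) q11310, e3 q15627 L200681 q15568, e3 q15628 L220880 q18161, e3 q15629 (flp_f L200699) q15569, e3 q15630 L200709 q11317, e3 q15631 L200715 q11319, e3 q15632 L200729 q14535, e3 q15633 (flp_f L229976) q19318, e3 q15634 (flp_f L200743) q14875, e3 q15635 (flp_f L200757) q14976, e3 q15636 (flp_f L200761) q11320, e3 q15637 L200779 q11569, e3 q15638 L200789 q14207, e3 q15639 L200797 q15552, e3 q15640 L230028 q19325, e3 q15641 (flp_f L200803) q11323, e3 q15642 (flp_f L207004) q16470, e3 q15643 L230078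 q19331, e3 q15644 (flp_f L200823) q15588, e3 q15645 (flp_f L200825) q11324, e3 q15646 (flp_f L202876) q15928, e3 q15647 L200847 q11364, e3 q15648 L200856 q15542, e3 q15649 L200890 q15654, e3 q15650 L230128 q19336, e3 q15651 L230152 q19338, e3 q15652 (flp_f L200872) q11328, e3 q15653 (flp_f L229228) q19239, e3 q15654 (flp_f L200890) q15649, e3 q15655 L223801 q11537, e3 q15656 L201602 q15762, e3 q15657 L230194 q19343, e3 q15658 L230208 q19345, e3 q15659 L230226 q19349, e3 q15660 (flp_f L200914) q11333, e3 q15661 L230248 q19353, e3 q15662 L228042 q19076, e3 q15663 L230272 q19356, e3 q15664 (flp_f L200934) q11335, e3 q15665 (flp_f L230242) q19351, e3 q15666 (flp_f L223759) q18491, e3 q15667 (flp_f L223787) q18494, e3 q15668 (flp_f L223849) q18495, e3 q15669 L230348 q19369, e3 q15670 L200962 q13795, e3 q15671 (flp_f L216183) q17578, e3 q15672 L200984 q14665, e3 q15673 (flp_f L223861) q18497, e3 q15674 L230358 q19370, e3 q15675 (flp_f L201008) q11341, e3 q15676 L201024 q11345, e3 q15677 (flp_f L201082) q15681, e3 q15678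 L222349 q18348, e3 q15679 L201050 q14822, trivial⟩ (by decide +kernel)

theorem ce_f_245 : ∀ r, r < 64 → sm gf (Qf (15680 + r)) = Qf (tab Gen.f (15680 + r)) :=
  edges_tab (sm gf) Qf (tab Gen.f) 15680 [(15680, 14824), (15681, 15677), (15682, 19373), (15683, 17284), (15684, 17918), (15685, 17505), (15686, 18536), (15687, 11349), (15688, 11350), (15689, 19377), (15690, 19267), (15691, 11352), (15692, 16086), (15693, 11353), (15694, 15123), (15695, 19381), (15696, 19384), (15697, 15828), (15698, 15703), (15699, 14208), (15700, 11357), (15701, 15878), (15702, 11363), (15703, 15698), (15704, 19328), (15705, 11360), (15706, 19386), (15707, 19332), (15708, 15789), (15709, 15787), (15710, 11412), (15711, 11384), (15712, 18613), (15713, 16033), (15714, 19397), (15715, 11367), (15716, 15725), (15717, 18360), (15718, 19402), (15719, 19405), (15720, 11370), (15721, 19409), (15722, 11371), (15723, 19411), (15724, 11381), (15725, 15716), (15726, 11373), (15727, 12805), (15728, 19416), (15729, 19418), (15730, 11377), (15731, 15954),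 (15732, 19420), (15733, 11378), (15734, 19419), (15735, 19412), (15736, 19423), (15737, 18501), (15738, 11383), (15739, 19393), (15740, 19394), (15741, 19429), (15742, 19431), (15743, 19181)]
    ⟨e3 q15680 L201072 q14824, e3 q15681 L201082 q15677, e3 q15682 L230393 q19373, e3 q15683 (flp_f L213473) q17284, e3 q15684 (flp_f L219036) q17918, e3 q15685 (flp_f L215560) q17505, e3 q15686 (flp_f L224207) q18536, e3 q15687 (flp_f L201121) q11349, e3 q15688 (flp_f L201129) q11350, e3 q15689 (flp_f L230438) q19377, e3 q15690 (flp_f L229490) q19267, e3 q15691 (flp_f L201145) q11352, e3 q15692 L203901 q16086, e3 q15693 (flp_f L201159) q11353, e3 q15694 (flp_f L201179) q15123, e3 q15695 (flp_f L230470) q19381, e3 q15696 L230494 q19384, e3 q15697 (flp_f L202064) q15828, e3 q15698 L201259 q15703, e3 q15699 (flp_f L201229) q14208, e3 q15700 (flp_f L201231) q11357, e3 q15701 L202464 q15878, e3 q15702 L201249 q11363, e3 q15703 (flp_f L201259) q15698, e3 q15704 (flp_f L230058) q19328, e3 q15705 (flp_f L201268) q11360, e3 q15706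 (flp_f L230524) q19386, e3 q15707 (flp_f L230093) q19332, e3 q15708 L201794 q15789, e3 q15709 (flp_f L201778) q15787, e3 q15710 (flp_f L201310) q11412, e3 q15711 L201314 q11384, e3 q15712 (flp_f L224897) q18613, e3 q15713 L203533 q16033, e3 q15714 L230624 q19397, e3 q15715 (flp_f L201340) q11367, e3 q15716 L201396 q15725, e3 q15717 (flp_f L222445) q18360, e3 q15718 L230660 q19402, e3 q15719 L230676 q19405, e3 q15720 (flp_f L201366) q11370, e3 q15721 L230692 q19409, e3 q15722 (flp_f L201374) q11371, e3 q15723 L230712 q19411, e3 q15724 L201390 q11381, e3 q15725 (flp_f L201396) q15716, e3 q15726 (flp_f L201398) q11373, e3 q15727 (flp_f L201410) q12805, e3 q15728 L230749 q19416, e3 q15729 L230770 q19418, e3 q15730 (flp_f L201420) q11377, e3 q15731 (flp_f L230887) q15954, e3 q15732 L230794 q19420, e3 q15733 (flp_f L201434) q11378, e3 q15734 (flp_f L230778) q19419, e3 q15735 (flp_f L230728) q19412, e3 q15736 L230976 q19423, e3 q15737 (flp_f L223897) q18501, e3 q15738 (flp_f L201468) q11383, e3 q15739 (flp_f L230588) q19393,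 e3 q15740 (flp_f L230598) q19394, e3 q15741 L231032 q19429, e3 q15742 L231040 q19431, e3 q15743 L228782 q19181, trivial⟩ (by decide +kernel)

theorem ce_f_246 : ∀ r, r < 64 → sm gf (Qf (15744 + r)) = Qf (tab Gen.f (15744 + r)) :=
  edges_tab (sm gf) Qf (tab Gen.f) 15744 [(15744, 11385), (15745, 15754), (15746, 19436), (15747, 19439), (15748, 11386), (15749, 19442), (15750, 19177), (15751, 11387), (15752, 19446), (15753, 11394), (15754, 15745), (15755, 11389), (15756, 19449), (15757, 11390), (15758, 19130), (15759, 19452), (15760, 11392), (15761, 19444), (15762, 15656), (15763, 15763), (15764, 15955), (15765, 19457), (15766, 19459), (15767, 19461), (15768, 11397), (15769, 19463), (15770, 11398), (15771, 11399), (15772, 14585), (15773, 14893), (15774, 18124), (15775, 15587), (15776, 11408), (15777, 13160), (15778, 11411), (15779, 17266), (15780, 19465), (15781, 19466), (15782, 19471), (15783, 19473), (15784, 13173), (15785, 13869), (15786, 19391), (15787, 15709), (15788, 19390), (15789, 15708), (15790, 11413), (15791,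 11414), (15792, 11647), (15793, 13456), (15794, 16109), (15795, 11443), (15796, 11444), (15797, 11445), (15798, 15560), (15799, 17786), (15800, 18085), (15801, 15801), (15802, 15802), (15803, 11435), (15804, 11431), (15805, 11432), (15806, 11433), (15807, 17262)]
    ⟨e3 q15744 (flp_f L201504) q11385, e3 q15745 L201556 q15754, e3 q15746 L231076 q19436, e3 q15747 L231090 q19439, e3 q15748 (flp_f L201524) q11386, e3 q15749 L231106 q19442, e3 q15750 (flp_f L228746) q19177, e3 q15751 (flp_f L201536) q11387, e3 q15752 L231142 q19446, e3 q15753 L201550 q11394, e3 q15754 (flp_f L201556) q15745, e3 q15755 (flp_f L201558) q11389, e3 q15756 L231168 q19449, e3 q15757 (flp_f L201572) q11390, e3 q15758 L228415 q19130, e3 q15759 L231192 q19452, e3 q15760 (flp_f L201586) q11392, e3 q15761 (flp_f L231128) q19444, e3 q15762 (flp_f L201602) q15656, e3 q15763 L216917 q15763, e3 q15764 (flp_f L223823) q15955, e3 q15765 L231220 q19457, e3 q15766 L231234 q19459, e3 q15767 L231248 q19461, e3 q15768 (flp_f L201622) q11397, e3 q15769 L231260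 q19463, e3 q15770 (flp_f L201636) q11398, e3 q15771 (flp_f L201644) q11399, e3 q15772 (flp_f L201656) q14585, e3 q15773 L201666 q14893, e3 q15774 L220598 q18124, e3 q15775 L201688 q15587, e3 q15776 L201698 q11408, e3 q15777 (flp_f L201710) q13160, e3 q15778 L201718 q11411, e3 q15779 (flp_f L213339) q17266, e3 q15780 (flp_f L231286) q19465, e3 q15781 (flp_f L231296) q19466, e3 q15782 L231340 q19471, e3 q15783 L231362 q19473, e3 q15784 L201750 q13173, e3 q15785 L201756 q13869, e3 q15786 L230574 q19391, e3 q15787 L201778 q15709, e3 q15788 L230564 q19390, e3 q15789 (flp_f L201794) q15708, e3 q15790 (flp_f L201796) q11413, e3 q15791 (flp_f L201808) q11414, e3 q15792 L201820 q11647, e3 q15793 L201830 q13456, e3 q15794 L204035 q16109, e3 q15795 L201844 q11443, e3 q15796 L201850 q11444, e3 q15797 L201854 q11445, e3 q15798 (flp_f L201864) q15560, e3 q15799 (flp_f L217779) q17786, e3 q15800 L220306 q18085, e3 q15801 L201882 q15801, e3 q15802 L201891 q15802, e3 q15803 (flp_f L201900) q11435, e3 q15804 L201910 q11431, e3 q15805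 L201916 q11432, e3 q15806 L201920 q11433, e3 q15807 (flp_f L213307) q17262, trivial⟩ (by decide +kernel)

theorem ce_f_247 : ∀ r, r < 64 → sm gf (Qf (15808 + r)) = Qf (tab Gen.f (15808 + r)) :=
  edges_tab (sm gf) Qf (tab Gen.f) 15808 [(15808, 11470), (15809, 11436), (15810, 11438), (15811, 12763), (15812, 19493), (15813, 17471), (15814, 16775), (15815, 19495), (15816, 15121), (15817, 19496), (15818, 17321), (15819, 11434), (15820, 19492), (15821, 13900), (15822, 19497), (15823, 15122), (15824, 19498), (15825, 19499), (15826, 16007), (15827, 15025), (15828, 15697), (15829, 19481), (15830, 19482), (15831, 19424), (15832, 19483), (15833, 19484), (15834, 18121), (15835, 18122), (15836, 19528), (15837, 12231), (15838, 11447), (15839, 11448), (15840, 15609), (15841, 11451), (15842, 18508), (15843, 11454), (15844, 18095), (15845, 16452), (15846, 12615), (15847, 16537), (15848, 12235), (15849, 11978), (15850, 19494), (15851, 19534), (15852, 11465), (15853, 19536), (15854, 15860), (15855, 16538), (15856, 12236), (15857,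 11467), (15858, 19395), (15859, 11468), (15860, 15854), (15861, 12811), (15862, 12719), (15863, 11473), (15864, 15870), (15865, 12917), (15866, 11476), (15867, 17443), (15868, 11478), (15869, 11509), (15870, 15864), (15871, 11623)]
    ⟨e3 q15808 L201930 q11470, e3 q15809 L201942 q11436, e3 q15810 L201950 q11438, e3 q15811 L201958 q12763, e3 q15812 (flp_f L231570) q19493, e3 q15813 (flp_f L215245) q17471, e3 q15814 L209655 q16775, e3 q15815 (flp_f L231592) q19495, e3 q15816 L201988 q15121, e3 q15817 (flp_f L231598) q19496, e3 q15818 (flp_f L213719) q17321, e3 q15819 (flp_f L202004) q11434, e3 q15820 L231558 q19492, e3 q15821 L202022 q13900, e3 q15822 (flp_f L231606) q19497, e3 q15823 (flp_f L202036) q15122, e3 q15824 (flp_f L231614) q19498, e3 q15825 (flp_f L231628) q19499, e3 q15826 L203375 q16007, e3 q15827 L202054 q15025, e3 q15828 L202064 q15697, e3 q15829 (flp_f L231440) q19481, e3 q15830 (flp_f L231452) q19482, e3 q15831 (flp_f L230994) q19424, e3 q15832 (flp_f L231464) q19483, e3 q15833 (flp_f L231476) q19484,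 e3 q15834 (flp_f L220570) q18121, e3 q15835 (flp_f L220576) q18122, e3 q15836 L231864 q19528, e3 q15837 L202112 q12231, e3 q15838 (flp_f L202116) q11447, e3 q15839 (flp_f L202126) q11448, e3 q15840 L202144 q15609, e3 q15841 (flp_f L202146) q11451, e3 q15842 L223961 q18508, e3 q15843 (flp_f L202166) q11454, e3 q15844 L220388 q18095, e3 q15845 (flp_f L206835) q16452, e3 q15846 L202196 q12615, e3 q15847 (flp_f L207553) q16537, e3 q15848 L202214 q12235, e3 q15849 L202224 q11978, e3 q15850 (flp_f L231582) q19494, e3 q15851 L231938 q19534, e3 q15852 (flp_f L202244) q11465, e3 q15853 L231958 q19536, e3 q15854 L202314 q15860, e3 q15855 (flp_f L207563) q16538, e3 q15856 (flp_f L202280) q12236, e3 q15857 (flp_f L202282) q11467, e3 q15858 (flp_f L230612) q19395, e3 q15859 (flp_f L202298) q11468, e3 q15860 (flp_f L202314) q15854, e3 q15861 L202322 q12811, e3 q15862 L202330 q12719, e3 q15863 (flp_f L202334) q11473, e3 q15864 L202412 q15870, e3 q15865 L202356 q12917, e3 q15866 (flp_f L202362) q11476, e3 q15867 (flp_f L214972)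 q17443, e3 q15868 (flp_f L202378) q11478, e3 q15869 L202396 q11509, e3 q15870 (flp_f L202412) q15864, e3 q15871 L202420 q11623, trivial⟩ (by decide +kernel)

theorem ce_f_248 : ∀ r, r < 64 → sm gf (Qf (15872 + r)) = Qf (tab Gen.f (15872 + r)) :=
  edges_tab (sm gf) Qf (tab Gen.f) 15872 [(15872, 17682), (15873, 17771), (15874, 19551), (15875, 11482), (15876, 19554), (15877, 17335), (15878, 15701), (15879, 11483), (15880, 15227), (15881, 19553), (15882, 19559), (15883, 11486), (15884, 11487), (15885, 19560), (15886, 11489), (15887, 19563), (15888, 19566), (15889, 19568), (15890, 11492), (15891, 19357), (15892, 11549), (15893, 11551), (15894, 15958), (15895, 19575), (15896, 19578), (15897, 19581), (15898, 19583), (15899, 11497), (15900, 17419), (15901, 14862), (15902, 11498), (15903, 14864), (15904, 11499), (15905, 14690), (15906, 15917), (15907, 11502), (15908, 14482), (15909, 19586), (15910, 17501), (15911, 11504), (15912, 14394), (15913, 19589), (15914, 11506), (15915, 11507), (15916, 14938), (15917, 15906), (15918,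 17765), (15919, 17617), (15920, 19595), (15921, 11511), (15922, 12082), (15923, 11512), (15924, 17582), (15925, 13627), (15926, 19598), (15927, 11515), (15928, 15646), (15929, 11516), (15930, 19321), (15931, 11522), (15932, 15547), (15933, 11518), (15934, 19599), (15935, 19229)]
    ⟨e3 q15872 (flp_f L216980) q17682, e3 q15873 (flp_f L217690) q17771, e3 q15874 L232096 q19551, e3 q15875 (flp_f L202444) q11482, e3 q15876 L232125 q19554, e3 q15877 L213795 q17335, e3 q15878 (flp_f L202464) q15701, e3 q15879 (flp_f L202468) q11483, e3 q15880 (flp_f L202484) q15227, e3 q15881 (flp_f L232120) q19553, e3 q15882 L232170 q19559, e3 q15883 (flp_f L202505) q11486, e3 q15884 (flp_f L202519) q11487, e3 q15885 L232180 q19560, e3 q15886 (flp_f L202531) q11489, e3 q15887 L232200 q19563, e3 q15888 L232224 q19566, e3 q15889 L232238 q19568, e3 q15890 (flp_f L202561) q11492, e3 q15891 L230958 q19357, e3 q15892 L202575 q11549, e3 q15893 L202579 q11551, e3 q15894 (flp_f L203079) q15958, e3 q15895 L232296 q19575, e3 q15896 L232324 q19578,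 e3 q15897 L232348 q19581, e3 q15898 L232358 q19583, e3 q15899 (flp_f L202601) q11497, e3 q15900 (flp_f L214715) q17419, e3 q15901 (flp_f L202619) q14862, e3 q15902 (flp_f L202623) q11498, e3 q15903 (flp_f L202641) q14864, e3 q15904 (flp_f L202643) q11499, e3 q15905 (flp_f L202661) q14690, e3 q15906 L202774 q15917, e3 q15907 (flp_f L202677) q11502, e3 q15908 L202689 q14482, e3 q15909 L232384 q19586, e3 q15910 L215528 q17501, e3 q15911 (flp_f L202723) q11504, e3 q15912 L202737 q14394, e3 q15913 L232418 q19589, e3 q15914 (flp_f L202746) q11506, e3 q15915 (flp_f L202750) q11507, e3 q15916 L202764 q14938, e3 q15917 (flp_f L202774) q15906, e3 q15918 L217644 q17765, e3 q15919 (flp_f L216461) q17617, e3 q15920 L232470 q19595, e3 q15921 (flp_f L202794) q11511, e3 q15922 L202810 q12082, e3 q15923 (flp_f L202812) q11512, e3 q15924 L216211 q17582, e3 q15925 L202838 q13627, e3 q15926 L232500 q19598, e3 q15927 (flp_f L202854) q11515, e3 q15928 L202876 q15646, e3 q15929 (flp_f L202878) q11516, e3 q15930 (flp_f L230008) q19321,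 e3 q15931 L202902 q11522, e3 q15932 (flp_f L202915) q15547, e3 q15933 (flp_f L202917) q11518, e3 q15934 (flp_f L232521) q19599, e3 q15935 (flp_f L229146) q19229, trivial⟩ (by decide +kernel)

theorem ce_f_249 : ∀ r, r < 64 → sm gf (Qf (15936 + r)) = Qf (tab Gen.f (15936 + r)) :=
  edges_tab (sm gf) Qf (tab Gen.f) 15936 [(15936, 19228), (15937, 15057), (15938, 19602), (15939, 11525), (15940, 19603), (15941, 11526), (15942, 15950), (15943, 17698), (15944, 19608), (15945, 19610), (15946, 11529), (15947, 18857), (15948, 11530), (15949, 19616), (15950, 15942), (15951, 19618), (15952, 11532), (15953, 11534), (15954, 15731), (15955, 15764), (15956, 11536), (15957, 15373), (15958, 15894), (15959, 19623), (15960, 19624), (15961, 11540), (15962, 18285), (15963, 12767), (15964, 18646), (15965, 18647), (15966, 12017), (15967, 19632), (15968, 19634), (15969, 11544), (15970, 15978), (15971, 19637), (15972, 19640), (15973, 11545), (15974, 19643), (15975, 19644), (15976, 11546), (15977, 19647), (15978, 15970), (15979, 18989), (15980,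 11548), (15981, 19570), (15982, 19156), (15983, 15522), (15984, 19571), (15985, 19017), (15986, 19619), (15987, 11552), (15988, 11553), (15989, 19620), (15990, 18454), (15991, 18465), (15992, 18466), (15993, 19662), (15994, 18468), (15995, 14636), (15996, 19664), (15997, 11559), (15998, 14691), (15999, 14386)]
    ⟨e3 q15936 (flp_f L229136) q19228, e3 q15937 L202949 q15057, e3 q15938 L232546 q19602, e3 q15939 (flp_f L202961) q11525, e3 q15940 L232554 q19603, e3 q15941 (flp_f L202975) q11526, e3 q15942 L203027 q15950, e3 q15943 (flp_f L217094) q17698, e3 q15944 L232596 q19608, e3 q15945 L232616 q19610, e3 q15946 (flp_f L203003) q11529, e3 q15947 (flp_f L226455) q18857, e3 q15948 (flp_f L203011) q11530, e3 q15949 L232660 q19616, e3 q15950 (flp_f L203027) q15942, e3 q15951 L232680 q19618, e3 q15952 (flp_f L203035) q11532, e3 q15953 (flp_f L203043) q11534, e3 q15954 L230887 q15731, e3 q15955 L223823 q15764, e3 q15956 (flp_f L203057) q11536, e3 q15957 L223821 q15373, e3 q15958 L203079 q15894, e3 q15959 L232733 q19623,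 e3 q15960 L232747 q19624, e3 q15961 (flp_f L203091) q11540, e3 q15962 (flp_f L221804) q18285, e3 q15963 (flp_f L203113) q12767, e3 q15964 (flp_f L225141) q18646, e3 q15965 (flp_f L225153) q18647, e3 q15966 (flp_f L203129) q12017, e3 q15967 L232819 q19632, e3 q15968 L232833 q19634, e3 q15969 (flp_f L203141) q11544, e3 q15970 L203189 q15978, e3 q15971 L232859 q19637, e3 q15972 L232873 q19640, e3 q15973 (flp_f L203161) q11545, e3 q15974 L232887 q19643, e3 q15975 L232897 q19644, e3 q15976 (flp_f L203173) q11546, e3 q15977 L232925 q19647, e3 q15978 (flp_f L203189) q15970, e3 q15979 L227493 q18989, e3 q15980 (flp_f L203195) q11548, e3 q15981 (flp_f L232266) q19570, e3 q15982 L228601 q19156, e3 q15983 L222232 q15522, e3 q15984 (flp_f L232274) q19571, e3 q15985 (flp_f L227670) q19017, e3 q15986 (flp_f L232692) q19619, e3 q15987 (flp_f L203231) q11552, e3 q15988 (flp_f L203243) q11553, e3 q15989 (flp_f L232705) q19620, e3 q15990 (flp_f L223495) q18454, e3 q15991 (flp_f L223551) q18465, e3 q15992 (flp_f L223557) q18466, e3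 q15993 L233053 q19662, e3 q15994 (flp_f L223571) q18468, e3 q15995 L203279 q14636, e3 q15996 L233073 q19664, e3 q15997 (flp_f L203287) q11559, e3 q15998 L203303 q14691, e3 q15999 (flp_f L203315) q14386, trivial⟩ (by decide +kernel)

theorem ce_f_250 : ∀ r, r < 64 → sm gf (Qf (16000 + r)) = Qf (tab Gen.f (16000 + r)) :=
  edges_tab (sm gf) Qf (tab Gen.f) 16000 [(16000, 19665), (16001, 19315), (16002, 19666), (16003, 11565), (16004, 16599), (16005, 11570), (16006, 17987), (16007, 15826), (16008, 11572), (16009, 19508), (16010, 11574), (16011, 19672), (16012, 17737), (16013, 11576), (16014, 16022), (16015, 19677), (16016, 17958), (16017, 19680), (16018, 11579), (16019, 19683), (16020, 11580), (16021, 19526), (16022, 16014), (16023, 11582), (16024, 19685), (16025, 19687), (16026, 11585), (16027, 19690), (16028, 19693), (16029, 19539), (16030, 11587), (16031, 19698), (16032, 11594), (16033, 15713), (16034, 11589), (16035, 19702), (16036, 19705), (16037, 19708), (16038, 11590), (16039, 16053), (16040, 11591), (16041,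 16056), (16042, 19696), (16043, 18168), (16044, 14525), (16045, 19718), (16046, 19721), (16047, 11596), (16048, 19725), (16049, 18718), (16050, 11597), (16051, 19729), (16052, 14581), (16053, 16039), (16054, 19731), (16055, 11599), (16056, 16041), (16057, 11601), (16058, 19735), (16059, 13805), (16060, 14377), (16061, 11604), (16062, 13806), (16063, 13807)]
    ⟨e3 q16000 L233083 q19665, e3 q16001 (flp_f L229948) q19315, e3 q16002 L233097 q19666, e3 q16003 (flp_f L203346) q11565, e3 q16004 (flp_f L208065) q16599, e3 q16005 (flp_f L203359) q11570, e3 q16006 (flp_f L219648) q17987, e3 q16007 (flp_f L203375) q15826, e3 q16008 (flp_f L203377) q11572, e3 q16009 (flp_f L231694) q19508, e3 q16010 (flp_f L203393) q11574, e3 q16011 L233141 q19672, e3 q16012 L217414 q17737, e3 q16013 (flp_f L203415) q11576, e3 q16014 L203471 q16022, e3 q16015 L233173 q19677, e3 q16016 (flp_f L219656) q17958, e3 q16017 L233191 q19680, e3 q16018 (flp_f L203439) q11579, e3 q16019 L233213 q19683, e3 q16020 (flp_f L203447) q11580, e3 q16021 (flp_f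 L231858) q19526, e3 q16022 (flp_f L203471) q16014, e3 q16023 (flp_f L203475) q11582, e3 q16024 L233227 q19685, e3 q16025 L233235 q19687, e3 q16026 (flp_f L203489) q11585, e3 q16027 L233251 q19690, e3 q16028 L233277 q19693, e3 q16029 (flp_f L231994) q19539, e3 q16030 (flp_f L203507) q11587, e3 q16031 L233325 q19698, e3 q16032 L203521 q11594, e3 q16033 (flp_f L203533) q15713, e3 q16034 (flp_f L203537) q11589, e3 q16035 L233359 q19702, e3 q16036 L233375 q19705, e3 q16037 L233399 q19708, e3 q16038 (flp_f L203561) q11590, e3 q16039 L203661 q16053, e3 q16040 (flp_f L203573) q11591, e3 q16041 L203683 q16056, e3 q16042 (flp_f L233311) q19696, e3 q16043 (flp_f L220934) q18168, e3 q16044 L203613 q14525, e3 q16045 L233485 q19718, e3 q16046 L233509 q19721, e3 q16047 (flp_f L203627) q11596, e3 q16048 L233541 q19725, e3 q16049 L225633 q18718, e3 q16050 (flp_f L203639) q11597, e3 q16051 L233573 q19729, e3 q16052 L203655 q14581, e3 q16053 (flp_f L203661) q16039, e3 q16054 L233591 q19731, e3 q16055 (flp_f L203669) q11599, e3 q16056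 (flp_f L203683) q16041, e3 q16057 (flp_f L203685) q11601, e3 q16058 L233621 q19735, e3 q16059 L203703 q13805, e3 q16060 (flp_f L203713) q14377, e3 q16061 (flp_f L203715) q11604, e3 q16062 L203727 q13806, e3 q16063 L203735 q13807, trivial⟩ (by decide +kernel)

theorem ce_f_251 : ∀ r, r < 64 → sm gf (Qf (16064 + r)) = Qf (tab Gen.f (16064 + r)) :=
  edges_tab (sm gf) Qf (tab Gen.f) 16064 [(16064, 17652), (16065, 19742), (16066, 11606), (16067, 19746), (16068, 11607), (16069, 16072), (16070, 19543), (16071, 19751), (16072, 16069), (16073, 11611), (16074, 19755), (16075, 14559), (16076, 16076), (16077, 16077), (16078, 16078), (16079, 19542), (16080, 16080), (16081, 16622), (16082, 19762), (16083, 19265), (16084, 11624), (16085, 15585), (16086, 15692), (16087, 19766), (16088, 19300), (16089, 11628), (16090, 16098), (16091, 18320), (16092, 19772), (16093, 19774), (16094, 11631), (16095, 19777), (16096, 11632), (16097, 15598), (16098, 16090), (16099, 11634), (16100, 19779), (16101, 19781), (16102, 11637), (16103, 19784),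 (16104, 19787), (16105, 19789), (16106, 11639), (16107, 19792), (16108, 15030), (16109, 15794), (16110, 11641), (16111, 19796), (16112, 19799), (16113, 19802), (16114, 11642), (16115, 16129), (16116, 11643), (16117, 16132), (16118, 15066), (16119, 19474), (16120, 13307), (16121, 19812), (16122, 19815), (16123, 11648), (16124, 19819), (16125, 19820), (16126, 11649), (16127, 19823)]
    ⟨e3 q16064 (flp_f L216709) q17652, e3 q16065 L233677 q19742, e3 q16066 (flp_f L203751) q11606, e3 q16067 L233707 q19746, e3 q16068 (flp_f L203759) q11607, e3 q16069 L203795 q16072, e3 q16070 (flp_f L232038) q19543, e3 q16071 L233757 q19751, e3 q16072 (flp_f L203795) q16069, e3 q16073 (flp_f L203797) q11611, e3 q16074 L233799 q19755, e3 q16075 L203817 q14559, e3 q16076 L203827 q16076, e3 q16077 L203836 q16077, e3 q16078 L203843 q16078, e3 q16079 (flp_f L232026) q19542, e3 q16080 L203858 q16080, e3 q16081 (flp_f L208262) q16622, e3 q16082 L233857 q19762, e3 q16083 (flp_f L229468) q19265, e3 q16084 (flp_f L203877) q11624, e3 q16085 (flp_f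 L203891) q15585, e3 q16086 (flp_f L203901) q15692, e3 q16087 L233889 q19766, e3 q16088 L229770 q19300, e3 q16089 (flp_f L203915) q11628, e3 q16090 L203969 q16098, e3 q16091 (flp_f L222086) q18320, e3 q16092 L233931 q19772, e3 q16093 L233939 q19774, e3 q16094 (flp_f L203939) q11631, e3 q16095 L233959 q19777, e3 q16096 (flp_f L203947) q11632, e3 q16097 (flp_f L203963) q15598, e3 q16098 (flp_f L203969) q16090, e3 q16099 (flp_f L203971) q11634, e3 q16100 L233975 q19779, e3 q16101 L233983 q19781, e3 q16102 (flp_f L203989) q11637, e3 q16103 L234005 q19784, e3 q16104 L234031 q19787, e3 q16105 L234049 q19789, e3 q16106 (flp_f L204007) q11639, e3 q16107 L234081 q19792, e3 q16108 (flp_f L204023) q15030, e3 q16109 (flp_f L204035) q15794, e3 q16110 (flp_f L204039) q11641, e3 q16111 L234113 q19796, e3 q16112 L234129 q19799, e3 q16113 L234153 q19802, e3 q16114 (flp_f L204065) q11642, e3 q16115 L204165 q16129, e3 q16116 (flp_f L204077) q11643, e3 q16117 L204187 q16132, e3 q16118 L204099 q15066, e3 q16119 (flp_f L231378) q19474,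 e3 q16120 L204117 q13307, e3 q16121 L234239 q19812, e3 q16122 L234263 q19815, e3 q16123 (flp_f L204131) q11648, e3 q16124 L234299 q19819, e3 q16125 L234307 q19820, e3 q16126 (flp_f L204143) q11649, e3 q16127 L234333 q19823, trivial⟩ (by decide +kernel)

theorem ce_f_252 : ∀ r, r < 64 → sm gf (Qf (16128 + r)) = Qf (tab Gen.f (16128 + r)) :=
  edges_tab (sm gf) Qf (tab Gen.f) 16128 [(16128, 14512), (16129, 16115), (16130, 18200), (16131, 11651), (16132, 16117), (16133, 11653), (16134, 19831), (16135, 16151), (16136, 17724), (16137, 19835), (16138, 11656), (16139, 18443), (16140, 18349), (16141, 19836), (16142, 11658), (16143, 19840), (16144, 11659), (16145, 16148), (16146, 19838), (16147, 19845), (16148, 16145), (16149, 11663), (16150, 19850), (16151, 16135), (16152, 19853), (16153, 16168), (16154, 19855), (16155, 11667), (16156, 17179), (16157, 19858), (16158, 19860), (16159, 11668), (16160, 16165), (16161, 19865), (16162, 19867), (16163, 11669), (16164, 19870), (16165, 16160), (16166, 11671), (16167, 17099), (16168,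 16153), (16169, 19874), (16170, 11674), (16171, 19876), (16172, 19877), (16173, 19878), (16174, 11675), (16175, 16180), (16176, 19883), (16177, 19885), (16178, 11676), (16179, 19888), (16180, 16175), (16181, 11678), (16182, 19890), (16183, 11691), (16184, 16184), (16185, 19891), (16186, 16186), (16187, 11695), (16188, 12190), (16189, 16503), (16190, 11701), (16191, 11984)]
    ⟨e3 q16128 L204159 q14512, e3 q16129 (flp_f L204165) q16115, e3 q16130 L222224 q18200, e3 q16131 (flp_f L204173) q11651, e3 q16132 (flp_f L204187) q16117, e3 q16133 (flp_f L204189) q11653, e3 q16134 L234397 q19831, e3 q16135 (flp_f L204321) q16151, e3 q16136 L217296 q17724, e3 q16137 L234431 q19835, e3 q16138 (flp_f L204225) q11656, e3 q16139 (flp_f L223411) q18443, e3 q16140 (flp_f L222355) q18349, e3 q16141 L234441 q19836, e3 q16142 (flp_f L204255) q11658, e3 q16143 L234473 q19840, e3 q16144 (flp_f L204263) q11659, e3 q16145 L204299 q16148, e3 q16146 (flp_f L234461) q19838, e3 q16147 L234529 q19845, e3 q16148 (flp_f L204299) q16145, e3 q16149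 (flp_f L204301) q11663, e3 q16150 L234577 q19850, e3 q16151 L204321 q16135, e3 q16152 L234603 q19853, e3 q16153 (flp_f L204415) q16168, e3 q16154 L234627 q19855, e3 q16155 (flp_f L204342) q11667, e3 q16156 (flp_f L212767) q17179, e3 q16157 L234661 q19858, e3 q16158 L234671 q19860, e3 q16159 (flp_f L204362) q11668, e3 q16160 L204396 q16165, e3 q16161 L234699 q19865, e3 q16162 L234719 q19867, e3 q16163 (flp_f L204382) q11669, e3 q16164 L234737 q19870, e3 q16165 (flp_f L204396) q16160, e3 q16166 (flp_f L204398) q11671, e3 q16167 L212171 q17099, e3 q16168 L204415 q16153, e3 q16169 L234773 q19874, e3 q16170 (flp_f L204429) q11674, e3 q16171 L234797 q19876, e3 q16172 L234807 q19877, e3 q16173 L234817 q19878, e3 q16174 (flp_f L204449) q11675, e3 q16175 L204483 q16180, e3 q16176 L234845 q19883, e3 q16177 L234865 q19885, e3 q16178 (flp_f L204469) q11676, e3 q16179 L234885 q19888, e3 q16180 (flp_f L204483) q16175, e3 q16181 (flp_f L204485) q11678, e3 q16182 L234895 q19890, e3 q16183 (flp_f L204502) q11691, e3 q16184 L204520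 q16184, e3 q16185 L234917 q19891, e3 q16186 L204541 q16186, e3 q16187 (flp_f L204544) q11695, e3 q16188 L204563 q12190, e3 q16189 L207251 q16503, e3 q16190 (flp_f L204575) q11701, e3 q16191 L204589 q11984, trivial⟩ (by decide +kernel)

theorem ce_f_253 : ∀ r, r < 64 → sm gf (Qf (16192 + r)) = Qf (tab Gen.f (16192 + r)) :=
  edges_tab (sm gf) Qf (tab Gen.f) 16192 [(16192, 11980), (16193, 16368), (16194, 11853), (16195, 11713), (16196, 16318), (16197, 19892), (16198, 11715), (16199, 16447), (16200, 11777), (16201, 12103), (16202, 16202), (16203, 11779), (16204, 11901), (16205, 19894), (16206, 11735), (16207, 16293), (16208, 15574), (16209, 11737), (16210, 11738), (16211, 11748), (16212, 19896), (16213, 11741), (16214, 19895), (16215, 13335), (16216, 13334), (16217, 16247), (16218, 13016), (16219, 11753), (16220, 11758), (16221, 19899), (16222, 16230), (16223, 13511), (16224, 11766), (16225, 11768), (16226, 16240), (16227, 19902), (16228, 16228), (16229, 16239), (16230, 16222), (16231, 19903), (16232, 18558), (16233,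 16592), (16234, 12234), (16235, 12069), (16236, 19893), (16237, 16237), (16238, 16238), (16239, 16229), (16240, 16226), (16241, 12227), (16242, 17176), (16243, 11791), (16244, 19909), (16245, 16531), (16246, 12250), (16247, 16217), (16248, 17100), (16249, 13084), (16250, 16260), (16251, 19915), (16252, 19916), (16253, 18572), (16254, 11801), (16255, 11802)]
    ⟨e3 q16192 L204599 q11980, e3 q16193 L206084 q16368, e3 q16194 L204611 q11853, e3 q16195 (flp_f L204613) q11713, e3 q16196 L205691 q16318, e3 q16197 L234921 q19892, e3 q16198 (flp_f L204640) q11715, e3 q16199 (flp_f L206783) q16447, e3 q16200 (flp_f L204660) q11777, e3 q16201 L204666 q12103, e3 q16202 L204678 q16202, e3 q16203 (flp_f L204687) q11779, e3 q16204 L204695 q11901, e3 q16205 L234947 q19894, e3 q16206 (flp_f L204712) q11735, e3 q16207 L205462 q16293, e3 q16208 (flp_f L204740) q15574, e3 q16209 (flp_f L204742) q11737, e3 q16210 (flp_f L204750) q11738, e3 q16211 L204760 q11748, e3 q16212 L234973 q19896, e3 q16213 (flp_f L204774) q11741, e3 q16214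 (flp_f L234967) q19895, e3 q16215 L204790 q13335, e3 q16216 L204800 q13334, e3 q16217 (flp_f L205055) q16247, e3 q16218 L204823 q13016, e3 q16219 (flp_f L204827) q11753, e3 q16220 L204843 q11758, e3 q16221 (flp_f L235009) q19899, e3 q16222 L204908 q16230, e3 q16223 L204857 q13511, e3 q16224 L204869 q11766, e3 q16225 (flp_f L204877) q11768, e3 q16226 L204996 q16240, e3 q16227 (flp_f L235031) q19902, e3 q16228 L204891 q16228, e3 q16229 L204984 q16239, e3 q16230 (flp_f L204908) q16222, e3 q16231 L235039 q19903, e3 q16232 (flp_f L224413) q18558, e3 q16233 (flp_f L207989) q16592, e3 q16234 L204928 q12234, e3 q16235 L204938 q12069, e3 q16236 L234943 q19893, e3 q16237 L204960 q16237, e3 q16238 L204971 q16238, e3 q16239 (flp_f L204984) q16229, e3 q16240 (flp_f L204996) q16226, e3 q16241 L205002 q12227, e3 q16242 (flp_f L212741) q17176, e3 q16243 L205022 q11791, e3 q16244 (flp_f L235099) q19909, e3 q16245 L207495 q16531, e3 q16246 L205042 q12250, e3 q16247 L205055 q16217, e3 q16248 (flp_f L212183) q17100, e3 q16249 (flp_f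 L205083) q13084, e3 q16250 (flp_f L205161) q16260, e3 q16251 L235145 q19915, e3 q16252 L235153 q19916, e3 q16253 (flp_f L224535) q18572, e3 q16254 (flp_f L205111) q11801, e3 q16255 (flp_f L205119) q11802, trivial⟩ (by decide +kernel)

theorem ce_f_254 : ∀ r, r < 64 → sm gf (Qf (16256 + r)) = Qf (tab Gen.f (16256 + r)) :=
  edges_tab (sm gf) Qf (tab Gen.f) 16256 [(16256, 11805), (16257, 19917), (16258, 11807), (16259, 11809), (16260, 16250), (16261, 17493), (16262, 14040), (16263, 14717), (16264, 12854), (16265, 12174), (16266, 11966), (16267, 19921), (16268, 19922), (16269, 11817), (16270, 16870), (16271, 19924), (16272, 11818), (16273, 13673), (16274, 11819), (16275, 13393), (16276, 16330), (16277, 11937), (16278, 17527), (16279, 11837), (16280, 14327), (16281, 14329), (16282, 11835), (16283, 17907), (16284, 11867), (16285, 16437), (16286, 11863), (16287, 11843), (16288, 11866), (16289, 11845), (16290, 16312), (16291, 16295), (16292, 12108), (16293, 16207), (16294, 11861), (16295, 16291), (16296, 15003), (16297,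 16439), (16298, 14078), (16299, 13965), (16300, 13942), (16301, 14136), (16302, 16421), (16303, 11874), (16304, 17835), (16305, 19931), (16306, 11877), (16307, 13991), (16308, 12464), (16309, 11884), (16310, 11887), (16311, 16459), (16312, 16290), (16313, 16464), (16314, 11893), (16315, 17430), (16316, 11895), (16317, 11896), (16318, 16196), (16319, 19532)]
    ⟨e3 q16256 (flp_f L205127) q11805, e3 q16257 (flp_f L235167) q19917, e3 q16258 (flp_f L205139) q11807, e3 q16259 L205151 q11809, e3 q16260 L205161 q16250, e3 q16261 (flp_f L215449) q17493, e3 q16262 L205167 q14040, e3 q16263 L205175 q14717, e3 q16264 L205189 q12854, e3 q16265 L205195 q12174, e3 q16266 L205219 q11966, e3 q16267 L235195 q19921, e3 q16268 L235205 q19922, e3 q16269 (flp_f L205238) q11817, e3 q16270 L210435 q16870, e3 q16271 L235223 q19924, e3 q16272 (flp_f L205258) q11818, e3 q16273 L205277 q13673, e3 q16274 (flp_f L205279) q11819, e3 q16275 (flp_f L205291) q13393, e3 q16276 (flp_f L205800) q16330, e3 q16277 (flp_f L205308) q11937, e3 q16278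 (flp_f L215767) q17527, e3 q16279 L205322 q11837, e3 q16280 L205336 q14327, e3 q16281 L205348 q14329, e3 q16282 (flp_f L205352) q11835, e3 q16283 (flp_f L218914) q17907, e3 q16284 L205366 q11867, e3 q16285 L206681 q16437, e3 q16286 (flp_f L205395) q11863, e3 q16287 (flp_f L205397) q11843, e3 q16288 L205413 q11866, e3 q16289 (flp_f L205422) q11845, e3 q16290 L205639 q16312, e3 q16291 L205484 q16295, e3 q16292 L205450 q12108, e3 q16293 (flp_f L205462) q16207, e3 q16294 (flp_f L205464) q11861, e3 q16295 (flp_f L205484) q16291, e3 q16296 L205492 q15003, e3 q16297 (flp_f L206697) q16439, e3 q16298 L205510 q14078, e3 q16299 L205518 q13965, e3 q16300 L205530 q13942, e3 q16301 L205542 q14136, e3 q16302 (flp_f L206540) q16421, e3 q16303 (flp_f L205554) q11874, e3 q16304 L218242 q17835, e3 q16305 L235298 q19931, e3 q16306 (flp_f L205578) q11877, e3 q16307 L205592 q13991, e3 q16308 (flp_f L205609) q12464, e3 q16309 (flp_f L205611) q11884, e3 q16310 (flp_f L205621) q11887, e3 q16311 L206906 q16459, e3 q16312 (flp_f L205639)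 q16290, e3 q16313 (flp_f L206952) q16464, e3 q16314 (flp_f L205645) q11893, e3 q16315 (flp_f L214837) q17430, e3 q16316 L205665 q11895, e3 q16317 L205677 q11896, e3 q16318 (flp_f L205691) q16196, e3 q16319 (flp_f L231922) q19532, trivial⟩ (by decide +kernel)

theorem ce_f_255 : ∀ r, r < 64 → sm gf (Qf (16320 + r)) = Qf (tab Gen.f (16320 + r)) :=
  edges_tab (sm gf) Qf (tab Gen.f) 16320 [(16320, 12107), (16321, 16855), (16322, 11907), (16323, 11908), (16324, 11949), (16325, 11948), (16326, 12134), (16327, 15592), (16328, 14145), (16329, 11972), (16330, 16276), (16331, 13218), (16332, 16412), (16333, 17465), (16334, 11935), (16335, 15113), (16336, 13322), (16337, 16411), (16338, 17322), (16339, 12402), (16340, 19940), (16341, 11941), (16342, 19943), (16343, 11947), (16344, 11943), (16345, 16487), (16346, 19944), (16347, 11945), (16348, 19942), (16349, 16620), (16350, 19933), (16351, 19948), (16352, 14157), (16353, 11950), (16354, 11955), (16355, 11960), (16356, 11964), (16357, 18529), (16358, 11967), (16359, 12040),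 (16360, 12038), (16361, 12000), (16362, 16539), (16363, 16369), (16364, 13362), (16365, 19951), (16366, 11983), (16367, 18653), (16368, 16193), (16369, 16363), (16370, 11987), (16371, 11998), (16372, 12804), (16373, 13386), (16374, 19955), (16375, 11992), (16376, 16380), (16377, 19957), (16378, 11993), (16379, 19960), (16380, 16376), (16381, 11995), (16382, 19627), (16383, 11996)]
    ⟨e3 q16320 (flp_f L205709) q12107, e3 q16321 L210291 q16855, e3 q16322 (flp_f L205723) q11907, e3 q16323 (flp_f L205733) q11908, e3 q16324 L205745 q11949, e3 q16325 L205755 q11948, e3 q16326 L205761 q12134, e3 q16327 L205773 q15592, e3 q16328 (flp_f L205785) q14145, e3 q16329 L205791 q11972, e3 q16330 L205800 q16276, e3 q16331 L205808 q13218, e3 q16332 L206454 q16412, e3 q16333 (flp_f L215173) q17465, e3 q16334 (flp_f L205820) q11935, e3 q16335 L205830 q15113, e3 q16336 (flp_f L205842) q13322, e3 q16337 L206446 q16411, e3 q16338 L213729 q17322, e3 q16339 L205864 q12402, e3 q16340 L235394 q19940, e3 q16341 (flp_f L205872) q11941, e3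 q16342 L235415 q19943, e3 q16343 L205888 q11947, e3 q16344 (flp_f L205891) q11943, e3 q16345 L207128 q16487, e3 q16346 L235425 q19944, e3 q16347 (flp_f L205913) q11945, e3 q16348 (flp_f L235412) q19942, e3 q16349 (flp_f L208235) q16620, e3 q16350 (flp_f L235332) q19933, e3 q16351 L235457 q19948, e3 q16352 L205945 q14157, e3 q16353 (flp_f L205947) q11950, e3 q16354 (flp_f L205959) q11955, e3 q16355 (flp_f L205969) q11960, e3 q16356 L205982 q11964, e3 q16357 L224133 q18529, e3 q16358 (flp_f L205986) q11967, e3 q16359 (flp_f L206006) q12040, e3 q16360 (flp_f L206018) q12038, e3 q16361 L206024 q12000, e3 q16362 L207573 q16539, e3 q16363 L206094 q16369, e3 q16364 L206056 q13362, e3 q16365 L235487 q19951, e3 q16366 (flp_f L206064) q11983, e3 q16367 (flp_f L225195) q18653, e3 q16368 (flp_f L206084) q16193, e3 q16369 (flp_f L206094) q16363, e3 q16370 (flp_f L206098) q11987, e3 q16371 L206114 q11998, e3 q16372 (flp_f L206124) q12804, e3 q16373 (flp_f L206136) q13386, e3 q16374 L235525 q19955, e3 q16375 (flp_f L206142) q11992,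 e3 q16376 L206180 q16380, e3 q16377 L235545 q19957, e3 q16378 (flp_f L206168) q11993, e3 q16379 L235569 q19960, e3 q16380 (flp_f L206180) q16376, e3 q16381 (flp_f L206182) q11995, e3 q16382 (flp_f L232777) q19627, e3 q16383 (flp_f L206202) q11996, trivial⟩ (by decide +kernel)

theorem ce_f_256 : ∀ r, r < 64 → sm gf (Qf (16384 + r)) = Qf (tab Gen.f (16384 + r)) :=
  edges_tab (sm gf) Qf (tab Gen.f) 16384 [(16384, 13483), (16385, 16516), (16386, 18706), (16387, 12001), (16388, 17472), (16389, 14704), (16390, 19965), (16391, 12002), (16392, 16401), (16393, 19967), (16394, 12003), (16395, 16405), (16396, 16555), (16397, 17414), (16398, 19971), (16399, 12007), (16400, 19974), (16401, 16392), (16402, 12009), (16403, 12010), (16404, 19976), (16405, 16395), (16406, 12012), (16407, 13481), (16408, 19629), (16409, 12015), (16410, 19628), (16411, 16337), (16412, 16332), (16413, 19979), (16414, 12021), (16415, 12022), (16416, 16418), (16417, 12024), (16418, 16416), (16419, 12026), (16420, 14812), (16421, 16302), (16422, 17267),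 (16423, 13644), (16424, 19984), (16425, 14109), (16426, 12484), (16427, 13448), (16428, 12483), (16429, 16671), (16430, 12035), (16431, 17440), (16432, 12036), (16433, 19596), (16434, 14113), (16435, 12085), (16436, 12088), (16437, 16285), (16438, 17925), (16439, 16297), (16440, 16440), (16441, 12076), (16442, 16442), (16443, 12079), (16444, 12074), (16445, 17455), (16446, 19907), (16447, 16199)]
    ⟨e3 q16384 (flp_f L206222) q13483, e3 q16385 (flp_f L207365) q16516, e3 q16386 (flp_f L225508) q18706, e3 q16387 (flp_f L206246) q12001, e3 q16388 L215257 q17472, e3 q16389 (flp_f L206272) q14704, e3 q16390 L235627 q19965, e3 q16391 (flp_f L206280) q12002, e3 q16392 L206356 q16401, e3 q16393 L235647 q19967, e3 q16394 (flp_f L206304) q12003, e3 q16395 L206400 q16405, e3 q16396 (flp_f L207686) q16555, e3 q16397 (flp_f L214667) q17414, e3 q16398 L235681 q19971, e3 q16399 (flp_f L206342) q12007, e3 q16400 L235705 q19974, e3 q16401 (flp_f L206356) q16392, e3 q16402 (flp_f L206360) q12009, e3 q16403 (flp_f L206370) q12010,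 e3 q16404 L235723 q19976, e3 q16405 (flp_f L206400) q16395, e3 q16406 (flp_f L206402) q12012, e3 q16407 L206414 q13481, e3 q16408 (flp_f L232801) q19629, e3 q16409 (flp_f L206426) q12015, e3 q16410 (flp_f L232789) q19628, e3 q16411 (flp_f L206446) q16337, e3 q16412 (flp_f L206454) q16332, e3 q16413 L235757 q19979, e3 q16414 (flp_f L206470) q12021, e3 q16415 (flp_f L206482) q12022, e3 q16416 L206510 q16418, e3 q16417 (flp_f L206492) q12024, e3 q16418 (flp_f L206510) q16416, e3 q16419 (flp_f L206512) q12026, e3 q16420 (flp_f L206530) q14812, e3 q16421 L206540 q16302, e3 q16422 (flp_f L213347) q17267, e3 q16423 L206552 q13644, e3 q16424 L235799 q19984, e3 q16425 L206565 q14109, e3 q16426 L206573 q12484, e3 q16427 L206583 q13448, e3 q16428 L206592 q12483, e3 q16429 (flp_f L208741) q16671, e3 q16430 (flp_f L206606) q12035, e3 q16431 (flp_f L214934) q17440, e3 q16432 (flp_f L206623) q12036, e3 q16433 (flp_f L232486) q19596, e3 q16434 L206643 q14113, e3 q16435 L206657 q12085, e3 q16436 L206669 q12088, e3 q16437 (flp_f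 L206681) q16285, e3 q16438 L219092 q17925, e3 q16439 L206697 q16297, e3 q16440 L206711 q16440, e3 q16441 (flp_f L206724) q12076, e3 q16442 L206732 q16442, e3 q16443 (flp_f L206747) q12079, e3 q16444 L206757 q12074, e3 q16445 (flp_f L215072) q17455, e3 q16446 L235077 q19907, e3 q16447 L206783 q16199, trivial⟩ (by decide +kernel)

theorem ce_f_257 : ∀ r, r < 64 → sm gf (Qf (16448 + r)) = Qf (tab Gen.f (16448 + r)) :=
  edges_tab (sm gf) Qf (tab Gen.f) 16448 [(16448, 12075), (16449, 14999), (16450, 14060), (16451, 14131), (16452, 15845), (16453, 13967), (16454, 13765), (16455, 14161), (16456, 17874), (16457, 16457), (16458, 12502), (16459, 16311), (16460, 13605), (16461, 19932), (16462, 19927), (16463, 12102), (16464, 16313), (16465, 12104), (16466, 13387), (16467, 14772), (16468, 16493), (16469, 17943), (16470, 15642), (16471, 12136), (16472, 17425), (16473, 17163), (16474, 19995), (16475, 12139), (16476, 12140), (16477, 18709), (16478, 12142), (16479, 19997), (16480, 12144), (16481, 19999), (16482, 12145), (16483,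 16604), (16484, 13431), (16485, 16608), (16486, 12200), (16487, 16345), (16488, 20005), (16489, 12150), (16490, 20006), (16491, 12151), (16492, 12152), (16493, 16468), (16494, 13964), (16495, 14738), (16496, 17842), (16497, 17849), (16498, 13104), (16499, 12176), (16500, 12178), (16501, 19712), (16502, 12181), (16503, 16189), (16504, 12184), (16505, 13479), (16506, 15575), (16507, 12191), (16508, 17470), (16509, 20010), (16510, 12192), (16511, 16514)]
    ⟨e3 q16448 (flp_f L206787) q12075, e3 q16449 L206803 q14999, e3 q16450 L206815 q14060, e3 q16451 L206825 q14131, e3 q16452 L206835 q15845, e3 q16453 L206843 q13967, e3 q16454 L206851 q13765, e3 q16455 (flp_f L206859) q14161, e3 q16456 L218600 q17874, e3 q16457 L206879 q16457, e3 q16458 (flp_f L206894) q12502, e3 q16459 (flp_f L206906) q16311, e3 q16460 L206914 q13605, e3 q16461 L235320 q19932, e3 q16462 (flp_f L235260) q19927, e3 q16463 (flp_f L206934) q12102, e3 q16464 L206952 q16313, e3 q16465 (flp_f L206954) q12104, e3 q16466 L206970 q13387, e3 q16467 (flp_f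 L206978) q14772, e3 q16468 L207172 q16493, e3 q16469 (flp_f L219268) q17943, e3 q16470 L207004 q15642, e3 q16471 L207014 q12136, e3 q16472 (flp_f L214777) q17425, e3 q16473 L212645 q17163, e3 q16474 L235910 q19995, e3 q16475 (flp_f L207037) q12139, e3 q16476 (flp_f L207043) q12140, e3 q16477 (flp_f L225532) q18709, e3 q16478 (flp_f L207057) q12142, e3 q16479 L235930 q19997, e3 q16480 (flp_f L207073) q12144, e3 q16481 L235952 q19999, e3 q16482 (flp_f L207087) q12145, e3 q16483 (flp_f L208114) q16604, e3 q16484 (flp_f L207105) q13431, e3 q16485 (flp_f L208144) q16608, e3 q16486 L207120 q12200, e3 q16487 (flp_f L207128) q16345, e3 q16488 L236002 q20005, e3 q16489 (flp_f L207135) q12150, e3 q16490 L236009 q20006, e3 q16491 (flp_f L207146) q12151, e3 q16492 (flp_f L207152) q12152, e3 q16493 (flp_f L207172) q16468, e3 q16494 (flp_f L207184) q13964, e3 q16495 L207191 q14738, e3 q16496 (flp_f L218310) q17842, e3 q16497 (flp_f L218382) q17849, e3 q16498 L207207 q13104, e3 q16499 (flp_f L207211) q12176, e3 q16500 (flp_f L207221)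 q12178, e3 q16501 L233443 q19712, e3 q16502 (flp_f L207233) q12181, e3 q16503 (flp_f L207251) q16189, e3 q16504 (flp_f L207255) q12184, e3 q16505 L207275 q13479, e3 q16506 (flp_f L207289) q15575, e3 q16507 (flp_f L207291) q12191, e3 q16508 L215235 q17470, e3 q16509 L236049 q20010, e3 q16510 (flp_f L207315) q12192, e3 q16511 L207347 q16514, trivial⟩ (by decide +kernel)

theorem ce_f_258 : ∀ r, r < 64 → sm gf (Qf (16512 + r)) = Qf (tab Gen.f (16512 + r)) :=
  edges_tab (sm gf) Qf (tab Gen.f) 16512 [(16512, 12195), (16513, 20013), (16514, 16511), (16515, 12197), (16516, 16385), (16517, 18988), (16518, 12201), (16519, 17216), (16520, 13040), (16521, 17118), (16522, 13346), (16523, 18555), (16524, 14842), (16525, 17487), (16526, 20017), (16527, 12210), (16528, 14639), (16529, 12218), (16530, 19908), (16531, 16245), (16532, 18905), (16533, 15292), (16534, 12232), (16535, 18895), (16536, 15273), (16537, 15847), (16538, 15855), (16539, 16362), (16540, 12242), (16541, 17475), (16542, 15275), (16543, 16543), (16544, 17175),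 (16545, 13343), (16546, 17103), (16547, 13024), (16548, 17105), (16549, 19911), (16550, 14894), (16551, 17104), (16552, 20036), (16553, 17087), (16554, 12252), (16555, 16396), (16556, 14037), (16557, 14038), (16558, 17883), (16559, 14945), (16560, 18169), (16561, 12267), (16562, 12689), (16563, 18513), (16564, 13469), (16565, 20039), (16566, 12286), (16567, 20041), (16568, 12287), (16569, 12291), (16570, 15321), (16571, 15115), (16572, 12294), (16573, 12295), (16574, 12297), (16575, 15219)]
    ⟨e3 q16512 (flp_f L207331) q12195, e3 q16513 L236071 q20013, e3 q16514 (flp_f L207347) q16511, e3 q16515 (flp_f L207349) q12197, e3 q16516 L207365 q16385, e3 q16517 L227480 q18988, e3 q16518 (flp_f L207375) q12201, e3 q16519 (flp_f L213027) q17216, e3 q16520 L207397 q13040, e3 q16521 (flp_f L212327) q17118, e3 q16522 L207413 q13346, e3 q16523 (flp_f L224381) q18555, e3 q16524 L207435 q14842, e3 q16525 (flp_f L215391) q17487, e3 q16526 L236109 q20017, e3 q16527 (flp_f L207461) q12210, e3 q16528 L207475 q14639, e3 q16529 (flp_f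 L207477) q12218, e3 q16530 (flp_f L235087) q19908, e3 q16531 (flp_f L207495) q16245, e3 q16532 (flp_f L226822) q18905, e3 q16533 (flp_f L207511) q15292, e3 q16534 (flp_f L207513) q12232, e3 q16535 (flp_f L226731) q18895, e3 q16536 (flp_f L207539) q15273, e3 q16537 L207553 q15847, e3 q16538 L207563 q15855, e3 q16539 (flp_f L207573) q16362, e3 q16540 L207581 q12242, e3 q16541 L215281 q17475, e3 q16542 L207599 q15275, e3 q16543 L207611 q16543, e3 q16544 (flp_f L212733) q17175, e3 q16545 (flp_f L207626) q13343, e3 q16546 (flp_f L212209) q17103, e3 q16547 L207640 q13024, e3 q16548 (flp_f L212219) q17105, e3 q16549 (flp_f L235117) q19911, e3 q16550 L207654 q14894, e3 q16551 (flp_f L212213) q17104, e3 q16552 L236245 q20036, e3 q16553 L212079 q17087, e3 q16554 (flp_f L207672) q12252, e3 q16555 L207686 q16396, e3 q16556 L207694 q14037, e3 q16557 L207704 q14038, e3 q16558 L218684 q17883, e3 q16559 L207720 q14945, e3 q16560 (flp_f L220948) q18169, e3 q16561 (flp_f L207730) q12267, e3 q16562 (flp_f L207750) q12689, e3 q16563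 L224009 q18513, e3 q16564 (flp_f L207766) q13469, e3 q16565 L236268 q20039, e3 q16566 (flp_f L207774) q12286, e3 q16567 L236284 q20041, e3 q16568 (flp_f L207788) q12287, e3 q16569 (flp_f L207798) q12291, e3 q16570 (flp_f L207812) q15321, e3 q16571 (flp_f L207824) q15115, e3 q16572 (flp_f L207828) q12294, e3 q16573 (flp_f L207842) q12295, e3 q16574 (flp_f L207852) q12297, e3 q16575 L207866 q15219, trivial⟩ (by decide +kernel)

theorem ce_f_259 : ∀ r, r < 64 → sm gf (Qf (16576 + r)) = Qf (tab Gen.f (16576 + r)) :=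
  edges_tab (sm gf) Qf (tab Gen.f) 16576 [(16576, 17448), (16577, 15117), (16578, 12301), (16579, 20046), (16580, 12302), (16581, 20048), (16582, 12303), (16583, 20050), (16584, 12308), (16585, 16609), (16586, 20054), (16587, 12310), (16588, 16634), (16589, 13093), (16590, 17305), (16591, 17181), (16592, 16233), (16593, 12319), (16594, 16829), (16595, 14536), (16596, 14991), (16597, 12328), (16598, 12331), (16599, 16004), (16600, 18596), (16601, 14293), (16602, 18381), (16603, 12751), (16604, 16483), (16605, 20061), (16606, 12358), (16607, 12407), (16608, 16485), (16609, 16585), (16610, 16776), (16611, 16633), (16612, 12403), (16613, 14898), (16614, 20069), (16615, 12368), (16616, 16635), (16617, 17083), (16618, 20073), (16619, 12372), (16620, 16349), (16621, 14956), (16622, 16081), (16623, 14718), (16624, 18444), (16625, 12389), (16626, 12399), (16627, 19938), (16628, 20066), (16629, 12706), (16630, 20062), (16631, 20080), (16632, 12408), (16633, 16611), (16634, 16588), (16635, 16616), (16636, 12414), (16637, 15007),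 (16638, 12421), (16639, 12482)]
    ⟨e3 q16576 L215023 q17448, e3 q16577 (flp_f L207886) q15117, e3 q16578 (flp_f L207888) q12301, e3 q16579 L236320 q20046, e3 q16580 (flp_f L207903) q12302, e3 q16581 L236338 q20048, e3 q16582 (flp_f L207917) q12303, e3 q16583 L236350 q20050, e3 q16584 (flp_f L207931) q12308, e3 q16585 (flp_f L208155) q16609, e3 q16586 L236376 q20054, e3 q16587 (flp_f L207947) q12310, e3 q16588 (flp_f L208359) q16634, e3 q16589 (flp_f L207965) q13093, e3 q16590 (flp_f L213619) q17305, e3 q16591 (flp_f L212773) q17181, e3 q16592 L207989 q16233, e3 q16593 (flp_f L207995) q12319, e3 q16594 (flp_f L210079) q16829, e3 q16595 L208015 q14536, e3 q16596 (flp_f L208027) q14991, e3 q16597 (flp_f L208029) q12328, e3 q16598 (flp_f L208043) q12331, e3 q16599 L208065 q16004, e3 q16600 (flp_f L224747) q18596, e3 q16601 L208090 q14293, e3 q16602 L222988 q18381, e3 q16603 (flp_f L208104) q12751, e3 q16604 L208114 q16483, e3 q16605 L236425 q20061, e3 q16606 (flp_f L208120) q12358, e3 q16607 (flp_f L208138) q12407,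 e3 q16608 L208144 q16485, e3 q16609 L208155 q16585, e3 q16610 (flp_f L209665) q16776, e3 q16611 L208349 q16633, e3 q16612 (flp_f L208181) q12403, e3 q16613 L208189 q14898, e3 q16614 L236494 q20069, e3 q16615 (flp_f L208195) q12368, e3 q16616 (flp_f L208365) q16635, e3 q16617 (flp_f L212051) q17083, e3 q16618 L236516 q20073, e3 q16619 (flp_f L208219) q12372, e3 q16620 L208235 q16349, e3 q16621 (flp_f L208250) q14956, e3 q16622 L208262 q16081, e3 q16623 L208276 q14718, e3 q16624 L223425 q18444, e3 q16625 (flp_f L208289) q12389, e3 q16626 (flp_f L208295) q12399, e3 q16627 (flp_f L235378) q19938, e3 q16628 L236478 q20066, e3 q16629 L208323 q12706, e3 q16630 L236441 q20062, e3 q16631 L236573 q20080, e3 q16632 (flp_f L208337) q12408, e3 q16633 (flp_f L208349) q16611, e3 q16634 L208359 q16588, e3 q16635 L208365 q16616, e3 q16636 (flp_f L208369) q12414, e3 q16637 L208389 q15007, e3 q16638 L208401 q12421, e3 q16639 L208413 q12482, trivial⟩ (by decide +kernel)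

theorem ce_f_260 : ∀ r, r < 64 → sm gf (Qf (16640 + r)) = Qf (tab Gen.f (16640 + r)) :=
  edges_tab (sm gf) Qf (tab Gen.f) 16640 [(16640, 12458), (16641, 12424), (16642, 13536), (16643, 13731), (16644, 12432), (16645, 14925), (16646, 14852), (16647, 20085), (16648, 12440), (16649, 12452), (16650, 12453), (16651, 20087), (16652, 20088), (16653, 12448), (16654, 12450), (16655, 14823), (16656, 17840), (16657, 20086), (16658, 12499), (16659, 12454), (16660, 12462), (16661, 17873), (16662, 12479), (16663, 13534), (16664, 13533), (16665, 13535), (16666, 15018), (16667, 16677), (16668, 16818), (16669, 16669), (16670, 18119), (16671, 16429), (16672, 13988), (16673, 12765), (16674, 14709), (16675, 14312), (16676, 12498), (16677, 16667), (16678, 20095), (16679, 13995), (16680, 16973), (16681, 17906), (16682, 16886), (16683, 17878), (16684, 14035), (16685, 17880), (16686, 20109), (16687, 12511), (16688, 20110), (16689, 20112), (16690, 12512), (16691, 20115), (16692, 12513), (16693, 14084), (16694, 12856), (16695, 12518),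 (16696, 16704), (16697, 20120), (16698, 12523), (16699, 12941), (16700, 20123), (16701, 12524), (16702, 19825), (16703, 12525)]
    ⟨e3 q16640 L208429 q12458, e3 q16641 (flp_f L208435) q12424, e3 q16642 L208451 q13536, e3 q16643 L208463 q13731, e3 q16644 (flp_f L208469) q12432, e3 q16645 L208491 q14925, e3 q16646 L208505 q14852, e3 q16647 L236615 q20085, e3 q16648 (flp_f L208521) q12440, e3 q16649 L208537 q12452, e3 q16650 L208543 q12453, e3 q16651 L236633 q20087, e3 q16652 L236645 q20088, e3 q16653 (flp_f L208562) q12448, e3 q16654 (flp_f L208570) q12450, e3 q16655 L208588 q14823, e3 q16656 L218294 q17840, e3 q16657 (flp_f L236629) q20086, e3 q16658 (flp_f L208620) q12499, e3 q16659 (flp_f L208622) q12454, e3 q16660 (flp_f L208634) q12462, e3 q16661 L218586 q17873, e3 q16662 L208652 q12479, e3 q16663 L208664 q13534, e3 q16664 L208676 q13533, e3 q16665 L208690 q13535, e3 q16666 (flp_f L208702) q15018, e3 q16667 L208803 q16677, e3 q16668 L209987 q16818, e3 q16669 L208724 q16669, e3 q16670 (flp_f L220554) q18119,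 e3 q16671 L208741 q16429, e3 q16672 (flp_f L208751) q13988, e3 q16673 L208761 q12765, e3 q16674 L208773 q14709, e3 q16675 L208777 q14312, e3 q16676 L208789 q12498, e3 q16677 (flp_f L208803) q16667, e3 q16678 L236723 q20095, e3 q16679 (flp_f L208817) q13995, e3 q16680 L211218 q16973, e3 q16681 (flp_f L218902) q17906, e3 q16682 (flp_f L210565) q16886, e3 q16683 (flp_f L218634) q17878, e3 q16684 L208863 q14035, e3 q16685 (flp_f L218654) q17880, e3 q16686 L236855 q20109, e3 q16687 (flp_f L208875) q12511, e3 q16688 L236865 q20110, e3 q16689 L236889 q20112, e3 q16690 (flp_f L208899) q12512, e3 q16691 L236921 q20115, e3 q16692 (flp_f L208913) q12513, e3 q16693 (flp_f L208927) q14084, e3 q16694 (flp_f L208937) q12856, e3 q16695 (flp_f L208941) q12518, e3 q16696 L209021 q16704, e3 q16697 L236975 q20120, e3 q16698 (flp_f L208965) q12523, e3 q16699 (flp_f L208979) q12941, e3 q16700 L236997 q20123, e3 q16701 (flp_f L208989) q12524, e3 q16702 (flp_f L234353) q19825, e3 q16703 (flp_f L209007) q12525, trivial⟩ (by decide +kernel)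

theorem ce_f_261 : ∀ r, r < 64 → sm gf (Qf (16704 + r)) = Qf (tab Gen.f (16704 + r)) :=
  edges_tab (sm gf) Qf (tab Gen.f) 16704 [(16704, 16696), (16705, 12528), (16706, 12529), (16707, 16710), (16708, 16967), (16709, 19223), (16710, 16707), (16711, 20126), (16712, 20131), (16713, 12530), (16714, 12838), (16715, 13514), (16716, 13060), (16717, 20134), (16718, 14142), (16719, 12537), (16720, 12667), (16721, 12544), (16722, 12666), (16723, 16754), (16724, 17931), (16725, 14147), (16726, 19120), (16727, 17014), (16728, 15100), (16729, 20141), (16730, 18896), (16731, 16935), (16732, 20144), (16733, 12554), (16734, 13430), (16735, 13149), (16736, 12560), (16737, 16948), (16738, 18897), (16739, 13027), (16740, 13274), (16741, 12573), (16742, 16844), (16743, 13259), (16744, 14861), (16745, 12774), (16746, 15564), (16747, 17433), (16748, 17434), (16749, 12614), (16750, 19530), (16751, 13435), (16752, 20154), (16753, 16943), (16754, 16723), (16755, 12624), (16756, 16759), (16757, 12626), (16758, 12628), (16759, 16756),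 (16760, 12909), (16761, 12910), (16762, 12911), (16763, 16956), (16764, 12639), (16765, 16766), (16766, 16765), (16767, 12641)]
    ⟨e3 q16704 (flp_f L209021) q16696, e3 q16705 L209029 q12528, e3 q16706 L209035 q12529, e3 q16707 (flp_f L209069) q16710, e3 q16708 (flp_f L211177) q16967, e3 q16709 (flp_f L229094) q19223, e3 q16710 L209069 q16707, e3 q16711 (flp_f L237037) q20126, e3 q16712 L237079 q20131, e3 q16713 (flp_f L209085) q12530, e3 q16714 L209099 q12838, e3 q16715 L209113 q13514, e3 q16716 L209123 q13060, e3 q16717 L237109 q20134, e3 q16718 L209135 q14142, e3 q16719 (flp_f L209141) q12537, e3 q16720 L209157 q12667, e3 q16721 L209171 q12544, e3 q16722 L209181 q12666, e3 q16723 L209443 q16754, e3 q16724 L219154 q17931, e3 q16725 (flp_f L209209) q14147, e3 q16726 (flp_f L228317) q19120, e3 q16727 (flp_f L211545) q17014, e3 q16728 L209229 q15100, e3 q16729 L237181 q20141, e3 q16730 (flp_f L226741) q18896, e3 q16731 (flp_f L210937) q16935, e3 q16732 L237209 q20144, e3 q16733 (flp_f L209263) q12554, e3 q16734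 L209277 q13430, e3 q16735 L209282 q13149, e3 q16736 (flp_f L209286) q12560, e3 q16737 L211029 q16948, e3 q16738 (flp_f L226749) q18897, e3 q16739 (flp_f L209315) q13027, e3 q16740 L209323 q13274, e3 q16741 (flp_f L209325) q12573, e3 q16742 (flp_f L210191) q16844, e3 q16743 (flp_f L209351) q13259, e3 q16744 (flp_f L209363) q14861, e3 q16745 L209373 q12774, e3 q16746 L209385 q15564, e3 q16747 (flp_f L214864) q17433, e3 q16748 (flp_f L214872) q17434, e3 q16749 L209407 q12614, e3 q16750 (flp_f L231896) q19530, e3 q16751 L209417 q13435, e3 q16752 L237289 q20154, e3 q16753 L210987 q16943, e3 q16754 (flp_f L209443) q16723, e3 q16755 (flp_f L209447) q12624, e3 q16756 L209493 q16759, e3 q16757 (flp_f L209467) q12626, e3 q16758 (flp_f L209475) q12628, e3 q16759 (flp_f L209493) q16756, e3 q16760 L209499 q12909, e3 q16761 L209505 q12910, e3 q16762 L209511 q12911, e3 q16763 (flp_f L211079) q16956, e3 q16764 L209533 q12639, e3 q16765 (flp_f L209555) q16766, e3 q16766 L209555 q16765, e3 q16767 (flp_f L209557) q12641, trivial⟩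 (by decide +kernel)

theorem ce_f_262 : ∀ r, r < 64 → sm gf (Qf (16768 + r)) = Qf (tab Gen.f (16768 + r)) :=
  edges_tab (sm gf) Qf (tab Gen.f) 16768 [(16768, 12679), (16769, 16796), (16770, 12645), (16771, 12648), (16772, 13934), (16773, 12653), (16774, 20146), (16775, 15814), (16776, 16610), (16777, 12657), (16778, 20164), (16779, 12663), (16780, 13105), (16781, 20135), (16782, 20125), (16783, 19500), (16784, 16835), (16785, 19253), (16786, 12670), (16787, 20097), (16788, 16801), (16789, 20173), (16790, 19625), (16791, 12675), (16792, 14728), (16793, 20149), (16794, 20175), (16795, 12680), (16796, 16769), (16797, 12683), (16798, 20177), (16799, 12685), (16800, 12686), (16801, 16788), (16802, 14021), (16803, 14943), (16804, 12691), (16805, 14174), (16806, 12693), (16807, 17139), (16808, 16885), (16809, 12726), (16810, 12727), (16811, 12728), (16812, 16839), (16813, 17948), (16814, 12712), (16815, 12714), (16816, 12715), (16817, 16823), (16818, 16668), (16819, 18556), (16820, 20192), (16821, 12709), (16822, 14859),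 (16823, 16817), (16824, 20189), (16825, 20196), (16826, 19413), (16827, 12716), (16828, 13110), (16829, 16594), (16830, 19544), (16831, 20199)]
    ⟨e3 q16768 L209573 q12679, e3 q16769 L209817 q16796, e3 q16770 (flp_f L209587) q12645, e3 q16771 L209607 q12648, e3 q16772 (flp_f L209621) q13934, e3 q16773 L209631 q12653, e3 q16774 (flp_f L237233) q20146, e3 q16775 (flp_f L209655) q15814, e3 q16776 L209665 q16610, e3 q16777 (flp_f L209671) q12657, e3 q16778 L237373 q20164, e3 q16779 (flp_f L209689) q12663, e3 q16780 (flp_f L209709) q13105, e3 q16781 (flp_f L237127) q20135, e3 q16782 (flp_f L237025) q20125, e3 q16783 (flp_f L231638) q19500, e3 q16784 L210129 q16835, e3 q16785 (flp_f L229356) q19253, e3 q16786 (flp_f L209737) q12670, e3 q16787 (flp_f L236747) q20097, e3 q16788 L209859 q16801, e3 q16789 L237445 q20173, e3 q16790 L232763 q19625, e3 q16791 (flp_f L209773) q12675, e3 q16792 L209783 q14728, e3 q16793 (flp_f L237259) q20149, e3 q16794 L237465 q20175, e3 q16795 (flp_f L209803) q12680, e3 q16796 (flp_f L209817)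 q16769, e3 q16797 (flp_f L209821) q12683, e3 q16798 L237483 q20177, e3 q16799 (flp_f L209839) q12685, e3 q16800 (flp_f L209843) q12686, e3 q16801 (flp_f L209859) q16788, e3 q16802 L209865 q14021, e3 q16803 L209877 q14943, e3 q16804 (flp_f L209885) q12691, e3 q16805 (flp_f L209899) q14174, e3 q16806 (flp_f L209901) q12693, e3 q16807 (flp_f L212467) q17139, e3 q16808 L210555 q16885, e3 q16809 L209927 q12726, e3 q16810 L209933 q12727, e3 q16811 L209937 q12728, e3 q16812 (flp_f L210157) q16839, e3 q16813 (flp_f L219324) q17948, e3 q16814 L209957 q12712, e3 q16815 L209963 q12714, e3 q16816 L209971 q12715, e3 q16817 (flp_f L210031) q16823, e3 q16818 (flp_f L209987) q16668, e3 q16819 (flp_f L224389) q18556, e3 q16820 L237611 q20192, e3 q16821 (flp_f L210005) q12709, e3 q16822 (flp_f L210021) q14859, e3 q16823 L210031 q16817, e3 q16824 (flp_f L237587) q20189, e3 q16825 L237647 q20196, e3 q16826 L230738 q19413, e3 q16827 (flp_f L210055) q12716, e3 q16828 L210067 q13110, e3 q16829 L210079 q16594, e3 q16830 (flp_f L232048)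 q19544, e3 q16831 L237673 q20199, trivial⟩ (by decide +kernel)

theorem ce_f_263 : ∀ r, r < 64 → sm gf (Qf (16832 + r)) = Qf (tab Gen.f (16832 + r)) :=
  edges_tab (sm gf) Qf (tab Gen.f) 16832 [(16832, 12720), (16833, 19504), (16834, 12721), (16835, 16784), (16836, 14793), (16837, 20186), (16838, 19506), (16839, 16812), (16840, 19479), (16841, 20204), (16842, 12729), (16843, 20205), (16844, 16742), (16845, 20207), (16846, 13272), (16847, 18592), (16848, 14392), (16849, 17502), (16850, 12757), (16851, 14995), (16852, 14476), (16853, 12913), (16854, 14316), (16855, 16321), (16856, 12771), (16857, 17457), (16858, 13953), (16859, 20212), (16860, 12778), (16861, 15544), (16862, 13075), (16863, 12815), (16864, 12791), (16865, 13933), (16866, 17476), (16867, 12796), (16868, 14672), (16869, 18505), (16870, 16270), (16871, 12816), (16872, 12842), (16873, 12844), (16874, 16890), (16875, 14891), (16876, 12951), (16877, 20216), (16878, 12826), (16879, 16907), (16880, 20217), (16881, 12828), (16882, 12830), (16883, 20118), (16884,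 20218), (16885, 16808), (16886, 16682), (16887, 12841), (16888, 20102), (16889, 14539), (16890, 16874), (16891, 12950), (16892, 14289), (16893, 14288), (16894, 18351), (16895, 20225)]
    ⟨e3 q16832 (flp_f L210101) q12720, e3 q16833 (flp_f L231658) q19504, e3 q16834 (flp_f L210119) q12721, e3 q16835 (flp_f L210129) q16784, e3 q16836 L210135 q14793, e3 q16837 (flp_f L237565) q20186, e3 q16838 (flp_f L231680) q19506, e3 q16839 L210157 q16812, e3 q16840 (flp_f L231420) q19479, e3 q16841 L237727 q20204, e3 q16842 (flp_f L210173) q12729, e3 q16843 L237737 q20205, e3 q16844 L210191 q16742, e3 q16845 L237761 q20207, e3 q16846 L210202 q13272, e3 q16847 (flp_f L224704) q18592, e3 q16848 (flp_f L210219) q14392, e3 q16849 (flp_f L215534) q17502, e3 q16850 (flp_f L210230) q12757, e3 q16851 L210248 q14995, e3 q16852 (flp_f L210261) q14476, e3 q16853 L210269 q12913, e3 q16854 L210279 q14316, e3 q16855 (flp_f L210291) q16321, e3 q16856 L210297 q12771, e3 q16857 (flp_f L215098) q17457, e3 q16858 (flp_f L210315) q13953, e3 q16859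 L237817 q20212, e3 q16860 (flp_f L210329) q12778, e3 q16861 L210345 q15544, e3 q16862 L210357 q13075, e3 q16863 L210367 q12815, e3 q16864 (flp_f L210371) q12791, e3 q16865 L210385 q13933, e3 q16866 (flp_f L215289) q17476, e3 q16867 (flp_f L210395) q12796, e3 q16868 L210413 q14672, e3 q16869 L223931 q18505, e3 q16870 (flp_f L210435) q16270, e3 q16871 (flp_f L210439) q12816, e3 q16872 L210455 q12842, e3 q16873 L210467 q12844, e3 q16874 (flp_f L210601) q16890, e3 q16875 (flp_f L210483) q14891, e3 q16876 L210489 q12951, e3 q16877 L237853 q20216, e3 q16878 (flp_f L210495) q12826, e3 q16879 L210739 q16907, e3 q16880 L237862 q20217, e3 q16881 (flp_f L210527) q12828, e3 q16882 L210535 q12830, e3 q16883 (flp_f L236955) q20118, e3 q16884 (flp_f L237874) q20218, e3 q16885 (flp_f L210555) q16808, e3 q16886 L210565 q16682, e3 q16887 (flp_f L210569) q12841, e3 q16888 L236791 q20102, e3 q16889 L210591 q14539, e3 q16890 L210601 q16874, e3 q16891 L210607 q12950, e3 q16892 L210615 q14289, e3 q16893 L210627 q14288, e3 q16894 (flp_f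 L222375) q18351, e3 q16895 L237919 q20225, trivial⟩ (by decide +kernel)

theorem ce_f_264 : ∀ r, r < 64 → sm gf (Qf (16896 + r)) = Qf (tab Gen.f (16896 + r)) :=
  edges_tab (sm gf) Qf (tab Gen.f) 16896 [(16896, 12845), (16897, 15151), (16898, 12847), (16899, 16966), (16900, 20227), (16901, 12848), (16902, 16986), (16903, 20181), (16904, 20229), (16905, 12850), (16906, 15051), (16907, 16879), (16908, 18619), (16909, 18526), (16910, 20235), (16911, 12860), (16912, 14647), (16913, 18478), (16914, 12869), (16915, 17001), (16916, 12871), (16917, 18981), (16918, 15343), (16919, 19108), (16920, 12874), (16921, 18639), (16922, 15426), (16923, 17015), (16924, 15610), (16925, 12880), (16926, 12906), (16927, 20168), (16928, 16932), (16929, 20253), (16930, 12885), (16931, 20255), (16932, 16928), (16933, 19722), (16934, 12889), (16935, 16731), (16936, 20261), (16937, 20262), (16938, 20263), (16939, 12894), (16940, 20137), (16941, 12895), (16942, 12896), (16943, 16753), (16944, 17172), (16945, 13482), (16946, 13474), (16947,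 13208), (16948, 16737), (16949, 12902), (16950, 17491), (16951, 17264), (16952, 20157), (16953, 20158), (16954, 20275), (16955, 20160), (16956, 16763), (16957, 20133), (16958, 12912), (16959, 18578)]
    ⟨e3 q16896 (flp_f L210637) q12845, e3 q16897 (flp_f L210651) q15151, e3 q16898 (flp_f L210657) q12847, e3 q16899 (flp_f L211165) q16966, e3 q16900 L237929 q20227, e3 q16901 (flp_f L210691) q12848, e3 q16902 (flp_f L211310) q16986, e3 q16903 L237529 q20181, e3 q16904 L237943 q20229, e3 q16905 (flp_f L210725) q12850, e3 q16906 L210731 q15051, e3 q16907 (flp_f L210739) q16879, e3 q16908 (flp_f L224953) q18619, e3 q16909 L224107 q18526, e3 q16910 L237981 q20235, e3 q16911 (flp_f L210765) q12860, e3 q16912 L210779 q14647, e3 q16913 L223663 q18478, e3 q16914 (flp_f L210793) q12869, e3 q16915 L211435 q17001, e3 q16916 (flp_f L210807) q12871, e3 q16917 (flp_f L227377) q18981, e3 q16918 (flp_f L210819) q15343, e3 q16919 L228232 q19108, e3 q16920 (flp_f L210825) q12874, e3 q16921 (flp_f L225093) q18639, e3 q16922 (flp_f L210847)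 q15426, e3 q16923 L211555 q17015, e3 q16924 L210863 q15610, e3 q16925 (flp_f L210871) q12880, e3 q16926 (flp_f L210885) q12906, e3 q16927 (flp_f L237409) q20168, e3 q16928 (flp_f L210917) q16932, e3 q16929 L238089 q20253, e3 q16930 (flp_f L210897) q12885, e3 q16931 L238109 q20255, e3 q16932 L210917 q16928, e3 q16933 (flp_f L233521) q19722, e3 q16934 (flp_f L210923) q12889, e3 q16935 L210937 q16731, e3 q16936 L238153 q20261, e3 q16937 L238163 q20262, e3 q16938 L238171 q20263, e3 q16939 (flp_f L210953) q12894, e3 q16940 L237153 q20137, e3 q16941 (flp_f L210965) q12895, e3 q16942 (flp_f L210973) q12896, e3 q16943 (flp_f L210987) q16753, e3 q16944 L212707 q17172, e3 q16945 L211003 q13482, e3 q16946 L211013 q13474, e3 q16947 L211017 q13208, e3 q16948 (flp_f L211029) q16737, e3 q16949 (flp_f L211031) q12902, e3 q16950 (flp_f L215427) q17491, e3 q16951 (flp_f L213327) q17264, e3 q16952 (flp_f L237324) q20157, e3 q16953 (flp_f L237328) q20158, e3 q16954 L238269 q20275, e3 q16955 (flp_f L237342) q20160, e3 q16956 L211079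 q16763, e3 q16957 (flp_f L237107) q20133, e3 q16958 (flp_f L211089) q12912, e3 q16959 (flp_f L224581) q18578, trivial⟩ (by decide +kernel)

theorem ce_f_265 : ∀ r, r < 64 → sm gf (Qf (16960 + r)) = Qf (tab Gen.f (16960 + r)) :=
  edges_tab (sm gf) Qf (tab Gen.f) 16960 [(16960, 15218), (16961, 19545), (16962, 20281), (16963, 12915), (16964, 13425), (16965, 17877), (16966, 16899), (16967, 16708), (16968, 20284), (16969, 12922), (16970, 19119), (16971, 20288), (16972, 12924), (16973, 16680), (16974, 20292), (16975, 12927), (16976, 17882), (16977, 12929), (16978, 12930), (16979, 16981), (16980, 20294), (16981, 16979), (16982, 19771), (16983, 20301), (16984, 12931), (16985, 12932), (16986, 16902), (16987, 12934), (16988, 18562), (16989, 20145), (16990, 12936), (16991, 15185), (16992, 12939), (16993, 12940), (16994, 15345), (16995, 20302), (16996, 20303), (16997, 20121), (16998, 20185), (16999, 20312), (17000, 12943), (17001, 16915), (17002, 17009), (17003, 19675), (17004, 12944), (17005, 20317), (17006, 12945), (17007,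 20319), (17008, 12946), (17009, 17002), (17010, 12948), (17011, 17012), (17012, 17011), (17013, 19700), (17014, 16727), (17015, 16923), (17016, 14458), (17017, 12953), (17018, 17023), (17019, 12957), (17020, 17032), (17021, 14445), (17022, 18257), (17023, 17018)]
    ⟨e3 q16960 L211111 q15218, e3 q16961 (flp_f L232054) q19545, e3 q16962 L238321 q20281, e3 q16963 (flp_f L211129) q12915, e3 q16964 (flp_f L211149) q13425, e3 q16965 (flp_f L218622) q17877, e3 q16966 L211165 q16899, e3 q16967 L211177 q16708, e3 q16968 L238349 q20284, e3 q16969 (flp_f L211187) q12922, e3 q16970 (flp_f L228307) q19119, e3 q16971 L238374 q20288, e3 q16972 (flp_f L211206) q12924, e3 q16973 (flp_f L211218) q16680, e3 q16974 L238407 q20292, e3 q16975 (flp_f L211224) q12927, e3 q16976 (flp_f L218670) q17882, e3 q16977 L211246 q12929, e3 q16978 L211254 q12930, e3 q16979 (flp_f L211276) q16981, e3 q16980 (flp_f L238433) q20294, e3 q16981 L211276 q16979, e3 q16982 L233929 q19771, e3 q16983 L238475 q20301, e3 q16984 (flp_f L211286) q12931, e3 q16985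 (flp_f L211294) q12932, e3 q16986 L211310 q16902, e3 q16987 (flp_f L211314) q12934, e3 q16988 (flp_f L224439) q18562, e3 q16989 L237223 q20145, e3 q16990 (flp_f L211340) q12936, e3 q16991 L211356 q15185, e3 q16992 L211366 q12939, e3 q16993 L211374 q12940, e3 q16994 (flp_f L211386) q15345, e3 q16995 (flp_f L238495) q20302, e3 q16996 (flp_f L238503) q20303, e3 q16997 (flp_f L236989) q20121, e3 q16998 (flp_f L237555) q20185, e3 q16999 L238563 q20312, e3 q17000 (flp_f L211419) q12943, e3 q17001 (flp_f L211435) q16915, e3 q17002 L211491 q17009, e3 q17003 L233165 q19675, e3 q17004 (flp_f L211455) q12944, e3 q17005 L238601 q20317, e3 q17006 (flp_f L211467) q12945, e3 q17007 L238617 q20319, e3 q17008 (flp_f L211481) q12946, e3 q17009 (flp_f L211491) q17002, e3 q17010 (flp_f L211495) q12948, e3 q17011 L211529 q17012, e3 q17012 (flp_f L211529) q17011, e3 q17013 (flp_f L233353) q19700, e3 q17014 L211545 q16727, e3 q17015 (flp_f L211555) q16923, e3 q17016 (flp_f L211569) q14458, e3 q17017 (flp_f L211573) q12953, e3 q17018 L211629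 q17023, e3 q17019 (flp_f L211595) q12957, e3 q17020 L211701 q17032, e3 q17021 L211613 q14445, e3 q17022 L221614 q18257, e3 q17023 (flp_f L211629) q17018, trivial⟩ (by decide +kernel)

theorem ce_f_266 : ∀ r, r < 64 → sm gf (Qf (17024 + r)) = Qf (tab Gen.f (17024 + r)) :=
  edges_tab (sm gf) Qf (tab Gen.f) 17024 [(17024, 20322), (17025, 12963), (17026, 14809), (17027, 12965), (17028, 14837), (17029, 18269), (17030, 14769), (17031, 20328), (17032, 17020), (17033, 20332), (17034, 12973), (17035, 17037), (17036, 17048), (17037, 17035), (17038, 12975), (17039, 18543), (17040, 19750), (17041, 19747), (17042, 17133), (17043, 12978), (17044, 17101), (17045, 12979), (17046, 20338), (17047, 12980), (17048, 17036), (17049, 20340), (17050, 12983), (17051, 20343), (17052, 19809), (17053, 12985), (17054, 17886), (17055, 17197), (17056, 20346), (17057, 12987), (17058, 20347), (17059, 18340), (17060, 17204), (17061, 17677), (17062, 12990), (17063, 12992), (17064, 20353), (17065, 20354), (17066, 20358), (17067, 14750), (17068, 12993),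 (17069, 17224), (17070, 19744), (17071, 20361), (17072, 12995), (17073, 13009), (17074, 12998), (17075, 12999), (17076, 17079), (17077, 18702), (17078, 20363), (17079, 17076), (17080, 20364), (17081, 20370), (17082, 13000), (17083, 16617), (17084, 13465), (17085, 20375), (17086, 13002), (17087, 16553)]
    ⟨e3 q17024 L238645 q20322, e3 q17025 (flp_f L211635) q12963, e3 q17026 (flp_f L211649) q14809, e3 q17027 (flp_f L211651) q12965, e3 q17028 L211667 q14837, e3 q17029 L221700 q18269, e3 q17030 L211685 q14769, e3 q17031 L238707 q20328, e3 q17032 (flp_f L211701) q17020, e3 q17033 L238759 q20332, e3 q17034 (flp_f L211709) q12973, e3 q17035 L211737 q17037, e3 q17036 L211801 q17048, e3 q17037 (flp_f L211737) q17035, e3 q17038 (flp_f L211739) q12975, e3 q17039 (flp_f L224287) q18543, e3 q17040 L233755 q19750, e3 q17041 L233725 q19747, e3 q17042 (flp_f L216607) q17133, e3 q17043 (flp_f L211761) q12978, e3 q17044 (flp_f L212193) q17101, e3 q17045 (flp_f L211771) q12979, e3 q17046 L238823 q20338, e3 q17047 (flp_f L211787)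 q12980, e3 q17048 (flp_f L211801) q17036, e3 q17049 L238841 q20340, e3 q17050 (flp_f L211813) q12983, e3 q17051 L238865 q20343, e3 q17052 (flp_f L234217) q19809, e3 q17053 (flp_f L211831) q12985, e3 q17054 (flp_f L218718) q17886, e3 q17055 L212891 q17197, e3 q17056 L238891 q20346, e3 q17057 (flp_f L211857) q12987, e3 q17058 (flp_f L238913) q20347, e3 q17059 (flp_f L222265) q18340, e3 q17060 L212949 q17204, e3 q17061 L216932 q17677, e3 q17062 (flp_f L211905) q12990, e3 q17063 L211913 q12992, e3 q17064 (flp_f L238987) q20353, e3 q17065 (flp_f L238997) q20354, e3 q17066 L239027 q20358, e3 q17067 L211937 q14750, e3 q17068 (flp_f L211939) q12993, e3 q17069 L213079 q17224, e3 q17070 L233697 q19744, e3 q17071 L239061 q20361, e3 q17072 (flp_f L211977) q12995, e3 q17073 L211985 q13009, e3 q17074 L211991 q12998, e3 q17075 L211997 q12999, e3 q17076 (flp_f L212023) q17079, e3 q17077 (flp_f L225469) q18702, e3 q17078 (flp_f L239083) q20363, e3 q17079 L212023 q17076, e3 q17080 (flp_f L239087) q20364, e3 q17081 L239129 q20370,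 e3 q17082 (flp_f L212037) q13000, e3 q17083 L212051 q16617, e3 q17084 (flp_f L212059) q13465, e3 q17085 L239163 q20375, e3 q17086 (flp_f L212063) q13002, e3 q17087 (flp_f L212079) q16553, trivial⟩ (by decide +kernel)

theorem ce_f_267 : ∀ r, r < 64 → sm gf (Qf (17088 + r)) = Qf (tab Gen.f (17088 + r)) :=
  edges_tab (sm gf) Qf (tab Gen.f) 17088 [(17088, 13459), (17089, 13188), (17090, 17464), (17091, 20362), (17092, 19898), (17093, 19897), (17094, 13013), (17095, 13015), (17096, 13073), (17097, 19872), (17098, 19875), (17099, 16167), (17100, 16248), (17101, 17044), (17102, 18900), (17103, 16546), (17104, 16551), (17105, 16548), (17106, 20028), (17107, 15032), (17108, 13029), (17109, 17115), (17110, 13033), (17111, 17123), (17112, 18316), (17113, 13037), (17114, 19655), (17115, 17109), (17116, 13039), (17117, 20016), (17118, 16521), (17119, 14821), (17120, 13059), (17121, 13046), (17122, 13053), (17123, 17111), (17124, 13048), (17125, 13054), (17126, 13055), (17127, 17135), (17128, 18550), (17129, 14094), (17130,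 20396), (17131, 20331), (17132, 20330), (17133, 17042), (17134, 19949), (17135, 17127), (17136, 20399), (17137, 19375), (17138, 13056), (17139, 16807), (17140, 20395), (17141, 18332), (17142, 20132), (17143, 17876), (17144, 13170), (17145, 13171), (17146, 13453), (17147, 13843), (17148, 14803), (17149, 13175), (17150, 13177), (17151, 17276)]
    ⟨e3 q17088 L212085 q13459, e3 q17089 L212095 q13188, e3 q17090 (flp_f L215163) q17464, e3 q17091 (flp_f L239075) q20362, e3 q17092 (flp_f L234997) q19898, e3 q17093 (flp_f L234985) q19897, e3 q17094 L212139 q13013, e3 q17095 L212147 q13015, e3 q17096 L212159 q13073, e3 q17097 L234759 q19872, e3 q17098 (flp_f L234793) q19875, e3 q17099 (flp_f L212171) q16167, e3 q17100 L212183 q16248, e3 q17101 L212193 q17044, e3 q17102 (flp_f L226776) q18900, e3 q17103 L212209 q16546, e3 q17104 L212213 q16551, e3 q17105 L212219 q16548, e3 q17106 (flp_f L236205) q20028, e3 q17107 (flp_f L212239) q15032, e3 q17108 (flp_f L212241) q13029, e3 q17109 L212301 q17115, e3 q17110 (flp_f L212263)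 q13033, e3 q17111 L212363 q17123, e3 q17112 L222066 q18316, e3 q17113 (flp_f L212285) q13037, e3 q17114 (flp_f L233003) q19655, e3 q17115 (flp_f L212301) q17109, e3 q17116 (flp_f L212303) q13039, e3 q17117 (flp_f L236103) q20016, e3 q17118 L212327 q16521, e3 q17119 L212337 q14821, e3 q17120 L212345 q13059, e3 q17121 (flp_f L212347) q13046, e3 q17122 L212357 q13053, e3 q17123 (flp_f L212363) q17111, e3 q17124 (flp_f L212365) q13048, e3 q17125 L212377 q13054, e3 q17126 L212385 q13055, e3 q17127 (flp_f L212435) q17135, e3 q17128 L224347 q18550, e3 q17129 L212399 q14094, e3 q17130 (flp_f L239365) q20396, e3 q17131 L238757 q20331, e3 q17132 (flp_f L238739) q20330, e3 q17133 L216607 q17042, e3 q17134 (flp_f L235475) q19949, e3 q17135 L212435 q17127, e3 q17136 (flp_f L239397) q20399, e3 q17137 (flp_f L230418) q19375, e3 q17138 (flp_f L212451) q13056, e3 q17139 L212467 q16807, e3 q17140 (flp_f L239355) q20395, e3 q17141 L222168 q18332, e3 q17142 (flp_f L237093) q20132, e3 q17143 L218614 q17876, e3 q17144 L212493 q13170,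 e3 q17145 L212499 q13171, e3 q17146 (flp_f L212507) q13453, e3 q17147 L212515 q13843, e3 q17148 L212521 q14803, e3 q17149 L212527 q13175, e3 q17150 L212535 q13177, e3 q17151 (flp_f L213421) q17276, trivial⟩ (by decide +kernel)

theorem ce_f_268 : ∀ r, r < 64 → sm gf (Qf (17152 + r)) = Qf (tab Gen.f (17152 + r)) :=
  edges_tab (sm gf) Qf (tab Gen.f) 17152 [(17152, 20411), (17153, 13066), (17154, 14801), (17155, 14770), (17156, 13184), (17157, 13187), (17158, 17291), (17159, 20026), (17160, 17167), (17161, 20415), (17162, 13071), (17163, 16473), (17164, 20384), (17165, 13072), (17166, 20385), (17167, 17160), (17168, 18565), (17169, 17173), (17170, 20422), (17171, 13076), (17172, 16944), (17173, 17169), (17174, 13079), (17175, 16544), (17176, 16242), (17177, 15297), (17178, 18924), (17179, 16156), (17180, 13086), (17181, 16591), (17182, 19953), (17183, 20056), (17184, 20427), (17185, 13094), (17186, 15619), (17187, 19601), (17188, 20430), (17189, 20433), (17190, 20197), (17191, 19923), (17192, 13109), (17193, 17436),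 (17194, 17731), (17195, 13112), (17196, 13114), (17197, 17055), (17198, 20436), (17199, 14568), (17200, 13116), (17201, 14567), (17202, 13118), (17203, 19505), (17204, 17060), (17205, 13122), (17206, 13123), (17207, 17210), (17208, 20445), (17209, 20442), (17210, 17207), (17211, 20443), (17212, 20449), (17213, 13124), (17214, 20450), (17215, 13125)]
    ⟨e3 q17152 L239503 q20411, e3 q17153 (flp_f L212565) q13066, e3 q17154 L212579 q14801, e3 q17155 (flp_f L212591) q14770, e3 q17156 L212599 q13184, e3 q17157 L212607 q13187, e3 q17158 (flp_f L213523) q17291, e3 q17159 L236189 q20026, e3 q17160 L212671 q17167, e3 q17161 L239543 q20415, e3 q17162 (flp_f L212635) q13071, e3 q17163 (flp_f L212645) q16473, e3 q17164 (flp_f L239257) q20384, e3 q17165 (flp_f L212653) q13072, e3 q17166 (flp_f L239263) q20385, e3 q17167 (flp_f L212671) q17160, e3 q17168 (flp_f L224469) q18565, e3 q17169 (flp_f L212715) q17173, e3 q17170 L239603 q20422, e3 q17171 (flp_f L212691) q13076, e3 q17172 (flp_f L212707) q16944, e3 q17173 L212715 q17169,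 e3 q17174 (flp_f L212719) q13079, e3 q17175 L212733 q16544, e3 q17176 L212741 q16242, e3 q17177 L212747 q15297, e3 q17178 L226958 q18924, e3 q17179 L212767 q16156, e3 q17180 (flp_f L212759) q13086, e3 q17181 L212773 q16591, e3 q17182 (flp_f L235511) q19953, e3 q17183 L236390 q20056, e3 q17184 L239653 q20427, e3 q17185 (flp_f L212795) q13094, e3 q17186 L212805 q15619, e3 q17187 (flp_f L232540) q19601, e3 q17188 L239685 q20430, e3 q17189 L239719 q20433, e3 q17190 (flp_f L237661) q20197, e3 q17191 L235219 q19923, e3 q17192 (flp_f L212847) q13109, e3 q17193 (flp_f L214896) q17436, e3 q17194 L217364 q17731, e3 q17195 (flp_f L212869) q13112, e3 q17196 L212881 q13114, e3 q17197 (flp_f L212891) q17055, e3 q17198 (flp_f L239747) q20436, e3 q17199 L212905 q14568, e3 q17200 (flp_f L212911) q13116, e3 q17201 L212929 q14567, e3 q17202 (flp_f L212931) q13118, e3 q17203 (flp_f L231672) q19505, e3 q17204 (flp_f L212949) q17060, e3 q17205 L212955 q13122, e3 q17206 L212959 q13123, e3 q17207 (flp_f L212983) q17210, e3 q17208 L239813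 q20445, e3 q17209 (flp_f L239799) q20442, e3 q17210 L212983 q17207, e3 q17211 (flp_f L239803) q20443, e3 q17212 L239847 q20449, e3 q17213 (flp_f L212995) q13124, e3 q17214 L239855 q20450, e3 q17215 (flp_f L213013) q13125, trivial⟩ (by decide +kernel)

theorem ce_f_269 : ∀ r, r < 64 → sm gf (Qf (17216 + r)) = Qf (tab Gen.f (17216 + r)) :=
  edges_tab (sm gf) Qf (tab Gen.f) 17216 [(17216, 16519), (17217, 14058), (17218, 14805), (17219, 17891), (17220, 20453), (17221, 13128), (17222, 13129), (17223, 13139), (17224, 17069), (17225, 13138), (17226, 17231), (17227, 18563), (17228, 13135), (17229, 19590), (17230, 13220), (17231, 17226), (17232, 19540), (17233, 20456), (17234, 13140), (17235, 20457), (17236, 13142), (17237, 20460), (17238, 20462), (17239, 13144), (17240, 20266), (17241, 20465), (17242, 20147), (17243, 13145), (17244, 17251), (17245, 20001), (17246, 19262), (17247, 20470), (17248, 20148), (17249, 13148), (17250, 20476), (17251, 17244), (17252, 13151), (17253, 20479), (17254, 20481), (17255, 20483), (17256,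 13154), (17257, 17260), (17258, 13155), (17259, 19320), (17260, 17257), (17261, 13157), (17262, 15807), (17263, 15065), (17264, 16951), (17265, 18419), (17266, 15779), (17267, 16422), (17268, 19982), (17269, 20351), (17270, 17656), (17271, 17660), (17272, 20495), (17273, 13172), (17274, 19475), (17275, 14808), (17276, 17151), (17277, 20498), (17278, 17745), (17279, 19258)]
    ⟨e3 q17216 L213027 q16519, e3 q17217 L213033 q14058, e3 q17218 L213041 q14805, e3 q17219 (flp_f L218768) q17891, e3 q17220 L239885 q20453, e3 q17221 (flp_f L213055) q13128, e3 q17222 (flp_f L213061) q13129, e3 q17223 L213071 q13139, e3 q17224 (flp_f L213079) q17069, e3 q17225 L213085 q13138, e3 q17226 (flp_f L213129) q17231, e3 q17227 (flp_f L224449) q18563, e3 q17228 (flp_f L213099) q13135, e3 q17229 (flp_f L232432) q19590, e3 q17230 L213121 q13220, e3 q17231 L213129 q17226, e3 q17232 (flp_f L232002) q19540, e3 q17233 L239917 q20456, e3 q17234 (flp_f L213143) q13140, e3 q17235 L239927 q20457, e3 q17236 (flp_f L213157) q13142, e3 q17237 L239951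 q20460, e3 q17238 L239975 q20462, e3 q17239 (flp_f L213169) q13144, e3 q17240 (flp_f L238195) q20266, e3 q17241 L240005 q20465, e3 q17242 (flp_f L237243) q20147, e3 q17243 (flp_f L213191) q13145, e3 q17244 L213239 q17251, e3 q17245 L235970 q20001, e3 q17246 (flp_f L229446) q19262, e3 q17247 L240039 q20470, e3 q17248 (flp_f L237251) q20148, e3 q17249 (flp_f L213227) q13148, e3 q17250 L240067 q20476, e3 q17251 (flp_f L213239) q17244, e3 q17252 (flp_f L213241) q13151, e3 q17253 L240093 q20479, e3 q17254 L240111 q20481, e3 q17255 L240119 q20483, e3 q17256 (flp_f L213262) q13154, e3 q17257 L213293 q17260, e3 q17258 (flp_f L213272) q13155, e3 q17259 (flp_f L229994) q19320, e3 q17260 (flp_f L213293) q17257, e3 q17261 (flp_f L213295) q13157, e3 q17262 L213307 q15807, e3 q17263 L213317 q15065, e3 q17264 L213327 q16951, e3 q17265 (flp_f L223239) q18419, e3 q17266 L213339 q15779, e3 q17267 L213347 q16422, e3 q17268 (flp_f L235787) q19982, e3 q17269 (flp_f L238965) q20351, e3 q17270 L216741 q17656, e3 q17271 (flp_f L216777)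 q17660, e3 q17272 L240227 q20495, e3 q17273 (flp_f L213385) q13172, e3 q17274 (flp_f L231384) q19475, e3 q17275 L213407 q14808, e3 q17276 L213421 q17151, e3 q17277 L240257 q20498, e3 q17278 L217488 q17745, e3 q17279 L229400 q19258, trivial⟩ (by decide +kernel)

theorem ce_f_270 : ∀ r, r < 64 → sm gf (Qf (17280 + r)) = Qf (tab Gen.f (17280 + r)) :=
  edges_tab (sm gf) Qf (tab Gen.f) 17280 [(17280, 13178), (17281, 17289), (17282, 20502), (17283, 13179), (17284, 15683), (17285, 20504), (17286, 13181), (17287, 20506), (17288, 13182), (17289, 17281), (17290, 20378), (17291, 17158), (17292, 20366), (17293, 18541), (17294, 18540), (17295, 13186), (17296, 20379), (17297, 19839), (17298, 20372), (17299, 20512), (17300, 13189), (17301, 17310), (17302, 13190), (17303, 20513), (17304, 19371), (17305, 16590), (17306, 18537), (17307, 13197), (17308, 20268), (17309, 13198), (17310, 17301), (17311, 20515), (17312, 13201), (17313, 20518), (17314, 20520), (17315, 13203), (17316, 19977), (17317, 20523), (17318, 20267), (17319, 13204),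 (17320, 17327), (17321, 15818), (17322, 16338), (17323, 20528), (17324, 20269), (17325, 13207), (17326, 20534), (17327, 17320), (17328, 13210), (17329, 17329), (17330, 20539), (17331, 19557), (17332, 13213), (17333, 17336), (17334, 13214), (17335, 15877), (17336, 17333), (17337, 13216), (17338, 19334), (17339, 19934), (17340, 18307), (17341, 17764), (17342, 13222), (17343, 17739)]
    ⟨e3 q17280 (flp_f L213445) q13178, e3 q17281 L213503 q17289, e3 q17282 L240287 q20502, e3 q17283 (flp_f L213463) q13179, e3 q17284 L213473 q15683, e3 q17285 L240303 q20504, e3 q17286 (flp_f L213479) q13181, e3 q17287 L240325 q20506, e3 q17288 (flp_f L213493) q13182, e3 q17289 (flp_f L213503) q17281, e3 q17290 (flp_f L239195) q20378, e3 q17291 L213523 q17158, e3 q17292 (flp_f L239103) q20366, e3 q17293 (flp_f L224263) q18541, e3 q17294 (flp_f L224251) q18540, e3 q17295 (flp_f L213545) q13186, e3 q17296 (flp_f L239209) q20379, e3 q17297 L234471 q19839, e3 q17298 (flp_f L239151) q20372, e3 q17299 L240381 q20512, e3 q17300 (flp_f L213575)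 q13189, e3 q17301 L213659 q17310, e3 q17302 (flp_f L213593) q13190, e3 q17303 (flp_f L240395) q20513, e3 q17304 L230380 q19371, e3 q17305 L213619 q16590, e3 q17306 L224221 q18537, e3 q17307 (flp_f L213629) q13197, e3 q17308 (flp_f L238215) q20268, e3 q17309 (flp_f L213645) q13198, e3 q17310 (flp_f L213659) q17301, e3 q17311 L240411 q20515, e3 q17312 (flp_f L213667) q13201, e3 q17313 L240439 q20518, e3 q17314 L240461 q20520, e3 q17315 (flp_f L213679) q13203, e3 q17316 (flp_f L235737) q19977, e3 q17317 L240491 q20523, e3 q17318 (flp_f L238205) q20267, e3 q17319 (flp_f L213701) q13204, e3 q17320 L213749 q17327, e3 q17321 L213719 q15818, e3 q17322 (flp_f L213729) q16338, e3 q17323 L240525 q20528, e3 q17324 (flp_f L238223) q20269, e3 q17325 (flp_f L213737) q13207, e3 q17326 L240555 q20534, e3 q17327 (flp_f L213749) q17320, e3 q17328 (flp_f L213751) q13210, e3 q17329 L213763 q17329, e3 q17330 L240599 q20539, e3 q17331 L232158 q19557, e3 q17332 (flp_f L213772) q13213, e3 q17333 L213799 q17336, e3 q17334 (flp_f L213782)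 q13214, e3 q17335 (flp_f L213795) q15877, e3 q17336 (flp_f L213799) q17333, e3 q17337 (flp_f L213801) q13216, e3 q17338 (flp_f L230116) q19334, e3 q17339 (flp_f L235342) q19934, e3 q17340 (flp_f L221984) q18307, e3 q17341 (flp_f L217626) q17764, e3 q17342 (flp_f L213845) q13222, e3 q17343 L217428 q17739, trivial⟩ (by decide +kernel)

theorem ce_f_271 : ∀ r, r < 64 → sm gf (Qf (17344 + r)) = Qf (tab Gen.f (17344 + r)) :=
  edges_tab (sm gf) Qf (tab Gen.f) 17344 [(17344, 20547), (17345, 13223), (17346, 17350), (17347, 20551), (17348, 13224), (17349, 18912), (17350, 17346), (17351, 20554), (17352, 13228), (17353, 17354), (17354, 17353), (17355, 13230), (17356, 20559), (17357, 20560), (17358, 13231), (17359, 15259), (17360, 20564), (17361, 20566), (17362, 13233), (17363, 17384), (17364, 13234), (17365, 17385), (17366, 18708), (17367, 18710), (17368, 14497), (17369, 14762), (17370, 13242), (17371, 20571), (17372, 20573), (17373, 13243), (17374, 15233), (17375, 20576), (17376, 13244), (17377, 19613), (17378, 13246), (17379,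 20579), (17380, 13248), (17381, 17382), (17382, 17381), (17383, 13250), (17384, 17363), (17385, 17365), (17386, 19859), (17387, 20585), (17388, 13252), (17389, 13253), (17390, 13257), (17391, 19985), (17392, 13429), (17393, 13434), (17394, 14501), (17395, 13394), (17396, 17429), (17397, 13278), (17398, 17634), (17399, 13290), (17400, 13418), (17401, 14561), (17402, 13311), (17403, 13298), (17404, 17637), (17405, 13323), (17406, 17408), (17407, 13460)]
    ⟨e3 q17344 L240668 q20547, e3 q17345 (flp_f L213867) q13223, e3 q17346 L213917 q17350, e3 q17347 L240700 q20551, e3 q17348 (flp_f L213893) q13224, e3 q17349 (flp_f L226866) q18912, e3 q17350 (flp_f L213917) q17346, e3 q17351 L240732 q20554, e3 q17352 (flp_f L213931) q13228, e3 q17353 L213947 q17354, e3 q17354 (flp_f L213947) q17353, e3 q17355 (flp_f L213949) q13230, e3 q17356 L240768 q20559, e3 q17357 L240778 q20560, e3 q17358 (flp_f L213978) q13231, e3 q17359 L214060 q15259, e3 q17360 L240807 q20564, e3 q17361 L240829 q20566, e3 q17362 (flp_f L214080) q13233,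 e3 q17363 (flp_f L222888) q17384, e3 q17364 (flp_f L214088) q13234, e3 q17365 (flp_f L222870) q17385, e3 q17366 (flp_f L225526) q18708, e3 q17367 (flp_f L225546) q18710, e3 q17368 L214135 q14497, e3 q17369 L214145 q14762, e3 q17370 (flp_f L214150) q13242, e3 q17371 L240876 q20571, e3 q17372 L240900 q20573, e3 q17373 (flp_f L214172) q13243, e3 q17374 (flp_f L222781) q15233, e3 q17375 L240930 q20576, e3 q17376 (flp_f L214202) q13244, e3 q17377 L232646 q19613, e3 q17378 (flp_f L214230) q13246, e3 q17379 L240962 q20579, e3 q17380 (flp_f L214244) q13248, e3 q17381 L214266 q17382, e3 q17382 (flp_f L214266) q17381, e3 q17383 (flp_f L214268) q13250, e3 q17384 L222888 q17363, e3 q17385 L222870 q17365, e3 q17386 L234667 q19859, e3 q17387 L241018 q20585, e3 q17388 (flp_f L214401) q13252, e3 q17389 (flp_f L214409) q13253, e3 q17390 (flp_f L214443) q13257, e3 q17391 L235817 q19985, e3 q17392 L214459 q13429, e3 q17393 (flp_f L214469) q13434, e3 q17394 L214477 q14501, e3 q17395 (flp_f L214489) q13394, e3 q17396 L214827 q17429,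 e3 q17397 (flp_f L214501) q13278, e3 q17398 L216579 q17634, e3 q17399 (flp_f L214519) q13290, e3 q17400 L214535 q13418, e3 q17401 (flp_f L214545) q14561, e3 q17402 (flp_f L214553) q13311, e3 q17403 (flp_f L214555) q13298, e3 q17404 L216619 q17637, e3 q17405 L214581 q13323, e3 q17406 (flp_f L214609) q17408, e3 q17407 L214595 q13460, trivial⟩ (by decide +kernel)

theorem ce_f_272 : ∀ r, r < 64 → sm gf (Qf (17408 + r)) = Qf (tab Gen.f (17408 + r)) :=
  edges_tab (sm gf) Qf (tab Gen.f) 17408 [(17408, 17406), (17409, 13325), (17410, 13329), (17411, 13464), (17412, 13378), (17413, 17423), (17414, 16397), (17415, 13340), (17416, 13358), (17417, 13616), (17418, 13364), (17419, 15900), (17420, 17707), (17421, 13845), (17422, 13844), (17423, 17413), (17424, 13375), (17425, 16472), (17426, 14854), (17427, 14872), (17428, 14723), (17429, 17396), (17430, 16315), (17431, 20208), (17432, 13391), (17433, 16747), (17434, 16748), (17435, 19302), (17436, 17193), (17437, 15543), (17438, 14517), (17439, 13407), (17440, 16431), (17441,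 13422), (17442, 13416), (17443, 15867), (17444, 14873), (17445, 13427), (17446, 19260), (17447, 13432), (17448, 16576), (17449, 20588), (17450, 13433), (17451, 18589), (17452, 14931), (17453, 14988), (17454, 20590), (17455, 16445), (17456, 19531), (17457, 16857), (17458, 13443), (17459, 17459), (17460, 19759), (17461, 20407), (17462, 13454), (17463, 19480), (17464, 17090), (17465, 16333), (17466, 20377), (17467, 14123), (17468, 18564), (17469, 13477), (17470, 16508), (17471, 15813)]
    ⟨e3 q17408 L214609 q17406, e3 q17409 (flp_f L214611) q13325, e3 q17410 (flp_f L214623) q13329, e3 q17411 L214641 q13464, e3 q17412 L214651 q13378, e3 q17413 (flp_f L214753) q17423, e3 q17414 L214667 q16397, e3 q17415 (flp_f L214673) q13340, e3 q17416 L214687 q13358, e3 q17417 (flp_f L214699) q13616, e3 q17418 L214707 q13364, e3 q17419 L214715 q15900, e3 q17420 (flp_f L217162) q17707, e3 q17421 L214735 q13845, e3 q17422 L214745 q13844, e3 q17423 L214753 q17413, e3 q17424 (flp_f L214761) q13375, e3 q17425 L214777 q16472, e3 q17426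 (flp_f L214793) q14854, e3 q17427 L214803 q14872, e3 q17428 L214815 q14723, e3 q17429 (flp_f L214827) q17396, e3 q17430 L214837 q16315, e3 q17431 (flp_f L237776) q20208, e3 q17432 (flp_f L214854) q13391, e3 q17433 L214864 q16747, e3 q17434 L214872 q16748, e3 q17435 (flp_f L229808) q19302, e3 q17436 L214896 q17193, e3 q17437 (flp_f L214906) q15543, e3 q17438 L214914 q14517, e3 q17439 L214924 q13407, e3 q17440 L214934 q16431, e3 q17441 L214948 q13422, e3 q17442 (flp_f L214950) q13416, e3 q17443 L214972 q15867, e3 q17444 (flp_f L214982) q14873, e3 q17445 (flp_f L214986) q13427, e3 q17446 (flp_f L229424) q19260, e3 q17447 (flp_f L215010) q13432, e3 q17448 (flp_f L215023) q16576, e3 q17449 L241046 q20588, e3 q17450 (flp_f L215032) q13433, e3 q17451 L224688 q18589, e3 q17452 L215050 q14931, e3 q17453 (flp_f L215060) q14988, e3 q17454 L241062 q20590, e3 q17455 L215072 q16445, e3 q17456 L231912 q19531, e3 q17457 L215098 q16857, e3 q17458 (flp_f L215104) q13443, e3 q17459 L215118 q17459, e3 q17460 L233841 q19759, e3 q17461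 L239465 q20407, e3 q17462 (flp_f L215137) q13454, e3 q17463 (flp_f L231432) q19480, e3 q17464 L215163 q17090, e3 q17465 L215173 q16333, e3 q17466 (flp_f L239183) q20377, e3 q17467 (flp_f L215199) q14123, e3 q17468 (flp_f L224459) q18564, e3 q17469 (flp_f L215213) q13477, e3 q17470 (flp_f L215235) q16508, e3 q17471 L215245 q15813, trivial⟩ (by decide +kernel)

theorem ce_f_273 : ∀ r, r < 64 → sm gf (Qf (17472 + r)) = Qf (tab Gen.f (17472 + r)) :=
  edges_tab (sm gf) Qf (tab Gen.f) 17472 [(17472, 16388), (17473, 17473), (17474, 17474), (17475, 16541), (17476, 16866), (17477, 13487), (17478, 13488), (17479, 17857), (17480, 13503), (17481, 20595), (17482, 13506), (17483, 18583), (17484, 18606), (17485, 19901), (17486, 13558), (17487, 16525), (17488, 14008), (17489, 14958), (17490, 17865), (17491, 16950), (17492, 13530), (17493, 16261), (17494, 20092), (17495, 14773), (17496, 14813), (17497, 18595), (17498, 17507), (17499, 14017), (17500, 14789), (17501, 15910), (17502, 16849), (17503, 14947), (17504, 14985), (17505,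 15685), (17506, 13595), (17507, 17498), (17508, 20599), (17509, 13597), (17510, 20600), (17511, 13598), (17512, 17512), (17513, 13602), (17514, 17514), (17515, 20601), (17516, 13607), (17517, 13609), (17518, 13614), (17519, 17951), (17520, 13617), (17521, 20397), (17522, 18236), (17523, 17563), (17524, 20604), (17525, 13619), (17526, 13621), (17527, 16278), (17528, 20410), (17529, 13623), (17530, 13758), (17531, 13809), (17532, 19389), (17533, 17658), (17534, 13630), (17535, 13633)]
    ⟨e3 q17472 (flp_f L215257) q16388, e3 q17473 L215263 q17473, e3 q17474 L215270 q17474, e3 q17475 (flp_f L215281) q16541, e3 q17476 L215289 q16866, e3 q17477 (flp_f L215291) q13487, e3 q17478 (flp_f L215299) q13488, e3 q17479 (flp_f L218454) q17857, e3 q17480 (flp_f L215323) q13503, e3 q17481 (flp_f L241114) q20595, e3 q17482 L215339 q13506, e3 q17483 (flp_f L224621) q18583, e3 q17484 (flp_f L224841) q18606, e3 q17485 (flp_f L235021) q19901, e3 q17486 L215377 q13558, e3 q17487 L215391 q16525, e3 q17488 L215399 q14008, e3 q17489 L215407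 q14958, e3 q17490 (flp_f L218518) q17865, e3 q17491 L215427 q16950, e3 q17492 (flp_f L215433) q13530, e3 q17493 L215449 q16261, e3 q17494 (flp_f L236695) q20092, e3 q17495 (flp_f L215467) q14773, e3 q17496 L215479 q14813, e3 q17497 L224737 q18595, e3 q17498 (flp_f L215586) q17507, e3 q17499 L215502 q14017, e3 q17500 L215510 q14789, e3 q17501 (flp_f L215528) q15910, e3 q17502 L215534 q16849, e3 q17503 L215543 q14947, e3 q17504 L215552 q14985, e3 q17505 L215560 q15685, e3 q17506 (flp_f L215568) q13595, e3 q17507 L215586 q17498, e3 q17508 L241152 q20599, e3 q17509 (flp_f L215600) q13597, e3 q17510 L241166 q20600, e3 q17511 (flp_f L215621) q13598, e3 q17512 L215633 q17512, e3 q17513 (flp_f L215644) q13602, e3 q17514 L215654 q17514, e3 q17515 L241190 q20601, e3 q17516 (flp_f L215665) q13607, e3 q17517 (flp_f L215675) q13609, e3 q17518 (flp_f L215687) q13614, e3 q17519 L219358 q17951, e3 q17520 L215703 q13617, e3 q17521 L239379 q20397, e3 q17522 (flp_f L221444) q18236, e3 q17523 L216081 q17563, e3 q17524 L241216 q20604,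 e3 q17525 (flp_f L215739) q13619, e3 q17526 (flp_f L215749) q13621, e3 q17527 L215767 q16278, e3 q17528 (flp_f L239499) q20410, e3 q17529 (flp_f L215775) q13623, e3 q17530 (flp_f L215791) q13758, e3 q17531 L215801 q13809, e3 q17532 (flp_f L230554) q19389, e3 q17533 L216759 q17658, e3 q17534 (flp_f L215817) q13630, e3 q17535 (flp_f L215823) q13633, trivial⟩ (by decide +kernel)

theorem ce_f_274 : ∀ r, r < 64 → sm gf (Qf (17536 + r)) = Qf (tab Gen.f (17536 + r)) :=
  edges_tab (sm gf) Qf (tab Gen.f) 17536 [(17536, 13635), (17537, 14381), (17538, 17539), (17539, 17538), (17540, 20612), (17541, 13645), (17542, 13737), (17543, 13650), (17544, 17607), (17545, 20615), (17546, 13653), (17547, 14928), (17548, 13656), (17549, 13659), (17550, 20616), (17551, 13738), (17552, 13661), (17553, 13771), (17554, 17554), (17555, 18608), (17556, 17556), (17557, 18609), (17558, 17846), (17559, 15021), (17560, 15034), (17561, 20620), (17562, 14442), (17563, 17523), (17564, 18617), (17565, 13790), (17566, 14306), (17567, 18094), (17568,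 13800), (17569, 17629), (17570, 20630), (17571, 20632), (17572, 18111), (17573, 20634), (17574, 13729), (17575, 18113), (17576, 17588), (17577, 13735), (17578, 15671), (17579, 19277), (17580, 20637), (17581, 20618), (17582, 15924), (17583, 17945), (17584, 19305), (17585, 13740), (17586, 13741), (17587, 20642), (17588, 17576), (17589, 18123), (17590, 20649), (17591, 13746), (17592, 19288), (17593, 17715), (17594, 20651), (17595, 13750), (17596, 20653), (17597, 13751), (17598, 20652), (17599, 14367)]
    ⟨e3 q17536 (flp_f L215833) q13635, e3 q17537 (flp_f L215851) q14381, e3 q17538 (flp_f L215867) q17539, e3 q17539 L215867 q17538, e3 q17540 L241300 q20612, e3 q17541 (flp_f L215879) q13645, e3 q17542 L215895 q13737, e3 q17543 L215907 q13650, e3 q17544 (flp_f L216391) q17607, e3 q17545 L241320 q20615, e3 q17546 (flp_f L215922) q13653, e3 q17547 L215940 q14928, e3 q17548 (flp_f L215944) q13656, e3 q17549 L215960 q13659, e3 q17550 (flp_f L241328) q20616, e3 q17551 (flp_f L215973) q13738, e3 q17552 (flp_f L215975) q13661,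 e3 q17553 (flp_f L215999) q13771, e3 q17554 L216009 q17554, e3 q17555 (flp_f L224853) q18608, e3 q17556 L216027 q17556, e3 q17557 (flp_f L224865) q18609, e3 q17558 (flp_f L218352) q17846, e3 q17559 (flp_f L216053) q15021, e3 q17560 L216059 q15034, e3 q17561 L241360 q20620, e3 q17562 L216071 q14442, e3 q17563 (flp_f L216081) q17523, e3 q17564 (flp_f L224933) q18617, e3 q17565 L216093 q13790, e3 q17566 L216101 q14306, e3 q17567 (flp_f L220378) q18094, e3 q17568 L216115 q13800, e3 q17569 (flp_f L216551) q17629, e3 q17570 L241440 q20630, e3 q17571 L241450 q20632, e3 q17572 L220474 q18111, e3 q17573 L241468 q20634, e3 q17574 (flp_f L216143) q13729, e3 q17575 L220498 q18113, e3 q17576 L216257 q17588, e3 q17577 (flp_f L216169) q13735, e3 q17578 L216183 q15671, e3 q17579 (flp_f L229564) q19277, e3 q17580 L241492 q20637, e3 q17581 L241344 q20618, e3 q17582 (flp_f L216211) q15924, e3 q17583 (flp_f L219288) q17945, e3 q17584 (flp_f L229844) q19305, e3 q17585 (flp_f L216227) q13740, e3 q17586 (flp_f L216231) q13741, e3 q17587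 (flp_f L241544) q20642, e3 q17588 (flp_f L216257) q17576, e3 q17589 (flp_f L220586) q18123, e3 q17590 L241620 q20649, e3 q17591 (flp_f L216273) q13746, e3 q17592 (flp_f L229696) q19288, e3 q17593 L217240 q17715, e3 q17594 L241644 q20651, e3 q17595 (flp_f L216303) q13750, e3 q17596 L241660 q20653, e3 q17597 (flp_f L216315) q13751, e3 q17598 (flp_f L241658) q20652, e3 q17599 L216329 q14367, trivial⟩ (by decide +kernel)

theorem ce_f_275 : ∀ r, r < 64 → sm gf (Qf (17600 + r)) = Qf (tab Gen.f (17600 + r)) :=
  edges_tab (sm gf) Qf (tab Gen.f) 17600 [(17600, 14368), (17601, 14369), (17602, 18163), (17603, 14372), (17604, 13766), (17605, 17614), (17606, 19585), (17607, 17544), (17608, 19763), (17609, 20665), (17610, 13763), (17611, 19989), (17612, 19990), (17613, 20668), (17614, 17605), (17615, 20670), (17616, 13768), (17617, 15919), (17618, 18616), (17619, 14398), (17620, 17744), (17621, 18386), (17622, 18950), (17623, 13786), (17624, 14574), (17625, 18547), (17626, 14452), (17627, 13787), (17628, 20105), (17629, 17569),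 (17630, 20677), (17631, 20678), (17632, 17705), (17633, 13793), (17634, 17398), (17635, 13794), (17636, 19364), (17637, 17404), (17638, 14499), (17639, 13798), (17640, 20103), (17641, 20681), (17642, 20683), (17643, 13801), (17644, 18268), (17645, 13802), (17646, 17922), (17647, 19734), (17648, 19736), (17649, 19737), (17650, 20687), (17651, 19739), (17652, 16064), (17653, 19740), (17654, 18948), (17655, 13808), (17656, 17270), (17657, 20491), (17658, 17533), (17659, 17915), (17660, 17271), (17661, 13811), (17662, 14118), (17663, 17690)]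
    ⟨e3 q17600 L216335 q14368, e3 q17601 L216339 q14369, e3 q17602 (flp_f L220892) q18163, e3 q17603 L216351 q14372, e3 q17604 L216361 q13766, e3 q17605 (flp_f L216439) q17614, e3 q17606 L232382 q19585, e3 q17607 L216391 q17544, e3 q17608 (flp_f L233873) q19763, e3 q17609 L241734 q20665, e3 q17610 (flp_f L216401) q13763, e3 q17611 (flp_f L235852) q19989, e3 q17612 (flp_f L235862) q19990, e3 q17613 L241768 q20668, e3 q17614 L216439 q17605, e3 q17615 L241790 q20670, e3 q17616 (flp_f L216445) q13768, e3 q17617 L216461 q15919, e3 q17618 (flp_f L224925) q18616, e3 q17619 L216475 q14398, e3 q17620 (flp_f L217480) q17744, e3 q17621 (flp_f L223022) q18386, e3 q17622 (flp_f L227175) q18950, e3 q17623 L216501 q13786, e3 q17624 L216509 q14574, e3 q17625 (flp_f L224313) q18547, e3 q17626 L216523 q14452, e3 q17627 (flp_f L216527) q13787, e3 q17628 (flp_f L236819) q20105, e3 q17629 L216551 q17569, e3 q17630 L241868 q20677, e3 q17631 L241874 q20678, e3 q17632 L217180 q17705, e3 q17633 (flp_f L216563) q13793, e3 q17634 (flp_f L216579)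 q17398, e3 q17635 (flp_f L216581) q13794, e3 q17636 (flp_f L230322) q19364, e3 q17637 (flp_f L216619) q17404, e3 q17638 (flp_f L216633) q14499, e3 q17639 (flp_f L216635) q13798, e3 q17640 (flp_f L236801) q20103, e3 q17641 L241900 q20681, e3 q17642 L241922 q20683, e3 q17643 (flp_f L216659) q13801, e3 q17644 L221692 q18268, e3 q17645 (flp_f L216673) q13802, e3 q17646 L222900 q17922, e3 q17647 (flp_f L233617) q19734, e3 q17648 (flp_f L233633) q19736, e3 q17649 (flp_f L233643) q19737, e3 q17650 L241948 q20687, e3 q17651 (flp_f L233659) q19739, e3 q17652 L216709 q16064, e3 q17653 (flp_f L233667) q19740, e3 q17654 (flp_f L227153) q18948, e3 q17655 (flp_f L216725) q13808, e3 q17656 (flp_f L216741) q17270, e3 q17657 (flp_f L240195) q20491, e3 q17658 (flp_f L216759) q17533, e3 q17659 (flp_f L219002) q17915, e3 q17660 L216777 q17271, e3 q17661 (flp_f L216779) q13811, e3 q17662 (flp_f L216797) q14118, e3 q17663 L217029 q17690, trivial⟩ (by decide +kernel)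

theorem ce_f_276 : ∀ r, r < 64 → sm gf (Qf (17664 + r)) = Qf (tab Gen.f (17664 + r)) :=
  edges_tab (sm gf) Qf (tab Gen.f) 17664 [(17664, 17691), (17665, 20694), (17666, 18186), (17667, 13814), (17668, 19298), (17669, 13856), (17670, 18865), (17671, 18868), (17672, 15241), (17673, 13820), (17674, 20438), (17675, 13821), (17676, 18396), (17677, 17061), (17678, 13825), (17679, 20700), (17680, 13826), (17681, 13827), (17682, 15872), (17683, 20701), (17684, 20702), (17685, 13830), (17686, 19006), (17687, 20705), (17688, 13831), (17689, 20703), (17690, 17663), (17691, 17664), (17692, 20493), (17693, 19928), (17694, 20711), (17695, 13835), (17696, 14982), (17697, 13836), (17698, 15943), (17699, 18422), (17700, 20712), (17701, 13840), (17702, 18688), (17703, 20349), (17704, 20348), (17705, 17632), (17706, 14611), (17707, 17420), (17708, 19842), (17709, 13846), (17710, 18305), (17711, 14500), (17712, 20716), (17713, 13849), (17714, 14509), (17715, 17593), (17716, 14511), (17717, 18322), (17718, 20723), (17719, 20337),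 (17720, 13854), (17721, 20696), (17722, 13855), (17723, 20697), (17724, 16136), (17725, 17728), (17726, 20726), (17727, 13858)]
    ⟨e3 q17664 L217039 q17691, e3 q17665 L242022 q20694, e3 q17666 (flp_f L221102) q18186, e3 q17667 (flp_f L216827) q13814, e3 q17668 (flp_f L229754) q19298, e3 q17669 L216851 q13856, e3 q17670 L226507 q18865, e3 q17671 (flp_f L226533) q18868, e3 q17672 (flp_f L216877) q15241, e3 q17673 (flp_f L216879) q13820, e3 q17674 (flp_f L239767) q20438, e3 q17675 (flp_f L216901) q13821, e3 q17676 L223084 q18396, e3 q17677 (flp_f L216932) q17061, e3 q17678 (flp_f L216936) q13825, e3 q17679 L242092 q20700, e3 q17680 (flp_f L216956) q13826, e3 q17681 (flp_f L216966) q13827, e3 q17682 L216980 q15872, e3 q17683 L242106 q20701, e3 q17684 L242116 q20702, e3 q17685 (flp_f L216998) q13830, e3 q17686 (flp_f L227612) q19006, e3 q17687 L242146 q20705, e3 q17688 (flp_f L217012) q13831, e3 q17689 (flp_f L242131) q20703, e3 q17690 (flp_f L217029) q17663, e3 q17691 (flp_f L217039) q17664, e3 q17692 (flp_f L240219)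 q20493, e3 q17693 (flp_f L235270) q19928, e3 q17694 L242204 q20711, e3 q17695 (flp_f L217060) q13835, e3 q17696 (flp_f L217074) q14982, e3 q17697 (flp_f L217078) q13836, e3 q17698 L217094 q15943, e3 q17699 (flp_f L223259) q18422, e3 q17700 L242212 q20712, e3 q17701 (flp_f L217116) q13840, e3 q17702 (flp_f L225389) q18688, e3 q17703 (flp_f L238937) q20349, e3 q17704 (flp_f L238923) q20348, e3 q17705 (flp_f L217180) q17632, e3 q17706 L217148 q14611, e3 q17707 L217162 q17420, e3 q17708 (flp_f L234503) q19842, e3 q17709 (flp_f L217182) q13846, e3 q17710 (flp_f L221972) q18305, e3 q17711 L217216 q14500, e3 q17712 L242250 q20716, e3 q17713 (flp_f L217222) q13849, e3 q17714 L217230 q14509, e3 q17715 (flp_f L217240) q17593, e3 q17716 L217244 q14511, e3 q17717 (flp_f L222102) q18322, e3 q17718 L242304 q20723, e3 q17719 L238819 q20337, e3 q17720 (flp_f L217262) q13854, e3 q17721 (flp_f L242048) q20696, e3 q17722 (flp_f L217276) q13855, e3 q17723 (flp_f L242058) q20697, e3 q17724 (flp_f L217296) q16136, e3 q17725 (flp_f L217332)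 q17728, e3 q17726 L242336 q20726, e3 q17727 (flp_f L217318) q13858, trivial⟩ (by decide +kernel)

theorem ce_f_277 : ∀ r, r < 64 → sm gf (Qf (17728 + r)) = Qf (tab Gen.f (17728 + r)) :=
  edges_tab (sm gf) Qf (tab Gen.f) 17728 [(17728, 17725), (17729, 20345), (17730, 13860), (17731, 17194), (17732, 13875), (17733, 13876), (17734, 18321), (17735, 13880), (17736, 17749), (17737, 16012), (17738, 15299), (17739, 17343), (17740, 13867), (17741, 18441), (17742, 20731), (17743, 13870), (17744, 17620), (17745, 17278), (17746, 13874), (17747, 20727), (17748, 14421), (17749, 17736), (17750, 15280), (17751, 19168), (17752, 19147), (17753, 13879), (17754, 20737), (17755, 19114), (17756, 20740), (17757, 20741), (17758, 13881), (17759, 13882), (17760, 17760), (17761, 17761), (17762, 17762), (17763, 19988), (17764, 17341), (17765, 15918), (17766, 13887), (17767, 20745), (17768, 17788), (17769, 13888), (17770, 13905), (17771, 15873), (17772, 20749), (17773, 17793), (17774, 13891), (17775, 19635), (17776, 13901), (17777, 13894),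 (17778, 19669), (17779, 20755), (17780, 13896), (17781, 17784), (17782, 13897), (17783, 19005), (17784, 17781), (17785, 13899), (17786, 15799), (17787, 20752), (17788, 17768), (17789, 19327), (17790, 20761), (17791, 20746)]
    ⟨e3 q17728 L217332 q17725, e3 q17729 (flp_f L238883) q20345, e3 q17730 (flp_f L217344) q13860, e3 q17731 (flp_f L217364) q17194, e3 q17732 L217370 q13875, e3 q17733 L217380 q13876, e3 q17734 (flp_f L222094) q18321, e3 q17735 L217396 q13880, e3 q17736 (flp_f L217530) q17749, e3 q17737 (flp_f L217414) q16012, e3 q17738 L217420 q15299, e3 q17739 (flp_f L217428) q17343, e3 q17740 (flp_f L217430) q13867, e3 q17741 L223391 q18441, e3 q17742 L242388 q20731, e3 q17743 (flp_f L217464) q13870, e3 q17744 L217480 q17620, e3 q17745 (flp_f L217488) q17278, e3 q17746 (flp_f L217492) q13874, e3 q17747 (flp_f L242356) q20727, e3 q17748 L217520 q14421, e3 q17749 L217530 q17736, e3 q17750 L217536 q15280, e3 q17751 (flp_f L228675) q19168, e3 q17752 L228543 q19147, e3 q17753 (flp_f L217554) q13879, e3 q17754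 L242458 q20737, e3 q17755 L228272 q19114, e3 q17756 L242490 q20740, e3 q17757 L242504 q20741, e3 q17758 (flp_f L217577) q13881, e3 q17759 (flp_f L217587) q13882, e3 q17760 L217601 q17760, e3 q17761 L217606 q17761, e3 q17762 L217613 q17762, e3 q17763 (flp_f L235842) q19988, e3 q17764 L217626 q17341, e3 q17765 (flp_f L217644) q15918, e3 q17766 (flp_f L217646) q13887, e3 q17767 L242536 q20745, e3 q17768 L217795 q17788, e3 q17769 (flp_f L217668) q13888, e3 q17770 L217682 q13905, e3 q17771 L217690 q15873, e3 q17772 L242578 q20749, e3 q17773 L217831 q17793, e3 q17774 (flp_f L217704) q13891, e3 q17775 (flp_f L232847) q19635, e3 q17776 (flp_f L217720) q13901, e3 q17777 (flp_f L217722) q13894, e3 q17778 (flp_f L233125) q19669, e3 q17779 L242634 q20755, e3 q17780 (flp_f L217742) q13896, e3 q17781 L217765 q17784, e3 q17782 (flp_f L217750) q13897, e3 q17783 L227610 q19005, e3 q17784 (flp_f L217765) q17781, e3 q17785 (flp_f L217767) q13899, e3 q17786 L217779 q15799, e3 q17787 L242614 q20752, e3 q17788 (flp_f L217795) q17768,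 e3 q17789 L230050 q19327, e3 q17790 L242701 q20761, e3 q17791 L242558 q20746, trivial⟩ (by decide +kernel)

theorem ce_f_278 : ∀ r, r < 64 → sm gf (Qf (17792 + r)) = Qf (tab Gen.f (17792 + r)) :=
  edges_tab (sm gf) Qf (tab Gen.f) 17792 [(17792, 13904), (17793, 17773), (17794, 20765), (17795, 20766), (17796, 13909), (17797, 17800), (17798, 13910), (17799, 19556), (17800, 17797), (17801, 13912), (17802, 20769), (17803, 13913), (17804, 17805), (17805, 17804), (17806, 13915), (17807, 20774), (17808, 20775), (17809, 13916), (17810, 18883), (17811, 20780), (17812, 20782), (17813, 13918), (17814, 17822), (17815, 13919), (17816, 17823), (17817, 20784), (17818, 13922), (17819, 17820), (17820, 17819), (17821, 13924), (17822, 17814), (17823, 17816), (17824, 20790), (17825, 19421), (17826, 13926), (17827, 13927), (17828, 17858), (17829, 13996), (17830, 13935), (17831, 13943), (17832, 17839), (17833, 14930), (17834, 13952), (17835, 16304), (17836, 14146), (17837, 17929), (17838, 13980), (17839, 17832), (17840, 16656), (17841,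 17892), (17842, 16496), (17843, 14011), (17844, 15009), (17845, 13969), (17846, 17558), (17847, 13973), (17848, 14966), (17849, 16497), (17850, 13993), (17851, 17855), (17852, 18587), (17853, 13984), (17854, 14972), (17855, 17851)]
    ⟨e3 q17792 (flp_f L217819) q13904, e3 q17793 (flp_f L217831) q17773, e3 q17794 L242737 q20765, e3 q17795 L242749 q20766, e3 q17796 (flp_f L217843) q13909, e3 q17797 L217866 q17800, e3 q17798 (flp_f L217851) q13910, e3 q17799 (flp_f L232144) q19556, e3 q17800 (flp_f L217866) q17797, e3 q17801 (flp_f L217868) q13912, e3 q17802 L242784 q20769, e3 q17803 (flp_f L217884) q13913, e3 q17804 L217912 q17805, e3 q17805 (flp_f L217912) q17804, e3 q17806 (flp_f L217914) q13915, e3 q17807 L242832 q20774, e3 q17808 L242844 q20775, e3 q17809 (flp_f L217944) q13916, e3 q17810 (flp_f L226653) q18883, e3 q17811 L242873 q20780, e3 q17812 L242883 q20782, e3 q17813 (flp_f L217976) q13918, e3 q17814 (flp_f L222884) q17822, e3 q17815 (flp_f L217984) q13919, e3 q17816 (flp_f L222876) q17823, e3 q17817 L242901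 q20784, e3 q17818 (flp_f L218030) q13922, e3 q17819 L218058 q17820, e3 q17820 (flp_f L218058) q17819, e3 q17821 (flp_f L218060) q13924, e3 q17822 L222884 q17814, e3 q17823 L222876 q17816, e3 q17824 L242961 q20790, e3 q17825 (flp_f L230814) q19421, e3 q17826 (flp_f L218122) q13926, e3 q17827 (flp_f L218130) q13927, e3 q17828 (flp_f L218458) q17858, e3 q17829 L218180 q13996, e3 q17830 (flp_f L218184) q13935, e3 q17831 (flp_f L218196) q13943, e3 q17832 (flp_f L218280) q17839, e3 q17833 L218220 q14930, e3 q17834 L218230 q13952, e3 q17835 (flp_f L218242) q16304, e3 q17836 L218248 q14146, e3 q17837 (flp_f L219130) q17929, e3 q17838 L218268 q13980, e3 q17839 L218280 q17832, e3 q17840 (flp_f L218294) q16656, e3 q17841 (flp_f L218778) q17892, e3 q17842 L218310 q16496, e3 q17843 L218322 q14011, e3 q17844 (flp_f L218336) q15009, e3 q17845 (flp_f L218340) q13969, e3 q17846 L218352 q17558, e3 q17847 (flp_f L218356) q13973, e3 q17848 L218372 q14966, e3 q17849 L218382 q16497, e3 q17850 L218396 q13993, e3 q17851 (flp_f L218438)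 q17855, e3 q17852 (flp_f L224670) q18587, e3 q17853 (flp_f L218416) q13984, e3 q17854 L218426 q14972, e3 q17855 L218438 q17851, trivial⟩ (by decide +kernel)

theorem ce_f_279 : ∀ r, r < 64 → sm gf (Qf (17856 + r)) = Qf (tab Gen.f (17856 + r)) :=
  edges_tab (sm gf) Qf (tab Gen.f) 17856 [(17856, 14186), (17857, 17479), (17858, 17828), (17859, 20646), (17860, 20594), (17861, 13998), (17862, 13999), (17863, 20794), (17864, 14002), (17865, 17490), (17866, 14018), (17867, 14012), (17868, 17940), (17869, 18534), (17870, 18538), (17871, 20796), (17872, 14015), (17873, 16661), (17874, 16456), (17875, 20180), (17876, 17143), (17877, 16965), (17878, 16683), (17879, 14032), (17880, 16685), (17881, 20104), (17882, 16976), (17883, 16558), (17884, 17914), (17885, 14538), (17886, 17054), (17887, 20803), (17888, 14052), (17889, 14095), (17890, 18542), (17891, 17219), (17892, 17841), (17893, 14065), (17894, 18358), (17895, 14560), (17896, 14785), (17897, 14558), (17898, 14661), (17899, 18357), (17900, 18359), (17901, 14079), (17902,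 20117), (17903, 14763), (17904, 20809), (17905, 14091), (17906, 16681), (17907, 16283), (17908, 14120), (17909, 14126), (17910, 14127), (17911, 14598), (17912, 19981), (17913, 14111), (17914, 17884), (17915, 17659), (17916, 20811), (17917, 14694), (17918, 15684), (17919, 20817)]
    ⟨e3 q17856 L218444 q14186, e3 q17857 L218454 q17479, e3 q17858 L218458 q17828, e3 q17859 (flp_f L241590) q20646, e3 q17860 L241104 q20594, e3 q17861 (flp_f L218474) q13998, e3 q17862 (flp_f L218486) q13999, e3 q17863 L242993 q20794, e3 q17864 (flp_f L218502) q14002, e3 q17865 L218518 q17490, e3 q17866 L218530 q14018, e3 q17867 (flp_f L218534) q14012, e3 q17868 L219242 q17940, e3 q17869 (flp_f L224183) q18534, e3 q17870 (flp_f L224229) q18538, e3 q17871 L243015 q20796, e3 q17872 (flp_f L218572) q14015, e3 q17873 (flp_f L218586) q16661, e3 q17874 (flp_f L218600) q16456, e3 q17875 (flp_f L237515) q20180, e3 q17876 (flp_f L218614) q17143, e3 q17877 L218622 q16965, e3 q17878 L218634 q16683, e3 q17879 (flp_f L218638) q14032, e3 q17880 L218654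 q16685, e3 q17881 (flp_f L236813) q20104, e3 q17882 L218670 q16976, e3 q17883 (flp_f L218684) q16558, e3 q17884 (flp_f L218988) q17914, e3 q17885 L218706 q14538, e3 q17886 L218718 q17054, e3 q17887 L243085 q20803, e3 q17888 (flp_f L218728) q14052, e3 q17889 L218746 q14095, e3 q17890 (flp_f L224275) q18542, e3 q17891 L218768 q17219, e3 q17892 L218778 q17841, e3 q17893 L218790 q14065, e3 q17894 (flp_f L222433) q18358, e3 q17895 L218812 q14560, e3 q17896 L218824 q14785, e3 q17897 L218832 q14558, e3 q17898 (flp_f L218842) q14661, e3 q17899 L222427 q18357, e3 q17900 (flp_f L222437) q18359, e3 q17901 (flp_f L218854) q14079, e3 q17902 L236947 q20117, e3 q17903 L218880 q14763, e3 q17904 L243165 q20809, e3 q17905 (flp_f L218890) q14091, e3 q17906 L218902 q16681, e3 q17907 L218914 q16283, e3 q17908 L218928 q14120, e3 q17909 L218940 q14126, e3 q17910 L218948 q14127, e3 q17911 (flp_f L218958) q14598, e3 q17912 (flp_f L235777) q19981, e3 q17913 (flp_f L218972) q14111, e3 q17914 L218988 q17884, e3 q17915 L219002 q17659, e3 q17916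 (flp_f L243189) q20811, e3 q17917 L219024 q14694, e3 q17918 L219036 q15684, e3 q17919 L243267 q20817, trivial⟩ (by decide +kernel)

theorem ce_f_280 : ∀ r, r < 64 → sm gf (Qf (17920 + r)) = Qf (tab Gen.f (17920 + r)) :=
  edges_tab (sm gf) Qf (tab Gen.f) 17920 [(17920, 14124), (17921, 20812), (17922, 17646), (17923, 18604), (17924, 14133), (17925, 16438), (17926, 14137), (17927, 20819), (17928, 14138), (17929, 17837), (17930, 20644), (17931, 16724), (17932, 18084), (17933, 19947), (17934, 14159), (17935, 19991), (17936, 14562), (17937, 14165), (17938, 14788), (17939, 18112), (17940, 17868), (17941, 14173), (17942, 14176), (17943, 16469), (17944, 14974), (17945, 17583), (17946, 18440), (17947, 14941), (17948, 16813), (17949, 14189), (17950, 14192), (17951, 17519), (17952, 15024), (17953, 18309), (17954, 20824), (17955, 14197), (17956, 14223), (17957, 17985), (17958, 16016), (17959, 15367), (17960, 19000), (17961, 20826), (17962, 14203), (17963, 20116), (17964, 14206), (17965, 19805), (17966, 14215), (17967, 17967),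 (17968, 17968), (17969, 18017), (17970, 18014), (17971, 18015), (17972, 14302), (17973, 14239), (17974, 20827), (17975, 20828), (17976, 14240), (17977, 14263), (17978, 20834), (17979, 14217), (17980, 19290), (17981, 19278), (17982, 14219), (17983, 14231)]
    ⟨e3 q17920 (flp_f L219046) q14124, e3 q17921 (flp_f L243203) q20812, e3 q17922 (flp_f L222900) q17646, e3 q17923 (flp_f L224817) q18604, e3 q17924 (flp_f L219072) q14133, e3 q17925 (flp_f L219092) q16438, e3 q17926 (flp_f L219106) q14137, e3 q17927 (flp_f L243299) q20819, e3 q17928 (flp_f L219114) q14138, e3 q17929 L219130 q17837, e3 q17930 (flp_f L241568) q20644, e3 q17931 (flp_f L219154) q16724, e3 q17932 (flp_f L220300) q18084, e3 q17933 (flp_f L235455) q19947, e3 q17934 (flp_f L219168) q14159, e3 q17935 L235878 q19991, e3 q17936 L219196 q14562, e3 q17937 (flp_f L219198) q14165, e3 q17938 L219220 q14788, e3 q17939 (flp_f L220482) q18112, e3 q17940 (flp_f L219242) q17868, e3 q17941 (flp_f L219246) q14173, e3 q17942 (flp_f L219258) q14176, e3 q17943 L219268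 q16469, e3 q17944 (flp_f L219280) q14974, e3 q17945 L219288 q17583, e3 q17946 L223381 q18440, e3 q17947 L219312 q14941, e3 q17948 L219324 q16813, e3 q17949 (flp_f L219328) q14189, e3 q17950 (flp_f L219336) q14192, e3 q17951 (flp_f L219358) q17519, e3 q17952 L219368 q15024, e3 q17953 (flp_f L222004) q18309, e3 q17954 L243349 q20824, e3 q17955 (flp_f L219392) q14197, e3 q17956 L219406 q14223, e3 q17957 (flp_f L219604) q17985, e3 q17958 L219656 q16016, e3 q17959 L219426 q15367, e3 q17960 (flp_f L227568) q19000, e3 q17961 L243373 q20826, e3 q17962 (flp_f L219442) q14203, e3 q17963 (flp_f L236935) q20116, e3 q17964 L219458 q14206, e3 q17965 L234183 q19805, e3 q17966 L219472 q14215, e3 q17967 L219479 q17967, e3 q17968 L219486 q17968, e3 q17969 (flp_f L219818) q18017, e3 q17970 (flp_f L219798) q18014, e3 q17971 (flp_f L219808) q18015, e3 q17972 L219514 q14302, e3 q17973 (flp_f L219524) q14239, e3 q17974 (flp_f L243387) q20827, e3 q17975 (flp_f L243403) q20828, e3 q17976 L219538 q14240, e3 q17977 L219544 q14263, e3 q17978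 L243457 q20834, e3 q17979 (flp_f L219556) q14217, e3 q17980 L229678 q19290, e3 q17981 (flp_f L229580) q19278, e3 q17982 (flp_f L219574) q14219, e3 q17983 L219586 q14231, trivial⟩ (by decide +kernel)

theorem ce_f_281 : ∀ r, r < 64 → sm gf (Qf (17984 + r)) = Qf (tab Gen.f (17984 + r)) :=
  edges_tab (sm gf) Qf (tab Gen.f) 17984 [(17984, 18003), (17985, 17957), (17986, 20838), (17987, 16006), (17988, 14224), (17989, 18047), (17990, 14225), (17991, 15165), (17992, 20841), (17993, 14227), (17994, 14229), (17995, 19280), (17996, 14236), (17997, 20836), (17998, 18075), (17999, 18816), (18000, 19520), (18001, 14233), (18002, 20619), (18003, 17984), (18004, 20846), (18005, 14235), (18006, 19289), (18007, 20842), (18008, 14238), (18009, 20847), (18010, 20851), (18011, 20831), (18012, 19519), (18013, 19510), (18014, 17970), (18015, 17971), (18016, 18837), (18017, 17969), (18018, 18143), (18019, 18147), (18020, 20861), (18021, 14245), (18022, 19525), (18023, 15431), (18024, 20867), (18025, 14247), (18026, 15053), (18027, 19113),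 (18028, 18045), (18029, 20870), (18030, 20871), (18031, 14254), (18032, 14457), (18033, 18643), (18034, 15443), (18035, 15097), (18036, 15064), (18037, 14257), (18038, 18686), (18039, 18502), (18040, 14258), (18041, 20877), (18042, 14260), (18043, 14261), (18044, 19512), (18045, 18028), (18046, 20833), (18047, 17989)]
    ⟨e3 q17984 (flp_f L219730) q18003, e3 q17985 L219604 q17957, e3 q17986 L243495 q20838, e3 q17987 L219648 q16006, e3 q17988 (flp_f L219616) q14224, e3 q17989 L220020 q18047, e3 q17990 (flp_f L219630) q14225, e3 q17991 (flp_f L219642) q15165, e3 q17992 L243519 q20841, e3 q17993 (flp_f L219666) q14227, e3 q17994 (flp_f L219674) q14229, e3 q17995 L229606 q19280, e3 q17996 (flp_f L219692) q14236, e3 q17997 (flp_f L243481) q20836, e3 q17998 (flp_f L220226) q18075, e3 q17999 L226203 q18816, e3 q18000 L231808 q19520, e3 q18001 (flp_f L219712) q14233, e3 q18002 L241356 q20619, e3 q18003 L219730 q17984, e3 q18004 L243561 q20846, e3 q18005 (flp_f L219738) q14235, e3 q18006 L229670 q19289, e3 q18007 L243539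 q20842, e3 q18008 L219767 q14238, e3 q18009 (flp_f L243575) q20847, e3 q18010 L243609 q20851, e3 q18011 L243437 q20831, e3 q18012 (flp_f L231794) q19519, e3 q18013 (flp_f L231710) q19510, e3 q18014 L219798 q17970, e3 q18015 L219808 q17971, e3 q18016 (flp_f L226325) q18837, e3 q18017 L219818 q17969, e3 q18018 L220768 q18143, e3 q18019 (flp_f L220802) q18147, e3 q18020 L243705 q20861, e3 q18021 (flp_f L219832) q14245, e3 q18022 L231848 q19525, e3 q18023 (flp_f L219852) q15431, e3 q18024 L243755 q20867, e3 q18025 (flp_f L219858) q14247, e3 q18026 L219874 q15053, e3 q18027 L228258 q19113, e3 q18028 L220002 q18045, e3 q18029 L243787 q20870, e3 q18030 L243799 q20871, e3 q18031 (flp_f L219900) q14254, e3 q18032 L219912 q14457, e3 q18033 (flp_f L225115) q18643, e3 q18034 L219926 q15443, e3 q18035 L219936 q15097, e3 q18036 (flp_f L219946) q15064, e3 q18037 (flp_f L219948) q14257, e3 q18038 (flp_f L225371) q18686, e3 q18039 (flp_f L223907) q18502, e3 q18040 (flp_f L219968) q14258, e3 q18041 (flp_f L243879) q20877, e3 q18042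 (flp_f L219982) q14260, e3 q18043 (flp_f L219986) q14261, e3 q18044 (flp_f L231738) q19512, e3 q18045 (flp_f L220002) q18028, e3 q18046 (flp_f L243453) q20833, e3 q18047 (flp_f L220020) q17989, trivial⟩ (by decide +kernel)

theorem ce_f_282 : ∀ r, r < 64 → sm gf (Qf (18048 + r)) = Qf (tab Gen.f (18048 + r)) :=
  edges_tab (sm gf) Qf (tab Gen.f) 18048 [(18048, 20884), (18049, 20885), (18050, 14265), (18051, 20888), (18052, 18311), (18053, 15045), (18054, 14267), (18055, 18630), (18056, 19249), (18057, 14278), (18058, 14280), (18059, 14281), (18060, 18069), (18061, 20897), (18062, 20898), (18063, 18952), (18064, 20900), (18065, 19248), (18066, 14277), (18067, 19201), (18068, 20893), (18069, 18060), (18070, 20903), (18071, 20905), (18072, 20906), (18073, 19379), (18074, 14282), (18075, 17998), (18076, 14283), (18077, 18731), (18078, 18473), (18079, 14300), (18080, 18292), (18081, 15080), (18082, 20106), (18083, 20911), (18084, 17932), (18085, 15800), (18086, 20058), (18087, 14291), (18088, 18092), (18089, 20623), (18090,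 15092), (18091, 15091), (18092, 18088), (18093, 20621), (18094, 17567), (18095, 15844), (18096, 20916), (18097, 20918), (18098, 14307), (18099, 20920), (18100, 18241), (18101, 20924), (18102, 20927), (18103, 20928), (18104, 14311), (18105, 20098), (18106, 20099), (18107, 19749), (18108, 20931), (18109, 14313), (18110, 14314), (18111, 17572)]
    ⟨e3 q18048 L243939 q20884, e3 q18049 L243949 q20885, e3 q18050 (flp_f L220048) q14265, e3 q18051 L243975 q20888, e3 q18052 (flp_f L222026) q18311, e3 q18053 (flp_f L220072) q15045, e3 q18054 (flp_f L220074) q14267, e3 q18055 L225027 q18630, e3 q18056 (flp_f L229322) q19249, e3 q18057 L220100 q14278, e3 q18058 L220104 q14280, e3 q18059 L220112 q14281, e3 q18060 (flp_f L220190) q18069, e3 q18061 L244067 q20897, e3 q18062 L244077 q20898, e3 q18063 (flp_f L227188) q18952, e3 q18064 L244103 q20900, e3 q18065 L229306 q19248, e3 q18066 (flp_f L220164) q14277, e3 q18067 (flp_f L228918) q19201, e3 q18068 (flp_f L244027) q20893, e3 q18069 L220190 q18060, e3 q18070 L244133 q20903,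 e3 q18071 L244155 q20905, e3 q18072 L244165 q20906, e3 q18073 (flp_f L230448) q19379, e3 q18074 (flp_f L220212) q14282, e3 q18075 L220226 q17998, e3 q18076 (flp_f L220228) q14283, e3 q18077 L225737 q18731, e3 q18078 (flp_f L223615) q18473, e3 q18079 L220260 q14300, e3 q18080 (flp_f L221870) q18292, e3 q18081 L220278 q15080, e3 q18082 (flp_f L236833) q20106, e3 q18083 L244205 q20911, e3 q18084 L220300 q17932, e3 q18085 (flp_f L220306) q15800, e3 q18086 (flp_f L236407) q20058, e3 q18087 (flp_f L220316) q14291, e3 q18088 L220366 q18092, e3 q18089 (flp_f L241406) q20623, e3 q18090 L220346 q15092, e3 q18091 (flp_f L220356) q15091, e3 q18092 (flp_f L220366) q18088, e3 q18093 (flp_f L241382) q20621, e3 q18094 L220378 q17567, e3 q18095 (flp_f L220388) q15844, e3 q18096 L244247 q20916, e3 q18097 L244263 q20918, e3 q18098 (flp_f L220398) q14307, e3 q18099 L244273 q20920, e3 q18100 (flp_f L221488) q18241, e3 q18101 L244299 q20924, e3 q18102 L244313 q20927, e3 q18103 L244319 q20928, e3 q18104 (flp_f L220428) q14311, e3 q18105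 (flp_f L236755) q20098, e3 q18106 (flp_f L236763) q20099, e3 q18107 L233745 q19749, e3 q18108 L244341 q20931, e3 q18109 (flp_f L220456) q14313, e3 q18110 (flp_f L220464) q14314, e3 q18111 (flp_f L220474) q17572, trivial⟩ (by decide +kernel)

theorem ce_f_283 : ∀ r, r < 64 → sm gf (Qf (18112 + r)) = Qf (tab Gen.f (18112 + r)) :=
  edges_tab (sm gf) Qf (tab Gen.f) 18112 [(18112, 17939), (18113, 17575), (18114, 15063), (18115, 14322), (18116, 18129), (18117, 20881), (18118, 14324), (18119, 16670), (18120, 19247), (18121, 15834), (18122, 15835), (18123, 17589), (18124, 15774), (18125, 14334), (18126, 14332), (18127, 18949), (18128, 14335), (18129, 18116), (18130, 20057), (18131, 14339), (18132, 19245), (18133, 14341), (18134, 14347), (18135, 18735), (18136, 20938), (18137, 14343), (18138, 14344), (18139, 19851), (18140, 14673), (18141, 14346), (18142, 14350), (18143, 18018), (18144, 14352), (18145, 14353), (18146, 14355), (18147, 18019), (18148, 14359), (18149, 14360), (18150, 14361), (18151, 14366), (18152, 14684),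 (18153, 18821), (18154, 14364), (18155, 20944), (18156, 18820), (18157, 20946), (18158, 20958), (18159, 20174), (18160, 20658), (18161, 15628), (18162, 20660), (18163, 17602), (18164, 20962), (18165, 14370), (18166, 14612), (18167, 14374), (18168, 16043), (18169, 16560), (18170, 14387), (18171, 14390), (18172, 18178), (18173, 20609), (18174, 19246), (18175, 20964)]
    ⟨e3 q18112 L220482 q17939, e3 q18113 (flp_f L220498) q17575, e3 q18114 L220504 q15063, e3 q18115 (flp_f L220510) q14322, e3 q18116 L220658 q18129, e3 q18117 L243919 q20881, e3 q18118 (flp_f L220542) q14324, e3 q18119 L220554 q16670, e3 q18120 (flp_f L229296) q19247, e3 q18121 L220570 q15834, e3 q18122 L220576 q15835, e3 q18123 L220586 q17589, e3 q18124 (flp_f L220598) q15774, e3 q18125 L220610 q14334, e3 q18126 (flp_f L220616) q14332, e3 q18127 (flp_f L227163) q18949, e3 q18128 (flp_f L220638) q14335, e3 q18129 (flp_f L220658) q18116, e3 q18130 (flp_f L236398) q20057, e3 q18131 (flp_f L220665) q14339, e3 q18132 (flp_f L229280) q19245, e3 q18133 (flp_f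 L220682) q14341, e3 q18134 L220698 q14347, e3 q18135 (flp_f L225763) q18735, e3 q18136 L244407 q20938, e3 q18137 (flp_f L220718) q14343, e3 q18138 (flp_f L220722) q14344, e3 q18139 (flp_f L234591) q19851, e3 q18140 (flp_f L220744) q14673, e3 q18141 (flp_f L220746) q14346, e3 q18142 (flp_f L220756) q14350, e3 q18143 (flp_f L220768) q18018, e3 q18144 (flp_f L220770) q14352, e3 q18145 (flp_f L220778) q14353, e3 q18146 (flp_f L220788) q14355, e3 q18147 L220802 q18019, e3 q18148 (flp_f L220804) q14359, e3 q18149 (flp_f L220810) q14360, e3 q18150 (flp_f L220820) q14361, e3 q18151 L220826 q14366, e3 q18152 (flp_f L220836) q14684, e3 q18153 (flp_f L226239) q18821, e3 q18154 (flp_f L220842) q14364, e3 q18155 (flp_f L244459) q20944, e3 q18156 L226247 q18820, e3 q18157 (flp_f L244475) q20946, e3 q18158 L244537 q20958, e3 q18159 (flp_f L237459) q20174, e3 q18160 (flp_f L241680) q20658, e3 q18161 (flp_f L220880) q15628, e3 q18162 (flp_f L241700) q20660, e3 q18163 L220892 q17602, e3 q18164 L244575 q20962, e3 q18165 (flp_f L220898)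 q14370, e3 q18166 L220912 q14612, e3 q18167 (flp_f L220918) q14374, e3 q18168 L220934 q16043, e3 q18169 L220948 q16560, e3 q18170 L220956 q14387, e3 q18171 L220968 q14390, e3 q18172 (flp_f L221040) q18178, e3 q18173 L241279 q20609, e3 q18174 (flp_f L229286) q19246, e3 q18175 L244591 q20964, trivial⟩ (by decide +kernel)

theorem ce_f_284 : ∀ r, r < 64 → sm gf (Qf (18176 + r)) = Qf (tab Gen.f (18176 + r)) :=
  edges_tab (sm gf) Qf (tab Gen.f) 18176 [(18176, 14384), (18177, 15268), (18178, 18172), (18179, 14389), (18180, 20894), (18181, 14391), (18182, 19587), (18183, 19588), (18184, 18996), (18185, 18999), (18186, 17666), (18187, 18256), (18188, 18191), (18189, 14441), (18190, 14404), (18191, 18188), (18192, 20974), (18193, 18470), (18194, 20978), (18195, 20981), (18196, 20982), (18197, 14407), (18198, 20856), (18199, 14408), (18200, 16130), (18201, 14409), (18202, 14411), (18203, 15152), (18204, 20984), (18205, 14414), (18206, 15328), (18207, 20989), (18208, 14415), (18209, 15462), (18210, 19126), (18211, 20733),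 (18212, 20995), (18213, 14423), (18214, 18298), (18215, 14424), (18216, 14429), (18217, 14426), (18218, 14427), (18219, 20997), (18220, 20998), (18221, 20999), (18222, 21009), (18223, 18223), (18224, 15454), (18225, 18225), (18226, 15456), (18227, 15434), (18228, 19099), (18229, 19100), (18230, 15436), (18231, 19105), (18232, 19109), (18233, 15425), (18234, 14439), (18235, 18238), (18236, 17522), (18237, 21018), (18238, 18235), (18239, 21019)]
    ⟨e3 q18176 (flp_f L221002) q14384, e3 q18177 L221024 q15268, e3 q18178 L221040 q18172, e3 q18179 (flp_f L221042) q14389, e3 q18180 L244039 q20894, e3 q18181 (flp_f L221064) q14391, e3 q18182 (flp_f L232404) q19587, e3 q18183 (flp_f L232414) q19588, e3 q18184 L227542 q18996, e3 q18185 (flp_f L227560) q18999, e3 q18186 L221102 q17666, e3 q18187 (flp_f L221600) q18256, e3 q18188 L221143 q18191, e3 q18189 L221125 q14441, e3 q18190 (flp_f L221134) q14404, e3 q18191 (flp_f L221143) q18188, e3 q18192 L244666 q20974, e3 q18193 L223595 q18470, e3 q18194 L244688 q20978, e3 q18195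 L244704 q20981, e3 q18196 L244710 q20982, e3 q18197 (flp_f L221165) q14407, e3 q18198 (flp_f L243665) q20856, e3 q18199 (flp_f L221174) q14408, e3 q18200 (flp_f L222224) q16130, e3 q18201 (flp_f L221189) q14409, e3 q18202 L221201 q14411, e3 q18203 L221213 q15152, e3 q18204 (flp_f L244730) q20984, e3 q18205 L221225 q14414, e3 q18206 L221235 q15328, e3 q18207 L244770 q20989, e3 q18208 (flp_f L221243) q14415, e3 q18209 L221261 q15462, e3 q18210 (flp_f L228377) q19126, e3 q18211 (flp_f L242426) q20733, e3 q18212 L244812 q20995, e3 q18213 (flp_f L221283) q14423, e3 q18214 L221924 q18298, e3 q18215 (flp_f L221298) q14424, e3 q18216 L221307 q14429, e3 q18217 (flp_f L221309) q14426, e3 q18218 (flp_f L221318) q14427, e3 q18219 (flp_f L244838) q20997, e3 q18220 (flp_f L244844) q20998, e3 q18221 (flp_f L244848) q20999, e3 q18222 L244903 q21009, e3 q18223 L221342 q18223, e3 q18224 (flp_f L221351) q15454, e3 q18225 L221357 q18225, e3 q18226 (flp_f L221364) q15456, e3 q18227 L221370 q15434, e3 q18228 (flp_f L228180) q19099, e3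 q18229 (flp_f L228190) q19100, e3 q18230 L221394 q15436, e3 q18231 L228220 q19105, e3 q18232 (flp_f L228240) q19109, e3 q18233 (flp_f L221422) q15425, e3 q18234 (flp_f L221424) q14439, e3 q18235 L221462 q18238, e3 q18236 L221444 q17522, e3 q18237 L244995 q21018, e3 q18238 (flp_f L221462) q18235, e3 q18239 L244997 q21019, trivial⟩ (by decide +kernel)

theorem ce_f_285 : ∀ r, r < 64 → sm gf (Qf (18240 + r)) = Qf (tab Gen.f (18240 + r)) :=
  edges_tab (sm gf) Qf (tab Gen.f) 18240 [(18240, 14444), (18241, 18100), (18242, 21021), (18243, 21023), (18244, 21024), (18245, 14447), (18246, 21026), (18247, 14448), (18248, 20429), (18249, 21028), (18250, 14449), (18251, 14450), (18252, 15027), (18253, 15154), (18254, 15162), (18255, 20872), (18256, 18187), (18257, 17022), (18258, 21034), (18259, 14459), (18260, 21037), (18261, 21039), (18262, 14460), (18263, 20316), (18264, 21041), (18265, 14462), (18266, 15389), (18267, 14463), (18268, 17644), (18269, 17029), (18270, 18391), (18271, 18554), (18272, 20350), (18273, 20165),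 (18274, 21052), (18275, 14468), (18276, 18987), (18277, 18405), (18278, 18337), (18279, 20990), (18280, 14470), (18281, 15388), (18282, 14473), (18283, 14474), (18284, 18286), (18285, 15962), (18286, 18284), (18287, 20409), (18288, 14475), (18289, 18290), (18290, 18289), (18291, 14484), (18292, 18080), (18293, 18308), (18294, 14490), (18295, 21057), (18296, 14491), (18297, 14496), (18298, 18214), (18299, 14493), (18300, 14494), (18301, 19365), (18302, 19362), (18303, 19361)]
    ⟨e3 q18240 (flp_f L221470) q14444, e3 q18241 L221488 q18100, e3 q18242 L245007 q21021, e3 q18243 L245021 q21023, e3 q18244 L245031 q21024, e3 q18245 (flp_f L221502) q14447, e3 q18246 L245057 q21026, e3 q18247 (flp_f L221516) q14448, e3 q18248 (flp_f L239681) q20429, e3 q18249 L245075 q21028, e3 q18250 (flp_f L221542) q14449, e3 q18251 (flp_f L221550) q14450, e3 q18252 L221568 q15027, e3 q18253 L221584 q15154, e3 q18254 L221590 q15162, e3 q18255 (flp_f L243819) q20872, e3 q18256 L221600 q18187, e3 q18257 (flp_f L221614) q17022, e3 q18258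 L245129 q21034, e3 q18259 (flp_f L221620) q14459, e3 q18260 L245157 q21037, e3 q18261 L245171 q21039, e3 q18262 (flp_f L221644) q14460, e3 q18263 (flp_f L238599) q20316, e3 q18264 L245187 q21041, e3 q18265 (flp_f L221654) q14462, e3 q18266 L221676 q15389, e3 q18267 (flp_f L221664) q14463, e3 q18268 (flp_f L221692) q17644, e3 q18269 (flp_f L221700) q17029, e3 q18270 L223050 q18391, e3 q18271 (flp_f L224369) q18554, e3 q18272 (flp_f L238953) q20350, e3 q18273 L237395 q20165, e3 q18274 L245257 q21052, e3 q18275 (flp_f L221728) q14468, e3 q18276 (flp_f L227472) q18987, e3 q18277 L223126 q18405, e3 q18278 L222200 q18337, e3 q18279 (flp_f L244788) q20990, e3 q18280 (flp_f L221758) q14470, e3 q18281 L221768 q15388, e3 q18282 L221774 q14473, e3 q18283 L221780 q14474, e3 q18284 (flp_f L221814) q18286, e3 q18285 L221804 q15962, e3 q18286 L221814 q18284, e3 q18287 (flp_f L239489) q20409, e3 q18288 (flp_f L221824) q14475, e3 q18289 (flp_f L221852) q18290, e3 q18290 L221852 q18289, e3 q18291 (flp_f L221854) q14484, e3 q18292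 L221870 q18080, e3 q18293 L221996 q18308, e3 q18294 (flp_f L221886) q14490, e3 q18295 L245309 q21057, e3 q18296 (flp_f L221906) q14491, e3 q18297 L221916 q14496, e3 q18298 (flp_f L221924) q18214, e3 q18299 (flp_f L221926) q14493, e3 q18300 (flp_f L221936) q14494, e3 q18301 (flp_f L230330) q19365, e3 q18302 (flp_f L230308) q19362, e3 q18303 (flp_f L230298) q19361, trivial⟩ (by decide +kernel)

theorem ce_f_286 : ∀ r, r < 64 → sm gf (Qf (18304 + r)) = Qf (tab Gen.f (18304 + r)) :=
  edges_tab (sm gf) Qf (tab Gen.f) 18304 [(18304, 21064), (18305, 17710), (18306, 20272), (18307, 17340), (18308, 18293), (18309, 17953), (18310, 14504), (18311, 18052), (18312, 18789), (18313, 15493), (18314, 14507), (18315, 20717), (18316, 17112), (18317, 20719), (18318, 19821), (18319, 21077), (18320, 16091), (18321, 17734), (18322, 17717), (18323, 19817), (18324, 20729), (18325, 14513), (18326, 20326), (18327, 14619), (18328, 14620), (18329, 14516), (18330, 19715), (18331, 20587), (18332, 17141), (18333, 21088), (18334, 14578), (18335,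 14576), (18336, 14628), (18337, 18278), (18338, 19165), (18339, 18345), (18340, 17059), (18341, 14521), (18342, 18503), (18343, 14522), (18344, 14523), (18345, 18339), (18346, 14528), (18347, 14531), (18348, 15678), (18349, 16140), (18350, 20801), (18351, 16894), (18352, 14540), (18353, 18361), (18354, 14541), (18355, 18364), (18356, 21097), (18357, 17899), (18358, 17894), (18359, 17900), (18360, 15717), (18361, 18353), (18362, 21104), (18363, 14550), (18364, 18355), (18365, 21108), (18366, 14552), (18367, 21112)]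
    ⟨e3 q18304 L245369 q21064, e3 q18305 L221972 q17710, e3 q18306 (flp_f L238253) q20272, e3 q18307 L221984 q17340, e3 q18308 (flp_f L221996) q18293, e3 q18309 L222004 q17953, e3 q18310 (flp_f L222010) q14504, e3 q18311 L222026 q18052, e3 q18312 (flp_f L226057) q18789, e3 q18313 L222036 q15493, e3 q18314 (flp_f L222042) q14507, e3 q18315 (flp_f L242262) q20717, e3 q18316 (flp_f L222066) q17112, e3 q18317 (flp_f L242282) q20719, e3 q18318 (flp_f L234317) q19821, e3 q18319 L245495 q21077, e3 q18320 L222086 q16091, e3 q18321 L222094 q17734, e3 q18322 L222102 q17717, e3 q18323 (flp_f L234281) q19817, e3 q18324 (flp_f L242376) q20729, e3 q18325 (flp_f L222118) q14513, e3 q18326 (flp_f L238687) q20326, e3 q18327 L222138 q14619, e3 q18328 L222142 q14620, e3 q18329 (flp_f L222144) q14516, e3 q18330 (flp_f L233463) q19715, e3 q18331 (flp_f L241044) q20587, e3 q18332 (flp_f L222168) q17141, e3 q18333 L245561 q21088, e3 q18334 L222176 q14578, e3 q18335 L222184 q14576, e3 q18336 L222192 q14628, e3 q18337 (flp_f L222200) q18278,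 e3 q18338 (flp_f L228651) q19165, e3 q18339 L222315 q18345, e3 q18340 L222265 q17059, e3 q18341 (flp_f L222267) q14521, e3 q18342 (flp_f L223913) q18503, e3 q18343 (flp_f L222287) q14522, e3 q18344 (flp_f L222299) q14523, e3 q18345 (flp_f L222315) q18339, e3 q18346 (flp_f L222317) q14528, e3 q18347 (flp_f L222327) q14531, e3 q18348 (flp_f L222349) q15678, e3 q18349 L222355 q16140, e3 q18350 (flp_f L243063) q20801, e3 q18351 L222375 q16894, e3 q18352 (flp_f L222387) q14540, e3 q18353 L222457 q18361, e3 q18354 (flp_f L222407) q14541, e3 q18355 L222483 q18364, e3 q18356 L245635 q21097, e3 q18357 (flp_f L222427) q17899, e3 q18358 L222433 q17894, e3 q18359 L222437 q17900, e3 q18360 L222445 q15717, e3 q18361 (flp_f L222457) q18353, e3 q18362 (flp_f L246489) q21104, e3 q18363 (flp_f L222463) q14550, e3 q18364 (flp_f L222483) q18355, e3 q18365 L245735 q21108, e3 q18366 (flp_f L222489) q14552, e3 q18367 L245763 q21112, trivial⟩ (by decide +kernel)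

theorem ce_f_287 : ∀ r, r < 64 → sm gf (Qf (18368 + r)) = Qf (tab Gen.f (18368 + r)) :=
  edges_tab (sm gf) Qf (tab Gen.f) 18368 [(18368, 21113), (18369, 14554), (18370, 21114), (18371, 20805), (18372, 19753), (18373, 20804), (18374, 20806), (18375, 19756), (18376, 19757), (18377, 21122), (18378, 14563), (18379, 15546), (18380, 14565), (18381, 16602), (18382, 14566), (18383, 20439), (18384, 20674), (18385, 20138), (18386, 17621), (18387, 18451), (18388, 21127), (18389, 14569), (18390, 18719), (18391, 18270), (18392, 20324), (18393, 20543), (18394, 14572), (18395, 20459), (18396, 17676), (18397, 21134), (18398, 20287), (18399, 14575), (18400, 21137), (18401, 21089), (18402, 21139), (18403, 21013), (18404, 14579), (18405, 18277), (18406, 21142), (18407, 19462), (18408, 21145), (18409, 14583), (18410, 19464), (18411, 14586), (18412, 14597), (18413, 14590), (18414, 18425), (18415, 14591), (18416, 18428), (18417, 14592), (18418, 21147), (18419, 17265), (18420, 20813), (18421, 21146), (18422, 17699), (18423, 14600),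 (18424, 18507), (18425, 18414), (18426, 14602), (18427, 18512), (18428, 18416), (18429, 18515), (18430, 21165), (18431, 21168)]
    ⟨e3 q18368 L245767 q21113, e3 q18369 (flp_f L222505) q14554, e3 q18370 (flp_f L245781) q21114, e3 q18371 (flp_f L243119) q20805, e3 q18372 (flp_f L233785) q19753, e3 q18373 (flp_f L243105) q20804, e3 q18374 (flp_f L243133) q20806, e3 q18375 (flp_f L233811) q19756, e3 q18376 (flp_f L233821) q19757, e3 q18377 L245833 q21122, e3 q18378 (flp_f L222946) q14563, e3 q18379 (flp_f L222964) q15546, e3 q18380 (flp_f L222966) q14565, e3 q18381 (flp_f L222988) q16602, e3 q18382 (flp_f L222990) q14566, e3 q18383 (flp_f L239775) q20439, e3 q18384 (flp_f L241844) q20674, e3 q18385 (flp_f L237161) q20138, e3 q18386 L223022 q17621, e3 q18387 L223469 q18451, e3 q18388 L245871 q21127, e3 q18389 (flp_f L223030) q14569, e3 q18390 (flp_f L225639) q18719, e3 q18391 (flp_f L223050) q18270, e3 q18392 (flp_f L238671) q20324, e3 q18393 (flp_f L240633) q20543, e3 q18394 (flp_f L223066) q14572, e3 q18395 L239949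 q20459, e3 q18396 (flp_f L223084) q17676, e3 q18397 L245923 q21134, e3 q18398 L238372 q20287, e3 q18399 (flp_f L223092) q14575, e3 q18400 L245938 q21137, e3 q18401 (flp_f L245579) q21089, e3 q18402 L245954 q21139, e3 q18403 L244943 q21013, e3 q18404 (flp_f L223112) q14579, e3 q18405 (flp_f L223126) q18277, e3 q18406 L245980 q21142, e3 q18407 L231258 q19462, e3 q18408 L246014 q21145, e3 q18409 (flp_f L223149) q14583, e3 q18410 L231280 q19464, e3 q18411 (flp_f L223165) q14586, e3 q18412 L223181 q14597, e3 q18413 (flp_f L223183) q14590, e3 q18414 L223287 q18425, e3 q18415 (flp_f L223203) q14591, e3 q18416 L223313 q18428, e3 q18417 (flp_f L223223) q14592, e3 q18418 (flp_f L246036) q21147, e3 q18419 L223239 q17265, e3 q18420 L243221 q20813, e3 q18421 (flp_f L246024) q21146, e3 q18422 L223259 q17699, e3 q18423 (flp_f L223265) q14600, e3 q18424 (flp_f L223951) q18507, e3 q18425 (flp_f L223287) q18414, e3 q18426 (flp_f L223289) q14602, e3 q18427 (flp_f L224001) q18512, e3 q18428 (flp_f L223313) q18416, e3 q18429 (flp_f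 L224025) q18515, e3 q18430 L246174 q21165, e3 q18431 L246192 q21168, trivial⟩ (by decide +kernel)

theorem ce_f_288 : ∀ r, r < 64 → sm gf (Qf (18432 + r)) = Qf (tab Gen.f (18432 + r)) :=
  edges_tab (sm gf) Qf (tab Gen.f) 18432 [(18432, 20943), (18433, 20393), (18434, 15386), (18435, 20961), (18436, 21174), (18437, 14609), (18438, 18523), (18439, 15387), (18440, 17946), (18441, 17741), (18442, 14616), (18443, 16139), (18444, 16624), (18445, 21177), (18446, 14618), (18447, 20240), (18448, 21047), (18449, 21046), (18450, 21083), (18451, 18387), (18452, 18986), (18453, 14621), (18454, 15990), (18455, 21184), (18456, 14623), (18457, 20517), (18458, 14625), (18459, 21181), (18460, 14626), (18461, 21188), (18462, 21189), (18463, 14629), (18464, 18982), (18465, 15991), (18466, 15992), (18467, 19659), (18468, 15994), (18469, 19663), (18470, 18193), (18471, 18484), (18472, 21198), (18473, 18078), (18474, 21199), (18475, 20895), (18476, 14644), (18477, 14645), (18478, 16913), (18479, 15604), (18480, 21202), (18481, 14649),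 (18482, 14650), (18483, 20624), (18484, 18471), (18485, 21206), (18486, 14652), (18487, 21012), (18488, 21115), (18489, 14655), (18490, 21209), (18491, 15666), (18492, 20807), (18493, 14659), (18494, 15667), (18495, 15668)]
    ⟨e3 q18432 (flp_f L244453) q20943, e3 q18433 (flp_f L239337) q20393, e3 q18434 L223335 q15386, e3 q18435 (flp_f L244567) q20961, e3 q18436 L246234 q21174, e3 q18437 (flp_f L223353) q14609, e3 q18438 (flp_f L224081) q18523, e3 q18439 L223371 q15387, e3 q18440 (flp_f L223381) q17946, e3 q18441 (flp_f L223391) q17741, e3 q18442 (flp_f L223395) q14616, e3 q18443 L223411 q16139, e3 q18444 (flp_f L223425) q16624, e3 q18445 L246266 q21177, e3 q18446 (flp_f L223435) q14618, e3 q18447 (flp_f L238011) q20240, e3 q18448 (flp_f L245231) q21047, e3 q18449 (flp_f L245221) q21046, e3 q18450 (flp_f L245535) q21083, e3 q18451 (flp_f L223469) q18387, e3 q18452 (flp_f L227465) q18986, e3 q18453 (flp_f L223477) q14621, e3 q18454 L223495 q15990, e3 q18455 L246334 q21184, e3 q18456 (flp_f L223503) q14623, e3 q18457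 L240435 q20517, e3 q18458 (flp_f L223515) q14625, e3 q18459 (flp_f L246312) q21181, e3 q18460 (flp_f L223525) q14626, e3 q18461 L246351 q21188, e3 q18462 L246357 q21189, e3 q18463 (flp_f L223533) q14629, e3 q18464 L227393 q18982, e3 q18465 L223551 q15991, e3 q18466 L223557 q15992, e3 q18467 (flp_f L233037) q19659, e3 q18468 L223571 q15994, e3 q18469 (flp_f L233069) q19663, e3 q18470 (flp_f L223595) q18193, e3 q18471 L223719 q18484, e3 q18472 L246443 q21198, e3 q18473 L223615 q18078, e3 q18474 L246451 q21199, e3 q18475 L244051 q20895, e3 q18476 (flp_f L223635) q14644, e3 q18477 (flp_f L223641) q14645, e3 q18478 (flp_f L223663) q16913, e3 q18479 (flp_f L223673) q15604, e3 q18480 L246491 q21202, e3 q18481 (flp_f L223681) q14649, e3 q18482 L223703 q14650, e3 q18483 L241418 q20624, e3 q18484 (flp_f L223719) q18471, e3 q18485 L246523 q21206, e3 q18486 (flp_f L223729) q14652, e3 q18487 (flp_f L244933) q21012, e3 q18488 L245789 q21115, e3 q18489 (flp_f L223747) q14655, e3 q18490 (flp_f L246547) q21209, e3 q18491 L223759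 q15666, e3 q18492 L243151 q20807, e3 q18493 (flp_f L223775) q14659, e3 q18494 L223787 q15667, e3 q18495 L223849 q15668, trivial⟩ (by decide +kernel)

theorem ce_f_289 : ∀ r, r < 64 → sm gf (Qf (18496 + r)) = Qf (tab Gen.f (18496 + r)) :=
  edges_tab (sm gf) Qf (tab Gen.f) 18496 [(18496, 19366), (18497, 15673), (18498, 14667), (18499, 14668), (18500, 21215), (18501, 15737), (18502, 18039), (18503, 18342), (18504, 20940), (18505, 16869), (18506, 14676), (18507, 18424), (18508, 15842), (18509, 14678), (18510, 20945), (18511, 14679), (18512, 18427), (18513, 16563), (18514, 14681), (18515, 18429), (18516, 21163), (18517, 21231), (18518, 18962), (18519, 20822), (18520, 19584), (18521, 21234), (18522, 14688), (18523, 18438), (18524, 20814), (18525, 14855), (18526, 16909), (18527, 14697), (18528, 19963), (18529, 16357), (18530, 18705), (18531, 14733), (18532, 14934), (18533, 14740), (18534, 17869), (18535, 15031), (18536, 15686), (18537, 17306), (18538, 17870), (18539, 14767), (18540, 17294), (18541, 17293), (18542, 17890),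 (18543, 17039), (18544, 20452), (18545, 14806), (18546, 20119), (18547, 17625), (18548, 19980), (18549, 20089), (18550, 17128), (18551, 14825), (18552, 20323), (18553, 19036), (18554, 18271), (18555, 16523), (18556, 16819), (18557, 14915), (18558, 16232), (18559, 18568)]
    ⟨e3 q18496 (flp_f L230340) q19366, e3 q18497 L223861 q15673, e3 q18498 (flp_f L223867) q14667, e3 q18499 (flp_f L223879) q14668, e3 q18500 (flp_f L246585) q21215, e3 q18501 L223897 q15737, e3 q18502 L223907 q18039, e3 q18503 L223913 q18342, e3 q18504 L244427 q20940, e3 q18505 (flp_f L223931) q16869, e3 q18506 (flp_f L223935) q14676, e3 q18507 L223951 q18424, e3 q18508 (flp_f L223961) q15842, e3 q18509 (flp_f L223963) q14678, e3 q18510 L244471 q20945, e3 q18511 (flp_f L223987) q14679, e3 q18512 L224001 q18427, e3 q18513 (flp_f L224009) q16563, e3 q18514 (flp_f L224011) q14681, e3 q18515 L224025 q18429, e3 q18516 (flp_f L246162) q21163, e3 q18517 L246717 q21231, e3 q18518 (flp_f L227254) q18962, e3 q18519 (flp_f L243333) q20822, e3 q18520 L232368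 q19584, e3 q18521 L246737 q21234, e3 q18522 (flp_f L224067) q14688, e3 q18523 L224081 q18438, e3 q18524 (flp_f L243231) q20814, e3 q18525 L224093 q14855, e3 q18526 (flp_f L224107) q16909, e3 q18527 (flp_f L224109) q14697, e3 q18528 (flp_f L235613) q19963, e3 q18529 (flp_f L224133) q16357, e3 q18530 (flp_f L225498) q18705, e3 q18531 (flp_f L224143) q14733, e3 q18532 (flp_f L224165) q14934, e3 q18533 (flp_f L224167) q14740, e3 q18534 L224183 q17869, e3 q18535 (flp_f L224199) q15031, e3 q18536 L224207 q15686, e3 q18537 (flp_f L224221) q17306, e3 q18538 L224229 q17870, e3 q18539 (flp_f L224235) q14767, e3 q18540 L224251 q17294, e3 q18541 L224263 q17293, e3 q18542 L224275 q17890, e3 q18543 L224287 q17039, e3 q18544 (flp_f L239881) q20452, e3 q18545 (flp_f L224293) q14806, e3 q18546 (flp_f L236973) q20119, e3 q18547 L224313 q17625, e3 q18548 L235769 q19980, e3 q18549 (flp_f L236665) q20089, e3 q18550 (flp_f L224347) q17128, e3 q18551 (flp_f L224349) q14825, e3 q18552 (flp_f L238661) q20323, e3 q18553 L227796 q19036, e3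 q18554 L224369 q18271, e3 q18555 L224381 q16523, e3 q18556 L224389 q16819, e3 q18557 L224403 q14915, e3 q18558 L224413 q16232, e3 q18559 L224491 q18568, trivial⟩ (by decide +kernel)

theorem ce_f_290 : ∀ r, r < 64 → sm gf (Qf (18560 + r)) = Qf (tab Gen.f (18560 + r)) :=
  edges_tab (sm gf) Qf (tab Gen.f) 18560 [(18560, 20455), (18561, 20193), (18562, 16988), (18563, 17227), (18564, 17468), (18565, 17168), (18566, 21248), (18567, 14868), (18568, 18559), (18569, 20424), (18570, 14890), (18571, 15020), (18572, 16253), (18573, 14895), (18574, 14897), (18575, 21250), (18576, 20215), (18577, 20031), (18578, 16959), (18579, 21252), (18580, 20067), (18581, 14899), (18582, 14902), (18583, 17483), (18584, 14912), (18585, 14920), (18586, 14918), (18587, 17852), (18588, 19535), (18589, 17451), (18590, 18602), (18591, 20206), (18592, 16847), (18593, 14997), (18594, 20597), (18595, 17497), (18596, 16600), (18597, 21260), (18598, 14979), (18599, 14984), (18600, 14987), (18601, 20211), (18602, 18590), (18603, 15001), (18604, 17923),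 (18605, 15004), (18606, 17484), (18607, 20667), (18608, 17555), (18609, 17557), (18610, 20093), (18611, 20611), (18612, 19514), (18613, 15712), (18614, 15028), (18615, 19790), (18616, 17618), (18617, 17564), (18618, 19518), (18619, 16908), (18620, 15112), (18621, 18676), (18622, 21268), (18623, 19717)]
    ⟨e3 q18560 (flp_f L239911) q20455, e3 q18561 L237627 q20193, e3 q18562 L224439 q16988, e3 q18563 L224449 q17227, e3 q18564 L224459 q17468, e3 q18565 L224469 q17168, e3 q18566 L246871 q21248, e3 q18567 (flp_f L224475) q14868, e3 q18568 (flp_f L224491) q18559, e3 q18569 (flp_f L239623) q20424, e3 q18570 L224511 q14890, e3 q18571 L224525 q15020, e3 q18572 L224535 q16253, e3 q18573 L224545 q14895, e3 q18574 L224553 q14897, e3 q18575 (flp_f L246899) q21250, e3 q18576 (flp_f L237849) q20215, e3 q18577 (flp_f L236221) q20031, e3 q18578 L224581 q16959, e3 q18579 (flp_f L246921) q21252, e3 q18580 (flp_f L236486) q20067, e3 q18581 (flp_f L224595) q14899, e3 q18582 (flp_f L224607) q14902, e3 q18583 L224621 q17483, e3 q18584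 (flp_f L224623) q14912, e3 q18585 L224643 q14920, e3 q18586 (flp_f L224648) q14918, e3 q18587 L224670 q17852, e3 q18588 (flp_f L231956) q19535, e3 q18589 (flp_f L224688) q17451, e3 q18590 (flp_f L224791) q18602, e3 q18591 L237757 q20206, e3 q18592 L224704 q16847, e3 q18593 (flp_f L224715) q14997, e3 q18594 (flp_f L241136) q20597, e3 q18595 (flp_f L224737) q17497, e3 q18596 L224747 q16600, e3 q18597 L246989 q21260, e3 q18598 (flp_f L224756) q14979, e3 q18599 L224770 q14984, e3 q18600 (flp_f L224772) q14987, e3 q18601 (flp_f L237812) q20211, e3 q18602 L224791 q18590, e3 q18603 L224803 q15001, e3 q18604 L224817 q17923, e3 q18605 (flp_f L224823) q15004, e3 q18606 L224841 q17484, e3 q18607 L241764 q20667, e3 q18608 L224853 q17555, e3 q18609 L224865 q17557, e3 q18610 L236705 q20093, e3 q18611 L241298 q20611, e3 q18612 (flp_f L231758) q19514, e3 q18613 L224897 q15712, e3 q18614 (flp_f L224901) q15028, e3 q18615 L234065 q19790, e3 q18616 L224925 q17618, e3 q18617 L224933 q17564, e3 q18618 (flp_f L231782) q19518, e3 q18619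 L224953 q16908, e3 q18620 (flp_f L224967) q15112, e3 q18621 L225329 q18676, e3 q18622 L247059 q21268, e3 q18623 L233483 q19717, trivial⟩ (by decide +kernel)

theorem ce_f_291 : ∀ r, r < 64 → sm gf (Qf (18624 + r)) = Qf (tab Gen.f (18624 + r)) :=
  edges_tab (sm gf) Qf (tab Gen.f) 18624 [(18624, 19704), (18625, 15039), (18626, 19175), (18627, 21272), (18628, 15512), (18629, 15042), (18630, 18055), (18631, 19297), (18632, 19292), (18633, 15046), (18634, 19282), (18635, 15048), (18636, 15049), (18637, 20230), (18638, 20231), (18639, 16921), (18640, 21279), (18641, 15054), (18642, 19115), (18643, 18033), (18644, 20874), (18645, 15055), (18646, 15964), (18647, 15965), (18648, 21284), (18649, 21286), (18650, 15059), (18651, 15060), (18652, 20875), (18653, 16367), (18654, 20878), (18655, 20486), (18656, 19807), (18657, 19806), (18658, 18658), (18659, 18659), (18660, 18714), (18661, 18715), (18662, 18662), (18663, 18663), (18664, 18728), (18665, 18730), (18666, 18716), (18667, 21299), (18668, 15140), (18669, 15176), (18670,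 15178), (18671, 18737), (18672, 20996), (18673, 15085), (18674, 15103), (18675, 15105), (18676, 18621), (18677, 21302), (18678, 21303), (18679, 15090), (18680, 21304), (18681, 21306), (18682, 18782), (18683, 21308), (18684, 15093), (18685, 21311), (18686, 18038), (18687, 15098)]
    ⟨e3 q18624 L233373 q19704, e3 q18625 (flp_f L224989) q15039, e3 q18626 (flp_f L228727) q19175, e3 q18627 L247095 q21272, e3 q18628 L225007 q15512, e3 q18629 (flp_f L225013) q15042, e3 q18630 (flp_f L225027) q18055, e3 q18631 (flp_f L229744) q19297, e3 q18632 L229706 q19292, e3 q18633 (flp_f L225047) q15046, e3 q18634 (flp_f L229620) q19282, e3 q18635 (flp_f L225065) q15048, e3 q18636 (flp_f L225077) q15049, e3 q18637 (flp_f L237955) q20230, e3 q18638 (flp_f L237959) q20231, e3 q18639 L225093 q16921, e3 q18640 L247142 q21279, e3 q18641 L225105 q15054, e3 q18642 (flp_f L228278) q19115, e3 q18643 L225115 q18033, e3 q18644 L243843 q20874, e3 q18645 (flp_f L225129) q15055, e3 q18646 L225141 q15964, e3 q18647 L225153 q15965, e3 q18648 L247187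 q21284, e3 q18649 L247197 q21286, e3 q18650 (flp_f L225165) q15059, e3 q18651 (flp_f L225171) q15060, e3 q18652 (flp_f L243851) q20875, e3 q18653 L225195 q16367, e3 q18654 (flp_f L243885) q20878, e3 q18655 (flp_f L240145) q20486, e3 q18656 (flp_f L234203) q19807, e3 q18657 (flp_f L234193) q19806, e3 q18658 L225226 q18658, e3 q18659 L225232 q18659, e3 q18660 (flp_f L225574) q18714, e3 q18661 (flp_f L225583) q18715, e3 q18662 L225251 q18662, e3 q18663 L225254 q18663, e3 q18664 (flp_f L225699) q18728, e3 q18665 (flp_f L225721) q18730, e3 q18666 (flp_f L225593) q18716, e3 q18667 L247297 q21299, e3 q18668 (flp_f L225275) q15140, e3 q18669 L225281 q15176, e3 q18670 L225287 q15178, e3 q18671 (flp_f L225777) q18737, e3 q18672 (flp_f L244830) q20996, e3 q18673 (flp_f L225299) q15085, e3 q18674 L225309 q15103, e3 q18675 L225317 q15105, e3 q18676 (flp_f L225329) q18621, e3 q18677 L247323 q21302, e3 q18678 L247335 q21303, e3 q18679 (flp_f L225341) q15090, e3 q18680 L247347 q21304, e3 q18681 L247367 q21306, e3 q18682 L226019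 q18782, e3 q18683 L247383 q21308, e3 q18684 (flp_f L225359) q15093, e3 q18685 L247411 q21311, e3 q18686 L225371 q18038, e3 q18687 (flp_f L225375) q15098, trivial⟩ (by decide +kernel)

theorem ce_f_292 : ∀ r, r < 64 → sm gf (Qf (18688 + r)) = Qf (tab Gen.f (18688 + r)) :=
  edges_tab (sm gf) Qf (tab Gen.f) 18688 [(18688, 17702), (18689, 20139), (18690, 20247), (18691, 20941), (18692, 19279), (18693, 20519), (18694, 20426), (18695, 18831), (18696, 20300), (18697, 15107), (18698, 19970), (18699, 15567), (18700, 15571), (18701, 19339), (18702, 17077), (18703, 19936), (18704, 20044), (18705, 18530), (18706, 16386), (18707, 19509), (18708, 17366), (18709, 16477), (18710, 17367), (18711, 18711), (18712, 15132), (18713, 21333), (18714, 18660), (18715, 18661), (18716, 18666), (18717, 15136), (18718, 16049), (18719, 18390), (18720, 20033), (18721, 20027), (18722, 15137), (18723, 21341), (18724, 18726), (18725, 21343), (18726, 18724), (18727, 15147), (18728, 18664), (18729, 21346), (18730, 18665), (18731, 18077), (18732, 21348),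 (18733, 15144), (18734, 20908), (18735, 18135), (18736, 21056), (18737, 18671), (18738, 21354), (18739, 20873), (18740, 15149), (18741, 18745), (18742, 20985), (18743, 21357), (18744, 15467), (18745, 18741), (18746, 20685), (18747, 15157), (18748, 19521), (18749, 18779), (18750, 21359), (18751, 21361)]
    ⟨e3 q18688 L225389 q17702, e3 q18689 (flp_f L237171) q20139, e3 q18690 (flp_f L238061) q20247, e3 q18691 (flp_f L244435) q20941, e3 q18692 L229594 q19279, e3 q18693 L240457 q20519, e3 q18694 (flp_f L239645) q20426, e3 q18695 (flp_f L226295) q18831, e3 q18696 (flp_f L238487) q20300, e3 q18697 (flp_f L225419) q15107, e3 q18698 L235677 q19970, e3 q18699 L225445 q15567, e3 q18700 L225455 q15571, e3 q18701 (flp_f L230170) q19339, e3 q18702 L225469 q17077, e3 q18703 L235358 q19936, e3 q18704 (flp_f L236310) q20044, e3 q18705 L225498 q18530, e3 q18706 L225508 q16386, e3 q18707 L231704 q19509, e3 q18708 L225526 q17366, e3 q18709 L225532 q16477, e3 q18710 L225546 q17367, e3 q18711 L225554 q18711, e3 q18712 L225562 q15132,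 e3 q18713 (flp_f L247648) q21333, e3 q18714 L225574 q18660, e3 q18715 L225583 q18661, e3 q18716 L225593 q18666, e3 q18717 L225603 q15136, e3 q18718 (flp_f L225633) q16049, e3 q18719 L225639 q18390, e3 q18720 (flp_f L236233) q20033, e3 q18721 (flp_f L236195) q20027, e3 q18722 (flp_f L225647) q15137, e3 q18723 L247721 q21341, e3 q18724 (flp_f L225677) q18726, e3 q18725 L247735 q21343, e3 q18726 L225677 q18724, e3 q18727 L225689 q15147, e3 q18728 L225699 q18664, e3 q18729 L247771 q21346, e3 q18730 L225721 q18665, e3 q18731 (flp_f L225737) q18077, e3 q18732 L247791 q21348, e3 q18733 (flp_f L225747) q15144, e3 q18734 L244189 q20908, e3 q18735 L225763 q18135, e3 q18736 (flp_f L245305) q21056, e3 q18737 L225777 q18671, e3 q18738 L247845 q21354, e3 q18739 L243831 q20873, e3 q18740 (flp_f L225791) q15149, e3 q18741 (flp_f L225827) q18745, e3 q18742 (flp_f L244742) q20985, e3 q18743 L247875 q21357, e3 q18744 (flp_f L225819) q15467, e3 q18745 L225827 q18741, e3 q18746 (flp_f L241938) q20685, e3 q18747 (flp_f L225837) q15157,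 e3 q18748 (flp_f L231818) q19521, e3 q18749 L226003 q18779, e3 q18750 L247896 q21359, e3 q18751 L247912 q21361, trivial⟩ (by decide +kernel)

theorem ce_f_293 : ∀ r, r < 64 → sm gf (Qf (18752 + r)) = Qf (tab Gen.f (18752 + r)) :=
  edges_tab (sm gf) Qf (tab Gen.f) 18752 [(18752, 15159), (18753, 15160), (18754, 21029), (18755, 21030), (18756, 20866), (18757, 15487), (18758, 15163), (18759, 19169), (18760, 21358), (18761, 18766), (18762, 21290), (18763, 15166), (18764, 21370), (18765, 15171), (18766, 18761), (18767, 15168), (18768, 15169), (18769, 20929), (18770, 21371), (18771, 21374), (18772, 21375), (18773, 15172), (18774, 21378), (18775, 15173), (18776, 21377), (18777, 15234), (18778, 19511), (18779, 18749), (18780, 20461), (18781, 20387), (18782, 18682), (18783, 21391), (18784, 21393), (18785, 21395), (18786, 21397), (18787, 21398), (18788, 15180), (18789, 18312), (18790, 20896), (18791, 19293), (18792, 20248), (18793, 15435), (18794, 19529), (18795, 15189), (18796, 21101), (18797, 21100), (18798, 15191), (18799,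 18973), (18800, 15203), (18801, 21404), (18802, 15207), (18803, 15309), (18804, 18819), (18805, 20954), (18806, 20890), (18807, 15196), (18808, 21411), (18809, 15197), (18810, 19202), (18811, 21412), (18812, 15199), (18813, 21413), (18814, 15200), (18815, 21415)]
    ⟨e3 q18752 (flp_f L225861) q15159, e3 q18753 (flp_f L225869) q15160, e3 q18754 (flp_f L245093) q21029, e3 q18755 (flp_f L245103) q21030, e3 q18756 (flp_f L243753) q20866, e3 q18757 L225889 q15487, e3 q18758 (flp_f L225891) q15163, e3 q18759 (flp_f L228689) q19169, e3 q18760 (flp_f L247893) q21358, e3 q18761 L225933 q18766, e3 q18762 (flp_f L247227) q21290, e3 q18763 (flp_f L225919) q15166, e3 q18764 L247977 q21370, e3 q18765 L225929 q15171, e3 q18766 (flp_f L225933) q18761, e3 q18767 (flp_f L225935) q15168, e3 q18768 (flp_f L225945) q15169, e3 q18769 L244329 q20929, e3 q18770 (flp_f L247997) q21371, e3 q18771 L248017 q21374, e3 q18772 L248027 q21375, e3 q18773 (flp_f L225971) q15172, e3 q18774 L248053 q21378, e3 q18775 (flp_f L225975) q15173, e3 q18776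 (flp_f L248047) q21377, e3 q18777 (flp_f L225991) q15234, e3 q18778 (flp_f L231724) q19511, e3 q18779 (flp_f L226003) q18749, e3 q18780 L239971 q20461, e3 q18781 (flp_f L239281) q20387, e3 q18782 (flp_f L226019) q18682, e3 q18783 L248157 q21391, e3 q18784 L248171 q21393, e3 q18785 L248191 q21395, e3 q18786 L248211 q21397, e3 q18787 L248219 q21398, e3 q18788 (flp_f L226049) q15180, e3 q18789 L226057 q18312, e3 q18790 (flp_f L244065) q20896, e3 q18791 L229718 q19293, e3 q18792 (flp_f L238067) q20248, e3 q18793 L226077 q15435, e3 q18794 (flp_f L231884) q19529, e3 q18795 (flp_f L226083) q15189, e3 q18796 (flp_f L245685) q21101, e3 q18797 (flp_f L245663) q21100, e3 q18798 (flp_f L226109) q15191, e3 q18799 L227320 q18973, e3 q18800 L226121 q15203, e3 q18801 L248274 q21404, e3 q18802 L226131 q15207, e3 q18803 (flp_f L226139) q15309, e3 q18804 (flp_f L226225) q18819, e3 q18805 (flp_f L244521) q20954, e3 q18806 L243997 q20890, e3 q18807 (flp_f L226151) q15196, e3 q18808 L248322 q21411, e3 q18809 (flp_f L226163) q15197, e3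 q18810 (flp_f L228930) q19202, e3 q18811 (flp_f L248338) q21412, e3 q18812 (flp_f L226183) q15199, e3 q18813 L248341 q21413, e3 q18814 (flp_f L226191) q15200, e3 q18815 L248355 q21415, trivial⟩ (by decide +kernel)

theorem ce_f_294 : ∀ r, r < 64 → sm gf (Qf (18816 + r)) = Qf (tab Gen.f (18816 + r)) :=
  edges_tab (sm gf) Qf (tab Gen.f) 18816 [(18816, 17999), (18817, 20949), (18818, 15202), (18819, 18804), (18820, 18156), (18821, 18153), (18822, 15205), (18823, 21419), (18824, 15206), (18825, 20485), (18826, 21424), (18827, 18842), (18828, 15208), (18829, 21428), (18830, 15209), (18831, 18695), (18832, 21431), (18833, 15210), (18834, 21432), (18835, 21437), (18836, 15214), (18837, 18016), (18838, 21278), (18839, 20858), (18840, 19122), (18841, 20278), (18842, 18827), (18843, 21446), (18844, 15221), (18845, 20277), (18846, 21422), (18847, 21447), (18848, 15223), (18849, 15224), (18850, 15238), (18851, 18888), (18852, 21453), (18853, 15228), (18854, 18863), (18855, 21450), (18856, 18884), (18857, 15947), (18858, 21380),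 (18859, 20190), (18860, 15235), (18861, 20575), (18862, 21448), (18863, 18854), (18864, 21449), (18865, 17670), (18866, 21463), (18867, 15243), (18868, 17671), (18869, 15244), (18870, 15252), (18871, 15248), (18872, 21465), (18873, 15249), (18874, 18903), (18875, 21464), (18876, 18877), (18877, 18876), (18878, 15265), (18879, 15267)]
    ⟨e3 q18816 (flp_f L226203) q17999, e3 q18817 (flp_f L244491) q20949, e3 q18818 (flp_f L226211) q15202, e3 q18819 L226225 q18804, e3 q18820 (flp_f L226247) q18156, e3 q18821 L226239 q18153, e3 q18822 (flp_f L226233) q15205, e3 q18823 L248395 q21419, e3 q18824 (flp_f L226257) q15206, e3 q18825 (flp_f L240605) q20485, e3 q18826 L248431 q21424, e3 q18827 (flp_f L227002) q18842, e3 q18828 (flp_f L226269) q15208, e3 q18829 L248471 q21428, e3 q18830 (flp_f L226283) q15209, e3 q18831 L226295 q18695, e3 q18832 L248495 q21431, e3 q18833 (flp_f L226299) q15210, e3 q18834 (flp_f L248513) q21432, e3 q18835 L248541 q21437, e3 q18836 L226317 q15214, e3 q18837 L226325 q18016, e3 q18838 (flp_f L247138)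 q21278, e3 q18839 (flp_f L243683) q20858, e3 q18840 (flp_f L228343) q19122, e3 q18841 (flp_f L238301) q20278, e3 q18842 L227002 q18827, e3 q18843 L248622 q21446, e3 q18844 (flp_f L226367) q15221, e3 q18845 (flp_f L238291) q20277, e3 q18846 (flp_f L248421) q21422, e3 q18847 L248632 q21447, e3 q18848 (flp_f L226397) q15223, e3 q18849 (flp_f L226401) q15224, e3 q18850 L226411 q15238, e3 q18851 L226685 q18888, e3 q18852 L248688 q21453, e3 q18853 (flp_f L226423) q15228, e3 q18854 (flp_f L226495) q18863, e3 q18855 (flp_f L248666) q21450, e3 q18856 L226663 q18884, e3 q18857 L226455 q15947, e3 q18858 L248071 q21380, e3 q18859 L237597 q20190, e3 q18860 (flp_f L226477) q15235, e3 q18861 (flp_f L240924) q20575, e3 q18862 (flp_f L248648) q21448, e3 q18863 L226495 q18854, e3 q18864 (flp_f L248658) q21449, e3 q18865 (flp_f L226507) q17670, e3 q18866 L248756 q21463, e3 q18867 (flp_f L226517) q15243, e3 q18868 L226533 q17671, e3 q18869 (flp_f L226539) q15244, e3 q18870 L226553 q15252, e3 q18871 (flp_f L226555) q15248, e3 q18872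 L248770 q21465, e3 q18873 (flp_f L226563) q15249, e3 q18874 L226804 q18903, e3 q18875 (flp_f L248768) q21464, e3 q18876 (flp_f L226597) q18877, e3 q18877 L226597 q18876, e3 q18878 L226615 q15265, e3 q18879 (flp_f L226627) q15267, trivial⟩ (by decide +kernel)

theorem ce_f_295 : ∀ r, r < 64 → sm gf (Qf (18880 + r)) = Qf (tab Gen.f (18880 + r)) :=
  edges_tab (sm gf) Qf (tab Gen.f) 18880 [(18880, 15255), (18881, 20561), (18882, 15257), (18883, 17810), (18884, 18856), (18885, 20562), (18886, 20563), (18887, 18940), (18888, 18851), (18889, 18889), (18890, 18904), (18891, 21469), (18892, 18892), (18893, 21470), (18894, 19833), (18895, 16535), (18896, 16730), (18897, 16738), (18898, 18898), (18899, 20024), (18900, 17102), (18901, 18901), (18902, 18902), (18903, 18874), (18904, 18890), (18905, 16532), (18906, 20553), (18907, 20425), (18908, 15281), (18909, 15291), (18910, 21498), (18911, 15302), (18912, 17349), (18913, 15308), (18914, 15310), (18915, 18928), (18916, 18941), (18917, 21495), (18918, 20021), (18919, 18943),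 (18920, 15294), (18921, 20582), (18922, 15296), (18923, 20545), (18924, 17178), (18925, 18947), (18926, 15301), (18927, 20557), (18928, 18915), (18929, 15316), (18930, 21511), (18931, 21512), (18932, 15318), (18933, 15305), (18934, 15306), (18935, 21406), (18936, 21516), (18937, 20179), (18938, 21520), (18939, 15311), (18940, 18887), (18941, 18916), (18942, 15312), (18943, 18919)]
    ⟨e3 q18880 (flp_f L226629) q15255, e3 q18881 (flp_f L240790) q20561, e3 q18882 (flp_f L226641) q15257, e3 q18883 L226653 q17810, e3 q18884 (flp_f L226663) q18856, e3 q18885 (flp_f L240796) q20562, e3 q18886 (flp_f L240802) q20563, e3 q18887 (flp_f L227092) q18940, e3 q18888 (flp_f L226685) q18851, e3 q18889 L226691 q18889, e3 q18890 L226816 q18904, e3 q18891 (flp_f L248820) q21469, e3 q18892 L226706 q18892, e3 q18893 L248832 q21470, e3 q18894 (flp_f L234419) q19833, e3 q18895 L226731 q16535, e3 q18896 L226741 q16730, e3 q18897 L226749 q16738, e3 q18898 L226757 q18898, e3 q18899 (flp_f L236171) q20024, e3 q18900 L226776 q17102, e3 q18901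 L226786 q18901, e3 q18902 L226797 q18902, e3 q18903 (flp_f L226804) q18874, e3 q18904 (flp_f L226816) q18890, e3 q18905 L226822 q16532, e3 q18906 L240730 q20553, e3 q18907 (flp_f L239633) q20425, e3 q18908 (flp_f L226834) q15281, e3 q18909 L226846 q15291, e3 q18910 L249044 q21498, e3 q18911 L226858 q15302, e3 q18912 L226866 q17349, e3 q18913 L226878 q15308, e3 q18914 L226884 q15310, e3 q18915 (flp_f L226984) q18928, e3 q18916 L227098 q18941, e3 q18917 (flp_f L249032) q21495, e3 q18918 L236151 q20021, e3 q18919 (flp_f L227116) q18943, e3 q18920 (flp_f L226910) q15294, e3 q18921 (flp_f L240990) q20582, e3 q18922 (flp_f L226928) q15296, e3 q18923 L240656 q20545, e3 q18924 (flp_f L226958) q17178, e3 q18925 (flp_f L227147) q18947, e3 q18926 (flp_f L226966) q15301, e3 q18927 (flp_f L240756) q20557, e3 q18928 L226984 q18915, e3 q18929 L226996 q15316, e3 q18930 L249158 q21511, e3 q18931 L249170 q21512, e3 q18932 (flp_f L227032) q15318, e3 q18933 (flp_f L227034) q15305, e3 q18934 (flp_f L227044) q15306, e3 q18935 L248296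 q21406, e3 q18936 L249194 q21516, e3 q18937 L237509 q20179, e3 q18938 L249232 q21520, e3 q18939 (flp_f L227080) q15311, e3 q18940 L227092 q18887, e3 q18941 (flp_f L227098) q18916, e3 q18942 (flp_f L227100) q15312, e3 q18943 L227116 q18919, trivial⟩ (by decide +kernel)

theorem ce_f_296 : ∀ r, r < 64 → sm gf (Qf (18944 + r)) = Qf (tab Gen.f (18944 + r)) :=
  edges_tab (sm gf) Qf (tab Gen.f) 18944 [(18944, 21508), (18945, 15314), (18946, 21510), (18947, 18925), (18948, 17654), (18949, 18127), (18950, 17622), (18951, 21528), (18952, 18063), (18953, 20892), (18954, 20699), (18955, 15324), (18956, 20289), (18957, 19095), (18958, 15329), (18959, 15330), (18960, 20254), (18961, 21530), (18962, 18518), (18963, 21537), (18964, 21540), (18965, 15331), (18966, 21544), (18967, 21545), (18968, 15333), (18969, 15340), (18970, 19027), (18971, 15335), (18972, 21300), (18973, 18799), (18974, 15337), (18975, 15338), (18976, 21546), (18977, 20258), (18978, 20988), (18979, 20241), (18980, 20304), (18981, 16917), (18982, 18464), (18983,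 15347), (18984, 20854), (18985, 15349), (18986, 18452), (18987, 18276), (18988, 16517), (18989, 15979), (18990, 21559), (18991, 15354), (18992, 15355), (18993, 15377), (18994, 15379), (18995, 15361), (18996, 18184), (18997, 21534), (18998, 21533), (18999, 18185), (19000, 17960), (19001, 21567), (19002, 21570), (19003, 15364), (19004, 19025), (19005, 17783), (19006, 17686), (19007, 15365)]
    ⟨e3 q18944 L249132 q21508, e3 q18945 (flp_f L227127) q15314, e3 q18946 L249156 q21510, e3 q18947 L227147 q18925, e3 q18948 L227153 q17654, e3 q18949 L227163 q18127, e3 q18950 L227175 q17622, e3 q18951 L249298 q21528, e3 q18952 L227188 q18063, e3 q18953 (flp_f L244015) q20892, e3 q18954 (flp_f L242090) q20699, e3 q18955 (flp_f L227200) q15324, e3 q18956 (flp_f L238390) q20289, e3 q18957 L228154 q19095, e3 q18958 L227224 q15329, e3 q18959 L227234 q15330, e3 q18960 (flp_f L238101) q20254, e3 q18961 (flp_f L249325) q21530, e3 q18962 L227254 q18518, e3 q18963 L249371 q21537, e3 q18964 L249394 q21540, e3 q18965 (flp_f L227262) q15331,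 e3 q18966 L249442 q21544, e3 q18967 L249456 q21545, e3 q18968 (flp_f L227276) q15333, e3 q18969 L227288 q15340, e3 q18970 L227726 q19027, e3 q18971 (flp_f L227296) q15335, e3 q18972 (flp_f L247311) q21300, e3 q18973 (flp_f L227320) q18799, e3 q18974 (flp_f L227312) q15337, e3 q18975 (flp_f L227322) q15338, e3 q18976 (flp_f L249472) q21546, e3 q18977 (flp_f L238133) q20258, e3 q18978 (flp_f L244768) q20988, e3 q18979 L238021 q20241, e3 q18980 L238513 q20304, e3 q18981 L227377 q16917, e3 q18982 (flp_f L227393) q18464, e3 q18983 (flp_f L227395) q15347, e3 q18984 (flp_f L243643) q20854, e3 q18985 (flp_f L227451) q15349, e3 q18986 L227465 q18452, e3 q18987 L227472 q18276, e3 q18988 (flp_f L227480) q16517, e3 q18989 (flp_f L227493) q15979, e3 q18990 L249587 q21559, e3 q18991 (flp_f L227500) q15354, e3 q18992 (flp_f L227512) q15355, e3 q18993 L227520 q15377, e3 q18994 L227524 q15379, e3 q18995 L227532 q15361, e3 q18996 (flp_f L227542) q18184, e3 q18997 (flp_f L249357) q21534, e3 q18998 (flp_f L249347) q21533, e3 q18999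 L227560 q18185, e3 q19000 L227568 q17960, e3 q19001 L249657 q21567, e3 q19002 L249671 q21570, e3 q19003 (flp_f L227580) q15364, e3 q19004 (flp_f L227712) q19025, e3 q19005 (flp_f L227610) q17783, e3 q19006 L227612 q17686, e3 q19007 (flp_f L227598) q15365, trivial⟩ (by decide +kernel)

theorem ce_f_297 : ∀ r, r < 64 → sm gf (Qf (19008 + r)) = Qf (tab Gen.f (19008 + r)) :=
  edges_tab (sm gf) Qf (tab Gen.f) 19008 [(19008, 19710), (19009, 21572), (19010, 21576), (19011, 15368), (19012, 19080), (19013, 21579), (19014, 15369), (19015, 19022), (19016, 15516), (19017, 15985), (19018, 21583), (19019, 15374), (19020, 19621), (19021, 21560), (19022, 19015), (19023, 21561), (19024, 19055), (19025, 19004), (19026, 21562), (19027, 18970), (19028, 15384), (19029, 19033), (19030, 21596), (19031, 20704), (19032, 15383), (19033, 19029), (19034, 19726), (19035, 20503), (19036, 18553), (19037, 20969), (19038, 15408), (19039, 19176), (19040, 19451), (19041, 21602), (19042, 15393), (19043, 19051), (19044, 19645), (19045, 21605), (19046,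 15396), (19047, 21608), (19048, 15397), (19049, 21611), (19050, 15404), (19051, 19043), (19052, 15399), (19053, 15406), (19054, 19190), (19055, 19024), (19056, 21609), (19057, 19058), (19058, 19057), (19059, 15421), (19060, 19085), (19061, 15423), (19062, 21614), (19063, 15424), (19064, 20876), (19065, 21366), (19066, 19066), (19067, 21632), (19068, 15409), (19069, 21634), (19070, 15410), (19071, 19204)]
    ⟨e3 q19008 (flp_f L233423) q19710, e3 q19009 (flp_f L249691) q21572, e3 q19010 L249719 q21576, e3 q19011 (flp_f L227632) q15368, e3 q19012 L228068 q19080, e3 q19013 L249733 q21579, e3 q19014 (flp_f L227644) q15369, e3 q19015 (flp_f L227702) q19022, e3 q19016 L227662 q15516, e3 q19017 L227670 q15985, e3 q19018 L249765 q21583, e3 q19019 (flp_f L227682) q15374, e3 q19020 (flp_f L232715) q19621, e3 q19021 (flp_f L249603) q21560, e3 q19022 L227702 q19015, e3 q19023 (flp_f L249609) q21561, e3 q19024 (flp_f L227903) q19055, e3 q19025 L227712 q19004, e3 q19026 (flp_f L249619) q21562, e3 q19027 (flp_f L227726) q18970,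 e3 q19028 L227732 q15384, e3 q19029 L227776 q19033, e3 q19030 L249865 q21596, e3 q19031 L242144 q20704, e3 q19032 (flp_f L227760) q15383, e3 q19033 (flp_f L227776) q19029, e3 q19034 (flp_f L233587) q19726, e3 q19035 L240299 q20503, e3 q19036 (flp_f L227796) q18553, e3 q19037 L244637 q20969, e3 q19038 L227804 q15408, e3 q19039 (flp_f L228736) q19176, e3 q19040 L231190 q19451, e3 q19041 L249907 q21602, e3 q19042 (flp_f L227825) q15393, e3 q19043 L227885 q19051, e3 q19044 L232913 q19645, e3 q19045 L249929 q21605, e3 q19046 (flp_f L227855) q15396, e3 q19047 L249951 q21608, e3 q19048 (flp_f L227867) q15397, e3 q19049 L249973 q21611, e3 q19050 L227879 q15404, e3 q19051 (flp_f L227885) q19043, e3 q19052 (flp_f L227887) q15399, e3 q19053 L227897 q15406, e3 q19054 (flp_f L228836) q19190, e3 q19055 L227903 q19024, e3 q19056 (flp_f L249965) q21609, e3 q19057 (flp_f L227923) q19058, e3 q19058 L227923 q19057, e3 q19059 L227933 q15421, e3 q19060 (flp_f L228093) q19085, e3 q19061 (flp_f L227945) q15423, e3 q19062 (flp_f L249995)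 q21614, e3 q19063 (flp_f L227955) q15424, e3 q19064 L243869 q20876, e3 q19065 L247954 q21366, e3 q19066 L227986 q19066, e3 q19067 L250135 q21632, e3 q19068 (flp_f L227980) q15409, e3 q19069 L250153 q21634, e3 q19070 (flp_f L227996) q15410, e3 q19071 L230923 q19204, trivial⟩ (by decide +kernel)

theorem ce_f_298 : ∀ r, r < 64 → sm gf (Qf (19072 + r)) = Qf (tab Gen.f (19072 + r)) :=
  edges_tab (sm gf) Qf (tab Gen.f) 19072 [(19072, 15415), (19073, 21640), (19074, 15413), (19075, 21636), (19076, 15662), (19077, 21637), (19078, 21638), (19079, 19211), (19080, 19012), (19081, 19081), (19082, 19131), (19083, 21620), (19084, 21621), (19085, 19060), (19086, 21651), (19087, 21624), (19088, 21627), (19089, 20124), (19090, 21281), (19091, 21282), (19092, 15440), (19093, 15441), (19094, 15442), (19095, 18957), (19096, 20238), (19097, 20863), (19098, 15438), (19099, 18228), (19100, 18229), (19101, 21010), (19102, 21401), (19103, 21622), (19104, 20243), (19105, 18231), (19106, 19107), (19107, 19106), (19108, 16919), (19109, 18232),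 (19110, 20738), (19111, 21678), (19112, 21154), (19113, 18027), (19114, 17755), (19115, 18642), (19116, 21015), (19117, 15444), (19118, 15451), (19119, 16970), (19120, 16726), (19121, 21680), (19122, 18840), (19123, 19123), (19124, 20849), (19125, 19125), (19126, 18210), (19127, 21683), (19128, 19128), (19129, 19129), (19130, 15758), (19131, 19082), (19132, 19149), (19133, 19140), (19134, 20992), (19135, 15463)]
    ⟨e3 q19072 L228008 q15415, e3 q19073 L250198 q21640, e3 q19074 (flp_f L228026) q15413, e3 q19075 (flp_f L250173) q21636, e3 q19076 (flp_f L228042) q15662, e3 q19077 (flp_f L250181) q21637, e3 q19078 (flp_f L250187) q21638, e3 q19079 L230818 q19211, e3 q19080 (flp_f L228068) q19012, e3 q19081 L228074 q19081, e3 q19082 L228427 q19131, e3 q19083 (flp_f L250047) q21620, e3 q19084 L250059 q21621, e3 q19085 L228093 q19060, e3 q19086 L250292 q21651, e3 q19087 L250077 q21624, e3 q19088 L250099 q21627, e3 q19089 L237017 q20124, e3 q19090 (flp_f L247170) q21281, e3 q19091 (flp_f L247176) q21282, e3 q19092 L228136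 q15440, e3 q19093 L228142 q15441, e3 q19094 L228146 q15442, e3 q19095 (flp_f L228154) q18957, e3 q19096 (flp_f L238001) q20238, e3 q19097 L243733 q20863, e3 q19098 L228172 q15438, e3 q19099 L228180 q18228, e3 q19100 L228190 q18229, e3 q19101 (flp_f L244915) q21010, e3 q19102 (flp_f L248249) q21401, e3 q19103 (flp_f L250063) q21622, e3 q19104 L238035 q20243, e3 q19105 (flp_f L228220) q18231, e3 q19106 (flp_f L250466) q19107, e3 q19107 L250466 q19106, e3 q19108 (flp_f L228232) q16919, e3 q19109 L228240 q18232, e3 q19110 L242480 q20738, e3 q19111 L250566 q21678, e3 q19112 (flp_f L246090) q21154, e3 q19113 (flp_f L228258) q18027, e3 q19114 (flp_f L228272) q17755, e3 q19115 L228278 q18642, e3 q19116 L244963 q21015, e3 q19117 (flp_f L228284) q15444, e3 q19118 L228298 q15451, e3 q19119 L228307 q16970, e3 q19120 L228317 q16726, e3 q19121 (flp_f L250593) q21680, e3 q19122 L228343 q18840, e3 q19123 L228351 q19123, e3 q19124 (flp_f L243597) q20849, e3 q19125 L228370 q19125, e3 q19126 L228377 q18210, e3 q19127 L250623 q21683,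 e3 q19128 L228395 q19128, e3 q19129 L228406 q19129, e3 q19130 (flp_f L228415) q15758, e3 q19131 (flp_f L228427) q19082, e3 q19132 (flp_f L228555) q19149, e3 q19133 (flp_f L228491) q19140, e3 q19134 (flp_f L244800) q20992, e3 q19135 (flp_f L228449) q15463, trivial⟩ (by decide +kernel)

theorem ce_f_299 : ∀ r, r < 64 → sm gf (Qf (19136 + r)) = Qf (tab Gen.f (19136 + r)) :=
  edges_tab (sm gf) Qf (tab Gen.f) 19136 [(19136, 21689), (19137, 21690), (19138, 15465), (19139, 20735), (19140, 19133), (19141, 21696), (19142, 15468), (19143, 15483), (19144, 20767), (19145, 20734), (19146, 15469), (19147, 17752), (19148, 21679), (19149, 19132), (19150, 15482), (19151, 19348), (19152, 21703), (19153, 15473), (19154, 15481), (19155, 15477), (19156, 15982), (19157, 19212), (19158, 21704), (19159, 21701), (19160, 19214), (19161, 21649), (19162, 21693), (19163, 21697), (19164, 20732), (19165, 18338), (19166, 15485), (19167, 21698), (19168, 17751), (19169, 18759), (19170, 15488), (19171, 21345), (19172, 15490), (19173, 15491), (19174,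 21068), (19175, 18626), (19176, 19039), (19177, 15750), (19178, 21719), (19179, 15497), (19180, 19187), (19181, 15743), (19182, 21722), (19183, 15500), (19184, 19443), (19185, 15501), (19186, 21727), (19187, 19180), (19188, 19218), (19189, 15503), (19190, 19054), (19191, 19221), (19192, 19220), (19193, 21734), (19194, 21735), (19195, 15524), (19196, 15508), (19197, 21737), (19198, 15509), (19199, 21739)]
    ⟨e3 q19136 L250679 q21689, e3 q19137 L250687 q21690, e3 q19138 (flp_f L228471) q15465, e3 q19139 L242450 q20735, e3 q19140 L228491 q19133, e3 q19141 L250731 q21696, e3 q19142 (flp_f L228497) q15468, e3 q19143 L228513 q15483, e3 q19144 L242771 q20767, e3 q19145 (flp_f L242438) q20734, e3 q19146 (flp_f L228529) q15469, e3 q19147 (flp_f L228543) q17752, e3 q19148 (flp_f L250584) q21679, e3 q19149 L228555 q19132, e3 q19150 (flp_f L228563) q15482, e3 q19151 L230954 q19348, e3 q19152 L250787 q21703, e3 q19153 (flp_f L228573) q15473, e3 q19154 L228585 q15481, e3 q19155 (flp_f L228587) q15477, e3 q19156 (flp_f L228601)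 q15982, e3 q19157 L229011 q19212, e3 q19158 (flp_f L250803) q21704, e3 q19159 L250781 q21701, e3 q19160 (flp_f L229025) q19214, e3 q19161 (flp_f L250282) q21649, e3 q19162 L250721 q21693, e3 q19163 (flp_f L250743) q21697, e3 q19164 (flp_f L242408) q20732, e3 q19165 L228651 q18338, e3 q19166 (flp_f L228657) q15485, e3 q19167 (flp_f L250751) q21698, e3 q19168 L228675 q17751, e3 q19169 L228689 q18759, e3 q19170 (flp_f L228693) q15488, e3 q19171 (flp_f L247767) q21345, e3 q19172 (flp_f L228707) q15490, e3 q19173 (flp_f L228713) q15491, e3 q19174 (flp_f L245421) q21068, e3 q19175 L228727 q18626, e3 q19176 L228736 q19039, e3 q19177 L228746 q15750, e3 q19178 L250929 q21719, e3 q19179 (flp_f L228754) q15497, e3 q19180 L228816 q19187, e3 q19181 (flp_f L228782) q15743, e3 q19182 L250959 q21722, e3 q19183 (flp_f L228788) q15500, e3 q19184 (flp_f L231120) q19443, e3 q19185 (flp_f L228800) q15501, e3 q19186 L251003 q21727, e3 q19187 (flp_f L228816) q19180, e3 q19188 (flp_f L229056) q19218, e3 q19189 (flp_f L228824) q15503, e3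 q19190 L228836 q19054, e3 q19191 (flp_f L229082) q19221, e3 q19192 (flp_f L229074) q19220, e3 q19193 L251069 q21734, e3 q19194 L251081 q21735, e3 q19195 (flp_f L228870) q15524, e3 q19196 (flp_f L228878) q15508, e3 q19197 L251095 q21737, e3 q19198 (flp_f L228894) q15509, e3 q19199 L251113 q21739, trivial⟩ (by decide +kernel)

theorem ce_f_300 : ∀ r, r < 64 → sm gf (Qf (19200 + r)) = Qf (tab Gen.f (19200 + r)) :=
  edges_tab (sm gf) Qf (tab Gen.f) 19200 [(19200, 15510), (19201, 18067), (19202, 18810), (19203, 19653), (19204, 19071), (19205, 21584), (19206, 15514), (19207, 21556), (19208, 21748), (19209, 21749), (19210, 15517), (19211, 19079), (19212, 19157), (19213, 15518), (19214, 19160), (19215, 19650), (19216, 15520), (19217, 21733), (19218, 19188), (19219, 15527), (19220, 19192), (19221, 19191), (19222, 21754), (19223, 16709), (19224, 21551), (19225, 19237), (19226, 15549), (19227, 15532), (19228, 15936), (19229, 15935), (19230, 20904), (19231, 15537), (19232, 20437), (19233, 21763), (19234, 15538), (19235, 15539),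 (19236, 15540), (19237, 19225), (19238, 19333), (19239, 15653), (19240, 20182), (19241, 19600), (19242, 20432), (19243, 15559), (19244, 19322), (19245, 18132), (19246, 18174), (19247, 18120), (19248, 18065), (19249, 18056), (19250, 21770), (19251, 15556), (19252, 15557), (19253, 16785), (19254, 15581), (19255, 19485), (19256, 19486), (19257, 15580), (19258, 17279), (19259, 15562), (19260, 17446), (19261, 19308), (19262, 17246), (19263, 21323)]
    ⟨e3 q19200 (flp_f L228906) q15510, e3 q19201 L228918 q18067, e3 q19202 L228930 q18810, e3 q19203 (flp_f L232985) q19653, e3 q19204 (flp_f L230923) q19071, e3 q19205 (flp_f L249781) q21584, e3 q19206 (flp_f L228955) q15514, e3 q19207 (flp_f L249573) q21556, e3 q19208 L251197 q21748, e3 q19209 L251207 q21749, e3 q19210 (flp_f L228993) q15517, e3 q19211 (flp_f L230818) q19079, e3 q19212 (flp_f L229011) q19157, e3 q19213 (flp_f L229013) q15518, e3 q19214 L229025 q19160, e3 q19215 L232961 q19650, e3 q19216 (flp_f L229036) q15520, e3 q19217 L251067 q21733, e3 q19218 L229056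 q19188, e3 q19219 L229064 q15527, e3 q19220 L229074 q19192, e3 q19221 L229082 q19191, e3 q19222 (flp_f L251261) q21754, e3 q19223 L229094 q16709, e3 q19224 (flp_f L249516) q21551, e3 q19225 L229212 q19237, e3 q19226 L229120 q15549, e3 q19227 (flp_f L229122) q15532, e3 q19228 L229136 q15936, e3 q19229 L229146 q15935, e3 q19230 L244153 q20904, e3 q19231 (flp_f L229156) q15537, e3 q19232 L239757 q20437, e3 q19233 L251349 q21763, e3 q19234 (flp_f L229178) q15538, e3 q19235 (flp_f L229186) q15539, e3 q19236 (flp_f L229198) q15540, e3 q19237 (flp_f L229212) q19225, e3 q19238 (flp_f L230100) q19333, e3 q19239 L229228 q15653, e3 q19240 (flp_f L237537) q20182, e3 q19241 L232536 q19600, e3 q19242 L239717 q20432, e3 q19243 L229264 q15559, e3 q19244 (flp_f L230016) q19322, e3 q19245 L229280 q18132, e3 q19246 L229286 q18174, e3 q19247 L229296 q18120, e3 q19248 (flp_f L229306) q18065, e3 q19249 L229322 q18056, e3 q19250 L251417 q21770, e3 q19251 (flp_f L229332) q15556, e3 q19252 (flp_f L229342) q15557, e3 q19253 L229356 q16785,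 e3 q19254 L229362 q15581, e3 q19255 L231486 q19485, e3 q19256 L231498 q19486, e3 q19257 L229388 q15580, e3 q19258 (flp_f L229400) q17279, e3 q19259 (flp_f L229402) q15562, e3 q19260 L229424 q17446, e3 q19261 L229878 q19308, e3 q19262 L229446 q17246, e3 q19263 (flp_f L247529) q21323, trivial⟩ (by decide +kernel)

theorem ce_f_301 : ∀ r, r < 64 → sm gf (Qf (19264 + r)) = Qf (tab Gen.f (19264 + r)) :=
  edges_tab (sm gf) Qf (tab Gen.f) 19264 [(19264, 19316), (19265, 16083), (19266, 21324), (19267, 15690), (19268, 20009), (19269, 21316), (19270, 15577), (19271, 19488), (19272, 21774), (19273, 20200), (19274, 21782), (19275, 19380), (19276, 15582), (19277, 17579), (19278, 17981), (19279, 18692), (19280, 17995), (19281, 15584), (19282, 18634), (19283, 21351), (19284, 21787), (19285, 15589), (19286, 15590), (19287, 19324), (19288, 17592), (19289, 18006), (19290, 17980), (19291, 15593), (19292, 18632), (19293, 18791), (19294, 15594), (19295, 20721), (19296, 15595), (19297, 18631), (19298, 17668), (19299, 19775), (19300,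 16088), (19301, 20948), (19302, 17435), (19303, 15612), (19304, 15614), (19305, 17584), (19306, 15617), (19307, 19930), (19308, 19261), (19309, 15622), (19310, 15624), (19311, 21795), (19312, 21796), (19313, 21797), (19314, 15625), (19315, 16001), (19316, 19264), (19317, 20636), (19318, 15633), (19319, 21799), (19320, 17259), (19321, 15930), (19322, 19244), (19323, 21801), (19324, 19287), (19325, 15640), (19326, 19550), (19327, 17789)]
    ⟨e3 q19264 (flp_f L229960) q19316, e3 q19265 L229468 q16083, e3 q19266 (flp_f L247543) q21324, e3 q19267 L229490 q15690, e3 q19268 (flp_f L236043) q20009, e3 q19269 (flp_f L247469) q21316, e3 q19270 (flp_f L229502) q15577, e3 q19271 (flp_f L231514) q19488, e3 q19272 (flp_f L251467) q21774, e3 q19273 L237693 q20200, e3 q19274 L251554 q21782, e3 q19275 L230462 q19380, e3 q19276 (flp_f L229550) q15582, e3 q19277 L229564 q17579, e3 q19278 L229580 q17981, e3 q19279 (flp_f L229594) q18692, e3 q19280 (flp_f L229606) q17995, e3 q19281 (flp_f L229608) q15584, e3 q19282 L229620 q18634,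 e3 q19283 (flp_f L247827) q21351, e3 q19284 L251602 q21787, e3 q19285 (flp_f L229636) q15589, e3 q19286 (flp_f L229646) q15590, e3 q19287 L230026 q19324, e3 q19288 L229696 q17592, e3 q19289 (flp_f L229670) q18006, e3 q19290 (flp_f L229678) q17980, e3 q19291 (flp_f L229682) q15593, e3 q19292 (flp_f L229706) q18632, e3 q19293 (flp_f L229718) q18791, e3 q19294 (flp_f L229720) q15594, e3 q19295 L242296 q20721, e3 q19296 (flp_f L229734) q15595, e3 q19297 L229744 q18631, e3 q19298 L229754 q17668, e3 q19299 L233951 q19775, e3 q19300 (flp_f L229770) q16088, e3 q19301 (flp_f L244483) q20948, e3 q19302 L229808 q17435, e3 q19303 (flp_f L229812) q15612, e3 q19304 L229832 q15614, e3 q19305 L229844 q17584, e3 q19306 (flp_f L229848) q15617, e3 q19307 (flp_f L235296) q19930, e3 q19308 (flp_f L229878) q19261, e3 q19309 L229888 q15622, e3 q19310 L229896 q15624, e3 q19311 (flp_f L251694) q21795, e3 q19312 (flp_f L251702) q21796, e3 q19313 L251710 q21797, e3 q19314 (flp_f L229930) q15625, e3 q19315 L229948 q16001, e3 q19316 L229960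 q19264, e3 q19317 L241490 q20636, e3 q19318 L229976 q15633, e3 q19319 (flp_f L251742) q21799, e3 q19320 L229994 q17259, e3 q19321 L230008 q15930, e3 q19322 L230016 q19244, e3 q19323 L251768 q21801, e3 q19324 (flp_f L230026) q19287, e3 q19325 (flp_f L230028) q15640, e3 q19326 L232094 q19550, e3 q19327 (flp_f L230050) q17789, trivial⟩ (by decide +kernel)

theorem ce_f_302 : ∀ r, r < 64 → sm gf (Qf (19328 + r)) = Qf (tab Gen.f (19328 + r)) :=
  edges_tab (sm gf) Qf (tab Gen.f) 19328 [(19328, 15704), (19329, 21804), (19330, 20756), (19331, 15643), (19332, 15707), (19333, 19238), (19334, 17338), (19335, 19340), (19336, 15650), (19337, 21330), (19338, 15651), (19339, 18701), (19340, 19335), (19341, 21806), (19342, 21809), (19343, 15657), (19344, 19352), (19345, 15658), (19346, 21810), (19347, 21814), (19348, 19151), (19349, 15659), (19350, 19573), (19351, 15665), (19352, 19344), (19353, 15661), (19354, 21642), (19355, 21817), (19356, 15663), (19357, 15891), (19358, 21815), (19359, 21226), (19360, 19562), (19361, 18303),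 (19362, 18302), (19363, 21063), (19364, 17636), (19365, 18301), (19366, 18496), (19367, 21213), (19368, 21060), (19369, 15669), (19370, 15674), (19371, 17304), (19372, 20156), (19373, 15682), (19374, 20815), (19375, 17137), (19376, 21236), (19377, 15689), (19378, 20937), (19379, 18073), (19380, 19275), (19381, 15695), (19382, 21760), (19383, 21828), (19384, 15696), (19385, 19387), (19386, 15706), (19387, 19385), (19388, 21803), (19389, 17532), (19390, 15788), (19391, 15786)]
    ⟨e3 q19328 L230058 q15704, e3 q19329 L251802 q21804, e3 q19330 L242656 q20756, e3 q19331 (flp_f L230078) q15643, e3 q19332 L230093 q15707, e3 q19333 L230100 q19238, e3 q19334 L230116 q17338, e3 q19335 L230182 q19340, e3 q19336 (flp_f L230128) q15650, e3 q19337 (flp_f L247614) q21330, e3 q19338 (flp_f L230152) q15651, e3 q19339 L230170 q18701, e3 q19340 (flp_f L230182) q19335, e3 q19341 L251826 q21806, e3 q19342 L251842 q21809, e3 q19343 (flp_f L230194) q15657, e3 q19344 L230246 q19352, e3 q19345 (flp_f L230208) q15658, e3 q19346 (flp_f L251860)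 q21810, e3 q19347 L251890 q21814, e3 q19348 (flp_f L230954) q19151, e3 q19349 (flp_f L230226) q15659, e3 q19350 (flp_f L232288) q19573, e3 q19351 L230242 q15665, e3 q19352 (flp_f L230246) q19344, e3 q19353 (flp_f L230248) q15661, e3 q19354 L250224 q21642, e3 q19355 L251924 q21817, e3 q19356 (flp_f L230272) q15663, e3 q19357 (flp_f L230958) q15891, e3 q19358 (flp_f L251906) q21815, e3 q19359 L246695 q21226, e3 q19360 (flp_f L232198) q19562, e3 q19361 L230298 q18303, e3 q19362 L230308 q18302, e3 q19363 (flp_f L245365) q21063, e3 q19364 L230322 q17636, e3 q19365 L230330 q18301, e3 q19366 L230340 q18496, e3 q19367 (flp_f L246569) q21213, e3 q19368 (flp_f L245337) q21060, e3 q19369 (flp_f L230348) q15669, e3 q19370 (flp_f L230358) q15674, e3 q19371 (flp_f L230380) q17304, e3 q19372 (flp_f L237315) q20156, e3 q19373 (flp_f L230393) q15682, e3 q19374 (flp_f L243245) q20815, e3 q19375 L230418 q17137, e3 q19376 (flp_f L246767) q21236, e3 q19377 L230438 q15689, e3 q19378 L244403 q20937, e3 q19379 L230448 q18073, e3 q19380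 (flp_f L230462) q19275, e3 q19381 L230470 q15695, e3 q19382 (flp_f L251321) q21760, e3 q19383 L252032 q21828, e3 q19384 (flp_f L230494) q15696, e3 q19385 L230536 q19387, e3 q19386 L230524 q15706, e3 q19387 (flp_f L230536) q19385, e3 q19388 (flp_f L251797) q21803, e3 q19389 L230554 q17532, e3 q19390 (flp_f L230564) q15788, e3 q19391 (flp_f L230574) q15786, trivial⟩ (by decide +kernel)

theorem ce_f_303 : ∀ r, r < 64 → sm gf (Qf (19392 + r)) = Qf (tab Gen.f (19392 + r)) :=
  edges_tab (sm gf) Qf (tab Gen.f) 19392 [(19392, 19469), (19393, 15739), (19394, 15740), (19395, 15858), (19396, 19697), (19397, 15714), (19398, 19410), (19399, 21099), (19400, 21832), (19401, 21833), (19402, 15718), (19403, 19606), (19404, 21835), (19405, 15719), (19406, 21838), (19407, 21834), (19408, 21405), (19409, 15721), (19410, 19398), (19411, 15723), (19412, 15735), (19413, 16826), (19414, 19414), (19415, 21843), (19416, 15728), (19417, 21844), (19418, 15729), (19419, 15734), (19420, 15732), (19421, 17825), (19422, 21846), (19423, 15736),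 (19424, 15831), (19425, 21830), (19426, 20003), (19427, 21848), (19428, 19630), (19429, 15741), (19430, 21721), (19431, 15742), (19432, 19441), (19433, 19445), (19434, 20758), (19435, 21852), (19436, 15746), (19437, 21850), (19438, 21718), (19439, 15747), (19440, 21855), (19441, 19432), (19442, 15749), (19443, 19184), (19444, 15761), (19445, 19433), (19446, 15752), (19447, 19569), (19448, 21858), (19449, 15756), (19450, 21685), (19451, 19040), (19452, 15759), (19453, 21717), (19454, 19607), (19455, 21860)]
    ⟨e3 q19392 (flp_f L231328) q19469, e3 q19393 L230588 q15739, e3 q19394 L230598 q15740, e3 q19395 L230612 q15858, e3 q19396 L233321 q19697, e3 q19397 (flp_f L230624) q15714, e3 q19398 L230708 q19410, e3 q19399 (flp_f L245653) q21099, e3 q19400 L252082 q21832, e3 q19401 L252090 q21833, e3 q19402 (flp_f L230660) q15718, e3 q19403 (flp_f L232586) q19606, e3 q19404 L252104 q21835, e3 q19405 (flp_f L230676) q15719, e3 q19406 L252130 q21838, e3 q19407 (flp_f L252100) q21834, e3 q19408 (flp_f L248288) q21405, e3 q19409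 (flp_f L230692) q15721, e3 q19410 (flp_f L230708) q19398, e3 q19411 (flp_f L230712) q15723, e3 q19412 L230728 q15735, e3 q19413 (flp_f L230738) q16826, e3 q19414 L230744 q19414, e3 q19415 L252174 q21843, e3 q19416 (flp_f L230749) q15728, e3 q19417 L252185 q21844, e3 q19418 (flp_f L230770) q15729, e3 q19419 L230778 q15734, e3 q19420 (flp_f L230794) q15732, e3 q19421 L230814 q17825, e3 q19422 L252207 q21846, e3 q19423 (flp_f L230976) q15736, e3 q19424 L230994 q15831, e3 q19425 (flp_f L252064) q21830, e3 q19426 L235991 q20003, e3 q19427 L252227 q21848, e3 q19428 L232813 q19630, e3 q19429 (flp_f L231032) q15741, e3 q19430 L250957 q21721, e3 q19431 (flp_f L231040) q15742, e3 q19432 L231102 q19441, e3 q19433 L231138 q19445, e3 q19434 L242679 q20758, e3 q19435 L252263 q21852, e3 q19436 (flp_f L231076) q15746, e3 q19437 (flp_f L252251) q21850, e3 q19438 (flp_f L250925) q21718, e3 q19439 (flp_f L231090) q15747, e3 q19440 L252285 q21855, e3 q19441 (flp_f L231102) q19432, e3 q19442 (flp_f L231106) q15749, e3 q19443 L231120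 q19184, e3 q19444 L231128 q15761, e3 q19445 (flp_f L231138) q19433, e3 q19446 (flp_f L231142) q15752, e3 q19447 L232258 q19569, e3 q19448 L252317 q21858, e3 q19449 (flp_f L231168) q15756, e3 q19450 L250647 q21685, e3 q19451 (flp_f L231190) q19040, e3 q19452 (flp_f L231192) q15759, e3 q19453 (flp_f L250913) q21717, e3 q19454 L232594 q19607, e3 q19455 L252337 q21860, trivial⟩ (by decide +kernel)

theorem ce_f_304 : ∀ r, r < 64 → sm gf (Qf (19456 + r)) = Qf (tab Gen.f (19456 + r)) :=
  edges_tab (sm gf) Qf (tab Gen.f) 19456 [(19456, 19612), (19457, 15765), (19458, 21862), (19459, 15766), (19460, 21863), (19461, 15767), (19462, 18407), (19463, 15769), (19464, 18410), (19465, 15780), (19466, 15781), (19467, 20490), (19468, 21865), (19469, 19392), (19470, 19477), (19471, 15782), (19472, 21325), (19473, 15783), (19474, 16119), (19475, 17274), (19476, 19791), (19477, 19470), (19478, 21829), (19479, 16840), (19480, 17463), (19481, 15829), (19482, 15830), (19483, 15832), (19484, 15833), (19485, 19255), (19486, 19256), (19487,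 20203), (19488, 19271), (19489, 20222), (19490, 19490), (19491, 19491), (19492, 15820), (19493, 15812), (19494, 15850), (19495, 15815), (19496, 15817), (19497, 15822), (19498, 15824), (19499, 15825), (19500, 16783), (19501, 21383), (19502, 21382), (19503, 20525), (19504, 16833), (19505, 17203), (19506, 16838), (19507, 21874), (19508, 16009), (19509, 18707), (19510, 18013), (19511, 18778), (19512, 18044), (19513, 19667), (19514, 18612), (19515, 21883), (19516, 21869), (19517, 20845), (19518, 18618), (19519, 18012)]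
    ⟨e3 q19456 (flp_f L232636) q19612, e3 q19457 (flp_f L231220) q15765, e3 q19458 L252359 q21862, e3 q19459 (flp_f L231234) q15766, e3 q19460 L252369 q21863, e3 q19461 (flp_f L231248) q15767, e3 q19462 (flp_f L231258) q18407, e3 q19463 (flp_f L231260) q15769, e3 q19464 (flp_f L231280) q18410, e3 q19465 L231286 q15780, e3 q19466 L231296 q15781, e3 q19467 (flp_f L240185) q20490, e3 q19468 L252387 q21865, e3 q19469 L231328 q19392, e3 q19470 (flp_f L231400) q19477, e3 q19471 (flp_f L231340) q15782, e3 q19472 (flp_f L247555) q21325, e3 q19473 (flp_f L231362) q15783, e3 q19474 L231378 q16119, e3 q19475 L231384 q17274, e3 q19476 L234079 q19791, e3 q19477 L231400 q19470, e3 q19478 L252054 q21829, e3 q19479 L231420 q16840, e3 q19480 L231432 q17463, e3 q19481 L231440 q15829, e3 q19482 L231452 q15830, e3 q19483 L231464 q15832, e3 q19484 L231476 q15833, e3 q19485 (flp_f L231486) q19255, e3 q19486 (flp_f L231498) q19256, e3 q19487 (flp_f L237723) q20203, e3 q19488 L231514 q19271, e3 q19489 L237907 q20222, e3 q19490 L231534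 q19490, e3 q19491 L231543 q19491, e3 q19492 (flp_f L231558) q15820, e3 q19493 L231570 q15812, e3 q19494 L231582 q15850, e3 q19495 L231592 q15815, e3 q19496 L231598 q15817, e3 q19497 L231606 q15822, e3 q19498 L231614 q15824, e3 q19499 L231628 q15825, e3 q19500 L231638 q16783, e3 q19501 (flp_f L248095) q21383, e3 q19502 (flp_f L248083) q21382, e3 q19503 (flp_f L240509) q20525, e3 q19504 L231658 q16833, e3 q19505 L231672 q17203, e3 q19506 L231680 q16838, e3 q19507 (flp_f L252490) q21874, e3 q19508 L231694 q16009, e3 q19509 (flp_f L231704) q18707, e3 q19510 L231710 q18013, e3 q19511 L231724 q18778, e3 q19512 L231738 q18044, e3 q19513 (flp_f L233107) q19667, e3 q19514 L231758 q18612, e3 q19515 L252578 q21883, e3 q19516 (flp_f L252431) q21869, e3 q19517 L243559 q20845, e3 q19518 L231782 q18618, e3 q19519 L231794 q18012, trivial⟩ (by decide +kernel)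

theorem ce_f_305 : ∀ r, r < 64 → sm gf (Qf (19520 + r)) = Qf (tab Gen.f (19520 + r)) :=
  edges_tab (sm gf) Qf (tab Gen.f) 19520 [(19520, 18000), (19521, 18748), (19522, 20868), (19523, 21870), (19524, 20936), (19525, 18022), (19526, 16021), (19527, 21888), (19528, 15836), (19529, 18794), (19530, 16750), (19531, 17456), (19532, 16319), (19533, 21259), (19534, 15851), (19535, 18588), (19536, 15853), (19537, 19541), (19538, 19695), (19539, 16029), (19540, 17232), (19541, 19537), (19542, 16079), (19543, 16070), (19544, 16830), (19545, 16961), (19546, 19692), (19547, 20541), (19548, 20747), (19549, 20544), (19550, 19326), (19551, 15874), (19552, 21800), (19553, 15881), (19554, 15876), (19555, 19555), (19556, 17799), (19557, 17331), (19558, 21894), (19559, 15882), (19560, 15885), (19561, 21898), (19562, 19360), (19563, 15887), (19564, 21818), (19565, 21901), (19566, 15888), (19567, 21588), (19568, 15889), (19569, 19447), (19570, 15981), (19571, 15984), (19572, 19622), (19573, 19350), (19574, 21107), (19575, 15895),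 (19576, 21905), (19577, 21025), (19578, 15896), (19579, 19843), (19580, 21907), (19581, 15897), (19582, 21247), (19583, 15898)]
    ⟨e3 q19520 (flp_f L231808) q18000, e3 q19521 L231818 q18748, e3 q19522 (flp_f L243771) q20868, e3 q19523 (flp_f L252443) q21870, e3 q19524 (flp_f L244389) q20936, e3 q19525 (flp_f L231848) q18022, e3 q19526 L231858 q16021, e3 q19527 L252632 q21888, e3 q19528 (flp_f L231864) q15836, e3 q19529 L231884 q18794, e3 q19530 L231896 q16750, e3 q19531 (flp_f L231912) q17456, e3 q19532 L231922 q16319, e3 q19533 L246987 q21259, e3 q19534 (flp_f L231938) q15851, e3 q19535 L231956 q18588, e3 q19536 (flp_f L231958) q15853, e3 q19537 L232016 q19541, e3 q19538 (flp_f L233301) q19695, e3 q19539 L231994 q16029, e3 q19540 L232002 q17232, e3 q19541 (flp_f L232016) q19537, e3 q19542 L232026 q16079, e3 q19543 L232038 q16070, e3 q19544 L232048 q16830, e3 q19545 L232054 q16961, e3 q19546 L233275 q19692, e3 q19547 L240621 q20541, e3 q19548 (flp_f L242568) q20747, e3 q19549 (flp_f L240642) q20544, e3 q19550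 (flp_f L232094) q19326, e3 q19551 (flp_f L232096) q15874, e3 q19552 (flp_f L251758) q21800, e3 q19553 L232120 q15881, e3 q19554 (flp_f L232125) q15876, e3 q19555 L232139 q19555, e3 q19556 L232144 q17799, e3 q19557 (flp_f L232158) q17331, e3 q19558 (flp_f L252713) q21894, e3 q19559 (flp_f L232170) q15882, e3 q19560 (flp_f L232180) q15885, e3 q19561 L252740 q21898, e3 q19562 L232198 q19360, e3 q19563 (flp_f L232200) q15887, e3 q19564 (flp_f L251942) q21818, e3 q19565 L252770 q21901, e3 q19566 (flp_f L232224) q15888, e3 q19567 (flp_f L249801) q21588, e3 q19568 (flp_f L232238) q15889, e3 q19569 (flp_f L232258) q19447, e3 q19570 L232266 q15981, e3 q19571 L232274 q15984, e3 q19572 L232731 q19622, e3 q19573 L232288 q19350, e3 q19574 (flp_f L245733) q21107, e3 q19575 (flp_f L232296) q15895, e3 q19576 L252804 q21905, e3 q19577 L245055 q21025, e3 q19578 (flp_f L232324) q15896, e3 q19579 (flp_f L234517) q19843, e3 q19580 L252828 q21907, e3 q19581 (flp_f L232348) q15897, e3 q19582 (flp_f L246869) q21247, e3 q19583 (flp_f L232358)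 q15898, trivial⟩ (by decide +kernel)

theorem ce_f_306 : ∀ r, r < 64 → sm gf (Qf (19584 + r)) = Qf (tab Gen.f (19584 + r)) :=
  edges_tab (sm gf) Qf (tab Gen.f) 19584 [(19584, 18520), (19585, 17606), (19586, 15909), (19587, 18182), (19588, 18183), (19589, 15913), (19590, 17229), (19591, 20671), (19592, 20666), (19593, 20672), (19594, 20839), (19595, 15920), (19596, 16433), (19597, 20640), (19598, 15926), (19599, 15934), (19600, 19241), (19601, 17187), (19602, 15938), (19603, 15940), (19604, 19615), (19605, 20487), (19606, 19403), (19607, 19454), (19608, 15944), (19609, 21913), (19610, 15945), (19611, 21457), (19612, 19456), (19613, 17377), (19614, 21381), (19615, 19604), (19616, 15949), (19617, 21920), (19618, 15951), (19619, 15986), (19620, 15989), (19621, 19020), (19622, 19572), (19623, 15959), (19624, 15960), (19625, 16790), (19626, 20942), (19627, 16382), (19628, 16410), (19629, 16408), (19630, 19428), (19631, 21924), (19632, 15967), (19633, 19642), (19634, 15968), (19635, 17775), (19636, 21927), (19637, 15971),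 (19638, 20763), (19639, 21929), (19640, 15972), (19641, 21745), (19642, 19633), (19643, 15974), (19644, 15975), (19645, 19044), (19646, 21298), (19647, 15977)]
    ⟨e3 q19584 (flp_f L232368) q18520, e3 q19585 (flp_f L232382) q17606, e3 q19586 (flp_f L232384) q15909, e3 q19587 L232404 q18182, e3 q19588 L232414 q18183, e3 q19589 (flp_f L232418) q15913, e3 q19590 L232432 q17229, e3 q19591 (flp_f L241808) q20671, e3 q19592 (flp_f L241750) q20666, e3 q19593 (flp_f L241820) q20672, e3 q19594 (flp_f L243513) q20839, e3 q19595 (flp_f L232470) q15920, e3 q19596 L232486 q16433, e3 q19597 L241524 q20640, e3 q19598 (flp_f L232500) q15926, e3 q19599 L232521 q15934, e3 q19600 (flp_f L232536) q19241, e3 q19601 L232540 q17187, e3 q19602 (flp_f L232546) q15938, e3 q19603 (flp_f L232554) q15940, e3 q19604 L232656 q19615, e3 q19605 (flp_f L240157) q20487, e3 q19606 L232586 q19403, e3 q19607 (flp_f L232594) q19454, e3 q19608 (flp_f L232596) q15944, e3 q19609 L252894 q21913, e3 q19610 (flp_f L232616) q15945, e3 q19611 (flp_f L248720)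 q21457, e3 q19612 L232636 q19456, e3 q19613 (flp_f L232646) q17377, e3 q19614 (flp_f L248077) q21381, e3 q19615 (flp_f L232656) q19604, e3 q19616 (flp_f L232660) q15949, e3 q19617 L252964 q21920, e3 q19618 (flp_f L232680) q15951, e3 q19619 L232692 q15986, e3 q19620 L232705 q15989, e3 q19621 L232715 q19020, e3 q19622 (flp_f L232731) q19572, e3 q19623 (flp_f L232733) q15959, e3 q19624 (flp_f L232747) q15960, e3 q19625 (flp_f L232763) q16790, e3 q19626 (flp_f L244445) q20942, e3 q19627 L232777 q16382, e3 q19628 L232789 q16410, e3 q19629 L232801 q16408, e3 q19630 (flp_f L232813) q19428, e3 q19631 L253008 q21924, e3 q19632 (flp_f L232819) q15967, e3 q19633 L232885 q19642, e3 q19634 (flp_f L232833) q15968, e3 q19635 L232847 q17775, e3 q19636 L253042 q21927, e3 q19637 (flp_f L232859) q15971, e3 q19638 (flp_f L242725) q20763, e3 q19639 L253058 q21929, e3 q19640 (flp_f L232873) q15972, e3 q19641 (flp_f L251177) q21745, e3 q19642 (flp_f L232885) q19633, e3 q19643 (flp_f L232887) q15974, e3 q19644 (flp_f L232897) q15975, e3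 q19645 (flp_f L232913) q19044, e3 q19646 (flp_f L247292) q21298, e3 q19647 (flp_f L232925) q15977, trivial⟩ (by decide +kernel)

theorem ce_f_307 : ∀ r, r < 64 → sm gf (Qf (19648 + r)) = Qf (tab Gen.f (19648 + r)) :=
  edges_tab (sm gf) Qf (tab Gen.f) 19648 [(19648, 21903), (19649, 21581), (19650, 19215), (19651, 21724), (19652, 21557), (19653, 19203), (19654, 20584), (19655, 17114), (19656, 21182), (19657, 20392), (19658, 21192), (19659, 18467), (19660, 21193), (19661, 21938), (19662, 15993), (19663, 18469), (19664, 15996), (19665, 16000), (19666, 16002), (19667, 19513), (19668, 21879), (19669, 17778), (19670, 21940), (19671, 20730), (19672, 16011), (19673, 19682), (19674, 21944), (19675, 17003), (19676, 21945), (19677, 16015), (19678, 21946), (19679, 21265), (19680, 16017), (19681, 21886), (19682, 19673), (19683, 16019), (19684, 21699), (19685, 16024), (19686, 19689), (19687, 16025), (19688, 21952), (19689, 19686), (19690, 16027), (19691, 21954), (19692, 19546), (19693, 16028), (19694, 20454), (19695, 19538),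 (19696, 16042), (19697, 19396), (19698, 16031), (19699, 21956), (19700, 17013), (19701, 21959), (19702, 16035), (19703, 21253), (19704, 18624), (19705, 16036), (19706, 19723), (19707, 21337), (19708, 16037), (19709, 19727), (19710, 19008), (19711, 21965)]
    ⟨e3 q19648 (flp_f L252794) q21903, e3 q19649 L249753 q21581, e3 q19650 (flp_f L232961) q19215, e3 q19651 L250983 q21724, e3 q19652 L249581 q21557, e3 q19653 L232985 q19203, e3 q19654 L241016 q20584, e3 q19655 L233003 q17114, e3 q19656 (flp_f L246322) q21182, e3 q19657 (flp_f L239327) q20392, e3 q19658 (flp_f L246395) q21192, e3 q19659 L233037 q18467, e3 q19660 (flp_f L246407) q21193, e3 q19661 L253160 q21938, e3 q19662 (flp_f L233053) q15993, e3 q19663 L233069 q18469, e3 q19664 (flp_f L233073) q15996, e3 q19665 (flp_f L233083) q16000, e3 q19666 (flp_f L233097) q16002, e3 q19667 L233107 q19513, e3 q19668 (flp_f L252546) q21879, e3 q19669 L233125 q17778, e3 q19670 L253182 q21940, e3 q19671 (flp_f L242386) q20730, e3 q19672 (flp_f L233141) q16011, e3 q19673 L233211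 q19682, e3 q19674 L253230 q21944, e3 q19675 (flp_f L233165) q17003, e3 q19676 L253240 q21945, e3 q19677 (flp_f L233173) q16015, e3 q19678 L253252 q21946, e3 q19679 L247051 q21265, e3 q19680 (flp_f L233191) q16017, e3 q19681 (flp_f L252620) q21886, e3 q19682 (flp_f L233211) q19673, e3 q19683 (flp_f L233213) q16019, e3 q19684 L250763 q21699, e3 q19685 (flp_f L233227) q16024, e3 q19686 L233249 q19689, e3 q19687 (flp_f L233235) q16025, e3 q19688 L253298 q21952, e3 q19689 (flp_f L233249) q19686, e3 q19690 (flp_f L233251) q16027, e3 q19691 L253308 q21954, e3 q19692 (flp_f L233275) q19546, e3 q19693 (flp_f L233277) q16028, e3 q19694 L239903 q20454, e3 q19695 L233301 q19538, e3 q19696 L233311 q16042, e3 q19697 (flp_f L233321) q19396, e3 q19698 (flp_f L233325) q16031, e3 q19699 L253332 q21956, e3 q19700 L233353 q17013, e3 q19701 L253369 q21959, e3 q19702 (flp_f L233359) q16035, e3 q19703 (flp_f L246927) q21253, e3 q19704 (flp_f L233373) q18624, e3 q19705 (flp_f L233375) q16036, e3 q19706 L233527 q19723, e3 q19707 (flp_f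 L247681) q21337, e3 q19708 (flp_f L233399) q16037, e3 q19709 L233563 q19727, e3 q19710 L233423 q19008, e3 q19711 L253423 q21965, trivial⟩ (by decide +kernel)

theorem ce_f_308 : ∀ r, r < 64 → sm gf (Qf (19712 + r)) = Qf (tab Gen.f (19712 + r)) :=
  edges_tab (sm gf) Qf (tab Gen.f) 19712 [(19712, 16501), (19713, 21955), (19714, 20899), (19715, 18330), (19716, 21662), (19717, 18623), (19718, 16045), (19719, 20108), (19720, 20848), (19721, 16046), (19722, 16933), (19723, 19706), (19724, 21031), (19725, 16048), (19726, 19034), (19727, 19709), (19728, 21594), (19729, 16051), (19730, 21971), (19731, 16054), (19732, 20816), (19733, 19969), (19734, 17647), (19735, 16058), (19736, 17648), (19737, 17649), (19738, 19830), (19739, 17651), (19740, 17653), (19741, 20689), (19742, 16065), (19743, 20333), (19744, 17070), (19745, 20327), (19746, 16067), (19747, 17041), (19748, 21891), (19749, 18107), (19750, 17040), (19751, 16071), (19752, 20335), (19753, 18372), (19754, 21055), (19755, 16074), (19756, 18375), (19757, 18376), (19758,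 20932), (19759, 17460), (19760, 20602), (19761, 21776), (19762, 16082), (19763, 17608), (19764, 21786), (19765, 21794), (19766, 16087), (19767, 19776), (19768, 20299), (19769, 20297), (19770, 21072), (19771, 16982), (19772, 16092), (19773, 21985), (19774, 16093), (19775, 19299)]
    ⟨e3 q19712 (flp_f L233443) q16501, e3 q19713 (flp_f L253328) q21955, e3 q19714 L244101 q20899, e3 q19715 L233463 q18330, e3 q19716 (flp_f L250414) q21662, e3 q19717 (flp_f L233483) q18623, e3 q19718 (flp_f L233485) q16045, e3 q19719 L236853 q20108, e3 q19720 L243587 q20848, e3 q19721 (flp_f L233509) q16046, e3 q19722 L233521 q16933, e3 q19723 (flp_f L233527) q19706, e3 q19724 (flp_f L245115) q21031, e3 q19725 (flp_f L233541) q16048, e3 q19726 L233587 q19034, e3 q19727 (flp_f L233563) q19709, e3 q19728 (flp_f L249853) q21594, e3 q19729 (flp_f L233573) q16051, e3 q19730 L253477 q21971, e3 q19731 (flp_f L233591) q16054, e3 q19732 L243265 q20816, e3 q19733 (flp_f L235665) q19969, e3 q19734 L233617 q17647, e3 q19735 (flp_f L233621) q16058,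 e3 q19736 L233633 q17648, e3 q19737 L233643 q17649, e3 q19738 (flp_f L234395) q19830, e3 q19739 L233659 q17651, e3 q19740 L233667 q17653, e3 q19741 L241976 q20689, e3 q19742 (flp_f L233677) q16065, e3 q19743 (flp_f L238779) q20333, e3 q19744 (flp_f L233697) q17070, e3 q19745 L238705 q20327, e3 q19746 (flp_f L233707) q16067, e3 q19747 (flp_f L233725) q17041, e3 q19748 (flp_f L252672) q21891, e3 q19749 (flp_f L233745) q18107, e3 q19750 (flp_f L233755) q17040, e3 q19751 (flp_f L233757) q16071, e3 q19752 (flp_f L238793) q20335, e3 q19753 L233785 q18372, e3 q19754 (flp_f L245293) q21055, e3 q19755 (flp_f L233799) q16074, e3 q19756 L233811 q18375, e3 q19757 L233821 q18376, e3 q19758 (flp_f L244353) q20932, e3 q19759 (flp_f L233841) q17460, e3 q19760 L241204 q20602, e3 q19761 (flp_f L251492) q21776, e3 q19762 (flp_f L233857) q16082, e3 q19763 L233873 q17608, e3 q19764 L251600 q21786, e3 q19765 L251686 q21794, e3 q19766 (flp_f L233889) q16087, e3 q19767 L233957 q19776, e3 q19768 L238469 q20299, e3 q19769 (flp_f L238455)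 q20297, e3 q19770 (flp_f L245457) q21072, e3 q19771 (flp_f L233929) q16982, e3 q19772 (flp_f L233931) q16092, e3 q19773 L253629 q21985, e3 q19774 (flp_f L233939) q16093, e3 q19775 (flp_f L233951) q19299, trivial⟩ (by decide +kernel)

theorem ce_f_309 : ∀ r, r < 64 → sm gf (Qf (19776 + r)) = Qf (tab Gen.f (19776 + r)) :=
  edges_tab (sm gf) Qf (tab Gen.f) 19776 [(19776, 19767), (19777, 16095), (19778, 21987), (19779, 16100), (19780, 19783), (19781, 16101), (19782, 21990), (19783, 19780), (19784, 16103), (19785, 21239), (19786, 21245), (19787, 16104), (19788, 20514), (19789, 16105), (19790, 18615), (19791, 19476), (19792, 16107), (19793, 21994), (19794, 21996), (19795, 21997), (19796, 16111), (19797, 21243), (19798, 22001), (19799, 16112), (19800, 19818), (19801, 21710), (19802, 16113), (19803, 19822), (19804, 21999), (19805, 17965), (19806, 18657), (19807, 18656), (19808, 21866), (19809, 17052), (19810, 21549), (19811, 20232), (19812, 16121), (19813, 21984), (19814, 21442), (19815, 16122), (19816, 20245), (19817,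 18323), (19818, 19800), (19819, 16124), (19820, 16125), (19821, 18318), (19822, 19803), (19823, 16127), (19824, 21078), (19825, 16702), (19826, 19998), (19827, 20505), (19828, 19847), (19829, 20724), (19830, 19738), (19831, 16134), (19832, 21090), (19833, 18894), (19834, 22011), (19835, 16137), (19836, 16141), (19837, 22012), (19838, 16146), (19839, 17297)]
    ⟨e3 q19776 (flp_f L233957) q19767, e3 q19777 (flp_f L233959) q16095, e3 q19778 L253645 q21987, e3 q19779 (flp_f L233975) q16100, e3 q19780 L233997 q19783, e3 q19781 (flp_f L233983) q16101, e3 q19782 L253663 q21990, e3 q19783 (flp_f L233997) q19780, e3 q19784 (flp_f L234005) q16103, e3 q19785 (flp_f L246791) q21239, e3 q19786 (flp_f L246847) q21245, e3 q19787 (flp_f L234031) q16104, e3 q19788 L240409 q20514, e3 q19789 (flp_f L234049) q16105, e3 q19790 (flp_f L234065) q18615, e3 q19791 (flp_f L234079) q19476, e3 q19792 (flp_f L234081) q16107, e3 q19793 L253699 q21994, e3 q19794 L253724 q21996, e3 q19795 L253736 q21997, e3 q19796 (flp_f L234113) q16111, e3 q19797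 (flp_f L246827) q21243, e3 q19798 L253766 q22001, e3 q19799 (flp_f L234129) q16112, e3 q19800 L234295 q19818, e3 q19801 L250849 q21710, e3 q19802 (flp_f L234153) q16113, e3 q19803 L234325 q19822, e3 q19804 (flp_f L253752) q21999, e3 q19805 (flp_f L234183) q17965, e3 q19806 L234193 q18657, e3 q19807 L234203 q18656, e3 q19808 (flp_f L252407) q21866, e3 q19809 L234217 q17052, e3 q19810 L249502 q21549, e3 q19811 L237967 q20232, e3 q19812 (flp_f L234239) q16121, e3 q19813 L253627 q21984, e3 q19814 (flp_f L248597) q21442, e3 q19815 (flp_f L234263) q16122, e3 q19816 (flp_f L238047) q20245, e3 q19817 L234281 q18323, e3 q19818 (flp_f L234295) q19800, e3 q19819 (flp_f L234299) q16124, e3 q19820 (flp_f L234307) q16125, e3 q19821 L234317 q18318, e3 q19822 (flp_f L234325) q19803, e3 q19823 (flp_f L234333) q16127, e3 q19824 L245511 q21078, e3 q19825 L234353 q16702, e3 q19826 L235950 q19998, e3 q19827 (flp_f L240321) q20505, e3 q19828 (flp_f L234555) q19847, e3 q19829 L242322 q20724, e3 q19830 L234395 q19738, e3 q19831 (flp_f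 L234397) q16134, e3 q19832 (flp_f L245589) q21090, e3 q19833 L234419 q18894, e3 q19834 L253862 q22011, e3 q19835 (flp_f L234431) q16137, e3 q19836 (flp_f L234441) q16141, e3 q19837 L253872 q22012, e3 q19838 L234461 q16146, e3 q19839 (flp_f L234471) q17297, trivial⟩ (by decide +kernel)

theorem ce_f_310 : ∀ r, r < 64 → sm gf (Qf (19840 + r)) = Qf (tab Gen.f (19840 + r)) :=
  edges_tab (sm gf) Qf (tab Gen.f) 19840 [(19840, 16143), (19841, 20336), (19842, 17708), (19843, 19579), (19844, 21877), (19845, 16147), (19846, 20187), (19847, 19828), (19848, 21175), (19849, 22014), (19850, 16150), (19851, 18139), (19852, 20075), (19853, 16152), (19854, 20787), (19855, 16154), (19856, 19857), (19857, 19856), (19858, 16157), (19859, 17386), (19860, 16158), (19861, 19869), (19862, 22018), (19863, 22024), (19864, 22025), (19865, 16161), (19866, 21369), (19867, 16162), (19868, 21921), (19869, 19861), (19870, 16164), (19871, 21494), (19872, 17097), (19873, 22030), (19874, 16169), (19875, 17098), (19876, 16171), (19877, 16172), (19878,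 16173), (19879, 19887), (19880, 22033), (19881, 21458), (19882, 22039), (19883, 16176), (19884, 21414), (19885, 16177), (19886, 22041), (19887, 19879), (19888, 16179), (19889, 22032), (19890, 16182), (19891, 16185), (19892, 16197), (19893, 16236), (19894, 16205), (19895, 16214), (19896, 16212), (19897, 17093), (19898, 17092), (19899, 16221), (19900, 19904), (19901, 17485), (19902, 16227), (19903, 16231)]
    ⟨e3 q19840 (flp_f L234473) q16143, e3 q19841 (flp_f L238803) q20336, e3 q19842 L234503 q17708, e3 q19843 L234517 q19579, e3 q19844 (flp_f L252526) q21877, e3 q19845 (flp_f L234529) q16147, e3 q19846 (flp_f L237573) q20187, e3 q19847 L234555 q19828, e3 q19848 L246252 q21175, e3 q19849 L253896 q22014, e3 q19850 (flp_f L234577) q16150, e3 q19851 L234591 q18139, e3 q19852 (flp_f L236543) q20075, e3 q19853 (flp_f L234603) q16152, e3 q19854 (flp_f L242941) q20787, e3 q19855 (flp_f L234627) q16154, e3 q19856 L234659 q19857, e3 q19857 (flp_f L234659) q19856, e3 q19858 (flp_f L234661) q16157, e3 q19859 (flp_f L234667)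 q17386, e3 q19860 (flp_f L234671) q16158, e3 q19861 L234735 q19869, e3 q19862 (flp_f L253944) q22018, e3 q19863 L253992 q22024, e3 q19864 L254002 q22025, e3 q19865 (flp_f L234699) q16161, e3 q19866 L247973 q21369, e3 q19867 (flp_f L234719) q16162, e3 q19868 (flp_f L252982) q21921, e3 q19869 (flp_f L234735) q19861, e3 q19870 (flp_f L234737) q16164, e3 q19871 (flp_f L249024) q21494, e3 q19872 (flp_f L234759) q17097, e3 q19873 L254056 q22030, e3 q19874 (flp_f L234773) q16169, e3 q19875 L234793 q17098, e3 q19876 (flp_f L234797) q16171, e3 q19877 (flp_f L234807) q16172, e3 q19878 (flp_f L234817) q16173, e3 q19879 L234881 q19887, e3 q19880 (flp_f L254098) q22033, e3 q19881 (flp_f L248728) q21458, e3 q19882 L254144 q22039, e3 q19883 (flp_f L234845) q16176, e3 q19884 L248351 q21414, e3 q19885 (flp_f L234865) q16177, e3 q19886 L254172 q22041, e3 q19887 (flp_f L234881) q19879, e3 q19888 (flp_f L234885) q16179, e3 q19889 (flp_f L254088) q22032, e3 q19890 (flp_f L234895) q16182, e3 q19891 (flp_f L234917) q16185, e3 q19892 (flp_f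 L234921) q16197, e3 q19893 (flp_f L234943) q16236, e3 q19894 (flp_f L234947) q16205, e3 q19895 L234967 q16214, e3 q19896 (flp_f L234973) q16212, e3 q19897 L234985 q17093, e3 q19898 L234997 q17092, e3 q19899 L235009 q16221, e3 q19900 L235051 q19904, e3 q19901 L235021 q17485, e3 q19902 L235031 q16227, e3 q19903 (flp_f L235039) q16231, trivial⟩ (by decide +kernel)

theorem ce_f_311 : ∀ r, r < 64 → sm gf (Qf (19904 + r)) = Qf (tab Gen.f (19904 + r)) :=
  edges_tab (sm gf) Qf (tab Gen.f) 19904 [(19904, 19900), (19905, 22045), (19906, 21240), (19907, 16446), (19908, 16530), (19909, 16244), (19910, 20019), (19911, 16549), (19912, 19918), (19913, 22047), (19914, 21251), (19915, 16251), (19916, 16252), (19917, 16257), (19918, 19912), (19919, 20598), (19920, 20201), (19921, 16267), (19922, 16268), (19923, 17191), (19924, 16271), (19925, 19925), (19926, 20605), (19927, 16462), (19928, 17693), (19929, 20643), (19930, 19307), (19931, 16305), (19932, 16461), (19933, 16350), (19934, 17339), (19935, 19978), (19936, 18703), (19937,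 20526), (19938, 16627), (19939, 22050), (19940, 16340), (19941, 22052), (19942, 16348), (19943, 16342), (19944, 16346), (19945, 22051), (19946, 20074), (19947, 17933), (19948, 16351), (19949, 17134), (19950, 21315), (19951, 16365), (19952, 20913), (19953, 17182), (19954, 22056), (19955, 16374), (19956, 19959), (19957, 16377), (19958, 22058), (19959, 19956), (19960, 16379), (19961, 20014), (19962, 21328), (19963, 18528), (19964, 22060), (19965, 16390), (19966, 19973), (19967, 16393)]
    ⟨e3 q19904 (flp_f L235051) q19900, e3 q19905 L254222 q22045, e3 q19906 (flp_f L246803) q21240, e3 q19907 (flp_f L235077) q16446, e3 q19908 L235087 q16530, e3 q19909 L235099 q16244, e3 q19910 L236135 q20019, e3 q19911 L235117 q16549, e3 q19912 (flp_f L235177) q19918, e3 q19913 L254240 q22047, e3 q19914 (flp_f L246911) q21251, e3 q19915 (flp_f L235145) q16251, e3 q19916 (flp_f L235153) q16252, e3 q19917 L235167 q16257, e3 q19918 L235177 q19912, e3 q19919 (flp_f L241150) q20598, e3 q19920 L237703 q20201, e3 q19921 (flp_f L235195) q16267,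 e3 q19922 (flp_f L235205) q16268, e3 q19923 (flp_f L235219) q17191, e3 q19924 (flp_f L235223) q16271, e3 q19925 L235241 q19925, e3 q19926 (flp_f L241232) q20605, e3 q19927 L235260 q16462, e3 q19928 L235270 q17693, e3 q19929 L241560 q20643, e3 q19930 L235296 q19307, e3 q19931 (flp_f L235298) q16305, e3 q19932 (flp_f L235320) q16461, e3 q19933 L235332 q16350, e3 q19934 L235342 q17339, e3 q19935 L235745 q19978, e3 q19936 (flp_f L235358) q18703, e3 q19937 (flp_f L240515) q20526, e3 q19938 L235378 q16627, e3 q19939 L254275 q22050, e3 q19940 (flp_f L235394) q16340, e3 q19941 L254294 q22052, e3 q19942 L235412 q16348, e3 q19943 (flp_f L235415) q16342, e3 q19944 (flp_f L235425) q16346, e3 q19945 (flp_f L254291) q22051, e3 q19946 (flp_f L236532) q20074, e3 q19947 L235455 q17933, e3 q19948 (flp_f L235457) q16351, e3 q19949 L235475 q17134, e3 q19950 (flp_f L247459) q21315, e3 q19951 (flp_f L235487) q16365, e3 q19952 L244235 q20913, e3 q19953 L235511 q17182, e3 q19954 L254338 q22056, e3 q19955 (flp_f L235525) q16374, e3 q19956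 L235565 q19959, e3 q19957 (flp_f L235545) q16377, e3 q19958 L254364 q22058, e3 q19959 (flp_f L235565) q19956, e3 q19960 (flp_f L235569) q16379, e3 q19961 (flp_f L236085) q20014, e3 q19962 (flp_f L247588) q21328, e3 q19963 L235613 q18528, e3 q19964 L254390 q22060, e3 q19965 (flp_f L235627) q16390, e3 q19966 L235701 q19973, e3 q19967 (flp_f L235647) q16393, trivial⟩ (by decide +kernel)

theorem ce_f_312 : ∀ r, r < 64 → sm gf (Qf (19968 + r)) = Qf (tab Gen.f (19968 + r)) :=
  edges_tab (sm gf) Qf (tab Gen.f) 19968 [(19968, 19975), (19969, 19733), (19970, 18698), (19971, 16398), (19972, 22062), (19973, 19966), (19974, 16400), (19975, 19968), (19976, 16404), (19977, 17316), (19978, 19935), (19979, 16413), (19980, 18548), (19981, 17912), (19982, 17268), (19983, 20096), (19984, 16424), (19985, 17391), (19986, 20042), (19987, 20754), (19988, 17763), (19989, 17611), (19990, 17612), (19991, 17935), (19992, 20007), (19993, 20416), (19994, 21765), (19995, 16474), (19996, 22065), (19997, 16479), (19998, 19826), (19999, 16481),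 (20000, 20059), (20001, 17245), (20002, 20063), (20003, 19426), (20004, 22069), (20005, 16488), (20006, 16490), (20007, 19992), (20008, 21966), (20009, 19268), (20010, 16509), (20011, 20012), (20012, 20011), (20013, 16513), (20014, 19961), (20015, 20451), (20016, 17117), (20017, 16526), (20018, 21490), (20019, 19910), (20020, 21491), (20021, 18918), (20022, 20592), (20023, 20537), (20024, 18899), (20025, 20388), (20026, 17159), (20027, 18721), (20028, 17106), (20029, 20389), (20030, 22046), (20031, 18577)]
    ⟨e3 q19968 L235721 q19975, e3 q19969 L235665 q19733, e3 q19970 (flp_f L235677) q18698, e3 q19971 (flp_f L235681) q16398, e3 q19972 (flp_f L254418) q22062, e3 q19973 (flp_f L235701) q19966, e3 q19974 (flp_f L235705) q16400, e3 q19975 (flp_f L235721) q19968, e3 q19976 (flp_f L235723) q16404, e3 q19977 L235737 q17316, e3 q19978 (flp_f L235745) q19935, e3 q19979 (flp_f L235757) q16413, e3 q19980 (flp_f L235769) q18548, e3 q19981 L235777 q17912, e3 q19982 L235787 q17268, e3 q19983 (flp_f L236737) q20096, e3 q19984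 (flp_f L235799) q16424, e3 q19985 (flp_f L235817) q17391, e3 q19986 (flp_f L236294) q20042, e3 q19987 L242630 q20754, e3 q19988 L235842 q17763, e3 q19989 L235852 q17611, e3 q19990 L235862 q17612, e3 q19991 (flp_f L235878) q17935, e3 q19992 L236029 q20007, e3 q19993 (flp_f L239561) q20416, e3 q19994 (flp_f L251365) q21765, e3 q19995 (flp_f L235910) q16474, e3 q19996 L254451 q22065, e3 q19997 (flp_f L235930) q16479, e3 q19998 (flp_f L235950) q19826, e3 q19999 (flp_f L235952) q16481, e3 q20000 (flp_f L236417) q20059, e3 q20001 (flp_f L235970) q17245, e3 q20002 (flp_f L236449) q20063, e3 q20003 (flp_f L235991) q19426, e3 q20004 L254500 q22069, e3 q20005 (flp_f L236002) q16488, e3 q20006 (flp_f L236009) q16490, e3 q20007 (flp_f L236029) q19992, e3 q20008 (flp_f L253437) q21966, e3 q20009 L236043 q19268, e3 q20010 (flp_f L236049) q16509, e3 q20011 L236069 q20012, e3 q20012 (flp_f L236069) q20011, e3 q20013 (flp_f L236071) q16513, e3 q20014 L236085 q19961, e3 q20015 (flp_f L239875) q20451, e3 q20016 L236103 q17117, e3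 q20017 (flp_f L236109) q16526, e3 q20018 (flp_f L248984) q21490, e3 q20019 (flp_f L236135) q19910, e3 q20020 (flp_f L248994) q21491, e3 q20021 (flp_f L236151) q18918, e3 q20022 L241086 q20592, e3 q20023 L240587 q20537, e3 q20024 L236171 q18899, e3 q20025 (flp_f L239295) q20388, e3 q20026 (flp_f L236189) q17159, e3 q20027 L236195 q18721, e3 q20028 L236205 q17106, e3 q20029 (flp_f L239303) q20389, e3 q20030 (flp_f L254232) q22046, e3 q20031 L236221 q18577, trivial⟩ (by decide +kernel)

theorem ce_f_313 : ∀ r, r < 64 → sm gf (Qf (20032 + r)) = Qf (tab Gen.f (20032 + r)) :=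
  edges_tab (sm gf) Qf (tab Gen.f) 20032 [(20032, 22080), (20033, 18720), (20034, 21340), (20035, 20376), (20036, 16552), (20037, 20161), (20038, 22083), (20039, 16565), (20040, 21482), (20041, 16567), (20042, 19986), (20043, 20477), (20044, 18704), (20045, 22087), (20046, 16579), (20047, 21788), (20048, 16581), (20049, 22090), (20050, 16583), (20051, 20064), (20052, 20655), (20053, 21349), (20054, 16586), (20055, 20082), (20056, 17183), (20057, 18130), (20058, 18086), (20059, 20000), (20060, 22098), (20061, 16605), (20062, 16630), (20063, 20002), (20064, 20051), (20065, 20081), (20066, 16628), (20067, 18580), (20068, 22106), (20069, 16614), (20070, 20083), (20071, 20371), (20072, 22111), (20073, 16618), (20074, 19946), (20075, 19852), (20076, 22049), (20077, 22103), (20078, 22099), (20079, 22117), (20080, 16631), (20081, 20065), (20082, 20055), (20083, 20070), (20084, 22122), (20085, 16647), (20086, 16657), (20087, 16651), (20088, 16652), (20089, 18549), (20090, 20659), (20091, 22123), (20092, 17494), (20093, 18610),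 (20094, 20191), (20095, 16678)]
    ⟨e3 q20032 L254606 q22080, e3 q20033 L236233 q18720, e3 q20034 (flp_f L247717) q21340, e3 q20035 L239175 q20376, e3 q20036 (flp_f L236245) q16552, e3 q20037 (flp_f L237356) q20161, e3 q20038 L254620 q22083, e3 q20039 (flp_f L236268) q16565, e3 q20040 (flp_f L248914) q21482, e3 q20041 (flp_f L236284) q16567, e3 q20042 L236294 q19986, e3 q20043 L240082 q20477, e3 q20044 L236310 q18704, e3 q20045 L254664 q22087, e3 q20046 (flp_f L236320) q16579, e3 q20047 (flp_f L251616) q21788, e3 q20048 (flp_f L236338) q16581, e3 q20049 L254684 q22090, e3 q20050 (flp_f L236350) q16583, e3 q20051 (flp_f L236460) q20064, e3 q20052 (flp_f L251766) q20655, e3 q20053 L247811 q21349, e3 q20054 (flp_f L236376) q16586, e3 q20055 (flp_f L236593) q20082, e3 q20056 (flp_f L236390) q17183, e3 q20057 L236398 q18130, e3 q20058 L236407 q18086, e3 q20059 L236417 q20000, e3 q20060 L254742 q22098, e3 q20061 (flp_f L236425) q16605, e3 q20062 (flp_f L236441) q16630, e3 q20063 L236449 q20002, e3 q20064 L236460 q20051,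 e3 q20065 L236587 q20081, e3 q20066 (flp_f L236478) q16628, e3 q20067 L236486 q18580, e3 q20068 L254826 q22106, e3 q20069 (flp_f L236494) q16614, e3 q20070 (flp_f L236601) q20083, e3 q20071 (flp_f L239145) q20371, e3 q20072 L254857 q22111, e3 q20073 (flp_f L236516) q16618, e3 q20074 L236532 q19946, e3 q20075 L236543 q19852, e3 q20076 (flp_f L254271) q22049, e3 q20077 L254804 q22103, e3 q20078 L254762 q22099, e3 q20079 L254911 q22117, e3 q20080 (flp_f L236573) q16631, e3 q20081 (flp_f L236587) q20065, e3 q20082 L236593 q20055, e3 q20083 L236601 q20070, e3 q20084 L254942 q22122, e3 q20085 (flp_f L236615) q16647, e3 q20086 L236629 q16657, e3 q20087 (flp_f L236633) q16651, e3 q20088 (flp_f L236645) q16652, e3 q20089 L236665 q18549, e3 q20090 L241692 q20659, e3 q20091 (flp_f L254960) q22123, e3 q20092 L236695 q17494, e3 q20093 (flp_f L236705) q18610, e3 q20094 L237607 q20191, e3 q20095 (flp_f L236723) q16678, trivial⟩ (by decide +kernel)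

theorem ce_f_314 : ∀ r, r < 64 → sm gf (Qf (20096 + r)) = Qf (tab Gen.f (20096 + r)) :=
  edges_tab (sm gf) Qf (tab Gen.f) 20096 [(20096, 19983), (20097, 16787), (20098, 18105), (20099, 18106), (20100, 20290), (20101, 20810), (20102, 16888), (20103, 17640), (20104, 17881), (20105, 17628), (20106, 18082), (20107, 20679), (20108, 19719), (20109, 16686), (20110, 16688), (20111, 22132), (20112, 16689), (20113, 20718), (20114, 21791), (20115, 16691), (20116, 17963), (20117, 17902), (20118, 16883), (20119, 18546), (20120, 16697), (20121, 16997), (20122, 21675), (20123, 16700), (20124, 19089), (20125, 16782), (20126, 16711), (20127, 20130), (20128, 20282), (20129, 21538), (20130, 20127), (20131, 16712), (20132, 17142), (20133, 16957), (20134, 16717), (20135, 16781), (20136, 20155), (20137, 16940), (20138, 18385), (20139, 18689), (20140, 21314), (20141, 16729), (20142, 21191), (20143, 20259), (20144, 16732), (20145, 16989), (20146, 16774), (20147, 17242), (20148, 17248), (20149, 16793), (20150, 20270), (20151, 21487),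 (20152, 20264), (20153, 22148), (20154, 16752), (20155, 20136), (20156, 19372), (20157, 16952), (20158, 16953), (20159, 20273)]
    ⟨e3 q20096 L236737 q19983, e3 q20097 L236747 q16787, e3 q20098 L236755 q18105, e3 q20099 L236763 q18106, e3 q20100 (flp_f L238400) q20290, e3 q20101 (flp_f L243179) q20810, e3 q20102 (flp_f L236791) q16888, e3 q20103 L236801 q17640, e3 q20104 L236813 q17881, e3 q20105 L236819 q17628, e3 q20106 L236833 q18082, e3 q20107 (flp_f L241892) q20679, e3 q20108 (flp_f L236853) q19719, e3 q20109 (flp_f L236855) q16686, e3 q20110 (flp_f L236865) q16688, e3 q20111 L255058 q22132, e3 q20112 (flp_f L236889) q16689, e3 q20113 L242274 q20718, e3 q20114 (flp_f L251652) q21791, e3 q20115 (flp_f L236921) q16691, e3 q20116 L236935 q17963, e3 q20117 (flp_f L236947) q17902, e3 q20118 L236955 q16883, e3 q20119 L236973 q18546, e3 q20120 (flp_f L236975) q16697, e3 q20121 L236989 q16997, e3 q20122 L250548 q21675, e3 q20123 (flp_f L236997) q16700, e3 q20124 (flp_f L237017) q19089, e3 q20125 L237025 q16782, e3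 q20126 L237037 q16711, e3 q20127 (flp_f L237077) q20130, e3 q20128 (flp_f L238339) q20282, e3 q20129 (flp_f L249382) q21538, e3 q20130 L237077 q20127, e3 q20131 (flp_f L237079) q16712, e3 q20132 L237093 q17142, e3 q20133 L237107 q16957, e3 q20134 (flp_f L237109) q16717, e3 q20135 L237127 q16781, e3 q20136 (flp_f L237301) q20155, e3 q20137 (flp_f L237153) q16940, e3 q20138 L237161 q18385, e3 q20139 L237171 q18689, e3 q20140 L247447 q21314, e3 q20141 (flp_f L237181) q16729, e3 q20142 (flp_f L246385) q21191, e3 q20143 (flp_f L238141) q20259, e3 q20144 (flp_f L237209) q16732, e3 q20145 (flp_f L237223) q16989, e3 q20146 L237233 q16774, e3 q20147 L237243 q17242, e3 q20148 L237251 q17248, e3 q20149 L237259 q16793, e3 q20150 L238233 q20270, e3 q20151 (flp_f L248952) q21487, e3 q20152 L238183 q20264, e3 q20153 L255222 q22148, e3 q20154 (flp_f L237289) q16752, e3 q20155 L237301 q20136, e3 q20156 L237315 q19372, e3 q20157 L237324 q16952, e3 q20158 L237328 q16953, e3 q20159 (flp_f L238261) q20273, trivial⟩ (by decide +kernel)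

theorem ce_f_315 : ∀ r, r < 64 → sm gf (Qf (20160 + r)) = Qf (tab Gen.f (20160 + r)) :=
  edges_tab (sm gf) Qf (tab Gen.f) 20160 [(20160, 16955), (20161, 20037), (20162, 20176), (20163, 21992), (20164, 16778), (20165, 18273), (20166, 22137), (20167, 21958), (20168, 16927), (20169, 21771), (20170, 22128), (20171, 21524), (20172, 21922), (20173, 16789), (20174, 18159), (20175, 16794), (20176, 20162), (20177, 16798), (20178, 20271), (20179, 18937), (20180, 17875), (20181, 16903), (20182, 19240), (20183, 20402), (20184, 20219), (20185, 16998), (20186, 16837), (20187, 19846), (20188, 20441), (20189, 16824), (20190, 18859), (20191, 20094), (20192, 16820), (20193, 18561), (20194, 21842), (20195, 22165), (20196, 16825), (20197, 17190), (20198, 20663), (20199, 16831), (20200, 19273), (20201, 19920), (20202, 20606), (20203, 19487), (20204, 16841), (20205, 16843), (20206, 18591), (20207, 16845), (20208, 17431), (20209, 20210), (20210, 20209), (20211, 18601), (20212, 16859), (20213, 21219), (20214, 20220), (20215, 18576),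 (20216, 16877), (20217, 16880), (20218, 16884), (20219, 20184), (20220, 20214), (20221, 21590), (20222, 19489), (20223, 22172)]
    ⟨e3 q20160 L237342 q16955, e3 q20161 L237356 q20037, e3 q20162 L237479 q20176, e3 q20163 L253685 q21992, e3 q20164 (flp_f L237373) q16778, e3 q20165 (flp_f L237395) q18273, e3 q20166 (flp_f L255126) q22137, e3 q20167 L253367 q21958, e3 q20168 L237409 q16927, e3 q20169 (flp_f L251437) q21771, e3 q20170 (flp_f L255018) q22128, e3 q20171 (flp_f L249274) q21524, e3 q20172 L252996 q21922, e3 q20173 (flp_f L237445) q16789, e3 q20174 L237459 q18159, e3 q20175 (flp_f L237465) q16794, e3 q20176 (flp_f L237479) q20162, e3 q20177 (flp_f L237483) q16798, e3 q20178 (flp_f L238241) q20271, e3 q20179 (flp_f L237509) q18937, e3 q20180 L237515 q17875, e3 q20181 (flp_f L237529) q16903, e3 q20182 L237537 q19240, e3 q20183 (flp_f L239427) q20402, e3 q20184 L237884 q20219, e3 q20185 L237555 q16998, e3 q20186 L237565 q16837, e3 q20187 L237573 q19846, e3 q20188 (flp_f L239791) q20441, e3 q20189 L237587 q16824,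 e3 q20190 (flp_f L237597) q18859, e3 q20191 (flp_f L237607) q20094, e3 q20192 (flp_f L237611) q16820, e3 q20193 (flp_f L237627) q18561, e3 q20194 L252172 q21842, e3 q20195 L255374 q22165, e3 q20196 (flp_f L237647) q16825, e3 q20197 L237661 q17190, e3 q20198 L241726 q20663, e3 q20199 (flp_f L237673) q16831, e3 q20200 (flp_f L237693) q19273, e3 q20201 (flp_f L237703) q19920, e3 q20202 (flp_f L241246) q20606, e3 q20203 L237723 q19487, e3 q20204 (flp_f L237727) q16841, e3 q20205 (flp_f L237737) q16843, e3 q20206 (flp_f L237757) q18591, e3 q20207 (flp_f L237761) q16845, e3 q20208 L237776 q17431, e3 q20209 (flp_f L237799) q20210, e3 q20210 L237799 q20209, e3 q20211 L237812 q18601, e3 q20212 (flp_f L237817) q16859, e3 q20213 L246627 q21219, e3 q20214 L237895 q20220, e3 q20215 L237849 q18576, e3 q20216 (flp_f L237853) q16877, e3 q20217 (flp_f L237862) q16880, e3 q20218 L237874 q16884, e3 q20219 (flp_f L237884) q20184, e3 q20220 (flp_f L237895) q20214, e3 q20221 (flp_f L249813) q21590, e3 q20222 (flp_f L237907) q19489, e3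 q20223 L255426 q22172, trivial⟩ (by decide +kernel)

theorem ce_f_316 : ∀ r, r < 64 → sm gf (Qf (20224 + r)) = Qf (tab Gen.f (20224 + r)) :=
  edges_tab (sm gf) Qf (tab Gen.f) 20224 [(20224, 21270), (20225, 16895), (20226, 22173), (20227, 16900), (20228, 21616), (20229, 16904), (20230, 18637), (20231, 18638), (20232, 19811), (20233, 21148), (20234, 20823), (20235, 16910), (20236, 21321), (20237, 20313), (20238, 19096), (20239, 21674), (20240, 18447), (20241, 18979), (20242, 21670), (20243, 19104), (20244, 21656), (20245, 19816), (20246, 21014), (20247, 18690), (20248, 18792), (20249, 22152), (20250, 21048), (20251, 21539), (20252, 22192), (20253, 16929), (20254, 18960), (20255, 16931), (20256, 21271), (20257, 21963), (20258, 18977), (20259, 20143), (20260, 22196), (20261, 16936), (20262, 16937), (20263, 16938), (20264, 20152), (20265, 20423), (20266, 17240), (20267, 17318), (20268, 17308), (20269, 17324), (20270, 20150), (20271, 20178), (20272, 18306), (20273, 20159), (20274, 22202), (20275, 16954), (20276, 21256),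 (20277, 18845), (20278, 18841), (20279, 21892), (20280, 22205), (20281, 16962), (20282, 20128), (20283, 22208), (20284, 16968), (20285, 21681), (20286, 22006), (20287, 18398)]
    ⟨e3 q20224 L247081 q21270, e3 q20225 (flp_f L237919) q16895, e3 q20226 (flp_f L255438) q22173, e3 q20227 (flp_f L237929) q16900, e3 q20228 (flp_f L250005) q21616, e3 q20229 (flp_f L237943) q16904, e3 q20230 L237955 q18637, e3 q20231 L237959 q18638, e3 q20232 (flp_f L237967) q19811, e3 q20233 (flp_f L246044) q21148, e3 q20234 L243345 q20823, e3 q20235 (flp_f L237981) q16910, e3 q20236 (flp_f L247517) q21321, e3 q20237 L238581 q20313, e3 q20238 L238001 q19096, e3 q20239 (flp_f L250536) q21674, e3 q20240 L238011 q18447, e3 q20241 (flp_f L238021) q18979, e3 q20242 L250488 q21670, e3 q20243 (flp_f L238035) q19104, e3 q20244 (flp_f L250342) q21656, e3 q20245 L238047 q19816, e3 q20246 (flp_f L244951) q21014, e3 q20247 L238061 q18690, e3 q20248 L238067 q18792, e3 q20249 (flp_f L255261) q22152, e3 q20250 (flp_f L245239) q21048, e3 q20251 (flp_f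 L249392) q21539, e3 q20252 L255591 q22192, e3 q20253 (flp_f L238089) q16929, e3 q20254 L238101 q18960, e3 q20255 (flp_f L238109) q16931, e3 q20256 L247093 q21271, e3 q20257 L253409 q21963, e3 q20258 L238133 q18977, e3 q20259 L238141 q20143, e3 q20260 L255632 q22196, e3 q20261 (flp_f L238153) q16936, e3 q20262 (flp_f L238163) q16937, e3 q20263 (flp_f L238171) q16938, e3 q20264 (flp_f L238183) q20152, e3 q20265 L239615 q20423, e3 q20266 L238195 q17240, e3 q20267 L238205 q17318, e3 q20268 L238215 q17308, e3 q20269 L238223 q17324, e3 q20270 (flp_f L238233) q20150, e3 q20271 L238241 q20178, e3 q20272 L238253 q18306, e3 q20273 L238261 q20159, e3 q20274 L255708 q22202, e3 q20275 (flp_f L238269) q16954, e3 q20276 (flp_f L246955) q21256, e3 q20277 L238291 q18845, e3 q20278 L238301 q18841, e3 q20279 (flp_f L252686) q21892, e3 q20280 L255746 q22205, e3 q20281 (flp_f L238321) q16962, e3 q20282 L238339 q20128, e3 q20283 L255779 q22208, e3 q20284 (flp_f L238349) q16968, e3 q20285 (flp_f L250603) q21681, e3 q20286 (flp_f L253830)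 q22006, e3 q20287 (flp_f L238372) q18398, trivial⟩ (by decide +kernel)

theorem ce_f_317 : ∀ r, r < 64 → sm gf (Qf (20288 + r)) = Qf (tab Gen.f (20288 + r)) :=
  edges_tab (sm gf) Qf (tab Gen.f) 20288 [(20288, 16971), (20289, 18956), (20290, 20100), (20291, 22214), (20292, 16974), (20293, 20800), (20294, 16980), (20295, 22217), (20296, 21982), (20297, 19769), (20298, 21983), (20299, 19768), (20300, 18696), (20301, 16983), (20302, 16995), (20303, 16996), (20304, 18980), (20305, 22222), (20306, 21677), (20307, 21672), (20308, 21671), (20309, 22187), (20310, 22161), (20311, 22229), (20312, 16999), (20313, 20237), (20314, 20321), (20315, 22174), (20316, 18263), (20317, 17005), (20318, 22234), (20319, 17007), (20320, 20865), (20321, 20314), (20322, 17024), (20323, 18552), (20324, 18392), (20325, 21044), (20326, 18326), (20327, 19745), (20328, 17031), (20329, 20334), (20330, 17132), (20331, 17131), (20332, 17033), (20333, 19743), (20334, 20329), (20335, 19752), (20336, 19841), (20337, 17719), (20338, 17046), (20339, 22241),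 (20340, 17049), (20341, 20835), (20342, 22005), (20343, 17051), (20344, 20802), (20345, 17729), (20346, 17056), (20347, 17058), (20348, 17704), (20349, 17703), (20350, 18272), (20351, 17269)]
    ⟨e3 q20288 (flp_f L238374) q16971, e3 q20289 L238390 q18956, e3 q20290 L238400 q20100, e3 q20291 L255843 q22214, e3 q20292 (flp_f L238407) q16974, e3 q20293 (flp_f L243053) q20800, e3 q20294 L238433 q16980, e3 q20295 L255875 q22217, e3 q20296 L253603 q21982, e3 q20297 L238455 q19769, e3 q20298 L253615 q21983, e3 q20299 (flp_f L238469) q19768, e3 q20300 L238487 q18696, e3 q20301 (flp_f L238475) q16983, e3 q20302 L238495 q16995, e3 q20303 L238503 q16996, e3 q20304 (flp_f L238513) q18980, e3 q20305 (flp_f L255932) q22222, e3 q20306 L250564 q21677, e3 q20307 (flp_f L250506) q21672, e3 q20308 (flp_f L250498) q21671, e3 q20309 (flp_f L255551) q22187, e3 q20310 (flp_f L255342) q22161, e3 q20311 L256000 q22229, e3 q20312 (flp_f L238563) q16999, e3 q20313 (flp_f L238581) q20237, e3 q20314 L238639 q20321, e3 q20315 (flp_f L255450)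 q22174, e3 q20316 L238599 q18263, e3 q20317 (flp_f L238601) q17005, e3 q20318 L256054 q22234, e3 q20319 (flp_f L238617) q17007, e3 q20320 (flp_f L243747) q20865, e3 q20321 (flp_f L238639) q20314, e3 q20322 (flp_f L238645) q17024, e3 q20323 L238661 q18552, e3 q20324 L238671 q18392, e3 q20325 (flp_f L245209) q21044, e3 q20326 L238687 q18326, e3 q20327 (flp_f L238705) q19745, e3 q20328 (flp_f L238707) q17031, e3 q20329 (flp_f L238783) q20334, e3 q20330 L238739 q17132, e3 q20331 (flp_f L238757) q17131, e3 q20332 (flp_f L238759) q17033, e3 q20333 L238779 q19743, e3 q20334 L238783 q20329, e3 q20335 L238793 q19752, e3 q20336 L238803 q19841, e3 q20337 (flp_f L238819) q17719, e3 q20338 (flp_f L238823) q17046, e3 q20339 L256134 q22241, e3 q20340 (flp_f L238841) q17049, e3 q20341 (flp_f L243473) q20835, e3 q20342 (flp_f L253814) q22005, e3 q20343 (flp_f L238865) q17051, e3 q20344 (flp_f L243077) q20802, e3 q20345 L238883 q17729, e3 q20346 (flp_f L238891) q17056, e3 q20347 L238913 q17058, e3 q20348 L238923 q17704, e3 q20349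 L238937 q17703, e3 q20350 L238953 q18272, e3 q20351 L238965 q17269, trivial⟩ (by decide +kernel)

theorem ce_f_318 : ∀ r, r < 64 → sm gf (Qf (20352 + r)) = Qf (tab Gen.f (20352 + r)) :=
  edges_tab (sm gf) Qf (tab Gen.f) 20352 [(20352, 20691), (20353, 17064), (20354, 17065), (20355, 20356), (20356, 20355), (20357, 20412), (20358, 17066), (20359, 20419), (20360, 21974), (20361, 17071), (20362, 17091), (20363, 17078), (20364, 17080), (20365, 20368), (20366, 17292), (20367, 22244), (20368, 20365), (20369, 22247), (20370, 17081), (20371, 20071), (20372, 17298), (20373, 21001), (20374, 22249), (20375, 17085), (20376, 20035), (20377, 17466), (20378, 17290), (20379, 17296), (20380, 20508), (20381, 22044), (20382, 22243), (20383, 21459), (20384, 17164), (20385, 17166), (20386, 20413), (20387, 18781), (20388, 20025), (20389, 20029), (20390, 21772), (20391, 22074), (20392, 19657), (20393, 18433), (20394, 21934), (20395, 17140), (20396, 17130), (20397, 17521), (20398, 20511), (20399, 17136), (20400, 22054), (20401, 21825),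 (20402, 20183), (20403, 22257), (20404, 21087), (20405, 22136), (20406, 20798), (20407, 17461), (20408, 20715), (20409, 18287), (20410, 17528), (20411, 17152), (20412, 20357), (20413, 20386), (20414, 22261), (20415, 17161)]
    ⟨e3 q20352 L241998 q20691, e3 q20353 L238987 q17064, e3 q20354 L238997 q17065, e3 q20355 (flp_f L239015) q20356, e3 q20356 L239015 q20355, e3 q20357 L239521 q20412, e3 q20358 (flp_f L239027) q17066, e3 q20359 (flp_f L239585) q20419, e3 q20360 L253511 q21974, e3 q20361 (flp_f L239061) q17071, e3 q20362 L239075 q17091, e3 q20363 L239083 q17078, e3 q20364 L239087 q17080, e3 q20365 (flp_f L239121) q20368, e3 q20366 L239103 q17292, e3 q20367 (flp_f L256174) q22244, e3 q20368 L239121 q20365, e3 q20369 L256192 q22247, e3 q20370 (flp_f L239129) q17081, e3 q20371 L239145 q20071, e3 q20372 L239151 q17298, e3 q20373 (flp_f L244857) q21001, e3 q20374 L256214 q22249, e3 q20375 (flp_f L239163) q17085, e3 q20376 (flp_f L239175) q20035, e3 q20377 L239183 q17466, e3 q20378 L239195 q17290, e3 q20379 L239209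 q17296, e3 q20380 L240349 q20508, e3 q20381 (flp_f L254208) q22044, e3 q20382 (flp_f L256164) q22243, e3 q20383 (flp_f L248736) q21459, e3 q20384 L239257 q17164, e3 q20385 L239263 q17166, e3 q20386 (flp_f L239529) q20413, e3 q20387 L239281 q18781, e3 q20388 L239295 q20025, e3 q20389 L239303 q20029, e3 q20390 (flp_f L251447) q21772, e3 q20391 L254562 q22074, e3 q20392 L239327 q19657, e3 q20393 L239337 q18433, e3 q20394 L253122 q21934, e3 q20395 L239355 q17140, e3 q20396 L239365 q17130, e3 q20397 (flp_f L239379) q17521, e3 q20398 (flp_f L240379) q20511, e3 q20399 L239397 q17136, e3 q20400 (flp_f L254322) q22054, e3 q20401 (flp_f L252006) q21825, e3 q20402 L239427 q20183, e3 q20403 (flp_f L256308) q22257, e3 q20404 L245559 q21087, e3 q20405 (flp_f L255116) q22136, e3 q20406 L243035 q20798, e3 q20407 (flp_f L239465) q17461, e3 q20408 L242246 q20715, e3 q20409 L239489 q18287, e3 q20410 L239499 q17528, e3 q20411 (flp_f L239503) q17152, e3 q20412 (flp_f L239521) q20357, e3 q20413 L239529 q20386, e3 q20414 L256348 q22261,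 e3 q20415 (flp_f L239543) q17161, trivial⟩ (by decide +kernel)

theorem ce_f_319 : ∀ r, r < 64 → sm gf (Qf (20416 + r)) = Qf (tab Gen.f (20416 + r)) :=
  edges_tab (sm gf) Qf (tab Gen.f) 20416 [(20416, 19993), (20417, 22251), (20418, 21246), (20419, 20359), (20420, 22262), (20421, 21244), (20422, 17170), (20423, 20265), (20424, 18569), (20425, 18907), (20426, 18694), (20427, 17184), (20428, 21768), (20429, 18248), (20430, 17188), (20431, 21761), (20432, 19242), (20433, 17189), (20434, 22167), (20435, 21876), (20436, 17198), (20437, 19232), (20438, 17674), (20439, 18383), (20440, 20698), (20441, 20188), (20442, 17209), (20443, 17211), (20444, 20446), (20445, 17208), (20446, 20444), (20447, 21910), (20448, 22267), (20449, 17212), (20450, 17214), (20451, 20015), (20452, 18544), (20453, 17220), (20454, 19694), (20455, 18560), (20456, 17233), (20457, 17235), (20458, 22266), (20459, 18395), (20460, 17237), (20461, 18780), (20462, 17238), (20463, 21387), (20464, 22142), (20465, 17241), (20466, 20474), (20467, 22067), (20468,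 21427), (20469, 22271), (20470, 17247), (20471, 22276), (20472, 22144), (20473, 20568), (20474, 20466), (20475, 21027), (20476, 17250), (20477, 20043), (20478, 22279), (20479, 17253)]
    ⟨e3 q20416 L239561 q19993, e3 q20417 (flp_f L256242) q22251, e3 q20418 (flp_f L246859) q21246, e3 q20419 L239585 q20359, e3 q20420 L256362 q22262, e3 q20421 (flp_f L246837) q21244, e3 q20422 (flp_f L239603) q17170, e3 q20423 (flp_f L239615) q20265, e3 q20424 L239623 q18569, e3 q20425 L239633 q18907, e3 q20426 L239645 q18694, e3 q20427 (flp_f L239653) q17184, e3 q20428 (flp_f L251397) q21768, e3 q20429 L239681 q18248, e3 q20430 (flp_f L239685) q17188, e3 q20431 L251337 q21761, e3 q20432 (flp_f L239717) q19242, e3 q20433 (flp_f L239719) q17189, e3 q20434 (flp_f L255396) q22167, e3 q20435 (flp_f L252512) q21876, e3 q20436 L239747 q17198, e3 q20437 (flp_f L239757) q19232, e3 q20438 L239767 q17674, e3 q20439 L239775 q18383, e3 q20440 L242074 q20698, e3 q20441 L239791 q20188, e3 q20442 L239799 q17209, e3 q20443 L239803 q17211, e3 q20444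 (flp_f L239829) q20446, e3 q20445 (flp_f L239813) q17208, e3 q20446 L239829 q20444, e3 q20447 (flp_f L252864) q21910, e3 q20448 L256424 q22267, e3 q20449 (flp_f L239847) q17212, e3 q20450 (flp_f L239855) q17214, e3 q20451 L239875 q20015, e3 q20452 L239881 q18544, e3 q20453 (flp_f L239885) q17220, e3 q20454 (flp_f L239903) q19694, e3 q20455 L239911 q18560, e3 q20456 (flp_f L239917) q17233, e3 q20457 (flp_f L239927) q17235, e3 q20458 L256422 q22266, e3 q20459 (flp_f L239949) q18395, e3 q20460 (flp_f L239951) q17237, e3 q20461 (flp_f L239971) q18780, e3 q20462 (flp_f L239975) q17238, e3 q20463 L248135 q21387, e3 q20464 (flp_f L255176) q22142, e3 q20465 (flp_f L240005) q17241, e3 q20466 L240059 q20474, e3 q20467 L254486 q22067, e3 q20468 L248469 q21427, e3 q20469 L256470 q22271, e3 q20470 (flp_f L240039) q17247, e3 q20471 L256517 q22276, e3 q20472 (flp_f L255192) q22144, e3 q20473 (flp_f L240850) q20568, e3 q20474 (flp_f L240059) q20466, e3 q20475 (flp_f L245071) q21027, e3 q20476 (flp_f L240067) q17250, e3 q20477 (flp_f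 L240082) q20043, e3 q20478 L256539 q22279, e3 q20479 (flp_f L240093) q17253, trivial⟩ (by decide +kernel)

theorem ce_f_320 : ∀ r, r < 64 → sm gf (Qf (20480 + r)) = Qf (tab Gen.f (20480 + r)) :=
  edges_tab (sm gf) Qf (tab Gen.f) 20480 [(20480, 22280), (20481, 17254), (20482, 20542), (20483, 17255), (20484, 22282), (20485, 18825), (20486, 18655), (20487, 19605), (20488, 21152), (20489, 21151), (20490, 19467), (20491, 17657), (20492, 20880), (20493, 17692), (20494, 22285), (20495, 17272), (20496, 20673), (20497, 22286), (20498, 17277), (20499, 20757), (20500, 20507), (20501, 20772), (20502, 17282), (20503, 19035), (20504, 17285), (20505, 19827), (20506, 17287), (20507, 20500), (20508, 20380), (20509, 21893), (20510, 21119), (20511, 20398), (20512, 17299), (20513, 17303), (20514, 19788), (20515, 17311), (20516, 22288), (20517, 18457), (20518, 17313), (20519, 18693), (20520, 17314), (20521, 21319), (20522, 22199), (20523, 17317), (20524, 20532), (20525, 19503), (20526, 19937), (20527, 22291), (20528, 17323), (20529,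 22296), (20530, 21190), (20531, 20586), (20532, 20524), (20533, 22277), (20534, 17326), (20535, 20535), (20536, 20536), (20537, 20023), (20538, 22299), (20539, 17330), (20540, 21421), (20541, 19547), (20542, 20482), (20543, 18393)]
    ⟨e3 q20480 L256553 q22280, e3 q20481 (flp_f L240111) q17254, e3 q20482 (flp_f L240627) q20542, e3 q20483 (flp_f L240119) q17255, e3 q20484 (flp_f L256577) q22282, e3 q20485 L240605 q18825, e3 q20486 L240145 q18655, e3 q20487 L240157 q19605, e3 q20488 (flp_f L246068) q21152, e3 q20489 (flp_f L246058) q21151, e3 q20490 L240185 q19467, e3 q20491 L240195 q17657, e3 q20492 (flp_f L243905) q20880, e3 q20493 L240219 q17692, e3 q20494 L256601 q22285, e3 q20495 (flp_f L240227) q17272, e3 q20496 (flp_f L241832) q20673, e3 q20497 L256615 q22286, e3 q20498 (flp_f L240257) q17277, e3 q20499 (flp_f L242666) q20757, e3 q20500 L240337 q20507, e3 q20501 L242822 q20772, e3 q20502 (flp_f L240287) q17282, e3 q20503 (flp_f L240299) q19035, e3 q20504 (flp_f L240303) q17285, e3 q20505 L240321 q19827, e3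 q20506 (flp_f L240325) q17287, e3 q20507 (flp_f L240337) q20500, e3 q20508 (flp_f L240349) q20380, e3 q20509 L252704 q21893, e3 q20510 (flp_f L245811) q21119, e3 q20511 L240379 q20398, e3 q20512 (flp_f L240381) q17299, e3 q20513 L240395 q17303, e3 q20514 (flp_f L240409) q19788, e3 q20515 (flp_f L240411) q17311, e3 q20516 L256639 q22288, e3 q20517 (flp_f L240435) q18457, e3 q20518 (flp_f L240439) q17313, e3 q20519 (flp_f L240457) q18693, e3 q20520 (flp_f L240461) q17314, e3 q20521 L247493 q21319, e3 q20522 (flp_f L255676) q22199, e3 q20523 (flp_f L240491) q17317, e3 q20524 L240547 q20532, e3 q20525 L240509 q19503, e3 q20526 L240515 q19937, e3 q20527 L256675 q22291, e3 q20528 (flp_f L240525) q17323, e3 q20529 L256724 q22296, e3 q20530 (flp_f L246373) q21190, e3 q20531 (flp_f L241038) q20586, e3 q20532 (flp_f L240547) q20524, e3 q20533 (flp_f L256531) q22277, e3 q20534 (flp_f L240555) q17326, e3 q20535 L240567 q20535, e3 q20536 L240576 q20536, e3 q20537 (flp_f L240587) q20023, e3 q20538 L256758 q22299, e3 q20539 (flp_f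 L240599) q17330, e3 q20540 L248413 q21421, e3 q20541 (flp_f L240621) q19547, e3 q20542 L240627 q20482, e3 q20543 L240633 q18393, trivial⟩ (by decide +kernel)

theorem ce_f_321 : ∀ r, r < 64 → sm gf (Qf (20544 + r)) = Qf (tab Gen.f (20544 + r)) :=
  edges_tab (sm gf) Qf (tab Gen.f) 20544 [(20544, 19549), (20545, 18923), (20546, 22303), (20547, 17344), (20548, 20572), (20549, 22304), (20550, 21492), (20551, 17347), (20552, 21499), (20553, 18906), (20554, 17351), (20555, 20581), (20556, 22306), (20557, 18927), (20558, 22307), (20559, 17356), (20560, 17357), (20561, 18881), (20562, 18885), (20563, 18886), (20564, 17360), (20565, 22315), (20566, 17361), (20567, 20583), (20568, 20473), (20569, 22034), (20570, 21331), (20571, 17371), (20572, 20548), (20573, 17372), (20574, 21861), (20575, 18861), (20576, 17375), (20577, 21915), (20578, 21461), (20579, 17379), (20580, 21507), (20581, 20555), (20582, 18921), (20583, 20567), (20584, 19654), (20585, 17387), (20586, 20531), (20587, 18331), (20588, 17449), (20589, 21911), (20590,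 17454), (20591, 21868), (20592, 20022), (20593, 20791), (20594, 17860), (20595, 17481), (20596, 21262), (20597, 18594), (20598, 19919), (20599, 17508), (20600, 17510), (20601, 17515), (20602, 19760), (20603, 20622), (20604, 17524), (20605, 19926), (20606, 20202), (20607, 20607)]
    ⟨e3 q20544 L240642 q19549, e3 q20545 (flp_f L240656) q18923, e3 q20546 L256796 q22303, e3 q20547 (flp_f L240668) q17344, e3 q20548 (flp_f L240894) q20572, e3 q20549 (flp_f L256814) q22304, e3 q20550 (flp_f L249004) q21492, e3 q20551 (flp_f L240700) q17347, e3 q20552 (flp_f L249058) q21499, e3 q20553 (flp_f L240730) q18906, e3 q20554 (flp_f L240732) q17351, e3 q20555 (flp_f L240982) q20581, e3 q20556 (flp_f L256838) q22306, e3 q20557 L240756 q18927, e3 q20558 L256846 q22307, e3 q20559 (flp_f L240768) q17356, e3 q20560 (flp_f L240778) q17357, e3 q20561 L240790 q18881, e3 q20562 L240796 q18885, e3 q20563 L240802 q18886, e3 q20564 (flp_f L240807) q17360, e3 q20565 L256909 q22315, e3 q20566 (flp_f L240829) q17361, e3 q20567 (flp_f L241002)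 q20583, e3 q20568 L240850 q20473, e3 q20569 (flp_f L254108) q22034, e3 q20570 (flp_f L247626) q21331, e3 q20571 (flp_f L240876) q17371, e3 q20572 L240894 q20548, e3 q20573 (flp_f L240900) q17372, e3 q20574 (flp_f L252355) q21861, e3 q20575 L240924 q18861, e3 q20576 (flp_f L240930) q17375, e3 q20577 L252926 q21915, e3 q20578 (flp_f L248748) q21461, e3 q20579 (flp_f L240962) q17379, e3 q20580 L249118 q21507, e3 q20581 L240982 q20555, e3 q20582 L240990 q18921, e3 q20583 L241002 q20567, e3 q20584 (flp_f L241016) q19654, e3 q20585 (flp_f L241018) q17387, e3 q20586 L241038 q20531, e3 q20587 L241044 q18331, e3 q20588 (flp_f L241046) q17449, e3 q20589 (flp_f L252878) q21911, e3 q20590 (flp_f L241062) q17454, e3 q20591 (flp_f L252423) q21868, e3 q20592 (flp_f L241086) q20022, e3 q20593 (flp_f L242977) q20791, e3 q20594 (flp_f L241104) q17860, e3 q20595 L241114 q17481, e3 q20596 (flp_f L247019) q21262, e3 q20597 L241136 q18594, e3 q20598 L241150 q19919, e3 q20599 (flp_f L241152) q17508, e3 q20600 (flp_f L241166) q17510, e3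 q20601 (flp_f L241190) q17515, e3 q20602 (flp_f L241204) q19760, e3 q20603 L241394 q20622, e3 q20604 (flp_f L241216) q17524, e3 q20605 L241232 q19926, e3 q20606 L241246 q20202, e3 q20607 L241258 q20607, trivial⟩ (by decide +kernel)

theorem ce_f_322 : ∀ r, r < 64 → sm gf (Qf (20608 + r)) = Qf (tab Gen.f (20608 + r)) :=
  edges_tab (sm gf) Qf (tab Gen.f) 20608 [(20608, 20669), (20609, 18173), (20610, 21263), (20611, 18611), (20612, 17540), (20613, 20639), (20614, 22321), (20615, 17545), (20616, 17550), (20617, 22322), (20618, 17581), (20619, 18002), (20620, 17561), (20621, 18093), (20622, 20603), (20623, 18089), (20624, 18483), (20625, 22326), (20626, 20675), (20627, 22330), (20628, 22332), (20629, 22333), (20630, 17570), (20631, 22334), (20632, 17571), (20633, 20933), (20634, 17573), (20635, 21783), (20636, 19317), (20637, 17580), (20638, 22324), (20639, 20613), (20640, 19597), (20641, 20647), (20642, 17587), (20643, 19929), (20644, 17930), (20645, 20820), (20646, 17859), (20647, 20641), (20648, 21352), (20649,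 17590), (20650, 21790), (20651, 17594), (20652, 17598), (20653, 17596), (20654, 22339), (20655, 20052), (20656, 22116), (20657, 22093), (20658, 18160), (20659, 20090), (20660, 18162), (20661, 20960), (20662, 21779), (20663, 20198), (20664, 22350), (20665, 17609), (20666, 19592), (20667, 18607), (20668, 17613), (20669, 20608), (20670, 17615), (20671, 19591)]
    ⟨e3 q20608 (flp_f L241786) q20669, e3 q20609 (flp_f L241279) q18173, e3 q20610 (flp_f L247031) q21263, e3 q20611 (flp_f L241298) q18611, e3 q20612 (flp_f L241300) q17540, e3 q20613 (flp_f L241514) q20639, e3 q20614 L256965 q22321, e3 q20615 (flp_f L241320) q17545, e3 q20616 L241328 q17550, e3 q20617 (flp_f L256975) q22322, e3 q20618 (flp_f L241344) q17581, e3 q20619 (flp_f L241356) q18002, e3 q20620 (flp_f L241360) q17561, e3 q20621 L241382 q18093, e3 q20622 (flp_f L241394) q20603, e3 q20623 L241406 q18089, e3 q20624 (flp_f L241418) q18483, e3 q20625 L257007 q22326, e3 q20626 (flp_f L241858) q20675, e3 q20627 L257035 q22330, e3 q20628 L257043 q22332, e3 q20629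 L257059 q22333, e3 q20630 (flp_f L241440) q17570, e3 q20631 L257069 q22334, e3 q20632 (flp_f L241450) q17571, e3 q20633 L244367 q20933, e3 q20634 (flp_f L241468) q17573, e3 q20635 (flp_f L251572) q21783, e3 q20636 (flp_f L241490) q19317, e3 q20637 (flp_f L241492) q17580, e3 q20638 L256995 q22324, e3 q20639 L241514 q20613, e3 q20640 (flp_f L241524) q19597, e3 q20641 (flp_f L241602) q20647, e3 q20642 L241544 q17587, e3 q20643 (flp_f L241560) q19929, e3 q20644 L241568 q17930, e3 q20645 (flp_f L243313) q20820, e3 q20646 L241590 q17859, e3 q20647 L241602 q20641, e3 q20648 (flp_f L247833) q21352, e3 q20649 (flp_f L241620) q17590, e3 q20650 (flp_f L251642) q21790, e3 q20651 (flp_f L241644) q17594, e3 q20652 L241658 q17598, e3 q20653 (flp_f L241660) q17596, e3 q20654 (flp_f L257123) q22339, e3 q20655 L251766 q20052, e3 q20656 (flp_f L254907) q22116, e3 q20657 (flp_f L254720) q22093, e3 q20658 L241680 q18160, e3 q20659 (flp_f L241692) q20090, e3 q20660 L241700 q18162, e3 q20661 (flp_f L244561) q20960, e3 q20662 (flp_f L251528)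 q21779, e3 q20663 (flp_f L241726) q20198, e3 q20664 L257203 q22350, e3 q20665 (flp_f L241734) q17609, e3 q20666 L241750 q19592, e3 q20667 (flp_f L241764) q18607, e3 q20668 (flp_f L241768) q17613, e3 q20669 L241786 q20608, e3 q20670 (flp_f L241790) q17615, e3 q20671 L241808 q19591, trivial⟩ (by decide +kernel)

theorem ce_f_323 : ∀ r, r < 64 → sm gf (Qf (20672 + r)) = Qf (tab Gen.f (20672 + r)) :=
  edges_tab (sm gf) Qf (tab Gen.f) 20672 [(20672, 19593), (20673, 20496), (20674, 18384), (20675, 20626), (20676, 22351), (20677, 17630), (20678, 17631), (20679, 20107), (20680, 22352), (20681, 17641), (20682, 21040), (20683, 17642), (20684, 20818), (20685, 18746), (20686, 21153), (20687, 17650), (20688, 21972), (20689, 19741), (20690, 21526), (20691, 20352), (20692, 20707), (20693, 22354), (20694, 17665), (20695, 21792), (20696, 17721), (20697, 17723), (20698, 20440), (20699, 18954), (20700, 17679), (20701, 17683), (20702, 17684), (20703, 17689), (20704, 19031), (20705, 17687), (20706, 20708), (20707, 20692), (20708, 20706),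 (20709, 21778), (20710, 22284), (20711, 17694), (20712, 17700), (20713, 21312), (20714, 21976), (20715, 20408), (20716, 17712), (20717, 18315), (20718, 20113), (20719, 18317), (20720, 21074), (20721, 19295), (20722, 21091), (20723, 17718), (20724, 19829), (20725, 22356), (20726, 17726), (20727, 17747), (20728, 21073), (20729, 18324), (20730, 19671), (20731, 17742), (20732, 19164), (20733, 18211), (20734, 19145), (20735, 19139)]
    ⟨e3 q20672 L241820 q19593, e3 q20673 L241832 q20496, e3 q20674 L241844 q18384, e3 q20675 L241858 q20626, e3 q20676 L257213 q22351, e3 q20677 (flp_f L241868) q17630, e3 q20678 (flp_f L241874) q17631, e3 q20679 L241892 q20107, e3 q20680 L257227 q22352, e3 q20681 (flp_f L241900) q17641, e3 q20682 L245185 q21040, e3 q20683 (flp_f L241922) q17642, e3 q20684 (flp_f L243287) q20818, e3 q20685 L241938 q18746, e3 q20686 (flp_f L246078) q21153, e3 q20687 (flp_f L241948) q17650, e3 q20688 (flp_f L253489) q21972, e3 q20689 (flp_f L241976) q19741, e3 q20690 (flp_f L249289) q21526, e3 q20691 (flp_f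 L241998) q20352, e3 q20692 L242174 q20707, e3 q20693 L257251 q22354, e3 q20694 (flp_f L242022) q17665, e3 q20695 (flp_f L251666) q21792, e3 q20696 L242048 q17721, e3 q20697 L242058 q17723, e3 q20698 (flp_f L242074) q20440, e3 q20699 L242090 q18954, e3 q20700 (flp_f L242092) q17679, e3 q20701 (flp_f L242106) q17683, e3 q20702 (flp_f L242116) q17684, e3 q20703 L242131 q17689, e3 q20704 (flp_f L242144) q19031, e3 q20705 (flp_f L242146) q17687, e3 q20706 (flp_f L242186) q20708, e3 q20707 (flp_f L242174) q20692, e3 q20708 L242186 q20706, e3 q20709 (flp_f L251514) q21778, e3 q20710 (flp_f L256593) q22284, e3 q20711 (flp_f L242204) q17694, e3 q20712 (flp_f L242212) q17700, e3 q20713 (flp_f L247421) q21312, e3 q20714 L253535 q21976, e3 q20715 (flp_f L242246) q20408, e3 q20716 (flp_f L242250) q17712, e3 q20717 L242262 q18315, e3 q20718 (flp_f L242274) q20113, e3 q20719 L242282 q18317, e3 q20720 (flp_f L245479) q21074, e3 q20721 (flp_f L242296) q19295, e3 q20722 (flp_f L245603) q21091, e3 q20723 (flp_f L242304) q17718, e3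 q20724 (flp_f L242322) q19829, e3 q20725 (flp_f L257279) q22356, e3 q20726 (flp_f L242336) q17726, e3 q20727 L242356 q17747, e3 q20728 (flp_f L245467) q21073, e3 q20729 L242376 q18324, e3 q20730 L242386 q19671, e3 q20731 (flp_f L242388) q17742, e3 q20732 L242408 q19164, e3 q20733 L242426 q18211, e3 q20734 L242438 q19145, e3 q20735 (flp_f L242450) q19139, trivial⟩ (by decide +kernel)

theorem ce_f_324 : ∀ r, r < 64 → sm gf (Qf (20736 + r)) = Qf (tab Gen.f (20736 + r)) :=
  edges_tab (sm gf) Qf (tab Gen.f) 20736 [(20736, 20739), (20737, 17754), (20738, 19110), (20739, 20736), (20740, 17756), (20741, 17757), (20742, 20742), (20743, 20743), (20744, 21261), (20745, 17767), (20746, 17791), (20747, 19548), (20748, 22366), (20749, 17772), (20750, 21925), (20751, 20762), (20752, 17787), (20753, 20783), (20754, 19987), (20755, 17779), (20756, 19330), (20757, 20499), (20758, 19434), (20759, 21802), (20760, 22371), (20761, 17790), (20762, 20751), (20763, 19638), (20764, 22369), (20765, 17794), (20766, 17795), (20767, 19144),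 (20768, 20768), (20769, 17802), (20770, 20786), (20771, 22294), (20772, 20501), (20773, 22374), (20774, 17807), (20775, 17808), (20776, 21475), (20777, 21476), (20778, 21477), (20779, 22380), (20780, 17811), (20781, 20788), (20782, 17812), (20783, 20753), (20784, 17817), (20785, 22287), (20786, 20770), (20787, 19854), (20788, 20781), (20789, 22383), (20790, 17824), (20791, 20593), (20792, 21826), (20793, 21769), (20794, 17863), (20795, 21235), (20796, 17871), (20797, 22158), (20798, 20406), (20799, 22130)]
    ⟨e3 q20736 (flp_f L242488) q20739, e3 q20737 (flp_f L242458) q17754, e3 q20738 (flp_f L242480) q19110, e3 q20739 L242488 q20736, e3 q20740 (flp_f L242490) q17756, e3 q20741 (flp_f L242504) q17757, e3 q20742 L242518 q20742, e3 q20743 L242523 q20743, e3 q20744 (flp_f L247009) q21261, e3 q20745 (flp_f L242536) q17767, e3 q20746 (flp_f L242558) q17791, e3 q20747 L242568 q19548, e3 q20748 L257393 q22366, e3 q20749 (flp_f L242578) q17772, e3 q20750 (flp_f L253026) q21925, e3 q20751 (flp_f L242719) q20762, e3 q20752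 (flp_f L242614) q17787, e3 q20753 (flp_f L242896) q20783, e3 q20754 (flp_f L242630) q19987, e3 q20755 (flp_f L242634) q17779, e3 q20756 (flp_f L242656) q19330, e3 q20757 L242666 q20499, e3 q20758 (flp_f L242679) q19434, e3 q20759 L251790 q21802, e3 q20760 L257444 q22371, e3 q20761 (flp_f L242701) q17790, e3 q20762 L242719 q20751, e3 q20763 L242725 q19638, e3 q20764 (flp_f L257426) q22369, e3 q20765 (flp_f L242737) q17794, e3 q20766 (flp_f L242749) q17795, e3 q20767 (flp_f L242771) q19144, e3 q20768 L242781 q20768, e3 q20769 (flp_f L242784) q17802, e3 q20770 (flp_f L242931) q20786, e3 q20771 L256713 q22294, e3 q20772 (flp_f L242822) q20501, e3 q20773 L257477 q22374, e3 q20774 (flp_f L242832) q17807, e3 q20775 (flp_f L242844) q17808, e3 q20776 (flp_f L248856) q21475, e3 q20777 (flp_f L248862) q21476, e3 q20778 (flp_f L248872) q21477, e3 q20779 L257539 q22380, e3 q20780 (flp_f L242873) q17811, e3 q20781 (flp_f L242953) q20788, e3 q20782 (flp_f L242883) q17812, e3 q20783 L242896 q20753, e3 q20784 (flp_f L242901) q17817,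 e3 q20785 L256637 q22287, e3 q20786 L242931 q20770, e3 q20787 L242941 q19854, e3 q20788 L242953 q20781, e3 q20789 L257562 q22383, e3 q20790 (flp_f L242961) q17824, e3 q20791 L242977 q20593, e3 q20792 (flp_f L252020) q21826, e3 q20793 L251415 q21769, e3 q20794 (flp_f L242993) q17863, e3 q20795 (flp_f L246753) q21235, e3 q20796 (flp_f L243015) q17871, e3 q20797 (flp_f L255313) q22158, e3 q20798 (flp_f L243035) q20406, e3 q20799 L255042 q22130, trivial⟩ (by decide +kernel)

theorem ce_f_325 : ∀ r, r < 64 → sm gf (Qf (20800 + r)) = Qf (tab Gen.f (20800 + r)) :=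
  edges_tab (sm gf) Qf (tab Gen.f) 20800 [(20800, 20293), (20801, 18350), (20802, 20344), (20803, 17887), (20804, 18373), (20805, 18371), (20806, 18374), (20807, 18492), (20808, 21098), (20809, 17904), (20810, 20101), (20811, 17916), (20812, 17921), (20813, 18420), (20814, 18524), (20815, 19374), (20816, 19732), (20817, 17919), (20818, 20684), (20819, 17927), (20820, 20645), (20821, 21820), (20822, 18519), (20823, 20234), (20824, 17954), (20825, 20837), (20826, 17961), (20827, 17974), (20828, 17975), (20829, 20859), (20830, 20860), (20831, 18011), (20832, 22384), (20833, 18046), (20834, 17978), (20835, 20341), (20836, 17997), (20837, 20825), (20838, 17986), (20839, 19594), (20840, 22079), (20841, 17992), (20842, 18007), (20843, 21781), (20844, 21400), (20845, 19517), (20846, 18004), (20847, 18009), (20848, 19720), (20849, 19124), (20850, 22388), (20851, 18010), (20852, 21884), (20853, 21344), (20854, 18984), (20855, 21440), (20856, 18198), (20857, 21433), (20858, 18839), (20859, 20829), (20860, 20830), (20861, 18020),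 (20862, 21885), (20863, 19097)]
    ⟨e3 q20800 L243053 q20293, e3 q20801 L243063 q18350, e3 q20802 L243077 q20344, e3 q20803 (flp_f L243085) q17887, e3 q20804 L243105 q18373, e3 q20805 L243119 q18371, e3 q20806 L243133 q18374, e3 q20807 (flp_f L243151) q18492, e3 q20808 (flp_f L245643) q21098, e3 q20809 (flp_f L243165) q17904, e3 q20810 L243179 q20101, e3 q20811 L243189 q17916, e3 q20812 L243203 q17921, e3 q20813 (flp_f L243221) q18420, e3 q20814 L243231 q18524, e3 q20815 L243245 q19374, e3 q20816 (flp_f L243265) q19732, e3 q20817 (flp_f L243267) q17919, e3 q20818 L243287 q20684, e3 q20819 L243299 q17927, e3 q20820 L243313 q20645, e3 q20821 L251958 q21820, e3 q20822 L243333 q18519, e3 q20823 (flp_f L243345) q20234, e3 q20824 (flp_f L243349) q17954, e3 q20825 (flp_f L243493) q20837, e3 q20826 (flp_f L243373) q17961, e3 q20827 L243387 q17974, e3 q20828 L243403 q17975, e3 q20829 (flp_f L243689) q20859, e3 q20830 (flp_f L243701) q20860, e3 q20831 (flp_f L243437) q18011, e3 q20832 L257574 q22384, e3 q20833 L243453 q18046,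 e3 q20834 (flp_f L243457) q17978, e3 q20835 L243473 q20341, e3 q20836 L243481 q17997, e3 q20837 L243493 q20825, e3 q20838 (flp_f L243495) q17986, e3 q20839 L243513 q19594, e3 q20840 L254604 q22079, e3 q20841 (flp_f L243519) q17992, e3 q20842 (flp_f L243539) q18007, e3 q20843 L251552 q21781, e3 q20844 L248241 q21400, e3 q20845 (flp_f L243559) q19517, e3 q20846 (flp_f L243561) q18004, e3 q20847 L243575 q18009, e3 q20848 (flp_f L243587) q19720, e3 q20849 L243597 q19124, e3 q20850 L257616 q22388, e3 q20851 (flp_f L243609) q18010, e3 q20852 (flp_f L252596) q21884, e3 q20853 (flp_f L247749) q21344, e3 q20854 L243643 q18984, e3 q20855 (flp_f L248575) q21440, e3 q20856 L243665 q18198, e3 q20857 (flp_f L248521) q21433, e3 q20858 L243683 q18839, e3 q20859 L243689 q20829, e3 q20860 L243701 q20830, e3 q20861 (flp_f L243705) q18020, e3 q20862 (flp_f L252606) q21885, e3 q20863 (flp_f L243733) q19097, trivial⟩ (by decide +kernel)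

theorem ce_f_326 : ∀ r, r < 64 → sm gf (Qf (20864 + r)) = Qf (tab Gen.f (20864 + r)) :=
  edges_tab (sm gf) Qf (tab Gen.f) 20864 [(20864, 20935), (20865, 20320), (20866, 18756), (20867, 18024), (20868, 19522), (20869, 20882), (20870, 18029), (20871, 18030), (20872, 18255), (20873, 18739), (20874, 18644), (20875, 18652), (20876, 19064), (20877, 18041), (20878, 18654), (20879, 22397), (20880, 20492), (20881, 18117), (20882, 20869), (20883, 21201), (20884, 18048), (20885, 18049), (20886, 22399), (20887, 21066), (20888, 18051), (20889, 21067), (20890, 18806), (20891, 21223), (20892, 18953), (20893, 18068), (20894, 18180), (20895, 18475), (20896, 18790), (20897, 18061), (20898, 18062), (20899, 19714), (20900, 18064), (20901, 21402), (20902, 21080), (20903, 18070), (20904, 19230), (20905, 18071), (20906, 18072), (20907, 21156), (20908, 18734), (20909, 22392), (20910, 22077), (20911, 18083), (20912, 22059), (20913, 19952), (20914, 22407), (20915, 22409), (20916, 18096), (20917, 22410), (20918, 18097), (20919, 22403),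 (20920, 18099), (20921, 22412), (20922, 22415), (20923, 22416), (20924, 18101), (20925, 22394), (20926, 22420), (20927, 18102)]
    ⟨e3 q20864 (flp_f L244381) q20935, e3 q20865 L243747 q20320, e3 q20866 L243753 q18756, e3 q20867 (flp_f L243755) q18024, e3 q20868 L243771 q19522, e3 q20869 L243929 q20882, e3 q20870 (flp_f L243787) q18029, e3 q20871 (flp_f L243799) q18030, e3 q20872 L243819 q18255, e3 q20873 (flp_f L243831) q18739, e3 q20874 (flp_f L243843) q18644, e3 q20875 L243851 q18652, e3 q20876 (flp_f L243869) q19064, e3 q20877 L243879 q18041, e3 q20878 L243885 q18654, e3 q20879 L257704 q22397, e3 q20880 L243905 q20492, e3 q20881 (flp_f L243919) q18117, e3 q20882 (flp_f L243929) q20869, e3 q20883 L246483 q21201, e3 q20884 (flp_f L243939) q18048, e3 q20885 (flp_f L243949) q18049, e3 q20886 L257726 q22399, e3 q20887 (flp_f L245393) q21066, e3 q20888 (flp_f L243975) q18051, e3 q20889 (flp_f L245409) q21067, e3 q20890 (flp_f L243997) q18806, e3 q20891 (flp_f L246671) q21223, e3 q20892 L244015 q18953, e3 q20893 L244027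 q18068, e3 q20894 (flp_f L244039) q18180, e3 q20895 (flp_f L244051) q18475, e3 q20896 L244065 q18790, e3 q20897 (flp_f L244067) q18061, e3 q20898 (flp_f L244077) q18062, e3 q20899 (flp_f L244101) q19714, e3 q20900 (flp_f L244103) q18064, e3 q20901 L248259 q21402, e3 q20902 (flp_f L245519) q21080, e3 q20903 (flp_f L244133) q18070, e3 q20904 (flp_f L244153) q19230, e3 q20905 (flp_f L244155) q18071, e3 q20906 (flp_f L244165) q18072, e3 q20907 (flp_f L246108) q21156, e3 q20908 (flp_f L244189) q18734, e3 q20909 L257660 q22392, e3 q20910 (flp_f L254580) q22077, e3 q20911 (flp_f L244205) q18083, e3 q20912 (flp_f L254384) q22059, e3 q20913 (flp_f L244235) q19952, e3 q20914 L257812 q22407, e3 q20915 L257826 q22409, e3 q20916 (flp_f L244247) q18096, e3 q20917 L257830 q22410, e3 q20918 (flp_f L244263) q18097, e3 q20919 L257782 q22403, e3 q20920 (flp_f L244273) q18099, e3 q20921 L257846 q22412, e3 q20922 L257880 q22415, e3 q20923 L257888 q22416, e3 q20924 (flp_f L244299) q18101, e3 q20925 (flp_f L257676) q22394, e3 q20926 L257934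 q22420, e3 q20927 (flp_f L244313) q18102, trivial⟩ (by decide +kernel)

theorem ce_f_327 : ∀ r, r < 64 → sm gf (Qf (20928 + r)) = Qf (tab Gen.f (20928 + r)) :=
  edges_tab (sm gf) Qf (tab Gen.f) 20928 [(20928, 18103), (20929, 18769), (20930, 22129), (20931, 18108), (20932, 19758), (20933, 20633), (20934, 21767), (20935, 20864), (20936, 19524), (20937, 19378), (20938, 18136), (20939, 21347), (20940, 18504), (20941, 18691), (20942, 19626), (20943, 18432), (20944, 18155), (20945, 18510), (20946, 18157), (20947, 20956), (20948, 19301), (20949, 18817), (20950, 21216), (20951, 21416), (20952, 22427), (20953, 22433), (20954, 18805), (20955, 21417), (20956, 20947), (20957, 22435), (20958, 18158), (20959, 22155), (20960, 20661), (20961, 18435), (20962, 18164), (20963, 21408), (20964, 18175), (20965, 22437), (20966, 21053), (20967, 21563), (20968, 21564), (20969, 19037), (20970, 21676), (20971, 22441), (20972, 20983), (20973, 22443), (20974, 18192), (20975, 22198), (20976, 22445), (20977, 22188), (20978, 18194), (20979, 22396),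 (20980, 22446), (20981, 18195), (20982, 18196), (20983, 20972), (20984, 18204), (20985, 18742), (20986, 21981), (20987, 21140), (20988, 18978), (20989, 18207), (20990, 18279), (20991, 21691)]
    ⟨e3 q20928 (flp_f L244319) q18103, e3 q20929 (flp_f L244329) q18769, e3 q20930 (flp_f L255030) q22129, e3 q20931 (flp_f L244341) q18108, e3 q20932 L244353 q19758, e3 q20933 (flp_f L244367) q20633, e3 q20934 (flp_f L251385) q21767, e3 q20935 L244381 q20864, e3 q20936 L244389 q19524, e3 q20937 (flp_f L244403) q19378, e3 q20938 (flp_f L244407) q18136, e3 q20939 L247789 q21347, e3 q20940 (flp_f L244427) q18504, e3 q20941 L244435 q18691, e3 q20942 L244445 q19626, e3 q20943 L244453 q18432, e3 q20944 L244459 q18155, e3 q20945 (flp_f L244471) q18510, e3 q20946 L244475 q18157, e3 q20947 (flp_f L244531) q20956, e3 q20948 L244483 q19301, e3 q20949 L244491 q18817, e3 q20950 (flp_f L246597) q21216, e3 q20951 L248375 q21416, e3 q20952 (flp_f L257996) q22427, e3 q20953 L258038 q22433, e3 q20954 L244521 q18805, e3 q20955 (flp_f L248381)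 q21417, e3 q20956 L244531 q20947, e3 q20957 L258058 q22435, e3 q20958 (flp_f L244537) q18158, e3 q20959 (flp_f L255285) q22155, e3 q20960 L244561 q20661, e3 q20961 L244567 q18435, e3 q20962 (flp_f L244575) q18164, e3 q20963 (flp_f L248306) q21408, e3 q20964 (flp_f L244591) q18175, e3 q20965 L258070 q22437, e3 q20966 L245271 q21053, e3 q20967 (flp_f L249629) q21563, e3 q20968 (flp_f L249639) q21564, e3 q20969 (flp_f L244637) q19037, e3 q20970 (flp_f L250554) q21676, e3 q20971 L258113 q22441, e3 q20972 L244722 q20983, e3 q20973 L258135 q22443, e3 q20974 (flp_f L244666) q18192, e3 q20975 (flp_f L255662) q22198, e3 q20976 L258155 q22445, e3 q20977 (flp_f L255565) q22188, e3 q20978 (flp_f L244688) q18194, e3 q20979 (flp_f L257700) q22396, e3 q20980 L258167 q22446, e3 q20981 (flp_f L244704) q18195, e3 q20982 (flp_f L244710) q18196, e3 q20983 (flp_f L244722) q20972, e3 q20984 L244730 q18204, e3 q20985 L244742 q18742, e3 q20986 L253593 q21981, e3 q20987 L245968 q21140, e3 q20988 L244768 q18978, e3 q20989 (flp_f L244770)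 q18207, e3 q20990 L244788 q18279, e3 q20991 (flp_f L250703) q21691, trivial⟩ (by decide +kernel)

theorem ce_f_328 : ∀ r, r < 64 → sm gf (Qf (20992 + r)) = Qf (tab Gen.f (20992 + r)) :=
  edges_tab (sm gf) Qf (tab Gen.f) 20992 [(20992, 19134), (20993, 21682), (20994, 21673), (20995, 18212), (20996, 18672), (20997, 18219), (20998, 18220), (20999, 18221), (21000, 21007), (21001, 20373), (21002, 22212), (21003, 22211), (21004, 21740), (21005, 21320), (21006, 22213), (21007, 21000), (21008, 22460), (21009, 18222), (21010, 19101), (21011, 21661), (21012, 18487), (21013, 18403), (21014, 20246), (21015, 19116), (21016, 21054), (21017, 21881), (21018, 18237), (21019, 18239), (21020, 22462), (21021, 18242), (21022, 22463), (21023, 18243), (21024, 18244), (21025, 19577), (21026, 18246), (21027, 20475), (21028, 18249), (21029, 18754), (21030, 18755), (21031, 19724), (21032, 22401), (21033, 22400), (21034, 18258), (21035, 22233), (21036, 22466), (21037, 18260), (21038, 22135), (21039, 18261), (21040, 20682), (21041, 18264),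 (21042, 22231), (21043, 21948), (21044, 20325), (21045, 21543), (21046, 18449), (21047, 18448), (21048, 20250), (21049, 22150), (21050, 21555), (21051, 22473), (21052, 18274), (21053, 20966), (21054, 21016), (21055, 19754)]
    ⟨e3 q20992 L244800 q19134, e3 q20993 (flp_f L250615) q21682, e3 q20994 (flp_f L250518) q21673, e3 q20995 (flp_f L244812) q18212, e3 q20996 L244830 q18672, e3 q20997 L244838 q18219, e3 q20998 L244844 q18220, e3 q20999 L244848 q18221, e3 q21000 (flp_f L244893) q21007, e3 q21001 L244857 q20373, e3 q21002 L255825 q22212, e3 q21003 (flp_f L255813) q22211, e3 q21004 (flp_f L251129) q21740, e3 q21005 (flp_f L247503) q21320, e3 q21006 L255841 q22213, e3 q21007 L244893 q21000, e3 q21008 L258322 q22460, e3 q21009 (flp_f L244903) q18222, e3 q21010 L244915 q19101, e3 q21011 (flp_f L250404) q21661, e3 q21012 L244933 q18487, e3 q21013 (flp_f L244943) q18403, e3 q21014 L244951 q20246, e3 q21015 (flp_f L244963) q19116, e3 q21016 (flp_f L245283) q21054, e3 q21017 (flp_f L252570) q21881, e3 q21018 (flp_f L244995)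 q18237, e3 q21019 (flp_f L244997) q18239, e3 q21020 L258348 q22462, e3 q21021 (flp_f L245007) q18242, e3 q21022 L258360 q22463, e3 q21023 (flp_f L245021) q18243, e3 q21024 (flp_f L245031) q18244, e3 q21025 (flp_f L245055) q19577, e3 q21026 (flp_f L245057) q18246, e3 q21027 L245071 q20475, e3 q21028 (flp_f L245075) q18249, e3 q21029 L245093 q18754, e3 q21030 L245103 q18755, e3 q21031 L245115 q19724, e3 q21032 (flp_f L257756) q22401, e3 q21033 (flp_f L257744) q22400, e3 q21034 (flp_f L245129) q18258, e3 q21035 (flp_f L256050) q22233, e3 q21036 L258390 q22466, e3 q21037 (flp_f L245157) q18260, e3 q21038 (flp_f L255104) q22135, e3 q21039 (flp_f L245171) q18261, e3 q21040 (flp_f L245185) q20682, e3 q21041 (flp_f L245187) q18264, e3 q21042 (flp_f L256028) q22231, e3 q21043 (flp_f L253274) q21948, e3 q21044 L245209 q20325, e3 q21045 L249440 q21543, e3 q21046 L245221 q18449, e3 q21047 L245231 q18448, e3 q21048 L245239 q20250, e3 q21049 (flp_f L255244) q22150, e3 q21050 (flp_f L249559) q21555, e3 q21051 L258474 q22473, e3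 q21052 (flp_f L245257) q18274, e3 q21053 (flp_f L245271) q20966, e3 q21054 L245283 q21016, e3 q21055 L245293 q19754, trivial⟩ (by decide +kernel)

theorem ce_f_329 : ∀ r, r < 64 → sm gf (Qf (21056 + r)) = Qf (tab Gen.f (21056 + r)) :=
  edges_tab (sm gf) Qf (tab Gen.f) 21056 [(21056, 18736), (21057, 18295), (21058, 21062), (21059, 21821), (21060, 19368), (21061, 21228), (21062, 21058), (21063, 19363), (21064, 18304), (21065, 22201), (21066, 20887), (21067, 20889), (21068, 19174), (21069, 21364), (21070, 21363), (21071, 22418), (21072, 19770), (21073, 20728), (21074, 20720), (21075, 21552), (21076, 22361), (21077, 18319), (21078, 19824), (21079, 21096), (21080, 20902), (21081, 22239), (21082, 22183), (21083, 18450), (21084, 21967), (21085, 22453), (21086, 21939), (21087, 20404), (21088, 18333), (21089, 18401), (21090, 19832), (21091, 20722), (21092, 22486), (21093, 22232), (21094, 22491), (21095, 22258), (21096, 21079), (21097, 18356), (21098, 20808), (21099, 19399), (21100, 18797), (21101, 18796), (21102, 22493),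 (21103, 22442), (21104, 18362), (21105, 22488), (21106, 22495), (21107, 19574), (21108, 18365), (21109, 22496), (21110, 22500), (21111, 22480), (21112, 18367), (21113, 18368), (21114, 18370), (21115, 18488), (21116, 22502), (21117, 21164), (21118, 21943), (21119, 20510)]
    ⟨e3 q21056 L245305 q18736, e3 q21057 (flp_f L245309) q18295, e3 q21058 (flp_f L245353) q21062, e3 q21059 (flp_f L251966) q21821, e3 q21060 L245337 q19368, e3 q21061 (flp_f L246705) q21228, e3 q21062 L245353 q21058, e3 q21063 L245365 q19363, e3 q21064 (flp_f L245369) q18304, e3 q21065 L255704 q22201, e3 q21066 L245393 q20887, e3 q21067 L245409 q20889, e3 q21068 L245421 q19174, e3 q21069 (flp_f L247938) q21364, e3 q21070 (flp_f L247928) q21363, e3 q21071 (flp_f L257916) q22418, e3 q21072 L245457 q19770, e3 q21073 L245467 q20728, e3 q21074 L245479 q20720, e3 q21075 (flp_f L249524) q21552, e3 q21076 (flp_f L257345) q22361, e3 q21077 (flp_f L245495) q18319, e3 q21078 (flp_f L245511) q19824, e3 q21079 L245633 q21096, e3 q21080 L245519 q20902, e3 q21081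 (flp_f L256116) q22239, e3 q21082 (flp_f L255516) q22183, e3 q21083 L245535 q18450, e3 q21084 (flp_f L253447) q21967, e3 q21085 (flp_f L258248) q22453, e3 q21086 L253180 q21939, e3 q21087 (flp_f L245559) q20404, e3 q21088 (flp_f L245561) q18333, e3 q21089 L245579 q18401, e3 q21090 L245589 q19832, e3 q21091 L245603 q20722, e3 q21092 L258624 q22486, e3 q21093 (flp_f L256042) q22232, e3 q21094 L258678 q22491, e3 q21095 (flp_f L256320) q22258, e3 q21096 (flp_f L245633) q21079, e3 q21097 (flp_f L245635) q18356, e3 q21098 L245643 q20808, e3 q21099 L245653 q19399, e3 q21100 L245663 q18797, e3 q21101 L245685 q18796, e3 q21102 L258706 q22493, e3 q21103 (flp_f L258129) q22442, e3 q21104 L246489 q18362, e3 q21105 (flp_f L258650) q22488, e3 q21106 L258720 q22495, e3 q21107 L245733 q19574, e3 q21108 (flp_f L245735) q18365, e3 q21109 (flp_f L258740) q22496, e3 q21110 L258770 q22500, e3 q21111 (flp_f L258556) q22480, e3 q21112 (flp_f L245763) q18367, e3 q21113 (flp_f L245767) q18368, e3 q21114 L245781 q18370, e3 q21115 (flp_f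 L245789) q18488, e3 q21116 (flp_f L258798) q22502, e3 q21117 L246172 q21164, e3 q21118 (flp_f L253226) q21943, e3 q21119 L245811 q20510, trivial⟩ (by decide +kernel)

theorem ce_f_330 : ∀ r, r < 64 → sm gf (Qf (21120 + r)) = Qf (tab Gen.f (21120 + r)) :=
  edges_tab (sm gf) Qf (tab Gen.f) 21120 [(21120, 21975), (21121, 21313), (21122, 18377), (21123, 22138), (21124, 22268), (21125, 21138), (21126, 21180), (21127, 18388), (21128, 21136), (21129, 22237), (21130, 22302), (21131, 22508), (21132, 22509), (21133, 22209), (21134, 18397), (21135, 22510), (21136, 21128), (21137, 18400), (21138, 21125), (21139, 18402), (21140, 20987), (21141, 22513), (21142, 18406), (21143, 21864), (21144, 22197), (21145, 18408), (21146, 18421), (21147, 18418), (21148, 20233), (21149, 21766), (21150, 22216), (21151, 20489), (21152, 20488), (21153, 20686), (21154, 19112), (21155, 21220), (21156, 20907), (21157, 21221), (21158, 22133), (21159, 21224), (21160, 21225), (21161, 22522), (21162, 22398), (21163, 18516), (21164, 21117), (21165, 18430),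 (21166, 22504), (21167, 22503), (21168, 18431), (21169, 21430), (21170, 22425), (21171, 22527), (21172, 22124), (21173, 22255), (21174, 18436), (21175, 19848), (21176, 22184), (21177, 18445), (21178, 21542), (21179, 22194), (21180, 21126), (21181, 18459), (21182, 19656), (21183, 22529)]
    ⟨e3 q21120 (flp_f L253521) q21975, e3 q21121 L247435 q21313, e3 q21122 (flp_f L245833) q18377, e3 q21123 (flp_f L255134) q22138, e3 q21124 L256444 q22268, e3 q21125 L245952 q21138, e3 q21126 L246302 q21180, e3 q21127 (flp_f L245871) q18388, e3 q21128 L245936 q21136, e3 q21129 (flp_f L256092) q22237, e3 q21130 (flp_f L256794) q22302, e3 q21131 L258860 q22508, e3 q21132 L258872 q22509, e3 q21133 (flp_f L255798) q22209, e3 q21134 (flp_f L245923) q18397, e3 q21135 L258880 q22510, e3 q21136 (flp_f L245936) q21128, e3 q21137 (flp_f L245938) q18400, e3 q21138 (flp_f L245952) q21125, e3 q21139 (flp_f L245954) q18402, e3 q21140 (flp_f L245968) q20987, e3 q21141 L258915 q22513, e3 q21142 (flp_f L245980) q18406, e3 q21143 L252385 q21864,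 e3 q21144 L255654 q22197, e3 q21145 (flp_f L246014) q18408, e3 q21146 L246024 q18421, e3 q21147 L246036 q18418, e3 q21148 L246044 q20233, e3 q21149 (flp_f L251377) q21766, e3 q21150 L255873 q22216, e3 q21151 L246058 q20489, e3 q21152 L246068 q20488, e3 q21153 L246078 q20686, e3 q21154 L246090 q19112, e3 q21155 (flp_f L246637) q21220, e3 q21156 L246108 q20907, e3 q21157 (flp_f L246643) q21221, e3 q21158 (flp_f L255076) q22133, e3 q21159 (flp_f L246679) q21224, e3 q21160 (flp_f L246687) q21225, e3 q21161 L259021 q22522, e3 q21162 (flp_f L257724) q22398, e3 q21163 L246162 q18516, e3 q21164 (flp_f L246172) q21117, e3 q21165 (flp_f L246174) q18430, e3 q21166 L258824 q22504, e3 q21167 L258812 q22503, e3 q21168 (flp_f L246192) q18431, e3 q21169 (flp_f L248491) q21430, e3 q21170 (flp_f L257982) q22425, e3 q21171 L259073 q22527, e3 q21172 (flp_f L254972) q22124, e3 q21173 (flp_f L256282) q22255, e3 q21174 (flp_f L246234) q18436, e3 q21175 (flp_f L246252) q19848, e3 q21176 (flp_f L255526) q22184, e3 q21177 (flp_f L246266)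 q18445, e3 q21178 L249426 q21542, e3 q21179 L255618 q22194, e3 q21180 (flp_f L246302) q21126, e3 q21181 L246312 q18459, e3 q21182 L246322 q19656, e3 q21183 (flp_f L259099) q22529, trivial⟩ (by decide +kernel)

theorem ce_f_331 : ∀ r, r < 64 → sm gf (Qf (21184 + r)) = Qf (tab Gen.f (21184 + r)) :=
  edges_tab (sm gf) Qf (tab Gen.f) 21184 [(21184, 18455), (21185, 22530), (21186, 21187), (21187, 21186), (21188, 18461), (21189, 18462), (21190, 20530), (21191, 20142), (21192, 19658), (21193, 19660), (21194, 21936), (21195, 21289), (21196, 22481), (21197, 22430), (21198, 18472), (21199, 18474), (21200, 21392), (21201, 20883), (21202, 18480), (21203, 21309), (21204, 22537), (21205, 22497), (21206, 18485), (21207, 22538), (21208, 22461), (21209, 18490), (21210, 21307), (21211, 22540), (21212, 22235), (21213, 19367), (21214, 21822), (21215, 18500), (21216, 20950), (21217, 21288), (21218, 21986), (21219, 20213), (21220, 21155), (21221, 21157), (21222, 22455), (21223, 20891), (21224, 21159), (21225, 21160), (21226, 19359),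 (21227, 22341), (21228, 21061), (21229, 22475), (21230, 22553), (21231, 18517), (21232, 21532), (21233, 22554), (21234, 18521), (21235, 20795), (21236, 19376), (21237, 21301), (21238, 22236), (21239, 19785), (21240, 19906), (21241, 22263), (21242, 21995), (21243, 19797), (21244, 20421), (21245, 19786), (21246, 20418), (21247, 19582)]
    ⟨e3 q21184 (flp_f L246334) q18455, e3 q21185 (flp_f L259113) q22530, e3 q21186 L246349 q21187, e3 q21187 (flp_f L246349) q21186, e3 q21188 (flp_f L246351) q18461, e3 q21189 (flp_f L246357) q18462, e3 q21190 L246373 q20530, e3 q21191 L246385 q20142, e3 q21192 L246395 q19658, e3 q21193 L246407 q19660, e3 q21194 (flp_f L253146) q21936, e3 q21195 L247223 q21289, e3 q21196 (flp_f L258568) q22481, e3 q21197 (flp_f L258016) q22430, e3 q21198 (flp_f L246443) q18472, e3 q21199 (flp_f L246451) q18474, e3 q21200 L248169 q21392, e3 q21201 (flp_f L246483) q20883, e3 q21202 (flp_f L246491) q18480, e3 q21203 (flp_f L247399) q21309, e3 q21204 L259188 q22537, e3 q21205 L258752 q22497, e3 q21206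 (flp_f L246523) q18485, e3 q21207 (flp_f L259206) q22538, e3 q21208 (flp_f L258340) q22461, e3 q21209 L246547 q18490, e3 q21210 L247381 q21307, e3 q21211 (flp_f L259224) q22540, e3 q21212 (flp_f L256068) q22235, e3 q21213 L246569 q19367, e3 q21214 L251980 q21822, e3 q21215 L246585 q18500, e3 q21216 L246597 q20950, e3 q21217 (flp_f L247219) q21288, e3 q21218 (flp_f L253639) q21986, e3 q21219 (flp_f L246627) q20213, e3 q21220 L246637 q21155, e3 q21221 L246643 q21157, e3 q21222 (flp_f L258270) q22455, e3 q21223 L246671 q20891, e3 q21224 L246679 q21159, e3 q21225 L246687 q21160, e3 q21226 (flp_f L246695) q19359, e3 q21227 (flp_f L257139) q22341, e3 q21228 L246705 q21061, e3 q21229 L258506 q22475, e3 q21230 L259360 q22553, e3 q21231 (flp_f L246717) q18517, e3 q21232 (flp_f L249343) q21532, e3 q21233 L259372 q22554, e3 q21234 (flp_f L246737) q18521, e3 q21235 L246753 q20795, e3 q21236 L246767 q19376, e3 q21237 (flp_f L247317) q21301, e3 q21238 (flp_f L256078) q22236, e3 q21239 L246791 q19785, e3 q21240 L246803 q19906,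 e3 q21241 L256382 q22263, e3 q21242 L253721 q21995, e3 q21243 L246827 q19797, e3 q21244 L246837 q20421, e3 q21245 L246847 q19786, e3 q21246 L246859 q20418, e3 q21247 L246869 q19582, trivial⟩ (by decide +kernel)

theorem ce_f_332 : ∀ r, r < 64 → sm gf (Qf (21248 + r)) = Qf (tab Gen.f (21248 + r)) :=
  edges_tab (sm gf) Qf (tab Gen.f) 21248 [(21248, 18566), (21249, 21890), (21250, 18575), (21251, 19914), (21252, 18579), (21253, 19703), (21254, 21957), (21255, 22078), (21256, 20276), (21257, 22474), (21258, 22104), (21259, 19533), (21260, 18597), (21261, 20744), (21262, 20596), (21263, 20610), (21264, 22126), (21265, 19679), (21266, 21969), (21267, 22561), (21268, 18622), (21269, 21962), (21270, 20224), (21271, 20256), (21272, 18627), (21273, 21527), (21274, 21793), (21275, 22177), (21276, 22178), (21277, 22565), (21278, 18838), (21279, 18640), (21280, 21657), (21281, 19090), (21282, 19091), (21283, 22431), (21284, 18648), (21285, 21824), (21286, 18649), (21287, 22203), (21288, 21217), (21289, 21195), (21290, 18762),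 (21291, 22004), (21292, 21908), (21293, 21293), (21294, 21294), (21295, 21335), (21296, 21336), (21297, 21297), (21298, 19646), (21299, 18667), (21300, 18972), (21301, 21237), (21302, 18677), (21303, 18678), (21304, 18680), (21305, 21384), (21306, 18681), (21307, 21210), (21308, 18683), (21309, 21203), (21310, 22457), (21311, 18685)]
    ⟨e3 q21248 (flp_f L246871) q18566, e3 q21249 (flp_f L252658) q21890, e3 q21250 L246899 q18575, e3 q21251 L246911 q19914, e3 q21252 L246921 q18579, e3 q21253 L246927 q19703, e3 q21254 L253353 q21957, e3 q21255 (flp_f L254588) q22078, e3 q21256 L246955 q20276, e3 q21257 (flp_f L258494) q22474, e3 q21258 (flp_f L254812) q22104, e3 q21259 (flp_f L246987) q19533, e3 q21260 (flp_f L246989) q18597, e3 q21261 L247009 q20744, e3 q21262 L247019 q20596, e3 q21263 L247031 q20610, e3 q21264 L254998 q22126, e3 q21265 (flp_f L247051) q19679, e3 q21266 (flp_f L253469) q21969, e3 q21267 L259442 q22561, e3 q21268 (flp_f L247059) q18622, e3 q21269 (flp_f L253391) q21962, e3 q21270 (flp_f L247081)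 q20224, e3 q21271 (flp_f L247093) q20256, e3 q21272 (flp_f L247095) q18627, e3 q21273 (flp_f L249296) q21527, e3 q21274 (flp_f L251674) q21793, e3 q21275 (flp_f L255470) q22177, e3 q21276 (flp_f L255476) q22178, e3 q21277 L259484 q22565, e3 q21278 L247138 q18838, e3 q21279 (flp_f L247142) q18640, e3 q21280 L250358 q21657, e3 q21281 L247170 q19090, e3 q21282 L247176 q19091, e3 q21283 (flp_f L258028) q22431, e3 q21284 (flp_f L247187) q18648, e3 q21285 L251996 q21824, e3 q21286 (flp_f L247197) q18649, e3 q21287 (flp_f L255726) q22203, e3 q21288 L247219 q21217, e3 q21289 (flp_f L247223) q21195, e3 q21290 L247227 q18762, e3 q21291 (flp_f L253804) q22004, e3 q21292 (flp_f L252844) q21908, e3 q21293 L247252 q21293, e3 q21294 L247258 q21294, e3 q21295 (flp_f L247663) q21335, e3 q21296 (flp_f L247669) q21336, e3 q21297 L247281 q21297, e3 q21298 L247292 q19646, e3 q21299 (flp_f L247297) q18667, e3 q21300 L247311 q18972, e3 q21301 L247317 q21237, e3 q21302 (flp_f L247323) q18677, e3 q21303 (flp_f L247335) q18678, e3 q21304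 (flp_f L247347) q18680, e3 q21305 L248111 q21384, e3 q21306 (flp_f L247367) q18681, e3 q21307 (flp_f L247381) q21210, e3 q21308 (flp_f L247383) q18683, e3 q21309 L247399 q21203, e3 q21310 L258294 q22457, e3 q21311 (flp_f L247411) q18685, trivial⟩ (by decide +kernel)

theorem ce_f_333 : ∀ r, r < 64 → sm gf (Qf (21312 + r)) = Qf (tab Gen.f (21312 + r)) :=
  edges_tab (sm gf) Qf (tab Gen.f) 21312 [(21312, 20713), (21313, 21121), (21314, 20140), (21315, 19950), (21316, 19269), (21317, 21426), (21318, 22220), (21319, 20521), (21320, 21005), (21321, 20236), (21322, 22402), (21323, 19263), (21324, 19266), (21325, 19472), (21326, 21789), (21327, 22085), (21328, 19962), (21329, 21880), (21330, 19337), (21331, 20570), (21332, 21332), (21333, 18713), (21334, 22573), (21335, 21295), (21336, 21296), (21337, 19707), (21338, 21592), (21339, 22073), (21340, 20034), (21341, 18723), (21342, 22484), (21343, 18725), (21344, 20853), (21345, 19171), (21346, 18729), (21347, 20939), (21348, 18732), (21349, 20053), (21350, 22242), (21351,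 19283), (21352, 20648), (21353, 22444), (21354, 18738), (21355, 21418), (21356, 22448), (21357, 18743), (21358, 18760), (21359, 18750), (21360, 21917), (21361, 18751), (21362, 21451), (21363, 21070), (21364, 21069), (21365, 22141), (21366, 19065), (21367, 22363), (21368, 21847), (21369, 19866), (21370, 18764), (21371, 18770), (21372, 22417), (21373, 22421), (21374, 18771), (21375, 18772)]
    ⟨e3 q21312 L247421 q20713, e3 q21313 (flp_f L247435) q21121, e3 q21314 (flp_f L247447) q20140, e3 q21315 L247459 q19950, e3 q21316 L247469 q19269, e3 q21317 (flp_f L248455) q21426, e3 q21318 (flp_f L255909) q22220, e3 q21319 (flp_f L247493) q20521, e3 q21320 L247503 q21005, e3 q21321 L247517 q20236, e3 q21322 (flp_f L257768) q22402, e3 q21323 L247529 q19263, e3 q21324 L247543 q19266, e3 q21325 L247555 q19472, e3 q21326 (flp_f L251626) q21789, e3 q21327 (flp_f L254648) q22085, e3 q21328 L247588 q19962, e3 q21329 L252562 q21880, e3 q21330 L247614 q19337, e3 q21331 L247626 q20570, e3 q21332 L247640 q21332, e3 q21333 L247648 q18713,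 e3 q21334 (flp_f L259564) q22573, e3 q21335 L247663 q21295, e3 q21336 L247669 q21296, e3 q21337 L247681 q19707, e3 q21338 (flp_f L249827) q21592, e3 q21339 (flp_f L254552) q22073, e3 q21340 L247717 q20034, e3 q21341 (flp_f L247721) q18723, e3 q21342 (flp_f L258604) q22484, e3 q21343 (flp_f L247735) q18725, e3 q21344 L247749 q20853, e3 q21345 L247767 q19171, e3 q21346 (flp_f L247771) q18729, e3 q21347 (flp_f L247789) q20939, e3 q21348 (flp_f L247791) q18732, e3 q21349 (flp_f L247811) q20053, e3 q21350 (flp_f L256152) q22242, e3 q21351 L247827 q19283, e3 q21352 L247833 q20648, e3 q21353 L258151 q22444, e3 q21354 (flp_f L247845) q18738, e3 q21355 L248391 q21418, e3 q21356 (flp_f L258199) q22448, e3 q21357 (flp_f L247875) q18743, e3 q21358 L247893 q18760, e3 q21359 (flp_f L247896) q18750, e3 q21360 (flp_f L252942) q21917, e3 q21361 (flp_f L247912) q18751, e3 q21362 (flp_f L248678) q21451, e3 q21363 L247928 q21070, e3 q21364 L247938 q21069, e3 q21365 (flp_f L255166) q22141, e3 q21366 (flp_f L247954) q19065, e3 q21367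 (flp_f L257365) q22363, e3 q21368 (flp_f L252223) q21847, e3 q21369 (flp_f L247973) q19866, e3 q21370 (flp_f L247977) q18764, e3 q21371 L247997 q18770, e3 q21372 L257906 q22417, e3 q21373 L257948 q22421, e3 q21374 (flp_f L248017) q18771, e3 q21375 (flp_f L248027) q18772, trivial⟩ (by decide +kernel)

theorem ce_f_334 : ∀ r, r < 64 → sm gf (Qf (21376 + r)) = Qf (tab Gen.f (21376 + r)) :=
  edges_tab (sm gf) Qf (tab Gen.f) 21376 [(21376, 22535), (21377, 18776), (21378, 18774), (21379, 21895), (21380, 18858), (21381, 19614), (21382, 19502), (21383, 19501), (21384, 21305), (21385, 22584), (21386, 22501), (21387, 20463), (21388, 22541), (21389, 22587), (21390, 22589), (21391, 18783), (21392, 21200), (21393, 18784), (21394, 22590), (21395, 18785), (21396, 21756), (21397, 18786), (21398, 18787), (21399, 22092), (21400, 20844), (21401, 19102), (21402, 20901), (21403, 22357), (21404, 18801), (21405, 19408), (21406, 18935), (21407, 21504), (21408, 20963), (21409, 22413), (21410, 21529), (21411, 18808), (21412, 18811), (21413,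 18813), (21414, 19884), (21415, 18815), (21416, 20951), (21417, 20955), (21418, 21355), (21419, 18823), (21420, 21805), (21421, 20540), (21422, 18846), (21423, 21445), (21424, 18826), (21425, 21444), (21426, 21317), (21427, 20468), (21428, 18829), (21429, 22250), (21430, 21169), (21431, 18832), (21432, 18834), (21433, 20857), (21434, 22598), (21435, 22391), (21436, 22603), (21437, 18835), (21438, 22518), (21439, 21441)]
    ⟨e3 q21376 (flp_f L259168) q22535, e3 q21377 L248047 q18776, e3 q21378 (flp_f L248053) q18774, e3 q21379 L252724 q21895, e3 q21380 (flp_f L248071) q18858, e3 q21381 L248077 q19614, e3 q21382 L248083 q19502, e3 q21383 L248095 q19501, e3 q21384 (flp_f L248111) q21305, e3 q21385 L259660 q22584, e3 q21386 L258792 q22501, e3 q21387 (flp_f L248135) q20463, e3 q21388 (flp_f L259236) q22541, e3 q21389 L259694 q22587, e3 q21390 L259712 q22589, e3 q21391 (flp_f L248157) q18783, e3 q21392 (flp_f L248169) q21200, e3 q21393 (flp_f L248171) q18784, e3 q21394 L259730 q22590, e3 q21395 (flp_f L248191) q18785,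 e3 q21396 (flp_f L251281) q21756, e3 q21397 (flp_f L248211) q18786, e3 q21398 (flp_f L248219) q18787, e3 q21399 (flp_f L254708) q22092, e3 q21400 (flp_f L248241) q20844, e3 q21401 L248249 q19102, e3 q21402 (flp_f L248259) q20901, e3 q21403 (flp_f L257295) q22357, e3 q21404 (flp_f L248274) q18801, e3 q21405 L248288 q19408, e3 q21406 (flp_f L248296) q18935, e3 q21407 (flp_f L249094) q21504, e3 q21408 L248306 q20963, e3 q21409 L257868 q22413, e3 q21410 (flp_f L249315) q21529, e3 q21411 (flp_f L248322) q18808, e3 q21412 L248338 q18811, e3 q21413 (flp_f L248341) q18813, e3 q21414 (flp_f L248351) q19884, e3 q21415 (flp_f L248355) q18815, e3 q21416 (flp_f L248375) q20951, e3 q21417 L248381 q20955, e3 q21418 (flp_f L248391) q21355, e3 q21419 (flp_f L248395) q18823, e3 q21420 (flp_f L251818) q21805, e3 q21421 (flp_f L248413) q20540, e3 q21422 L248421 q18846, e3 q21423 (flp_f L248619) q21445, e3 q21424 (flp_f L248431) q18826, e3 q21425 (flp_f L248609) q21444, e3 q21426 L248455 q21317, e3 q21427 (flp_f L248469) q20468, e3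 q21428 (flp_f L248471) q18829, e3 q21429 (flp_f L256232) q22250, e3 q21430 L248491 q21169, e3 q21431 (flp_f L248495) q18832, e3 q21432 L248513 q18834, e3 q21433 L248521 q20857, e3 q21434 (flp_f L259810) q22598, e3 q21435 (flp_f L257646) q22391, e3 q21436 L259858 q22603, e3 q21437 (flp_f L248541) q18835, e3 q21438 (flp_f L258975) q22518, e3 q21439 L248587 q21441, trivial⟩ (by decide +kernel)

theorem ce_f_335 : ∀ r, r < 64 → sm gf (Qf (21440 + r)) = Qf (tab Gen.f (21440 + r)) :=
  edges_tab (sm gf) Qf (tab Gen.f) 21440 [(21440, 20855), (21441, 21439), (21442, 19814), (21443, 22204), (21444, 21425), (21445, 21423), (21446, 18843), (21447, 18847), (21448, 18862), (21449, 18864), (21450, 18855), (21451, 21362), (21452, 21479), (21453, 18852), (21454, 22607), (21455, 22038), (21456, 22317), (21457, 19611), (21458, 19881), (21459, 20383), (21460, 22043), (21461, 20578), (21462, 22507), (21463, 18866), (21464, 18875), (21465, 18872), (21466, 21489), (21467, 21468), (21468, 21467), (21469, 18891), (21470, 18893), (21471,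 22309), (21472, 22310), (21473, 22311), (21474, 21514), (21475, 20776), (21476, 20777), (21477, 20778), (21478, 21518), (21479, 21452), (21480, 22292), (21481, 22313), (21482, 20040), (21483, 21483), (21484, 22611), (21485, 21485), (21486, 22010), (21487, 20151), (21488, 22072), (21489, 21466), (21490, 20018), (21491, 20020), (21492, 20550), (21493, 21841), (21494, 19871), (21495, 18917), (21496, 21935), (21497, 22023), (21498, 18910), (21499, 20552), (21500, 21519), (21501, 22070), (21502, 21521), (21503, 21523)]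
    ⟨e3 q21440 L248575 q20855, e3 q21441 (flp_f L248587) q21439, e3 q21442 L248597 q19814, e3 q21443 (flp_f L255740) q22204, e3 q21444 L248609 q21425, e3 q21445 L248619 q21423, e3 q21446 (flp_f L248622) q18843, e3 q21447 (flp_f L248632) q18847, e3 q21448 L248648 q18862, e3 q21449 L248658 q18864, e3 q21450 L248666 q18855, e3 q21451 L248678 q21362, e3 q21452 L248894 q21479, e3 q21453 (flp_f L248688) q18852, e3 q21454 (flp_f L259912) q22607, e3 q21455 (flp_f L254140) q22038, e3 q21456 (flp_f L256939) q22317, e3 q21457 L248720 q19611, e3 q21458 L248728 q19881, e3 q21459 L248736 q20383, e3 q21460 (flp_f L254196) q22043, e3 q21461 L248748 q20578, e3 q21462 L258858 q22507, e3 q21463 (flp_f L248756) q18866, e3 q21464 L248768 q18875, e3 q21465 (flp_f L248770) q18872, e3 q21466 L248974 q21489, e3 q21467 (flp_f L248804) q21468, e3 q21468 L248804 q21467, e3 q21469 L248820 q18891, e3 q21470 (flp_f L248832) q18893, e3 q21471 (flp_f L256870) q22309, e3 q21472 (flp_f L256878) q22310, e3 q21473 (flp_f L256884) q22311, e3 q21474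 (flp_f L249188) q21514, e3 q21475 L248856 q20776, e3 q21476 L248862 q20777, e3 q21477 L248872 q20778, e3 q21478 (flp_f L249216) q21518, e3 q21479 (flp_f L248894) q21452, e3 q21480 (flp_f L256695) q22292, e3 q21481 (flp_f L256896) q22313, e3 q21482 L248914 q20040, e3 q21483 L248922 q21483, e3 q21484 L259968 q22611, e3 q21485 L248939 q21485, e3 q21486 (flp_f L253858) q22010, e3 q21487 L248952 q20151, e3 q21488 (flp_f L254538) q22072, e3 q21489 (flp_f L248974) q21466, e3 q21490 L248984 q20018, e3 q21491 L248994 q20020, e3 q21492 L249004 q20550, e3 q21493 (flp_f L252162) q21841, e3 q21494 L249024 q19871, e3 q21495 L249032 q18917, e3 q21496 (flp_f L253132) q21935, e3 q21497 L253990 q22023, e3 q21498 (flp_f L249044) q18910, e3 q21499 L249058 q20552, e3 q21500 L249230 q21519, e3 q21501 L254518 q22070, e3 q21502 (flp_f L249250) q21521, e3 q21503 (flp_f L249264) q21523, trivial⟩ (by decide +kernel)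

theorem ce_f_336 : ∀ r, r < 64 → sm gf (Qf (21504 + r)) = Qf (tab Gen.f (21504 + r)) :=
  edges_tab (sm gf) Qf (tab Gen.f) 21504 [(21504, 21407), (21505, 21522), (21506, 21525), (21507, 20580), (21508, 18944), (21509, 22625), (21510, 18946), (21511, 18930), (21512, 18931), (21513, 22628), (21514, 21474), (21515, 22630), (21516, 18936), (21517, 22631), (21518, 21478), (21519, 21500), (21520, 18938), (21521, 21502), (21522, 21505), (21523, 21503), (21524, 20171), (21525, 21506), (21526, 20690), (21527, 21273), (21528, 18951), (21529, 21410), (21530, 18961), (21531, 21547), (21532, 21232), (21533, 18998), (21534, 18997), (21535, 22636), (21536, 22206), (21537, 18963), (21538, 20129), (21539, 20251), (21540, 18964), (21541, 22207), (21542, 21178), (21543, 21045), (21544, 18966), (21545, 18967), (21546, 18976), (21547, 21531), (21548, 22385), (21549, 19810), (21550, 21595), (21551, 19224), (21552, 21075), (21553, 22185), (21554, 22223), (21555, 21050), (21556, 19207), (21557, 19652), (21558, 22642), (21559, 18990),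 (21560, 19021), (21561, 19023), (21562, 19026), (21563, 20967), (21564, 20968), (21565, 22645), (21566, 22647), (21567, 19001)]
    ⟨e3 q21504 L249094 q21407, e3 q21505 (flp_f L249258) q21522, e3 q21506 (flp_f L249283) q21525, e3 q21507 (flp_f L249118) q20580, e3 q21508 (flp_f L249132) q18944, e3 q21509 L260094 q22625, e3 q21510 (flp_f L249156) q18946, e3 q21511 (flp_f L249158) q18930, e3 q21512 (flp_f L249170) q18931, e3 q21513 L260126 q22628, e3 q21514 L249188 q21474, e3 q21515 L260144 q22630, e3 q21516 (flp_f L249194) q18936, e3 q21517 L260152 q22631, e3 q21518 L249216 q21478, e3 q21519 (flp_f L249230) q21500, e3 q21520 (flp_f L249232) q18938, e3 q21521 L249250 q21502, e3 q21522 L249258 q21505, e3 q21523 L249264 q21503, e3 q21524 L249274 q20171, e3 q21525 L249283 q21506, e3 q21526 L249289 q20690, e3 q21527 L249296 q21273, e3 q21528 (flp_f L249298) q18951, e3 q21529 L249315 q21410, e3 q21530 L249325 q18961, e3 q21531 (flp_f L249480) q21547, e3 q21532 L249343 q21232, e3 q21533 L249347 q18998, e3 q21534 L249357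 q18997, e3 q21535 L260210 q22636, e3 q21536 (flp_f L255764) q22206, e3 q21537 (flp_f L249371) q18963, e3 q21538 L249382 q20129, e3 q21539 L249392 q20251, e3 q21540 (flp_f L249394) q18964, e3 q21541 (flp_f L255775) q22207, e3 q21542 (flp_f L249426) q21178, e3 q21543 (flp_f L249440) q21045, e3 q21544 (flp_f L249442) q18966, e3 q21545 (flp_f L249456) q18967, e3 q21546 L249472 q18976, e3 q21547 L249480 q21531, e3 q21548 L257594 q22385, e3 q21549 (flp_f L249502) q19810, e3 q21550 (flp_f L249861) q21595, e3 q21551 L249516 q19224, e3 q21552 L249524 q21075, e3 q21553 L255536 q22185, e3 q21554 L255944 q22223, e3 q21555 L249559 q21050, e3 q21556 L249573 q19207, e3 q21557 (flp_f L249581) q19652, e3 q21558 L260260 q22642, e3 q21559 (flp_f L249587) q18990, e3 q21560 L249603 q19021, e3 q21561 L249609 q19023, e3 q21562 L249619 q19026, e3 q21563 L249629 q20967, e3 q21564 L249639 q20968, e3 q21565 L260292 q22645, e3 q21566 L260313 q22647, e3 q21567 (flp_f L249657) q19001, trivial⟩ (by decide +kernel)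

theorem ce_f_337 : ∀ r, r < 64 → sm gf (Qf (21568 + r)) = Qf (tab Gen.f (21568 + r)) :=
  edges_tab (sm gf) Qf (tab Gen.f) 21568 [(21568, 22520), (21569, 22468), (21570, 19002), (21571, 21593), (21572, 19009), (21573, 21989), (21574, 21645), (21575, 22650), (21576, 19010), (21577, 21615), (21578, 21644), (21579, 19013), (21580, 21585), (21581, 19649), (21582, 22652), (21583, 19018), (21584, 19205), (21585, 21580), (21586, 22643), (21587, 21613), (21588, 19567), (21589, 21617), (21590, 20221), (21591, 21625), (21592, 21338), (21593, 21571), (21594, 19728), (21595, 21550), (21596, 19030), (21597, 21738), (21598, 21715), (21599, 21716), (21600, 21741), (21601, 21857), (21602, 19041), (21603, 21610), (21604, 21930), (21605, 19045), (21606, 22662), (21607, 21687), (21608, 19047), (21609, 19056), (21610, 21603), (21611, 19049), (21612, 21728), (21613, 21587), (21614, 19062), (21615, 21577), (21616, 20228), (21617, 21589), (21618, 21619), (21619, 21618), (21620, 19083), (21621, 19084), (21622, 19103), (21623, 21648),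 (21624, 19087), (21625, 21591), (21626, 22667), (21627, 19088), (21628, 22227), (21629, 21629), (21630, 21630), (21631, 22676)]
    ⟨e3 q21568 (flp_f L259007) q22520, e3 q21569 (flp_f L258418) q22468, e3 q21570 (flp_f L249671) q19002, e3 q21571 (flp_f L249841) q21593, e3 q21572 L249691 q19009, e3 q21573 L253659 q21989, e3 q21574 (flp_f L250250) q21645, e3 q21575 L260351 q22650, e3 q21576 (flp_f L249719) q19010, e3 q21577 (flp_f L250013) q21615, e3 q21578 L250242 q21644, e3 q21579 (flp_f L249733) q19013, e3 q21580 (flp_f L249787) q21585, e3 q21581 (flp_f L249753) q19649, e3 q21582 L260365 q22652, e3 q21583 (flp_f L249765) q19018, e3 q21584 L249781 q19205, e3 q21585 L249787 q21580, e3 q21586 (flp_f L260278) q22643, e3 q21587 (flp_f L249991) q21613, e3 q21588 L249801 q19567, e3 q21589 (flp_f L250019) q21617, e3 q21590 L249813 q20221, e3 q21591 L250087 q21625, e3 q21592 L249827 q21338, e3 q21593 L249841 q21571, e3 q21594 L249853 q19728, e3 q21595 L249861 q21550, e3 q21596 (flp_f L249865) q19030, e3 q21597 L251111 q21738,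 e3 q21598 (flp_f L250894) q21715, e3 q21599 (flp_f L250903) q21716, e3 q21600 (flp_f L251135) q21741, e3 q21601 L252313 q21857, e3 q21602 (flp_f L249907) q19041, e3 q21603 L249971 q21610, e3 q21604 L253078 q21930, e3 q21605 (flp_f L249929) q19045, e3 q21606 L260454 q22662, e3 q21607 (flp_f L250663) q21687, e3 q21608 (flp_f L249951) q19047, e3 q21609 L249965 q19056, e3 q21610 (flp_f L249971) q21603, e3 q21611 (flp_f L249973) q19049, e3 q21612 (flp_f L251019) q21728, e3 q21613 L249991 q21587, e3 q21614 L249995 q19062, e3 q21615 L250013 q21577, e3 q21616 L250005 q20228, e3 q21617 L250019 q21589, e3 q21618 (flp_f L250035) q21619, e3 q21619 L250035 q21618, e3 q21620 L250047 q19083, e3 q21621 (flp_f L250059) q19084, e3 q21622 L250063 q19103, e3 q21623 (flp_f L250272) q21648, e3 q21624 (flp_f L250077) q19087, e3 q21625 (flp_f L250087) q21591, e3 q21626 (flp_f L260504) q22667, e3 q21627 (flp_f L250099) q19088, e3 q21628 (flp_f L255986) q22227, e3 q21629 L250113 q21629, e3 q21630 L250120 q21630, e3 q21631 L260577 q22676,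 trivial⟩ (by decide +kernel)

theorem ce_f_338 : ∀ r, r < 64 → sm gf (Qf (21632 + r)) = Qf (tab Gen.f (21632 + r)) :=
  edges_tab (sm gf) Qf (tab Gen.f) 21632 [(21632, 19067), (21633, 22677), (21634, 19069), (21635, 21743), (21636, 19075), (21637, 19077), (21638, 19078), (21639, 21849), (21640, 19073), (21641, 22678), (21642, 19354), (21643, 21744), (21644, 21578), (21645, 21574), (21646, 22670), (21647, 22685), (21648, 21623), (21649, 19161), (21650, 22688), (21651, 19086), (21652, 22000), (21653, 21654), (21654, 21653), (21655, 21714), (21656, 20244), (21657, 21280), (21658, 21659), (21659, 21658), (21660, 22690), (21661, 21011), (21662, 19716), (21663, 21942), (21664, 22452), (21665, 22451), (21666, 22672), (21667, 21667), (21668, 21669), (21669, 21668), (21670, 20242), (21671, 20308), (21672, 20307), (21673, 20994), (21674, 20239), (21675, 20122), (21676, 20970), (21677, 20306), (21678, 19111), (21679, 19148), (21680, 19121), (21681, 20285), (21682, 20993), (21683, 19127), (21684, 21684), (21685, 19450), (21686,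 21700), (21687, 21607), (21688, 21692), (21689, 19136), (21690, 19137), (21691, 20991), (21692, 21688), (21693, 19162), (21694, 22536), (21695, 22003)]
    ⟨e3 q21632 (flp_f L250135) q19067, e3 q21633 L260590 q22677, e3 q21634 (flp_f L250153) q19069, e3 q21635 (flp_f L251157) q21743, e3 q21636 L250173 q19075, e3 q21637 L250181 q19077, e3 q21638 L250187 q19078, e3 q21639 (flp_f L252245) q21849, e3 q21640 (flp_f L250198) q19073, e3 q21641 (flp_f L260608) q22678, e3 q21642 (flp_f L250224) q19354, e3 q21643 (flp_f L251169) q21744, e3 q21644 (flp_f L250242) q21578, e3 q21645 L250250 q21574, e3 q21646 L260536 q22670, e3 q21647 L260679 q22685, e3 q21648 L250272 q21623, e3 q21649 L250282 q19161, e3 q21650 L260713 q22688, e3 q21651 (flp_f L250292) q19086, e3 q21652 L253764 q22000, e3 q21653 (flp_f L250322) q21654, e3 q21654 L250322 q21653, e3 q21655 (flp_f L250887) q21714, e3 q21656 L250342 q20244, e3 q21657 (flp_f L250358) q21280, e3 q21658 (flp_f L250378) q21659, e3 q21659 L250378 q21658, e3 q21660 L260739 q22690, e3 q21661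 L250404 q21011, e3 q21662 L250414 q19716, e3 q21663 (flp_f L253216) q21942, e3 q21664 (flp_f L258236) q22452, e3 q21665 (flp_f L258222) q22451, e3 q21666 (flp_f L260554) q22672, e3 q21667 L250446 q21667, e3 q21668 (flp_f L250474) q21669, e3 q21669 L250474 q21668, e3 q21670 (flp_f L250488) q20242, e3 q21671 L250498 q20308, e3 q21672 L250506 q20307, e3 q21673 L250518 q20994, e3 q21674 L250536 q20239, e3 q21675 (flp_f L250548) q20122, e3 q21676 L250554 q20970, e3 q21677 (flp_f L250564) q20306, e3 q21678 (flp_f L250566) q19111, e3 q21679 L250584 q19148, e3 q21680 L250593 q19121, e3 q21681 L250603 q20285, e3 q21682 L250615 q20993, e3 q21683 (flp_f L250623) q19127, e3 q21684 L250636 q21684, e3 q21685 (flp_f L250647) q19450, e3 q21686 (flp_f L250771) q21700, e3 q21687 L250663 q21607, e3 q21688 (flp_f L250711) q21692, e3 q21689 (flp_f L250679) q19136, e3 q21690 (flp_f L250687) q19137, e3 q21691 L250703 q20991, e3 q21692 L250711 q21688, e3 q21693 (flp_f L250721) q19162, e3 q21694 (flp_f L259184) q22536, e3 q21695 (flp_f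 L253796) q22003, trivial⟩ (by decide +kernel)

theorem ce_f_339 : ∀ r, r < 64 → sm gf (Qf (21696 + r)) = Qf (tab Gen.f (21696 + r)) :=
  edges_tab (sm gf) Qf (tab Gen.f) 21696 [(21696, 19141), (21697, 19163), (21698, 19167), (21699, 19684), (21700, 21686), (21701, 19159), (21702, 21812), (21703, 19152), (21704, 19158), (21705, 22701), (21706, 21750), (21707, 22684), (21708, 21751), (21709, 22591), (21710, 19801), (21711, 22699), (21712, 22478), (21713, 22134), (21714, 21655), (21715, 21598), (21716, 21599), (21717, 19453), (21718, 19438), (21719, 19178), (21720, 21725), (21721, 19430), (21722, 19182), (21723, 21854), (21724, 19651), (21725, 21720), (21726, 21752), (21727, 19186), (21728, 21612), (21729, 21753), (21730, 21757), (21731, 21755), (21732, 22711), (21733, 19217), (21734, 19193), (21735, 19194), (21736, 21758), (21737, 19197), (21738, 21597), (21739, 19199), (21740, 21004), (21741, 21600), (21742, 21933), (21743, 21635), (21744, 21643), (21745, 19641), (21746, 22713), (21747, 22381), (21748, 19208), (21749,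 19209), (21750, 21706), (21751, 21708), (21752, 21726), (21753, 21729), (21754, 19222), (21755, 21731), (21756, 21396), (21757, 21730), (21758, 21736), (21759, 22639)]
    ⟨e3 q21696 (flp_f L250731) q19141, e3 q21697 L250743 q19163, e3 q21698 L250751 q19167, e3 q21699 (flp_f L250763) q19684, e3 q21700 L250771 q21686, e3 q21701 (flp_f L250781) q19159, e3 q21702 (flp_f L251878) q21812, e3 q21703 (flp_f L250787) q19152, e3 q21704 L250803 q19158, e3 q21705 L260876 q22701, e3 q21706 (flp_f L251225) q21750, e3 q21707 (flp_f L260675) q22684, e3 q21708 (flp_f L251235) q21751, e3 q21709 (flp_f L259738) q22591, e3 q21710 (flp_f L250849) q19801, e3 q21711 L260850 q22699, e3 q21712 L258538 q22478, e3 q21713 (flp_f L255090) q22134, e3 q21714 L250887 q21655, e3 q21715 L250894 q21598, e3 q21716 L250903 q21599, e3 q21717 L250913 q19453, e3 q21718 L250925 q19438, e3 q21719 (flp_f L250929) q19178, e3 q21720 L250993 q21725, e3 q21721 (flp_f L250957) q19430, e3 q21722 (flp_f L250959) q19182, e3 q21723 (flp_f L252283) q21854, e3 q21724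 (flp_f L250983) q19651, e3 q21725 (flp_f L250993) q21720, e3 q21726 (flp_f L251247) q21752, e3 q21727 (flp_f L251003) q19186, e3 q21728 L251019 q21612, e3 q21729 (flp_f L251253) q21753, e3 q21730 (flp_f L251289) q21757, e3 q21731 (flp_f L251271) q21755, e3 q21732 L260972 q22711, e3 q21733 (flp_f L251067) q19217, e3 q21734 (flp_f L251069) q19193, e3 q21735 (flp_f L251081) q19194, e3 q21736 (flp_f L251297) q21758, e3 q21737 (flp_f L251095) q19197, e3 q21738 (flp_f L251111) q21597, e3 q21739 (flp_f L251113) q19199, e3 q21740 L251129 q21004, e3 q21741 L251135 q21600, e3 q21742 (flp_f L253110) q21933, e3 q21743 L251157 q21635, e3 q21744 L251169 q21643, e3 q21745 L251177 q19641, e3 q21746 L260998 q22713, e3 q21747 L257551 q22381, e3 q21748 (flp_f L251197) q19208, e3 q21749 (flp_f L251207) q19209, e3 q21750 L251225 q21706, e3 q21751 L251235 q21708, e3 q21752 L251247 q21726, e3 q21753 L251253 q21729, e3 q21754 L251261 q19222, e3 q21755 L251271 q21731, e3 q21756 L251281 q21396, e3 q21757 L251289 q21730, e3 q21758 L251297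 q21736, e3 q21759 (flp_f L260239) q22639, trivial⟩ (by decide +kernel)

theorem ce_f_340 : ∀ r, r < 64 → sm gf (Qf (21760 + r)) = Qf (tab Gen.f (21760 + r)) :=
  edges_tab (sm gf) Qf (tab Gen.f) 21760 [(21760, 19382), (21761, 20431), (21762, 22265), (21763, 19233), (21764, 22159), (21765, 19994), (21766, 21149), (21767, 20934), (21768, 20428), (21769, 20793), (21770, 19250), (21771, 20169), (21772, 20390), (21773, 21871), (21774, 19272), (21775, 21798), (21776, 19761), (21777, 22219), (21778, 20709), (21779, 20662), (21780, 22359), (21781, 20843), (21782, 19274), (21783, 20635), (21784, 21978), (21785, 22472), (21786, 19764), (21787, 19284), (21788, 20047), (21789, 21326), (21790, 20650), (21791, 20114), (21792, 20695), (21793, 21274), (21794, 19765), (21795, 19311), (21796, 19312), (21797, 19313), (21798, 21775), (21799, 19319), (21800, 19552), (21801, 19323), (21802, 20759), (21803, 19388), (21804, 19329), (21805, 21420), (21806, 19341), (21807, 22729), (21808, 21811), (21809, 19342), (21810, 19346), (21811, 21808),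 (21812, 21702), (21813, 22730), (21814, 19347), (21815, 19358), (21816, 22680), (21817, 19355), (21818, 19564), (21819, 22548), (21820, 20821), (21821, 21059), (21822, 21214), (21823, 22109)]
    ⟨e3 q21760 L251321 q19382, e3 q21761 (flp_f L251337) q20431, e3 q21762 L256410 q22265, e3 q21763 (flp_f L251349) q19233, e3 q21764 (flp_f L255325) q22159, e3 q21765 L251365 q19994, e3 q21766 L251377 q21149, e3 q21767 L251385 q20934, e3 q21768 L251397 q20428, e3 q21769 (flp_f L251415) q20793, e3 q21770 (flp_f L251417) q19250, e3 q21771 L251437 q20169, e3 q21772 L251447 q20390, e3 q21773 L252461 q21871, e3 q21774 L251467 q19272, e3 q21775 (flp_f L251730) q21798, e3 q21776 L251492 q19761, e3 q21777 L255903 q22219, e3 q21778 L251514 q20709, e3 q21779 L251528 q20662, e3 q21780 L257321 q22359, e3 q21781 (flp_f L251552) q20843, e3 q21782 (flp_f L251554) q19274, e3 q21783 L251572 q20635, e3 q21784 L253561 q21978, e3 q21785 (flp_f L258466) q22472, e3 q21786 (flp_f L251600) q19764, e3 q21787 (flp_f L251602) q19284, e3 q21788 L251616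 q20047, e3 q21789 L251626 q21326, e3 q21790 L251642 q20650, e3 q21791 L251652 q20114, e3 q21792 L251666 q20695, e3 q21793 L251674 q21274, e3 q21794 (flp_f L251686) q19765, e3 q21795 L251694 q19311, e3 q21796 L251702 q19312, e3 q21797 (flp_f L251710) q19313, e3 q21798 L251730 q21775, e3 q21799 L251742 q19319, e3 q21800 L251758 q19552, e3 q21801 (flp_f L251768) q19323, e3 q21802 (flp_f L251790) q20759, e3 q21803 L251797 q19388, e3 q21804 (flp_f L251802) q19329, e3 q21805 L251818 q21420, e3 q21806 (flp_f L251826) q19341, e3 q21807 (flp_f L261190) q22729, e3 q21808 L251870 q21811, e3 q21809 (flp_f L251842) q19342, e3 q21810 L251860 q19346, e3 q21811 (flp_f L251870) q21808, e3 q21812 L251878 q21702, e3 q21813 L261194 q22730, e3 q21814 (flp_f L251890) q19347, e3 q21815 L251906 q19358, e3 q21816 L260635 q22680, e3 q21817 (flp_f L251924) q19355, e3 q21818 L251942 q19564, e3 q21819 L259314 q22548, e3 q21820 (flp_f L251958) q20821, e3 q21821 L251966 q21059, e3 q21822 (flp_f L251980) q21214, e3 q21823 (flp_f L254844) q22109,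 trivial⟩ (by decide +kernel)

theorem ce_f_341 : ∀ r, r < 64 → sm gf (Qf (21824 + r)) = Qf (tab Gen.f (21824 + r)) :=
  edges_tab (sm gf) Qf (tab Gen.f) 21824 [(21824, 21285), (21825, 20401), (21826, 20792), (21827, 22731), (21828, 19383), (21829, 19478), (21830, 19425), (21831, 21889), (21832, 19400), (21833, 19401), (21834, 19407), (21835, 19404), (21836, 22027), (21837, 22377), (21838, 19406), (21839, 22375), (21840, 22256), (21841, 21493), (21842, 20194), (21843, 19415), (21844, 19417), (21845, 21914), (21846, 19422), (21847, 21368), (21848, 19427), (21849, 21639), (21850, 19437), (21851, 22367), (21852, 19435), (21853, 21926), (21854, 21723), (21855, 19440), (21856, 21902), (21857, 21601), (21858, 19448), (21859, 22694), (21860, 19455), (21861, 20574), (21862, 19458), (21863, 19460), (21864, 21143), (21865, 19468), (21866, 19808), (21867, 21993), (21868, 20591), (21869, 19516), (21870, 19523), (21871, 21773), (21872, 22737), (21873, 21873), (21874, 19507), (21875, 22700), (21876, 20435), (21877, 19844), (21878,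 22013), (21879, 19668), (21880, 21329), (21881, 21017), (21882, 22719), (21883, 19515), (21884, 20852), (21885, 20862), (21886, 19681), (21887, 22740)]
    ⟨e3 q21824 (flp_f L251996) q21285, e3 q21825 L252006 q20401, e3 q21826 L252020 q20792, e3 q21827 L261206 q22731, e3 q21828 (flp_f L252032) q19383, e3 q21829 (flp_f L252054) q19478, e3 q21830 L252064 q19425, e3 q21831 (flp_f L252648) q21889, e3 q21832 (flp_f L252082) q19400, e3 q21833 (flp_f L252090) q19401, e3 q21834 L252100 q19407, e3 q21835 (flp_f L252104) q19404, e3 q21836 L254040 q22027, e3 q21837 (flp_f L257515) q22377, e3 q21838 (flp_f L252130) q19406, e3 q21839 (flp_f L257497) q22375, e3 q21840 (flp_f L256296) q22256, e3 q21841 L252162 q21493, e3 q21842 (flp_f L252172) q20194, e3 q21843 (flp_f L252174) q19415, e3 q21844 (flp_f L252185) q19417, e3 q21845 (flp_f L252916) q21914, e3 q21846 (flp_f L252207) q19422, e3 q21847 L252223 q21368, e3 q21848 (flp_f L252227) q19427, e3 q21849 L252245 q21639, e3 q21850 L252251 q19437, e3 q21851 (flp_f L257411) q22367,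 e3 q21852 (flp_f L252263) q19435, e3 q21853 L253040 q21926, e3 q21854 L252283 q21723, e3 q21855 (flp_f L252285) q19440, e3 q21856 L252784 q21902, e3 q21857 (flp_f L252313) q21601, e3 q21858 (flp_f L252317) q19448, e3 q21859 L260791 q22694, e3 q21860 (flp_f L252337) q19455, e3 q21861 L252355 q20574, e3 q21862 (flp_f L252359) q19458, e3 q21863 (flp_f L252369) q19460, e3 q21864 (flp_f L252385) q21143, e3 q21865 (flp_f L252387) q19468, e3 q21866 L252407 q19808, e3 q21867 (flp_f L253695) q21993, e3 q21868 L252423 q20591, e3 q21869 L252431 q19516, e3 q21870 L252443 q19523, e3 q21871 (flp_f L252461) q21773, e3 q21872 L261260 q22737, e3 q21873 L252477 q21873, e3 q21874 L252490 q19507, e3 q21875 (flp_f L260862) q22700, e3 q21876 L252512 q20435, e3 q21877 L252526 q19844, e3 q21878 (flp_f L253892) q22013, e3 q21879 L252546 q19668, e3 q21880 (flp_f L252562) q21329, e3 q21881 L252570 q21017, e3 q21882 (flp_f L261068) q22719, e3 q21883 (flp_f L252578) q19515, e3 q21884 L252596 q20852, e3 q21885 L252606 q20862, e3 q21886 L252620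 q19681, e3 q21887 L261292 q22740, trivial⟩ (by decide +kernel)

theorem ce_f_342 : ∀ r, r < 64 → sm gf (Qf (21888 + r)) = Qf (tab Gen.f (21888 + r)) :=
  edges_tab (sm gf) Qf (tab Gen.f) 21888 [(21888, 19527), (21889, 21831), (21890, 21249), (21891, 19748), (21892, 20279), (21893, 20509), (21894, 19558), (21895, 21379), (21896, 22281), (21897, 22655), (21898, 19561), (21899, 22681), (21900, 22654), (21901, 19565), (21902, 21856), (21903, 19648), (21904, 22494), (21905, 19576), (21906, 22557), (21907, 19580), (21908, 21292), (21909, 22026), (21910, 20447), (21911, 20589), (21912, 22338), (21913, 19609), (21914, 21845), (21915, 20577), (21916, 22581), (21917, 21360), (21918, 22289), (21919, 22582), (21920, 19617), (21921, 19868), (21922, 20172), (21923, 22040), (21924, 19631), (21925, 20750), (21926, 21853), (21927, 19636), (21928, 22370), (21929, 19639), (21930, 21604), (21931, 22706), (21932, 22640), (21933, 21742), (21934, 20394), (21935, 21496), (21936, 21194), (21937, 22149), (21938, 19661), (21939, 21086), (21940,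 19670), (21941, 22362), (21942, 21663), (21943, 21118), (21944, 19674), (21945, 19676), (21946, 19678), (21947, 22624), (21948, 21043), (21949, 21951), (21950, 22746), (21951, 21949)]
    ⟨e3 q21888 (flp_f L252632) q19527, e3 q21889 L252648 q21831, e3 q21890 L252658 q21249, e3 q21891 L252672 q19748, e3 q21892 L252686 q20279, e3 q21893 (flp_f L252704) q20509, e3 q21894 L252713 q19558, e3 q21895 (flp_f L252724) q21379, e3 q21896 (flp_f L256571) q22281, e3 q21897 (flp_f L260398) q22655, e3 q21898 (flp_f L252740) q19561, e3 q21899 (flp_f L260647) q22681, e3 q21900 (flp_f L260386) q22654, e3 q21901 (flp_f L252770) q19565, e3 q21902 (flp_f L252784) q21856, e3 q21903 L252794 q19648, e3 q21904 L258718 q22494, e3 q21905 (flp_f L252804) q19576, e3 q21906 (flp_f L259403) q22557, e3 q21907 (flp_f L252828) q19580, e3 q21908 L252844 q21292, e3 q21909 L254026 q22026, e3 q21910 L252864 q20447, e3 q21911 L252878 q20589, e3 q21912 L257113 q22338, e3 q21913 (flp_f L252894) q19609, e3 q21914 L252916 q21845, e3 q21915 (flp_f L252926)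 q20577, e3 q21916 (flp_f L259640) q22581, e3 q21917 L252942 q21360, e3 q21918 (flp_f L256661) q22289, e3 q21919 (flp_f L259644) q22582, e3 q21920 (flp_f L252964) q19617, e3 q21921 L252982 q19868, e3 q21922 (flp_f L252996) q20172, e3 q21923 L254168 q22040, e3 q21924 (flp_f L253008) q19631, e3 q21925 L253026 q20750, e3 q21926 (flp_f L253040) q21853, e3 q21927 (flp_f L253042) q19636, e3 q21928 L257440 q22370, e3 q21929 (flp_f L253058) q19639, e3 q21930 (flp_f L253078) q21604, e3 q21931 L260926 q22706, e3 q21932 L260247 q22640, e3 q21933 L253110 q21742, e3 q21934 (flp_f L253122) q20394, e3 q21935 L253132 q21496, e3 q21936 L253146 q21194, e3 q21937 L255236 q22149, e3 q21938 (flp_f L253160) q19661, e3 q21939 (flp_f L253180) q21086, e3 q21940 (flp_f L253182) q19670, e3 q21941 (flp_f L257353) q22362, e3 q21942 L253216 q21663, e3 q21943 L253226 q21118, e3 q21944 (flp_f L253230) q19674, e3 q21945 (flp_f L253240) q19676, e3 q21946 (flp_f L253252) q19678, e3 q21947 (flp_f L260086) q22624, e3 q21948 L253274 q21043, e3 q21949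 L253296 q21951, e3 q21950 L261362 q22746, e3 q21951 (flp_f L253296) q21949, trivial⟩ (by decide +kernel)

theorem ce_f_343 : ∀ r, r < 64 → sm gf (Qf (21952 + r)) = Qf (tab Gen.f (21952 + r)) :=
  edges_tab (sm gf) Qf (tab Gen.f) 21952 [(21952, 19688), (21953, 22747), (21954, 19691), (21955, 19713), (21956, 19699), (21957, 21254), (21958, 20167), (21959, 19701), (21960, 22113), (21961, 22646), (21962, 21269), (21963, 20257), (21964, 22709), (21965, 19711), (21966, 20008), (21967, 21084), (21968, 22482), (21969, 21266), (21970, 22131), (21971, 19730), (21972, 20688), (21973, 22353), (21974, 20360), (21975, 21120), (21976, 20714), (21977, 22724), (21978, 21784), (21979, 22727), (21980, 22525), (21981, 20986), (21982, 20296), (21983, 20298), (21984, 19813), (21985, 19773), (21986, 21218), (21987, 19778), (21988, 22290), (21989, 21573), (21990, 19782), (21991, 22042), (21992, 20163), (21993, 21867), (21994, 19793), (21995, 21242), (21996, 19794), (21997, 19795), (21998, 22009), (21999, 19804), (22000, 21652), (22001,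 19798), (22002, 22689), (22003, 21695), (22004, 21291), (22005, 20342), (22006, 20286), (22007, 22179), (22008, 22634), (22009, 21998), (22010, 21486), (22011, 19834), (22012, 19837), (22013, 21878), (22014, 19849), (22015, 22274)]
    ⟨e3 q21952 (flp_f L253298) q19688, e3 q21953 L261370 q22747, e3 q21954 (flp_f L253308) q19691, e3 q21955 L253328 q19713, e3 q21956 (flp_f L253332) q19699, e3 q21957 (flp_f L253353) q21254, e3 q21958 (flp_f L253367) q20167, e3 q21959 (flp_f L253369) q19701, e3 q21960 (flp_f L254888) q22113, e3 q21961 L260311 q22646, e3 q21962 L253391 q21269, e3 q21963 (flp_f L253409) q20257, e3 q21964 (flp_f L260960) q22709, e3 q21965 (flp_f L253423) q19711, e3 q21966 L253437 q20008, e3 q21967 L253447 q21084, e3 q21968 (flp_f L258580) q22482, e3 q21969 L253469 q21266, e3 q21970 (flp_f L255052) q22131, e3 q21971 (flp_f L253477) q19730, e3 q21972 L253489 q20688, e3 q21973 L257247 q22353, e3 q21974 (flp_f L253511) q20360, e3 q21975 L253521 q21120, e3 q21976 (flp_f L253535) q20714, e3 q21977 L261126 q22724,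 e3 q21978 (flp_f L253561) q21784, e3 q21979 L261166 q22727, e3 q21980 (flp_f L259055) q22525, e3 q21981 (flp_f L253593) q20986, e3 q21982 (flp_f L253603) q20296, e3 q21983 (flp_f L253615) q20298, e3 q21984 (flp_f L253627) q19813, e3 q21985 (flp_f L253629) q19773, e3 q21986 L253639 q21218, e3 q21987 (flp_f L253645) q19778, e3 q21988 (flp_f L256671) q22290, e3 q21989 (flp_f L253659) q21573, e3 q21990 (flp_f L253663) q19782, e3 q21991 (flp_f L254188) q22042, e3 q21992 (flp_f L253685) q20163, e3 q21993 L253695 q21867, e3 q21994 (flp_f L253699) q19793, e3 q21995 (flp_f L253721) q21242, e3 q21996 (flp_f L253724) q19794, e3 q21997 (flp_f L253736) q19795, e3 q21998 (flp_f L253848) q22009, e3 q21999 L253752 q19804, e3 q22000 (flp_f L253764) q21652, e3 q22001 (flp_f L253766) q19798, e3 q22002 (flp_f L260733) q22689, e3 q22003 L253796 q21695, e3 q22004 L253804 q21291, e3 q22005 L253814 q20342, e3 q22006 L253830 q20286, e3 q22007 L255482 q22179, e3 q22008 L260198 q22634, e3 q22009 L253848 q21998, e3 q22010 L253858 q21486, e3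 q22011 (flp_f L253862) q19834, e3 q22012 (flp_f L253872) q19837, e3 q22013 L253892 q21878, e3 q22014 (flp_f L253896) q19849, e3 q22015 L256503 q22274, trivial⟩ (by decide +kernel)

theorem ce_f_344 : ∀ r, r < 64 → sm gf (Qf (22016 + r)) = Qf (tab Gen.f (22016 + r)) :=
  edges_tab (sm gf) Qf (tab Gen.f) 22016 [(22016, 22619), (22017, 22633), (22018, 19862), (22019, 22293), (22020, 22308), (22021, 22156), (22022, 22477), (22023, 21497), (22024, 19863), (22025, 19864), (22026, 21909), (22027, 21836), (22028, 22623), (22029, 22031), (22030, 19873), (22031, 22029), (22032, 19889), (22033, 19880), (22034, 20569), (22035, 22163), (22036, 22037), (22037, 22036), (22038, 21455), (22039, 19882), (22040, 21923), (22041, 19886), (22042, 21991), (22043, 21460), (22044, 20381), (22045, 19905), (22046, 20030), (22047, 19913), (22048, 22048), (22049, 20076), (22050, 19939), (22051, 19945), (22052, 19941), (22053, 22112), (22054, 20400), (22055, 22057), (22056, 19954), (22057, 22055), (22058, 19958), (22059, 20912), (22060, 19964),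 (22061, 22063), (22062, 19972), (22063, 22061), (22064, 22084), (22065, 19996), (22066, 22096), (22067, 20467), (22068, 22100), (22069, 20004), (22070, 21501), (22071, 22298), (22072, 21488), (22073, 21339), (22074, 20391), (22075, 22738), (22076, 22253), (22077, 20910), (22078, 21255), (22079, 20840)]
    ⟨e3 q22016 (flp_f L260028) q22619, e3 q22017 (flp_f L260182) q22633, e3 q22018 L253944 q19862, e3 q22019 (flp_f L256703) q22293, e3 q22020 (flp_f L256862) q22308, e3 q22021 (flp_f L255301) q22156, e3 q22022 (flp_f L258522) q22477, e3 q22023 (flp_f L253990) q21497, e3 q22024 (flp_f L253992) q19863, e3 q22025 (flp_f L254002) q19864, e3 q22026 (flp_f L254026) q21909, e3 q22027 (flp_f L254040) q21836, e3 q22028 (flp_f L260074) q22623, e3 q22029 (flp_f L254076) q22031, e3 q22030 (flp_f L254056) q19873, e3 q22031 L254076 q22029, e3 q22032 L254088 q19889, e3 q22033 L254098 q19880, e3 q22034 L254108 q20569, e3 q22035 (flp_f L255358) q22163, e3 q22036 (flp_f L254126) q22037, e3 q22037 L254126 q22036, e3 q22038 L254140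 q21455, e3 q22039 (flp_f L254144) q19882, e3 q22040 (flp_f L254168) q21923, e3 q22041 (flp_f L254172) q19886, e3 q22042 L254188 q21991, e3 q22043 L254196 q21460, e3 q22044 L254208 q20381, e3 q22045 (flp_f L254222) q19905, e3 q22046 L254232 q20030, e3 q22047 (flp_f L254240) q19913, e3 q22048 L254258 q22048, e3 q22049 L254271 q20076, e3 q22050 (flp_f L254275) q19939, e3 q22051 L254291 q19945, e3 q22052 (flp_f L254294) q19941, e3 q22053 (flp_f L254877) q22112, e3 q22054 L254322 q20400, e3 q22055 (flp_f L254360) q22057, e3 q22056 (flp_f L254338) q19954, e3 q22057 L254360 q22055, e3 q22058 (flp_f L254364) q19958, e3 q22059 L254384 q20912, e3 q22060 (flp_f L254390) q19964, e3 q22061 L254436 q22063, e3 q22062 L254418 q19972, e3 q22063 (flp_f L254436) q22061, e3 q22064 (flp_f L254638) q22084, e3 q22065 (flp_f L254451) q19996, e3 q22066 (flp_f L254736) q22096, e3 q22067 (flp_f L254486) q20467, e3 q22068 (flp_f L254769) q22100, e3 q22069 (flp_f L254500) q20004, e3 q22070 (flp_f L254518) q21501, e3 q22071 L256754 q22298, e3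 q22072 L254538 q21488, e3 q22073 L254552 q21339, e3 q22074 (flp_f L254562) q20391, e3 q22075 (flp_f L261274) q22738, e3 q22076 (flp_f L256260) q22253, e3 q22077 L254580 q20910, e3 q22078 L254588 q21255, e3 q22079 (flp_f L254604) q20840, trivial⟩ (by decide +kernel)

theorem ce_f_345 : ∀ r, r < 64 → sm gf (Qf (22080 + r)) = Qf (tab Gen.f (22080 + r)) :=
  edges_tab (sm gf) Qf (tab Gen.f) 22080 [(22080, 20032), (22081, 22168), (22082, 22248), (22083, 20038), (22084, 22064), (22085, 21327), (22086, 22725), (22087, 20045), (22088, 22342), (22089, 22755), (22090, 20049), (22091, 22101), (22092, 21399), (22093, 20657), (22094, 22345), (22095, 22120), (22096, 22066), (22097, 22097), (22098, 20060), (22099, 20078), (22100, 22068), (22101, 22091), (22102, 22764), (22103, 20077), (22104, 21258), (22105, 22767), (22106, 20068), (22107, 22119), (22108, 22768), (22109, 21823), (22110, 22110), (22111, 20072), (22112, 22053), (22113, 21960), (22114, 22773), (22115, 22775), (22116, 20656), (22117, 20079), (22118, 22347), (22119,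 22107), (22120, 22095), (22121, 22778), (22122, 20084), (22123, 20091), (22124, 21172), (22125, 22348), (22126, 21264), (22127, 22164), (22128, 20170), (22129, 20930), (22130, 20799), (22131, 21970), (22132, 20111), (22133, 21158), (22134, 21713), (22135, 21038), (22136, 20405), (22137, 20166), (22138, 21123), (22139, 22516), (22140, 22534), (22141, 21365), (22142, 20464), (22143, 22316)]
    ⟨e3 q22080 (flp_f L254606) q20032, e3 q22081 (flp_f L255406) q22168, e3 q22082 L256210 q22248, e3 q22083 (flp_f L254620) q20038, e3 q22084 L254638 q22064, e3 q22085 L254648 q21327, e3 q22086 (flp_f L261136) q22725, e3 q22087 (flp_f L254664) q20045, e3 q22088 (flp_f L257145) q22342, e3 q22089 L261440 q22755, e3 q22090 (flp_f L254684) q20049, e3 q22091 (flp_f L254780) q22101, e3 q22092 L254708 q21399, e3 q22093 L254720 q20657, e3 q22094 (flp_f L257163) q22345, e3 q22095 (flp_f L254929) q22120, e3 q22096 L254736 q22066, e3 q22097 L254751 q22097, e3 q22098 (flp_f L254742) q20060, e3 q22099 (flp_f L254762) q20078, e3 q22100 L254769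 q22068, e3 q22101 L254780 q22091, e3 q22102 L261526 q22764, e3 q22103 (flp_f L254804) q20077, e3 q22104 L254812 q21258, e3 q22105 L261556 q22767, e3 q22106 (flp_f L254826) q20068, e3 q22107 L257055 q22119, e3 q22108 L261564 q22768, e3 q22109 L254844 q21823, e3 q22110 L254856 q22110, e3 q22111 (flp_f L254857) q20072, e3 q22112 L254877 q22053, e3 q22113 L254888 q21960, e3 q22114 L261607 q22773, e3 q22115 L261623 q22775, e3 q22116 L254907 q20656, e3 q22117 (flp_f L254911) q20079, e3 q22118 (flp_f L257181) q22347, e3 q22119 (flp_f L257055) q22107, e3 q22120 L254929 q22095, e3 q22121 L261654 q22778, e3 q22122 (flp_f L254942) q20084, e3 q22123 L254960 q20091, e3 q22124 L254972 q21172, e3 q22125 L257195 q22348, e3 q22126 (flp_f L254998) q21264, e3 q22127 (flp_f L255368) q22164, e3 q22128 L255018 q20170, e3 q22129 L255030 q20930, e3 q22130 (flp_f L255042) q20799, e3 q22131 L255052 q21970, e3 q22132 (flp_f L255058) q20111, e3 q22133 L255076 q21158, e3 q22134 L255090 q21713, e3 q22135 L255104 q21038, e3 q22136 L255116 q20405,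 e3 q22137 L255126 q20166, e3 q22138 L255134 q21123, e3 q22139 (flp_f L258957) q22516, e3 q22140 L259156 q22534, e3 q22141 L255166 q21365, e3 q22142 L255176 q20464, e3 q22143 (flp_f L256926) q22316, trivial⟩ (by decide +kernel)

theorem ce_f_346 : ∀ r, r < 64 → sm gf (Qf (22144 + r)) = Qf (tab Gen.f (22144 + r)) :=
  edges_tab (sm gf) Qf (tab Gen.f) 22144 [(22144, 20472), (22145, 22200), (22146, 22782), (22147, 22622), (22148, 20153), (22149, 21937), (22150, 21049), (22151, 22637), (22152, 20249), (22153, 22358), (22154, 22632), (22155, 20959), (22156, 22021), (22157, 22583), (22158, 20797), (22159, 21764), (22160, 22160), (22161, 20310), (22162, 22264), (22163, 22035), (22164, 22127), (22165, 20195), (22166, 22608), (22167, 20434), (22168, 22081), (22169, 22658), (22170, 22562), (22171, 22792), (22172, 20223), (22173, 20226), (22174, 20315), (22175, 22669), (22176, 22668), (22177, 21275), (22178, 21276), (22179, 22007), (22180, 22210), (22181, 22492), (22182, 22230), (22183, 21082), (22184, 21176), (22185, 21553),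 (22186, 22186), (22187, 20309), (22188, 20977), (22189, 22787), (22190, 22439), (22191, 22605), (22192, 20252), (22193, 22638), (22194, 21179), (22195, 22215), (22196, 20260), (22197, 21144), (22198, 20975), (22199, 20522), (22200, 22145), (22201, 21065), (22202, 20274), (22203, 21287), (22204, 21443), (22205, 20280), (22206, 21536), (22207, 21541)]
    ⟨e3 q22144 L255192 q20472, e3 q22145 L255690 q22200, e3 q22146 (flp_f L261702) q22782, e3 q22147 (flp_f L260060) q22622, e3 q22148 (flp_f L255222) q20153, e3 q22149 (flp_f L255236) q21937, e3 q22150 L255244 q21049, e3 q22151 (flp_f L260217) q22637, e3 q22152 L255261 q20249, e3 q22153 (flp_f L257306) q22358, e3 q22154 (flp_f L260172) q22632, e3 q22155 L255285 q20959, e3 q22156 L255301 q22021, e3 q22157 (flp_f L259658) q22583, e3 q22158 L255313 q20797, e3 q22159 L255325 q21764, e3 q22160 L255335 q22160, e3 q22161 L255342 q20310, e3 q22162 (flp_f L256392) q22264, e3 q22163 L255358 q22035, e3 q22164 L255368 q22127, e3 q22165 (flp_f L255374) q20195, e3 q22166 (flp_f L259924)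 q22608, e3 q22167 L255396 q20434, e3 q22168 L255406 q22081, e3 q22169 (flp_f L260422) q22658, e3 q22170 L259460 q22562, e3 q22171 L261814 q22792, e3 q22172 (flp_f L255426) q20223, e3 q22173 L255438 q20226, e3 q22174 L255450 q20315, e3 q22175 (flp_f L260526) q22669, e3 q22176 (flp_f L260516) q22668, e3 q22177 L255470 q21275, e3 q22178 L255476 q21276, e3 q22179 (flp_f L255482) q22007, e3 q22180 (flp_f L255806) q22210, e3 q22181 (flp_f L258690) q22492, e3 q22182 L256020 q22230, e3 q22183 L255516 q21082, e3 q22184 L255526 q21176, e3 q22185 (flp_f L255536) q21553, e3 q22186 L255540 q22186, e3 q22187 L255551 q20309, e3 q22188 L255565 q20977, e3 q22189 (flp_f L261757) q22787, e3 q22190 (flp_f L258095) q22439, e3 q22191 (flp_f L259886) q22605, e3 q22192 (flp_f L255591) q20252, e3 q22193 (flp_f L260223) q22638, e3 q22194 (flp_f L255618) q21179, e3 q22195 L255863 q22215, e3 q22196 (flp_f L255632) q20260, e3 q22197 (flp_f L255654) q21144, e3 q22198 L255662 q20975, e3 q22199 L255676 q20522, e3 q22200 (flp_f L255690) q22145,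 e3 q22201 (flp_f L255704) q21065, e3 q22202 (flp_f L255708) q20274, e3 q22203 L255726 q21287, e3 q22204 L255740 q21443, e3 q22205 (flp_f L255746) q20280, e3 q22206 L255764 q21536, e3 q22207 L255775 q21541, trivial⟩ (by decide +kernel)

theorem ce_f_347 : ∀ r, r < 64 → sm gf (Qf (22208 + r)) = Qf (tab Gen.f (22208 + r)) :=
  edges_tab (sm gf) Qf (tab Gen.f) 22208 [(22208, 20283), (22209, 21133), (22210, 22180), (22211, 21003), (22212, 21002), (22213, 21006), (22214, 20291), (22215, 22195), (22216, 21150), (22217, 20295), (22218, 22648), (22219, 21777), (22220, 21318), (22221, 22221), (22222, 20305), (22223, 21554), (22224, 22512), (22225, 22487), (22226, 22790), (22227, 21628), (22228, 22447), (22229, 20311), (22230, 22182), (22231, 21042), (22232, 21093), (22233, 21035), (22234, 20318), (22235, 21212), (22236, 21238), (22237, 21129), (22238, 22470), (22239, 21081), (22240, 22515), (22241, 20339), (22242, 21350), (22243, 20382), (22244, 20367), (22245, 22246), (22246, 22245), (22247, 20369), (22248, 22082), (22249,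 20374), (22250, 21429), (22251, 20417), (22252, 22260), (22253, 22076), (22254, 22721), (22255, 21173), (22256, 21840), (22257, 20403), (22258, 21095), (22259, 22485), (22260, 22252), (22261, 20414), (22262, 20420), (22263, 21241), (22264, 22162), (22265, 21762), (22266, 20458), (22267, 20448), (22268, 21124), (22269, 22532), (22270, 22596), (22271, 20469)]
    ⟨e3 q22208 (flp_f L255779) q20283, e3 q22209 L255798 q21133, e3 q22210 L255806 q22180, e3 q22211 L255813 q21003, e3 q22212 (flp_f L255825) q21002, e3 q22213 (flp_f L255841) q21006, e3 q22214 (flp_f L255843) q20291, e3 q22215 (flp_f L255863) q22195, e3 q22216 (flp_f L255873) q21150, e3 q22217 (flp_f L255875) q20295, e3 q22218 L260337 q22648, e3 q22219 (flp_f L255903) q21777, e3 q22220 L255909 q21318, e3 q22221 L255921 q22221, e3 q22222 L255932 q20305, e3 q22223 (flp_f L255944) q21554, e3 q22224 L258911 q22512, e3 q22225 (flp_f L258640) q22487, e3 q22226 (flp_f L261794) q22790, e3 q22227 L255986 q21628, e3 q22228 L258191 q22447, e3 q22229 (flp_f L256000) q20311,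 e3 q22230 (flp_f L256020) q22182, e3 q22231 L256028 q21042, e3 q22232 L256042 q21093, e3 q22233 L256050 q21035, e3 q22234 (flp_f L256054) q20318, e3 q22235 L256068 q21212, e3 q22236 L256078 q21238, e3 q22237 L256092 q21129, e3 q22238 (flp_f L258442) q22470, e3 q22239 L256116 q21081, e3 q22240 L258949 q22515, e3 q22241 (flp_f L256134) q20339, e3 q22242 L256152 q21350, e3 q22243 L256164 q20382, e3 q22244 L256174 q20367, e3 q22245 (flp_f L256190) q22246, e3 q22246 L256190 q22245, e3 q22247 (flp_f L256192) q20369, e3 q22248 (flp_f L256210) q22082, e3 q22249 (flp_f L256214) q20374, e3 q22250 L256232 q21429, e3 q22251 L256242 q20417, e3 q22252 (flp_f L256340) q22260, e3 q22253 L256260 q22076, e3 q22254 (flp_f L261088) q22721, e3 q22255 L256282 q21173, e3 q22256 L256296 q21840, e3 q22257 L256308 q20403, e3 q22258 L256320 q21095, e3 q22259 (flp_f L258620) q22485, e3 q22260 L256340 q22252, e3 q22261 (flp_f L256348) q20414, e3 q22262 (flp_f L256362) q20420, e3 q22263 (flp_f L256382) q21241, e3 q22264 L256392 q22162, e3 q22265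 (flp_f L256410) q21762, e3 q22266 (flp_f L256422) q20458, e3 q22267 (flp_f L256424) q20448, e3 q22268 (flp_f L256444) q21124, e3 q22269 L259137 q22532, e3 q22270 (flp_f L259788) q22596, e3 q22271 (flp_f L256470) q20469, trivial⟩ (by decide +kernel)

theorem ce_f_348 : ∀ r, r < 64 → sm gf (Qf (22272 + r)) = Qf (tab Gen.f (22272 + r)) :=
  edges_tab (sm gf) Qf (tab Gen.f) 22272 [(22272, 22318), (22273, 22314), (22274, 22015), (22275, 22465), (22276, 20471), (22277, 20533), (22278, 22617), (22279, 20478), (22280, 20480), (22281, 21896), (22282, 20484), (22283, 22531), (22284, 20710), (22285, 20494), (22286, 20497), (22287, 20785), (22288, 20516), (22289, 21918), (22290, 21988), (22291, 20527), (22292, 21480), (22293, 22019), (22294, 20771), (22295, 22378), (22296, 20529), (22297, 22376), (22298, 22071), (22299, 20538), (22300, 22514), (22301, 22506), (22302, 21130), (22303, 20546), (22304, 20549), (22305, 22610), (22306, 20556), (22307, 20558), (22308, 22020), (22309, 21471), (22310, 21472), (22311, 21473), (22312,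 22800), (22313, 21481), (22314, 22273), (22315, 20565), (22316, 22143), (22317, 21456), (22318, 22272), (22319, 22337), (22320, 22813), (22321, 20614), (22322, 20617), (22323, 22814), (22324, 20638), (22325, 22818), (22326, 20625), (22327, 22551), (22328, 22552), (22329, 22779), (22330, 20627), (22331, 22758), (22332, 20628), (22333, 20629), (22334, 20631), (22335, 22820)]
    ⟨e3 q22272 L256953 q22318, e3 q22273 (flp_f L256904) q22314, e3 q22274 (flp_f L256503) q22015, e3 q22275 (flp_f L258384) q22465, e3 q22276 (flp_f L256517) q20471, e3 q22277 L256531 q20533, e3 q22278 L260008 q22617, e3 q22279 (flp_f L256539) q20478, e3 q22280 (flp_f L256553) q20480, e3 q22281 L256571 q21896, e3 q22282 L256577 q20484, e3 q22283 L259127 q22531, e3 q22284 L256593 q20710, e3 q22285 (flp_f L256601) q20494, e3 q22286 (flp_f L256615) q20497, e3 q22287 (flp_f L256637) q20785, e3 q22288 (flp_f L256639) q20516, e3 q22289 L256661 q21918, e3 q22290 L256671 q21988, e3 q22291 (flp_f L256675) q20527, e3 q22292 L256695 q21480, e3 q22293 L256703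 q22019, e3 q22294 (flp_f L256713) q20771, e3 q22295 (flp_f L257529) q22378, e3 q22296 (flp_f L256724) q20529, e3 q22297 (flp_f L257505) q22376, e3 q22298 (flp_f L256754) q22071, e3 q22299 (flp_f L256758) q20538, e3 q22300 (flp_f L258935) q22514, e3 q22301 (flp_f L258840) q22506, e3 q22302 L256794 q21130, e3 q22303 (flp_f L256796) q20546, e3 q22304 L256814 q20549, e3 q22305 (flp_f L259952) q22610, e3 q22306 L256838 q20556, e3 q22307 (flp_f L256846) q20558, e3 q22308 L256862 q22020, e3 q22309 L256870 q21471, e3 q22310 L256878 q21472, e3 q22311 L256884 q21473, e3 q22312 (flp_f L261907) q22800, e3 q22313 L256896 q21481, e3 q22314 L256904 q22273, e3 q22315 (flp_f L256909) q20565, e3 q22316 L256926 q22143, e3 q22317 L256939 q21456, e3 q22318 (flp_f L256953) q22272, e3 q22319 (flp_f L257101) q22337, e3 q22320 L262033 q22813, e3 q22321 (flp_f L256965) q20614, e3 q22322 L256975 q20617, e3 q22323 (flp_f L262047) q22814, e3 q22324 (flp_f L256995) q20638, e3 q22325 L262073 q22818, e3 q22326 (flp_f L257007) q20625, e3 q22327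 (flp_f L259344) q22551, e3 q22328 L259358 q22552, e3 q22329 (flp_f L261670) q22779, e3 q22330 (flp_f L257035) q20627, e3 q22331 (flp_f L261474) q22758, e3 q22332 (flp_f L257043) q20628, e3 q22333 (flp_f L257059) q20629, e3 q22334 (flp_f L257069) q20631, e3 q22335 L262091 q22820, trivial⟩ (by decide +kernel)

theorem ce_f_349 : ∀ r, r < 64 → sm gf (Qf (22336 + r)) = Qf (tab Gen.f (22336 + r)) :=
  edges_tab (sm gf) Qf (tab Gen.f) 22336 [(22336, 22723), (22337, 22319), (22338, 21912), (22339, 20654), (22340, 22346), (22341, 21227), (22342, 22088), (22343, 22774), (22344, 22722), (22345, 22094), (22346, 22340), (22347, 22118), (22348, 22125), (22349, 22817), (22350, 20664), (22351, 20676), (22352, 20680), (22353, 21973), (22354, 20693), (22355, 22609), (22356, 20725), (22357, 21403), (22358, 22153), (22359, 21780), (22360, 22395), (22361, 21076), (22362, 21941), (22363, 21367), (22364, 22364), (22365, 22372), (22366, 20748), (22367, 21851), (22368, 22382), (22369, 20764), (22370, 21928), (22371, 20760), (22372, 22365),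 (22373, 22679), (22374, 20773), (22375, 21839), (22376, 22297), (22377, 21837), (22378, 22295), (22379, 22618), (22380, 20779), (22381, 21747), (22382, 22368), (22383, 20789), (22384, 20832), (22385, 21548), (22386, 22785), (22387, 22483), (22388, 20850), (22389, 22599), (22390, 22423), (22391, 21435), (22392, 20909), (22393, 22741), (22394, 20925), (22395, 22360), (22396, 20979), (22397, 20879), (22398, 21162), (22399, 20886)]
    ⟨e3 q22336 (flp_f L261110) q22723, e3 q22337 L257101 q22319, e3 q22338 (flp_f L257113) q21912, e3 q22339 L257123 q20654, e3 q22340 L257171 q22346, e3 q22341 L257139 q21227, e3 q22342 L257145 q22088, e3 q22343 (flp_f L261619) q22774, e3 q22344 (flp_f L261100) q22722, e3 q22345 L257163 q22094, e3 q22346 (flp_f L257171) q22340, e3 q22347 L257181 q22118, e3 q22348 (flp_f L257195) q22125, e3 q22349 (flp_f L262071) q22817, e3 q22350 (flp_f L257203) q20664, e3 q22351 (flp_f L257213) q20676, e3 q22352 (flp_f L257227) q20680, e3 q22353 (flp_f L257247) q21973, e3 q22354 (flp_f L257251) q20693,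 e3 q22355 (flp_f L259936) q22609, e3 q22356 L257279 q20725, e3 q22357 L257295 q21403, e3 q22358 L257306 q22153, e3 q22359 (flp_f L257321) q21780, e3 q22360 (flp_f L257688) q22395, e3 q22361 L257345 q21076, e3 q22362 L257353 q21941, e3 q22363 L257365 q21367, e3 q22364 L257376 q22364, e3 q22365 L257468 q22372, e3 q22366 (flp_f L257393) q20748, e3 q22367 L257411 q21851, e3 q22368 (flp_f L257557) q22382, e3 q22369 L257426 q20764, e3 q22370 (flp_f L257440) q21928, e3 q22371 (flp_f L257444) q20760, e3 q22372 (flp_f L257468) q22365, e3 q22373 (flp_f L260622) q22679, e3 q22374 (flp_f L257477) q20773, e3 q22375 L257497 q21839, e3 q22376 L257505 q22297, e3 q22377 L257515 q21837, e3 q22378 L257529 q22295, e3 q22379 (flp_f L260018) q22618, e3 q22380 (flp_f L257539) q20779, e3 q22381 (flp_f L257551) q21747, e3 q22382 L257557 q22368, e3 q22383 (flp_f L257562) q20789, e3 q22384 (flp_f L257574) q20832, e3 q22385 (flp_f L257594) q21548, e3 q22386 (flp_f L261732) q22785, e3 q22387 (flp_f L258592) q22483, e3 q22388 (flp_f L257616)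 q20850, e3 q22389 (flp_f L259822) q22599, e3 q22390 (flp_f L257968) q22423, e3 q22391 L257646 q21435, e3 q22392 (flp_f L257660) q20909, e3 q22393 (flp_f L261314) q22741, e3 q22394 L257676 q20925, e3 q22395 L257688 q22360, e3 q22396 L257700 q20979, e3 q22397 (flp_f L257704) q20879, e3 q22398 L257724 q21162, e3 q22399 (flp_f L257726) q20886, trivial⟩ (by decide +kernel)

theorem ce_f_350 : ∀ r, r < 64 → sm gf (Qf (22400 + r)) = Qf (tab Gen.f (22400 + r)) :=
  edges_tab (sm gf) Qf (tab Gen.f) 22400 [(22400, 21033), (22401, 21032), (22402, 21322), (22403, 20919), (22404, 22751), (22405, 22752), (22406, 22698), (22407, 20914), (22408, 22835), (22409, 20915), (22410, 20917), (22411, 22739), (22412, 20921), (22413, 21409), (22414, 22837), (22415, 20922), (22416, 20923), (22417, 21372), (22418, 21071), (22419, 22593), (22420, 20926), (22421, 21373), (22422, 22841), (22423, 22390), (22424, 22834), (22425, 21170), (22426, 22526), (22427, 20952), (22428, 22432), (22429, 22434), (22430, 21197), (22431, 21283), (22432, 22428),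 (22433, 20953), (22434, 22429), (22435, 20957), (22436, 22511), (22437, 20965), (22438, 22440), (22439, 22190), (22440, 22438), (22441, 20971), (22442, 21103), (22443, 20973), (22444, 21353), (22445, 20976), (22446, 20980), (22447, 22228), (22448, 21356), (22449, 22696), (22450, 22450), (22451, 21665), (22452, 21664), (22453, 21085), (22454, 22458), (22455, 21222), (22456, 22459), (22457, 21310), (22458, 22454), (22459, 22456), (22460, 21008), (22461, 21208), (22462, 21020), (22463, 21022)]
    ⟨e3 q22400 L257744 q21033, e3 q22401 L257756 q21032, e3 q22402 L257768 q21322, e3 q22403 (flp_f L257782) q20919, e3 q22404 L261408 q22751, e3 q22405 (flp_f L261414) q22752, e3 q22406 (flp_f L260834) q22698, e3 q22407 (flp_f L257812) q20914, e3 q22408 L262243 q22835, e3 q22409 (flp_f L257826) q20915, e3 q22410 (flp_f L257830) q20917, e3 q22411 (flp_f L261286) q22739, e3 q22412 (flp_f L257846) q20921, e3 q22413 (flp_f L257868) q21409, e3 q22414 L262259 q22837, e3 q22415 (flp_f L257880) q20922, e3 q22416 (flp_f L257888) q20923,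 e3 q22417 (flp_f L257906) q21372, e3 q22418 L257916 q21071, e3 q22419 (flp_f L259762) q22593, e3 q22420 (flp_f L257934) q20926, e3 q22421 (flp_f L257948) q21373, e3 q22422 L262309 q22841, e3 q22423 L257968 q22390, e3 q22424 (flp_f L262241) q22834, e3 q22425 L257982 q21170, e3 q22426 (flp_f L259069) q22526, e3 q22427 L257996 q20952, e3 q22428 (flp_f L258036) q22432, e3 q22429 (flp_f L258056) q22434, e3 q22430 L258016 q21197, e3 q22431 L258028 q21283, e3 q22432 L258036 q22428, e3 q22433 (flp_f L258038) q20953, e3 q22434 L258056 q22429, e3 q22435 (flp_f L258058) q20957, e3 q22436 (flp_f L258898) q22511, e3 q22437 (flp_f L258070) q20965, e3 q22438 (flp_f L258107) q22440, e3 q22439 L258095 q22190, e3 q22440 L258107 q22438, e3 q22441 (flp_f L258113) q20971, e3 q22442 L258129 q21103, e3 q22443 (flp_f L258135) q20973, e3 q22444 (flp_f L258151) q21353, e3 q22445 (flp_f L258155) q20976, e3 q22446 (flp_f L258167) q20980, e3 q22447 (flp_f L258191) q22228, e3 q22448 L258199 q21356, e3 q22449 (flp_f L260815) q22696, e3 q22450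 L258217 q22450, e3 q22451 L258222 q21665, e3 q22452 L258236 q21664, e3 q22453 L258248 q21085, e3 q22454 L258306 q22458, e3 q22455 L258270 q21222, e3 q22456 (flp_f L258318) q22459, e3 q22457 (flp_f L258294) q21310, e3 q22458 (flp_f L258306) q22454, e3 q22459 L258318 q22456, e3 q22460 (flp_f L258322) q21008, e3 q22461 L258340 q21208, e3 q22462 (flp_f L258348) q21020, e3 q22463 (flp_f L258360) q21022, trivial⟩ (by decide +kernel)

theorem ce_f_351 : ∀ r, r < 64 → sm gf (Qf (22464 + r)) = Qf (tab Gen.f (22464 + r)) :=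
  edges_tab (sm gf) Qf (tab Gen.f) 22464 [(22464, 22753), (22465, 22275), (22466, 21036), (22467, 22797), (22468, 21569), (22469, 22726), (22470, 22238), (22471, 22597), (22472, 21785), (22473, 21051), (22474, 21257), (22475, 21229), (22476, 22754), (22477, 22022), (22478, 21712), (22479, 22490), (22480, 21111), (22481, 21196), (22482, 21968), (22483, 22387), (22484, 21342), (22485, 22259), (22486, 21092), (22487, 22225), (22488, 21105), (22489, 22718), (22490, 22479), (22491, 21094), (22492, 22181), (22493, 21102), (22494, 21904), (22495, 21106), (22496, 21109), (22497, 21205), (22498, 22849), (22499, 22521), (22500, 21110), (22501, 21386), (22502, 21116), (22503, 21167), (22504, 21166), (22505, 22793), (22506, 22301), (22507, 21462), (22508, 21131), (22509, 21132), (22510, 21135), (22511, 22436), (22512, 22224), (22513, 21141), (22514, 22300), (22515, 22240), (22516, 22139), (22517, 22796), (22518, 21438), (22519, 22547), (22520, 21568), (22521, 22499), (22522, 21161), (22523, 22833), (22524, 22832), (22525, 21980),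 (22526, 22426), (22527, 21171)]
    ⟨e3 q22464 (flp_f L261420) q22753, e3 q22465 L258384 q22275, e3 q22466 (flp_f L258390) q21036, e3 q22467 (flp_f L261878) q22797, e3 q22468 L258418 q21569, e3 q22469 (flp_f L261150) q22726, e3 q22470 L258442 q22238, e3 q22471 L259800 q22597, e3 q22472 L258466 q21785, e3 q22473 (flp_f L258474) q21051, e3 q22474 L258494 q21257, e3 q22475 (flp_f L258506) q21229, e3 q22476 (flp_f L261432) q22754, e3 q22477 L258522 q22022, e3 q22478 (flp_f L258538) q21712, e3 q22479 L258676 q22490, e3 q22480 L258556 q21111, e3 q22481 L258568 q21196, e3 q22482 L258580 q21968, e3 q22483 L258592 q22387, e3 q22484 L258604 q21342, e3 q22485 L258620 q22259, e3 q22486 (flp_f L258624) q21092, e3 q22487 L258640 q22225, e3 q22488 L258650 q21105, e3 q22489 (flp_f L261060) q22718, e3 q22490 (flp_f L258676) q22479, e3 q22491 (flp_f L258678) q21094, e3 q22492 L258690 q22181, e3 q22493 (flp_f L258706) q21102, e3 q22494 (flp_f L258718) q21904, e3 q22495 (flp_f L258720) q21106, e3 q22496 L258740 q21109, e3 q22497 (flp_f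 L258752) q21205, e3 q22498 (flp_f L262407) q22849, e3 q22499 L259019 q22521, e3 q22500 (flp_f L258770) q21110, e3 q22501 (flp_f L258792) q21386, e3 q22502 L258798 q21116, e3 q22503 (flp_f L258812) q21167, e3 q22504 (flp_f L258824) q21166, e3 q22505 L261832 q22793, e3 q22506 L258840 q22301, e3 q22507 (flp_f L258858) q21462, e3 q22508 (flp_f L258860) q21131, e3 q22509 (flp_f L258872) q21132, e3 q22510 (flp_f L258880) q21135, e3 q22511 L258898 q22436, e3 q22512 (flp_f L258911) q22224, e3 q22513 (flp_f L258915) q21141, e3 q22514 L258935 q22300, e3 q22515 (flp_f L258949) q22240, e3 q22516 L258957 q22139, e3 q22517 (flp_f L261864) q22796, e3 q22518 L258975 q21438, e3 q22519 (flp_f L259298) q22547, e3 q22520 L259007 q21568, e3 q22521 (flp_f L259019) q22499, e3 q22522 (flp_f L259021) q21161, e3 q22523 (flp_f L262227) q22833, e3 q22524 (flp_f L262213) q22832, e3 q22525 L259055 q21980, e3 q22526 L259069 q22426, e3 q22527 (flp_f L259073) q21171, trivial⟩ (by decide +kernel)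

theorem ce_f_352 : ∀ r, r < 64 → sm gf (Qf (22528 + r)) = Qf (tab Gen.f (22528 + r)) :=
  edges_tab (sm gf) Qf (tab Gen.f) 22528 [(22528, 22560), (22529, 21183), (22530, 21185), (22531, 22283), (22532, 22269), (22533, 22533), (22534, 22140), (22535, 21376), (22536, 21694), (22537, 21204), (22538, 21207), (22539, 22570), (22540, 21211), (22541, 21388), (22542, 22571), (22543, 22821), (22544, 22549), (22545, 22559), (22546, 22852), (22547, 22519), (22548, 21819), (22549, 22544), (22550, 22600), (22551, 22327), (22552, 22328), (22553, 21230), (22554, 21233), (22555, 22853), (22556, 22556), (22557, 21906), (22558, 22856), (22559, 22545), (22560, 22528), (22561, 21267), (22562, 22170), (22563, 22601), (22564, 22579), (22565, 21277), (22566, 22566), (22567, 22567), (22568, 22576), (22569, 22577), (22570, 22539), (22571, 22542), (22572, 22575), (22573, 21334), (22574, 22857), (22575, 22572), (22576, 22568), (22577, 22569), (22578, 22675), (22579, 22564), (22580, 22838), (22581, 21916), (22582, 21919), (22583, 22157),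 (22584, 21385), (22585, 22748), (22586, 22859), (22587, 21389), (22588, 22592), (22589, 21390), (22590, 21394), (22591, 21709)]
    ⟨e3 q22528 (flp_f L259438) q22560, e3 q22529 L259099 q21183, e3 q22530 L259113 q21185, e3 q22531 (flp_f L259127) q22283, e3 q22532 (flp_f L259137) q22269, e3 q22533 L259145 q22533, e3 q22534 (flp_f L259156) q22140, e3 q22535 L259168 q21376, e3 q22536 L259184 q21694, e3 q22537 (flp_f L259188) q21204, e3 q22538 L259206 q21207, e3 q22539 (flp_f L259534) q22570, e3 q22540 L259224 q21211, e3 q22541 L259236 q21388, e3 q22542 (flp_f L259546) q22571, e3 q22543 L262109 q22821, e3 q22544 (flp_f L259324) q22549, e3 q22545 (flp_f L259424) q22559, e3 q22546 (flp_f L262447) q22852, e3 q22547 L259298 q22519, e3 q22548 (flp_f L259314) q21819, e3 q22549 L259324 q22544, e3 q22550 L259834 q22600, e3 q22551 L259344 q22327, e3 q22552 (flp_f L259358) q22328, e3 q22553 (flp_f L259360) q21230, e3 q22554 (flp_f L259372) q21233, e3 q22555 (flp_f L262461) q22853, e3 q22556 L259396 q22556, e3 q22557 L259403 q21906,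 e3 q22558 L262493 q22856, e3 q22559 L259424 q22545, e3 q22560 L259438 q22528, e3 q22561 (flp_f L259442) q21267, e3 q22562 (flp_f L259460) q22170, e3 q22563 (flp_f L259840) q22601, e3 q22564 (flp_f L259624) q22579, e3 q22565 (flp_f L259484) q21277, e3 q22566 L259502 q22566, e3 q22567 L259510 q22567, e3 q22568 (flp_f L259595) q22576, e3 q22569 (flp_f L259605) q22577, e3 q22570 L259534 q22539, e3 q22571 L259546 q22542, e3 q22572 (flp_f L259582) q22575, e3 q22573 L259564 q21334, e3 q22574 (flp_f L262515) q22857, e3 q22575 L259582 q22572, e3 q22576 L259595 q22568, e3 q22577 L259605 q22569, e3 q22578 (flp_f L260571) q22675, e3 q22579 L259624 q22564, e3 q22580 L262283 q22838, e3 q22581 L259640 q21916, e3 q22582 L259644 q21919, e3 q22583 L259658 q22157, e3 q22584 (flp_f L259660) q21385, e3 q22585 (flp_f L261388) q22748, e3 q22586 L262533 q22859, e3 q22587 (flp_f L259694) q21389, e3 q22588 L259754 q22592, e3 q22589 (flp_f L259712) q21390, e3 q22590 (flp_f L259730) q21394, e3 q22591 L259738 q21709, trivial⟩ (by decide +kernel)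

theorem ce_f_353 : ∀ r, r < 64 → sm gf (Qf (22592 + r)) = Qf (tab Gen.f (22592 + r)) :=
  edges_tab (sm gf) Qf (tab Gen.f) 22592 [(22592, 22588), (22593, 22419), (22594, 22606), (22595, 22604), (22596, 22270), (22597, 22471), (22598, 21434), (22599, 22389), (22600, 22550), (22601, 22563), (22602, 22784), (22603, 21436), (22604, 22595), (22605, 22191), (22606, 22594), (22607, 21454), (22608, 22166), (22609, 22355), (22610, 22305), (22611, 21484), (22612, 22805), (22613, 22806), (22614, 22626), (22615, 22808), (22616, 22629), (22617, 22278), (22618, 22379), (22619, 22016), (22620, 22809), (22621, 22810), (22622, 22147), (22623, 22028), (22624, 21947), (22625, 21509), (22626, 22614), (22627, 22840), (22628, 21513), (22629, 22616), (22630, 21515), (22631, 21517), (22632, 22154), (22633, 22017), (22634, 22008), (22635, 22786), (22636, 21535), (22637, 22151), (22638, 22193), (22639, 21759), (22640, 21932), (22641, 22858), (22642, 21558), (22643, 21586), (22644, 22771), (22645, 21565), (22646, 21961), (22647, 21566),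 (22648, 22218), (22649, 22682), (22650, 21575), (22651, 22665), (22652, 21582), (22653, 22664), (22654, 21900), (22655, 21897)]
    ⟨e3 q22592 (flp_f L259754) q22588, e3 q22593 L259762 q22419, e3 q22594 (flp_f L259902) q22606, e3 q22595 (flp_f L259878) q22604, e3 q22596 L259788 q22270, e3 q22597 (flp_f L259800) q22471, e3 q22598 L259810 q21434, e3 q22599 L259822 q22389, e3 q22600 (flp_f L259834) q22550, e3 q22601 L259840 q22563, e3 q22602 (flp_f L261718) q22784, e3 q22603 (flp_f L259858) q21436, e3 q22604 L259878 q22595, e3 q22605 L259886 q22191, e3 q22606 L259902 q22594, e3 q22607 L259912 q21454, e3 q22608 L259924 q22166, e3 q22609 L259936 q22355, e3 q22610 L259952 q22305, e3 q22611 (flp_f L259968) q21484, e3 q22612 (flp_f L261955) q22805, e3 q22613 (flp_f L261963) q22806, e3 q22614 (flp_f L260114) q22626, e3 q22615 (flp_f L261983) q22808, e3 q22616 (flp_f L260142) q22629, e3 q22617 (flp_f L260008) q22278, e3 q22618 L260018 q22379, e3 q22619 L260028 q22016, e3 q22620 (flp_f L261992) q22809, e3 q22621 (flp_f L262009)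 q22810, e3 q22622 L260060 q22147, e3 q22623 L260074 q22028, e3 q22624 L260086 q21947, e3 q22625 (flp_f L260094) q21509, e3 q22626 L260114 q22614, e3 q22627 (flp_f L262307) q22840, e3 q22628 (flp_f L260126) q21513, e3 q22629 L260142 q22616, e3 q22630 (flp_f L260144) q21515, e3 q22631 (flp_f L260152) q21517, e3 q22632 L260172 q22154, e3 q22633 L260182 q22017, e3 q22634 (flp_f L260198) q22008, e3 q22635 (flp_f L261746) q22786, e3 q22636 (flp_f L260210) q21535, e3 q22637 L260217 q22151, e3 q22638 L260223 q22193, e3 q22639 L260239 q21759, e3 q22640 (flp_f L260247) q21932, e3 q22641 (flp_f L262528) q22858, e3 q22642 (flp_f L260260) q21558, e3 q22643 L260278 q21586, e3 q22644 (flp_f L261595) q22771, e3 q22645 (flp_f L260292) q21565, e3 q22646 (flp_f L260311) q21961, e3 q22647 (flp_f L260313) q21566, e3 q22648 (flp_f L260337) q22218, e3 q22649 (flp_f L260657) q22682, e3 q22650 (flp_f L260351) q21575, e3 q22651 (flp_f L260484) q22665, e3 q22652 (flp_f L260365) q21582, e3 q22653 (flp_f L260476) q22664, e3 q22654 L260386 q21900,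 e3 q22655 L260398 q21897, trivial⟩ (by decide +kernel)

theorem ce_f_354 : ∀ r, r < 64 → sm gf (Qf (22656 + r)) = Qf (tab Gen.f (22656 + r)) :=
  edges_tab (sm gf) Qf (tab Gen.f) 22656 [(22656, 22666), (22657, 22671), (22658, 22169), (22659, 22712), (22660, 22705), (22661, 22695), (22662, 21606), (22663, 22707), (22664, 22653), (22665, 22651), (22666, 22656), (22667, 21626), (22668, 22176), (22669, 22175), (22670, 21646), (22671, 22657), (22672, 21666), (22673, 22673), (22674, 22686), (22675, 22578), (22676, 21631), (22677, 21633), (22678, 21641), (22679, 22373), (22680, 21816), (22681, 21899), (22682, 22649), (22683, 22871), (22684, 21707), (22685, 21647), (22686, 22674), (22687, 22757), (22688, 21650), (22689, 22002), (22690, 21660), (22691, 22692), (22692, 22691), (22693, 22693), (22694, 21859), (22695, 22661), (22696, 22449), (22697, 22697), (22698, 22406), (22699, 21711), (22700, 21875), (22701, 21705), (22702, 22870), (22703, 22715), (22704, 22714), (22705, 22660), (22706, 21931), (22707, 22663), (22708, 22716),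 (22709, 21964), (22710, 22717), (22711, 21732), (22712, 22659), (22713, 21746), (22714, 22704), (22715, 22703), (22716, 22708), (22717, 22710), (22718, 22489), (22719, 21882)]
    ⟨e3 q22656 (flp_f L260494) q22666, e3 q22657 L260546 q22671, e3 q22658 L260422 q22169, e3 q22659 (flp_f L260992) q22712, e3 q22660 (flp_f L260911) q22705, e3 q22661 (flp_f L260801) q22695, e3 q22662 (flp_f L260454) q21606, e3 q22663 (flp_f L260938) q22707, e3 q22664 L260476 q22653, e3 q22665 L260484 q22651, e3 q22666 L260494 q22656, e3 q22667 L260504 q21626, e3 q22668 L260516 q22176, e3 q22669 L260526 q22175, e3 q22670 (flp_f L260536) q21646, e3 q22671 (flp_f L260546) q22657, e3 q22672 L260554 q21666, e3 q22673 L260560 q22673, e3 q22674 (flp_f L260699) q22686, e3 q22675 L260571 q22578, e3 q22676 (flp_f L260577) q21631, e3 q22677 (flp_f L260590) q21633, e3 q22678 L260608 q21641, e3 q22679 L260622 q22373, e3 q22680 (flp_f L260635) q21816, e3 q22681 L260647 q21899, e3 q22682 L260657 q22649, e3 q22683 L262664 q22871, e3 q22684 L260675 q21707,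 e3 q22685 (flp_f L260679) q21647, e3 q22686 L260699 q22674, e3 q22687 (flp_f L261462) q22757, e3 q22688 (flp_f L260713) q21650, e3 q22689 L260733 q22002, e3 q22690 (flp_f L260739) q21660, e3 q22691 (flp_f L260769) q22692, e3 q22692 L260769 q22691, e3 q22693 L260779 q22693, e3 q22694 (flp_f L260791) q21859, e3 q22695 L260801 q22661, e3 q22696 L260815 q22449, e3 q22697 L260825 q22697, e3 q22698 L260834 q22406, e3 q22699 (flp_f L260850) q21711, e3 q22700 L260862 q21875, e3 q22701 (flp_f L260876) q21705, e3 q22702 (flp_f L262660) q22870, e3 q22703 (flp_f L261030) q22715, e3 q22704 (flp_f L261020) q22714, e3 q22705 L260911 q22660, e3 q22706 (flp_f L260926) q21931, e3 q22707 L260938 q22663, e3 q22708 (flp_f L261042) q22716, e3 q22709 L260960 q21964, e3 q22710 (flp_f L261050) q22717, e3 q22711 (flp_f L260972) q21732, e3 q22712 L260992 q22659, e3 q22713 (flp_f L260998) q21746, e3 q22714 L261020 q22704, e3 q22715 L261030 q22703, e3 q22716 L261042 q22708, e3 q22717 L261050 q22710, e3 q22718 L261060 q22489, e3 q22719 L261068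 q21882, trivial⟩ (by decide +kernel)

theorem ce_f_355 : ∀ r, r < 64 → sm gf (Qf (22720 + r)) = Qf (tab Gen.f (22720 + r)) :=
  edges_tab (sm gf) Qf (tab Gen.f) 22720 [(22720, 22736), (22721, 22254), (22722, 22344), (22723, 22336), (22724, 21977), (22725, 22086), (22726, 22469), (22727, 21979), (22728, 22850), (22729, 21807), (22730, 21813), (22731, 21827), (22732, 22801), (22733, 22803), (22734, 22743), (22735, 22742), (22736, 22720), (22737, 21872), (22738, 22075), (22739, 22411), (22740, 21887), (22741, 22393), (22742, 22735), (22743, 22734), (22744, 22824), (22745, 22860), (22746, 21950), (22747, 21953), (22748, 22585), (22749, 22804), (22750, 22791), (22751, 22404), (22752, 22405), (22753, 22464), (22754, 22476), (22755, 22089), (22756, 22822), (22757, 22687), (22758, 22331), (22759, 22759), (22760, 22760), (22761, 22847), (22762, 22765), (22763, 22874), (22764, 22102), (22765, 22762), (22766, 22875), (22767, 22105), (22768, 22108), (22769, 22769), (22770, 22836), (22771, 22644), (22772, 22845), (22773, 22114),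 (22774, 22343), (22775, 22115), (22776, 22780), (22777, 22843), (22778, 22121), (22779, 22329), (22780, 22776), (22781, 22811), (22782, 22146), (22783, 22876)]
    ⟨e3 q22720 (flp_f L261254) q22736, e3 q22721 L261088 q22254, e3 q22722 L261100 q22344, e3 q22723 L261110 q22336, e3 q22724 (flp_f L261126) q21977, e3 q22725 L261136 q22086, e3 q22726 L261150 q22469, e3 q22727 (flp_f L261166) q21979, e3 q22728 (flp_f L262421) q22850, e3 q22729 L261190 q21807, e3 q22730 (flp_f L261194) q21813, e3 q22731 (flp_f L261206) q21827, e3 q22732 (flp_f L261917) q22801, e3 q22733 (flp_f L261939) q22803, e3 q22734 (flp_f L261338) q22743, e3 q22735 L261328 q22742, e3 q22736 L261254 q22720, e3 q22737 (flp_f L261260) q21872, e3 q22738 L261274 q22075, e3 q22739 L261286 q22411, e3 q22740 (flp_f L261292) q21887, e3 q22741 L261314 q22393, e3 q22742 (flp_f L261328) q22735, e3 q22743 L261338 q22734, e3 q22744 (flp_f L262139) q22824, e3 q22745 L262555 q22860, e3 q22746 (flp_f L261362) q21950, e3 q22747 (flp_f L261370) q21953, e3 q22748 L261388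 q22585, e3 q22749 (flp_f L261945) q22804, e3 q22750 (flp_f L261808) q22791, e3 q22751 (flp_f L261408) q22404, e3 q22752 L261414 q22405, e3 q22753 L261420 q22464, e3 q22754 L261432 q22476, e3 q22755 (flp_f L261440) q22089, e3 q22756 (flp_f L262119) q22822, e3 q22757 L261462 q22687, e3 q22758 L261474 q22331, e3 q22759 L261490 q22759, e3 q22760 L261499 q22760, e3 q22761 (flp_f L262381) q22847, e3 q22762 (flp_f L261546) q22765, e3 q22763 (flp_f L262712) q22874, e3 q22764 (flp_f L261526) q22102, e3 q22765 L261546 q22762, e3 q22766 L262718 q22875, e3 q22767 (flp_f L261556) q22105, e3 q22768 (flp_f L261564) q22108, e3 q22769 L261578 q22769, e3 q22770 (flp_f L262253) q22836, e3 q22771 L261595 q22644, e3 q22772 (flp_f L262357) q22845, e3 q22773 (flp_f L261607) q22114, e3 q22774 L261619 q22343, e3 q22775 (flp_f L261623) q22115, e3 q22776 (flp_f L261684) q22780, e3 q22777 (flp_f L262339) q22843, e3 q22778 (flp_f L261654) q22121, e3 q22779 L261670 q22329, e3 q22780 L261684 q22776, e3 q22781 (flp_f L262020) q22811, e3 q22782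 L261702 q22146, e3 q22783 (flp_f L262740) q22876, trivial⟩ (by decide +kernel)

theorem ce_f_356 : ∀ r, r < 64 → sm gf (Qf (22784 + r)) = Qf (tab Gen.f (22784 + r)) :=
  edges_tab (sm gf) Qf (tab Gen.f) 22784 [(22784, 22602), (22785, 22386), (22786, 22635), (22787, 22189), (22788, 22812), (22789, 22789), (22790, 22226), (22791, 22750), (22792, 22171), (22793, 22505), (22794, 22794), (22795, 22846), (22796, 22517), (22797, 22467), (22798, 22802), (22799, 22807), (22800, 22312), (22801, 22732), (22802, 22798), (22803, 22733), (22804, 22749), (22805, 22612), (22806, 22613), (22807, 22799), (22808, 22615), (22809, 22620), (22810, 22621), (22811, 22781), (22812, 22788), (22813, 22320), (22814, 22323), (22815, 22879), (22816, 22828), (22817, 22349), (22818, 22325), (22819, 22854), (22820, 22335), (22821, 22543), (22822, 22756), (22823, 22877), (22824, 22744), (22825, 22829), (22826, 22830), (22827, 22869), (22828, 22816), (22829, 22825), (22830, 22826), (22831, 22873), (22832, 22524), (22833, 22523), (22834, 22424), (22835,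 22408), (22836, 22770), (22837, 22414), (22838, 22580), (22839, 22842), (22840, 22627), (22841, 22422), (22842, 22839), (22843, 22777), (22844, 22862), (22845, 22772), (22846, 22795), (22847, 22761)]
    ⟨e3 q22784 L261718 q22602, e3 q22785 L261732 q22386, e3 q22786 L261746 q22635, e3 q22787 L261757 q22189, e3 q22788 (flp_f L262029) q22812, e3 q22789 L261783 q22789, e3 q22790 L261794 q22226, e3 q22791 L261808 q22750, e3 q22792 (flp_f L261814) q22171, e3 q22793 (flp_f L261832) q22505, e3 q22794 L261842 q22794, e3 q22795 (flp_f L262373) q22846, e3 q22796 L261864 q22517, e3 q22797 L261878 q22467, e3 q22798 (flp_f L261928) q22802, e3 q22799 (flp_f L261973) q22807, e3 q22800 L261907 q22312, e3 q22801 L261917 q22732, e3 q22802 L261928 q22798, e3 q22803 L261939 q22733, e3 q22804 L261945 q22749, e3 q22805 L261955 q22612, e3 q22806 L261963 q22613, e3 q22807 L261973 q22799, e3 q22808 L261983 q22615, e3 q22809 L261992 q22620, e3 q22810 L262009 q22621, e3 q22811 L262020 q22781, e3 q22812 L262029 q22788, e3 q22813 (flp_f L262033)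 q22320, e3 q22814 L262047 q22323, e3 q22815 (flp_f L262775) q22879, e3 q22816 (flp_f L262173) q22828, e3 q22817 L262071 q22349, e3 q22818 (flp_f L262073) q22325, e3 q22819 (flp_f L262473) q22854, e3 q22820 (flp_f L262091) q22335, e3 q22821 (flp_f L262109) q22543, e3 q22822 L262119 q22756, e3 q22823 (flp_f L262748) q22877, e3 q22824 L262139 q22744, e3 q22825 (flp_f L262184) q22829, e3 q22826 (flp_f L262194) q22830, e3 q22827 (flp_f L262647) q22869, e3 q22828 L262173 q22816, e3 q22829 L262184 q22825, e3 q22830 L262194 q22826, e3 q22831 (flp_f L262698) q22873, e3 q22832 L262213 q22524, e3 q22833 L262227 q22523, e3 q22834 L262241 q22424, e3 q22835 (flp_f L262243) q22408, e3 q22836 L262253 q22770, e3 q22837 (flp_f L262259) q22414, e3 q22838 (flp_f L262283) q22580, e3 q22839 L262331 q22842, e3 q22840 L262307 q22627, e3 q22841 (flp_f L262309) q22422, e3 q22842 (flp_f L262331) q22839, e3 q22843 L262339 q22777, e3 q22844 (flp_f L262577) q22862, e3 q22845 L262357 q22772, e3 q22846 L262373 q22795, e3 q22847 L262381 q22761,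 trivial⟩ (by decide +kernel)

theorem ce_f_357 : ∀ r, r < 32 → sm gf (Qf (22848 + r)) = Qf (tab Gen.f (22848 + r)) :=
  edges_tab (sm gf) Qf (tab Gen.f) 22848 [(22848, 22855), (22849, 22498), (22850, 22728), (22851, 22872), (22852, 22546), (22853, 22555), (22854, 22819), (22855, 22848), (22856, 22558), (22857, 22574), (22858, 22641), (22859, 22586), (22860, 22745), (22861, 22878), (22862, 22844), (22863, 22866), (22864, 22867), (22865, 22868), (22866, 22863), (22867, 22864), (22868, 22865), (22869, 22827), (22870, 22702), (22871, 22683), (22872, 22851), (22873, 22831), (22874, 22763), (22875, 22766), (22876, 22783), (22877, 22823), (22878, 22861), (22879, 22815)]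
    ⟨e3 q22848 L262489 q22855, e3 q22849 L262407 q22498, e3 q22850 L262421 q22728, e3 q22851 (flp_f L262684) q22872, e3 q22852 L262447 q22546, e3 q22853 L262461 q22555, e3 q22854 L262473 q22819, e3 q22855 (flp_f L262489) q22848, e3 q22856 (flp_f L262493) q22558, e3 q22857 L262515 q22574, e3 q22858 L262528 q22641, e3 q22859 (flp_f L262533) q22586, e3 q22860 (flp_f L262555) q22745, e3 q22861 (flp_f L262762) q22878, e3 q22862 L262577 q22844, e3 q22863 (flp_f L262613) q22866, e3 q22864 (flp_f L262623) q22867, e3 q22865 L262637 q22868, e3 q22866 L262613 q22863, e3 q22867 L262623 q22864, e3 q22868 (flp_f L262637) q22865, e3 q22869 L262647 q22827, e3 q22870 L262660 q22702, e3 q22871 (flp_f L262664) q22683, e3 q22872 L262684 q22851, e3 q22873 L262698 q22831, e3 q22874 L262712 q22763, e3 q22875 (flp_f L262718) q22766, e3 q22876 L262740 q22783, e3 q22877 L262748 q22823, e3 q22878 L262762 q22861, e3 q22879 L262775 q22815, trivial⟩ (by decide +kernel)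

theorem cl_f : ∀ i, i < 22880 → sm gf (Qf i) = Qf (tab Gen.f i) :=
  all_of_chunks (fun i => sm gf (Qf i) = Qf (tab Gen.f i)) 357 32
    ⟨ce_f_0, ce_f_1, ce_f_2, ce_f_3, ce_f_4, ce_f_5, ce_f_6, ce_f_7, ce_f_8, ce_f_9, ce_f_10, ce_f_11, ce_f_12, ce_f_13, ce_f_14, ce_f_15, ce_f_16, ce_f_17, ce_f_18, ce_f_19, ce_f_20, ce_f_21, ce_f_22, ce_f_23, ce_f_24, ce_f_25, ce_f_26, ce_f_27, ce_f_28, ce_f_29, ce_f_30, ce_f_31, ce_f_32, ce_f_33, ce_f_34, ce_f_35, ce_f_36, ce_f_37, ce_f_38, ce_f_39, ce_f_40, ce_f_41, ce_f_42, ce_f_43, ce_f_44, ce_f_45, ce_f_46, ce_f_47, ce_f_48, ce_f_49, ce_f_50, ce_f_51, ce_f_52, ce_f_53, ce_f_54, ce_f_55, ce_f_56, ce_f_57, ce_f_58, ce_f_59, ce_f_60, ce_f_61, ce_f_62, ce_f_63, ce_f_64, ce_f_65, ce_f_66, ce_f_67, ce_f_68, ce_f_69, ce_f_70, ce_f_71, ce_f_72, ce_f_73, ce_f_74, ce_f_75, ce_f_76, ce_f_77, ce_f_78, ce_f_79, ce_f_80, ce_f_81, ce_f_82, ce_f_83, ce_f_84, ce_f_85, ce_f_86, ce_f_87, ce_f_88, ce_f_89, ce_f_90, ce_f_91, ce_f_92, ce_f_93, ce_f_94, ce_f_95, ce_f_96, ce_f_97, ce_f_98, ce_f_99,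 ce_f_100, ce_f_101, ce_f_102, ce_f_103, ce_f_104, ce_f_105, ce_f_106, ce_f_107, ce_f_108, ce_f_109, ce_f_110, ce_f_111, ce_f_112, ce_f_113, ce_f_114, ce_f_115, ce_f_116, ce_f_117, ce_f_118, ce_f_119, ce_f_120, ce_f_121, ce_f_122, ce_f_123, ce_f_124, ce_f_125, ce_f_126, ce_f_127, ce_f_128, ce_f_129, ce_f_130, ce_f_131, ce_f_132, ce_f_133, ce_f_134, ce_f_135, ce_f_136, ce_f_137, ce_f_138, ce_f_139, ce_f_140, ce_f_141, ce_f_142, ce_f_143, ce_f_144, ce_f_145, ce_f_146, ce_f_147, ce_f_148, ce_f_149, ce_f_150, ce_f_151, ce_f_152, ce_f_153, ce_f_154, ce_f_155, ce_f_156, ce_f_157, ce_f_158, ce_f_159, ce_f_160, ce_f_161, ce_f_162, ce_f_163, ce_f_164, ce_f_165, ce_f_166, ce_f_167, ce_f_168, ce_f_169, ce_f_170, ce_f_171, ce_f_172, ce_f_173, ce_f_174, ce_f_175, ce_f_176, ce_f_177, ce_f_178, ce_f_179, ce_f_180, ce_f_181, ce_f_182, ce_f_183, ce_f_184, ce_f_185, ce_f_186, ce_f_187, ce_f_188, ce_f_189, ce_f_190, ce_f_191, ce_f_192, ce_f_193, ce_f_194, ce_f_195, ce_f_196, ce_f_197, ce_f_198, ce_f_199, ce_f_200, ce_f_201, ce_f_202,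 ce_f_203, ce_f_204, ce_f_205, ce_f_206, ce_f_207, ce_f_208, ce_f_209, ce_f_210, ce_f_211, ce_f_212, ce_f_213, ce_f_214, ce_f_215, ce_f_216, ce_f_217, ce_f_218, ce_f_219, ce_f_220, ce_f_221, ce_f_222, ce_f_223, ce_f_224, ce_f_225, ce_f_226, ce_f_227, ce_f_228, ce_f_229, ce_f_230, ce_f_231, ce_f_232, ce_f_233, ce_f_234, ce_f_235, ce_f_236, ce_f_237, ce_f_238, ce_f_239, ce_f_240, ce_f_241, ce_f_242, ce_f_243, ce_f_244, ce_f_245, ce_f_246, ce_f_247, ce_f_248, ce_f_249, ce_f_250, ce_f_251, ce_f_252, ce_f_253, ce_f_254, ce_f_255, ce_f_256, ce_f_257, ce_f_258, ce_f_259, ce_f_260, ce_f_261, ce_f_262, ce_f_263, ce_f_264, ce_f_265, ce_f_266, ce_f_267, ce_f_268, ce_f_269, ce_f_270, ce_f_271, ce_f_272, ce_f_273, ce_f_274, ce_f_275, ce_f_276, ce_f_277, ce_f_278, ce_f_279, ce_f_280, ce_f_281, ce_f_282, ce_f_283, ce_f_284, ce_f_285, ce_f_286, ce_f_287, ce_f_288, ce_f_289, ce_f_290, ce_f_291, ce_f_292, ce_f_293, ce_f_294, ce_f_295, ce_f_296, ce_f_297, ce_f_298, ce_f_299, ce_f_300, ce_f_301, ce_f_302, ce_f_303, ce_f_304, ce_f_305,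 ce_f_306, ce_f_307, ce_f_308, ce_f_309, ce_f_310, ce_f_311, ce_f_312, ce_f_313, ce_f_314, ce_f_315, ce_f_316, ce_f_317, ce_f_318, ce_f_319, ce_f_320, ce_f_321, ce_f_322, ce_f_323, ce_f_324, ce_f_325, ce_f_326, ce_f_327, ce_f_328, ce_f_329, ce_f_330, ce_f_331, ce_f_332, ce_f_333, ce_f_334, ce_f_335, ce_f_336, ce_f_337, ce_f_338, ce_f_339, ce_f_340, ce_f_341, ce_f_342, ce_f_343, ce_f_344, ce_f_345, ce_f_346, ce_f_347, ce_f_348, ce_f_349, ce_f_350, ce_f_351, ce_f_352, ce_f_353, ce_f_354, ce_f_355, ce_f_356, trivial⟩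
    ce_f_357


end Cfsg.Agent.Helper28.SzbA
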