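import Cfsg.Agent.Helper28.SzbC0

/-!
# The Suzuki group presentation, cosets of the subgroup generated by a, b, c, d, f, g: the action of the generator g (helper28; generated)
-/

set_option autoImplicit false
set_option maxRecDepth 100000
set_option linter.unusedSimpArgs false
set_option linter.constructorNameAsVariable false

noncomputable section

namespace Cfsg.Agent.Helper28.SzbA

open Cfsg.Spor Cfsg.Spor.Suz Cfsg.Agent.Helper28.CosetTable

theorem ce_g_0 : ∀ r, r < 64 → sm gg (Qf (0 + r)) = Qf (tab Gen.g (0 + r)) :=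
  edges_tab (sm gg) Qf (tab Gen.g) 0 [(0, 0), (1, 1), (2, 2), (3, 3), (4, 9), (5, 5), (6, 14), (7, 18), (8, 19), (9, 4), (10, 10), (11, 24), (12, 28), (13, 20), (14, 6), (15, 34), (16, 36), (17, 37), (18, 7), (19, 8), (20, 13), (21, 43), (22, 47), (23, 49), (24, 11), (25, 56), (26, 58), (27, 38), (28, 12), (29, 63), (30, 50), (31, 69), (32, 72), (33, 74), (34, 15), (35, 77), (36, 16), (37, 17), (38, 27), (39, 39), (40, 86), (41, 90), (42, 51), (43, 21), (44, 97), (45, 99), (46, 101), (47, 22), (48, 104), (49, 23), (50, 30), (51, 42), (52, 112), (53, 115), (54, 118), (55, 76), (56, 25), (57, 78), (58, 26), (59, 125), (60, 102), (61, 107), (62, 131), (63, 29)]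
    ⟨e3 q0 L5 q0, e3 q1 L12 q1, e3 q2 L18 q2, e3 q3 L25 q3, e3 q4 L49 q9, e3 q5 L34 q5, e3 q6 L74 q14, e3 q7 L93 q18, e3 q8 L98 q19, e3 q9 (flp_g L49) q4, e3 q10 L59 q10, e3 q11 L127 q24, e3 q12 L145 q28, e3 q13 (flp_g L110) q20, e3 q14 (flp_g L74) q6, e3 q15 L169 q34, e3 q16 L179 q36, e3 q17 L185 q37, e3 q18 (flp_g L93) q7, e3 q19 (flp_g L98) q8, e3 q20 L110 q13, e3 q21 L222 q43, e3 q22 L251 q47, e3 q23 L260 q49, e3 q24 (flp_g L127) q11, e3 q25 L297 q56, e3 q26 L310 q58, e3 q27 (flp_g L197) q38, e3 q28 (flp_g L145) q12, e3 q29 L338 q63, e3 q30 (flp_g L268) q50, e3 q31 L358 q69, e3 q32 L371 q72, e3 q33 L381 q74, e3 q34 (flp_g L169) q15, e3 q35 L399 q77, e3 q36 (flp_g L179) q16, e3 q37 (flp_g L185) q17, e3 q38 L197 q27, e3 q39 L202 q39, e3 q40 L448 q86, e3 q41 L491 q90, e3 q42 (flp_g L275) q51, e3 q43 (flp_g L222) q21, e3 q44 L558 q97, e3 q45 L567 q99, e3 q46 L578 q101, e3 q47 (flp_g L251) q22, e3 q48 L598 q104, e3 q49 (flp_g L260) q23, e3 q50 L268 q30, e3 q51 L275 q42, e3 q52 L649 q112, e3 q53 L665 q115, e3 q54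 L685 q118, e3 q55 (flp_g L397) q76, e3 q56 (flp_g L297) q25, e3 q57 (flp_g L413) q78, e3 q58 (flp_g L310) q26, e3 q59 L713 q125, e3 q60 (flp_g L588) q102, e3 q61 L630 q107, e3 q62 L744 q131, e3 q63 (flp_g L338) q29, trivial⟩ (by decide +kernel)

theorem ce_g_1 : ∀ r, r < 64 → sm gg (Qf (64 + r)) = Qf (tab Gen.g (64 + r)) :=
  edges_tab (sm gg) Qf (tab Gen.g) 64 [(64, 65), (65, 64), (66, 134), (67, 137), (68, 139), (69, 31), (70, 144), (71, 146), (72, 32), (73, 149), (74, 33), (75, 75), (76, 55), (77, 35), (78, 57), (79, 79), (80, 160), (81, 81), (82, 82), (83, 162), (84, 165), (85, 166), (86, 40), (87, 171), (88, 173), (89, 103), (90, 41), (91, 129), (92, 92), (93, 180), (94, 183), (95, 186), (96, 188), (97, 44), (98, 192), (99, 45), (100, 196), (101, 46), (102, 60), (103, 89), (104, 48), (105, 106), (106, 105), (107, 61), (108, 205), (109, 208), (110, 211), (111, 213), (112, 52), (113, 218), (114, 141), (115, 53), (116, 223), (117, 148), (118, 54), (119, 228), (120, 214), (121, 234), (122, 193), (123, 200), (124,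 241), (125, 59), (126, 133), (127, 198)]
    ⟨e3 q64 (flp_g L65328) q65, e3 q65 L65328 q64, e3 q66 (flp_g L65341) q134, e3 q67 L791 q137, e3 q68 L800 q139, e3 q69 (flp_g L358) q31, e3 q70 L827 q144, e3 q71 L837 q146, e3 q72 (flp_g L371) q32, e3 q73 L865 q149, e3 q74 (flp_g L381) q33, e3 q75 L390 q75, e3 q76 L397 q55, e3 q77 (flp_g L399) q35, e3 q78 L413 q57, e3 q79 L419 q79, e3 q80 L913 q160, e3 q81 L428 q81, e3 q82 L432 q82, e3 q83 (flp_g L933) q162, e3 q84 L957 q165, e3 q85 L970 q166, e3 q86 (flp_g L448) q40, e3 q87 L1041 q171, e3 q88 L1054 q173, e3 q89 (flp_g L596) q103, e3 q90 (flp_g L491) q41, e3 q91 (flp_g L733) q129, e3 q92 L505 q92, e3 q93 L1182 q180, e3 q94 L1198 q183, e3 q95 L1210 q186, e3 q96 L1218 q188, e3 q97 (flp_g L558) q44, e3 q98 L1241 q192, e3 q99 (flp_g L567) q45, e3 q100 L1268 q196, e3 q101 (flp_g L578) q46, e3 q102 L588 q60, e3 q103 L596 q89, e3 q104 (flp_g L598) q48, e3 q105 L619 q106, e3 q106 (flp_g L619) q105, e3 q107 (flp_g L630) q61, e3 q108 L1347 q205, e3 q109 L1361 q208, e3 q110 L1374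 q211, e3 q111 L1382 q213, e3 q112 (flp_g L649) q52, e3 q113 L1410 q218, e3 q114 (flp_g L819) q141, e3 q115 (flp_g L665) q53, e3 q116 L1438 q223, e3 q117 (flp_g L859) q148, e3 q118 (flp_g L685) q54, e3 q119 L1458 q228, e3 q120 (flp_g L1388) q214, e3 q121 L1477 q234, e3 q122 (flp_g L1253) q193, e3 q123 L1307 q200, e3 q124 L1510 q241, e3 q125 (flp_g L713) q59, e3 q126 L57213 q133, e3 q127 (flp_g L1289) q198, trivial⟩ (by decide +kernel)

theorem ce_g_2 : ∀ r, r < 64 → sm gg (Qf (128 + r)) = Qf (tab Gen.g (128 + r)) :=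
  edges_tab (sm gg) Qf (tab Gen.g) 128 [(128, 247), (129, 91), (130, 242), (131, 62), (132, 132), (133, 126), (134, 66), (135, 254), (136, 256), (137, 67), (138, 259), (139, 68), (140, 140), (141, 114), (142, 265), (143, 267), (144, 70), (145, 270), (146, 71), (147, 147), (148, 117), (149, 73), (150, 274), (151, 151), (152, 231), (153, 153), (154, 285), (155, 155), (156, 156), (157, 287), (158, 290), (159, 291), (160, 80), (161, 161), (162, 83), (163, 292), (164, 293), (165, 84), (166, 85), (167, 167), (168, 298), (169, 301), (170, 190), (171, 87), (172, 194), (173, 88), (174, 238), (175, 175), (176, 307), (177, 310), (178, 313), (179, 315), (180, 93), (181, 320), (182, 322), (183, 94), (184, 327), (185, 329), (186, 95), (187, 334), (188, 96), (189, 316), (190, 170), (191, 341)]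
    ⟨e3 q128 L1542 q247, e3 q129 L733 q91, e3 q130 (flp_g L1520) q242, e3 q131 (flp_g L744) q62, e3 q132 L759 q132, e3 q133 (flp_g L57213) q126, e3 q134 L65341 q66, e3 q135 L1605 q254, e3 q136 L1616 q256, e3 q137 (flp_g L791) q67, e3 q138 L80271 q259, e3 q139 (flp_g L800) q68, e3 q140 L810 q140, e3 q141 L819 q114, e3 q142 L1676 q265, e3 q143 L1685 q267, e3 q144 (flp_g L827) q70, e3 q145 L1710 q270, e3 q146 (flp_g L837) q71, e3 q147 L850 q147, e3 q148 L859 q117, e3 q149 (flp_g L865) q73, e3 q150 (flp_g L1745) q274, e3 q151 L76112 q151, e3 q152 L82385 q231, e3 q153 L884 q153, e3 q154 L1809 q285, e3 q155 L895 q155, e3 q156 L898 q156, e3 q157 (flp_g L1827) q287, e3 q158 L1841 q290, e3 q159 L1854 q291, e3 q160 (flp_g L913) q80, e3 q161 L927 q161, e3 q162 L933 q83, e3 q163 (flp_g L1870) q292, e3 q164 L1898 q293, e3 q165 (flp_g L957) q84, e3 q166 (flp_g L970) q85, e3 q167 L76887 q167, e3 q168 L2071 q298, e3 q169 L2089 q301, e3 q170 (flp_g L1232) q190, e3 q171 (flp_g L1041) q87, e3 q172 (flp_g L1262) q194, e3 q173 (flp_g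 L1054) q88, e3 q174 (flp_g L1501) q238, e3 q175 L1071 q175, e3 q176 L2276 q307, e3 q177 L2290 q310, e3 q178 L2304 q313, e3 q179 L2314 q315, e3 q180 (flp_g L1182) q93, e3 q181 L2366 q320, e3 q182 L2374 q322, e3 q183 (flp_g L1198) q94, e3 q184 L2398 q327, e3 q185 L2406 q329, e3 q186 (flp_g L1210) q95, e3 q187 L2434 q334, e3 q188 (flp_g L1218) q96, e3 q189 (flp_g L2322) q316, e3 q190 L1232 q170, e3 q191 L2454 q341, trivial⟩ (by decide +kernel)

theorem ce_g_3 : ∀ r, r < 64 → sm gg (Qf (192 + r)) = Qf (tab Gen.g (192 + r)) :=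
  edges_tab (sm gg) Qf (tab Gen.g) 192 [(192, 98), (193, 122), (194, 172), (195, 347), (196, 100), (197, 199), (198, 127), (199, 197), (200, 123), (201, 201), (202, 356), (203, 359), (204, 215), (205, 108), (206, 362), (207, 364), (208, 109), (209, 369), (210, 371), (211, 110), (212, 275), (213, 111), (214, 120), (215, 204), (216, 380), (217, 258), (218, 113), (219, 385), (220, 365), (221, 391), (222, 269), (223, 116), (224, 396), (225, 372), (226, 401), (227, 403), (228, 119), (229, 277), (230, 376), (231, 152), (232, 345), (233, 411), (234, 121), (235, 251), (236, 343), (237, 417), (238, 174), (239, 351), (240, 420), (241, 124), (242, 130), (243, 243), (244, 250), (245, 349), (246, 427), (247, 128), (248, 422), (249, 412), (250, 244), (251, 235), (252, 437), (253, 439), (254, 135), (255, 442)]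
    ⟨e3 q192 (flp_g L1241) q98, e3 q193 L1253 q122, e3 q194 L1262 q172, e3 q195 L2508 q347, e3 q196 (flp_g L1268) q100, e3 q197 (flp_g L1295) q199, e3 q198 L1289 q127, e3 q199 L1295 q197, e3 q200 (flp_g L1307) q123, e3 q201 L81370 q201, e3 q202 L2598 q356, e3 q203 L2615 q359, e3 q204 (flp_g L1394) q215, e3 q205 (flp_g L1347) q108, e3 q206 L2636 q362, e3 q207 L2647 q364, e3 q208 (flp_g L1361) q109, e3 q209 L2675 q369, e3 q210 L2685 q371, e3 q211 (flp_g L1374) q110, e3 q212 (flp_g L81208) q275, e3 q213 (flp_g L1382) q111, e3 q214 L1388 q120, e3 q215 L1394 q204, e3 q216 L2743 q380, e3 q217 (flp_g L1635) q258, e3 q218 (flp_g L1410) q113, e3 q219 L2767 q385, e3 q220 (flp_g L2658) q365, e3 q221 L2795 q391, e3 q222 (flp_g L1702) q269, e3 q223 (flp_g L1438) q116, e3 q224 L2821 q396, e3 q225 (flp_g L2695) q372, e3 q226 L2845 q401, e3 q227 L2855 q403, e3 q228 (flp_g L1458) q119, e3 q229 L82420 q277, e3 q230 (flp_g L2723) q376, e3 q231 (flp_g L82385) q152, e3 q232 L2500 q345, e3 q233 L2908 q411, e3 q234 (flp_g L1477) q121,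 e3 q235 (flp_g L65321) q251, e3 q236 (flp_g L2480) q343, e3 q237 L2948 q417, e3 q238 L1501 q174, e3 q239 (flp_g L2540) q351, e3 q240 L2973 q420, e3 q241 (flp_g L1510) q124, e3 q242 L1520 q130, e3 q243 L1530 q243, e3 q244 L65388 q250, e3 q245 (flp_g L2526) q349, e3 q246 L3009 q427, e3 q247 (flp_g L1542) q128, e3 q248 (flp_g L2985) q422, e3 q249 (flp_g L2921) q412, e3 q250 (flp_g L65388) q244, e3 q251 L65321 q235, e3 q252 L3112 q437, e3 q253 L3125 q439, e3 q254 (flp_g L1605) q135, e3 q255 L80314 q442, trivial⟩ (by decide +kernel)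

theorem ce_g_4 : ∀ r, r < 64 → sm gg (Qf (256 + r)) = Qf (tab Gen.g (256 + r)) :=
  edges_tab (sm gg) Qf (tab Gen.g) 256 [(256, 136), (257, 257), (258, 217), (259, 138), (260, 384), (261, 261), (262, 388), (263, 450), (264, 452), (265, 142), (266, 456), (267, 143), (268, 268), (269, 222), (270, 145), (271, 461), (272, 272), (273, 399), (274, 150), (275, 212), (276, 467), (277, 229), (278, 405), (279, 407), (280, 280), (281, 281), (282, 476), (283, 480), (284, 482), (285, 154), (286, 286), (287, 157), (288, 483), (289, 485), (290, 158), (291, 159), (292, 163), (293, 164), (294, 294), (295, 295), (296, 494), (297, 324), (298, 168), (299, 497), (300, 331), (301, 169), (302, 408), (303, 303), (304, 500), (305, 503), (306, 317), (307, 176), (308, 508), (309, 510), (310, 177), (311, 515), (312, 517), (313, 178), (314, 522), (315, 179), (316, 189), (317, 306), (318, 530), (319, 532)]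
    ⟨e3 q256 (flp_g L1616) q136, e3 q257 L1626 q257, e3 q258 L1635 q217, e3 q259 (flp_g L80271) q138, e3 q260 L81216 q384, e3 q261 L1660 q261, e3 q262 (flp_g L73212) q388, e3 q263 L3278 q450, e3 q264 L3283 q452, e3 q265 (flp_g L1676) q142, e3 q266 L3309 q456, e3 q267 (flp_g L1685) q143, e3 q268 L1695 q268, e3 q269 L1702 q222, e3 q270 (flp_g L1710) q145, e3 q271 (flp_g L3350) q461, e3 q272 L76103 q272, e3 q273 (flp_g L82314) q399, e3 q274 L1745 q150, e3 q275 L81208 q212, e3 q276 (flp_g L3421) q467, e3 q277 (flp_g L82420) q229, e3 q278 (flp_g L82302) q405, e3 q279 (flp_g L82247) q407, e3 q280 L1785 q280, e3 q281 L1790 q281, e3 q282 (flp_g L3515) q476, e3 q283 L3533 q480, e3 q284 L3547 q482, e3 q285 (flp_g L1809) q154, e3 q286 L1820 q286, e3 q287 L1827 q157, e3 q288 (flp_g L3566) q483, e3 q289 L3589 q485, e3 q290 (flp_g L1841) q158, e3 q291 (flp_g L1854) q159, e3 q292 L1870 q163, e3 q293 (flp_g L1898) q164, e3 q294 L76879 q294, e3 q295 L76893 q295, e3 q296 L3999 q494, e3 q297 (flp_g L2390) q324, e3 q298 (flp_g L2071)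 q168, e3 q299 L4025 q497, e3 q300 (flp_g L2426) q331, e3 q301 (flp_g L2089) q169, e3 q302 (flp_g L2897) q408, e3 q303 L2113 q303, e3 q304 L4359 q500, e3 q305 L4379 q503, e3 q306 (flp_g L2330) q317, e3 q307 (flp_g L2276) q176, e3 q308 L4401 q508, e3 q309 L4411 q510, e3 q310 (flp_g L2290) q177, e3 q311 L4439 q515, e3 q312 L4449 q517, e3 q313 (flp_g L2304) q178, e3 q314 L4483 q522, e3 q315 (flp_g L2314) q179, e3 q316 L2322 q189, e3 q317 L2330 q306, e3 q318 L4557 q530, e3 q319 L4567 q532, trivial⟩ (by decide +kernel)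

theorem ce_g_5 : ∀ r, r < 64 → sm gg (Qf (320 + r)) = Qf (tab Gen.g (320 + r)) :=
  edges_tab (sm gg) Qf (tab Gen.g) 320 [(320, 181), (321, 537), (322, 182), (323, 511), (324, 297), (325, 545), (326, 547), (327, 184), (328, 552), (329, 185), (330, 518), (331, 300), (332, 527), (333, 561), (334, 187), (335, 562), (336, 524), (337, 525), (338, 571), (339, 339), (340, 575), (341, 191), (342, 344), (343, 236), (344, 342), (345, 232), (346, 581), (347, 195), (348, 350), (349, 245), (350, 348), (351, 239), (352, 352), (353, 353), (354, 593), (355, 366), (356, 202), (357, 596), (358, 373), (359, 203), (360, 599), (361, 601), (362, 206), (363, 446), (364, 207), (365, 220), (366, 355), (367, 609), (368, 611), (369, 209), (370, 462), (371, 210), (372, 225), (373, 358), (374, 469), (375, 468), (376, 230), (377, 377), (378, 627), (379, 441), (380, 216), (381, 632), (382, 602), (383, 636)]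
    ⟨e3 q320 (flp_g L2366) q181, e3 q321 L4591 q537, e3 q322 (flp_g L2374) q182, e3 q323 (flp_g L4421) q511, e3 q324 L2390 q297, e3 q325 L4619 q545, e3 q326 L4627 q547, e3 q327 (flp_g L2398) q184, e3 q328 L4655 q552, e3 q329 (flp_g L2406) q185, e3 q330 (flp_g L4461) q518, e3 q331 L2426 q300, e3 q332 L81569 q527, e3 q333 L4697 q561, e3 q334 (flp_g L2434) q187, e3 q335 (flp_g L4703) q562, e3 q336 (flp_g L4489) q524, e3 q337 (flp_g L4493) q525, e3 q338 L4745 q571, e3 q339 L59938 q339, e3 q340 L4765 q575, e3 q341 (flp_g L2454) q191, e3 q342 (flp_g L2487) q344, e3 q343 L2480 q236, e3 q344 L2487 q342, e3 q345 (flp_g L2500) q232, e3 q346 L4815 q581, e3 q347 (flp_g L2508) q195, e3 q348 (flp_g L2532) q350, e3 q349 L2526 q245, e3 q350 L2532 q348, e3 q351 L2540 q239, e3 q352 L76958 q352, e3 q353 L79020 q353, e3 q354 L4992 q593, e3 q355 (flp_g L2667) q366, e3 q356 (flp_g L2598) q202, e3 q357 L5017 q596, e3 q358 (flp_g L2703) q373, e3 q359 (flp_g L2615) q203, e3 q360 L5053 q599, e3 q361 L5065 q601, e3 q362 (flp_g L2636) q206,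 e3 q363 L75253 q446, e3 q364 (flp_g L2647) q207, e3 q365 L2658 q220, e3 q366 L2667 q355, e3 q367 L5135 q609, e3 q368 L5145 q611, e3 q369 (flp_g L2675) q209, e3 q370 L81349 q462, e3 q371 (flp_g L2685) q210, e3 q372 L2695 q225, e3 q373 L2703 q358, e3 q374 (flp_g L75517) q469, e3 q375 (flp_g L81839) q468, e3 q376 L2723 q230, e3 q377 L70318 q377, e3 q378 L5282 q627, e3 q379 (flp_g L3148) q441, e3 q380 (flp_g L2743) q216, e3 q381 L5312 q632, e3 q382 (flp_g L5076) q602, e3 q383 L5338 q636, trivial⟩ (by decide +kernel)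

theorem ce_g_6 : ∀ r, r < 64 → sm gg (Qf (384 + r)) = Qf (tab Gen.g (384 + r)) :=
  edges_tab (sm gg) Qf (tab Gen.g) 384 [(384, 260), (385, 219), (386, 387), (387, 386), (388, 262), (389, 640), (390, 454), (391, 221), (392, 645), (393, 612), (394, 650), (395, 652), (396, 224), (397, 464), (398, 616), (399, 273), (400, 659), (401, 226), (402, 661), (403, 227), (404, 471), (405, 278), (406, 621), (407, 279), (408, 302), (409, 579), (410, 672), (411, 233), (412, 249), (413, 413), (414, 433), (415, 577), (416, 680), (417, 237), (418, 587), (419, 682), (420, 240), (421, 662), (422, 248), (423, 432), (424, 584), (425, 691), (426, 693), (427, 246), (428, 697), (429, 684), (430, 674), (431, 431), (432, 423), (433, 414), (434, 708), (435, 710), (436, 712), (437, 252), (438, 716), (439, 253), (440, 440), (441, 379), (442, 255), (443, 631), (444, 444), (445, 635), (446, 363), (447, 637)]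
    ⟨e3 q384 (flp_g L81216) q260, e3 q385 (flp_g L2767) q219, e3 q386 L73140 q387, e3 q387 (flp_g L73140) q386, e3 q388 L73212 q262, e3 q389 L5402 q640, e3 q390 (flp_g L3299) q454, e3 q391 (flp_g L2795) q221, e3 q392 L5420 q645, e3 q393 (flp_g L5155) q612, e3 q394 L5444 q650, e3 q395 L5456 q652, e3 q396 (flp_g L2821) q224, e3 q397 L82297 q464, e3 q398 (flp_g L5195) q616, e3 q399 L82314 q273, e3 q400 L5523 q659, e3 q401 (flp_g L2845) q226, e3 q402 L5539 q661, e3 q403 (flp_g L2855) q227, e3 q404 L82251 q471, e3 q405 L82302 q278, e3 q406 (flp_g L5245) q621, e3 q407 L82247 q279, e3 q408 L2897 q302, e3 q409 (flp_g L4807) q579, e3 q410 L5629 q672, e3 q411 (flp_g L2908) q233, e3 q412 L2921 q249, e3 q413 L2932 q413, e3 q414 (flp_g L65292) q433, e3 q415 (flp_g L4789) q577, e3 q416 L5677 q680, e3 q417 (flp_g L2948) q237, e3 q418 (flp_g L4862) q587, e3 q419 L5713 q682, e3 q420 (flp_g L2973) q240, e3 q421 (flp_g L5545) q662, e3 q422 L2985 q248, e3 q423 (flp_g L65544) q432, e3 q424 (flp_g L4844) q584, e3 q425 L5785 q691, e3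 q426 L5795 q693, e3 q427 (flp_g L3009) q246, e3 q428 L5817 q697, e3 q429 (flp_g L5729) q684, e3 q430 (flp_g L5645) q674, e3 q431 L82101 q431, e3 q432 L65544 q423, e3 q433 L65292 q414, e3 q434 L5953 q708, e3 q435 L5963 q710, e3 q436 L5972 q712, e3 q437 (flp_g L3112) q252, e3 q438 L6006 q716, e3 q439 (flp_g L3125) q253, e3 q440 L3139 q440, e3 q441 L3148 q379, e3 q442 (flp_g L80314) q255, e3 q443 L81132 q631, e3 q444 L3177 q444, e3 q445 L82438 q635, e3 q446 (flp_g L75253) q363, e3 q447 (flp_g L82415) q637, trivial⟩ (by decide +kernel)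

theorem ce_g_7 : ∀ r, r < 64 → sm gg (Qf (448 + r)) = Qf (tab Gen.g (448 + r)) :=
  edges_tab (sm gg) Qf (tab Gen.g) 448 [(448, 727), (449, 729), (450, 263), (451, 734), (452, 264), (453, 730), (454, 390), (455, 741), (456, 266), (457, 742), (458, 458), (459, 459), (460, 648), (461, 271), (462, 370), (463, 750), (464, 397), (465, 654), (466, 656), (467, 276), (468, 375), (469, 374), (470, 758), (471, 404), (472, 765), (473, 665), (474, 667), (475, 475), (476, 282), (477, 477), (478, 771), (479, 776), (480, 283), (481, 778), (482, 284), (483, 288), (484, 782), (485, 289), (486, 668), (487, 488), (488, 487), (489, 489), (490, 490), (491, 491), (492, 792), (493, 534), (494, 296), (495, 795), (496, 549), (497, 299), (498, 798), (499, 512), (500, 304), (501, 803), (502, 519), (503, 305), (504, 558), (505, 505), (506, 808), (507, 810), (508, 308), (509, 813), (510, 309), (511, 323)]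
    ⟨e3 q448 L6327 q727, e3 q449 L6336 q729, e3 q450 (flp_g L3278) q263, e3 q451 L6358 q734, e3 q452 (flp_g L3283) q264, e3 q453 (flp_g L6343) q730, e3 q454 L3299 q390, e3 q455 L6394 q741, e3 q456 (flp_g L3309) q266, e3 q457 (flp_g L6402) q742, e3 q458 L3324 q458, e3 q459 L80661 q459, e3 q460 (flp_g L82324) q648, e3 q461 L3350 q271, e3 q462 (flp_g L81349) q370, e3 q463 (flp_g L6490) q750, e3 q464 (flp_g L82297) q397, e3 q465 L73350 q654, e3 q466 (flp_g L77909) q656, e3 q467 L3421 q276, e3 q468 L81839 q375, e3 q469 L75517 q374, e3 q470 (flp_g L6665) q758, e3 q471 (flp_g L82251) q404, e3 q472 (flp_g L70411) q765, e3 q473 (flp_g L73452) q665, e3 q474 (flp_g L82223) q667, e3 q475 L3507 q475, e3 q476 L3515 q282, e3 q477 L3519 q477, e3 q478 (flp_g L6857) q771, e3 q479 L6886 q776, e3 q480 (flp_g L3533) q283, e3 q481 L6904 q778, e3 q482 (flp_g L3547) q284, e3 q483 L3566 q288, e3 q484 L6963 q782, e3 q485 (flp_g L3589) q289, e3 q486 L81983 q668, e3 q487 L61802 q488, e3 q488 (flp_g L61802) q487, e3 q489 L76903 q489, e3 q490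 L78947 q490, e3 q491 L79032 q491, e3 q492 L7763 q792, e3 q493 (flp_g L4583) q534, e3 q494 (flp_g L3999) q296, e3 q495 L7811 q795, e3 q496 (flp_g L4643) q549, e3 q497 (flp_g L4025) q299, e3 q498 L8525 q798, e3 q499 (flp_g L4431) q512, e3 q500 (flp_g L4359) q304, e3 q501 L8551 q803, e3 q502 (flp_g L4471) q519, e3 q503 (flp_g L4379) q305, e3 q504 (flp_g L74607) q558, e3 q505 L52389 q505, e3 q506 L8597 q808, e3 q507 L8609 q810, e3 q508 (flp_g L4401) q308, e3 q509 L8641 q813, e3 q510 (flp_g L4411) q309, e3 q511 L4421 q323, trivial⟩ (by decide +kernel)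

theorem ce_g_8 : ∀ r, r < 64 → sm gg (Qf (512 + r)) = Qf (tab Gen.g (512 + r)) :=
  edges_tab (sm gg) Qf (tab Gen.g) 512 [(512, 499), (513, 820), (514, 822), (515, 311), (516, 827), (517, 312), (518, 330), (519, 502), (520, 563), (521, 835), (522, 314), (523, 526), (524, 336), (525, 337), (526, 523), (527, 332), (528, 844), (529, 846), (530, 318), (531, 851), (532, 319), (533, 811), (534, 493), (535, 816), (536, 858), (537, 321), (538, 859), (539, 540), (540, 539), (541, 863), (542, 542), (543, 869), (544, 871), (545, 325), (546, 876), (547, 326), (548, 823), (549, 496), (550, 832), (551, 885), (552, 328), (553, 886), (554, 829), (555, 830), (556, 895), (557, 557), (558, 504), (559, 840), (560, 900), (561, 333), (562, 335), (563, 520), (564, 903), (565, 904), (566, 566), (567, 837), (568, 838), (569, 911), (570, 912), (571, 338), (572, 572), (573, 573), (574, 918), (575, 340)]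
    ⟨e3 q512 L4431 q499, e3 q513 L8677 q820, e3 q514 L8687 q822, e3 q515 (flp_g L4439) q311, e3 q516 L8721 q827, e3 q517 (flp_g L4449) q312, e3 q518 L4461 q330, e3 q519 L4471 q502, e3 q520 (flp_g L4709) q563, e3 q521 L8765 q835, e3 q522 (flp_g L4483) q314, e3 q523 L74327 q526, e3 q524 L4489 q336, e3 q525 L4493 q337, e3 q526 (flp_g L74327) q523, e3 q527 (flp_g L81569) q332, e3 q528 L8941 q844, e3 q529 L8953 q846, e3 q530 (flp_g L4557) q318, e3 q531 L8985 q851, e3 q532 (flp_g L4567) q319, e3 q533 (flp_g L8619) q811, e3 q534 L4583 q493, e3 q535 L74556 q816, e3 q536 L9027 q858, e3 q537 (flp_g L4591) q321, e3 q538 (flp_g L9035) q859, e3 q539 (flp_g L78877) q540, e3 q540 L78877 q539, e3 q541 (flp_g L82530) q863, e3 q542 L59932 q542, e3 q543 L9109 q869, e3 q544 L9113 q871, e3 q545 (flp_g L4619) q325, e3 q546 L9137 q876, e3 q547 (flp_g L4627) q326, e3 q548 (flp_g L8697) q823, e3 q549 L4643 q496, e3 q550 (flp_g L81594) q832, e3 q551 L9181 q885, e3 q552 (flp_g L4655) q328, e3 q553 (flp_g L9191) q886, e3 q554 (flp_g L8733)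 q829, e3 q555 (flp_g L8739) q830, e3 q556 L9251 q895, e3 q557 L64988 q557, e3 q558 L74607 q504, e3 q559 (flp_g L78264) q840, e3 q560 L9307 q900, e3 q561 (flp_g L4697) q333, e3 q562 L4703 q335, e3 q563 L4709 q520, e3 q564 (flp_g L9325) q903, e3 q565 (flp_g L9329) q904, e3 q566 L78723 q566, e3 q567 (flp_g L8789) q837, e3 q568 (flp_g L8795) q838, e3 q569 L9401 q911, e3 q570 L67501 q912, e3 q571 (flp_g L4745) q338, e3 q572 L59980 q572, e3 q573 L64984 q573, e3 q574 L9459 q918, e3 q575 (flp_g L4765) q340, trivial⟩ (by decide +kernel)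

theorem ce_g_9 : ∀ r, r < 64 → sm gg (Qf (576 + r)) = Qf (tab Gen.g (576 + r)) :=
  edges_tab (sm gg) Qf (tab Gen.g) 576 [(576, 578), (577, 415), (578, 576), (579, 409), (580, 926), (581, 346), (582, 901), (583, 585), (584, 424), (585, 583), (586, 934), (587, 418), (588, 588), (589, 589), (590, 590), (591, 942), (592, 603), (593, 354), (594, 946), (595, 613), (596, 357), (597, 950), (598, 952), (599, 360), (600, 721), (601, 361), (602, 382), (603, 592), (604, 723), (605, 605), (606, 964), (607, 968), (608, 970), (609, 367), (610, 743), (611, 368), (612, 393), (613, 595), (614, 752), (615, 751), (616, 398), (617, 617), (618, 762), (619, 759), (620, 760), (621, 406), (622, 622), (623, 623), (624, 988), (625, 990), (626, 714), (627, 378), (628, 995), (629, 953), (630, 999), (631, 443), (632, 381), (633, 634), (634, 633), (635, 445), (636, 383), (637, 447), (638, 1005), (639, 1007)]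
    ⟨e3 q576 (flp_g L4797) q578, e3 q577 L4789 q415, e3 q578 L4797 q576, e3 q579 L4807 q409, e3 q580 L9514 q926, e3 q581 (flp_g L4815) q346, e3 q582 (flp_g L9313) q901, e3 q583 (flp_g L4850) q585, e3 q584 L4844 q424, e3 q585 L4850 q583, e3 q586 L9591 q934, e3 q587 L4862 q418, e3 q588 L76935 q588, e3 q589 L81405 q589, e3 q590 L79008 q590, e3 q591 L9827 q942, e3 q592 (flp_g L5085) q603, e3 q593 (flp_g L4992) q354, e3 q594 L9879 q946, e3 q595 (flp_g L5163) q613, e3 q596 (flp_g L5017) q357, e3 q597 L9979 q950, e3 q598 L9993 q952, e3 q599 (flp_g L5053) q360, e3 q600 (flp_g L81203) q721, e3 q601 (flp_g L5065) q361, e3 q602 L5076 q382, e3 q603 L5085 q592, e3 q604 L81228 q723, e3 q605 L68271 q605, e3 q606 L10149 q964, e3 q607 L10165 q968, e3 q608 L10171 q970, e3 q609 (flp_g L5135) q367, e3 q610 L81343 q743, e3 q611 (flp_g L5145) q368, e3 q612 L5155 q393, e3 q613 L5163 q595, e3 q614 (flp_g L81904) q752, e3 q615 L81767 q751, e3 q616 L5195 q398, e3 q617 L67561 q617, e3 q618 L80950 q762, e3 q619 (flp_g L75157) q759, e3 q620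 L74160 q760, e3 q621 L5245 q406, e3 q622 L68439 q622, e3 q623 L67538 q623, e3 q624 L10477 q988, e3 q625 L10490 q990, e3 q626 (flp_g L5992) q714, e3 q627 (flp_g L5282) q378, e3 q628 L10517 q995, e3 q629 (flp_g L10007) q953, e3 q630 L10549 q999, e3 q631 (flp_g L81132) q443, e3 q632 (flp_g L5312) q381, e3 q633 L82474 q634, e3 q634 (flp_g L82474) q633, e3 q635 (flp_g L82438) q445, e3 q636 (flp_g L5338) q383, e3 q637 L82415 q447, e3 q638 L10743 q1005, e3 q639 L10755 q1007, trivial⟩ (by decide +kernel)

theorem ce_g_10 : ∀ r, r < 64 → sm gg (Qf (640 + r)) = Qf (tab Gen.g (640 + r)) :=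
  edges_tab (sm gg) Qf (tab Gen.g) 640 [(640, 389), (641, 1012), (642, 1008), (643, 1017), (644, 1019), (645, 392), (646, 747), (647, 975), (648, 460), (649, 1026), (650, 394), (651, 1029), (652, 395), (653, 754), (654, 465), (655, 980), (656, 466), (657, 695), (658, 687), (659, 400), (660, 1039), (661, 402), (662, 421), (663, 663), (664, 764), (665, 473), (666, 984), (667, 474), (668, 486), (669, 925), (670, 1050), (671, 1051), (672, 410), (673, 1030), (674, 430), (675, 704), (676, 921), (677, 922), (678, 1064), (679, 1066), (680, 416), (681, 935), (682, 419), (683, 1040), (684, 429), (685, 1041), (686, 781), (687, 658), (688, 703), (689, 1074), (690, 767), (691, 425), (692, 785), (693, 426), (694, 768), (695, 657), (696, 1078), (697, 428), (698, 1069), (699, 1053), (700, 700), (701, 701), (702, 702), (703, 688)]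
    ⟨e3 q640 (flp_g L5402) q389, e3 q641 L10783 q1012, e3 q642 (flp_g L10765) q1008, e3 q643 L10807 q1017, e3 q644 L10817 q1019, e3 q645 (flp_g L5420) q392, e3 q646 L82481 q747, e3 q647 (flp_g L10213) q975, e3 q648 L82324 q460, e3 q649 L10886 q1026, e3 q650 (flp_g L5444) q394, e3 q651 L10908 q1029, e3 q652 (flp_g L5456) q395, e3 q653 (flp_g L77811) q754, e3 q654 (flp_g L73350) q465, e3 q655 (flp_g L10281) q980, e3 q656 L77909 q466, e3 q657 L142628 q695, e3 q658 L142633 q687, e3 q659 (flp_g L5523) q400, e3 q660 L11115 q1039, e3 q661 (flp_g L5539) q402, e3 q662 L5545 q421, e3 q663 L51883 q663, e3 q664 (flp_g L73498) q764, e3 q665 L73452 q473, e3 q666 (flp_g L10411) q984, e3 q667 L82223 q474, e3 q668 (flp_g L81983) q486, e3 q669 (flp_g L9512) q925, e3 q670 L11332 q1050, e3 q671 L11336 q1051, e3 q672 (flp_g L5629) q410, e3 q673 (flp_g L10916) q1030, e3 q674 L5645 q430, e3 q675 L65654 q704, e3 q676 (flp_g L9486) q921, e3 q677 (flp_g L9490) q922, e3 q678 L11428 q1064, e3 q679 L11440 q1066, e3 q680 (flp_g L5677) q416,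 e3 q681 (flp_g L9603) q935, e3 q682 (flp_g L5713) q419, e3 q683 (flp_g L11123) q1040, e3 q684 L5729 q429, e3 q685 (flp_g L11135) q1041, e3 q686 L73893 q781, e3 q687 (flp_g L142633) q658, e3 q688 (flp_g L65408) q703, e3 q689 L11664 q1074, e3 q690 L131811 q767, e3 q691 (flp_g L5785) q425, e3 q692 L82008 q785, e3 q693 (flp_g L5795) q426, e3 q694 L140379 q768, e3 q695 (flp_g L142628) q657, e3 q696 L11756 q1078, e3 q697 (flp_g L5817) q428, e3 q698 (flp_g L11527) q1069, e3 q699 (flp_g L11352) q1053, e3 q700 L78052 q700, e3 q701 L78021 q701, e3 q702 L71263 q702, e3 q703 L65408 q688, trivial⟩ (by decide +kernel)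

theorem ce_g_11 : ∀ r, r < 64 → sm gg (Qf (704 + r)) = Qf (tab Gen.g (704 + r)) :=
  edges_tab (sm gg) Qf (tab Gen.g) 704 [(704, 675), (705, 1089), (706, 1092), (707, 1094), (708, 434), (709, 1098), (710, 435), (711, 1103), (712, 436), (713, 1095), (714, 626), (715, 1110), (716, 438), (717, 1000), (718, 718), (719, 719), (720, 998), (721, 600), (722, 1001), (723, 604), (724, 1121), (725, 1126), (726, 731), (727, 448), (728, 1131), (729, 449), (730, 453), (731, 726), (732, 1139), (733, 1141), (734, 451), (735, 1142), (736, 1133), (737, 1134), (738, 1153), (739, 1156), (740, 1158), (741, 455), (742, 457), (743, 610), (744, 1160), (745, 745), (746, 746), (747, 646), (748, 1021), (749, 1023), (750, 463), (751, 615), (752, 614), (753, 1171), (754, 653), (755, 1179), (756, 1033), (757, 1036), (758, 470), (759, 619), (760, 620), (761, 1190), (762, 618), (763, 1185), (764, 664), (765, 472), (766, 1193), (767, 690)]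
    ⟨e3 q704 (flp_g L65654) q675, e3 q705 L11983 q1089, e3 q706 L11997 q1092, e3 q707 L12007 q1094, e3 q708 (flp_g L5953) q434, e3 q709 L12033 q1098, e3 q710 (flp_g L5963) q435, e3 q711 L12065 q1103, e3 q712 (flp_g L5972) q436, e3 q713 (flp_g L12018) q1095, e3 q714 L5992 q626, e3 q715 L12117 q1110, e3 q716 (flp_g L6006) q438, e3 q717 (flp_g L75346) q1000, e3 q718 L6029 q718, e3 q719 L76171 q719, e3 q720 (flp_g L82359) q998, e3 q721 L81203 q600, e3 q722 (flp_g L82368) q1001, e3 q723 (flp_g L81228) q604, e3 q724 (flp_g L70459) q1121, e3 q725 L12822 q1126, e3 q726 (flp_g L6350) q731, e3 q727 (flp_g L6327) q448, e3 q728 L12837 q1131, e3 q729 (flp_g L6336) q449, e3 q730 L6343 q453, e3 q731 L6350 q726, e3 q732 L12860 q1139, e3 q733 L12870 q1141, e3 q734 (flp_g L6358) q451, e3 q735 (flp_g L12876) q1142, e3 q736 (flp_g L12843) q1133, e3 q737 (flp_g L12847) q1134, e3 q738 L12920 q1153, e3 q739 L12934 q1156, e3 q740 L12979 q1158, e3 q741 (flp_g L6394) q455, e3 q742 L6402 q457, e3 q743 (flp_g L81343) q610, e3 q744 (flp_g L12993)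 q1160, e3 q745 L6435 q745, e3 q746 L80617 q746, e3 q747 (flp_g L82481) q646, e3 q748 L82328 q1021, e3 q749 L80573 q1023, e3 q750 L6490 q463, e3 q751 (flp_g L81767) q615, e3 q752 L81904 q614, e3 q753 (flp_g L13201) q1171, e3 q754 L77811 q653, e3 q755 (flp_g L68002) q1179, e3 q756 (flp_g L82304) q1033, e3 q757 (flp_g L77752) q1036, e3 q758 L6665 q470, e3 q759 L75157 q619, e3 q760 (flp_g L74160) q620, e3 q761 L13650 q1190, e3 q762 (flp_g L80950) q618, e3 q763 (flp_g L13599) q1185, e3 q764 L73498 q664, e3 q765 L70411 q472, e3 q766 L68004 q1193, e3 q767 (flp_g L131811) q690, trivial⟩ (by decide +kernel)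

theorem ce_g_12 : ∀ r, r < 64 → sm gg (Qf (768 + r)) = Qf (tab Gen.g (768 + r)) :=
  edges_tab (sm gg) Qf (tab Gen.g) 768 [(768, 694), (769, 1043), (770, 770), (771, 478), (772, 772), (773, 1200), (774, 1206), (775, 1208), (776, 479), (777, 1211), (778, 481), (779, 1037), (780, 1189), (781, 686), (782, 484), (783, 1044), (784, 1045), (785, 692), (786, 786), (787, 787), (788, 788), (789, 789), (790, 1223), (791, 848), (792, 492), (793, 1226), (794, 873), (795, 495), (796, 1231), (797, 812), (798, 498), (799, 857), (800, 800), (801, 1236), (802, 824), (803, 501), (804, 882), (805, 805), (806, 1242), (807, 1244), (808, 506), (809, 1247), (810, 507), (811, 533), (812, 797), (813, 509), (814, 815), (815, 814), (816, 535), (817, 1254), (818, 1257), (819, 1259), (820, 513), (821, 1264), (822, 514), (823, 548), (824, 802), (825, 887), (826, 1272), (827, 516), (828, 831), (829, 554), (830, 555), (831, 828)]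
    ⟨e3 q768 (flp_g L140379) q694, e3 q769 (flp_g L73537) q1043, e3 q770 L6848 q770, e3 q771 L6857 q478, e3 q772 L6861 q772, e3 q773 (flp_g L14025) q1200, e3 q774 L14058 q1206, e3 q775 L14095 q1208, e3 q776 (flp_g L6886) q479, e3 q777 L14116 q1211, e3 q778 (flp_g L6904) q481, e3 q779 L77665 q1037, e3 q780 (flp_g L52179) q1189, e3 q781 (flp_g L73893) q686, e3 q782 (flp_g L6963) q484, e3 q783 L142143 q1044, e3 q784 (flp_g L82021) q1045, e3 q785 (flp_g L82008) q692, e3 q786 L76981 q786, e3 q787 L76913 q787, e3 q788 L78955 q788, e3 q789 L78974 q789, e3 q790 L15808 q1223, e3 q791 (flp_g L8975) q848, e3 q792 (flp_g L7763) q492, e3 q793 L15920 q1226, e3 q794 (flp_g L9129) q873, e3 q795 (flp_g L7811) q495, e3 q796 L17485 q1231, e3 q797 (flp_g L8629) q812, e3 q798 (flp_g L8525) q498, e3 q799 (flp_g L81489) q857, e3 q800 L67436 q800, e3 q801 L17533 q1236, e3 q802 (flp_g L8705) q824, e3 q803 (flp_g L8551) q501, e3 q804 (flp_g L81578) q882, e3 q805 L52401 q805, e3 q806 L17650 q1242, e3 q807 L17664 q1244, e3 q808 (flp_g L8597)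 q506, e3 q809 L17702 q1247, e3 q810 (flp_g L8609) q507, e3 q811 L8619 q533, e3 q812 L8629 q797, e3 q813 (flp_g L8641) q509, e3 q814 (flp_g L81663) q815, e3 q815 L81663 q814, e3 q816 (flp_g L74556) q535, e3 q817 L17816 q1254, e3 q818 L17826 q1257, e3 q819 L17832 q1259, e3 q820 (flp_g L8677) q513, e3 q821 L17858 q1264, e3 q822 (flp_g L8687) q514, e3 q823 L8697 q548, e3 q824 L8705 q802, e3 q825 (flp_g L9199) q887, e3 q826 L17902 q1272, e3 q827 (flp_g L8721) q516, e3 q828 (flp_g L81651) q831, e3 q829 L8733 q554, e3 q830 L8739 q555, e3 q831 L81651 q828, trivial⟩ (by decide +kernel)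

theorem ce_g_13 : ∀ r, r < 64 → sm gg (Qf (832 + r)) = Qf (tab Gen.g (832 + r)) :=
  edges_tab (sm gg) Qf (tab Gen.g) 832 [(832, 550), (833, 902), (834, 1215), (835, 521), (836, 839), (837, 567), (838, 568), (839, 836), (840, 559), (841, 1289), (842, 1291), (843, 1293), (844, 528), (845, 1298), (846, 529), (847, 1245), (848, 791), (849, 1250), (850, 1306), (851, 531), (852, 1307), (853, 854), (854, 853), (855, 1312), (856, 856), (857, 799), (858, 536), (859, 538), (860, 1316), (861, 1317), (862, 862), (863, 541), (864, 1319), (865, 865), (866, 866), (867, 1324), (868, 1326), (869, 543), (870, 1331), (871, 544), (872, 1327), (873, 794), (874, 1269), (875, 1340), (876, 546), (877, 1341), (878, 1266), (879, 1267), (880, 1350), (881, 881), (882, 804), (883, 1277), (884, 1356), (885, 551), (886, 553), (887, 825), (888, 1359), (889, 1360), (890, 890), (891, 1274), (892, 1275), (893, 1368), (894, 1369), (895, 556)]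
    ⟨e3 q832 L81594 q550, e3 q833 (flp_g L9321) q902, e3 q834 L139257 q1215, e3 q835 (flp_g L8765) q521, e3 q836 L81815 q839, e3 q837 L8789 q567, e3 q838 L8795 q568, e3 q839 (flp_g L81815) q836, e3 q840 L78264 q559, e3 q841 L18401 q1289, e3 q842 L18409 q1291, e3 q843 L18417 q1293, e3 q844 (flp_g L8941) q528, e3 q845 L18449 q1298, e3 q846 (flp_g L8953) q529, e3 q847 (flp_g L17678) q1245, e3 q848 L8975 q791, e3 q849 (flp_g L81498) q1250, e3 q850 L18503 q1306, e3 q851 (flp_g L8985) q531, e3 q852 (flp_g L18513) q1307, e3 q853 (flp_g L78811) q854, e3 q854 L78811 q853, e3 q855 L78830 q1312, e3 q856 L67089 q856, e3 q857 L81489 q799, e3 q858 (flp_g L9027) q536, e3 q859 L9035 q538, e3 q860 (flp_g L18645) q1316, e3 q861 (flp_g L18649) q1317, e3 q862 L78870 q862, e3 q863 L82530 q541, e3 q864 L59954 q1319, e3 q865 L59049 q865, e3 q866 L59071 q866, e3 q867 L18793 q1324, e3 q868 L18801 q1326, e3 q869 (flp_g L9109) q543, e3 q870 L18821 q1331, e3 q871 (flp_g L9113) q544, e3 q872 (flp_g L18807) q1327, e3 q873 L9129 q794, e3 q874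 L74404 q1269, e3 q875 L18855 q1340, e3 q876 (flp_g L9137) q546, e3 q877 (flp_g L18863) q1341, e3 q878 (flp_g L17870) q1266, e3 q879 (flp_g L17874) q1267, e3 q880 L18913 q1350, e3 q881 L67098 q881, e3 q882 L81578 q804, e3 q883 L81572 q1277, e3 q884 L18979 q1356, e3 q885 (flp_g L9181) q551, e3 q886 L9191 q553, e3 q887 L9199 q825, e3 q888 (flp_g L19003) q1359, e3 q889 (flp_g L19009) q1360, e3 q890 L78732 q890, e3 q891 (flp_g L17940) q1274, e3 q892 (flp_g L17946) q1275, e3 q893 L19113 q1368, e3 q894 L64977 q1369, e3 q895 (flp_g L9251) q556, trivial⟩ (by decide +kernel)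

theorem ce_g_14 : ∀ r, r < 64 → sm gg (Qf (896 + r)) = Qf (tab Gen.g (896 + r)) :=
  edges_tab (sm gg) Qf (tab Gen.g) 896 [(896, 896), (897, 897), (898, 1285), (899, 1374), (900, 560), (901, 582), (902, 833), (903, 564), (904, 565), (905, 1188), (906, 1186), (907, 1283), (908, 1284), (909, 1382), (910, 1381), (911, 569), (912, 570), (913, 1195), (914, 914), (915, 915), (916, 1387), (917, 1388), (918, 574), (919, 1357), (920, 923), (921, 676), (922, 677), (923, 920), (924, 1400), (925, 669), (926, 580), (927, 1375), (928, 1377), (929, 1072), (930, 931), (931, 930), (932, 933), (933, 932), (934, 586), (935, 681), (936, 936), (937, 937), (938, 938), (939, 939), (940, 1411), (941, 954), (942, 591), (943, 1415), (944, 1418), (945, 972), (946, 594), (947, 1423), (948, 1426), (949, 1428), (950, 597), (951, 1111), (952, 598), (953, 629), (954, 941), (955, 1117), (956, 956), (957, 1119), (958, 1120), (959, 959)]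
    ⟨e3 q896 L58994 q896, e3 q897 L57876 q897, e3 q898 L78606 q1285, e3 q899 L19279 q1374, e3 q900 (flp_g L9307) q560, e3 q901 L9313 q582, e3 q902 L9321 q833, e3 q903 L9325 q564, e3 q904 L9329 q565, e3 q905 L139579 q1188, e3 q906 (flp_g L132299) q1186, e3 q907 (flp_g L18065) q1283, e3 q908 (flp_g L18075) q1284, e3 q909 L19487 q1382, e3 q910 (flp_g L141946) q1381, e3 q911 (flp_g L9401) q569, e3 q912 (flp_g L67501) q570, e3 q913 (flp_g L141211) q1195, e3 q914 L59988 q914, e3 q915 L57922 q915, e3 q916 L19599 q1387, e3 q917 L19603 q1388, e3 q918 (flp_g L9459) q574, e3 q919 (flp_g L18987) q1357, e3 q920 (flp_g L9498) q923, e3 q921 L9486 q676, e3 q922 L9490 q677, e3 q923 L9498 q920, e3 q924 L19710 q1400, e3 q925 L9512 q669, e3 q926 (flp_g L9514) q580, e3 q927 (flp_g L19287) q1375, e3 q928 (flp_g L19299) q1377, e3 q929 L19521 q1072, e3 q930 (flp_g L9581) q931, e3 q931 L9581 q930, e3 q932 L141923 q933, e3 q933 (flp_g L141923) q932, e3 q934 (flp_g L9591) q586, e3 q935 L9603 q681, e3 q936 L76943 q936, e3 q937 L76923 q937,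 e3 q938 L79014 q938, e3 q939 L78998 q939, e3 q940 L20393 q1411, e3 q941 (flp_g L10017) q954, e3 q942 (flp_g L9827) q591, e3 q943 L20521 q1415, e3 q944 L20537 q1418, e3 q945 (flp_g L10185) q972, e3 q946 (flp_g L9879) q594, e3 q947 L20739 q1423, e3 q948 L20753 q1426, e3 q949 L20761 q1428, e3 q950 (flp_g L9979) q597, e3 q951 L81163 q1111, e3 q952 (flp_g L9993) q598, e3 q953 L10007 q629, e3 q954 L10017 q941, e3 q955 (flp_g L81236) q1117, e3 q956 L69950 q956, e3 q957 (flp_g L81242) q1119, e3 q958 L81222 q1120, e3 q959 L50946 q959, trivial⟩ (by decide +kernel)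

theorem ce_g_15 : ∀ r, r < 64 → sm gg (Qf (960 + r)) = Qf (tab Gen.g (960 + r)) :=
  edges_tab (sm gg) Qf (tab Gen.g) 960 [(960, 960), (961, 1443), (962, 1445), (963, 1447), (964, 606), (965, 1452), (966, 1454), (967, 1456), (968, 607), (969, 1461), (970, 608), (971, 1448), (972, 945), (973, 1162), (974, 1161), (975, 647), (976, 976), (977, 1175), (978, 1172), (979, 1173), (980, 655), (981, 981), (982, 982), (983, 1191), (984, 666), (985, 1482), (986, 1485), (987, 1487), (988, 624), (989, 1100), (990, 625), (991, 1494), (992, 1488), (993, 1499), (994, 1501), (995, 628), (996, 1002), (997, 1433), (998, 720), (999, 630), (1000, 717), (1001, 722), (1002, 996), (1003, 1511), (1004, 1009), (1005, 638), (1006, 1516), (1007, 639), (1008, 642), (1009, 1004), (1010, 1524), (1011, 1526), (1012, 641), (1013, 1518), (1014, 1519), (1015, 1533), (1016, 1536), (1017, 643), (1018, 1539), (1019, 644), (1020, 1167), (1021, 748), (1022, 1470), (1023, 749)]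
    ⟨e3 q960 L50982 q960, e3 q961 L21103 q1443, e3 q962 L21117 q1445, e3 q963 L21125 q1447, e3 q964 (flp_g L10149) q606, e3 q965 L21161 q1452, e3 q966 L21173 q1454, e3 q967 L21181 q1456, e3 q968 (flp_g L10165) q607, e3 q969 L21205 q1461, e3 q970 (flp_g L10171) q608, e3 q971 (flp_g L21133) q1448, e3 q972 L10185 q945, e3 q973 (flp_g L81001) q1162, e3 q974 L81031 q1161, e3 q975 L10213 q647, e3 q976 L67573 q976, e3 q977 L80961 q1175, e3 q978 L82308 q1172, e3 q979 (flp_g L81835) q1173, e3 q980 L10281 q655, e3 q981 L68447 q981, e3 q982 L67552 q982, e3 q983 (flp_g L80859) q1191, e3 q984 L10411 q666, e3 q985 L21714 q1482, e3 q986 L21731 q1485, e3 q987 L21743 q1487, e3 q988 (flp_g L10477) q624, e3 q989 (flp_g L12053) q1100, e3 q990 (flp_g L10490) q625, e3 q991 L21785 q1494, e3 q992 (flp_g L21753) q1488, e3 q993 L21815 q1499, e3 q994 L21827 q1501, e3 q995 (flp_g L10517) q628, e3 q996 (flp_g L82485) q1002, e3 q997 (flp_g L20821) q1433, e3 q998 L82359 q720, e3 q999 (flp_g L10549) q630, e3 q1000 L75346 q717, e3 q1001 L82368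 q722, e3 q1002 L82485 q996, e3 q1003 L22309 q1511, e3 q1004 (flp_g L10773) q1009, e3 q1005 (flp_g L10743) q638, e3 q1006 L22331 q1516, e3 q1007 (flp_g L10755) q639, e3 q1008 L10765 q642, e3 q1009 L10773 q1004, e3 q1010 L22365 q1524, e3 q1011 L22377 q1526, e3 q1012 (flp_g L10783) q641, e3 q1013 (flp_g L22343) q1518, e3 q1014 (flp_g L22347) q1519, e3 q1015 L22413 q1533, e3 q1016 L22443 q1536, e3 q1017 (flp_g L10807) q643, e3 q1018 L22459 q1539, e3 q1019 (flp_g L10817) q644, e3 q1020 L80422 q1167, e3 q1021 (flp_g L82328) q748, e3 q1022 (flp_g L21267) q1470, e3 q1023 (flp_g L80573) q749, trivial⟩ (by decide +kernel)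

theorem ce_g_16 : ∀ r, r < 64 → sm gg (Qf (1024 + r)) = Qf (tab Gen.g (1024 + r)) :=
  edges_tab (sm gg) Qf (tab Gen.g) 1024 [(1024, 1076), (1025, 1551), (1026, 649), (1027, 1555), (1028, 1556), (1029, 651), (1030, 673), (1031, 1031), (1032, 1178), (1033, 756), (1034, 1476), (1035, 1477), (1036, 757), (1037, 779), (1038, 1056), (1039, 660), (1040, 683), (1041, 685), (1042, 1192), (1043, 769), (1044, 783), (1045, 784), (1046, 1401), (1047, 1402), (1048, 1577), (1049, 1579), (1050, 670), (1051, 671), (1052, 1557), (1053, 699), (1054, 1558), (1055, 1205), (1056, 1038), (1057, 1085), (1058, 1084), (1059, 1594), (1060, 1395), (1061, 1598), (1062, 1600), (1063, 1603), (1064, 678), (1065, 1214), (1066, 679), (1067, 1198), (1068, 1570), (1069, 698), (1070, 1194), (1071, 1196), (1072, 929), (1073, 1181), (1074, 689), (1075, 1383), (1076, 1024), (1077, 1610), (1078, 696), (1079, 1583), (1080, 1581), (1081, 1081), (1082, 1082), (1083, 1083), (1084, 1058), (1085, 1057), (1086, 1622), (1087, 1625)]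
    ⟨e3 q1024 L130818 q1076, e3 q1025 L22621 q1551, e3 q1026 (flp_g L10886) q649, e3 q1027 L22659 q1555, e3 q1028 L22663 q1556, e3 q1029 (flp_g L10908) q651, e3 q1030 L10916 q673, e3 q1031 L51736 q1031, e3 q1032 (flp_g L77862) q1178, e3 q1033 L82304 q756, e3 q1034 (flp_g L21408) q1476, e3 q1035 (flp_g L21412) q1477, e3 q1036 L77752 q757, e3 q1037 (flp_g L77665) q779, e3 q1038 L142638 q1056, e3 q1039 (flp_g L11115) q660, e3 q1040 L11123 q683, e3 q1041 L11135 q685, e3 q1042 L82202 q1192, e3 q1043 L73537 q769, e3 q1044 (flp_g L142143) q783, e3 q1045 L82021 q784, e3 q1046 (flp_g L19724) q1401, e3 q1047 (flp_g L19734) q1402, e3 q1048 L23511 q1577, e3 q1049 L23515 q1579, e3 q1050 (flp_g L11332) q670, e3 q1051 (flp_g L11336) q671, e3 q1052 (flp_g L22673) q1557, e3 q1053 L11352 q699, e3 q1054 (flp_g L22687) q1558, e3 q1055 (flp_g L82072) q1205, e3 q1056 (flp_g L142638) q1038, e3 q1057 L65461 q1085, e3 q1058 (flp_g L65494) q1084, e3 q1059 L23715 q1594, e3 q1060 (flp_g L19684) q1395, e3 q1061 L23727 q1598, e3 q1062 L23743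 q1600, e3 q1063 L23759 q1603, e3 q1064 (flp_g L11428) q678, e3 q1065 L77680 q1214, e3 q1066 (flp_g L11440) q679, e3 q1067 (flp_g L140032) q1198, e3 q1068 (flp_g L23070) q1570, e3 q1069 L11527 q698, e3 q1070 L142171 q1194, e3 q1071 (flp_g L142130) q1196, e3 q1072 (flp_g L19521) q929, e3 q1073 (flp_g L142085) q1181, e3 q1074 (flp_g L11664) q689, e3 q1075 (flp_g L71375) q1383, e3 q1076 (flp_g L130818) q1024, e3 q1077 L24445 q1610, e3 q1078 (flp_g L11756) q696, e3 q1079 (flp_g L23547) q1583, e3 q1080 (flp_g L23531) q1581, e3 q1081 L78057 q1081, e3 q1082 L78013 q1082, e3 q1083 L71266 q1083, e3 q1084 L65494 q1058, e3 q1085 (flp_g L65461) q1057, e3 q1086 L24877 q1622, e3 q1087 L24891 q1625, trivial⟩ (by decide +kernel)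

theorem ce_g_17 : ∀ r, r < 64 → sm gg (Qf (1088 + r)) = Qf (tab Gen.g (1088 + r)) :=
  edges_tab (sm gg) Qf (tab Gen.g) 1088 [(1088, 1096), (1089, 705), (1090, 1630), (1091, 1632), (1092, 706), (1093, 1637), (1094, 707), (1095, 713), (1096, 1088), (1097, 1645), (1098, 709), (1099, 1633), (1100, 989), (1101, 1653), (1102, 1655), (1103, 711), (1104, 1656), (1105, 1639), (1106, 1640), (1107, 1667), (1108, 1670), (1109, 1671), (1110, 715), (1111, 951), (1112, 1506), (1113, 1113), (1114, 1114), (1115, 1503), (1116, 1505), (1117, 955), (1118, 1685), (1119, 957), (1120, 958), (1121, 724), (1122, 1688), (1123, 1691), (1124, 1694), (1125, 1696), (1126, 725), (1127, 1701), (1128, 1697), (1129, 1143), (1130, 1708), (1131, 728), (1132, 1709), (1133, 736), (1134, 737), (1135, 1149), (1136, 1720), (1137, 1724), (1138, 1727), (1139, 732), (1140, 1731), (1141, 733), (1142, 735), (1143, 1129), (1144, 1734), (1145, 1735), (1146, 1743), (1147, 1747), (1148, 1714), (1149, 1135), (1150, 1715), (1151, 1756)]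
    ⟨e3 q1088 (flp_g L12027) q1096, e3 q1089 (flp_g L11983) q705, e3 q1090 L24912 q1630, e3 q1091 L24922 q1632, e3 q1092 (flp_g L11997) q706, e3 q1093 L24955 q1637, e3 q1094 (flp_g L12007) q707, e3 q1095 L12018 q713, e3 q1096 L12027 q1088, e3 q1097 L24991 q1645, e3 q1098 (flp_g L12033) q709, e3 q1099 (flp_g L24932) q1633, e3 q1100 L12053 q989, e3 q1101 L25026 q1653, e3 q1102 L25038 q1655, e3 q1103 (flp_g L12065) q711, e3 q1104 (flp_g L25048) q1656, e3 q1105 (flp_g L24967) q1639, e3 q1106 (flp_g L24973) q1640, e3 q1107 L25108 q1667, e3 q1108 L25126 q1670, e3 q1109 (flp_g L80347) q1671, e3 q1110 (flp_g L12117) q715, e3 q1111 (flp_g L81163) q951, e3 q1112 L81136 q1506, e3 q1113 L12174 q1113, e3 q1114 L76179 q1114, e3 q1115 (flp_g L73299) q1503, e3 q1116 L80456 q1505, e3 q1117 L81236 q955, e3 q1118 (flp_g L70464) q1685, e3 q1119 L81242 q957, e3 q1120 (flp_g L81222) q958, e3 q1121 L70459 q724, e3 q1122 (flp_g L68035) q1688, e3 q1123 L26656 q1691, e3 q1124 L26667 q1694, e3 q1125 L26675 q1696, e3 q1126 (flp_g L12822) q725,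 e3 q1127 L26694 q1701, e3 q1128 (flp_g L26681) q1697, e3 q1129 (flp_g L12882) q1143, e3 q1130 L26716 q1708, e3 q1131 (flp_g L12837) q728, e3 q1132 (flp_g L26722) q1709, e3 q1133 L12843 q736, e3 q1134 L12847 q737, e3 q1135 L12904 q1149, e3 q1136 L26759 q1720, e3 q1137 L26769 q1724, e3 q1138 L26777 q1727, e3 q1139 (flp_g L12860) q732, e3 q1140 L26793 q1731, e3 q1141 (flp_g L12870) q733, e3 q1142 L12876 q735, e3 q1143 L12882 q1129, e3 q1144 (flp_g L26811) q1734, e3 q1145 (flp_g L26815) q1735, e3 q1146 L26841 q1743, e3 q1147 L26853 q1747, e3 q1148 (flp_g L26739) q1714, e3 q1149 (flp_g L12904) q1135, e3 q1150 (flp_g L26744) q1715, e3 q1151 L26885 q1756, trivial⟩ (by decide +kernel)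

theorem ce_g_18 : ∀ r, r < 64 → sm gg (Qf (1152 + r)) = Qf (tab Gen.g (1152 + r)) :=
  edges_tab (sm gg) Qf (tab Gen.g) 1152 [(1152, 1759), (1153, 738), (1154, 1763), (1155, 1765), (1156, 739), (1157, 1767), (1158, 740), (1159, 1732), (1160, 744), (1161, 974), (1162, 973), (1163, 1772), (1164, 1164), (1165, 1165), (1166, 1783), (1167, 1020), (1168, 1785), (1169, 1543), (1170, 1546), (1171, 753), (1172, 978), (1173, 979), (1174, 1798), (1175, 977), (1176, 1791), (1177, 1792), (1178, 1032), (1179, 755), (1180, 1806), (1181, 1073), (1182, 1562), (1183, 1566), (1184, 1567), (1185, 763), (1186, 906), (1187, 1197), (1188, 905), (1189, 780), (1190, 761), (1191, 983), (1192, 1042), (1193, 766), (1194, 1070), (1195, 913), (1196, 1071), (1197, 1187), (1198, 1067), (1199, 1199), (1200, 773), (1201, 1796), (1202, 1824), (1203, 1820), (1204, 1828), (1205, 1055), (1206, 774), (1207, 1831), (1208, 775), (1209, 1571), (1210, 1835), (1211, 777), (1212, 1568), (1213, 1569), (1214, 1065), (1215, 834)]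
    ⟨e3 q1152 L26903 q1759, e3 q1153 (flp_g L12920) q738, e3 q1154 L26917 q1763, e3 q1155 L26929 q1765, e3 q1156 (flp_g L12934) q739, e3 q1157 L27033 q1767, e3 q1158 (flp_g L12979) q740, e3 q1159 (flp_g L26799) q1732, e3 q1160 L12993 q744, e3 q1161 (flp_g L81031) q974, e3 q1162 L81001 q973, e3 q1163 (flp_g L27061) q1772, e3 q1164 L13067 q1164, e3 q1165 L76219 q1165, e3 q1166 L27237 q1783, e3 q1167 (flp_g L80422) q1020, e3 q1168 (flp_g L59678) q1785, e3 q1169 (flp_g L82316) q1543, e3 q1170 L80466 q1546, e3 q1171 L13201 q753, e3 q1172 (flp_g L82308) q978, e3 q1173 L81835 q979, e3 q1174 L27568 q1798, e3 q1175 (flp_g L80961) q977, e3 q1176 (flp_g L27498) q1791, e3 q1177 (flp_g L27503) q1792, e3 q1178 L77862 q1032, e3 q1179 L68002 q755, e3 q1180 (flp_g L59564) q1806, e3 q1181 L142085 q1073, e3 q1182 L77881 q1562, e3 q1183 L77867 q1566, e3 q1184 L82166 q1567, e3 q1185 L13599 q763, e3 q1186 L132299 q906, e3 q1187 (flp_g L81857) q1197, e3 q1188 (flp_g L139579) q905, e3 q1189 L52179 q780, e3 q1190 (flp_g L13650) q761, e3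 q1191 L80859 q983, e3 q1192 (flp_g L82202) q1042, e3 q1193 (flp_g L68004) q766, e3 q1194 (flp_g L142171) q1070, e3 q1195 L141211 q913, e3 q1196 L142130 q1071, e3 q1197 L81857 q1187, e3 q1198 L140032 q1067, e3 q1199 L14009 q1199, e3 q1200 L14025 q773, e3 q1201 (flp_g L52185) q1796, e3 q1202 L29085 q1824, e3 q1203 (flp_g L29051) q1820, e3 q1204 L29111 q1828, e3 q1205 L82072 q1055, e3 q1206 (flp_g L14058) q774, e3 q1207 L29209 q1831, e3 q1208 (flp_g L14095) q775, e3 q1209 L131857 q1571, e3 q1210 L29256 q1835, e3 q1211 (flp_g L14116) q777, e3 q1212 (flp_g L77903) q1568, e3 q1213 L82041 q1569, e3 q1214 (flp_g L77680) q1065, e3 q1215 (flp_g L139257) q834, trivial⟩ (by decide +kernel)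

theorem ce_g_19 : ∀ r, r < 64 → sm gg (Qf (1216 + r)) = Qf (tab Gen.g (1216 + r)) :=
  edges_tab (sm gg) Qf (tab Gen.g) 1216 [(1216, 1281), (1217, 1217), (1218, 1845), (1219, 1219), (1220, 1849), (1221, 1851), (1222, 1295), (1223, 790), (1224, 1856), (1225, 1858), (1226, 793), (1227, 1862), (1228, 1859), (1229, 1867), (1230, 1246), (1231, 796), (1232, 1304), (1233, 1233), (1234, 1872), (1235, 1261), (1236, 801), (1237, 1337), (1238, 1238), (1239, 1880), (1240, 1882), (1241, 1884), (1242, 806), (1243, 1888), (1244, 807), (1245, 847), (1246, 1230), (1247, 809), (1248, 1249), (1249, 1248), (1250, 849), (1251, 1896), (1252, 1900), (1253, 1902), (1254, 817), (1255, 1906), (1256, 1908), (1257, 818), (1258, 1913), (1259, 819), (1260, 1903), (1261, 1235), (1262, 1342), (1263, 1921), (1264, 821), (1265, 1268), (1266, 878), (1267, 879), (1268, 1265), (1269, 874), (1270, 1358), (1271, 1931), (1272, 826), (1273, 1276), (1274, 891), (1275, 892), (1276, 1273), (1277, 883), (1278, 1939), (1279, 1376)]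
    ⟨e3 q1216 (flp_g L139800) q1281, e3 q1217 L78964 q1217, e3 q1218 L32496 q1845, e3 q1219 L78981 q1219, e3 q1220 L32824 q1849, e3 q1221 L32836 q1851, e3 q1222 (flp_g L18437) q1295, e3 q1223 (flp_g L15808) q790, e3 q1224 L33076 q1856, e3 q1225 L33088 q1858, e3 q1226 (flp_g L15920) q793, e3 q1227 L33116 q1862, e3 q1228 (flp_g L33098) q1859, e3 q1229 L36492 q1867, e3 q1230 (flp_g L17688) q1246, e3 q1231 (flp_g L17485) q796, e3 q1232 L74576 q1304, e3 q1233 L66056 q1233, e3 q1234 L36608 q1872, e3 q1235 (flp_g L17846) q1261, e3 q1236 (flp_g L17533) q801, e3 q1237 (flp_g L81582) q1337, e3 q1238 L67432 q1238, e3 q1239 L36804 q1880, e3 q1240 L36820 q1882, e3 q1241 L36829 q1884, e3 q1242 (flp_g L17650) q806, e3 q1243 L36865 q1888, e3 q1244 (flp_g L17664) q807, e3 q1245 L17678 q847, e3 q1246 L17688 q1230, e3 q1247 (flp_g L17702) q809, e3 q1248 L81446 q1249, e3 q1249 (flp_g L81446) q1248, e3 q1250 L81498 q849, e3 q1251 L37169 q1896, e3 q1252 L37185 q1900, e3 q1253 L37193 q1902, e3 q1254 (flp_g L17816) q817, e3 q1255 L37215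 q1906, e3 q1256 L37223 q1908, e3 q1257 (flp_g L17826) q818, e3 q1258 L37251 q1913, e3 q1259 (flp_g L17832) q819, e3 q1260 (flp_g L37201) q1903, e3 q1261 L17846 q1235, e3 q1262 (flp_g L18871) q1342, e3 q1263 L37279 q1921, e3 q1264 (flp_g L17858) q821, e3 q1265 (flp_g L74365) q1268, e3 q1266 L17870 q878, e3 q1267 L17874 q879, e3 q1268 L74365 q1265, e3 q1269 (flp_g L74404) q874, e3 q1270 (flp_g L18997) q1358, e3 q1271 L37382 q1931, e3 q1272 (flp_g L17902) q826, e3 q1273 L81774 q1276, e3 q1274 L17940 q891, e3 q1275 L17946 q892, e3 q1276 (flp_g L81774) q1273, e3 q1277 (flp_g L81572) q883, e3 q1278 L139273 q1939, e3 q1279 (flp_g L19295) q1376, trivial⟩ (by decide +kernel)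

theorem ce_g_20 : ∀ r, r < 64 → sm gg (Qf (1280 + r)) = Qf (tab Gen.g (1280 + r)) :=
  edges_tab (sm gg) Qf (tab Gen.g) 1280 [(1280, 1829), (1281, 1216), (1282, 1282), (1283, 907), (1284, 908), (1285, 898), (1286, 1948), (1287, 1951), (1288, 1953), (1289, 841), (1290, 1957), (1291, 842), (1292, 1962), (1293, 843), (1294, 1954), (1295, 1222), (1296, 1892), (1297, 1971), (1298, 845), (1299, 1972), (1300, 1311), (1301, 1890), (1302, 1981), (1303, 1303), (1304, 1232), (1305, 1973), (1306, 850), (1307, 852), (1308, 1985), (1309, 1986), (1310, 1310), (1311, 1300), (1312, 855), (1313, 1990), (1314, 1314), (1315, 1315), (1316, 860), (1317, 861), (1318, 1994), (1319, 864), (1320, 1995), (1321, 1321), (1322, 1998), (1323, 1328), (1324, 867), (1325, 2003), (1326, 868), (1327, 872), (1328, 1323), (1329, 2011), (1330, 2013), (1331, 870), (1332, 2014), (1333, 2005), (1334, 2006), (1335, 2025), (1336, 2028), (1337, 1237), (1338, 1926), (1339, 2034), (1340, 875), (1341, 877), (1342, 1262), (1343, 2037)]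
    ⟨e3 q1280 (flp_g L142227) q1829, e3 q1281 L139800 q1216, e3 q1282 L81756 q1282, e3 q1283 L18065 q907, e3 q1284 L18075 q908, e3 q1285 (flp_g L78606) q898, e3 q1286 L38674 q1948, e3 q1287 L38686 q1951, e3 q1288 L38696 q1953, e3 q1289 (flp_g L18401) q841, e3 q1290 L38720 q1957, e3 q1291 (flp_g L18409) q842, e3 q1292 L38750 q1962, e3 q1293 (flp_g L18417) q843, e3 q1294 (flp_g L38706) q1954, e3 q1295 L18437 q1222, e3 q1296 (flp_g L81588) q1892, e3 q1297 L38800 q1971, e3 q1298 (flp_g L18449) q845, e3 q1299 (flp_g L38812) q1972, e3 q1300 L77420 q1311, e3 q1301 (flp_g L36889) q1890, e3 q1302 L38880 q1981, e3 q1303 L67093 q1303, e3 q1304 (flp_g L74576) q1232, e3 q1305 (flp_g L69308) q1973, e3 q1306 (flp_g L18503) q850, e3 q1307 L18513 q852, e3 q1308 (flp_g L38974) q1985, e3 q1309 (flp_g L38980) q1986, e3 q1310 L78703 q1310, e3 q1311 (flp_g L77420) q1300, e3 q1312 (flp_g L78830) q855, e3 q1313 L59946 q1990, e3 q1314 L59052 q1314, e3 q1315 L59077 q1315, e3 q1316 L18645 q860, e3 q1317 L18649 q861, e3 q1318 (flp_g L39272)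 q1994, e3 q1319 (flp_g L59954) q864, e3 q1320 (flp_g L59948) q1995, e3 q1321 L59057 q1321, e3 q1322 L39581 q1998, e3 q1323 (flp_g L18813) q1328, e3 q1324 (flp_g L18793) q867, e3 q1325 L39595 q2003, e3 q1326 (flp_g L18801) q868, e3 q1327 L18807 q872, e3 q1328 L18813 q1323, e3 q1329 L39617 q2011, e3 q1330 L39627 q2013, e3 q1331 (flp_g L18821) q870, e3 q1332 (flp_g L39633) q2014, e3 q1333 (flp_g L39601) q2005, e3 q1334 (flp_g L39605) q2006, e3 q1335 L39677 q2025, e3 q1336 L39691 q2028, e3 q1337 L81582 q1237, e3 q1338 (flp_g L81600) q1926, e3 q1339 L39733 q2034, e3 q1340 (flp_g L18855) q875, e3 q1341 L18863 q877, e3 q1342 L18871 q1262, e3 q1343 (flp_g L39751) q2037, trivial⟩ (by decide +kernel)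

theorem ce_g_21 : ∀ r, r < 64 → sm gg (Qf (1344 + r)) = Qf (tab Gen.g (1344 + r)) :=
  edges_tab (sm gg) Qf (tab Gen.g) 1344 [(1344, 2038), (1345, 1345), (1346, 1923), (1347, 1924), (1348, 2048), (1349, 2049), (1350, 880), (1351, 1351), (1352, 1352), (1353, 1938), (1354, 2058), (1355, 2059), (1356, 884), (1357, 919), (1358, 1270), (1359, 888), (1360, 889), (1361, 1817), (1362, 2065), (1363, 1934), (1364, 1935), (1365, 1936), (1366, 2077), (1367, 2079), (1368, 893), (1369, 894), (1370, 1818), (1371, 1371), (1372, 1372), (1373, 1944), (1374, 899), (1375, 927), (1376, 1279), (1377, 928), (1378, 1793), (1379, 1943), (1380, 2080), (1381, 910), (1382, 909), (1383, 1075), (1384, 1384), (1385, 2088), (1386, 2090), (1387, 916), (1388, 917), (1389, 2060), (1390, 2062), (1391, 1588), (1392, 1396), (1393, 1397), (1394, 2101), (1395, 1060), (1396, 1392), (1397, 1393), (1398, 2108), (1399, 1404), (1400, 924), (1401, 1046), (1402, 1047), (1403, 2063), (1404, 1399), (1405, 1405), (1406, 2115), (1407, 1407)]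
    ⟨e3 q1344 (flp_g L39755) q2038, e3 q1345 L78738 q1345, e3 q1346 (flp_g L37309) q1923, e3 q1347 (flp_g L37313) q1924, e3 q1348 L39837 q2048, e3 q1349 L59974 q2049, e3 q1350 (flp_g L18913) q880, e3 q1351 L59997 q1351, e3 q1352 L67099 q1352, e3 q1353 (flp_g L78283) q1938, e3 q1354 L39997 q2058, e3 q1355 L40001 q2059, e3 q1356 (flp_g L18979) q884, e3 q1357 L18987 q919, e3 q1358 L18997 q1270, e3 q1359 L19003 q888, e3 q1360 L19009 q889, e3 q1361 (flp_g L139811) q1817, e3 q1362 (flp_g L40053) q2065, e3 q1363 (flp_g L37474) q1934, e3 q1364 (flp_g L37478) q1935, e3 q1365 (flp_g L37484) q1936, e3 q1366 L40261 q2077, e3 q1367 L40275 q2079, e3 q1368 (flp_g L19113) q893, e3 q1369 (flp_g L64977) q894, e3 q1370 (flp_g L142210) q1818, e3 q1371 L64990 q1371, e3 q1372 L64985 q1372, e3 q1373 (flp_g L78588) q1944, e3 q1374 (flp_g L19279) q899, e3 q1375 L19287 q927, e3 q1376 L19295 q1279, e3 q1377 L19299 q928, e3 q1378 (flp_g L141852) q1793, e3 q1379 (flp_g L37990) q1943, e3 q1380 L141876 q2080, e3 q1381 L141946 q910, e3 q1382 (flp_g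 L19487) q909, e3 q1383 L71375 q1075, e3 q1384 L57926 q1384, e3 q1385 L41276 q2088, e3 q1386 L41282 q2090, e3 q1387 (flp_g L19599) q916, e3 q1388 (flp_g L19603) q917, e3 q1389 (flp_g L40011) q2060, e3 q1390 (flp_g L40025) q2062, e3 q1391 L23567 q1588, e3 q1392 (flp_g L19690) q1396, e3 q1393 (flp_g L19698) q1397, e3 q1394 L41410 q2101, e3 q1395 L19684 q1060, e3 q1396 L19690 q1392, e3 q1397 L19698 q1393, e3 q1398 L41440 q2108, e3 q1399 L132155 q1404, e3 q1400 (flp_g L19710) q924, e3 q1401 L19724 q1046, e3 q1402 L19734 q1047, e3 q1403 L139105 q2063, e3 q1404 (flp_g L132155) q1399, e3 q1405 L79023 q1405, e3 q1406 L42508 q2115, e3 q1407 L78988 q1407, trivial⟩ (by decide +kernel)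

theorem ce_g_22 : ∀ r, r < 64 → sm gg (Qf (1408 + r)) = Qf (tab Gen.g (1408 + r)) :=
  edges_tab (sm gg) Qf (tab Gen.g) 1408 [(1408, 2119), (1409, 2122), (1410, 1430), (1411, 940), (1412, 2128), (1413, 2132), (1414, 2134), (1415, 943), (1416, 2138), (1417, 1458), (1418, 944), (1419, 2142), (1420, 2135), (1421, 2146), (1422, 2148), (1423, 947), (1424, 2152), (1425, 2154), (1426, 948), (1427, 2159), (1428, 949), (1429, 2149), (1430, 1410), (1431, 1675), (1432, 1674), (1433, 997), (1434, 1434), (1435, 1683), (1436, 1684), (1437, 1437), (1438, 1438), (1439, 1687), (1440, 1440), (1441, 2176), (1442, 1449), (1443, 961), (1444, 2180), (1445, 962), (1446, 2185), (1447, 963), (1448, 971), (1449, 1442), (1450, 2192), (1451, 1910), (1452, 965), (1453, 2196), (1454, 966), (1455, 2201), (1456, 967), (1457, 2181), (1458, 1417), (1459, 2209), (1460, 2211), (1461, 969), (1462, 2212), (1463, 2187), (1464, 2188), (1465, 2223), (1466, 2226), (1467, 1776), (1468, 1773), (1469, 1774), (1470, 1022), (1471, 1471)]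
    ⟨e3 q1408 L42664 q2119, e3 q1409 L42684 q2122, e3 q1410 (flp_g L20781) q1430, e3 q1411 (flp_g L20393) q940, e3 q1412 L42904 q2128, e3 q1413 L42920 q2132, e3 q1414 L42928 q2134, e3 q1415 (flp_g L20521) q943, e3 q1416 L42950 q2138, e3 q1417 (flp_g L21197) q1458, e3 q1418 (flp_g L20537) q944, e3 q1419 L42972 q2142, e3 q1420 (flp_g L42934) q2135, e3 q1421 L43294 q2146, e3 q1422 L43324 q2148, e3 q1423 (flp_g L20739) q947, e3 q1424 L43354 q2152, e3 q1425 L43364 q2154, e3 q1426 (flp_g L20753) q948, e3 q1427 L43394 q2159, e3 q1428 (flp_g L20761) q949, e3 q1429 (flp_g L43336) q2149, e3 q1430 L20781 q1410, e3 q1431 (flp_g L81007) q1675, e3 q1432 (flp_g L81078) q1674, e3 q1433 L20821 q997, e3 q1434 L69954 q1434, e3 q1435 L75127 q1683, e3 q1436 L75199 q1684, e3 q1437 L50933 q1437, e3 q1438 L50984 q1438, e3 q1439 (flp_g L75172) q1687, e3 q1440 L68267 q1440, e3 q1441 L43982 q2176, e3 q1442 (flp_g L21141) q1449, e3 q1443 (flp_g L21103) q961, e3 q1444 L44008 q2180, e3 q1445 (flp_g L21117) q962, e3 q1446 L44040 q2185, e3 q1447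 (flp_g L21125) q963, e3 q1448 L21133 q971, e3 q1449 L21141 q1442, e3 q1450 L44070 q2192, e3 q1451 (flp_g L37243) q1910, e3 q1452 (flp_g L21161) q965, e3 q1453 L44109 q2196, e3 q1454 (flp_g L21173) q966, e3 q1455 L44133 q2201, e3 q1456 (flp_g L21181) q967, e3 q1457 (flp_g L44018) q2181, e3 q1458 L21197 q1417, e3 q1459 L44161 q2209, e3 q1460 L44171 q2211, e3 q1461 (flp_g L21205) q969, e3 q1462 (flp_g L44177) q2212, e3 q1463 (flp_g L44046) q2187, e3 q1464 (flp_g L44050) q2188, e3 q1465 L44219 q2223, e3 q1466 L44231 q2226, e3 q1467 (flp_g L80545) q1776, e3 q1468 L82319 q1773, e3 q1469 (flp_g L81080) q1774, e3 q1470 L21267 q1022, e3 q1471 L67590 q1471, trivial⟩ (by decide +kernel)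

theorem ce_g_23 : ∀ r, r < 64 → sm gg (Qf (1472 + r)) = Qf (tab Gen.g (1472 + r)) :=
  edges_tab (sm gg) Qf (tab Gen.g) 1472 [(1472, 1472), (1473, 1799), (1474, 1800), (1475, 1795), (1476, 1034), (1477, 1035), (1478, 1478), (1479, 2246), (1480, 2249), (1481, 1489), (1482, 985), (1483, 2253), (1484, 2255), (1485, 986), (1486, 2260), (1487, 987), (1488, 992), (1489, 1481), (1490, 2268), (1491, 2256), (1492, 2274), (1493, 2276), (1494, 991), (1495, 2262), (1496, 2263), (1497, 2283), (1498, 2286), (1499, 993), (1500, 2288), (1501, 994), (1502, 1507), (1503, 1115), (1504, 2168), (1505, 1116), (1506, 1112), (1507, 1502), (1508, 2301), (1509, 2303), (1510, 2305), (1511, 1003), (1512, 2310), (1513, 2306), (1514, 1527), (1515, 2317), (1516, 1006), (1517, 2318), (1518, 1013), (1519, 1014), (1520, 1530), (1521, 2329), (1522, 2332), (1523, 2335), (1524, 1010), (1525, 2339), (1526, 1011), (1527, 1514), (1528, 2345), (1529, 2323), (1530, 1520), (1531, 2324), (1532, 2354), (1533, 1015), (1534, 2359), (1535, 2361)]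
    ⟨e3 q1472 L67586 q1472, e3 q1473 (flp_g L75709) q1799, e3 q1474 (flp_g L75724) q1800, e3 q1475 (flp_g L74185) q1795, e3 q1476 L21408 q1034, e3 q1477 L21412 q1035, e3 q1478 L67553 q1478, e3 q1479 L45124 q2246, e3 q1480 L45142 q2249, e3 q1481 (flp_g L21761) q1489, e3 q1482 (flp_g L21714) q985, e3 q1483 L45167 q2253, e3 q1484 L45181 q2255, e3 q1485 (flp_g L21731) q986, e3 q1486 L45219 q2260, e3 q1487 (flp_g L21743) q987, e3 q1488 L21753 q992, e3 q1489 L21761 q1481, e3 q1490 L45258 q2268, e3 q1491 (flp_g L45195) q2256, e3 q1492 L45291 q2274, e3 q1493 L45303 q2276, e3 q1494 (flp_g L21785) q991, e3 q1495 (flp_g L45231) q2262, e3 q1496 (flp_g L45237) q2263, e3 q1497 L45345 q2283, e3 q1498 L45385 q2286, e3 q1499 (flp_g L21815) q993, e3 q1500 L45407 q2288, e3 q1501 (flp_g L21827) q994, e3 q1502 L82476 q1507, e3 q1503 L73299 q1115, e3 q1504 (flp_g L43486) q2168, e3 q1505 (flp_g L80456) q1116, e3 q1506 (flp_g L81136) q1112, e3 q1507 (flp_g L82476) q1502, e3 q1508 L46341 q2301, e3 q1509 L46353 q2303, e3 q1510 L46363 q2305,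 e3 q1511 (flp_g L22309) q1003, e3 q1512 L46389 q2310, e3 q1513 (flp_g L46373) q2306, e3 q1514 (flp_g L22387) q1527, e3 q1515 L46417 q2317, e3 q1516 (flp_g L22331) q1006, e3 q1517 (flp_g L46425) q2318, e3 q1518 L22343 q1013, e3 q1519 L22347 q1014, e3 q1520 L22403 q1530, e3 q1521 L46469 q2329, e3 q1522 L46487 q2332, e3 q1523 L46497 q2335, e3 q1524 (flp_g L22365) q1010, e3 q1525 L46515 q2339, e3 q1526 (flp_g L22377) q1011, e3 q1527 L22387 q1514, e3 q1528 L46547 q2345, e3 q1529 (flp_g L46447) q2323, e3 q1530 (flp_g L22403) q1520, e3 q1531 (flp_g L46451) q2324, e3 q1532 L46583 q2354, e3 q1533 (flp_g L22413) q1015, e3 q1534 L46653 q2359, e3 q1535 L46659 q2361, trivial⟩ (by decide +kernel)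

theorem ce_g_24 : ∀ r, r < 64 → sm gg (Qf (1536 + r)) = Qf (tab Gen.g (1536 + r)) :=
  edges_tab (sm gg) Qf (tab Gen.g) 1536 [(1536, 1016), (1537, 2365), (1538, 2366), (1539, 1018), (1540, 2340), (1541, 2373), (1542, 1784), (1543, 1169), (1544, 2231), (1545, 2232), (1546, 1170), (1547, 2383), (1548, 1608), (1549, 2387), (1550, 1587), (1551, 1025), (1552, 2392), (1553, 2394), (1554, 2396), (1555, 1027), (1556, 1028), (1557, 1052), (1558, 1054), (1559, 1559), (1560, 1804), (1561, 1805), (1562, 1182), (1563, 2409), (1564, 2240), (1565, 2241), (1566, 1183), (1567, 1184), (1568, 1212), (1569, 1213), (1570, 1068), (1571, 1209), (1572, 2421), (1573, 2110), (1574, 2426), (1575, 2429), (1576, 2430), (1577, 1048), (1578, 2434), (1579, 1049), (1580, 2431), (1581, 1080), (1582, 2398), (1583, 1079), (1584, 2399), (1585, 2400), (1586, 1826), (1587, 1550), (1588, 1391), (1589, 2451), (1590, 1616), (1591, 2456), (1592, 2459), (1593, 2461), (1594, 1059), (1595, 2102), (1596, 2466), (1597, 2469), (1598, 1061), (1599, 1810)]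
    ⟨e3 q1536 (flp_g L22443) q1016, e3 q1537 L46685 q2365, e3 q1538 L46689 q2366, e3 q1539 (flp_g L22459) q1018, e3 q1540 (flp_g L46521) q2340, e3 q1541 L46781 q2373, e3 q1542 (flp_g L80559) q1784, e3 q1543 L82316 q1169, e3 q1544 (flp_g L44339) q2231, e3 q1545 (flp_g L44343) q2232, e3 q1546 (flp_g L80466) q1170, e3 q1547 L46835 q2383, e3 q1548 L142665 q1608, e3 q1549 L46983 q2387, e3 q1550 L142642 q1587, e3 q1551 (flp_g L22621) q1025, e3 q1552 L47051 q2392, e3 q1553 L47061 q2394, e3 q1554 L47071 q2396, e3 q1555 (flp_g L22659) q1027, e3 q1556 (flp_g L22663) q1028, e3 q1557 L22673 q1052, e3 q1558 L22687 q1054, e3 q1559 L51763 q1559, e3 q1560 (flp_g L77850) q1804, e3 q1561 (flp_g L77792) q1805, e3 q1562 (flp_g L77881) q1182, e3 q1563 L47390 q2409, e3 q1564 (flp_g L44579) q2240, e3 q1565 (flp_g L44587) q2241, e3 q1566 (flp_g L77867) q1183, e3 q1567 (flp_g L82166) q1184, e3 q1568 L77903 q1212, e3 q1569 (flp_g L82041) q1213, e3 q1570 L23070 q1068, e3 q1571 (flp_g L131857) q1209, e3 q1572 L83826 q2421, e3 q1573 (flp_g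 L41482) q2110, e3 q1574 L83849 q2426, e3 q1575 L83861 q2429, e3 q1576 L83865 q2430, e3 q1577 (flp_g L23511) q1048, e3 q1578 L83889 q2434, e3 q1579 (flp_g L23515) q1049, e3 q1580 (flp_g L83871) q2431, e3 q1581 L23531 q1080, e3 q1582 (flp_g L47093) q2398, e3 q1583 L23547 q1079, e3 q1584 (flp_g L47109) q2399, e3 q1585 (flp_g L47113) q2400, e3 q1586 L83453 q1826, e3 q1587 (flp_g L142642) q1550, e3 q1588 (flp_g L23567) q1391, e3 q1589 L83982 q2451, e3 q1590 (flp_g L65436) q1616, e3 q1591 L84005 q2456, e3 q1592 L84017 q2459, e3 q1593 L84025 q2461, e3 q1594 (flp_g L23715) q1059, e3 q1595 (flp_g L41416) q2102, e3 q1596 L84053 q2466, e3 q1597 L84069 q2469, e3 q1598 (flp_g L23727) q1061, e3 q1599 L142065 q1810, trivial⟩ (by decide +kernel)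

theorem ce_g_25 : ∀ r, r < 64 → sm gg (Qf (1600 + r)) = Qf (tab Gen.g (1600 + r)) :=
  edges_tab (sm gg) Qf (tab Gen.g) 1600 [(1600, 1062), (1601, 1839), (1602, 2476), (1603, 1063), (1604, 1813), (1605, 2078), (1606, 1807), (1607, 1809), (1608, 1548), (1609, 2481), (1610, 1077), (1611, 2436), (1612, 2485), (1613, 1613), (1614, 1614), (1615, 1615), (1616, 1590), (1617, 2493), (1618, 2496), (1619, 2499), (1620, 2501), (1621, 2503), (1622, 1086), (1623, 2509), (1624, 1634), (1625, 1087), (1626, 2514), (1627, 2504), (1628, 2519), (1629, 2521), (1630, 1090), (1631, 2526), (1632, 1091), (1633, 1099), (1634, 1624), (1635, 1657), (1636, 2535), (1637, 1093), (1638, 2536), (1639, 1105), (1640, 1106), (1641, 1663), (1642, 2547), (1643, 2550), (1644, 2552), (1645, 1097), (1646, 2553), (1647, 2528), (1648, 2529), (1649, 2564), (1650, 2567), (1651, 2571), (1652, 2574), (1653, 1101), (1654, 2578), (1655, 1102), (1656, 1104), (1657, 1635), (1658, 2581), (1659, 2582), (1660, 2590), (1661, 2594), (1662, 2541), (1663, 1641)]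
    ⟨e3 q1600 (flp_g L23743) q1062, e3 q1601 (flp_g L82709) q1839, e3 q1602 L84109 q2476, e3 q1603 (flp_g L23759) q1063, e3 q1604 (flp_g L141982) q1813, e3 q1605 L71385 q2078, e3 q1606 L142073 q1807, e3 q1607 L142082 q1809, e3 q1608 (flp_g L142665) q1548, e3 q1609 L84196 q2481, e3 q1610 (flp_g L24445) q1077, e3 q1611 (flp_g L83905) q2436, e3 q1612 L84216 q2485, e3 q1613 L82751 q1613, e3 q1614 L82750 q1614, e3 q1615 L72204 q1615, e3 q1616 L65436 q1590, e3 q1617 L84261 q2493, e3 q1618 L84283 q2496, e3 q1619 L84298 q2499, e3 q1620 L84310 q2501, e3 q1621 L84320 q2503, e3 q1622 (flp_g L24877) q1086, e3 q1623 L84367 q2509, e3 q1624 (flp_g L24940) q1634, e3 q1625 (flp_g L24891) q1087, e3 q1626 L84390 q2514, e3 q1627 (flp_g L84330) q2504, e3 q1628 L84412 q2519, e3 q1629 L84420 q2521, e3 q1630 (flp_g L24912) q1090, e3 q1631 L84447 q2526, e3 q1632 (flp_g L24922) q1091, e3 q1633 L24932 q1099, e3 q1634 L24940 q1624, e3 q1635 (flp_g L25056) q1657, e3 q1636 L84490 q2535, e3 q1637 (flp_g L24955) q1093, e3 q1638 (flp_g L84500)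 q2536, e3 q1639 L24967 q1105, e3 q1640 L24973 q1106, e3 q1641 L25090 q1663, e3 q1642 L84555 q2547, e3 q1643 L84569 q2550, e3 q1644 L84580 q2552, e3 q1645 (flp_g L24991) q1097, e3 q1646 (flp_g L84588) q2553, e3 q1647 (flp_g L84459) q2528, e3 q1648 (flp_g L84463) q2529, e3 q1649 L84642 q2564, e3 q1650 L84661 q2567, e3 q1651 L84681 q2571, e3 q1652 L84693 q2574, e3 q1653 (flp_g L25026) q1101, e3 q1654 L84715 q2578, e3 q1655 (flp_g L25038) q1102, e3 q1656 L25048 q1104, e3 q1657 L25056 q1635, e3 q1658 (flp_g L84739) q2581, e3 q1659 (flp_g L84745) q2582, e3 q1660 L84783 q2590, e3 q1661 L84803 q2594, e3 q1662 (flp_g L84527) q2541, e3 q1663 (flp_g L25090) q1641, trivial⟩ (by decide +kernel)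

theorem ce_g_26 : ∀ r, r < 64 → sm gg (Qf (1664 + r)) = Qf (tab Gen.g (1664 + r)) :=
  edges_tab (sm gg) Qf (tab Gen.g) 1664 [(1664, 2542), (1665, 2603), (1666, 2606), (1667, 1107), (1668, 2610), (1669, 2612), (1670, 1108), (1671, 1109), (1672, 2615), (1673, 2579), (1674, 1432), (1675, 1431), (1676, 2297), (1677, 1677), (1678, 1678), (1679, 2627), (1680, 2628), (1681, 2292), (1682, 2294), (1683, 1435), (1684, 1436), (1685, 1118), (1686, 2636), (1687, 1439), (1688, 1122), (1689, 2642), (1690, 1698), (1691, 1123), (1692, 2648), (1693, 2650), (1694, 1124), (1695, 2655), (1696, 1125), (1697, 1128), (1698, 1690), (1699, 2663), (1700, 2665), (1701, 1127), (1702, 2657), (1703, 2658), (1704, 2672), (1705, 2676), (1706, 1733), (1707, 2681), (1708, 1130), (1709, 1132), (1710, 2683), (1711, 2684), (1712, 2691), (1713, 2695), (1714, 1148), (1715, 1150), (1716, 1750), (1717, 2704), (1718, 2707), (1719, 2709), (1720, 1136), (1721, 2712), (1722, 2716), (1723, 2717), (1724, 1137), (1725, 2723), (1726, 2726), (1727, 1138)]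
    ⟨e3 q1664 (flp_g L84532) q2542, e3 q1665 L84847 q2603, e3 q1666 L84869 q2606, e3 q1667 (flp_g L25108) q1107, e3 q1668 L84887 q2610, e3 q1669 L84899 q2612, e3 q1670 (flp_g L25126) q1108, e3 q1671 L80347 q1109, e3 q1672 (flp_g L84923) q2615, e3 q1673 (flp_g L84723) q2579, e3 q1674 L81078 q1432, e3 q1675 L81007 q1431, e3 q1676 (flp_g L83398) q2297, e3 q1677 L25306 q1677, e3 q1678 L25309 q1678, e3 q1679 L84996 q2627, e3 q1680 (flp_g L85009) q2628, e3 q1681 L82332 q2292, e3 q1682 (flp_g L83368) q2294, e3 q1683 (flp_g L75127) q1435, e3 q1684 (flp_g L75199) q1436, e3 q1685 L70464 q1118, e3 q1686 (flp_g L85067) q2636, e3 q1687 L75172 q1439, e3 q1688 L68035 q1122, e3 q1689 L85127 q2642, e3 q1690 (flp_g L26687) q1698, e3 q1691 (flp_g L26656) q1123, e3 q1692 L85146 q2648, e3 q1693 L85153 q2650, e3 q1694 (flp_g L26667) q1124, e3 q1695 L85180 q2655, e3 q1696 (flp_g L26675) q1125, e3 q1697 L26681 q1128, e3 q1698 L26687 q1690, e3 q1699 L85202 q2663, e3 q1700 L85211 q2665, e3 q1701 (flp_g L26694) q1127, e3 q1702 (flp_g L85186)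 q2657, e3 q1703 (flp_g L85190) q2658, e3 q1704 L85240 q2672, e3 q1705 L85254 q2676, e3 q1706 (flp_g L26807) q1733, e3 q1707 L85273 q2681, e3 q1708 (flp_g L26716) q1130, e3 q1709 L26722 q1132, e3 q1710 (flp_g L85282) q2683, e3 q1711 (flp_g L85286) q2684, e3 q1712 L85309 q2691, e3 q1713 L85321 q2695, e3 q1714 L26739 q1148, e3 q1715 L26744 q1150, e3 q1716 L26867 q1750, e3 q1717 L85357 q2704, e3 q1718 L85365 q2707, e3 q1719 L85374 q2709, e3 q1720 (flp_g L26759) q1136, e3 q1721 L85392 q2712, e3 q1722 L85406 q2716, e3 q1723 L85410 q2717, e3 q1724 (flp_g L26769) q1137, e3 q1725 L85433 q2723, e3 q1726 L85445 q2726, e3 q1727 (flp_g L26777) q1138, trivial⟩ (by decide +kernel)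

theorem ce_g_27 : ∀ r, r < 64 → sm gg (Qf (1728 + r)) = Qf (tab Gen.g (1728 + r)) :=
  edges_tab (sm gg) Qf (tab Gen.g) 1728 [(1728, 2718), (1729, 2733), (1730, 2734), (1731, 1140), (1732, 1159), (1733, 1706), (1734, 1144), (1735, 1145), (1736, 1740), (1737, 2748), (1738, 2752), (1739, 2742), (1740, 1736), (1741, 2743), (1742, 2760), (1743, 1146), (1744, 2763), (1745, 2767), (1746, 2769), (1747, 1147), (1748, 2774), (1749, 2697), (1750, 1716), (1751, 2781), (1752, 2698), (1753, 2699), (1754, 2787), (1755, 2790), (1756, 1151), (1757, 1766), (1758, 2795), (1759, 1152), (1760, 2796), (1761, 2803), (1762, 2806), (1763, 1154), (1764, 2810), (1765, 1155), (1766, 1757), (1767, 1157), (1768, 2735), (1769, 2737), (1770, 2738), (1771, 2821), (1772, 1163), (1773, 1468), (1774, 1469), (1775, 2829), (1776, 1467), (1777, 2236), (1778, 2822), (1779, 1779), (1780, 2835), (1781, 2838), (1782, 2840), (1783, 1166), (1784, 1542), (1785, 1168), (1786, 2843), (1787, 2849), (1788, 2375), (1789, 2379), (1790, 2380), (1791, 1176)]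
    ⟨e3 q1728 (flp_g L85416) q2718, e3 q1729 L85475 q2733, e3 q1730 L85479 q2734, e3 q1731 (flp_g L26793) q1140, e3 q1732 L26799 q1159, e3 q1733 L26807 q1706, e3 q1734 L26811 q1144, e3 q1735 L26815 q1145, e3 q1736 L26831 q1740, e3 q1737 L85535 q2748, e3 q1738 L85545 q2752, e3 q1739 (flp_g L85517) q2742, e3 q1740 (flp_g L26831) q1736, e3 q1741 (flp_g L85521) q2743, e3 q1742 L85573 q2760, e3 q1743 (flp_g L26841) q1146, e3 q1744 L85593 q2763, e3 q1745 L85607 q2767, e3 q1746 L85615 q2769, e3 q1747 (flp_g L26853) q1147, e3 q1748 L85634 q2774, e3 q1749 (flp_g L85331) q2697, e3 q1750 (flp_g L26867) q1716, e3 q1751 L85660 q2781, e3 q1752 (flp_g L85335) q2698, e3 q1753 (flp_g L85340) q2699, e3 q1754 L85690 q2787, e3 q1755 L85708 q2790, e3 q1756 (flp_g L26885) q1151, e3 q1757 (flp_g L26939) q1766, e3 q1758 L85726 q2795, e3 q1759 (flp_g L26903) q1152, e3 q1760 (flp_g L85734) q2796, e3 q1761 L85756 q2803, e3 q1762 L85766 q2806, e3 q1763 (flp_g L26917) q1154, e3 q1764 L85784 q2810, e3 q1765 (flp_g L26929) q1155, e3 q1766 L26939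 q1757, e3 q1767 (flp_g L27033) q1157, e3 q1768 (flp_g L85487) q2735, e3 q1769 (flp_g L85499) q2737, e3 q1770 (flp_g L85503) q2738, e3 q1771 L85840 q2821, e3 q1772 L27061 q1163, e3 q1773 (flp_g L82319) q1468, e3 q1774 L81080 q1469, e3 q1775 L85878 q2829, e3 q1776 L80545 q1467, e3 q1777 (flp_g L82679) q2236, e3 q1778 (flp_g L85852) q2822, e3 q1779 L82688 q1779, e3 q1780 (flp_g L149463) q2835, e3 q1781 L85916 q2838, e3 q1782 L85926 q2840, e3 q1783 (flp_g L27237) q1166, e3 q1784 L80559 q1542, e3 q1785 L59678 q1168, e3 q1786 (flp_g L85952) q2843, e3 q1787 L85972 q2849, e3 q1788 L80473 q2375, e3 q1789 (flp_g L82723) q2379, e3 q1790 (flp_g L83370) q2380, e3 q1791 L27498 q1176, trivial⟩ (by decide +kernel)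

theorem ce_g_28 : ∀ r, r < 64 → sm gg (Qf (1792 + r)) = Qf (tab Gen.g (1792 + r)) :=
  edges_tab (sm gg) Qf (tab Gen.g) 1792 [(1792, 1177), (1793, 1378), (1794, 1811), (1795, 1475), (1796, 1201), (1797, 2861), (1798, 1174), (1799, 1473), (1800, 1474), (1801, 2868), (1802, 2227), (1803, 2854), (1804, 1560), (1805, 1561), (1806, 1180), (1807, 1606), (1808, 2873), (1809, 1607), (1810, 1599), (1811, 1794), (1812, 2404), (1813, 1604), (1814, 2886), (1815, 2411), (1816, 2413), (1817, 1361), (1818, 1370), (1819, 1834), (1820, 1203), (1821, 2859), (1822, 2895), (1823, 2897), (1824, 1202), (1825, 2900), (1826, 1586), (1827, 2904), (1828, 1204), (1829, 1280), (1830, 2894), (1831, 1207), (1832, 2415), (1833, 2890), (1834, 1819), (1835, 1210), (1836, 2909), (1837, 2416), (1838, 2417), (1839, 1601), (1840, 1941), (1841, 2919), (1842, 2923), (1843, 2926), (1844, 2927), (1845, 1218), (1846, 2932), (1847, 2935), (1848, 2937), (1849, 1220), (1850, 1959), (1851, 1221), (1852, 2943), (1853, 2938), (1854, 2949), (1855, 1860)]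
    ⟨e3 q1792 L27503 q1177, e3 q1793 L141852 q1378, e3 q1794 L81899 q1811, e3 q1795 L74185 q1475, e3 q1796 L52185 q1201, e3 q1797 L86067 q2861, e3 q1798 (flp_g L27568) q1174, e3 q1799 L75709 q1473, e3 q1800 L75724 q1474, e3 q1801 L86105 q2868, e3 q1802 (flp_g L82675) q2227, e3 q1803 (flp_g L85997) q2854, e3 q1804 L77850 q1560, e3 q1805 L77792 q1561, e3 q1806 L59564 q1180, e3 q1807 (flp_g L142073) q1606, e3 q1808 (flp_g L86138) q2873, e3 q1809 (flp_g L142082) q1607, e3 q1810 (flp_g L142065) q1599, e3 q1811 (flp_g L81899) q1794, e3 q1812 L77872 q2404, e3 q1813 L141982 q1604, e3 q1814 L86216 q2886, e3 q1815 (flp_g L82717) q2411, e3 q1816 (flp_g L82719) q2413, e3 q1817 L139811 q1361, e3 q1818 L142210 q1370, e3 q1819 L146956 q1834, e3 q1820 L29051 q1203, e3 q1821 (flp_g L86041) q2859, e3 q1822 L86667 q2895, e3 q1823 L86688 q2897, e3 q1824 (flp_g L29085) q1202, e3 q1825 L86717 q2900, e3 q1826 (flp_g L83453) q1586, e3 q1827 L86753 q2904, e3 q1828 (flp_g L29111) q1204, e3 q1829 L142227 q1280, e3 q1830 (flp_g L147075) q2894,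 e3 q1831 (flp_g L29209) q1207, e3 q1832 (flp_g L142053) q2415, e3 q1833 L147190 q2890, e3 q1834 (flp_g L146956) q1819, e3 q1835 (flp_g L29256) q1210, e3 q1836 (flp_g L86937) q2909, e3 q1837 L82725 q2416, e3 q1838 L82727 q2417, e3 q1839 L82709 q1601, e3 q1840 L139616 q1941, e3 q1841 L87952 q2919, e3 q1842 L87971 q2923, e3 q1843 L87985 q2926, e3 q1844 L87990 q2927, e3 q1845 (flp_g L32496) q1218, e3 q1846 L88022 q2932, e3 q1847 L88044 q2935, e3 q1848 L88057 q2937, e3 q1849 (flp_g L32824) q1220, e3 q1850 (flp_g L38738) q1959, e3 q1851 (flp_g L32836) q1221, e3 q1852 L88095 q2943, e3 q1853 (flp_g L88068) q2938, e3 q1854 L88122 q2949, e3 q1855 (flp_g L33106) q1860, trivial⟩ (by decide +kernel)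

theorem ce_g_29 : ∀ r, r < 64 → sm gg (Qf (1856 + r)) = Qf (tab Gen.g (1856 + r)) :=
  edges_tab (sm gg) Qf (tab Gen.g) 1856 [(1856, 1224), (1857, 2953), (1858, 1225), (1859, 1228), (1860, 1855), (1861, 2959), (1862, 1227), (1863, 2955), (1864, 2963), (1865, 2965), (1866, 1886), (1867, 1229), (1868, 1968), (1869, 1869), (1870, 2972), (1871, 2974), (1872, 1234), (1873, 2979), (1874, 2975), (1875, 2029), (1876, 1876), (1877, 2988), (1878, 2990), (1879, 2992), (1880, 1239), (1881, 2996), (1882, 1240), (1883, 3001), (1884, 1241), (1885, 2993), (1886, 1866), (1887, 3008), (1888, 1243), (1889, 1891), (1890, 1301), (1891, 1889), (1892, 1296), (1893, 3015), (1894, 3019), (1895, 1904), (1896, 1251), (1897, 3025), (1898, 3027), (1899, 3029), (1900, 1252), (1901, 3034), (1902, 1253), (1903, 1260), (1904, 1895), (1905, 3041), (1906, 1255), (1907, 3046), (1908, 1256), (1909, 3030), (1910, 1451), (1911, 3054), (1912, 3056), (1913, 1258), (1914, 3057), (1915, 3036), (1916, 3037), (1917, 3068), (1918, 3071), (1919, 2036)]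
    ⟨e3 q1856 (flp_g L33076) q1224, e3 q1857 L88141 q2953, e3 q1858 (flp_g L33088) q1225, e3 q1859 L33098 q1228, e3 q1860 L33106 q1855, e3 q1861 L88170 q2959, e3 q1862 (flp_g L33116) q1227, e3 q1863 (flp_g L88155) q2955, e3 q1864 L88201 q2963, e3 q1865 L88219 q2965, e3 q1866 (flp_g L36849) q1886, e3 q1867 (flp_g L36492) q1229, e3 q1868 (flp_g L82666) q1968, e3 q1869 L71913 q1869, e3 q1870 L88263 q2972, e3 q1871 L88276 q2974, e3 q1872 (flp_g L36608) q1234, e3 q1873 L88298 q2979, e3 q1874 (flp_g L88283) q2975, e3 q1875 L83402 q2029, e3 q1876 L72035 q1876, e3 q1877 L88334 q2988, e3 q1878 L88346 q2990, e3 q1879 L88356 q2992, e3 q1880 (flp_g L36804) q1239, e3 q1881 L88384 q2996, e3 q1882 (flp_g L36820) q1240, e3 q1883 L88418 q3001, e3 q1884 (flp_g L36829) q1241, e3 q1885 (flp_g L88368) q2993, e3 q1886 L36849 q1866, e3 q1887 L88450 q3008, e3 q1888 (flp_g L36865) q1243, e3 q1889 L81621 q1891, e3 q1890 L36889 q1301, e3 q1891 (flp_g L81621) q1889, e3 q1892 L81588 q1296, e3 q1893 L88500 q3015, e3 q1894 L88536 q3019, e3 q1895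 (flp_g L37209) q1904, e3 q1896 (flp_g L37169) q1251, e3 q1897 L88560 q3025, e3 q1898 L88568 q3027, e3 q1899 L88578 q3029, e3 q1900 (flp_g L37185) q1252, e3 q1901 L88608 q3034, e3 q1902 (flp_g L37193) q1253, e3 q1903 L37201 q1260, e3 q1904 L37209 q1895, e3 q1905 L88630 q3041, e3 q1906 (flp_g L37215) q1255, e3 q1907 L88662 q3046, e3 q1908 (flp_g L37223) q1256, e3 q1909 (flp_g L88588) q3030, e3 q1910 L37243 q1451, e3 q1911 L88690 q3054, e3 q1912 L88700 q3056, e3 q1913 (flp_g L37251) q1258, e3 q1914 (flp_g L88706) q3057, e3 q1915 (flp_g L88614) q3036, e3 q1916 (flp_g L88618) q3037, e3 q1917 L88748 q3068, e3 q1918 L88760 q3071, e3 q1919 (flp_g L39745) q2036, trivial⟩ (by decide +kernel)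

theorem ce_g_30 : ∀ r, r < 64 → sm gg (Qf (1920 + r)) = Qf (tab Gen.g (1920 + r)) :=
  edges_tab (sm gg) Qf (tab Gen.g) 1920 [(1920, 3076), (1921, 1263), (1922, 1925), (1923, 1346), (1924, 1347), (1925, 1922), (1926, 1338), (1927, 3087), (1928, 2061), (1929, 3093), (1930, 2901), (1931, 1271), (1932, 1937), (1933, 1933), (1934, 1363), (1935, 1364), (1936, 1365), (1937, 1932), (1938, 1353), (1939, 1278), (1940, 2064), (1941, 1840), (1942, 1942), (1943, 1379), (1944, 1373), (1945, 3109), (1946, 3111), (1947, 1955), (1948, 1286), (1949, 3115), (1950, 3117), (1951, 1287), (1952, 3122), (1953, 1288), (1954, 1294), (1955, 1947), (1956, 3130), (1957, 1290), (1958, 3118), (1959, 1850), (1960, 3138), (1961, 3140), (1962, 1292), (1963, 3141), (1964, 3124), (1965, 3125), (1966, 3152), (1967, 3155), (1968, 1868), (1969, 3012), (1970, 3160), (1971, 1297), (1972, 1299), (1973, 1305), (1974, 3163), (1975, 3164), (1976, 1976), (1977, 1989), (1978, 3010), (1979, 3173), (1980, 3174), (1981, 1302), (1982, 1982), (1983, 1983)]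
    ⟨e3 q1920 L88781 q3076, e3 q1921 (flp_g L37279) q1263, e3 q1922 L81627 q1925, e3 q1923 L37309 q1346, e3 q1924 L37313 q1347, e3 q1925 (flp_g L81627) q1922, e3 q1926 L81600 q1338, e3 q1927 L88834 q3087, e3 q1928 (flp_g L40019) q2061, e3 q1929 L88875 q3093, e3 q1930 L139184 q2901, e3 q1931 (flp_g L37382) q1271, e3 q1932 L74193 q1937, e3 q1933 L82663 q1933, e3 q1934 L37474 q1363, e3 q1935 L37478 q1364, e3 q1936 L37484 q1365, e3 q1937 (flp_g L74193) q1932, e3 q1938 L78283 q1353, e3 q1939 (flp_g L139273) q1278, e3 q1940 (flp_g L139293) q2064, e3 q1941 (flp_g L139616) q1840, e3 q1942 L82544 q1942, e3 q1943 L37990 q1379, e3 q1944 L78588 q1373, e3 q1945 L89026 q3109, e3 q1946 L89038 q3111, e3 q1947 (flp_g L38714) q1955, e3 q1948 (flp_g L38674) q1286, e3 q1949 L89062 q3115, e3 q1950 L89076 q3117, e3 q1951 (flp_g L38686) q1287, e3 q1952 L89108 q3122, e3 q1953 (flp_g L38696) q1288, e3 q1954 L38706 q1294, e3 q1955 L38714 q1947, e3 q1956 L89142 q3130, e3 q1957 (flp_g L38720) q1290, e3 q1958 (flp_g L89086) q3118, e3 q1959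 L38738 q1850, e3 q1960 L89176 q3138, e3 q1961 L89188 q3140, e3 q1962 (flp_g L38750) q1292, e3 q1963 (flp_g L89198) q3141, e3 q1964 (flp_g L89120) q3124, e3 q1965 (flp_g L89126) q3125, e3 q1966 L89258 q3152, e3 q1967 L89276 q3155, e3 q1968 L82666 q1868, e3 q1969 (flp_g L88486) q3012, e3 q1970 L89302 q3160, e3 q1971 (flp_g L38800) q1297, e3 q1972 L38812 q1299, e3 q1973 L69308 q1305, e3 q1974 (flp_g L89326) q3163, e3 q1975 (flp_g L89334) q3164, e3 q1976 L82695 q1976, e3 q1977 (flp_g L82693) q1989, e3 q1978 (flp_g L88466) q3010, e3 q1979 L89374 q3173, e3 q1980 (flp_g L89392) q3174, e3 q1981 (flp_g L38880) q1302, e3 q1982 L71760 q1982, e3 q1983 L72006 q1983, trivial⟩ (by decide +kernel)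

theorem ce_g_31 : ∀ r, r < 64 → sm gg (Qf (1984 + r)) = Qf (tab Gen.g (1984 + r)) :=
  edges_tab (sm gg) Qf (tab Gen.g) 1984 [(1984, 3162), (1985, 1308), (1986, 1309), (1987, 3180), (1988, 3181), (1989, 1977), (1990, 1313), (1991, 3186), (1992, 1992), (1993, 1993), (1994, 1318), (1995, 1320), (1996, 3193), (1997, 3195), (1998, 1322), (1999, 3200), (2000, 3196), (2001, 2015), (2002, 3207), (2003, 1325), (2004, 3208), (2005, 1333), (2006, 1334), (2007, 2021), (2008, 3219), (2009, 3223), (2010, 3226), (2011, 1329), (2012, 3229), (2013, 1330), (2014, 1332), (2015, 2001), (2016, 3232), (2017, 3233), (2018, 3241), (2019, 3245), (2020, 3213), (2021, 2007), (2022, 3214), (2023, 3253), (2024, 3256), (2025, 1335), (2026, 3260), (2027, 3262), (2028, 1336), (2029, 1875), (2030, 3269), (2031, 3085), (2032, 3273), (2033, 3274), (2034, 1339), (2035, 3230), (2036, 1919), (2037, 1343), (2038, 1344), (2039, 3281), (2040, 3282), (2041, 2041), (2042, 3292), (2043, 3080), (2044, 3081), (2045, 3082), (2046, 3299), (2047, 3302)]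
    ⟨e3 q1984 (flp_g L89318) q3162, e3 q1985 L38974 q1308, e3 q1986 L38980 q1309, e3 q1987 (flp_g L89433) q3180, e3 q1988 (flp_g L89437) q3181, e3 q1989 L82693 q1977, e3 q1990 (flp_g L59946) q1313, e3 q1991 (flp_g L89474) q3186, e3 q1992 L71759 q1992, e3 q1993 L71762 q1993, e3 q1994 L39272 q1318, e3 q1995 L59948 q1320, e3 q1996 L89588 q3193, e3 q1997 L89598 q3195, e3 q1998 (flp_g L39581) q1322, e3 q1999 L89618 q3200, e3 q2000 (flp_g L89604) q3196, e3 q2001 (flp_g L39639) q2015, e3 q2002 L89638 q3207, e3 q2003 (flp_g L39595) q1325, e3 q2004 (flp_g L89644) q3208, e3 q2005 L39601 q1333, e3 q2006 L39605 q1334, e3 q2007 L39661 q2021, e3 q2008 L89678 q3219, e3 q2009 L89688 q3223, e3 q2010 L89698 q3226, e3 q2011 (flp_g L39617) q1329, e3 q2012 L89712 q3229, e3 q2013 (flp_g L39627) q1330, e3 q2014 L39633 q1332, e3 q2015 L39639 q2001, e3 q2016 (flp_g L89730) q3232, e3 q2017 (flp_g L89734) q3233, e3 q2018 L89761 q3241, e3 q2019 L89773 q3245, e3 q2020 (flp_g L89660) q3213, e3 q2021 (flp_g L39661) q2007, e3 q2022 (flp_g L89664)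 q3214, e3 q2023 L89805 q3253, e3 q2024 L89823 q3256, e3 q2025 (flp_g L39677) q1335, e3 q2026 L89837 q3260, e3 q2027 L89849 q3262, e3 q2028 (flp_g L39691) q1336, e3 q2029 (flp_g L83402) q1875, e3 q2030 L89881 q3269, e3 q2031 (flp_g L88826) q3085, e3 q2032 L89893 q3273, e3 q2033 L89899 q3274, e3 q2034 (flp_g L39733) q1339, e3 q2035 (flp_g L89718) q3230, e3 q2036 L39745 q1919, e3 q2037 L39751 q1343, e3 q2038 L39755 q1344, e3 q2039 (flp_g L89931) q3281, e3 q2040 (flp_g L89935) q3282, e3 q2041 L83331 q2041, e3 q2042 L89969 q3292, e3 q2043 (flp_g L88800) q3080, e3 q2044 (flp_g L88804) q3081, e3 q2045 (flp_g L88808) q3082, e3 q2046 L89995 q3299, e3 q2047 L90009 q3302, trivial⟩ (by decide +kernel)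

theorem ce_g_32 : ∀ r, r < 64 → sm gg (Qf (2048 + r)) = Qf (tab Gen.g (2048 + r)) :=
  edges_tab (sm gg) Qf (tab Gen.g) 2048 [(2048, 1348), (2049, 1349), (2050, 3304), (2051, 2051), (2052, 2052), (2053, 3104), (2054, 3105), (2055, 3316), (2056, 3318), (2057, 3320), (2058, 1354), (2059, 1355), (2060, 1389), (2061, 1928), (2062, 1390), (2063, 1403), (2064, 1940), (2065, 1362), (2066, 2858), (2067, 3327), (2068, 2855), (2069, 3098), (2070, 3099), (2071, 3338), (2072, 3101), (2073, 3102), (2074, 3344), (2075, 3346), (2076, 3345), (2077, 1366), (2078, 1605), (2079, 1367), (2080, 1380), (2081, 2876), (2082, 2082), (2083, 2083), (2084, 2084), (2085, 3357), (2086, 3360), (2087, 3361), (2088, 1385), (2089, 3364), (2090, 1386), (2091, 3362), (2092, 3323), (2093, 3325), (2094, 3326), (2095, 2443), (2096, 3376), (2097, 2103), (2098, 3381), (2099, 3384), (2100, 3386), (2101, 1394), (2102, 1595), (2103, 2097), (2104, 3392), (2105, 2106), (2106, 2105), (2107, 3396), (2108, 1398), (2109, 3400), (2110, 1573), (2111, 3404)]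
    ⟨e3 q2048 (flp_g L39837) q1348, e3 q2049 (flp_g L59974) q1349, e3 q2050 (flp_g L90021) q3304, e3 q2051 L71879 q2051, e3 q2052 L72007 q2052, e3 q2053 (flp_g L88968) q3104, e3 q2054 (flp_g L88978) q3105, e3 q2055 L90071 q3316, e3 q2056 L90081 q3318, e3 q2057 L90091 q3320, e3 q2058 (flp_g L39997) q1354, e3 q2059 (flp_g L40001) q1355, e3 q2060 L40011 q1389, e3 q2061 L40019 q1928, e3 q2062 L40025 q1390, e3 q2063 (flp_g L139105) q1403, e3 q2064 L139293 q1940, e3 q2065 L40053 q1362, e3 q2066 (flp_g L141827) q2858, e3 q2067 (flp_g L90169) q3327, e3 q2068 (flp_g L141844) q2855, e3 q2069 (flp_g L88918) q3098, e3 q2070 (flp_g L88926) q3099, e3 q2071 L90247 q3338, e3 q2072 (flp_g L88938) q3101, e3 q2073 (flp_g L88946) q3102, e3 q2074 L90275 q3344, e3 q2075 L90291 q3346, e3 q2076 L141879 q3345, e3 q2077 (flp_g L40261) q1366, e3 q2078 (flp_g L71385) q1605, e3 q2079 (flp_g L40275) q1367, e3 q2080 (flp_g L141876) q1380, e3 q2081 (flp_g L141165) q2876, e3 q2082 L71976 q2082, e3 q2083 L71977 q2083, e3 q2084 L71668 q2084, e3 q2085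 L90610 q3357, e3 q2086 L90624 q3360, e3 q2087 L90628 q3361, e3 q2088 (flp_g L41276) q1385, e3 q2089 L90642 q3364, e3 q2090 (flp_g L41282) q1386, e3 q2091 (flp_g L90634) q3362, e3 q2092 (flp_g L90113) q3323, e3 q2093 (flp_g L90129) q3325, e3 q2094 (flp_g L90135) q3326, e3 q2095 (flp_g L83945) q2443, e3 q2096 L90708 q3376, e3 q2097 (flp_g L41424) q2103, e3 q2098 L90730 q3381, e3 q2099 L90742 q3384, e3 q2100 L90752 q3386, e3 q2101 (flp_g L41410) q1394, e3 q2102 L41416 q1595, e3 q2103 L41424 q2097, e3 q2104 L90780 q3392, e3 q2105 L141857 q2106, e3 q2106 (flp_g L141857) q2105, e3 q2107 L90816 q3396, e3 q2108 (flp_g L41440) q1398, e3 q2109 L90834 q3400, e3 q2110 L41482 q1573, e3 q2111 L90909 q3404, trivial⟩ (by decide +kernel)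

theorem ce_g_33 : ∀ r, r < 64 → sm gg (Qf (2112 + r)) = Qf (tab Gen.g (2112 + r)) :=
  edges_tab (sm gg) Qf (tab Gen.g) 2112 [(2112, 3407), (2113, 3410), (2114, 3411), (2115, 1406), (2116, 3415), (2117, 3417), (2118, 3419), (2119, 1408), (2120, 3423), (2121, 2156), (2122, 1409), (2123, 3427), (2124, 3420), (2125, 3432), (2126, 3435), (2127, 2136), (2128, 1412), (2129, 3441), (2130, 3443), (2131, 3445), (2132, 1413), (2133, 3449), (2134, 1414), (2135, 1420), (2136, 2127), (2137, 2198), (2138, 1416), (2139, 3458), (2140, 3446), (2141, 3463), (2142, 1419), (2143, 3451), (2144, 3467), (2145, 2150), (2146, 1421), (2147, 3472), (2148, 1422), (2149, 1429), (2150, 2145), (2151, 3479), (2152, 1424), (2153, 3484), (2154, 1425), (2155, 3469), (2156, 2121), (2157, 3492), (2158, 3494), (2159, 1427), (2160, 3495), (2161, 3474), (2162, 3475), (2163, 3506), (2164, 3509), (2165, 2621), (2166, 2618), (2167, 2619), (2168, 1504), (2169, 2169), (2170, 2170), (2171, 2634), (2172, 2635), (2173, 2173), (2174, 2174), (2175, 2182)]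
    ⟨e3 q2112 L90932 q3407, e3 q2113 L90950 q3410, e3 q2114 L90957 q3411, e3 q2115 (flp_g L42508) q1406, e3 q2116 L90987 q3415, e3 q2117 L91001 q3417, e3 q2118 L91016 q3419, e3 q2119 (flp_g L42664) q1408, e3 q2120 L91047 q3423, e3 q2121 (flp_g L43382) q2156, e3 q2122 (flp_g L42684) q1409, e3 q2123 L91070 q3427, e3 q2124 (flp_g L91027) q3420, e3 q2125 L91099 q3432, e3 q2126 L91115 q3435, e3 q2127 (flp_g L42940) q2136, e3 q2128 (flp_g L42904) q1412, e3 q2129 L91139 q3441, e3 q2130 L91149 q3443, e3 q2131 L91161 q3445, e3 q2132 (flp_g L42920) q1413, e3 q2133 L91186 q3449, e3 q2134 (flp_g L42928) q1414, e3 q2135 L42934 q1420, e3 q2136 L42940 q2127, e3 q2137 (flp_g L44125) q2198, e3 q2138 (flp_g L42950) q1416, e3 q2139 L91217 q3458, e3 q2140 (flp_g L91171) q3446, e3 q2141 L91235 q3463, e3 q2142 (flp_g L42972) q1419, e3 q2143 (flp_g L91194) q3451, e3 q2144 L91258 q3467, e3 q2145 (flp_g L43346) q2150, e3 q2146 (flp_g L43294) q1421, e3 q2147 L91295 q3472, e3 q2148 (flp_g L43324) q1422, e3 q2149 L43336 q1429, e3 q2150 L43346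 q2145, e3 q2151 L91335 q3479, e3 q2152 (flp_g L43354) q1424, e3 q2153 L91369 q3484, e3 q2154 (flp_g L43364) q1425, e3 q2155 (flp_g L91279) q3469, e3 q2156 L43382 q2121, e3 q2157 L91401 q3492, e3 q2158 L91413 q3494, e3 q2159 (flp_g L43394) q1427, e3 q2160 (flp_g L91423) q3495, e3 q2161 (flp_g L91307) q3474, e3 q2162 (flp_g L91313) q3475, e3 q2163 L91483 q3506, e3 q2164 L91501 q3509, e3 q2165 (flp_g L84960) q2621, e3 q2166 (flp_g L84942) q2618, e3 q2167 (flp_g L84950) q2619, e3 q2168 L43486 q1504, e3 q2169 L71016 q2169, e3 q2170 L72041 q2170, e3 q2171 (flp_g L85053) q2634, e3 q2172 (flp_g L85057) q2635, e3 q2173 L71015 q2173, e3 q2174 L71017 q2174, e3 q2175 (flp_g L44028) q2182, trivial⟩ (by decide +kernel)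

theorem ce_g_34 : ∀ r, r < 64 → sm gg (Qf (2176 + r)) = Qf (tab Gen.g (2176 + r)) :=
  edges_tab (sm gg) Qf (tab Gen.g) 2176 [(2176, 1441), (2177, 3524), (2178, 3480), (2179, 3530), (2180, 1444), (2181, 1457), (2182, 2175), (2183, 2213), (2184, 3539), (2185, 1446), (2186, 3540), (2187, 1463), (2188, 1464), (2189, 2219), (2190, 3551), (2191, 3043), (2192, 1450), (2193, 3556), (2194, 3553), (2195, 3562), (2196, 1453), (2197, 3521), (2198, 2137), (2199, 3570), (2200, 3572), (2201, 1455), (2202, 3573), (2203, 3532), (2204, 3533), (2205, 3584), (2206, 3587), (2207, 3591), (2208, 3594), (2209, 1459), (2210, 3598), (2211, 1460), (2212, 1462), (2213, 2183), (2214, 3600), (2215, 3601), (2216, 3609), (2217, 3613), (2218, 3545), (2219, 2189), (2220, 3546), (2221, 3621), (2222, 3624), (2223, 1465), (2224, 3628), (2225, 3630), (2226, 1466), (2227, 1802), (2228, 2830), (2229, 2823), (2230, 2825), (2231, 1544), (2232, 1545), (2233, 2233), (2234, 2234), (2235, 3648), (2236, 1777), (2237, 2863), (2238, 2857), (2239, 3657)]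
    ⟨e3 q2176 (flp_g L43982) q1441, e3 q2177 L91658 q3524, e3 q2178 (flp_g L91349) q3480, e3 q2179 L91678 q3530, e3 q2180 (flp_g L44008) q1444, e3 q2181 L44018 q1457, e3 q2182 L44028 q2175, e3 q2183 (flp_g L44183) q2213, e3 q2184 L91720 q3539, e3 q2185 (flp_g L44040) q1446, e3 q2186 (flp_g L91726) q3540, e3 q2187 L44046 q1463, e3 q2188 L44050 q1464, e3 q2189 L44205 q2219, e3 q2190 L91766 q3551, e3 q2191 (flp_g L88654) q3043, e3 q2192 (flp_g L44070) q1450, e3 q2193 L91794 q3556, e3 q2194 (flp_g L91784) q3553, e3 q2195 L91820 q3562, e3 q2196 (flp_g L44109) q1453, e3 q2197 (flp_g L91619) q3521, e3 q2198 L44125 q2137, e3 q2199 L91852 q3570, e3 q2200 L91862 q3572, e3 q2201 (flp_g L44133) q1455, e3 q2202 (flp_g L91870) q3573, e3 q2203 (flp_g L91690) q3532, e3 q2204 (flp_g L91694) q3533, e3 q2205 L91920 q3584, e3 q2206 L91934 q3587, e3 q2207 L91946 q3591, e3 q2208 L91954 q3594, e3 q2209 (flp_g L44161) q1459, e3 q2210 L91970 q3598, e3 q2211 (flp_g L44171) q1460, e3 q2212 L44177 q1462, e3 q2213 L44183 q2183, e3 q2214 (flp_g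 L91984) q3600, e3 q2215 (flp_g L91988) q3601, e3 q2216 L92015 q3609, e3 q2217 L92027 q3613, e3 q2218 (flp_g L91744) q3545, e3 q2219 (flp_g L44205) q2189, e3 q2220 (flp_g L91750) q3546, e3 q2221 L92055 q3621, e3 q2222 L92071 q3624, e3 q2223 (flp_g L44219) q1465, e3 q2224 L92081 q3628, e3 q2225 L92091 q3630, e3 q2226 (flp_g L44231) q1466, e3 q2227 L82675 q1802, e3 q2228 (flp_g L85886) q2830, e3 q2229 (flp_g L85860) q2823, e3 q2230 (flp_g L85868) q2825, e3 q2231 L44339 q1544, e3 q2232 L44343 q1545, e3 q2233 L72039 q2233, e3 q2234 L72040 q2234, e3 q2235 L92170 q3648, e3 q2236 L82679 q1777, e3 q2237 (flp_g L86085) q2863, e3 q2238 (flp_g L86027) q2857, e3 q2239 L92241 q3657, trivial⟩ (by decide +kernel)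

theorem ce_g_35 : ∀ r, r < 64 → sm gg (Qf (2240 + r)) = Qf (tab Gen.g (2240 + r)) :=
  edges_tab (sm gg) Qf (tab Gen.g) 2240 [(2240, 1564), (2241, 1565), (2242, 2242), (2243, 3663), (2244, 3665), (2245, 3667), (2246, 1479), (2247, 3672), (2248, 2257), (2249, 1480), (2250, 3677), (2251, 3668), (2252, 3682), (2253, 1483), (2254, 3687), (2255, 1484), (2256, 1491), (2257, 2248), (2258, 2277), (2259, 3696), (2260, 1486), (2261, 3697), (2262, 1495), (2263, 1496), (2264, 2280), (2265, 3708), (2266, 3711), (2267, 3713), (2268, 1490), (2269, 3689), (2270, 3690), (2271, 3720), (2272, 3723), (2273, 3726), (2274, 1492), (2275, 3730), (2276, 1493), (2277, 2258), (2278, 3736), (2279, 3702), (2280, 2264), (2281, 3703), (2282, 3745), (2283, 1497), (2284, 3750), (2285, 2622), (2286, 1498), (2287, 3753), (2288, 1500), (2289, 3731), (2290, 3760), (2291, 2299), (2292, 1681), (2293, 3513), (2294, 1682), (2295, 3766), (2296, 3770), (2297, 1676), (2298, 3775), (2299, 2291), (2300, 2307), (2301, 1508), (2302, 3780), (2303, 1509)]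
    ⟨e3 q2240 L44579 q1564, e3 q2241 L44587 q1565, e3 q2242 L72037 q2242, e3 q2243 L92424 q3663, e3 q2244 L92436 q3665, e3 q2245 L92448 q3667, e3 q2246 (flp_g L45124) q1479, e3 q2247 L92482 q3672, e3 q2248 (flp_g L45205) q2257, e3 q2249 (flp_g L45142) q1480, e3 q2250 L92517 q3677, e3 q2251 (flp_g L92458) q3668, e3 q2252 L92539 q3682, e3 q2253 (flp_g L45167) q1483, e3 q2254 L92579 q3687, e3 q2255 (flp_g L45181) q1484, e3 q2256 L45195 q1491, e3 q2257 L45205 q2248, e3 q2258 (flp_g L45315) q2277, e3 q2259 L92633 q3696, e3 q2260 (flp_g L45219) q1486, e3 q2261 (flp_g L92643) q3697, e3 q2262 L45231 q1495, e3 q2263 L45237 q1496, e3 q2264 L45333 q2280, e3 q2265 L92695 q3708, e3 q2266 L92713 q3711, e3 q2267 L92726 q3713, e3 q2268 (flp_g L45258) q1490, e3 q2269 (flp_g L92597) q3689, e3 q2270 (flp_g L92603) q3690, e3 q2271 L92773 q3720, e3 q2272 L92795 q3723, e3 q2273 L92811 q3726, e3 q2274 (flp_g L45291) q1492, e3 q2275 L92833 q3730, e3 q2276 (flp_g L45303) q1493, e3 q2277 L45315 q2258, e3 q2278 L92871 q3736, e3 q2279 (flp_g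 L92669) q3702, e3 q2280 (flp_g L45333) q2264, e3 q2281 (flp_g L92673) q3703, e3 q2282 L92915 q3745, e3 q2283 (flp_g L45345) q1497, e3 q2284 L92943 q3750, e3 q2285 (flp_g L84970) q2622, e3 q2286 (flp_g L45385) q1498, e3 q2287 L92958 q3753, e3 q2288 (flp_g L45407) q1500, e3 q2289 (flp_g L92841) q3731, e3 q2290 L92996 q3760, e3 q2291 (flp_g L83461) q2299, e3 q2292 (flp_g L82332) q1681, e3 q2293 (flp_g L91529) q3513, e3 q2294 L83368 q1682, e3 q2295 L93029 q3766, e3 q2296 L93055 q3770, e3 q2297 L83398 q1676, e3 q2298 L93093 q3775, e3 q2299 L83461 q2291, e3 q2300 (flp_g L46381) q2307, e3 q2301 (flp_g L46341) q1508, e3 q2302 L93127 q3780, e3 q2303 (flp_g L46353) q1509, trivial⟩ (by decide +kernel)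

theorem ce_g_36 : ∀ r, r < 64 → sm gg (Qf (2304 + r)) = Qf (tab Gen.g (2304 + r)) :=
  edges_tab (sm gg) Qf (tab Gen.g) 2304 [(2304, 3783), (2305, 1510), (2306, 1513), (2307, 2300), (2308, 3788), (2309, 3789), (2310, 1512), (2311, 2312), (2312, 2311), (2313, 3792), (2314, 3796), (2315, 2341), (2316, 3801), (2317, 1515), (2318, 1517), (2319, 3803), (2320, 3804), (2321, 3811), (2322, 3815), (2323, 1529), (2324, 1531), (2325, 2348), (2326, 3824), (2327, 3827), (2328, 3829), (2329, 1521), (2330, 3832), (2331, 3833), (2332, 1522), (2333, 3838), (2334, 3840), (2335, 1523), (2336, 3834), (2337, 3847), (2338, 3848), (2339, 1525), (2340, 1540), (2341, 2315), (2342, 3856), (2343, 3858), (2344, 3860), (2345, 1528), (2346, 3864), (2347, 3817), (2348, 2325), (2349, 3870), (2350, 3818), (2351, 3819), (2352, 3876), (2353, 3878), (2354, 1532), (2355, 2761), (2356, 3886), (2357, 3890), (2358, 3891), (2359, 1534), (2360, 3894), (2361, 1535), (2362, 3892), (2363, 3901), (2364, 3903), (2365, 1537), (2366, 1538), (2367, 3849)]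
    ⟨e3 q2304 L93143 q3783, e3 q2305 (flp_g L46363) q1510, e3 q2306 L46373 q1513, e3 q2307 L46381 q2300, e3 q2308 L93175 q3788, e3 q2309 L93185 q3789, e3 q2310 (flp_g L46389) q1512, e3 q2311 (flp_g L150285) q2312, e3 q2312 L150285 q2311, e3 q2313 L150241 q3792, e3 q2314 L93237 q3796, e3 q2315 (flp_g L46529) q2341, e3 q2316 L93257 q3801, e3 q2317 (flp_g L46417) q1515, e3 q2318 L46425 q1517, e3 q2319 (flp_g L93267) q3803, e3 q2320 (flp_g L93271) q3804, e3 q2321 L93303 q3811, e3 q2322 L93321 q3815, e3 q2323 L46447 q1529, e3 q2324 L46451 q1531, e3 q2325 L46563 q2348, e3 q2326 L93359 q3824, e3 q2327 L93371 q3827, e3 q2328 L93385 q3829, e3 q2329 (flp_g L46469) q1521, e3 q2330 L93405 q3832, e3 q2331 L93413 q3833, e3 q2332 (flp_g L46487) q1522, e3 q2333 L93448 q3838, e3 q2334 L93458 q3840, e3 q2335 (flp_g L46497) q1523, e3 q2336 (flp_g L93423) q3834, e3 q2337 L93490 q3847, e3 q2338 L93494 q3848, e3 q2339 (flp_g L46515) q1525, e3 q2340 L46521 q1540, e3 q2341 L46529 q2315, e3 q2342 L93526 q3856, e3 q2343 L93542 q3858, e3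 q2344 L93568 q3860, e3 q2345 (flp_g L46547) q1528, e3 q2346 L93591 q3864, e3 q2347 (flp_g L93333) q3817, e3 q2348 (flp_g L46563) q2325, e3 q2349 L93613 q3870, e3 q2350 (flp_g L93337) q3818, e3 q2351 (flp_g L93341) q3819, e3 q2352 L93643 q3876, e3 q2353 L93655 q3878, e3 q2354 (flp_g L46583) q1532, e3 q2355 (flp_g L85583) q2761, e3 q2356 L93686 q3886, e3 q2357 L93701 q3890, e3 q2358 L93705 q3891, e3 q2359 (flp_g L46653) q1534, e3 q2360 L93721 q3894, e3 q2361 (flp_g L46659) q1535, e3 q2362 (flp_g L93712) q3892, e3 q2363 L93747 q3901, e3 q2364 L93751 q3903, e3 q2365 (flp_g L46685) q1537, e3 q2366 (flp_g L46689) q1538, e3 q2367 (flp_g L93502) q3849, trivial⟩ (by decide +kernel)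

theorem ce_g_37 : ∀ r, r < 64 → sm gg (Qf (2368 + r)) = Qf (tab Gen.g (2368 + r)) :=
  edges_tab (sm gg) Qf (tab Gen.g) 2368 [(2368, 3851), (2369, 3911), (2370, 3915), (2371, 3919), (2372, 3921), (2373, 1541), (2374, 2842), (2375, 1788), (2376, 3926), (2377, 3900), (2378, 3639), (2379, 1789), (2380, 1790), (2381, 3936), (2382, 3938), (2383, 1547), (2384, 2478), (2385, 3942), (2386, 2447), (2387, 1549), (2388, 3948), (2389, 3951), (2390, 3954), (2391, 3955), (2392, 1552), (2393, 3959), (2394, 1553), (2395, 3962), (2396, 1554), (2397, 3956), (2398, 1582), (2399, 1584), (2400, 1585), (2401, 2401), (2402, 3017), (2403, 2872), (2404, 1812), (2405, 3978), (2406, 3981), (2407, 3984), (2408, 3986), (2409, 1563), (2410, 3658), (2411, 1815), (2412, 3659), (2413, 1816), (2414, 3996), (2415, 1832), (2416, 1837), (2417, 1838), (2418, 4001), (2419, 4002), (2420, 4003), (2421, 1572), (2422, 3401), (2423, 4008), (2424, 4009), (2425, 2432), (2426, 1574), (2427, 4012), (2428, 4013), (2429, 1575), (2430, 1576), (2431, 1580)]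
    ⟨e3 q2368 (flp_g L93514) q3851, e3 q2369 L93787 q3911, e3 q2370 L93806 q3915, e3 q2371 L93821 q3919, e3 q2372 L93829 q3921, e3 q2373 (flp_g L46781) q1541, e3 q2374 (flp_g L85944) q2842, e3 q2375 (flp_g L80473) q1788, e3 q2376 L93855 q3926, e3 q2377 L148333 q3900, e3 q2378 (flp_g L92139) q3639, e3 q2379 L82723 q1789, e3 q2380 L83370 q1790, e3 q2381 L93891 q3936, e3 q2382 L93899 q3938, e3 q2383 (flp_g L46835) q1547, e3 q2384 (flp_g L130726) q2478, e3 q2385 L93972 q3942, e3 q2386 L133790 q2447, e3 q2387 (flp_g L46983) q1549, e3 q2388 L94030 q3948, e3 q2389 L94044 q3951, e3 q2390 L94058 q3954, e3 q2391 L94064 q3955, e3 q2392 (flp_g L47051) q1552, e3 q2393 L94088 q3959, e3 q2394 (flp_g L47061) q1553, e3 q2395 L94112 q3962, e3 q2396 (flp_g L47071) q1554, e3 q2397 (flp_g L94072) q3956, e3 q2398 L47093 q1582, e3 q2399 L47109 q1584, e3 q2400 L47113 q1585, e3 q2401 L71322 q2401, e3 q2402 L148232 q3017, e3 q2403 (flp_g L86128) q2872, e3 q2404 (flp_g L77872) q1812, e3 q2405 L94281 q3978, e3 q2406 L94295 q3981, e3 q2407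 L94309 q3984, e3 q2408 L94319 q3986, e3 q2409 (flp_g L47390) q1563, e3 q2410 (flp_g L92253) q3658, e3 q2411 L82717 q1815, e3 q2412 (flp_g L92257) q3659, e3 q2413 L82719 q1816, e3 q2414 L94381 q3996, e3 q2415 L142053 q1832, e3 q2416 (flp_g L82725) q1837, e3 q2417 (flp_g L82727) q1838, e3 q2418 L94433 q4001, e3 q2419 L94451 q4002, e3 q2420 L94456 q4003, e3 q2421 (flp_g L83826) q1572, e3 q2422 (flp_g L90846) q3401, e3 q2423 L94482 q4008, e3 q2424 L94494 q4009, e3 q2425 (flp_g L83877) q2432, e3 q2426 (flp_g L83849) q1574, e3 q2427 L94510 q4012, e3 q2428 L94514 q4013, e3 q2429 (flp_g L83861) q1575, e3 q2430 (flp_g L83865) q1576, e3 q2431 L83871 q1580, trivial⟩ (by decide +kernel)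

theorem ce_g_38 : ∀ r, r < 64 → sm gg (Qf (2432 + r)) = Qf (tab Gen.g (2432 + r)) :=
  edges_tab (sm gg) Qf (tab Gen.g) 2432 [(2432, 2425), (2433, 4020), (2434, 1578), (2435, 4014), (2436, 1611), (2437, 4016), (2438, 4017), (2439, 4032), (2440, 4035), (2441, 2874), (2442, 3967), (2443, 2095), (2444, 3968), (2445, 3969), (2446, 2902), (2447, 2386), (2448, 2449), (2449, 2448), (2450, 4048), (2451, 1589), (2452, 2463), (2453, 4054), (2454, 2457), (2455, 2462), (2456, 1591), (2457, 2454), (2458, 4058), (2459, 1592), (2460, 4063), (2461, 1593), (2462, 2455), (2463, 2452), (2464, 4066), (2465, 4070), (2466, 1596), (2467, 4074), (2468, 4076), (2469, 1597), (2470, 4077), (2471, 2877), (2472, 2878), (2473, 3347), (2474, 2916), (2475, 4089), (2476, 1602), (2477, 2881), (2478, 2384), (2479, 4097), (2480, 4099), (2481, 1609), (2482, 4102), (2483, 4105), (2484, 4106), (2485, 1612), (2486, 2486), (2487, 4113), (2488, 2488), (2489, 2489), (2490, 4046), (2491, 4121), (2492, 4122), (2493, 1617), (2494, 4126), (2495, 2505)]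
    ⟨e3 q2432 L83877 q2425, e3 q2433 L94554 q4020, e3 q2434 (flp_g L83889) q1578, e3 q2435 (flp_g L94524) q4014, e3 q2436 L83905 q1611, e3 q2437 (flp_g L94538) q4016, e3 q2438 (flp_g L94542) q4017, e3 q2439 L94614 q4032, e3 q2440 L94628 q4035, e3 q2441 L133510 q2874, e3 q2442 (flp_g L94150) q3967, e3 q2443 L83945 q2095, e3 q2444 (flp_g L94158) q3968, e3 q2445 (flp_g L94164) q3969, e3 q2446 (flp_g L86749) q2902, e3 q2447 (flp_g L133790) q2386, e3 q2448 (flp_g L146380) q2449, e3 q2449 L146380 q2448, e3 q2450 L146399 q4048, e3 q2451 (flp_g L83982) q1589, e3 q2452 (flp_g L84041) q2463, e3 q2453 L94761 q4054, e3 q2454 L146336 q2457, e3 q2455 (flp_g L84033) q2462, e3 q2456 (flp_g L84005) q1591, e3 q2457 (flp_g L146336) q2454, e3 q2458 L148450 q4058, e3 q2459 (flp_g L84017) q1592, e3 q2460 L94821 q4063, e3 q2461 (flp_g L84025) q1593, e3 q2462 L84033 q2455, e3 q2463 L84041 q2452, e3 q2464 (flp_g L94843) q4066, e3 q2465 L94859 q4070, e3 q2466 (flp_g L84053) q1596, e3 q2467 L94873 q4074, e3 q2468 L94883 q4076, e3 q2469 (flp_g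 L84069) q1597, e3 q2470 (flp_g L94891) q4077, e3 q2471 L131898 q2877, e3 q2472 (flp_g L136767) q2878, e3 q2473 L90307 q3347, e3 q2474 (flp_g L87006) q2916, e3 q2475 L94965 q4089, e3 q2476 (flp_g L84109) q1602, e3 q2477 (flp_g L136321) q2881, e3 q2478 L130726 q2384, e3 q2479 L95063 q4097, e3 q2480 L95072 q4099, e3 q2481 (flp_g L84196) q1609, e3 q2482 L95091 q4102, e3 q2483 L95105 q4105, e3 q2484 L95111 q4106, e3 q2485 (flp_g L84216) q1612, e3 q2486 L84225 q2486, e3 q2487 L95156 q4113, e3 q2488 L84241 q2488, e3 q2489 L84248 q2489, e3 q2490 (flp_g L148396) q4046, e3 q2491 L95199 q4121, e3 q2492 L95205 q4122, e3 q2493 (flp_g L84261) q1617, e3 q2494 L95237 q4126, e3 q2495 (flp_g L84338) q2505, trivial⟩ (by decide +kernel)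

theorem ce_g_39 : ∀ r, r < 64 → sm gg (Qf (2496 + r)) = Qf (tab Gen.g (2496 + r)) :=
  edges_tab (sm gg) Qf (tab Gen.g) 2496 [(2496, 1618), (2497, 4131), (2498, 4133), (2499, 1619), (2500, 4137), (2501, 1620), (2502, 4142), (2503, 1621), (2504, 1627), (2505, 2495), (2506, 4151), (2507, 4153), (2508, 2523), (2509, 1623), (2510, 4158), (2511, 4138), (2512, 4164), (2513, 4166), (2514, 1626), (2515, 4144), (2516, 4145), (2517, 4173), (2518, 4175), (2519, 1628), (2520, 4179), (2521, 1629), (2522, 2522), (2523, 2508), (2524, 2554), (2525, 4187), (2526, 1631), (2527, 4188), (2528, 1647), (2529, 1648), (2530, 2560), (2531, 4199), (2532, 4201), (2533, 2580), (2534, 4206), (2535, 1636), (2536, 1638), (2537, 4208), (2538, 4209), (2539, 4216), (2540, 4218), (2541, 1662), (2542, 1664), (2543, 2597), (2544, 4227), (2545, 4230), (2546, 4232), (2547, 1642), (2548, 4235), (2549, 4238), (2550, 1643), (2551, 4242), (2552, 1644), (2553, 1646), (2554, 2524), (2555, 4245), (2556, 4246), (2557, 4254), (2558, 4256), (2559, 4193)]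
    ⟨e3 q2496 (flp_g L84283) q1618, e3 q2497 L95268 q4131, e3 q2498 L95279 q4133, e3 q2499 (flp_g L84298) q1619, e3 q2500 L95308 q4137, e3 q2501 (flp_g L84310) q1620, e3 q2502 L95344 q4142, e3 q2503 (flp_g L84320) q1621, e3 q2504 L84330 q1627, e3 q2505 L84338 q2495, e3 q2506 L95382 q4151, e3 q2507 L95393 q4153, e3 q2508 (flp_g L84435) q2523, e3 q2509 (flp_g L84367) q1623, e3 q2510 L95412 q4158, e3 q2511 (flp_g L95320) q4138, e3 q2512 L95436 q4164, e3 q2513 L95447 q4166, e3 q2514 (flp_g L84390) q1626, e3 q2515 (flp_g L95356) q4144, e3 q2516 (flp_g L95362) q4145, e3 q2517 L95488 q4173, e3 q2518 L95502 q4175, e3 q2519 (flp_g L84412) q1628, e3 q2520 L95534 q4179, e3 q2521 (flp_g L84420) q1629, e3 q2522 L84428 q2522, e3 q2523 L84435 q2508, e3 q2524 (flp_g L84596) q2554, e3 q2525 L95564 q4187, e3 q2526 (flp_g L84447) q1631, e3 q2527 (flp_g L95572) q4188, e3 q2528 L84459 q1647, e3 q2529 L84463 q1648, e3 q2530 L84625 q2560, e3 q2531 L95616 q4199, e3 q2532 L95628 q4201, e3 q2533 (flp_g L84733) q2580, e3 q2534 L95653 q4206,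 e3 q2535 (flp_g L84490) q1636, e3 q2536 L84500 q1638, e3 q2537 (flp_g L95666) q4208, e3 q2538 (flp_g L95672) q4209, e3 q2539 L95705 q4216, e3 q2540 L95725 q4218, e3 q2541 L84527 q1662, e3 q2542 L84532 q1664, e3 q2543 L84823 q2597, e3 q2544 L95773 q4227, e3 q2545 L95787 q4230, e3 q2546 L95798 q4232, e3 q2547 (flp_g L84555) q1642, e3 q2548 L95822 q4235, e3 q2549 L95832 q4238, e3 q2550 (flp_g L84569) q1643, e3 q2551 L95849 q4242, e3 q2552 (flp_g L84580) q1644, e3 q2553 L84588 q1646, e3 q2554 L84596 q2524, e3 q2555 (flp_g L95868) q4245, e3 q2556 (flp_g L95872) q4246, e3 q2557 L95905 q4254, e3 q2558 L95923 q4256, e3 q2559 (flp_g L95594) q4193, trivial⟩ (by decide +kernel)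

theorem ce_g_40 : ∀ r, r < 64 → sm gg (Qf (2560 + r)) = Qf (tab Gen.g (2560 + r)) :=
  edges_tab (sm gg) Qf (tab Gen.g) 2560 [(2560, 2530), (2561, 4194), (2562, 4265), (2563, 4268), (2564, 1649), (2565, 4272), (2566, 4274), (2567, 1650), (2568, 4277), (2569, 4281), (2570, 4282), (2571, 1651), (2572, 4288), (2573, 4291), (2574, 1652), (2575, 4283), (2576, 4299), (2577, 4300), (2578, 1654), (2579, 1673), (2580, 2533), (2581, 1658), (2582, 1659), (2583, 2587), (2584, 4313), (2585, 4317), (2586, 4307), (2587, 2583), (2588, 4308), (2589, 4325), (2590, 1660), (2591, 4328), (2592, 4332), (2593, 4334), (2594, 1661), (2595, 4339), (2596, 4220), (2597, 2543), (2598, 4346), (2599, 4221), (2600, 4222), (2601, 4353), (2602, 4355), (2603, 1665), (2604, 2613), (2605, 4360), (2606, 1666), (2607, 4361), (2608, 4368), (2609, 4371), (2610, 1668), (2611, 4375), (2612, 1669), (2613, 2604), (2614, 4301), (2615, 1672), (2616, 4303), (2617, 4383), (2618, 2166), (2619, 2167), (2620, 4390), (2621, 2165), (2622, 2285), (2623, 3771)]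
    ⟨e3 q2560 (flp_g L84625) q2530, e3 q2561 (flp_g L95598) q4194, e3 q2562 L95957 q4265, e3 q2563 L95979 q4268, e3 q2564 (flp_g L84642) q1649, e3 q2565 L96001 q4272, e3 q2566 L96014 q4274, e3 q2567 (flp_g L84661) q1650, e3 q2568 L96036 q4277, e3 q2569 L96056 q4281, e3 q2570 L96062 q4282, e3 q2571 (flp_g L84681) q1651, e3 q2572 L96095 q4288, e3 q2573 L96111 q4291, e3 q2574 (flp_g L84693) q1652, e3 q2575 (flp_g L96072) q4283, e3 q2576 L96163 q4299, e3 q2577 L96167 q4300, e3 q2578 (flp_g L84715) q1654, e3 q2579 L84723 q1673, e3 q2580 L84733 q2533, e3 q2581 L84739 q1658, e3 q2582 L84745 q1659, e3 q2583 L84771 q2587, e3 q2584 L96237 q4313, e3 q2585 L96255 q4317, e3 q2586 (flp_g L96211) q4307, e3 q2587 (flp_g L84771) q2583, e3 q2588 (flp_g L96215) q4308, e3 q2589 L96293 q4325, e3 q2590 (flp_g L84783) q1660, e3 q2591 L96321 q4328, e3 q2592 L96341 q4332, e3 q2593 L96353 q4334, e3 q2594 (flp_g L84803) q1661, e3 q2595 L96380 q4339, e3 q2596 (flp_g L95739) q4220, e3 q2597 (flp_g L84823) q2543, e3 q2598 L96416 q4346, e3 q2599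 (flp_g L95743) q4221, e3 q2600 (flp_g L95748) q4222, e3 q2601 L96464 q4353, e3 q2602 L96478 q4355, e3 q2603 (flp_g L84847) q1665, e3 q2604 (flp_g L84911) q2613, e3 q2605 L96502 q4360, e3 q2606 (flp_g L84869) q1666, e3 q2607 (flp_g L96512) q4361, e3 q2608 L96542 q4368, e3 q2609 L96554 q4371, e3 q2610 (flp_g L84887) q1668, e3 q2611 L96576 q4375, e3 q2612 (flp_g L84899) q1669, e3 q2613 L84911 q2604, e3 q2614 (flp_g L96177) q4301, e3 q2615 L84923 q1672, e3 q2616 (flp_g L96191) q4303, e3 q2617 L96623 q4383, e3 q2618 L84942 q2166, e3 q2619 L84950 q2167, e3 q2620 L96663 q4390, e3 q2621 L84960 q2165, e3 q2622 L84970 q2285, e3 q2623 (flp_g L93071) q3771, trivial⟩ (by decide +kernel)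

theorem ce_g_41 : ∀ r, r < 64 → sm gg (Qf (2624 + r)) = Qf (tab Gen.g (2624 + r)) :=
  edges_tab (sm gg) Qf (tab Gen.g) 2624 [(2624, 4396), (2625, 2625), (2626, 4398), (2627, 1679), (2628, 1680), (2629, 4400), (2630, 4406), (2631, 2632), (2632, 2631), (2633, 3763), (2634, 2171), (2635, 2172), (2636, 1686), (2637, 4414), (2638, 2639), (2639, 2638), (2640, 4419), (2641, 2652), (2642, 1689), (2643, 4424), (2644, 3778), (2645, 4432), (2646, 4434), (2647, 4436), (2648, 1692), (2649, 4440), (2650, 1693), (2651, 2651), (2652, 2641), (2653, 2666), (2654, 4448), (2655, 1695), (2656, 4449), (2657, 1702), (2658, 1703), (2659, 2669), (2660, 4460), (2661, 4464), (2662, 4467), (2663, 1699), (2664, 4470), (2665, 1700), (2666, 2653), (2667, 4476), (2668, 4454), (2669, 2659), (2670, 4455), (2671, 4484), (2672, 1704), (2673, 4485), (2674, 4487), (2675, 4488), (2676, 1705), (2677, 4493), (2678, 2736), (2679, 4499), (2680, 4500), (2681, 1707), (2682, 2682), (2683, 1710), (2684, 1711), (2685, 2688), (2686, 4510), (2687, 4505)]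
    ⟨e3 q2624 L96705 q4396, e3 q2625 L84989 q2625, e3 q2626 L96714 q4398, e3 q2627 (flp_g L84996) q1679, e3 q2628 L85009 q1680, e3 q2629 (flp_g L96738) q4400, e3 q2630 L96764 q4406, e3 q2631 (flp_g L85037) q2632, e3 q2632 L85037 q2631, e3 q2633 L93017 q3763, e3 q2634 L85053 q2171, e3 q2635 L85057 q2172, e3 q2636 L85067 q1686, e3 q2637 (flp_g L96834) q4414, e3 q2638 (flp_g L85098) q2639, e3 q2639 L85098 q2638, e3 q2640 L96926 q4419, e3 q2641 (flp_g L85168) q2652, e3 q2642 (flp_g L85127) q1689, e3 q2643 L96940 q4424, e3 q2644 (flp_g L93123) q3778, e3 q2645 L96967 q4432, e3 q2646 L96975 q4434, e3 q2647 L96984 q4436, e3 q2648 (flp_g L85146) q1692, e3 q2649 L97011 q4440, e3 q2650 (flp_g L85153) q1693, e3 q2651 L85161 q2651, e3 q2652 L85168 q2641, e3 q2653 (flp_g L85219) q2666, e3 q2654 L97060 q4448, e3 q2655 (flp_g L85180) q1695, e3 q2656 (flp_g L97066) q4449, e3 q2657 L85186 q1702, e3 q2658 L85190 q1703, e3 q2659 L85231 q2669, e3 q2660 L97100 q4460, e3 q2661 L97120 q4464, e3 q2662 L97130 q4467, e3 q2663 (flp_g L85202)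 q1699, e3 q2664 L97143 q4470, e3 q2665 (flp_g L85211) q1700, e3 q2666 L85219 q2653, e3 q2667 L97168 q4476, e3 q2668 (flp_g L97082) q4454, e3 q2669 (flp_g L85231) q2659, e3 q2670 (flp_g L97086) q4455, e3 q2671 L97198 q4484, e3 q2672 (flp_g L85240) q1704, e3 q2673 L97208 q4485, e3 q2674 L97218 q4487, e3 q2675 L97224 q4488, e3 q2676 (flp_g L85254) q1705, e3 q2677 L97246 q4493, e3 q2678 (flp_g L85495) q2736, e3 q2679 L97280 q4499, e3 q2680 L97284 q4500, e3 q2681 (flp_g L85273) q1707, e3 q2682 L85279 q2682, e3 q2683 L85282 q1710, e3 q2684 L85286 q1711, e3 q2685 L85300 q2688, e3 q2686 L97325 q4510, e3 q2687 (flp_g L97309) q4505, trivial⟩ (by decide +kernel)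

theorem ce_g_42 : ∀ r, r < 64 → sm gg (Qf (2688 + r)) = Qf (tab Gen.g (2688 + r)) :=
  edges_tab (sm gg) Qf (tab Gen.g) 2688 [(2688, 2685), (2689, 4506), (2690, 4518), (2691, 1712), (2692, 3526), (2693, 3525), (2694, 4523), (2695, 1713), (2696, 4528), (2697, 1749), (2698, 1752), (2699, 1753), (2700, 2777), (2701, 4538), (2702, 2710), (2703, 4542), (2704, 1717), (2705, 3844), (2706, 4548), (2707, 1718), (2708, 4551), (2709, 1719), (2710, 2702), (2711, 2719), (2712, 1721), (2713, 4557), (2714, 4559), (2715, 4560), (2716, 1722), (2717, 1723), (2718, 1728), (2719, 2711), (2720, 4570), (2721, 4574), (2722, 4575), (2723, 1725), (2724, 4580), (2725, 4581), (2726, 1726), (2727, 4576), (2728, 4564), (2729, 4565), (2730, 3825), (2731, 4592), (2732, 4594), (2733, 1729), (2734, 1730), (2735, 1768), (2736, 2678), (2737, 1769), (2738, 1770), (2739, 2818), (2740, 4610), (2741, 4614), (2742, 1739), (2743, 1741), (2744, 2755), (2745, 4623), (2746, 4625), (2747, 4627), (2748, 1737), (2749, 4631), (2750, 4635), (2751, 4480)]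
    ⟨e3 q2688 (flp_g L85300) q2685, e3 q2689 (flp_g L97313) q4506, e3 q2690 L97359 q4518, e3 q2691 (flp_g L85309) q1712, e3 q2692 (flp_g L150380) q3526, e3 q2693 L150454 q3525, e3 q2694 L97397 q4523, e3 q2695 (flp_g L85321) q1713, e3 q2696 L97415 q4528, e3 q2697 L85331 q1749, e3 q2698 L85335 q1752, e3 q2699 L85340 q1753, e3 q2700 L85652 q2777, e3 q2701 L97472 q4538, e3 q2702 (flp_g L85382) q2710, e3 q2703 L97486 q4542, e3 q2704 (flp_g L85357) q1717, e3 q2705 L93480 q3844, e3 q2706 L97510 q4548, e3 q2707 (flp_g L85365) q1718, e3 q2708 L97523 q4551, e3 q2709 (flp_g L85374) q1719, e3 q2710 L85382 q2702, e3 q2711 (flp_g L85422) q2719, e3 q2712 (flp_g L85392) q1721, e3 q2713 L97562 q4557, e3 q2714 L97574 q4559, e3 q2715 L97581 q4560, e3 q2716 (flp_g L85406) q1722, e3 q2717 (flp_g L85410) q1723, e3 q2718 L85416 q1728, e3 q2719 L85422 q2711, e3 q2720 L97628 q4570, e3 q2721 L97642 q4574, e3 q2722 L97646 q4575, e3 q2723 (flp_g L85433) q1725, e3 q2724 L97670 q4580, e3 q2725 L97680 q4581, e3 q2726 (flp_g L85445) q1726, e3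 q2727 (flp_g L97652) q4576, e3 q2728 (flp_g L97603) q4564, e3 q2729 (flp_g L97609) q4565, e3 q2730 (flp_g L93381) q3825, e3 q2731 L97729 q4592, e3 q2732 L97740 q4594, e3 q2733 (flp_g L85475) q1729, e3 q2734 (flp_g L85479) q1730, e3 q2735 L85487 q1768, e3 q2736 L85495 q2678, e3 q2737 L85499 q1769, e3 q2738 L85503 q1770, e3 q2739 L85828 q2818, e3 q2740 L97817 q4610, e3 q2741 L97827 q4614, e3 q2742 L85517 q1739, e3 q2743 L85521 q1741, e3 q2744 L85559 q2755, e3 q2745 L97861 q4623, e3 q2746 L97869 q4625, e3 q2747 L97923 q4627, e3 q2748 (flp_g L85535) q1737, e3 q2749 L97941 q4631, e3 q2750 L97955 q4635, e3 q2751 L97969 q4480, trivial⟩ (by decide +kernel)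

theorem ce_g_43 : ∀ r, r < 64 → sm gg (Qf (2752 + r)) = Qf (tab Gen.g (2752 + r)) :=
  edges_tab (sm gg) Qf (tab Gen.g) 2752 [(2752, 1738), (2753, 4641), (2754, 4616), (2755, 2744), (2756, 4458), (2757, 4617), (2758, 4618), (2759, 4652), (2760, 1742), (2761, 2355), (2762, 2770), (2763, 1744), (2764, 3290), (2765, 3079), (2766, 4663), (2767, 1745), (2768, 4667), (2769, 1746), (2770, 2762), (2771, 4671), (2772, 4675), (2773, 4677), (2774, 1748), (2775, 4529), (2776, 4530), (2777, 2700), (2778, 4686), (2779, 4567), (2780, 4690), (2781, 1751), (2782, 4532), (2783, 4533), (2784, 4696), (2785, 4698), (2786, 4701), (2787, 1754), (2788, 2841), (2789, 4706), (2790, 1755), (2791, 4707), (2792, 4714), (2793, 2811), (2794, 4719), (2795, 1758), (2796, 1760), (2797, 4721), (2798, 4722), (2799, 4728), (2800, 4731), (2801, 4735), (2802, 4736), (2803, 1761), (2804, 4741), (2805, 4743), (2806, 1762), (2807, 4737), (2808, 4748), (2809, 4749), (2810, 1764), (2811, 2793), (2812, 4754), (2813, 4597), (2814, 4599), (2815, 4600)]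
    ⟨e3 q2752 (flp_g L85545) q1738, e3 q2753 L97997 q4641, e3 q2754 (flp_g L97837) q4616, e3 q2755 (flp_g L85559) q2744, e3 q2756 L97965 q4458, e3 q2757 (flp_g L97841) q4617, e3 q2758 (flp_g L97845) q4618, e3 q2759 L98043 q4652, e3 q2760 (flp_g L85573) q1742, e3 q2761 L85583 q2355, e3 q2762 (flp_g L85623) q2770, e3 q2763 (flp_g L85593) q1744, e3 q2764 L149878 q3290, e3 q2765 L150420 q3079, e3 q2766 L98147 q4663, e3 q2767 (flp_g L85607) q1745, e3 q2768 L98175 q4667, e3 q2769 (flp_g L85615) q1746, e3 q2770 L85623 q2762, e3 q2771 L98202 q4671, e3 q2772 L98216 q4675, e3 q2773 L98224 q4677, e3 q2774 (flp_g L85634) q1748, e3 q2775 (flp_g L97423) q4529, e3 q2776 (flp_g L97431) q4530, e3 q2777 (flp_g L85652) q2700, e3 q2778 L98272 q4686, e3 q2779 L98081 q4567, e3 q2780 L98288 q4690, e3 q2781 (flp_g L85660) q1751, e3 q2782 (flp_g L97441) q4532, e3 q2783 (flp_g L97449) q4533, e3 q2784 L98319 q4696, e3 q2785 L98333 q4698, e3 q2786 L98351 q4701, e3 q2787 (flp_g L85690) q1754, e3 q2788 (flp_g L85936) q2841, e3 q2789 L98373 q4706,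 e3 q2790 (flp_g L85708) q1755, e3 q2791 (flp_g L98379) q4707, e3 q2792 L98405 q4714, e3 q2793 (flp_g L85794) q2811, e3 q2794 L98427 q4719, e3 q2795 (flp_g L85726) q1758, e3 q2796 L85734 q1760, e3 q2797 (flp_g L98437) q4721, e3 q2798 (flp_g L98443) q4722, e3 q2799 L98471 q4728, e3 q2800 L98507 q4731, e3 q2801 L98523 q4735, e3 q2802 L98527 q4736, e3 q2803 (flp_g L85756) q1761, e3 q2804 L98553 q4741, e3 q2805 L98559 q4743, e3 q2806 (flp_g L85766) q1762, e3 q2807 (flp_g L98543) q4737, e3 q2808 L98579 q4748, e3 q2809 L98583 q4749, e3 q2810 (flp_g L85784) q1764, e3 q2811 L85794 q2793, e3 q2812 L98607 q4754, e3 q2813 (flp_g L97761) q4597, e3 q2814 (flp_g L97775) q4599, e3 q2815 (flp_g L97779) q4600, trivial⟩ (by decide +kernel)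

theorem ce_g_44 : ∀ r, r < 64 → sm gg (Qf (2816 + r)) = Qf (tab Gen.g (2816 + r)) :=
  edges_tab (sm gg) Qf (tab Gen.g) 2816 [(2816, 4761), (2817, 4604), (2818, 2739), (2819, 4605), (2820, 4768), (2821, 1771), (2822, 1778), (2823, 2229), (2824, 4775), (2825, 2230), (2826, 4781), (2827, 4785), (2828, 4786), (2829, 1775), (2830, 2228), (2831, 4791), (2832, 3649), (2833, 4794), (2834, 4796), (2835, 1780), (2836, 4477), (2837, 4802), (2838, 1781), (2839, 4805), (2840, 1782), (2841, 2788), (2842, 2374), (2843, 1786), (2844, 4813), (2845, 4809), (2846, 4819), (2847, 4823), (2848, 4824), (2849, 1787), (2850, 3923), (2851, 4829), (2852, 3931), (2853, 4833), (2854, 1803), (2855, 2068), (2856, 2879), (2857, 2238), (2858, 2066), (2859, 1821), (2860, 4842), (2861, 1797), (2862, 4846), (2863, 2237), (2864, 4852), (2865, 4856), (2866, 2885), (2867, 4859), (2868, 1801), (2869, 3633), (2870, 3961), (2871, 4832), (2872, 2403), (2873, 1808), (2874, 2441), (2875, 4863), (2876, 2081), (2877, 2471), (2878, 2472), (2879, 2856)]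
    ⟨e3 q2816 L98667 q4761, e3 q2817 (flp_g L97795) q4604, e3 q2818 (flp_g L85828) q2739, e3 q2819 (flp_g L97801) q4605, e3 q2820 L98695 q4768, e3 q2821 (flp_g L85840) q1771, e3 q2822 L85852 q1778, e3 q2823 L85860 q2229, e3 q2824 L98728 q4775, e3 q2825 L85868 q2230, e3 q2826 L98752 q4781, e3 q2827 L98766 q4785, e3 q2828 L98772 q4786, e3 q2829 (flp_g L85878) q1775, e3 q2830 L85886 q2228, e3 q2831 L98790 q4791, e3 q2832 (flp_g L92180) q3649, e3 q2833 (flp_g L149417) q4794, e3 q2834 L149456 q4796, e3 q2835 L149463 q1780, e3 q2836 L150664 q4477, e3 q2837 L98854 q4802, e3 q2838 (flp_g L85916) q1781, e3 q2839 L98870 q4805, e3 q2840 (flp_g L85926) q1782, e3 q2841 L85936 q2788, e3 q2842 L85944 q2374, e3 q2843 L85952 q1786, e3 q2844 L98913 q4813, e3 q2845 (flp_g L98897) q4809, e3 q2846 L98935 q4819, e3 q2847 L98951 q4823, e3 q2848 L98955 q4824, e3 q2849 (flp_g L85972) q1787, e3 q2850 (flp_g L93847) q3923, e3 q2851 L98973 q4829, e3 q2852 (flp_g L93877) q3931, e3 q2853 L98990 q4833, e3 q2854 L85997 q1803, e3 q2855 L141844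 q2068, e3 q2856 L86180 q2879, e3 q2857 L86027 q2238, e3 q2858 L141827 q2066, e3 q2859 L86041 q1821, e3 q2860 L99093 q4842, e3 q2861 (flp_g L86067) q1797, e3 q2862 L99127 q4846, e3 q2863 L86085 q2237, e3 q2864 L99159 q4852, e3 q2865 L99177 q4856, e3 q2866 (flp_g L147475) q2885, e3 q2867 L99197 q4859, e3 q2868 (flp_g L86105) q1801, e3 q2869 (flp_g L92112) q3633, e3 q2870 L94110 q3961, e3 q2871 L146769 q4832, e3 q2872 L86128 q2403, e3 q2873 L86138 q1808, e3 q2874 (flp_g L133510) q2441, e3 q2875 (flp_g L99241) q4863, e3 q2876 L141165 q2081, e3 q2877 (flp_g L131898) q2471, e3 q2878 L136767 q2472, e3 q2879 (flp_g L86180) q2856, trivial⟩ (by decide +kernel)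

theorem ce_g_45 : ∀ r, r < 64 → sm gg (Qf (2880 + r)) = Qf (tab Gen.g (2880 + r)) :=
  edges_tab (sm gg) Qf (tab Gen.g) 2880 [(2880, 4875), (2881, 2477), (2882, 4858), (2883, 4883), (2884, 4851), (2885, 2866), (2886, 1814), (2887, 3989), (2888, 3992), (2889, 2908), (2890, 1833), (2891, 4890), (2892, 4839), (2893, 2898), (2894, 1830), (2895, 1822), (2896, 4893), (2897, 1823), (2898, 2893), (2899, 4902), (2900, 1825), (2901, 1930), (2902, 2446), (2903, 4907), (2904, 1827), (2905, 4894), (2906, 3997), (2907, 4914), (2908, 2889), (2909, 1836), (2910, 4916), (2911, 4917), (2912, 4922), (2913, 3095), (2914, 3998), (2915, 3999), (2916, 2474), (2917, 4929), (2918, 4930), (2919, 1841), (2920, 3871), (2921, 4933), (2922, 2928), (2923, 1842), (2924, 4935), (2925, 4936), (2926, 1843), (2927, 1844), (2928, 2922), (2929, 4944), (2930, 4946), (2931, 2939), (2932, 1846), (2933, 4950), (2934, 4952), (2935, 1847), (2936, 4956), (2937, 1848), (2938, 1853), (2939, 2931), (2940, 4963), (2941, 4953), (2942, 4967), (2943, 1852)]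
    ⟨e3 q2880 L99357 q4875, e3 q2881 L136321 q2477, e3 q2882 (flp_g L147426) q4858, e3 q2883 L99405 q4883, e3 q2884 L147454 q4851, e3 q2885 L147475 q2866, e3 q2886 (flp_g L86216) q1814, e3 q2887 (flp_g L94347) q3989, e3 q2888 L94369 q3992, e3 q2889 (flp_g L147172) q2908, e3 q2890 (flp_g L147190) q1833, e3 q2891 L99909 q4890, e3 q2892 (flp_g L99057) q4839, e3 q2893 (flp_g L148833) q2898, e3 q2894 L147075 q1830, e3 q2895 (flp_g L86667) q1822, e3 q2896 L148828 q4893, e3 q2897 (flp_g L86688) q1823, e3 q2898 L148833 q2893, e3 q2899 L100043 q4902, e3 q2900 (flp_g L86717) q1825, e3 q2901 (flp_g L139184) q1930, e3 q2902 L86749 q2446, e3 q2903 L100085 q4907, e3 q2904 (flp_g L86753) q1827, e3 q2905 (flp_g L147041) q4894, e3 q2906 (flp_g L136746) q3997, e3 q2907 L100355 q4914, e3 q2908 L147172 q2889, e3 q2909 L86937 q1836, e3 q2910 (flp_g L100413) q4916, e3 q2911 (flp_g L100417) q4917, e3 q2912 L100471 q4922, e3 q2913 L141992 q3095, e3 q2914 (flp_g L94409) q3998, e3 q2915 (flp_g L94415) q3999, e3 q2916 L87006 q2474, e3 q2917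 L101753 q4929, e3 q2918 L101761 q4930, e3 q2919 (flp_g L87952) q1841, e3 q2920 L147632 q3871, e3 q2921 L101799 q4933, e3 q2922 (flp_g L88002) q2928, e3 q2923 (flp_g L87971) q1842, e3 q2924 L101813 q4935, e3 q2925 L101817 q4936, e3 q2926 (flp_g L87985) q1843, e3 q2927 (flp_g L87990) q1844, e3 q2928 L88002 q2922, e3 q2929 L101867 q4944, e3 q2930 L101881 q4946, e3 q2931 (flp_g L88076) q2939, e3 q2932 (flp_g L88022) q1846, e3 q2933 L101909 q4950, e3 q2934 L101927 q4952, e3 q2935 (flp_g L88044) q1847, e3 q2936 L101960 q4956, e3 q2937 (flp_g L88057) q1848, e3 q2938 L88068 q1853, e3 q2939 L88076 q2931, e3 q2940 L102003 q4963, e3 q2941 (flp_g L101941) q4953, e3 q2942 L102124 q4967, e3 q2943 (flp_g L88095) q1852, trivial⟩ (by decide +kernel)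

theorem ce_g_46 : ∀ r, r < 64 → sm gg (Qf (2944 + r)) = Qf (tab Gen.g (2944 + r)) :=
  edges_tab (sm gg) Qf (tab Gen.g) 2944 [(2944, 4958), (2945, 4970), (2946, 4972), (2947, 3638), (2948, 4973), (2949, 1854), (2950, 4976), (2951, 3618), (2952, 2960), (2953, 1857), (2954, 4980), (2955, 1863), (2956, 2962), (2957, 4988), (2958, 4990), (2959, 1861), (2960, 2952), (2961, 4349), (2962, 2956), (2963, 1864), (2964, 2998), (2965, 1865), (2966, 5001), (2967, 4998), (2968, 3156), (2969, 2969), (2970, 3927), (2971, 2976), (2972, 1870), (2973, 5011), (2974, 1871), (2975, 1874), (2976, 2971), (2977, 5017), (2978, 5019), (2979, 1873), (2980, 5012), (2981, 5013), (2982, 5026), (2983, 3265), (2984, 2984), (2985, 5030), (2986, 3928), (2987, 2994), (2988, 1877), (2989, 5032), (2990, 1878), (2991, 5037), (2992, 1879), (2993, 1885), (2994, 2987), (2995, 5045), (2996, 1881), (2997, 5033), (2998, 2964), (2999, 5053), (3000, 5055), (3001, 1883), (3002, 5056), (3003, 5039), (3004, 5040), (3005, 5067), (3006, 5070), (3007, 5072)]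
    ⟨e3 q2944 (flp_g L101974) q4958, e3 q2945 L102155 q4970, e3 q2946 L102172 q4972, e3 q2947 L148212 q3638, e3 q2948 L102207 q4973, e3 q2949 (flp_g L88122) q1854, e3 q2950 L102233 q4976, e3 q2951 L147553 q3618, e3 q2952 (flp_g L88186) q2960, e3 q2953 (flp_g L88141) q1857, e3 q2954 (flp_g L102255) q4980, e3 q2955 L88155 q1863, e3 q2956 L88199 q2962, e3 q2957 L102285 q4988, e3 q2958 L102304 q4990, e3 q2959 (flp_g L88170) q1861, e3 q2960 L88186 q2952, e3 q2961 L148959 q4349, e3 q2962 (flp_g L88199) q2956, e3 q2963 (flp_g L88201) q1864, e3 q2964 (flp_g L88406) q2998, e3 q2965 (flp_g L88219) q1865, e3 q2966 L102367 q5001, e3 q2967 (flp_g L102355) q4998, e3 q2968 (flp_g L89288) q3156, e3 q2969 L88247 q2969, e3 q2970 L146547 q3927, e3 q2971 (flp_g L88290) q2976, e3 q2972 (flp_g L88263) q1870, e3 q2973 L102426 q5011, e3 q2974 (flp_g L88276) q1871, e3 q2975 L88283 q1874, e3 q2976 L88290 q2971, e3 q2977 L102449 q5017, e3 q2978 L102459 q5019, e3 q2979 (flp_g L88298) q1873, e3 q2980 (flp_g L102432) q5012, e3 q2981 (flp_g L102436)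 q5013, e3 q2982 L102489 q5026, e3 q2983 (flp_g L89870) q3265, e3 q2984 L88316 q2984, e3 q2985 L102509 q5030, e3 q2986 L146595 q3928, e3 q2987 (flp_g L88378) q2994, e3 q2988 (flp_g L88334) q1877, e3 q2989 L102539 q5032, e3 q2990 (flp_g L88346) q1878, e3 q2991 L102573 q5037, e3 q2992 (flp_g L88356) q1879, e3 q2993 L88368 q1885, e3 q2994 L88378 q2987, e3 q2995 L102610 q5045, e3 q2996 (flp_g L88384) q1881, e3 q2997 (flp_g L102549) q5033, e3 q2998 L88406 q2964, e3 q2999 L102647 q5053, e3 q3000 L102659 q5055, e3 q3001 (flp_g L88418) q1883, e3 q3002 (flp_g L102669) q5056, e3 q3003 (flp_g L102585) q5039, e3 q3004 (flp_g L102591) q5040, e3 q3005 L102729 q5067, e3 q3006 L102747 q5070, e3 q3007 L102761 q5072, trivial⟩ (by decide +kernel)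

theorem ce_g_47 : ∀ r, r < 64 → sm gg (Qf (3008 + r)) = Qf (tab Gen.g (3008 + r)) :=
  edges_tab (sm gg) Qf (tab Gen.g) 3008 [(3008, 1887), (3009, 3011), (3010, 1978), (3011, 3009), (3012, 1969), (3013, 4861), (3014, 5079), (3015, 1893), (3016, 4116), (3017, 2402), (3018, 3031), (3019, 1894), (3020, 4045), (3021, 3991), (3022, 5084), (3023, 5087), (3024, 5089), (3025, 1897), (3026, 3972), (3027, 1898), (3028, 5096), (3029, 1899), (3030, 1909), (3031, 3018), (3032, 3058), (3033, 5104), (3034, 1901), (3035, 5105), (3036, 1915), (3037, 1916), (3038, 3064), (3039, 5115), (3040, 5118), (3041, 1905), (3042, 5093), (3043, 2191), (3044, 5124), (3045, 5125), (3046, 1907), (3047, 5126), (3048, 5098), (3049, 5099), (3050, 5134), (3051, 5137), (3052, 5138), (3053, 5141), (3054, 1911), (3055, 5144), (3056, 1912), (3057, 1914), (3058, 3032), (3059, 5147), (3060, 5148), (3061, 5156), (3062, 3975), (3063, 5110), (3064, 3038), (3065, 3611), (3066, 5165), (3067, 5168), (3068, 1917), (3069, 5172), (3070, 5174), (3071, 1918)]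
    ⟨e3 q3008 (flp_g L88450) q1887, e3 q3009 (flp_g L88476) q3011, e3 q3010 L88466 q1978, e3 q3011 L88476 q3009, e3 q3012 L88486 q1969, e3 q3013 L148215 q4861, e3 q3014 L102821 q5079, e3 q3015 (flp_g L88500) q1893, e3 q3016 (flp_g L148247) q4116, e3 q3017 (flp_g L148232) q2402, e3 q3018 (flp_g L88596) q3031, e3 q3019 (flp_g L88536) q1894, e3 q3020 (flp_g L141001) q4045, e3 q3021 L148278 q3991, e3 q3022 L102918 q5084, e3 q3023 L102936 q5087, e3 q3024 L102944 q5089, e3 q3025 (flp_g L88560) q1897, e3 q3026 L148310 q3972, e3 q3027 (flp_g L88568) q1898, e3 q3028 L102996 q5096, e3 q3029 (flp_g L88578) q1899, e3 q3030 L88588 q1909, e3 q3031 L88596 q3018, e3 q3032 (flp_g L88712) q3058, e3 q3033 L103036 q5104, e3 q3034 (flp_g L88608) q1901, e3 q3035 (flp_g L103042) q5105, e3 q3036 L88614 q1915, e3 q3037 L88618 q1916, e3 q3038 L88734 q3064, e3 q3039 L103082 q5115, e3 q3040 L103094 q5118, e3 q3041 (flp_g L88630) q1905, e3 q3042 (flp_g L102976) q5093, e3 q3043 L88654 q2191, e3 q3044 L103130 q5124, e3 q3045 L103140 q5125, e3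 q3046 (flp_g L88662) q1907, e3 q3047 (flp_g L103148) q5126, e3 q3048 (flp_g L103008) q5098, e3 q3049 (flp_g L103012) q5099, e3 q3050 L103200 q5134, e3 q3051 L103216 q5137, e3 q3052 L103228 q5138, e3 q3053 L103236 q5141, e3 q3054 (flp_g L88690) q1911, e3 q3055 L103252 q5144, e3 q3056 (flp_g L88700) q1912, e3 q3057 L88706 q1914, e3 q3058 L88712 q3032, e3 q3059 (flp_g L103270) q5147, e3 q3060 (flp_g L103274) q5148, e3 q3061 L103302 q5156, e3 q3062 L148514 q3975, e3 q3063 (flp_g L103060) q5110, e3 q3064 (flp_g L88734) q3038, e3 q3065 (flp_g L147951) q3611, e3 q3066 L103346 q5165, e3 q3067 L103362 q5168, e3 q3068 (flp_g L88748) q1917, e3 q3069 L103372 q5172, e3 q3070 L103382 q5174, e3 q3071 (flp_g L88760) q1918, trivial⟩ (by decide +kernel)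

theorem ce_g_48 : ∀ r, r < 64 → sm gg (Qf (3072 + r)) = Qf (tab Gen.g (3072 + r)) :=
  edges_tab (sm gg) Qf (tab Gen.g) 3072 [(3072, 5177), (3073, 3276), (3074, 5181), (3075, 5182), (3076, 1920), (3077, 5145), (3078, 3083), (3079, 2765), (3080, 2043), (3081, 2044), (3082, 2045), (3083, 3078), (3084, 5196), (3085, 2031), (3086, 5198), (3087, 1927), (3088, 3322), (3089, 3324), (3090, 5200), (3091, 5202), (3092, 4904), (3093, 1929), (3094, 3103), (3095, 2913), (3096, 3096), (3097, 3097), (3098, 2069), (3099, 2070), (3100, 3564), (3101, 2072), (3102, 2073), (3103, 3094), (3104, 2053), (3105, 2054), (3106, 5216), (3107, 5218), (3108, 5220), (3109, 1945), (3110, 3119), (3111, 1946), (3112, 5227), (3113, 5221), (3114, 4139), (3115, 1949), (3116, 5235), (3117, 1950), (3118, 1958), (3119, 3110), (3120, 3142), (3121, 5244), (3122, 1952), (3123, 5245), (3124, 1964), (3125, 1965), (3126, 3148), (3127, 5256), (3128, 5258), (3129, 5259), (3130, 1956), (3131, 5260), (3132, 5237), (3133, 5238), (3134, 5269), (3135, 5272)]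
    ⟨e3 q3072 L103406 q5177, e3 q3073 (flp_g L89913) q3276, e3 q3074 L103423 q5181, e3 q3075 L103431 q5182, e3 q3076 (flp_g L88781) q1920, e3 q3077 (flp_g L103258) q5145, e3 q3078 (flp_g L88814) q3083, e3 q3079 (flp_g L150420) q2765, e3 q3080 L88800 q2043, e3 q3081 L88804 q2044, e3 q3082 L88808 q2045, e3 q3083 L88814 q3078, e3 q3084 L103504 q5196, e3 q3085 L88826 q2031, e3 q3086 (flp_g L139263) q5198, e3 q3087 (flp_g L88834) q1927, e3 q3088 (flp_g L90105) q3322, e3 q3089 (flp_g L90123) q3324, e3 q3090 L103568 q5200, e3 q3091 L103580 q5202, e3 q3092 L139026 q4904, e3 q3093 (flp_g L88875) q1929, e3 q3094 (flp_g L88952) q3103, e3 q3095 (flp_g L141992) q2913, e3 q3096 L88906 q3096, e3 q3097 L88913 q3097, e3 q3098 L88918 q2069, e3 q3099 L88926 q2070, e3 q3100 L148094 q3564, e3 q3101 L88938 q2072, e3 q3102 L88946 q2073, e3 q3103 L88952 q3094, e3 q3104 L88968 q2053, e3 q3105 L88978 q2054, e3 q3106 L103742 q5216, e3 q3107 L103756 q5218, e3 q3108 L103768 q5220, e3 q3109 (flp_g L89026) q1945, e3 q3110 (flp_g L89094) q3119,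 e3 q3111 (flp_g L89038) q1946, e3 q3112 L103806 q5227, e3 q3113 (flp_g L103778) q5221, e3 q3114 (flp_g L95330) q4139, e3 q3115 (flp_g L89062) q1949, e3 q3116 L103855 q5235, e3 q3117 (flp_g L89076) q1950, e3 q3118 L89086 q1958, e3 q3119 L89094 q3110, e3 q3120 (flp_g L89206) q3142, e3 q3121 L103903 q5244, e3 q3122 (flp_g L89108) q1952, e3 q3123 (flp_g L103913) q5245, e3 q3124 L89120 q1964, e3 q3125 L89126 q1965, e3 q3126 L89240 q3148, e3 q3127 L103965 q5256, e3 q3128 L103977 q5258, e3 q3129 L103987 q5259, e3 q3130 (flp_g L89142) q1956, e3 q3131 (flp_g L103999) q5260, e3 q3132 (flp_g L103867) q5237, e3 q3133 (flp_g L103875) q5238, e3 q3134 L104053 q5269, e3 q3135 L104073 q5272, trivial⟩ (by decide +kernel)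

theorem ce_g_49 : ∀ r, r < 64 → sm gg (Qf (3136 + r)) = Qf (tab Gen.g (3136 + r)) :=
  edges_tab (sm gg) Qf (tab Gen.g) 3136 [(3136, 5276), (3137, 5279), (3138, 1960), (3139, 5282), (3140, 1961), (3141, 1963), (3142, 3120), (3143, 5285), (3144, 5286), (3145, 5294), (3146, 5298), (3147, 5250), (3148, 3126), (3149, 5251), (3150, 5306), (3151, 5309), (3152, 1966), (3153, 5313), (3154, 5315), (3155, 1967), (3156, 2968), (3157, 5322), (3158, 5078), (3159, 5324), (3160, 1970), (3161, 5283), (3162, 1984), (3163, 1974), (3164, 1975), (3165, 5331), (3166, 5332), (3167, 3167), (3168, 5342), (3169, 3185), (3170, 5075), (3171, 5346), (3172, 5349), (3173, 1979), (3174, 1980), (3175, 5351), (3176, 3176), (3177, 3177), (3178, 5359), (3179, 5326), (3180, 1987), (3181, 1988), (3182, 5362), (3183, 5363), (3184, 4660), (3185, 3169), (3186, 1991), (3187, 5372), (3188, 3188), (3189, 3189), (3190, 3191), (3191, 3190), (3192, 3197), (3193, 1996), (3194, 5381), (3195, 1997), (3196, 2000), (3197, 3192), (3198, 5389), (3199, 5390)]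
    ⟨e3 q3136 L104093 q5276, e3 q3137 L104105 q5279, e3 q3138 (flp_g L89176) q1960, e3 q3139 L104125 q5282, e3 q3140 (flp_g L89188) q1961, e3 q3141 L89198 q1963, e3 q3142 L89206 q3120, e3 q3143 (flp_g L104149) q5285, e3 q3144 (flp_g L104155) q5286, e3 q3145 L104194 q5294, e3 q3146 L104214 q5298, e3 q3147 (flp_g L103939) q5250, e3 q3148 (flp_g L89240) q3126, e3 q3149 (flp_g L103943) q5251, e3 q3150 L104256 q5306, e3 q3151 L104278 q5309, e3 q3152 (flp_g L89258) q1966, e3 q3153 L104296 q5313, e3 q3154 L104308 q5315, e3 q3155 (flp_g L89276) q1967, e3 q3156 L89288 q2968, e3 q3157 L104349 q5322, e3 q3158 (flp_g L102805) q5078, e3 q3159 L104359 q5324, e3 q3160 (flp_g L89302) q1970, e3 q3161 (flp_g L104133) q5283, e3 q3162 L89318 q1984, e3 q3163 L89326 q1974, e3 q3164 L89334 q1975, e3 q3165 (flp_g L104405) q5331, e3 q3166 (flp_g L104409) q5332, e3 q3167 L89353 q3167, e3 q3168 L104454 q5342, e3 q3169 (flp_g L89462) q3185, e3 q3170 (flp_g L102781) q5075, e3 q3171 L104474 q5346, e3 q3172 L104494 q5349, e3 q3173 (flp_g L89374)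 q1979, e3 q3174 L89392 q1980, e3 q3175 (flp_g L104512) q5351, e3 q3176 L89408 q3176, e3 q3177 L89411 q3177, e3 q3178 L104553 q5359, e3 q3179 (flp_g L104377) q5326, e3 q3180 L89433 q1987, e3 q3181 L89437 q1988, e3 q3182 (flp_g L104579) q5362, e3 q3183 (flp_g L104583) q5363, e3 q3184 L149923 q4660, e3 q3185 L89462 q3169, e3 q3186 L89474 q1991, e3 q3187 (flp_g L104668) q5372, e3 q3188 L89488 q3188, e3 q3189 L89491 q3189, e3 q3190 (flp_g L89540) q3191, e3 q3191 L89540 q3190, e3 q3192 (flp_g L89612) q3197, e3 q3193 (flp_g L89588) q1996, e3 q3194 L104817 q5381, e3 q3195 (flp_g L89598) q1997, e3 q3196 L89604 q2000, e3 q3197 L89612 q3192, e3 q3198 L104839 q5389, e3 q3199 L104847 q5390, trivial⟩ (by decide +kernel)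

theorem ce_g_50 : ∀ r, r < 64 → sm gg (Qf (3200 + r)) = Qf (tab Gen.g (3200 + r)) :=
  edges_tab (sm gg) Qf (tab Gen.g) 3200 [(3200, 1999), (3201, 5383), (3202, 5384), (3203, 5396), (3204, 5400), (3205, 3231), (3206, 5402), (3207, 2002), (3208, 2004), (3209, 5404), (3210, 5405), (3211, 5412), (3212, 5416), (3213, 2020), (3214, 2022), (3215, 3248), (3216, 5422), (3217, 5425), (3218, 5427), (3219, 2008), (3220, 5431), (3221, 5435), (3222, 5436), (3223, 2009), (3224, 5441), (3225, 5443), (3226, 2010), (3227, 5437), (3228, 5448), (3229, 2012), (3230, 2035), (3231, 3205), (3232, 2016), (3233, 2017), (3234, 3238), (3235, 5462), (3236, 5466), (3237, 5456), (3238, 3234), (3239, 5457), (3240, 3261), (3241, 2018), (3242, 5475), (3243, 5479), (3244, 5481), (3245, 2019), (3246, 5485), (3247, 3614), (3248, 3215), (3249, 5491), (3250, 5417), (3251, 5494), (3252, 5497), (3253, 2023), (3254, 3263), (3255, 5468), (3256, 2024), (3257, 5500), (3258, 5507), (3259, 5509), (3260, 2026), (3261, 3240), (3262, 2027), (3263, 3254)]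
    ⟨e3 q3200 (flp_g L89618) q1999, e3 q3201 (flp_g L104823) q5383, e3 q3202 (flp_g L104827) q5384, e3 q3203 L104875 q5396, e3 q3204 L104895 q5400, e3 q3205 (flp_g L89726) q3231, e3 q3206 L104911 q5402, e3 q3207 (flp_g L89638) q2002, e3 q3208 L89644 q2004, e3 q3209 (flp_g L104919) q5404, e3 q3210 (flp_g L104923) q5405, e3 q3211 L104945 q5412, e3 q3212 L104957 q5416, e3 q3213 L89660 q2020, e3 q3214 L89664 q2022, e3 q3215 L89789 q3248, e3 q3216 L104989 q5422, e3 q3217 L104997 q5425, e3 q3218 L105005 q5427, e3 q3219 (flp_g L89678) q2008, e3 q3220 L105023 q5431, e3 q3221 L105037 q5435, e3 q3222 L105041 q5436, e3 q3223 (flp_g L89688) q2009, e3 q3224 L105071 q5441, e3 q3225 L105079 q5443, e3 q3226 (flp_g L89698) q2010, e3 q3227 (flp_g L105047) q5437, e3 q3228 L105099 q5448, e3 q3229 (flp_g L89712) q2012, e3 q3230 L89718 q2035, e3 q3231 L89726 q3205, e3 q3232 L89730 q2016, e3 q3233 L89734 q2017, e3 q3234 L89750 q3238, e3 q3235 L105157 q5462, e3 q3236 L105167 q5466, e3 q3237 (flp_g L105139) q5456, e3 q3238 (flp_g L89750)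 q3234, e3 q3239 (flp_g L105143) q5457, e3 q3240 (flp_g L151478) q3261, e3 q3241 (flp_g L89761) q2018, e3 q3242 L105216 q5475, e3 q3243 L105230 q5479, e3 q3244 L105238 q5481, e3 q3245 (flp_g L89773) q2019, e3 q3246 L105264 q5485, e3 q3247 L148001 q3614, e3 q3248 (flp_g L89789) q3215, e3 q3249 L105288 q5491, e3 q3250 (flp_g L104973) q5417, e3 q3251 L105302 q5494, e3 q3252 L105322 q5497, e3 q3253 (flp_g L89805) q2023, e3 q3254 (flp_g L89860) q3263, e3 q3255 (flp_g L151542) q5468, e3 q3256 (flp_g L89823) q2024, e3 q3257 (flp_g L105348) q5500, e3 q3258 L105370 q5507, e3 q3259 L105380 q5509, e3 q3260 (flp_g L89837) q2026, e3 q3261 L151478 q3240, e3 q3262 (flp_g L89849) q2027, e3 q3263 L89860 q3254, trivial⟩ (by decide +kernel)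

theorem ce_g_51 : ∀ r, r < 64 → sm gg (Qf (3264 + r)) = Qf (tab Gen.g (3264 + r)) :=
  edges_tab (sm gg) Qf (tab Gen.g) 3264 [(3264, 5516), (3265, 2983), (3266, 5520), (3267, 5522), (3268, 5523), (3269, 2030), (3270, 5197), (3271, 5527), (3272, 5529), (3273, 2032), (3274, 2033), (3275, 5449), (3276, 3073), (3277, 5451), (3278, 5452), (3279, 5543), (3280, 5545), (3281, 2039), (3282, 2040), (3283, 5553), (3284, 5547), (3285, 5548), (3286, 5549), (3287, 5560), (3288, 3288), (3289, 5564), (3290, 2764), (3291, 5567), (3292, 2042), (3293, 5189), (3294, 5571), (3295, 5191), (3296, 5210), (3297, 5576), (3298, 5579), (3299, 2046), (3300, 5583), (3301, 5585), (3302, 2047), (3303, 5586), (3304, 2050), (3305, 5591), (3306, 5597), (3307, 3307), (3308, 3308), (3309, 3309), (3310, 5603), (3311, 5213), (3312, 5609), (3313, 5611), (3314, 5612), (3315, 5613), (3316, 2055), (3317, 5617), (3318, 2056), (3319, 5619), (3320, 2057), (3321, 5614), (3322, 3088), (3323, 2092), (3324, 3089), (3325, 2093), (3326, 2094), (3327, 2067)]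
    ⟨e3 q3264 L105430 q5516, e3 q3265 L89870 q2983, e3 q3266 L105451 q5520, e3 q3267 L105465 q5522, e3 q3268 L105469 q5523, e3 q3269 (flp_g L89881) q2030, e3 q3270 (flp_g L103516) q5197, e3 q3271 L105487 q5527, e3 q3272 L105491 q5529, e3 q3273 (flp_g L89893) q2032, e3 q3274 (flp_g L89899) q2033, e3 q3275 (flp_g L105107) q5449, e3 q3276 L89913 q3073, e3 q3277 (flp_g L105121) q5451, e3 q3278 (flp_g L105125) q5452, e3 q3279 L105551 q5543, e3 q3280 L105559 q5545, e3 q3281 L89931 q2039, e3 q3282 L89935 q2040, e3 q3283 L105590 q5553, e3 q3284 (flp_g L105571) q5547, e3 q3285 (flp_g L105575) q5548, e3 q3286 (flp_g L105579) q5549, e3 q3287 L105618 q5560, e3 q3288 L89959 q3288, e3 q3289 L105638 q5564, e3 q3290 (flp_g L149878) q2764, e3 q3291 L105656 q5567, e3 q3292 (flp_g L89969) q2042, e3 q3293 (flp_g L103472) q5189, e3 q3294 L105674 q5571, e3 q3295 (flp_g L103480) q5191, e3 q3296 (flp_g L103684) q5210, e3 q3297 L105692 q5576, e3 q3298 L105706 q5579, e3 q3299 (flp_g L89995) q2046, e3 q3300 L105720 q5583, e3 q3301 L105730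 q5585, e3 q3302 (flp_g L90009) q2047, e3 q3303 (flp_g L105736) q5586, e3 q3304 L90021 q2050, e3 q3305 (flp_g L105766) q5591, e3 q3306 L105788 q5597, e3 q3307 L90035 q3307, e3 q3308 L90038 q3308, e3 q3309 L90041 q3309, e3 q3310 L105820 q5603, e3 q3311 (flp_g L103712) q5213, e3 q3312 L105851 q5609, e3 q3313 L105869 q5611, e3 q3314 L105883 q5612, e3 q3315 L105889 q5613, e3 q3316 (flp_g L90071) q2055, e3 q3317 L105913 q5617, e3 q3318 (flp_g L90081) q2056, e3 q3319 L105933 q5619, e3 q3320 (flp_g L90091) q2057, e3 q3321 (flp_g L105897) q5614, e3 q3322 L90105 q3088, e3 q3323 L90113 q2092, e3 q3324 L90123 q3089, e3 q3325 L90129 q2093, e3 q3326 L90135 q2094, e3 q3327 L90169 q2067, trivial⟩ (by decide +kernel)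

theorem ce_g_52 : ∀ r, r < 64 → sm gg (Qf (3328 + r)) = Qf (tab Gen.g (3328 + r)) :=
  edges_tab (sm gg) Qf (tab Gen.g) 3328 [(3328, 4838), (3329, 5636), (3330, 5630), (3331, 4834), (3332, 5639), (3333, 5207), (3334, 5646), (3335, 4521), (3336, 3578), (3337, 5620), (3338, 2071), (3339, 5209), (3340, 5192), (3341, 3544), (3342, 5654), (3343, 5657), (3344, 2074), (3345, 2076), (3346, 2075), (3347, 2473), (3348, 5659), (3349, 4867), (3350, 3350), (3351, 5669), (3352, 3352), (3353, 3353), (3354, 5673), (3355, 5675), (3356, 3363), (3357, 2085), (3358, 5677), (3359, 5678), (3360, 2086), (3361, 2087), (3362, 2091), (3363, 3356), (3364, 2089), (3365, 5679), (3366, 5681), (3367, 5682), (3368, 5693), (3369, 5626), (3370, 5627), (3371, 5628), (3372, 4038), (3373, 5704), (3374, 5707), (3375, 5708), (3376, 2096), (3377, 3388), (3378, 5711), (3379, 5714), (3380, 3387), (3381, 2098), (3382, 4052), (3383, 5623), (3384, 2099), (3385, 5686), (3386, 2100), (3387, 3380), (3388, 3377), (3389, 5722), (3390, 5725), (3391, 5727)]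
    ⟨e3 q3328 (flp_g L141781) q4838, e3 q3329 L106110 q5636, e3 q3330 (flp_g L106053) q5630, e3 q3331 (flp_g L141745) q4834, e3 q3332 (flp_g L129644) q5639, e3 q3333 (flp_g L129625) q5207, e3 q3334 L106170 q5646, e3 q3335 L149842 q4521, e3 q3336 L147892 q3578, e3 q3337 (flp_g L149295) q5620, e3 q3338 (flp_g L90247) q2071, e3 q3339 (flp_g L103674) q5209, e3 q3340 (flp_g L103488) q5192, e3 q3341 (flp_g L148048) q3544, e3 q3342 L106260 q5654, e3 q3343 L106276 q5657, e3 q3344 (flp_g L90275) q2074, e3 q3345 (flp_g L141879) q2076, e3 q3346 (flp_g L90291) q2075, e3 q3347 (flp_g L90307) q2473, e3 q3348 (flp_g L132210) q5659, e3 q3349 (flp_g L141151) q4867, e3 q3350 L90376 q3350, e3 q3351 L106432 q5669, e3 q3352 L90394 q3352, e3 q3353 L90401 q3353, e3 q3354 L106627 q5673, e3 q3355 L106639 q5675, e3 q3356 (flp_g L90640) q3363, e3 q3357 (flp_g L90610) q2085, e3 q3358 L106657 q5677, e3 q3359 L106661 q5678, e3 q3360 (flp_g L90624) q2086, e3 q3361 (flp_g L90628) q2087, e3 q3362 L90634 q2091, e3 q3363 L90640 q3356, e3 q3364 (flp_g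 L90642) q2089, e3 q3365 (flp_g L106671) q5679, e3 q3366 (flp_g L106687) q5681, e3 q3367 (flp_g L106691) q5682, e3 q3368 L106735 q5693, e3 q3369 (flp_g L105975) q5626, e3 q3370 (flp_g L105999) q5627, e3 q3371 (flp_g L106003) q5628, e3 q3372 (flp_g L94664) q4038, e3 q3373 L106813 q5704, e3 q3374 L106831 q5707, e3 q3375 L106835 q5708, e3 q3376 (flp_g L90708) q2096, e3 q3377 (flp_g L90768) q3388, e3 q3378 (flp_g L148601) q5711, e3 q3379 L106871 q5714, e3 q3380 (flp_g L90760) q3387, e3 q3381 (flp_g L90730) q2098, e3 q3382 (flp_g L148426) q4052, e3 q3383 (flp_g L149275) q5623, e3 q3384 (flp_g L90742) q2099, e3 q3385 (flp_g L150560) q5686, e3 q3386 (flp_g L90752) q2100, e3 q3387 L90760 q3380, e3 q3388 L90768 q3377, e3 q3389 L106943 q5722, e3 q3390 L106955 q5725, e3 q3391 L106965 q5727, trivial⟩ (by decide +kernel)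

theorem ce_g_53 : ∀ r, r < 64 → sm gg (Qf (3392 + r)) = Qf (tab Gen.g (3392 + r)) :=
  edges_tab (sm gg) Qf (tab Gen.g) 3392 [(3392, 2104), (3393, 3394), (3394, 3393), (3395, 5732), (3396, 2107), (3397, 5737), (3398, 5740), (3399, 5741), (3400, 2109), (3401, 2422), (3402, 5744), (3403, 5745), (3404, 2111), (3405, 5748), (3406, 3412), (3407, 2112), (3408, 5753), (3409, 5754), (3410, 2113), (3411, 2114), (3412, 3406), (3413, 5759), (3414, 3421), (3415, 2116), (3416, 5763), (3417, 2117), (3418, 5767), (3419, 2118), (3420, 2124), (3421, 3414), (3422, 3481), (3423, 2120), (3424, 5776), (3425, 5764), (3426, 5781), (3427, 2123), (3428, 5769), (3429, 5785), (3430, 5787), (3431, 3782), (3432, 2125), (3433, 5793), (3434, 3447), (3435, 2126), (3436, 5795), (3437, 5789), (3438, 5801), (3439, 5803), (3440, 5804), (3441, 2129), (3442, 5807), (3443, 2130), (3444, 5810), (3445, 2131), (3446, 2140), (3447, 3434), (3448, 3464), (3449, 2133), (3450, 5814), (3451, 2143), (3452, 3466), (3453, 5821), (3454, 5824), (3455, 5808)]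
    ⟨e3 q3392 (flp_g L90780) q2104, e3 q3393 (flp_g L141834) q3394, e3 q3394 L141834 q3393, e3 q3395 L107013 q5732, e3 q3396 (flp_g L90816) q2107, e3 q3397 L107035 q5737, e3 q3398 L107053 q5740, e3 q3399 L107059 q5741, e3 q3400 (flp_g L90834) q2109, e3 q3401 L90846 q2422, e3 q3402 L107095 q5744, e3 q3403 L107105 q5745, e3 q3404 (flp_g L90909) q2111, e3 q3405 L107135 q5748, e3 q3406 (flp_g L90969) q3412, e3 q3407 (flp_g L90932) q2112, e3 q3408 L107160 q5753, e3 q3409 L107166 q5754, e3 q3410 (flp_g L90950) q2113, e3 q3411 (flp_g L90957) q2114, e3 q3412 L90969 q3406, e3 q3413 L107200 q5759, e3 q3414 (flp_g L91035) q3421, e3 q3415 (flp_g L90987) q2116, e3 q3416 L107226 q5763, e3 q3417 (flp_g L91001) q2117, e3 q3418 L107263 q5767, e3 q3419 (flp_g L91016) q2118, e3 q3420 L91027 q2124, e3 q3421 L91035 q3414, e3 q3422 (flp_g L91361) q3481, e3 q3423 (flp_g L91047) q2120, e3 q3424 L107324 q5776, e3 q3425 (flp_g L107242) q5764, e3 q3426 L107344 q5781, e3 q3427 (flp_g L91070) q2123, e3 q3428 (flp_g L107277) q5769, e3 q3429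 L107375 q5785, e3 q3430 L107392 q5787, e3 q3431 (flp_g L93141) q3782, e3 q3432 (flp_g L91099) q2125, e3 q3433 L107423 q5793, e3 q3434 (flp_g L91179) q3447, e3 q3435 (flp_g L91115) q2126, e3 q3436 L107441 q5795, e3 q3437 (flp_g L107406) q5789, e3 q3438 L107467 q5801, e3 q3439 L107477 q5803, e3 q3440 L107487 q5804, e3 q3441 (flp_g L91139) q2129, e3 q3442 L107513 q5807, e3 q3443 (flp_g L91149) q2130, e3 q3444 L107549 q5810, e3 q3445 (flp_g L91161) q2131, e3 q3446 L91171 q2140, e3 q3447 L91179 q3434, e3 q3448 (flp_g L91247) q3464, e3 q3449 (flp_g L91186) q2133, e3 q3450 (flp_g L107579) q5814, e3 q3451 L91194 q2143, e3 q3452 L91256 q3466, e3 q3453 L107599 q5821, e3 q3454 L107615 q5824, e3 q3455 (flp_g L107527) q5808, trivial⟩ (by decide +kernel)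

theorem ce_g_54 : ∀ r, r < 64 → sm gg (Qf (3456 + r)) = Qf (tab Gen.g (3456 + r)) :=
  edges_tab (sm gg) Qf (tab Gen.g) 3456 [(3456, 5830), (3457, 5831), (3458, 2139), (3459, 5642), (3460, 4119), (3461, 5837), (3462, 5839), (3463, 2141), (3464, 3448), (3465, 5843), (3466, 3452), (3467, 2144), (3468, 5848), (3469, 2155), (3470, 3496), (3471, 5855), (3472, 2147), (3473, 5856), (3474, 2161), (3475, 2162), (3476, 3502), (3477, 5867), (3478, 5868), (3479, 2151), (3480, 2178), (3481, 3422), (3482, 5873), (3483, 5875), (3484, 2153), (3485, 5876), (3486, 5849), (3487, 5850), (3488, 5886), (3489, 5889), (3490, 5893), (3491, 5896), (3492, 2157), (3493, 5900), (3494, 2158), (3495, 2160), (3496, 3470), (3497, 5902), (3498, 5903), (3499, 5911), (3500, 5915), (3501, 5861), (3502, 3476), (3503, 5862), (3504, 5923), (3505, 5926), (3506, 2163), (3507, 5930), (3508, 5932), (3509, 2164), (3510, 4391), (3511, 4384), (3512, 4386), (3513, 2293), (3514, 3514), (3515, 3515), (3516, 4411), (3517, 4412), (3518, 3518), (3519, 3519)]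
    ⟨e3 q3456 L107641 q5830, e3 q3457 L107653 q5831, e3 q3458 (flp_g L91217) q2139, e3 q3459 (flp_g L150608) q5642, e3 q3460 L148599 q4119, e3 q3461 L107689 q5837, e3 q3462 L107706 q5839, e3 q3463 (flp_g L91235) q2141, e3 q3464 L91247 q3448, e3 q3465 L107721 q5843, e3 q3466 (flp_g L91256) q3452, e3 q3467 (flp_g L91258) q2144, e3 q3468 L107747 q5848, e3 q3469 L91279 q2155, e3 q3470 (flp_g L91431) q3496, e3 q3471 L107793 q5855, e3 q3472 (flp_g L91295) q2147, e3 q3473 (flp_g L107803) q5856, e3 q3474 L91307 q2161, e3 q3475 L91313 q2162, e3 q3476 L91465 q3502, e3 q3477 L107865 q5867, e3 q3478 L107873 q5868, e3 q3479 (flp_g L91335) q2151, e3 q3480 L91349 q2178, e3 q3481 L91361 q3422, e3 q3482 L107923 q5873, e3 q3483 L107939 q5875, e3 q3484 (flp_g L91369) q2153, e3 q3485 (flp_g L107951) q5876, e3 q3486 (flp_g L107759) q5849, e3 q3487 (flp_g L107765) q5850, e3 q3488 L108001 q5886, e3 q3489 L108017 q5889, e3 q3490 L108035 q5893, e3 q3491 L108047 q5896, e3 q3492 (flp_g L91401) q2157, e3 q3493 L108071 q5900, e3 q3494 (flp_g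 L91413) q2158, e3 q3495 L91423 q2160, e3 q3496 L91431 q3470, e3 q3497 (flp_g L108089) q5902, e3 q3498 (flp_g L108095) q5903, e3 q3499 L108134 q5911, e3 q3500 L108154 q5915, e3 q3501 (flp_g L107831) q5861, e3 q3502 (flp_g L91465) q3476, e3 q3503 (flp_g L107837) q5862, e3 q3504 L108194 q5923, e3 q3505 L108216 q5926, e3 q3506 (flp_g L91483) q2163, e3 q3507 L108234 q5930, e3 q3508 L108246 q5932, e3 q3509 (flp_g L91501) q2164, e3 q3510 (flp_g L96675) q4391, e3 q3511 (flp_g L96639) q4384, e3 q3512 (flp_g L96649) q4386, e3 q3513 L91529 q2293, e3 q3514 L91539 q3514, e3 q3515 L91542 q3515, e3 q3516 (flp_g L96805) q4411, e3 q3517 (flp_g L96809) q4412, e3 q3518 L91565 q3518, e3 q3519 L91568 q3519, trivial⟩ (by decide +kernel)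

theorem ce_g_55 : ∀ r, r < 64 → sm gg (Qf (3520 + r)) = Qf (tab Gen.g (3520 + r)) :=
  edges_tab (sm gg) Qf (tab Gen.g) 3520 [(3520, 5948), (3521, 2197), (3522, 5950), (3523, 4489), (3524, 2177), (3525, 2693), (3526, 2692), (3527, 4522), (3528, 3574), (3529, 5952), (3530, 2179), (3531, 5953), (3532, 2203), (3533, 2204), (3534, 3580), (3535, 5961), (3536, 5962), (3537, 3599), (3538, 5966), (3539, 2184), (3540, 2186), (3541, 5968), (3542, 5969), (3543, 5976), (3544, 3341), (3545, 2218), (3546, 2220), (3547, 3616), (3548, 5985), (3549, 5988), (3550, 5990), (3551, 2190), (3552, 5992), (3553, 2194), (3554, 5994), (3555, 5995), (3556, 2193), (3557, 3558), (3558, 3557), (3559, 5997), (3560, 5998), (3561, 5999), (3562, 2195), (3563, 6000), (3564, 3100), (3565, 3653), (3566, 5208), (3567, 6009), (3568, 5655), (3569, 6010), (3570, 2199), (3571, 6013), (3572, 2200), (3573, 2202), (3574, 3528), (3575, 6016), (3576, 6017), (3577, 6025), (3578, 3336), (3579, 3655), (3580, 3534), (3581, 5393), (3582, 6031), (3583, 6034)]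
    ⟨e3 q3520 L108417 q5948, e3 q3521 L91619 q2197, e3 q3522 L108449 q5950, e3 q3523 (flp_g L97234) q4489, e3 q3524 (flp_g L91658) q2177, e3 q3525 (flp_g L150454) q2693, e3 q3526 L150380 q2692, e3 q3527 L150364 q4522, e3 q3528 (flp_g L91878) q3574, e3 q3529 L108503 q5952, e3 q3530 (flp_g L91678) q2179, e3 q3531 (flp_g L108511) q5953, e3 q3532 L91690 q2203, e3 q3533 L91694 q2204, e3 q3534 L91906 q3580, e3 q3535 L108563 q5961, e3 q3536 L108585 q5962, e3 q3537 (flp_g L91980) q3599, e3 q3538 L108605 q5966, e3 q3539 (flp_g L91720) q2184, e3 q3540 L91726 q2186, e3 q3541 (flp_g L108615) q5968, e3 q3542 (flp_g L108619) q5969, e3 q3543 L108643 q5976, e3 q3544 L148048 q3341, e3 q3545 L91744 q2218, e3 q3546 L91750 q2220, e3 q3547 L92041 q3616, e3 q3548 L108693 q5985, e3 q3549 L108701 q5988, e3 q3550 L108711 q5990, e3 q3551 (flp_g L91766) q2190, e3 q3552 L108737 q5992, e3 q3553 L91784 q2194, e3 q3554 L108773 q5994, e3 q3555 L108785 q5995, e3 q3556 (flp_g L91794) q2193, e3 q3557 L148176 q3558, e3 q3558 (flp_g L148176) q3557,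 e3 q3559 (flp_g L148167) q5997, e3 q3560 L108845 q5998, e3 q3561 L108857 q5999, e3 q3562 (flp_g L91820) q2195, e3 q3563 (flp_g L108867) q6000, e3 q3564 (flp_g L148094) q3100, e3 q3565 L147858 q3653, e3 q3566 L147789 q5208, e3 q3567 L108945 q6009, e3 q3568 (flp_g L150536) q5655, e3 q3569 L108971 q6010, e3 q3570 (flp_g L91852) q2199, e3 q3571 L108987 q6013, e3 q3572 (flp_g L91862) q2200, e3 q3573 L91870 q2202, e3 q3574 L91878 q3528, e3 q3575 (flp_g L109005) q6016, e3 q3576 (flp_g L109009) q6017, e3 q3577 L109041 q6025, e3 q3578 (flp_g L147892) q3336, e3 q3579 (flp_g L147751) q3655, e3 q3580 (flp_g L91906) q3534, e3 q3581 L148139 q5393, e3 q3582 L109091 q6031, e3 q3583 L109109 q6034, trivial⟩ (by decide +kernel)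

theorem ce_g_56 : ∀ r, r < 64 → sm gg (Qf (3584 + r)) = Qf (tab Gen.g (3584 + r)) :=
  edges_tab (sm gg) Qf (tab Gen.g) 3584 [(3584, 2205), (3585, 6038), (3586, 6040), (3587, 2206), (3588, 5652), (3589, 6043), (3590, 6044), (3591, 2207), (3592, 5450), (3593, 6049), (3594, 2208), (3595, 6045), (3596, 6055), (3597, 6056), (3598, 2210), (3599, 3537), (3600, 2214), (3601, 2215), (3602, 3606), (3603, 6066), (3604, 6070), (3605, 6060), (3606, 3602), (3607, 6061), (3608, 6078), (3609, 2216), (3610, 6080), (3611, 3065), (3612, 6083), (3613, 2217), (3614, 3247), (3615, 5979), (3616, 3547), (3617, 6091), (3618, 2951), (3619, 5980), (3620, 6095), (3621, 2221), (3622, 3631), (3623, 6100), (3624, 2222), (3625, 6101), (3626, 6108), (3627, 6111), (3628, 2224), (3629, 6115), (3630, 2225), (3631, 3622), (3632, 5080), (3633, 2869), (3634, 6123), (3635, 4771), (3636, 4776), (3637, 4777), (3638, 2947), (3639, 2378), (3640, 6132), (3641, 3641), (3642, 3642), (3643, 3643), (3644, 6137), (3645, 6141), (3646, 6015), (3647, 6142)]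
    ⟨e3 q3584 (flp_g L91920) q2205, e3 q3585 L109125 q6038, e3 q3586 L109135 q6040, e3 q3587 (flp_g L91934) q2206, e3 q3588 (flp_g L150498) q5652, e3 q3589 L109169 q6043, e3 q3590 L109173 q6044, e3 q3591 (flp_g L91946) q2207, e3 q3592 (flp_g L119385) q5450, e3 q3593 L109207 q6049, e3 q3594 (flp_g L91954) q2208, e3 q3595 (flp_g L109179) q6045, e3 q3596 L109239 q6055, e3 q3597 L109243 q6056, e3 q3598 (flp_g L91970) q2210, e3 q3599 L91980 q3537, e3 q3600 L91984 q2214, e3 q3601 L91988 q2215, e3 q3602 L92004 q3606, e3 q3603 L109281 q6066, e3 q3604 L109291 q6070, e3 q3605 (flp_g L109263) q6060, e3 q3606 (flp_g L92004) q3602, e3 q3607 (flp_g L109267) q6061, e3 q3608 L109324 q6078, e3 q3609 (flp_g L92015) q2216, e3 q3610 L109344 q6080, e3 q3611 L147951 q3065, e3 q3612 L109366 q6083, e3 q3613 (flp_g L92027) q2217, e3 q3614 (flp_g L148001) q3247, e3 q3615 (flp_g L108665) q5979, e3 q3616 (flp_g L92041) q3547, e3 q3617 L109410 q6091, e3 q3618 (flp_g L147553) q2951, e3 q3619 (flp_g L108675) q5980, e3 q3620 L109436 q6095, e3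 q3621 (flp_g L92055) q2221, e3 q3622 (flp_g L92100) q3631, e3 q3623 L109458 q6100, e3 q3624 (flp_g L92071) q2222, e3 q3625 (flp_g L109464) q6101, e3 q3626 L109482 q6108, e3 q3627 L109490 q6111, e3 q3628 (flp_g L92081) q2224, e3 q3629 L109506 q6115, e3 q3630 (flp_g L92091) q2225, e3 q3631 L92100 q3622, e3 q3632 (flp_g L119057) q5080, e3 q3633 L92112 q2869, e3 q3634 L109566 q6123, e3 q3635 (flp_g L98714) q4771, e3 q3636 (flp_g L98736) q4776, e3 q3637 (flp_g L98740) q4777, e3 q3638 (flp_g L148212) q2947, e3 q3639 L92139 q2378, e3 q3640 L109624 q6132, e3 q3641 L92149 q3641, e3 q3642 L92152 q3642, e3 q3643 L92155 q3643, e3 q3644 L109655 q6137, e3 q3645 L109673 q6141, e3 q3646 (flp_g L119695) q6015, e3 q3647 L109693 q6142, trivial⟩ (by decide +kernel)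

theorem ce_g_57 : ∀ r, r < 64 → sm gg (Qf (3648 + r)) = Qf (tab Gen.g (3648 + r)) :=
  edges_tab (sm gg) Qf (tab Gen.g) 3648 [(3648, 2235), (3649, 2832), (3650, 4847), (3651, 6147), (3652, 4837), (3653, 3565), (3654, 6154), (3655, 3579), (3656, 6005), (3657, 2239), (3658, 2410), (3659, 2412), (3660, 6160), (3661, 3661), (3662, 3669), (3663, 2243), (3664, 6165), (3665, 2244), (3666, 6168), (3667, 2245), (3668, 2251), (3669, 3662), (3670, 6174), (3671, 3684), (3672, 2247), (3673, 6179), (3674, 6166), (3675, 6184), (3676, 6186), (3677, 2250), (3678, 3679), (3679, 3678), (3680, 6190), (3681, 6192), (3682, 2252), (3683, 3683), (3684, 3671), (3685, 3714), (3686, 6200), (3687, 2254), (3688, 6201), (3689, 2269), (3690, 2270), (3691, 3717), (3692, 6212), (3693, 6216), (3694, 3732), (3695, 6221), (3696, 2259), (3697, 2261), (3698, 6223), (3699, 6224), (3700, 6231), (3701, 6235), (3702, 2279), (3703, 2281), (3704, 3739), (3705, 6244), (3706, 6247), (3707, 6249), (3708, 2265), (3709, 6252), (3710, 6255), (3711, 2266)]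
    ⟨e3 q3648 (flp_g L92170) q2235, e3 q3649 L92180 q2832, e3 q3650 (flp_g L99137) q4847, e3 q3651 L109760 q6147, e3 q3652 (flp_g L99043) q4837, e3 q3653 (flp_g L147858) q3565, e3 q3654 L109804 q6154, e3 q3655 L147751 q3579, e3 q3656 (flp_g L148083) q6005, e3 q3657 (flp_g L92241) q2239, e3 q3658 L92253 q2410, e3 q3659 L92257 q2412, e3 q3660 L109890 q6160, e3 q3661 L92294 q3661, e3 q3662 (flp_g L92466) q3669, e3 q3663 (flp_g L92424) q2243, e3 q3664 L110069 q6165, e3 q3665 (flp_g L92436) q2244, e3 q3666 L110099 q6168, e3 q3667 (flp_g L92448) q2245, e3 q3668 L92458 q2251, e3 q3669 L92466 q3662, e3 q3670 L110137 q6174, e3 q3671 (flp_g L92563) q3684, e3 q3672 (flp_g L92482) q2247, e3 q3673 L110162 q6179, e3 q3674 (flp_g L110085) q6166, e3 q3675 L110192 q6184, e3 q3676 L110208 q6186, e3 q3677 (flp_g L92517) q2250, e3 q3678 L150115 q3679, e3 q3679 (flp_g L150115) q3678, e3 q3680 (flp_g L150278) q6190, e3 q3681 L110264 q6192, e3 q3682 (flp_g L92539) q2252, e3 q3683 L92553 q3683, e3 q3684 L92563 q3671, e3 q3685 (flp_g L92740)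 q3714, e3 q3686 L110317 q6200, e3 q3687 (flp_g L92579) q2254, e3 q3688 (flp_g L110329) q6201, e3 q3689 L92597 q2269, e3 q3690 L92603 q2270, e3 q3691 L92762 q3717, e3 q3692 L110391 q6212, e3 q3693 L110413 q6216, e3 q3694 (flp_g L92851) q3732, e3 q3695 L110437 q6221, e3 q3696 (flp_g L92633) q2259, e3 q3697 L92643 q2261, e3 q3698 (flp_g L110449) q6223, e3 q3699 (flp_g L110455) q6224, e3 q3700 L110491 q6231, e3 q3701 L110511 q6235, e3 q3702 L92669 q2279, e3 q3703 L92673 q2281, e3 q3704 L92891 q3739, e3 q3705 L110557 q6244, e3 q3706 L110573 q6247, e3 q3707 L110585 q6249, e3 q3708 (flp_g L92695) q2265, e3 q3709 L110605 q6252, e3 q3710 L110619 q6255, e3 q3711 (flp_g L92713) q2266, trivial⟩ (by decide +kernel)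

theorem ce_g_58 : ∀ r, r < 64 → sm gg (Qf (3712 + r)) = Qf (tab Gen.g (3712 + r)) :=
  edges_tab (sm gg) Qf (tab Gen.g) 3712 [(3712, 6259), (3713, 2267), (3714, 3685), (3715, 6264), (3716, 6206), (3717, 3691), (3718, 6207), (3719, 6273), (3720, 2271), (3721, 6276), (3722, 6277), (3723, 2272), (3724, 6282), (3725, 6285), (3726, 2273), (3727, 6278), (3728, 6292), (3729, 6293), (3730, 2275), (3731, 2289), (3732, 3694), (3733, 6301), (3734, 6303), (3735, 6305), (3736, 2278), (3737, 6309), (3738, 6237), (3739, 3704), (3740, 6316), (3741, 6238), (3742, 6239), (3743, 6322), (3744, 6324), (3745, 2282), (3746, 4326), (3747, 6332), (3748, 6336), (3749, 6337), (3750, 2284), (3751, 4393), (3752, 6338), (3753, 2287), (3754, 6294), (3755, 6296), (3756, 6348), (3757, 6352), (3758, 6356), (3759, 6358), (3760, 2290), (3761, 3776), (3762, 6361), (3763, 2633), (3764, 6365), (3765, 6367), (3766, 2295), (3767, 6372), (3768, 6376), (3769, 6377), (3770, 2296), (3771, 2623), (3772, 6382), (3773, 6386), (3774, 6387), (3775, 2298)]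
    ⟨e3 q3712 L110642 q6259, e3 q3713 (flp_g L92726) q2267, e3 q3714 L92740 q3685, e3 q3715 L110673 q6264, e3 q3716 (flp_g L110361) q6206, e3 q3717 (flp_g L92762) q3691, e3 q3718 (flp_g L110365) q6207, e3 q3719 L110719 q6273, e3 q3720 (flp_g L92773) q2271, e3 q3721 L110743 q6276, e3 q3722 L110751 q6277, e3 q3723 (flp_g L92795) q2272, e3 q3724 L110789 q6282, e3 q3725 L110809 q6285, e3 q3726 (flp_g L92811) q2273, e3 q3727 (flp_g L110761) q6278, e3 q3728 L110847 q6292, e3 q3729 L110851 q6293, e3 q3730 (flp_g L92833) q2275, e3 q3731 L92841 q2289, e3 q3732 L92851 q3694, e3 q3733 L110895 q6301, e3 q3734 L110909 q6303, e3 q3735 L110923 q6305, e3 q3736 (flp_g L92871) q2278, e3 q3737 L110957 q6309, e3 q3738 (flp_g L110525) q6237, e3 q3739 (flp_g L92891) q3704, e3 q3740 L110997 q6316, e3 q3741 (flp_g L110529) q6238, e3 q3742 (flp_g L110533) q6239, e3 q3743 L111031 q6322, e3 q3744 L111045 q6324, e3 q3745 (flp_g L92915) q2282, e3 q3746 (flp_g L96307) q4326, e3 q3747 L111088 q6332, e3 q3748 L111107 q6336, e3 q3749 L111111 q6337,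 e3 q3750 (flp_g L92943) q2284, e3 q3751 (flp_g L96691) q4393, e3 q3752 (flp_g L111122) q6338, e3 q3753 (flp_g L92958) q2287, e3 q3754 (flp_g L110861) q6294, e3 q3755 (flp_g L110875) q6296, e3 q3756 L111175 q6348, e3 q3757 L111204 q6352, e3 q3758 L111223 q6356, e3 q3759 L111233 q6358, e3 q3760 (flp_g L92996) q2290, e3 q3761 (flp_g L93109) q3776, e3 q3762 L111253 q6361, e3 q3763 (flp_g L93017) q2633, e3 q3764 L111271 q6365, e3 q3765 L111281 q6367, e3 q3766 (flp_g L93029) q2295, e3 q3767 L111317 q6372, e3 q3768 L111341 q6376, e3 q3769 L111347 q6377, e3 q3770 (flp_g L93055) q2296, e3 q3771 L93071 q2623, e3 q3772 L111381 q6382, e3 q3773 L111405 q6386, e3 q3774 L111411 q6387, e3 q3775 (flp_g L93093) q2298, trivial⟩ (by decide +kernel)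

theorem ce_g_59 : ∀ r, r < 64 → sm gg (Qf (3776 + r)) = Qf (tab Gen.g (3776 + r)) :=
  edges_tab (sm gg) Qf (tab Gen.g) 3776 [(3776, 3761), (3777, 6390), (3778, 2644), (3779, 6394), (3780, 2302), (3781, 5773), (3782, 3431), (3783, 2304), (3784, 6399), (3785, 3791), (3786, 4711), (3787, 6403), (3788, 2308), (3789, 2309), (3790, 4473), (3791, 3785), (3792, 2313), (3793, 4668), (3794, 6409), (3795, 6410), (3796, 2314), (3797, 6415), (3798, 3850), (3799, 6418), (3800, 6419), (3801, 2316), (3802, 5967), (3803, 2319), (3804, 2320), (3805, 3808), (3806, 4665), (3807, 6425), (3808, 3805), (3809, 6426), (3810, 6435), (3811, 2321), (3812, 4453), (3813, 6440), (3814, 6441), (3815, 2322), (3816, 6446), (3817, 2347), (3818, 2350), (3819, 2351), (3820, 3866), (3821, 6454), (3822, 3830), (3823, 6458), (3824, 2326), (3825, 2730), (3826, 6462), (3827, 2327), (3828, 6465), (3829, 2328), (3830, 3822), (3831, 3835), (3832, 2330), (3833, 2331), (3834, 2336), (3835, 3831), (3836, 6471), (3837, 4562), (3838, 2333), (3839, 6473)]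
    ⟨e3 q3776 L93109 q3761, e3 q3777 L111433 q6390, e3 q3778 L93123 q2644, e3 q3779 L111459 q6394, e3 q3780 (flp_g L93127) q2302, e3 q3781 (flp_g L107306) q5773, e3 q3782 L93141 q3431, e3 q3783 (flp_g L93143) q2304, e3 q3784 (flp_g L111479) q6399, e3 q3785 L93209 q3791, e3 q3786 L98395 q4711, e3 q3787 L111511 q6403, e3 q3788 (flp_g L93175) q2308, e3 q3789 (flp_g L93185) q2309, e3 q3790 L97897 q4473, e3 q3791 (flp_g L93209) q3785, e3 q3792 (flp_g L150241) q2313, e3 q3793 (flp_g L98189) q4668, e3 q3794 L111583 q6409, e3 q3795 L111587 q6410, e3 q3796 (flp_g L93237) q2314, e3 q3797 L111621 q6415, e3 q3798 (flp_g L93510) q3850, e3 q3799 L111637 q6418, e3 q3800 L111645 q6419, e3 q3801 (flp_g L93257) q2316, e3 q3802 (flp_g L108611) q5967, e3 q3803 L93267 q2319, e3 q3804 L93271 q2320, e3 q3805 L93291 q3808, e3 q3806 L98169 q4665, e3 q3807 (flp_g L111673) q6425, e3 q3808 (flp_g L93291) q3805, e3 q3809 (flp_g L111677) q6426, e3 q3810 L111713 q6435, e3 q3811 (flp_g L93303) q2321, e3 q3812 L97903 q4453, e3 q3813 L111735 q6440,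 e3 q3814 L111739 q6441, e3 q3815 (flp_g L93321) q2322, e3 q3816 L111765 q6446, e3 q3817 L93333 q2347, e3 q3818 L93337 q2350, e3 q3819 L93341 q2351, e3 q3820 L93603 q3866, e3 q3821 L111805 q6454, e3 q3822 (flp_g L93395) q3830, e3 q3823 L111825 q6458, e3 q3824 (flp_g L93359) q2326, e3 q3825 L93381 q2730, e3 q3826 L111839 q6462, e3 q3827 (flp_g L93371) q2327, e3 q3828 L111851 q6465, e3 q3829 (flp_g L93385) q2328, e3 q3830 L93395 q3822, e3 q3831 (flp_g L93433) q3835, e3 q3832 (flp_g L93405) q2330, e3 q3833 (flp_g L93413) q2331, e3 q3834 L93423 q2336, e3 q3835 L93433 q3831, e3 q3836 L111901 q6471, e3 q3837 (flp_g L97595) q4562, e3 q3838 (flp_g L93448) q2333, e3 q3839 L111912 q6473, trivial⟩ (by decide +kernel)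

theorem ce_g_60 : ∀ r, r < 64 → sm gg (Qf (3840 + r)) = Qf (tab Gen.g (3840 + r)) :=
  edges_tab (sm gg) Qf (tab Gen.g) 3840 [(3840, 2334), (3841, 6472), (3842, 4545), (3843, 6468), (3844, 2705), (3845, 6485), (3846, 6487), (3847, 2337), (3848, 2338), (3849, 2367), (3850, 3798), (3851, 2368), (3852, 3910), (3853, 6497), (3854, 4519), (3855, 6500), (3856, 2342), (3857, 3861), (3858, 2343), (3859, 4508), (3860, 2344), (3861, 3857), (3862, 5187), (3863, 4664), (3864, 2346), (3865, 6447), (3866, 3820), (3867, 6511), (3868, 6469), (3869, 6515), (3870, 2349), (3871, 2920), (3872, 6448), (3873, 6521), (3874, 6523), (3875, 3907), (3876, 2352), (3877, 3939), (3878, 2353), (3879, 6527), (3880, 4654), (3881, 4655), (3882, 6534), (3883, 6535), (3884, 6539), (3885, 3893), (3886, 2356), (3887, 6543), (3888, 6545), (3889, 6546), (3890, 2357), (3891, 2358), (3892, 2362), (3893, 3885), (3894, 2360), (3895, 6547), (3896, 6550), (3897, 6557), (3898, 3929), (3899, 5034), (3900, 2377), (3901, 2363), (3902, 6560), (3903, 2364)]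
    ⟨e3 q3840 (flp_g L93458) q2334, e3 q3841 (flp_g L111910) q6472, e3 q3842 (flp_g L97502) q4545, e3 q3843 (flp_g L111875) q6468, e3 q3844 (flp_g L93480) q2705, e3 q3845 L111980 q6485, e3 q3846 L111986 q6487, e3 q3847 (flp_g L93490) q2337, e3 q3848 (flp_g L93494) q2338, e3 q3849 L93502 q2367, e3 q3850 L93510 q3798, e3 q3851 L93514 q2368, e3 q3852 L93785 q3910, e3 q3853 L112048 q6497, e3 q3854 L97891 q4519, e3 q3855 L112058 q6500, e3 q3856 (flp_g L93526) q2342, e3 q3857 (flp_g L93580) q3861, e3 q3858 (flp_g L93542) q2343, e3 q3859 L97321 q4508, e3 q3860 (flp_g L93568) q2344, e3 q3861 L93580 q3857, e3 q3862 (flp_g L150399) q5187, e3 q3863 L102078 q4664, e3 q3864 (flp_g L93591) q2346, e3 q3865 (flp_g L111773) q6447, e3 q3866 (flp_g L93603) q3820, e3 q3867 L112166 q6511, e3 q3868 L111885 q6469, e3 q3869 L112190 q6515, e3 q3870 (flp_g L93613) q2349, e3 q3871 (flp_g L147632) q2920, e3 q3872 (flp_g L111781) q6448, e3 q3873 L112224 q6521, e3 q3874 L112240 q6523, e3 q3875 (flp_g L149120) q3907, e3 q3876 (flp_g L93643) q2352,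 e3 q3877 (flp_g L93913) q3939, e3 q3878 (flp_g L93655) q2353, e3 q3879 (flp_g L112270) q6527, e3 q3880 (flp_g L98055) q4654, e3 q3881 (flp_g L98059) q4655, e3 q3882 L112292 q6534, e3 q3883 L112314 q6535, e3 q3884 L112334 q6539, e3 q3885 (flp_g L93719) q3893, e3 q3886 (flp_g L93686) q2356, e3 q3887 L112352 q6543, e3 q3888 L112360 q6545, e3 q3889 L112364 q6546, e3 q3890 (flp_g L93701) q2357, e3 q3891 (flp_g L93705) q2358, e3 q3892 L93712 q2362, e3 q3893 L93719 q3885, e3 q3894 (flp_g L93721) q2360, e3 q3895 (flp_g L112374) q6547, e3 q3896 (flp_g L112388) q6550, e3 q3897 L112418 q6557, e3 q3898 (flp_g L146570) q3929, e3 q3899 (flp_g L119175) q5034, e3 q3900 (flp_g L148333) q2377, e3 q3901 (flp_g L93747) q2363, e3 q3902 L112464 q6560, e3 q3903 (flp_g L93751) q2364, trivial⟩ (by decide +kernel)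

theorem ce_g_61 : ∀ r, r < 64 → sm gg (Qf (3904 + r)) = Qf (tab Gen.g (3904 + r)) :=
  edges_tab (sm gg) Qf (tab Gen.g) 3904 [(3904, 6559), (3905, 6489), (3906, 6491), (3907, 3875), (3908, 6570), (3909, 6572), (3910, 3852), (3911, 2369), (3912, 5562), (3913, 6578), (3914, 3922), (3915, 2370), (3916, 5109), (3917, 6584), (3918, 6586), (3919, 2371), (3920, 6589), (3921, 2372), (3922, 3914), (3923, 2850), (3924, 5505), (3925, 6595), (3926, 2376), (3927, 2970), (3928, 2986), (3929, 3898), (3930, 6128), (3931, 2852), (3932, 6603), (3933, 6606), (3934, 5581), (3935, 5537), (3936, 2381), (3937, 6609), (3938, 2382), (3939, 3877), (3940, 6612), (3941, 4093), (3942, 2385), (3943, 6614), (3944, 6620), (3945, 6622), (3946, 6624), (3947, 3957), (3948, 2388), (3949, 6627), (3950, 6628), (3951, 2389), (3952, 6632), (3953, 6633), (3954, 2390), (3955, 2391), (3956, 2397), (3957, 3947), (3958, 6641), (3959, 2393), (3960, 6629), (3961, 2870), (3962, 2395), (3963, 6634), (3964, 6637), (3965, 6638), (3966, 6653), (3967, 2442)]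
    ⟨e3 q3904 (flp_g L112456) q6559, e3 q3905 (flp_g L112008) q6489, e3 q3906 (flp_g L112022) q6491, e3 q3907 L149120 q3875, e3 q3908 L112524 q6570, e3 q3909 L112538 q6572, e3 q3910 (flp_g L93785) q3852, e3 q3911 (flp_g L93787) q2369, e3 q3912 (flp_g L150440) q5562, e3 q3913 L112578 q6578, e3 q3914 (flp_g L93839) q3922, e3 q3915 (flp_g L93806) q2370, e3 q3916 (flp_g L148488) q5109, e3 q3917 L112604 q6584, e3 q3918 L112614 q6586, e3 q3919 (flp_g L93821) q2371, e3 q3920 L112632 q6589, e3 q3921 (flp_g L93829) q2372, e3 q3922 L93839 q3914, e3 q3923 L93847 q2850, e3 q3924 (flp_g L151370) q5505, e3 q3925 L112656 q6595, e3 q3926 (flp_g L93855) q2376, e3 q3927 (flp_g L146547) q2970, e3 q3928 (flp_g L146595) q2986, e3 q3929 L146570 q3898, e3 q3930 (flp_g L109606) q6128, e3 q3931 L93877 q2852, e3 q3932 L112728 q6603, e3 q3933 L112740 q6606, e3 q3934 (flp_g L151415) q5581, e3 q3935 (flp_g L149098) q5537, e3 q3936 (flp_g L93891) q2381, e3 q3937 L112784 q6609, e3 q3938 (flp_g L93899) q2382, e3 q3939 L93913 q3877, e3 q3940 L112811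 q6612, e3 q3941 L142659 q4093, e3 q3942 (flp_g L93972) q2385, e3 q3943 (flp_g L112898) q6614, e3 q3944 L112956 q6620, e3 q3945 L112976 q6622, e3 q3946 L112996 q6624, e3 q3947 (flp_g L94080) q3957, e3 q3948 (flp_g L94030) q2388, e3 q3949 L113018 q6627, e3 q3950 L113022 q6628, e3 q3951 (flp_g L94044) q2389, e3 q3952 L113050 q6632, e3 q3953 L113054 q6633, e3 q3954 (flp_g L94058) q2390, e3 q3955 (flp_g L94064) q2391, e3 q3956 L94072 q2397, e3 q3957 L94080 q3947, e3 q3958 L113094 q6641, e3 q3959 (flp_g L94088) q2393, e3 q3960 (flp_g L113032) q6629, e3 q3961 (flp_g L94110) q2870, e3 q3962 (flp_g L94112) q2395, e3 q3963 (flp_g L113066) q6634, e3 q3964 (flp_g L113082) q6637, e3 q3965 (flp_g L113086) q6638, e3 q3966 L113170 q6653, e3 q3967 L94150 q2442, trivial⟩ (by decide +kernel)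

theorem ce_g_62 : ∀ r, r < 64 → sm gg (Qf (3968 + r)) = Qf (tab Gen.g (3968 + r)) :=
  edges_tab (sm gg) Qf (tab Gen.g) 3968 [(3968, 2444), (3969, 2445), (3970, 5081), (3971, 3971), (3972, 3026), (3973, 6664), (3974, 6668), (3975, 3062), (3976, 4057), (3977, 3987), (3978, 2405), (3979, 6675), (3980, 5157), (3981, 2406), (3982, 6680), (3983, 6682), (3984, 2407), (3985, 6685), (3986, 2408), (3987, 3977), (3988, 6156), (3989, 2887), (3990, 6689), (3991, 3021), (3992, 2888), (3993, 6693), (3994, 6640), (3995, 6696), (3996, 2414), (3997, 2906), (3998, 2914), (3999, 2915), (4000, 6703), (4001, 2418), (4002, 2419), (4003, 2420), (4004, 6706), (4005, 6708), (4006, 6709), (4007, 6710), (4008, 2423), (4009, 2424), (4010, 6711), (4011, 6635), (4012, 2427), (4013, 2428), (4014, 2435), (4015, 5680), (4016, 2437), (4017, 2438), (4018, 4028), (4019, 5738), (4020, 2433), (4021, 6717), (4022, 6719), (4023, 6720), (4024, 5688), (4025, 6743), (4026, 6747), (4027, 6726), (4028, 4018), (4029, 6727), (4030, 5426), (4031, 6756)]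
    ⟨e3 q3968 L94158 q2444, e3 q3969 L94164 q2445, e3 q3970 L146673 q5081, e3 q3971 L94173 q3971, e3 q3972 (flp_g L148310) q3026, e3 q3973 L113344 q6664, e3 q3974 L113384 q6668, e3 q3975 (flp_g L148514) q3062, e3 q3976 (flp_g L148536) q4057, e3 q3977 (flp_g L94331) q3987, e3 q3978 (flp_g L94281) q2405, e3 q3979 L113446 q6675, e3 q3980 (flp_g L146269) q5157, e3 q3981 (flp_g L94295) q2406, e3 q3982 L113478 q6680, e3 q3983 L113488 q6682, e3 q3984 (flp_g L94309) q2407, e3 q3985 L113516 q6685, e3 q3986 (flp_g L94319) q2408, e3 q3987 L94331 q3977, e3 q3988 (flp_g L109840) q6156, e3 q3989 L94347 q2887, e3 q3990 L113546 q6689, e3 q3991 (flp_g L148278) q3021, e3 q3992 (flp_g L94369) q2888, e3 q3993 L113570 q6693, e3 q3994 (flp_g L149624) q6640, e3 q3995 L113592 q6696, e3 q3996 (flp_g L94381) q2414, e3 q3997 L136746 q2906, e3 q3998 L94409 q2914, e3 q3999 L94415 q2915, e3 q4000 L113645 q6703, e3 q4001 (flp_g L94433) q2418, e3 q4002 (flp_g L94451) q2419, e3 q4003 (flp_g L94456) q2420, e3 q4004 L113727 q6706, e3 q4005 L113745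 q6708, e3 q4006 L113757 q6709, e3 q4007 L113765 q6710, e3 q4008 (flp_g L94482) q2423, e3 q4009 (flp_g L94494) q2424, e3 q4010 (flp_g L113771) q6711, e3 q4011 L120156 q6635, e3 q4012 (flp_g L94510) q2427, e3 q4013 (flp_g L94514) q2428, e3 q4014 L94524 q2435, e3 q4015 (flp_g L106683) q5680, e3 q4016 L94538 q2437, e3 q4017 L94542 q2438, e3 q4018 L94598 q4028, e3 q4019 (flp_g L120124) q5738, e3 q4020 (flp_g L94554) q2433, e3 q4021 (flp_g L113847) q6717, e3 q4022 (flp_g L113865) q6719, e3 q4023 (flp_g L113871) q6720, e3 q4024 (flp_g L151040) q5688, e3 q4025 L114005 q6743, e3 q4026 L114017 q6747, e3 q4027 (flp_g L113895) q6726, e3 q4028 (flp_g L94598) q4018, e3 q4029 (flp_g L113899) q6727, e3 q4030 (flp_g L153445) q5426, e3 q4031 L114067 q6756, trivial⟩ (by decide +kernel)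

theorem ce_g_63 : ∀ r, r < 64 → sm gg (Qf (4032 + r)) = Qf (tab Gen.g (4032 + r)) :=
  edges_tab (sm gg) Qf (tab Gen.g) 4032 [(4032, 2439), (4033, 6759), (4034, 5101), (4035, 2440), (4036, 4864), (4037, 6654), (4038, 3372), (4039, 6769), (4040, 6656), (4041, 6657), (4042, 6658), (4043, 4087), (4044, 6776), (4045, 3020), (4046, 2490), (4047, 4049), (4048, 2450), (4049, 4047), (4050, 5121), (4051, 5120), (4052, 3382), (4053, 6787), (4054, 2453), (4055, 4060), (4056, 6791), (4057, 3976), (4058, 2458), (4059, 6796), (4060, 4055), (4061, 4078), (4062, 6800), (4063, 2460), (4064, 6801), (4065, 6805), (4066, 2464), (4067, 6809), (4068, 6812), (4069, 6814), (4070, 2465), (4071, 6815), (4072, 6821), (4073, 6824), (4074, 2467), (4075, 5411), (4076, 2468), (4077, 2470), (4078, 4061), (4079, 6828), (4080, 6829), (4081, 6834), (4082, 4868), (4083, 4870), (4084, 5660), (4085, 6843), (4086, 4926), (4087, 4043), (4088, 6847), (4089, 2475), (4090, 6827), (4091, 4876), (4092, 6853), (4093, 3941), (4094, 6856), (4095, 6860)]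
    ⟨e3 q4032 (flp_g L94614) q2439, e3 q4033 L114081 q6759, e3 q4034 (flp_g L133812) q5101, e3 q4035 (flp_g L94628) q2440, e3 q4036 (flp_g L141142) q4864, e3 q4037 (flp_g L113190) q6654, e3 q4038 L94664 q3372, e3 q4039 L114153 q6769, e3 q4040 (flp_g L113200) q6656, e3 q4041 (flp_g L113210) q6657, e3 q4042 (flp_g L113218) q6658, e3 q4043 L94961 q4087, e3 q4044 L114181 q6776, e3 q4045 L141001 q3020, e3 q4046 L148396 q2490, e3 q4047 (flp_g L94749) q4049, e3 q4048 (flp_g L146399) q2450, e3 q4049 L94749 q4047, e3 q4050 (flp_g L148365) q5121, e3 q4051 L146489 q5120, e3 q4052 L148426 q3382, e3 q4053 L114332 q6787, e3 q4054 (flp_g L94761) q2453, e3 q4055 (flp_g L94811) q4060, e3 q4056 L114374 q6791, e3 q4057 L148536 q3976, e3 q4058 (flp_g L148450) q2458, e3 q4059 L114430 q6796, e3 q4060 L94811 q4055, e3 q4061 (flp_g L94897) q4078, e3 q4062 L114454 q6800, e3 q4063 (flp_g L94821) q2460, e3 q4064 (flp_g L114460) q6801, e3 q4065 L114474 q6805, e3 q4066 L94843 q2464, e3 q4067 L114510 q6809, e3 q4068 L114524 q6812, e3 q4069 L114536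 q6814, e3 q4070 (flp_g L94859) q2465, e3 q4071 (flp_g L114546) q6815, e3 q4072 L114578 q6821, e3 q4073 L114586 q6824, e3 q4074 (flp_g L94873) q2467, e3 q4075 (flp_g L152986) q5411, e3 q4076 (flp_g L94883) q2468, e3 q4077 L94891 q2470, e3 q4078 L94897 q4061, e3 q4079 (flp_g L114622) q6828, e3 q4080 (flp_g L114626) q6829, e3 q4081 L114658 q6834, e3 q4082 (flp_g L142034) q4868, e3 q4083 L141021 q4870, e3 q4084 (flp_g L106318) q5660, e3 q4085 L114720 q6843, e3 q4086 (flp_g L100517) q4926, e3 q4087 (flp_g L94961) q4043, e3 q4088 L114740 q6847, e3 q4089 (flp_g L94965) q2475, e3 q4090 (flp_g L114608) q6827, e3 q4091 L137037 q4876, e3 q4092 L114829 q6853, e3 q4093 (flp_g L142659) q3941, e3 q4094 L114865 q6856, e3 q4095 L114883 q6860, trivial⟩ (by decide +kernel)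

theorem ce_g_64 : ∀ r, r < 64 → sm gg (Qf (4096 + r)) = Qf (tab Gen.g (4096 + r)) :=
  edges_tab (sm gg) Qf (tab Gen.g) 4096 [(4096, 6861), (4097, 2479), (4098, 6863), (4099, 2480), (4100, 5091), (4101, 6865), (4102, 2482), (4103, 6868), (4104, 4107), (4105, 2483), (4106, 2484), (4107, 4104), (4108, 6778), (4109, 4109), (4110, 5090), (4111, 6881), (4112, 6882), (4113, 2487), (4114, 4114), (4115, 4115), (4116, 3016), (4117, 6777), (4118, 6887), (4119, 3460), (4120, 4123), (4121, 2491), (4122, 2492), (4123, 4120), (4124, 6517), (4125, 4135), (4126, 2494), (4127, 6895), (4128, 6163), (4129, 6516), (4130, 6900), (4131, 2497), (4132, 6904), (4133, 2498), (4134, 4134), (4135, 4125), (4136, 6911), (4137, 2500), (4138, 2511), (4139, 3114), (4140, 4167), (4141, 6920), (4142, 2502), (4143, 6921), (4144, 2515), (4145, 2516), (4146, 4170), (4147, 6932), (4148, 6936), (4149, 6938), (4150, 6940), (4151, 2506), (4152, 4177), (4153, 2507), (4154, 6947), (4155, 6941), (4156, 6953), (4157, 6955), (4158, 2510), (4159, 6913)]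
    ⟨e3 q4096 L114887 q6861, e3 q4097 (flp_g L95063) q2479, e3 q4098 L114905 q6863, e3 q4099 (flp_g L95072) q2480, e3 q4100 L130689 q5091, e3 q4101 L114931 q6865, e3 q4102 (flp_g L95091) q2482, e3 q4103 L114963 q6868, e3 q4104 (flp_g L95123) q4107, e3 q4105 (flp_g L95105) q2483, e3 q4106 (flp_g L95111) q2484, e3 q4107 L95123 q4104, e3 q4108 (flp_g L148407) q6778, e3 q4109 L95134 q4109, e3 q4110 L146715 q5090, e3 q4111 L115055 q6881, e3 q4112 L115064 q6882, e3 q4113 (flp_g L95156) q2487, e3 q4114 L95165 q4114, e3 q4115 L95172 q4115, e3 q4116 L148247 q3016, e3 q4117 (flp_g L148355) q6777, e3 q4118 L115110 q6887, e3 q4119 (flp_g L148599) q3460, e3 q4120 (flp_g L95217) q4123, e3 q4121 (flp_g L95199) q2491, e3 q4122 (flp_g L95205) q2492, e3 q4123 L95217 q4120, e3 q4124 (flp_g L148291) q6517, e3 q4125 (flp_g L95300) q4135, e3 q4126 (flp_g L95237) q2494, e3 q4127 L115196 q6895, e3 q4128 (flp_g L110059) q6163, e3 q4129 (flp_g L148331) q6516, e3 q4130 L115240 q6900, e3 q4131 (flp_g L95268) q2497, e3 q4132 L115271 q6904,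 e3 q4133 (flp_g L95279) q2498, e3 q4134 L95291 q4134, e3 q4135 L95300 q4125, e3 q4136 L115313 q6911, e3 q4137 (flp_g L95308) q2500, e3 q4138 L95320 q2511, e3 q4139 L95330 q3114, e3 q4140 (flp_g L95459) q4167, e3 q4141 L115361 q6920, e3 q4142 (flp_g L95344) q2502, e3 q4143 (flp_g L115371) q6921, e3 q4144 L95356 q2515, e3 q4145 L95362 q2516, e3 q4146 L95477 q4170, e3 q4147 L115433 q6932, e3 q4148 L115454 q6936, e3 q4149 L115464 q6938, e3 q4150 L115474 q6940, e3 q4151 (flp_g L95382) q2506, e3 q4152 (flp_g L95524) q4177, e3 q4153 (flp_g L95393) q2507, e3 q4154 L115505 q6947, e3 q4155 (flp_g L115480) q6941, e3 q4156 L115523 q6953, e3 q4157 L115533 q6955, e3 q4158 (flp_g L95412) q2510, e3 q4159 (flp_g L115325) q6913, trivial⟩ (by decide +kernel)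

theorem ce_g_65 : ∀ r, r < 64 → sm gg (Qf (4160 + r)) = Qf (tab Gen.g (4160 + r)) :=
  edges_tab (sm gg) Qf (tab Gen.g) 4160 [(4160, 6914), (4161, 6962), (4162, 6964), (4163, 6967), (4164, 2512), (4165, 6971), (4166, 2513), (4167, 4140), (4168, 6975), (4169, 6926), (4170, 4146), (4171, 6927), (4172, 6984), (4173, 2517), (4174, 6985), (4175, 2518), (4176, 4176), (4177, 4152), (4178, 6990), (4179, 2520), (4180, 6991), (4181, 4181), (4182, 4182), (4183, 6950), (4184, 7001), (4185, 4244), (4186, 7004), (4187, 2525), (4188, 2527), (4189, 7006), (4190, 7007), (4191, 7014), (4192, 7017), (4193, 2559), (4194, 2561), (4195, 4259), (4196, 7024), (4197, 7027), (4198, 7029), (4199, 2531), (4200, 7031), (4201, 2532), (4202, 7036), (4203, 4302), (4204, 7040), (4205, 7041), (4206, 2534), (4207, 4207), (4208, 2537), (4209, 2538), (4210, 4213), (4211, 7049), (4212, 7046), (4213, 4210), (4214, 7047), (4215, 7057), (4216, 2539), (4217, 7059), (4218, 2540), (4219, 7064), (4220, 2596), (4221, 2599), (4222, 2600), (4223, 4342)]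
    ⟨e3 q4160 (flp_g L115329) q6914, e3 q4161 L115567 q6962, e3 q4162 L115583 q6964, e3 q4163 L115597 q6967, e3 q4164 (flp_g L95436) q2512, e3 q4165 L115620 q6971, e3 q4166 (flp_g L95447) q2513, e3 q4167 L95459 q4140, e3 q4168 L115655 q6975, e3 q4169 (flp_g L115405) q6926, e3 q4170 (flp_g L95477) q4146, e3 q4171 (flp_g L115409) q6927, e3 q4172 L115703 q6984, e3 q4173 (flp_g L95488) q2517, e3 q4174 (flp_g L166584) q6985, e3 q4175 (flp_g L95502) q2518, e3 q4176 L95514 q4176, e3 q4177 L95524 q4152, e3 q4178 L115756 q6990, e3 q4179 (flp_g L95534) q2520, e3 q4180 (flp_g L115764) q6991, e3 q4181 L95543 q4181, e3 q4182 L150841 q4182, e3 q4183 (flp_g L151172) q6950, e3 q4184 L115832 q7001, e3 q4185 (flp_g L95862) q4244, e3 q4186 L115846 q7004, e3 q4187 (flp_g L95564) q2525, e3 q4188 L95572 q2527, e3 q4189 (flp_g L115856) q7006, e3 q4190 (flp_g L115860) q7007, e3 q4191 L115888 q7014, e3 q4192 L115906 q7017, e3 q4193 L95594 q2559, e3 q4194 L95598 q2561, e3 q4195 L95939 q4259, e3 q4196 L115944 q7024, e3 q4197 L115956 q7027,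 e3 q4198 L115966 q7029, e3 q4199 (flp_g L95616) q2531, e3 q4200 L115978 q7031, e3 q4201 (flp_g L95628) q2532, e3 q4202 L116010 q7036, e3 q4203 (flp_g L96185) q4302, e3 q4204 L116084 q7040, e3 q4205 L116090 q7041, e3 q4206 (flp_g L95653) q2534, e3 q4207 L95661 q4207, e3 q4208 L95666 q2537, e3 q4209 L95672 q2538, e3 q4210 L95694 q4213, e3 q4211 L116151 q7049, e3 q4212 (flp_g L116129) q7046, e3 q4213 (flp_g L95694) q4210, e3 q4214 (flp_g L116133) q7047, e3 q4215 L116195 q7057, e3 q4216 (flp_g L95705) q2539, e3 q4217 L116255 q7059, e3 q4218 (flp_g L95725) q2540, e3 q4219 L116281 q7064, e3 q4220 L95739 q2596, e3 q4221 L95743 q2599, e3 q4222 L95748 q2600, e3 q4223 L96402 q4342, trivial⟩ (by decide +kernel)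

theorem ce_g_66 : ∀ r, r < 64 → sm gg (Qf (4224 + r)) = Qf (tab Gen.g (4224 + r)) :=
  edges_tab (sm gg) Qf (tab Gen.g) 4224 [(4224, 7072), (4225, 4233), (4226, 7076), (4227, 2544), (4228, 6289), (4229, 7080), (4230, 2545), (4231, 7083), (4232, 2546), (4233, 4225), (4234, 7087), (4235, 2548), (4236, 7092), (4237, 7093), (4238, 2549), (4239, 7088), (4240, 7100), (4241, 7101), (4242, 2551), (4243, 4243), (4244, 4185), (4245, 2555), (4246, 2556), (4247, 4251), (4248, 7114), (4249, 7116), (4250, 7108), (4251, 4247), (4252, 7109), (4253, 7125), (4254, 2557), (4255, 7128), (4256, 2558), (4257, 7132), (4258, 6265), (4259, 4195), (4260, 7137), (4261, 7018), (4262, 7019), (4263, 7143), (4264, 7145), (4265, 2562), (4266, 4275), (4267, 7150), (4268, 2563), (4269, 7151), (4270, 7156), (4271, 7159), (4272, 2565), (4273, 7163), (4274, 2566), (4275, 4266), (4276, 4284), (4277, 2568), (4278, 7170), (4279, 7173), (4280, 7174), (4281, 2569), (4282, 2570), (4283, 2575), (4284, 4276), (4285, 7183), (4286, 7186), (4287, 7187)]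
    ⟨e3 q4224 L116347 q7072, e3 q4225 (flp_g L95810) q4233, e3 q4226 L116367 q7076, e3 q4227 (flp_g L95773) q2544, e3 q4228 L110835 q6289, e3 q4229 L116401 q7080, e3 q4230 (flp_g L95787) q2545, e3 q4231 L116418 q7083, e3 q4232 (flp_g L95798) q2546, e3 q4233 L95810 q4225, e3 q4234 L116447 q7087, e3 q4235 (flp_g L95822) q2548, e3 q4236 L116481 q7092, e3 q4237 L116483 q7093, e3 q4238 (flp_g L95832) q2549, e3 q4239 (flp_g L116459) q7088, e3 q4240 L116512 q7100, e3 q4241 L116516 q7101, e3 q4242 (flp_g L95849) q2551, e3 q4243 L95855 q4243, e3 q4244 L95862 q4185, e3 q4245 L95868 q2555, e3 q4246 L95872 q2556, e3 q4247 L95896 q4251, e3 q4248 L116579 q7114, e3 q4249 L116595 q7116, e3 q4250 (flp_g L116557) q7108, e3 q4251 (flp_g L95896) q4247, e3 q4252 (flp_g L116561) q7109, e3 q4253 L116631 q7125, e3 q4254 (flp_g L95905) q2557, e3 q4255 L116651 q7128, e3 q4256 (flp_g L95923) q2558, e3 q4257 L116677 q7132, e3 q4258 (flp_g L148996) q6265, e3 q4259 (flp_g L95939) q4195, e3 q4260 L116699 q7137, e3 q4261 (flp_g L115922) q7018,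 e3 q4262 (flp_g L115926) q7019, e3 q4263 L116725 q7143, e3 q4264 L116743 q7145, e3 q4265 (flp_g L95957) q2562, e3 q4266 (flp_g L96028) q4275, e3 q4267 L116765 q7150, e3 q4268 (flp_g L95979) q2563, e3 q4269 (flp_g L116777) q7151, e3 q4270 L116809 q7156, e3 q4271 L116823 q7159, e3 q4272 (flp_g L96001) q2565, e3 q4273 L116846 q7163, e3 q4274 (flp_g L96014) q2566, e3 q4275 L96028 q4266, e3 q4276 (flp_g L96080) q4284, e3 q4277 (flp_g L96036) q2568, e3 q4278 L116907 q7170, e3 q4279 L116925 q7173, e3 q4280 L116935 q7174, e3 q4281 (flp_g L96056) q2569, e3 q4282 (flp_g L96062) q2570, e3 q4283 L96072 q2575, e3 q4284 L96080 q4276, e3 q4285 L116999 q7183, e3 q4286 L117015 q7186, e3 q4287 L117019 q7187, trivial⟩ (by decide +kernel)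

theorem ce_g_67 : ∀ r, r < 64 → sm gg (Qf (4288 + r)) = Qf (tab Gen.g (4288 + r)) :=
  edges_tab (sm gg) Qf (tab Gen.g) 4288 [(4288, 2572), (4289, 7192), (4290, 7193), (4291, 2573), (4292, 7188), (4293, 7178), (4294, 7179), (4295, 6245), (4296, 7207), (4297, 7209), (4298, 7210), (4299, 2576), (4300, 2577), (4301, 2614), (4302, 4203), (4303, 2616), (4304, 4382), (4305, 7222), (4306, 7226), (4307, 2586), (4308, 2588), (4309, 4320), (4310, 7235), (4311, 7237), (4312, 7239), (4313, 2584), (4314, 7243), (4315, 7247), (4316, 6979), (4317, 2585), (4318, 7253), (4319, 7228), (4320, 4309), (4321, 6930), (4322, 7229), (4323, 7230), (4324, 7264), (4325, 2589), (4326, 3746), (4327, 4335), (4328, 2591), (4329, 5565), (4330, 7275), (4331, 7277), (4332, 2592), (4333, 7281), (4334, 2593), (4335, 4327), (4336, 7284), (4337, 7287), (4338, 7289), (4339, 2595), (4340, 7065), (4341, 7066), (4342, 4223), (4343, 7298), (4344, 7181), (4345, 7302), (4346, 2598), (4347, 7307), (4348, 7067), (4349, 2961), (4350, 7312), (4351, 7314)]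
    ⟨e3 q4288 (flp_g L96095) q2572, e3 q4289 L117053 q7192, e3 q4290 L117063 q7193, e3 q4291 (flp_g L96111) q2573, e3 q4292 (flp_g L117029) q7188, e3 q4293 (flp_g L116969) q7178, e3 q4294 (flp_g L116977) q7179, e3 q4295 L110565 q6245, e3 q4296 L117149 q7207, e3 q4297 L117163 q7209, e3 q4298 L117171 q7210, e3 q4299 (flp_g L96163) q2576, e3 q4300 (flp_g L96167) q2577, e3 q4301 L96177 q2614, e3 q4302 L96185 q4203, e3 q4303 L96191 q2616, e3 q4304 L96621 q4382, e3 q4305 L117241 q7222, e3 q4306 L117265 q7226, e3 q4307 L96211 q2586, e3 q4308 L96215 q2588, e3 q4309 L96275 q4320, e3 q4310 L117313 q7235, e3 q4311 L117325 q7237, e3 q4312 L117337 q7239, e3 q4313 (flp_g L96237) q2584, e3 q4314 L117363 q7243, e3 q4315 L117387 q7247, e3 q4316 L115685 q6979, e3 q4317 (flp_g L96255) q2585, e3 q4318 L117423 q7253, e3 q4319 (flp_g L117279) q7228, e3 q4320 (flp_g L96275) q4309, e3 q4321 L115427 q6930, e3 q4322 (flp_g L117283) q7229, e3 q4323 (flp_g L117287) q7230, e3 q4324 L117479 q7264, e3 q4325 (flp_g L96293) q2589, e3 q4326 L96307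 q3746, e3 q4327 (flp_g L96365) q4335, e3 q4328 (flp_g L96321) q2591, e3 q4329 (flp_g L150434) q5565, e3 q4330 L117563 q7275, e3 q4331 L117573 q7277, e3 q4332 (flp_g L96341) q2592, e3 q4333 L117609 q7281, e3 q4334 (flp_g L96353) q2593, e3 q4335 L96365 q4327, e3 q4336 L117633 q7284, e3 q4337 L117649 q7287, e3 q4338 L117659 q7289, e3 q4339 (flp_g L96380) q2595, e3 q4340 (flp_g L116291) q7065, e3 q4341 (flp_g L116299) q7066, e3 q4342 (flp_g L96402) q4223, e3 q4343 L117717 q7298, e3 q4344 L116991 q7181, e3 q4345 L117739 q7302, e3 q4346 (flp_g L96416) q2598, e3 q4347 L117763 q7307, e3 q4348 (flp_g L116310) q7067, e3 q4349 (flp_g L148959) q2961, e3 q4350 L117791 q7312, e3 q4351 L117807 q7314, trivial⟩ (by decide +kernel)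

theorem ce_g_68 : ∀ r, r < 64 → sm gg (Qf (4352 + r)) = Qf (tab Gen.g (4352 + r)) :=
  edges_tab (sm gg) Qf (tab Gen.g) 4352 [(4352, 7316), (4353, 2601), (4354, 4399), (4355, 2602), (4356, 7319), (4357, 7326), (4358, 4376), (4359, 7331), (4360, 2605), (4361, 2607), (4362, 7333), (4363, 7334), (4364, 7340), (4365, 7343), (4366, 7347), (4367, 7348), (4368, 2608), (4369, 7353), (4370, 7356), (4371, 2609), (4372, 7349), (4373, 7362), (4374, 7363), (4375, 2611), (4376, 4358), (4377, 7368), (4378, 7215), (4379, 7213), (4380, 7373), (4381, 7376), (4382, 4304), (4383, 2617), (4384, 3511), (4385, 7383), (4386, 3512), (4387, 7389), (4388, 7393), (4389, 7394), (4390, 2620), (4391, 3510), (4392, 7399), (4393, 3751), (4394, 7402), (4395, 7403), (4396, 2624), (4397, 6976), (4398, 2626), (4399, 4354), (4400, 2629), (4401, 7414), (4402, 7410), (4403, 7420), (4404, 7424), (4405, 7425), (4406, 2630), (4407, 4409), (4408, 7430), (4409, 4407), (4410, 4413), (4411, 3516), (4412, 3517), (4413, 4410), (4414, 2637), (4415, 7436)]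
    ⟨e3 q4352 L117823 q7316, e3 q4353 (flp_g L96464) q2601, e3 q4354 (flp_g L96728) q4399, e3 q4355 (flp_g L96478) q2602, e3 q4356 (flp_g L117839) q7319, e3 q4357 L117873 q7326, e3 q4358 (flp_g L96588) q4376, e3 q4359 L117901 q7331, e3 q4360 (flp_g L96502) q2605, e3 q4361 L96512 q2607, e3 q4362 (flp_g L117913) q7333, e3 q4363 (flp_g L117921) q7334, e3 q4364 L117955 q7340, e3 q4365 L117981 q7343, e3 q4366 L118001 q7347, e3 q4367 L118007 q7348, e3 q4368 (flp_g L96542) q2608, e3 q4369 L118037 q7353, e3 q4370 L118053 q7356, e3 q4371 (flp_g L96554) q2609, e3 q4372 (flp_g L118023) q7349, e3 q4373 L118083 q7362, e3 q4374 L118087 q7363, e3 q4375 (flp_g L96576) q2611, e3 q4376 L96588 q4358, e3 q4377 L118117 q7368, e3 q4378 (flp_g L117211) q7215, e3 q4379 (flp_g L117195) q7213, e3 q4380 L118204 q7373, e3 q4381 L118221 q7376, e3 q4382 (flp_g L96621) q4304, e3 q4383 (flp_g L96623) q2617, e3 q4384 L96639 q3511, e3 q4385 L118258 q7383, e3 q4386 L96649 q3512, e3 q4387 L118290 q7389, e3 q4388 L118310 q7393, e3 q4389 L118316 q7394,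 e3 q4390 (flp_g L96663) q2620, e3 q4391 L96675 q3510, e3 q4392 L118346 q7399, e3 q4393 L96691 q3751, e3 q4394 L118362 q7402, e3 q4395 L118370 q7403, e3 q4396 (flp_g L96705) q2624, e3 q4397 (flp_g L150670) q6976, e3 q4398 (flp_g L96714) q2626, e3 q4399 L96728 q4354, e3 q4400 L96738 q2629, e3 q4401 L118449 q7414, e3 q4402 (flp_g L118429) q7410, e3 q4403 L118479 q7420, e3 q4404 L118501 q7424, e3 q4405 L118505 q7425, e3 q4406 (flp_g L96764) q2630, e3 q4407 (flp_g L96790) q4409, e3 q4408 L118535 q7430, e3 q4409 L96790 q4407, e3 q4410 (flp_g L96825) q4413, e3 q4411 L96805 q3516, e3 q4412 L96809 q3517, e3 q4413 L96825 q4410, e3 q4414 L96834 q2637, e3 q4415 (flp_g L118599) q7436, trivial⟩ (by decide +kernel)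

theorem ce_g_69 : ∀ r, r < 64 → sm gg (Qf (4416 + r)) = Qf (tab Gen.g (4416 + r)) :=
  edges_tab (sm gg) Qf (tab Gen.g) 4416 [(4416, 7441), (4417, 4679), (4418, 4438), (4419, 2640), (4420, 7443), (4421, 5750), (4422, 6512), (4423, 7448), (4424, 2643), (4425, 4658), (4426, 6391), (4427, 4586), (4428, 4428), (4429, 7455), (4430, 7458), (4431, 7459), (4432, 2645), (4433, 7462), (4434, 2646), (4435, 7465), (4436, 2647), (4437, 4437), (4438, 4418), (4439, 7470), (4440, 2649), (4441, 7471), (4442, 4442), (4443, 4443), (4444, 7445), (4445, 6411), (4446, 4472), (4447, 7482), (4448, 2654), (4449, 2656), (4450, 6455), (4451, 7483), (4452, 7487), (4453, 3812), (4454, 2668), (4455, 2670), (4456, 4479), (4457, 4636), (4458, 2756), (4459, 7495), (4460, 2660), (4461, 6502), (4462, 7498), (4463, 4657), (4464, 2661), (4465, 7501), (4466, 7503), (4467, 2662), (4468, 4730), (4469, 7506), (4470, 2664), (4471, 4471), (4472, 4446), (4473, 3790), (4474, 6396), (4475, 6404), (4476, 2667), (4477, 2836), (4478, 7489), (4479, 4456)]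
    ⟨e3 q4416 L118705 q7441, e3 q4417 (flp_g L147645) q4679, e3 q4418 (flp_g L97001) q4438, e3 q4419 (flp_g L96926) q2640, e3 q4420 L118744 q7443, e3 q4421 (flp_g L107149) q5750, e3 q4422 (flp_g L112174) q6512, e3 q4423 L118768 q7448, e3 q4424 (flp_g L96940) q2643, e3 q4425 (flp_g L98109) q4658, e3 q4426 (flp_g L111443) q6391, e3 q4427 L98113 q4586, e3 q4428 L122025 q4428, e3 q4429 L118824 q7455, e3 q4430 L118846 q7458, e3 q4431 L118854 q7459, e3 q4432 (flp_g L96967) q2645, e3 q4433 L118876 q7462, e3 q4434 (flp_g L96975) q2646, e3 q4435 L118899 q7465, e3 q4436 (flp_g L96984) q2647, e3 q4437 L96994 q4437, e3 q4438 L97001 q4418, e3 q4439 L120603 q7470, e3 q4440 (flp_g L97011) q2649, e3 q4441 (flp_g L120611) q7471, e3 q4442 L97020 q4442, e3 q4443 L120673 q4443, e3 q4444 L118758 q7445, e3 q4445 (flp_g L111601) q6411, e3 q4446 (flp_g L97156) q4472, e3 q4447 L120744 q7482, e3 q4448 (flp_g L97060) q2654, e3 q4449 L97066 q2656, e3 q4450 (flp_g L111811) q6455, e3 q4451 (flp_g L120754) q7483, e3 q4452 L120770 q7487, e3 q4453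 (flp_g L97903) q3812, e3 q4454 L97082 q2668, e3 q4455 L97086 q2670, e3 q4456 L97182 q4479, e3 q4457 L97963 q4636, e3 q4458 (flp_g L97965) q2756, e3 q4459 L120818 q7495, e3 q4460 (flp_g L97100) q2660, e3 q4461 (flp_g L112076) q6502, e3 q4462 L120840 q7498, e3 q4463 (flp_g L98115) q4657, e3 q4464 (flp_g L97120) q2661, e3 q4465 L120860 q7501, e3 q4466 L120866 q7503, e3 q4467 (flp_g L97130) q2662, e3 q4468 (flp_g L98503) q4730, e3 q4469 L120890 q7506, e3 q4470 (flp_g L97143) q2664, e3 q4471 L97149 q4471, e3 q4472 L97156 q4446, e3 q4473 (flp_g L97897) q3790, e3 q4474 (flp_g L150271) q6396, e3 q4475 L111531 q6404, e3 q4476 (flp_g L97168) q2667, e3 q4477 (flp_g L150664) q2836, e3 q4478 (flp_g L120790) q7489, e3 q4479 (flp_g L97182) q4456, trivial⟩ (by decide +kernel)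

theorem ce_g_70 : ∀ r, r < 64 → sm gg (Qf (4480 + r)) = Qf (tab Gen.g (4480 + r)) :=
  edges_tab (sm gg) Qf (tab Gen.g) 4480 [(4480, 2751), (4481, 7490), (4482, 7522), (4483, 7523), (4484, 2671), (4485, 2673), (4486, 7526), (4487, 2674), (4488, 2675), (4489, 3523), (4490, 7531), (4491, 7535), (4492, 7536), (4493, 2677), (4494, 4596), (4495, 4598), (4496, 7461), (4497, 6488), (4498, 7466), (4499, 2679), (4500, 2680), (4501, 4501), (4502, 4502), (4503, 7509), (4504, 7547), (4505, 2687), (4506, 2689), (4507, 4513), (4508, 3859), (4509, 6074), (4510, 2686), (4511, 7558), (4512, 7549), (4513, 4507), (4514, 7550), (4515, 7551), (4516, 7566), (4517, 7567), (4518, 2690), (4519, 3854), (4520, 4524), (4521, 3335), (4522, 3527), (4523, 2694), (4524, 4520), (4525, 7576), (4526, 7580), (4527, 7581), (4528, 2696), (4529, 2775), (4530, 2776), (4531, 4531), (4532, 2782), (4533, 2783), (4534, 4681), (4535, 4682), (4536, 7588), (4537, 7590), (4538, 2701), (4539, 4613), (4540, 4553), (4541, 7597), (4542, 2703), (4543, 6480)]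
    ⟨e3 q4480 (flp_g L97969) q2751, e3 q4481 (flp_g L120798) q7490, e3 q4482 L121025 q7522, e3 q4483 L121036 q7523, e3 q4484 (flp_g L97198) q2671, e3 q4485 (flp_g L97208) q2673, e3 q4486 L121050 q7526, e3 q4487 (flp_g L97218) q2674, e3 q4488 (flp_g L97224) q2675, e3 q4489 L97234 q3523, e3 q4490 L121087 q7531, e3 q4491 L121119 q7535, e3 q4492 L121123 q7536, e3 q4493 (flp_g L97246) q2677, e3 q4494 (flp_g L97755) q4596, e3 q4495 (flp_g L97769) q4598, e3 q4496 L120629 q7461, e3 q4497 (flp_g L112002) q6488, e3 q4498 L120621 q7466, e3 q4499 (flp_g L97280) q2679, e3 q4500 (flp_g L97284) q2680, e3 q4501 L97292 q4501, e3 q4502 L97298 q4502, e3 q4503 L120914 q7509, e3 q4504 L121184 q7547, e3 q4505 L97309 q2687, e3 q4506 L97313 q2689, e3 q4507 L97343 q4513, e3 q4508 (flp_g L97321) q3859, e3 q4509 (flp_g L109311) q6074, e3 q4510 (flp_g L97325) q2686, e3 q4511 L121238 q7558, e3 q4512 (flp_g L121200) q7549, e3 q4513 (flp_g L97343) q4507, e3 q4514 (flp_g L121204) q7550, e3 q4515 (flp_g L121208) q7551, e3 q4516 L121290 q7566, e3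 q4517 L121303 q7567, e3 q4518 (flp_g L97359) q2690, e3 q4519 (flp_g L97891) q3854, e3 q4520 (flp_g L97405) q4524, e3 q4521 (flp_g L149842) q3335, e3 q4522 (flp_g L150364) q3527, e3 q4523 (flp_g L97397) q2694, e3 q4524 L97405 q4520, e3 q4525 L121392 q7576, e3 q4526 L121406 q7580, e3 q4527 L121412 q7581, e3 q4528 (flp_g L97415) q2696, e3 q4529 L97423 q2775, e3 q4530 L97431 q2776, e3 q4531 L97436 q4531, e3 q4532 L97441 q2782, e3 q4533 L97449 q2783, e3 q4534 L98252 q4681, e3 q4535 L98260 q4682, e3 q4536 L121485 q7588, e3 q4537 L121507 q7590, e3 q4538 (flp_g L97472) q2701, e3 q4539 (flp_g L98075) q4613, e3 q4540 (flp_g L97538) q4553, e3 q4541 L121539 q7597, e3 q4542 (flp_g L97486) q2703, e3 q4543 (flp_g L111954) q6480, trivial⟩ (by decide +kernel)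

theorem ce_g_71 : ∀ r, r < 64 → sm gg (Qf (4544 + r)) = Qf (tab Gen.g (4544 + r)) :=
  edges_tab (sm gg) Qf (tab Gen.g) 4544 [(4544, 6482), (4545, 3842), (4546, 7603), (4547, 7606), (4548, 2706), (4549, 7608), (4550, 7609), (4551, 2708), (4552, 4552), (4553, 4540), (4554, 4656), (4555, 4687), (4556, 6467), (4557, 2713), (4558, 7619), (4559, 2714), (4560, 2715), (4561, 7617), (4562, 3837), (4563, 6442), (4564, 2728), (4565, 2729), (4566, 4588), (4567, 2779), (4568, 7635), (4569, 4577), (4570, 2720), (4571, 7641), (4572, 7643), (4573, 7644), (4574, 2721), (4575, 2722), (4576, 2727), (4577, 4569), (4578, 7464), (4579, 7650), (4580, 2724), (4581, 2725), (4582, 7645), (4583, 7648), (4584, 7649), (4585, 7659), (4586, 4427), (4587, 7628), (4588, 4566), (4589, 7629), (4590, 6459), (4591, 7669), (4592, 2731), (4593, 7671), (4594, 2732), (4595, 4595), (4596, 4494), (4597, 2813), (4598, 4495), (4599, 2814), (4600, 2815), (4601, 4758), (4602, 7686), (4603, 7690), (4604, 2817), (4605, 2819), (4606, 4764), (4607, 7510)]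
    ⟨e3 q4544 L111964 q6482, e3 q4545 L97502 q3842, e3 q4546 L121573 q7603, e3 q4547 L121585 q7606, e3 q4548 (flp_g L97510) q2706, e3 q4549 L121608 q7608, e3 q4550 L121612 q7609, e3 q4551 (flp_g L97523) q2708, e3 q4552 L97531 q4552, e3 q4553 L97538 q4540, e3 q4554 L98065 q4656, e3 q4555 (flp_g L98278) q4687, e3 q4556 (flp_g L111869) q6467, e3 q4557 (flp_g L97562) q2713, e3 q4558 L121675 q7619, e3 q4559 (flp_g L97574) q2714, e3 q4560 (flp_g L97581) q2715, e3 q4561 (flp_g L121661) q7617, e3 q4562 L97595 q3837, e3 q4563 (flp_g L111753) q6442, e3 q4564 L97603 q2728, e3 q4565 L97609 q2729, e3 q4566 (flp_g L97712) q4588, e3 q4567 (flp_g L98081) q2779, e3 q4568 L121762 q7635, e3 q4569 (flp_g L97658) q4577, e3 q4570 (flp_g L97628) q2720, e3 q4571 L121801 q7641, e3 q4572 L121809 q7643, e3 q4573 L121813 q7644, e3 q4574 (flp_g L97642) q2721, e3 q4575 (flp_g L97646) q2722, e3 q4576 L97652 q2727, e3 q4577 L97658 q4569, e3 q4578 L119211 q7464, e3 q4579 L121845 q7650, e3 q4580 (flp_g L97670) q2724, e3 q4581 (flp_g L97680) q2725,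 e3 q4582 (flp_g L121823) q7645, e3 q4583 (flp_g L121839) q7648, e3 q4584 (flp_g L121843) q7649, e3 q4585 L121899 q7659, e3 q4586 (flp_g L98113) q4427, e3 q4587 (flp_g L121721) q7628, e3 q4588 L97712 q4566, e3 q4589 (flp_g L121725) q7629, e3 q4590 (flp_g L111831) q6459, e3 q4591 L121944 q7669, e3 q4592 (flp_g L97729) q2731, e3 q4593 L121957 q7671, e3 q4594 (flp_g L97740) q2732, e3 q4595 L97748 q4595, e3 q4596 L97755 q4494, e3 q4597 L97761 q2813, e3 q4598 L97769 q4495, e3 q4599 L97775 q2814, e3 q4600 L97779 q2815, e3 q4601 (flp_g L118192) q4758, e3 q4602 L122064 q7686, e3 q4603 L122076 q7690, e3 q4604 L97795 q2817, e3 q4605 L97801 q2819, e3 q4606 L98681 q4764, e3 q4607 (flp_g L120941) q7510, trivial⟩ (by decide +kernel)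

theorem ce_g_72 : ∀ r, r < 64 → sm gg (Qf (4608 + r)) = Qf (tab Gen.g (4608 + r)) :=
  edges_tab (sm gg) Qf (tab Gen.g) 4608 [(4608, 7699), (4609, 7701), (4610, 2740), (4611, 7592), (4612, 7707), (4613, 4539), (4614, 2741), (4615, 7711), (4616, 2754), (4617, 2757), (4618, 2758), (4619, 4644), (4620, 7722), (4621, 4628), (4622, 7725), (4623, 2745), (4624, 7727), (4625, 2746), (4626, 7730), (4627, 2747), (4628, 4621), (4629, 7735), (4630, 4637), (4631, 2749), (4632, 7739), (4633, 4734), (4634, 7519), (4635, 2750), (4636, 4457), (4637, 4630), (4638, 7748), (4639, 7752), (4640, 7754), (4641, 2753), (4642, 7712), (4643, 7713), (4644, 4619), (4645, 7761), (4646, 7493), (4647, 7767), (4648, 7715), (4649, 7716), (4650, 7772), (4651, 7773), (4652, 2759), (4653, 6573), (4654, 3880), (4655, 3881), (4656, 4554), (4657, 4463), (4658, 4425), (4659, 7784), (4660, 3184), (4661, 7787), (4662, 7790), (4663, 2766), (4664, 3863), (4665, 3806), (4666, 7795), (4667, 2768), (4668, 3793), (4669, 7800), (4670, 4678), (4671, 2771)]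
    ⟨e3 q4608 L122118 q7699, e3 q4609 L122130 q7701, e3 q4610 (flp_g L97817) q2740, e3 q4611 (flp_g L121519) q7592, e3 q4612 L122160 q7707, e3 q4613 L98075 q4539, e3 q4614 (flp_g L97827) q2741, e3 q4615 L122172 q7711, e3 q4616 L97837 q2754, e3 q4617 L97841 q2757, e3 q4618 L97845 q2758, e3 q4619 L98015 q4644, e3 q4620 L122224 q7722, e3 q4621 (flp_g L97931) q4628, e3 q4622 L122236 q7725, e3 q4623 (flp_g L97861) q2745, e3 q4624 L122246 q7727, e3 q4625 (flp_g L97869) q2746, e3 q4626 L122258 q7730, e3 q4627 (flp_g L97923) q2747, e3 q4628 L97931 q4621, e3 q4629 L122286 q7735, e3 q4630 (flp_g L97981) q4637, e3 q4631 (flp_g L97941) q2749, e3 q4632 L122306 q7739, e3 q4633 L163923 q4734, e3 q4634 (flp_g L120997) q7519, e3 q4635 (flp_g L97955) q2750, e3 q4636 (flp_g L97963) q4457, e3 q4637 L97981 q4630, e3 q4638 L122352 q7748, e3 q4639 L122366 q7752, e3 q4640 L122374 q7754, e3 q4641 (flp_g L97997) q2753, e3 q4642 (flp_g L122180) q7712, e3 q4643 (flp_g L122188) q7713, e3 q4644 (flp_g L98015) q4619, e3 q4645 L122416 q7761, e3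 q4646 (flp_g L120814) q7493, e3 q4647 L122440 q7767, e3 q4648 (flp_g L122196) q7715, e3 q4649 (flp_g L122204) q7716, e3 q4650 L122468 q7772, e3 q4651 L122476 q7773, e3 q4652 (flp_g L98043) q2759, e3 q4653 (flp_g L112544) q6573, e3 q4654 L98055 q3880, e3 q4655 L98059 q3881, e3 q4656 (flp_g L98065) q4554, e3 q4657 L98115 q4463, e3 q4658 L98109 q4425, e3 q4659 L122549 q7784, e3 q4660 (flp_g L149923) q3184, e3 q4661 L122581 q7787, e3 q4662 L122607 q7790, e3 q4663 (flp_g L98147) q2766, e3 q4664 (flp_g L102078) q3863, e3 q4665 (flp_g L98169) q3806, e3 q4666 L122629 q7795, e3 q4667 (flp_g L98175) q2768, e3 q4668 L98189 q3793, e3 q4669 L122666 q7800, e3 q4670 (flp_g L98232) q4678, e3 q4671 (flp_g L98202) q2771, trivial⟩ (by decide +kernel)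

theorem ce_g_73 : ∀ r, r < 64 → sm gg (Qf (4672 + r)) = Qf (tab Gen.g (4672 + r)) :=
  edges_tab (sm gg) Qf (tab Gen.g) 4672 [(4672, 7806), (4673, 7808), (4674, 7810), (4675, 2772), (4676, 7518), (4677, 2773), (4678, 4670), (4679, 4417), (4680, 7583), (4681, 4534), (4682, 4535), (4683, 7818), (4684, 7821), (4685, 7823), (4686, 2778), (4687, 4555), (4688, 7631), (4689, 7830), (4690, 2780), (4691, 7585), (4692, 6449), (4693, 7476), (4694, 7837), (4695, 7840), (4696, 2784), (4697, 7844), (4698, 2785), (4699, 4700), (4700, 4699), (4701, 2786), (4702, 7847), (4703, 7854), (4704, 4806), (4705, 7857), (4706, 2789), (4707, 2791), (4708, 7860), (4709, 7861), (4710, 7866), (4711, 3786), (4712, 7871), (4713, 6401), (4714, 2792), (4715, 7875), (4716, 4750), (4717, 7879), (4718, 7880), (4719, 2794), (4720, 7859), (4721, 2797), (4722, 2798), (4723, 4725), (4724, 7885), (4725, 4723), (4726, 7886), (4727, 7894), (4728, 2799), (4729, 7741), (4730, 4468), (4731, 2800), (4732, 7900), (4733, 7734), (4734, 4633), (4735, 2801)]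
    ⟨e3 q4672 L122700 q7806, e3 q4673 L122708 q7808, e3 q4674 L122718 q7810, e3 q4675 (flp_g L98216) q2772, e3 q4676 (flp_g L151087) q7518, e3 q4677 (flp_g L98224) q2773, e3 q4678 L98232 q4670, e3 q4679 L147645 q4417, e3 q4680 (flp_g L121432) q7583, e3 q4681 (flp_g L98252) q4534, e3 q4682 (flp_g L98260) q4535, e3 q4683 L122792 q7818, e3 q4684 L122804 q7821, e3 q4685 L122814 q7823, e3 q4686 (flp_g L98272) q2778, e3 q4687 L98278 q4555, e3 q4688 (flp_g L121737) q7631, e3 q4689 L122848 q7830, e3 q4690 (flp_g L98288) q2780, e3 q4691 (flp_g L121458) q7585, e3 q4692 (flp_g L111789) q6449, e3 q4693 (flp_g L147681) q7476, e3 q4694 L122887 q7837, e3 q4695 L122905 q7840, e3 q4696 (flp_g L98319) q2784, e3 q4697 L122921 q7844, e3 q4698 (flp_g L98333) q2785, e3 q4699 (flp_g L149444) q4700, e3 q4700 L149444 q4699, e3 q4701 (flp_g L98351) q2786, e3 q4702 (flp_g L122951) q7847, e3 q4703 L122973 q7854, e3 q4704 (flp_g L98882) q4806, e3 q4705 (flp_g L149339) q7857, e3 q4706 (flp_g L98373) q2789, e3 q4707 L98379 q2791, e3 q4708 (flp_g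 L123003) q7860, e3 q4709 (flp_g L123007) q7861, e3 q4710 L123037 q7866, e3 q4711 (flp_g L98395) q3786, e3 q4712 L123059 q7871, e3 q4713 (flp_g L111505) q6401, e3 q4714 (flp_g L98405) q2792, e3 q4715 L123077 q7875, e3 q4716 (flp_g L98593) q4750, e3 q4717 L123093 q7879, e3 q4718 L123101 q7880, e3 q4719 (flp_g L98427) q2794, e3 q4720 (flp_g L122999) q7859, e3 q4721 L98437 q2797, e3 q4722 L98443 q2798, e3 q4723 L98461 q4725, e3 q4724 (flp_g L123121) q7885, e3 q4725 (flp_g L98461) q4723, e3 q4726 (flp_g L123127) q7886, e3 q4727 L123159 q7894, e3 q4728 (flp_g L98471) q2799, e3 q4729 (flp_g L163929) q7741, e3 q4730 L98503 q4468, e3 q4731 (flp_g L98507) q2800, e3 q4732 L123201 q7900, e3 q4733 (flp_g L163899) q7734, e3 q4734 (flp_g L163923) q4633, e3 q4735 (flp_g L98523) q2801, trivial⟩ (by decide +kernel)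

theorem ce_g_74 : ∀ r, r < 64 → sm gg (Qf (4736 + r)) = Qf (tab Gen.g (4736 + r)) :=
  edges_tab (sm gg) Qf (tab Gen.g) 4736 [(4736, 2802), (4737, 2807), (4738, 7908), (4739, 7912), (4740, 7913), (4741, 2804), (4742, 7916), (4743, 2805), (4744, 7914), (4745, 7904), (4746, 7923), (4747, 7925), (4748, 2808), (4749, 2809), (4750, 4716), (4751, 7931), (4752, 6501), (4753, 7934), (4754, 2812), (4755, 7678), (4756, 7679), (4757, 7938), (4758, 4601), (4759, 7939), (4760, 7941), (4761, 2816), (4762, 7943), (4763, 7692), (4764, 4606), (4765, 7693), (4766, 7694), (4767, 7947), (4768, 2820), (4769, 4769), (4770, 7954), (4771, 3635), (4772, 7958), (4773, 7962), (4774, 7963), (4775, 2824), (4776, 3636), (4777, 3637), (4778, 7969), (4779, 7973), (4780, 4787), (4781, 2826), (4782, 7978), (4783, 7980), (4784, 7981), (4785, 2827), (4786, 2828), (4787, 4780), (4788, 7987), (4789, 7990), (4790, 7991), (4791, 2831), (4792, 6143), (4793, 7994), (4794, 2833), (4795, 7514), (4796, 2834), (4797, 7513), (4798, 7511), (4799, 8000)]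
    ⟨e3 q4736 (flp_g L98527) q2802, e3 q4737 L98543 q2807, e3 q4738 L123247 q7908, e3 q4739 L123261 q7912, e3 q4740 L123265 q7913, e3 q4741 (flp_g L98553) q2804, e3 q4742 L123279 q7916, e3 q4743 (flp_g L98559) q2805, e3 q4744 (flp_g L123271) q7914, e3 q4745 (flp_g L123233) q7904, e3 q4746 L123317 q7923, e3 q4747 L123323 q7925, e3 q4748 (flp_g L98579) q2808, e3 q4749 (flp_g L98583) q2809, e3 q4750 L98593 q4716, e3 q4751 L123359 q7931, e3 q4752 (flp_g L112068) q6501, e3 q4753 L123373 q7934, e3 q4754 (flp_g L98607) q2812, e3 q4755 (flp_g L122000) q7678, e3 q4756 (flp_g L122006) q7679, e3 q4757 L123398 q7938, e3 q4758 L118192 q4601, e3 q4759 L123402 q7939, e3 q4760 L123416 q7941, e3 q4761 (flp_g L98667) q2816, e3 q4762 L123430 q7943, e3 q4763 (flp_g L122086) q7692, e3 q4764 (flp_g L98681) q4606, e3 q4765 (flp_g L122090) q7693, e3 q4766 (flp_g L122100) q7694, e3 q4767 L123460 q7947, e3 q4768 (flp_g L98695) q2820, e3 q4769 L98705 q4769, e3 q4770 L123494 q7954, e3 q4771 L98714 q3635, e3 q4772 L123518 q7958, e3 q4773 L123534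 q7962, e3 q4774 L123540 q7963, e3 q4775 (flp_g L98728) q2824, e3 q4776 L98736 q3636, e3 q4777 L98740 q3637, e3 q4778 L123570 q7969, e3 q4779 L123586 q7973, e3 q4780 (flp_g L98780) q4787, e3 q4781 (flp_g L98752) q2826, e3 q4782 L123606 q7978, e3 q4783 L123614 q7980, e3 q4784 L123620 q7981, e3 q4785 (flp_g L98766) q2827, e3 q4786 (flp_g L98772) q2828, e3 q4787 L98780 q4780, e3 q4788 L123650 q7987, e3 q4789 L123662 q7990, e3 q4790 L123666 q7991, e3 q4791 (flp_g L98790) q2831, e3 q4792 (flp_g L109709) q6143, e3 q4793 (flp_g L149454) q7994, e3 q4794 L149417 q2833, e3 q4795 (flp_g L150672) q7514, e3 q4796 (flp_g L149456) q2834, e3 q4797 (flp_g L150682) q7513, e3 q4798 (flp_g L150676) q7511, e3 q4799 L123812 q8000, trivial⟩ (by decide +kernel)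

theorem ce_g_75 : ∀ r, r < 64 → sm gg (Qf (4800 + r)) = Qf (tab Gen.g (4800 + r)) :=
  edges_tab (sm gg) Qf (tab Gen.g) 4800 [(4800, 5159), (4801, 4803), (4802, 2837), (4803, 4801), (4804, 8004), (4805, 2839), (4806, 4704), (4807, 8009), (4808, 8012), (4809, 2845), (4810, 8016), (4811, 8020), (4812, 8021), (4813, 2844), (4814, 4866), (4815, 8013), (4816, 8027), (4817, 8031), (4818, 4825), (4819, 2846), (4820, 5508), (4821, 8038), (4822, 8039), (4823, 2847), (4824, 2848), (4825, 4818), (4826, 8045), (4827, 8048), (4828, 8049), (4829, 2851), (4830, 6599), (4831, 4862), (4832, 2871), (4833, 2853), (4834, 3331), (4835, 4871), (4836, 8056), (4837, 3652), (4838, 3328), (4839, 2892), (4840, 8063), (4841, 8065), (4842, 2860), (4843, 8069), (4844, 8072), (4845, 8073), (4846, 2862), (4847, 3650), (4848, 8077), (4849, 8081), (4850, 4879), (4851, 2884), (4852, 2864), (4853, 8087), (4854, 8090), (4855, 8091), (4856, 2865), (4857, 4882), (4858, 2882), (4859, 2867), (4860, 6119), (4861, 3013), (4862, 4831), (4863, 2875)]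
    ⟨e3 q4800 (flp_g L148023) q5159, e3 q4801 (flp_g L149333) q4803, e3 q4802 (flp_g L98854) q2837, e3 q4803 L149333 q4801, e3 q4804 L123888 q8004, e3 q4805 (flp_g L98870) q2839, e3 q4806 L98882 q4704, e3 q4807 L123912 q8009, e3 q4808 L123930 q8012, e3 q4809 L98897 q2845, e3 q4810 L123981 q8016, e3 q4811 L123999 q8020, e3 q4812 L124003 q8021, e3 q4813 (flp_g L98913) q2844, e3 q4814 (flp_g L99277) q4866, e3 q4815 (flp_g L123942) q8013, e3 q4816 L124031 q8027, e3 q4817 L124047 q8031, e3 q4818 (flp_g L98963) q4825, e3 q4819 (flp_g L98935) q2846, e3 q4820 (flp_g L151423) q5508, e3 q4821 L124085 q8038, e3 q4822 L124089 q8039, e3 q4823 (flp_g L98951) q2847, e3 q4824 (flp_g L98955) q2848, e3 q4825 L98963 q4818, e3 q4826 L124119 q8045, e3 q4827 L124131 q8048, e3 q4828 L124135 q8049, e3 q4829 (flp_g L98973) q2851, e3 q4830 (flp_g L112716) q6599, e3 q4831 L146790 q4862, e3 q4832 (flp_g L146769) q2871, e3 q4833 (flp_g L98990) q2853, e3 q4834 L141745 q3331, e3 q4835 L99319 q4871, e3 q4836 L124225 q8056, e3 q4837 L99043 q3652,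 e3 q4838 L141781 q3328, e3 q4839 L99057 q2892, e3 q4840 L124301 q8063, e3 q4841 L124319 q8065, e3 q4842 (flp_g L99093) q2860, e3 q4843 L124363 q8069, e3 q4844 L124379 q8072, e3 q4845 L124385 q8073, e3 q4846 (flp_g L99127) q2862, e3 q4847 L99137 q3650, e3 q4848 L124415 q8077, e3 q4849 L124431 q8081, e3 q4850 L146898 q4879, e3 q4851 (flp_g L147454) q2884, e3 q4852 (flp_g L99159) q2864, e3 q4853 L124475 q8087, e3 q4854 L124489 q8090, e3 q4855 L124493 q8091, e3 q4856 (flp_g L99177) q2865, e3 q4857 (flp_g L147156) q4882, e3 q4858 L147426 q2882, e3 q4859 (flp_g L99197) q2867, e3 q4860 (flp_g L109547) q6119, e3 q4861 (flp_g L148215) q3013, e3 q4862 (flp_g L146790) q4831, e3 q4863 L99241 q2875, trivial⟩ (by decide +kernel)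

theorem ce_g_76 : ∀ r, r < 64 → sm gg (Qf (4864 + r)) = Qf (tab Gen.g (4864 + r)) :=
  edges_tab (sm gg) Qf (tab Gen.g) 4864 [(4864, 4036), (4865, 8100), (4866, 4814), (4867, 3349), (4868, 4082), (4869, 8107), (4870, 4083), (4871, 4835), (4872, 8113), (4873, 8116), (4874, 8117), (4875, 2880), (4876, 4091), (4877, 5135), (4878, 8093), (4879, 4850), (4880, 8128), (4881, 8131), (4882, 4857), (4883, 2883), (4884, 8080), (4885, 6686), (4886, 4888), (4887, 8134), (4888, 4886), (4889, 8140), (4890, 2891), (4891, 8059), (4892, 4900), (4893, 2896), (4894, 2905), (4895, 4899), (4896, 4903), (4897, 8144), (4898, 8145), (4899, 4895), (4900, 4892), (4901, 8162), (4902, 2899), (4903, 4896), (4904, 3092), (4905, 8169), (4906, 8170), (4907, 2903), (4908, 8163), (4909, 8146), (4910, 8147), (4911, 8176), (4912, 6698), (4913, 8179), (4914, 2907), (4915, 8137), (4916, 2910), (4917, 2911), (4918, 8187), (4919, 8183), (4920, 8184), (4921, 8194), (4922, 2912), (4923, 5205), (4924, 8199), (4925, 6700), (4926, 4086), (4927, 8202)]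
    ⟨e3 q4864 L141142 q4036, e3 q4865 L124628 q8100, e3 q4866 L99277 q4814, e3 q4867 L141151 q3349, e3 q4868 L142034 q4082, e3 q4869 L124682 q8107, e3 q4870 (flp_g L141021) q4083, e3 q4871 (flp_g L99319) q4835, e3 q4872 L124756 q8113, e3 q4873 L124774 q8116, e3 q4874 L124778 q8117, e3 q4875 (flp_g L99357) q2880, e3 q4876 (flp_g L137037) q4091, e3 q4877 (flp_g L147243) q5135, e3 q4878 L147177 q8093, e3 q4879 (flp_g L146898) q4850, e3 q4880 L124868 q8128, e3 q4881 L124882 q8131, e3 q4882 L147156 q4857, e3 q4883 (flp_g L99405) q2883, e3 q4884 (flp_g L147272) q8080, e3 q4885 (flp_g L113532) q6686, e3 q4886 (flp_g L148685) q4888, e3 q4887 (flp_g L148671) q8134, e3 q4888 L148685 q4886, e3 q4889 L125546 q8140, e3 q4890 (flp_g L99909) q2891, e3 q4891 (flp_g L124251) q8059, e3 q4892 (flp_g L148809) q4900, e3 q4893 (flp_g L148828) q2896, e3 q4894 L147041 q2905, e3 q4895 L148838 q4899, e3 q4896 (flp_g L100051) q4903, e3 q4897 (flp_g L148800) q8144, e3 q4898 (flp_g L148815) q8145, e3 q4899 (flp_g L148838) q4895, e3 q4900 L148809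 q4892, e3 q4901 L125848 q8162, e3 q4902 (flp_g L100043) q2899, e3 q4903 L100051 q4896, e3 q4904 (flp_g L139026) q3092, e3 q4905 L125916 q8169, e3 q4906 L125920 q8170, e3 q4907 (flp_g L100085) q2903, e3 q4908 (flp_g L125854) q8163, e3 q4909 (flp_g L147061) q8146, e3 q4910 (flp_g L147053) q8147, e3 q4911 L126362 q8176, e3 q4912 L141036 q6698, e3 q4913 L126400 q8179, e3 q4914 (flp_g L100355) q2907, e3 q4915 (flp_g L148687) q8137, e3 q4916 L100413 q2910, e3 q4917 L100417 q2911, e3 q4918 L126636 q8187, e3 q4919 (flp_g L126545) q8183, e3 q4920 (flp_g L126549) q8184, e3 q4921 L126668 q8194, e3 q4922 (flp_g L100471) q2912, e3 q4923 (flp_g L139758) q5205, e3 q4924 L126714 q8199, e3 q4925 (flp_g L113626) q6700, e3 q4926 L100517 q4086, e3 q4927 L126732 q8202, trivial⟩ (by decide +kernel)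

theorem ce_g_77 : ∀ r, r < 64 → sm gg (Qf (4928 + r)) = Qf (tab Gen.g (4928 + r)) :=
  edges_tab (sm gg) Qf (tab Gen.g) 4928 [(4928, 4931), (4929, 2917), (4930, 2918), (4931, 4928), (4932, 4937), (4933, 2921), (4934, 8205), (4935, 2924), (4936, 2925), (4937, 4932), (4938, 4938), (4939, 8210), (4940, 8213), (4941, 6127), (4942, 8215), (4943, 8216), (4944, 2929), (4945, 4954), (4946, 2930), (4947, 8221), (4948, 6092), (4949, 6167), (4950, 2933), (4951, 8228), (4952, 2934), (4953, 2941), (4954, 4945), (4955, 4968), (4956, 2936), (4957, 8234), (4958, 2944), (4959, 4969), (4960, 8241), (4961, 8242), (4962, 8243), (4963, 2940), (4964, 8230), (4965, 8231), (4966, 8247), (4967, 2942), (4968, 4955), (4969, 4959), (4970, 2945), (4971, 4974), (4972, 2946), (4973, 2948), (4974, 4971), (4975, 8255), (4976, 2950), (4977, 6085), (4978, 8259), (4979, 8261), (4980, 2954), (4981, 8262), (4982, 8263), (4983, 8270), (4984, 7305), (4985, 8275), (4986, 8278), (4987, 8280), (4988, 2957), (4989, 8282), (4990, 2958), (4991, 8283)]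
    ⟨e3 q4928 (flp_g L101777) q4931, e3 q4929 (flp_g L101753) q2917, e3 q4930 (flp_g L101761) q2918, e3 q4931 L101777 q4928, e3 q4932 (flp_g L101829) q4937, e3 q4933 (flp_g L101799) q2921, e3 q4934 L128599 q8205, e3 q4935 (flp_g L101813) q2924, e3 q4936 (flp_g L101817) q2925, e3 q4937 L101829 q4932, e3 q4938 L101833 q4938, e3 q4939 L128653 q8210, e3 q4940 L128677 q8213, e3 q4941 (flp_g L147523) q6127, e3 q4942 L128703 q8215, e3 q4943 L128711 q8216, e3 q4944 (flp_g L101867) q2929, e3 q4945 (flp_g L101951) q4954, e3 q4946 (flp_g L101881) q2930, e3 q4947 L128747 q8221, e3 q4948 (flp_g L147709) q6092, e3 q4949 (flp_g L110097) q6167, e3 q4950 (flp_g L101909) q2933, e3 q4951 L128799 q8228, e3 q4952 (flp_g L101927) q2934, e3 q4953 L101941 q2941, e3 q4954 L101951 q4945, e3 q4955 (flp_g L102140) q4968, e3 q4956 (flp_g L101960) q2936, e3 q4957 (flp_g L128847) q8234, e3 q4958 L101974 q2944, e3 q4959 L102153 q4969, e3 q4960 L128881 q8241, e3 q4961 L128887 q8242, e3 q4962 L128899 q8243, e3 q4963 (flp_g L102003) q2940, e3 q4964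 (flp_g L128817) q8230, e3 q4965 (flp_g L128827) q8231, e3 q4966 L128949 q8247, e3 q4967 (flp_g L102124) q2942, e3 q4968 L102140 q4955, e3 q4969 (flp_g L102153) q4959, e3 q4970 (flp_g L102155) q2945, e3 q4971 (flp_g L102225) q4974, e3 q4972 (flp_g L102172) q2946, e3 q4973 (flp_g L102207) q2948, e3 q4974 L102225 q4971, e3 q4975 L129028 q8255, e3 q4976 (flp_g L102233) q2950, e3 q4977 (flp_g L148197) q6085, e3 q4978 L129070 q8259, e3 q4979 L129082 q8261, e3 q4980 L102255 q2954, e3 q4981 (flp_g L129090) q8262, e3 q4982 (flp_g L129094) q8263, e3 q4983 L129127 q8270, e3 q4984 (flp_g L148944) q7305, e3 q4985 L129163 q8275, e3 q4986 L129175 q8278, e3 q4987 L129189 q8280, e3 q4988 (flp_g L102285) q2957, e3 q4989 L129201 q8282, e3 q4990 (flp_g L102304) q2958, e3 q4991 (flp_g L129217) q8283, trivial⟩ (by decide +kernel)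

theorem ce_g_78 : ∀ r, r < 64 → sm gg (Qf (4992 + r)) = Qf (tab Gen.g (4992 + r)) :=
  edges_tab (sm gg) Qf (tab Gen.g) 4992 [(4992, 8290), (4993, 7292), (4994, 8293), (4995, 8296), (4996, 5472), (4997, 8302), (4998, 2967), (4999, 8308), (5000, 8310), (5001, 2966), (5002, 8303), (5003, 8304), (5004, 8317), (5005, 5318), (5006, 5006), (5007, 8322), (5008, 6597), (5009, 5020), (5010, 8328), (5011, 2973), (5012, 2980), (5013, 2981), (5014, 5023), (5015, 8332), (5016, 8335), (5017, 2977), (5018, 8337), (5019, 2978), (5020, 5009), (5021, 6149), (5022, 8329), (5023, 5014), (5024, 8330), (5025, 8346), (5026, 2982), (5027, 5517), (5028, 5028), (5029, 8348), (5030, 2985), (5031, 8352), (5032, 2989), (5033, 2997), (5034, 3899), (5035, 5057), (5036, 8361), (5037, 2991), (5038, 8362), (5039, 3003), (5040, 3004), (5041, 5063), (5042, 8373), (5043, 8375), (5044, 8376), (5045, 2995), (5046, 8377), (5047, 8354), (5048, 8355), (5049, 8385), (5050, 8387), (5051, 8388), (5052, 8391), (5053, 2999), (5054, 8394), (5055, 3000)]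
    ⟨e3 q4992 L129253 q8290, e3 q4993 (flp_g L148950) q7292, e3 q4994 L129294 q8293, e3 q4995 L129315 q8296, e3 q4996 (flp_g L105206) q5472, e3 q4997 L129359 q8302, e3 q4998 L102355 q2967, e3 q4999 L129404 q8308, e3 q5000 L129422 q8310, e3 q5001 (flp_g L102367) q2966, e3 q5002 (flp_g L129371) q8303, e3 q5003 (flp_g L129377) q8304, e3 q5004 L129466 q8317, e3 q5005 (flp_g L104333) q5318, e3 q5006 L102392 q5006, e3 q5007 L129523 q8322, e3 q5008 (flp_g L146519) q6597, e3 q5009 (flp_g L102467) q5020, e3 q5010 L129684 q8328, e3 q5011 (flp_g L102426) q2973, e3 q5012 L102432 q2980, e3 q5013 L102436 q2981, e3 q5014 L102479 q5023, e3 q5015 L129731 q8332, e3 q5016 L129757 q8335, e3 q5017 (flp_g L102449) q2977, e3 q5018 L129779 q8337, e3 q5019 (flp_g L102459) q2978, e3 q5020 L102467 q5009, e3 q5021 (flp_g L149009) q6149, e3 q5022 (flp_g L129707) q8329, e3 q5023 (flp_g L102479) q5014, e3 q5024 (flp_g L129712) q8330, e3 q5025 L129834 q8346, e3 q5026 (flp_g L102489) q2982, e3 q5027 (flp_g L105441) q5517, e3 q5028 L102504 q5028,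 e3 q5029 L129844 q8348, e3 q5030 (flp_g L102509) q2985, e3 q5031 L129908 q8352, e3 q5032 (flp_g L102539) q2989, e3 q5033 L102549 q2997, e3 q5034 L119175 q3899, e3 q5035 (flp_g L102677) q5057, e3 q5036 L129968 q8361, e3 q5037 (flp_g L102573) q2991, e3 q5038 (flp_g L129978) q8362, e3 q5039 L102585 q3003, e3 q5040 L102591 q3004, e3 q5041 L102711 q5063, e3 q5042 L130036 q8373, e3 q5043 L130052 q8375, e3 q5044 L130062 q8376, e3 q5045 (flp_g L102610) q2995, e3 q5046 (flp_g L130076) q8377, e3 q5047 (flp_g L129920) q8354, e3 q5048 (flp_g L129928) q8355, e3 q5049 L130139 q8385, e3 q5050 L130158 q8387, e3 q5051 L130166 q8388, e3 q5052 L130180 q8391, e3 q5053 (flp_g L102647) q2999, e3 q5054 L130200 q8394, e3 q5055 (flp_g L102659) q3000, trivial⟩ (by decide +kernel)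

theorem ce_g_79 : ∀ r, r < 64 → sm gg (Qf (5056 + r)) = Qf (tab Gen.g (5056 + r)) :=
  edges_tab (sm gg) Qf (tab Gen.g) 5056 [(5056, 3002), (5057, 5035), (5058, 8397), (5059, 8398), (5060, 8406), (5061, 6669), (5062, 8367), (5063, 5041), (5064, 8368), (5065, 8415), (5066, 8418), (5067, 3005), (5068, 8422), (5069, 8424), (5070, 3006), (5071, 8426), (5072, 3007), (5073, 8395), (5074, 5076), (5075, 3170), (5076, 5074), (5077, 8434), (5078, 3158), (5079, 3014), (5080, 3632), (5081, 3970), (5082, 8438), (5083, 8206), (5084, 3022), (5085, 8440), (5086, 6660), (5087, 3023), (5088, 6862), (5089, 3024), (5090, 4110), (5091, 4100), (5092, 8443), (5093, 3042), (5094, 5127), (5095, 8445), (5096, 3028), (5097, 8446), (5098, 3048), (5099, 3049), (5100, 5131), (5101, 4034), (5102, 8452), (5103, 5146), (5104, 3033), (5105, 3035), (5106, 8454), (5107, 8455), (5108, 8461), (5109, 3916), (5110, 3063), (5111, 5160), (5112, 8467), (5113, 8469), (5114, 8471), (5115, 3039), (5116, 8473), (5117, 6712), (5118, 3040), (5119, 8474)]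
    ⟨e3 q5056 L102669 q3002, e3 q5057 L102677 q5035, e3 q5058 (flp_g L130224) q8397, e3 q5059 (flp_g L130230) q8398, e3 q5060 L130270 q8406, e3 q5061 (flp_g L148477) q6669, e3 q5062 (flp_g L130006) q8367, e3 q5063 (flp_g L102711) q5041, e3 q5064 (flp_g L130012) q8368, e3 q5065 L130330 q8415, e3 q5066 L130352 q8418, e3 q5067 (flp_g L102729) q3005, e3 q5068 L130372 q8422, e3 q5069 L130384 q8424, e3 q5070 (flp_g L102747) q3006, e3 q5071 L130400 q8426, e3 q5072 (flp_g L102761) q3007, e3 q5073 (flp_g L130208) q8395, e3 q5074 (flp_g L102791) q5076, e3 q5075 L102781 q3170, e3 q5076 L102791 q5074, e3 q5077 L130452 q8434, e3 q5078 L102805 q3158, e3 q5079 (flp_g L102821) q3014, e3 q5080 L119057 q3632, e3 q5081 (flp_g L146673) q3970, e3 q5082 L130606 q8438, e3 q5083 (flp_g L128619) q8206, e3 q5084 (flp_g L102918) q3022, e3 q5085 L130624 q8440, e3 q5086 (flp_g L146681) q6660, e3 q5087 (flp_g L102936) q3023, e3 q5088 L119714 q6862, e3 q5089 (flp_g L102944) q3024, e3 q5090 (flp_g L146715) q4110, e3 q5091 (flp_g L130689) q4100,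 e3 q5092 L142817 q8443, e3 q5093 L102976 q3042, e3 q5094 (flp_g L103156) q5127, e3 q5095 L142851 q8445, e3 q5096 (flp_g L102996) q3028, e3 q5097 (flp_g L142867) q8446, e3 q5098 L103008 q3048, e3 q5099 L103012 q3049, e3 q5100 L103186 q5131, e3 q5101 L133812 q4034, e3 q5102 L142919 q8452, e3 q5103 (flp_g L103266) q5146, e3 q5104 (flp_g L103036) q3033, e3 q5105 L103042 q3035, e3 q5106 (flp_g L142929) q8454, e3 q5107 (flp_g L142933) q8455, e3 q5108 L142957 q8461, e3 q5109 L148488 q3916, e3 q5110 L103060 q3063, e3 q5111 L103328 q5160, e3 q5112 L143009 q8467, e3 q5113 L143017 q8469, e3 q5114 L143029 q8471, e3 q5115 (flp_g L103082) q3039, e3 q5116 L143041 q8473, e3 q5117 L119805 q6712, e3 q5118 (flp_g L103094) q3040, e3 q5119 (flp_g L143057) q8474, trivial⟩ (by decide +kernel)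

theorem ce_g_80 : ∀ r, r < 64 → sm gg (Qf (5120 + r)) = Qf (tab Gen.g (5120 + r)) :=
  edges_tab (sm gg) Qf (tab Gen.g) 5120 [(5120, 4051), (5121, 4050), (5122, 6784), (5123, 8478), (5124, 3044), (5125, 3045), (5126, 3047), (5127, 5094), (5128, 8480), (5129, 8481), (5130, 8486), (5131, 5100), (5132, 6785), (5133, 8120), (5134, 3050), (5135, 4877), (5136, 8493), (5137, 3051), (5138, 3052), (5139, 8496), (5140, 8498), (5141, 3053), (5142, 8495), (5143, 8502), (5144, 3055), (5145, 3077), (5146, 5103), (5147, 3059), (5148, 3060), (5149, 5153), (5150, 8513), (5151, 8517), (5152, 8507), (5153, 5149), (5154, 8508), (5155, 8522), (5156, 3061), (5157, 3980), (5158, 6151), (5159, 4800), (5160, 5111), (5161, 8530), (5162, 5913), (5163, 8001), (5164, 8534), (5165, 3066), (5166, 5175), (5167, 8538), (5168, 3067), (5169, 8539), (5170, 8546), (5171, 8547), (5172, 3069), (5173, 8550), (5174, 3070), (5175, 5166), (5176, 7621), (5177, 3072), (5178, 5532), (5179, 8555), (5180, 8556), (5181, 3074), (5182, 3075), (5183, 8503)]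
    ⟨e3 q5120 (flp_g L146489) q4051, e3 q5121 L148365 q4050, e3 q5122 (flp_g L146495) q6784, e3 q5123 L143131 q8478, e3 q5124 (flp_g L103130) q3044, e3 q5125 (flp_g L103140) q3045, e3 q5126 L103148 q3047, e3 q5127 L103156 q5094, e3 q5128 (flp_g L143151) q8480, e3 q5129 (flp_g L143155) q8481, e3 q5130 L143183 q8486, e3 q5131 (flp_g L103186) q5100, e3 q5132 (flp_g L148434) q6785, e3 q5133 (flp_g L147249) q8120, e3 q5134 (flp_g L103200) q3050, e3 q5135 L147243 q4877, e3 q5136 L143283 q8493, e3 q5137 (flp_g L103216) q3051, e3 q5138 (flp_g L103228) q3052, e3 q5139 L143301 q8496, e3 q5140 L143311 q8498, e3 q5141 (flp_g L103236) q3053, e3 q5142 (flp_g L143299) q8495, e3 q5143 L143337 q8502, e3 q5144 (flp_g L103252) q3055, e3 q5145 L103258 q3077, e3 q5146 L103266 q5103, e3 q5147 L103270 q3059, e3 q5148 L103274 q3060, e3 q5149 L103290 q5153, e3 q5150 L143379 q8513, e3 q5151 L143393 q8517, e3 q5152 (flp_g L143361) q8507, e3 q5153 (flp_g L103290) q5149, e3 q5154 (flp_g L143365) q8508, e3 q5155 L143471 q8522, e3 q5156 (flp_g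 L103302) q3061, e3 q5157 L146269 q3980, e3 q5158 (flp_g L149480) q6151, e3 q5159 L148023 q4800, e3 q5160 (flp_g L103328) q5111, e3 q5161 L143547 q8530, e3 q5162 (flp_g L147967) q5913, e3 q5163 (flp_g L147963) q8001, e3 q5164 L143591 q8534, e3 q5165 (flp_g L103346) q3066, e3 q5166 (flp_g L103392) q5175, e3 q5167 L143615 q8538, e3 q5168 (flp_g L103362) q3067, e3 q5169 (flp_g L143621) q8539, e3 q5170 L143643 q8546, e3 q5171 L143651 q8547, e3 q5172 (flp_g L103372) q3069, e3 q5173 L143681 q8550, e3 q5174 (flp_g L103382) q3070, e3 q5175 L103392 q5166, e3 q5176 (flp_g L121691) q7621, e3 q5177 (flp_g L103406) q3072, e3 q5178 (flp_g L105511) q5532, e3 q5179 L143719 q8555, e3 q5180 L143729 q8556, e3 q5181 (flp_g L103423) q3074, e3 q5182 (flp_g L103431) q3075, e3 q5183 (flp_g L143345) q8503, trivial⟩ (by decide +kernel)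

theorem ce_g_81 : ∀ r, r < 64 → sm gg (Qf (5184 + r)) = Qf (tab Gen.g (5184 + r)) :=
  edges_tab (sm gg) Qf (tab Gen.g) 5184 [(5184, 8504), (5185, 8561), (5186, 5193), (5187, 3862), (5188, 6505), (5189, 3293), (5190, 5641), (5191, 3295), (5192, 3340), (5193, 5186), (5194, 7688), (5195, 8569), (5196, 3084), (5197, 3270), (5198, 3086), (5199, 5621), (5200, 3090), (5201, 8572), (5202, 3091), (5203, 8571), (5204, 8575), (5205, 4923), (5206, 5206), (5207, 3333), (5208, 3566), (5209, 3339), (5210, 3296), (5211, 8584), (5212, 8587), (5213, 3311), (5214, 8590), (5215, 5222), (5216, 3106), (5217, 8594), (5218, 3107), (5219, 8599), (5220, 3108), (5221, 3113), (5222, 5215), (5223, 8607), (5224, 8595), (5225, 8613), (5226, 8614), (5227, 3112), (5228, 8601), (5229, 8602), (5230, 8620), (5231, 8623), (5232, 8225), (5233, 5261), (5234, 7089), (5235, 3116), (5236, 8628), (5237, 3132), (5238, 3133), (5239, 5266), (5240, 8636), (5241, 8640), (5242, 5284), (5243, 8643), (5244, 3121), (5245, 3123), (5246, 8645), (5247, 8646)]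
    ⟨e3 q5184 (flp_g L143349) q8504, e3 q5185 L143755 q8561, e3 q5186 (flp_g L103494) q5193, e3 q5187 L150399 q3862, e3 q5188 (flp_g L149959) q6505, e3 q5189 L103472 q3293, e3 q5190 L129615 q5641, e3 q5191 L103480 q3295, e3 q5192 L103488 q3340, e3 q5193 L103494 q5186, e3 q5194 (flp_g L151335) q7688, e3 q5195 L143857 q8569, e3 q5196 (flp_g L103504) q3084, e3 q5197 L103516 q3270, e3 q5198 L139263 q3086, e3 q5199 L119874 q5621, e3 q5200 (flp_g L103568) q3090, e3 q5201 L143879 q8572, e3 q5202 (flp_g L103580) q3091, e3 q5203 (flp_g L143877) q8571, e3 q5204 (flp_g L149225) q8575, e3 q5205 L139758 q4923, e3 q5206 L103617 q5206, e3 q5207 L129625 q3333, e3 q5208 (flp_g L147789) q3566, e3 q5209 L103674 q3339, e3 q5210 L103684 q3296, e3 q5211 L144045 q8584, e3 q5212 L144073 q8587, e3 q5213 L103712 q3311, e3 q5214 L144097 q8590, e3 q5215 (flp_g L103788) q5222, e3 q5216 (flp_g L103742) q3106, e3 q5217 L144119 q8594, e3 q5218 (flp_g L103756) q3107, e3 q5219 L144163 q8599, e3 q5220 (flp_g L103768) q3108, e3 q5221 L103778 q3113,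 e3 q5222 L103788 q5215, e3 q5223 L144199 q8607, e3 q5224 (flp_g L144131) q8595, e3 q5225 L144227 q8613, e3 q5226 L144235 q8614, e3 q5227 (flp_g L103806) q3112, e3 q5228 (flp_g L144175) q8601, e3 q5229 (flp_g L144181) q8602, e3 q5230 L144275 q8620, e3 q5231 L144305 q8623, e3 q5232 (flp_g L128777) q8225, e3 q5233 (flp_g L104007) q5261, e3 q5234 (flp_g L116469) q7089, e3 q5235 (flp_g L103855) q3116, e3 q5236 (flp_g L144341) q8628, e3 q5237 L103867 q3132, e3 q5238 L103875 q3133, e3 q5239 L104035 q5266, e3 q5240 L144371 q8636, e3 q5241 L144397 q8640, e3 q5242 (flp_g L104143) q5284, e3 q5243 L144415 q8643, e3 q5244 (flp_g L103903) q3121, e3 q5245 L103913 q3123, e3 q5246 (flp_g L144427) q8645, e3 q5247 (flp_g L144433) q8646, trivial⟩ (by decide +kernel)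

theorem ce_g_82 : ∀ r, r < 64 → sm gg (Qf (5248 + r)) = Qf (tab Gen.g (5248 + r)) :=
  edges_tab (sm gg) Qf (tab Gen.g) 5248 [(5248, 8652), (5249, 8656), (5250, 3147), (5251, 3149), (5252, 5301), (5253, 8663), (5254, 8666), (5255, 8667), (5256, 3127), (5257, 8670), (5258, 3128), (5259, 3129), (5260, 3131), (5261, 5233), (5262, 8673), (5263, 8674), (5264, 8680), (5265, 7308), (5266, 5239), (5267, 7129), (5268, 8687), (5269, 3134), (5270, 8690), (5271, 8691), (5272, 3135), (5273, 8695), (5274, 8699), (5275, 8700), (5276, 3136), (5277, 8705), (5278, 8707), (5279, 3137), (5280, 8701), (5281, 8712), (5282, 3139), (5283, 3161), (5284, 5242), (5285, 3143), (5286, 3144), (5287, 5291), (5288, 8726), (5289, 8730), (5290, 8720), (5291, 5287), (5292, 8721), (5293, 5511), (5294, 3145), (5295, 8740), (5296, 8744), (5297, 8746), (5298, 3146), (5299, 8750), (5300, 8657), (5301, 5252), (5302, 8756), (5303, 8658), (5304, 8759), (5305, 8762), (5306, 3150), (5307, 5316), (5308, 8767), (5309, 3151), (5310, 8768), (5311, 8775)]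
    ⟨e3 q5248 L144465 q8652, e3 q5249 L144485 q8656, e3 q5250 L103939 q3147, e3 q5251 L103943 q3149, e3 q5252 L104234 q5301, e3 q5253 L144527 q8663, e3 q5254 L144541 q8666, e3 q5255 L144551 q8667, e3 q5256 (flp_g L103965) q3127, e3 q5257 L144577 q8670, e3 q5258 (flp_g L103977) q3128, e3 q5259 (flp_g L103987) q3129, e3 q5260 L103999 q3131, e3 q5261 L104007 q5233, e3 q5262 (flp_g L144595) q8673, e3 q5263 (flp_g L144599) q8674, e3 q5264 L144631 q8680, e3 q5265 (flp_g L149699) q7308, e3 q5266 (flp_g L104035) q5239, e3 q5267 (flp_g L116667) q7129, e3 q5268 L144679 q8687, e3 q5269 (flp_g L104053) q3134, e3 q5270 L144701 q8690, e3 q5271 L144715 q8691, e3 q5272 (flp_g L104073) q3135, e3 q5273 L144747 q8695, e3 q5274 L144769 q8699, e3 q5275 L144775 q8700, e3 q5276 (flp_g L104093) q3136, e3 q5277 L144803 q8705, e3 q5278 L144813 q8707, e3 q5279 (flp_g L104105) q3137, e3 q5280 (flp_g L144785) q8701, e3 q5281 L144839 q8712, e3 q5282 (flp_g L104125) q3139, e3 q5283 L104133 q3161, e3 q5284 L104143 q5242, e3 q5285 L104149 q3143,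 e3 q5286 L104155 q3144, e3 q5287 L104181 q5291, e3 q5288 L144917 q8726, e3 q5289 L144941 q8730, e3 q5290 (flp_g L144891) q8720, e3 q5291 (flp_g L104181) q5287, e3 q5292 (flp_g L144895) q8721, e3 q5293 (flp_g L151490) q5511, e3 q5294 (flp_g L104194) q3145, e3 q5295 L145014 q8740, e3 q5296 L145036 q8744, e3 q5297 L145048 q8746, e3 q5298 (flp_g L104214) q3146, e3 q5299 L145070 q8750, e3 q5300 (flp_g L144499) q8657, e3 q5301 (flp_g L104234) q5252, e3 q5302 L145100 q8756, e3 q5303 (flp_g L144503) q8658, e3 q5304 L145118 q8759, e3 q5305 L145140 q8762, e3 q5306 (flp_g L104256) q3150, e3 q5307 (flp_g L104321) q5316, e3 q5308 L145164 q8767, e3 q5309 (flp_g L104278) q3151, e3 q5310 (flp_g L145174) q8768, e3 q5311 L145204 q8775, trivial⟩ (by decide +kernel)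

theorem ce_g_83 : ∀ r, r < 64 → sm gg (Qf (5312 + r)) = Qf (tab Gen.g (5312 + r)) :=
  edges_tab (sm gg) Qf (tab Gen.g) 5312 [(5312, 8778), (5313, 3153), (5314, 8781), (5315, 3154), (5316, 5307), (5317, 8784), (5318, 5005), (5319, 8787), (5320, 8791), (5321, 8792), (5322, 3157), (5323, 8435), (5324, 3159), (5325, 8713), (5326, 3179), (5327, 8715), (5328, 8716), (5329, 8806), (5330, 8808), (5331, 3165), (5332, 3166), (5333, 8816), (5334, 8810), (5335, 8811), (5336, 8812), (5337, 8821), (5338, 5338), (5339, 8824), (5340, 8828), (5341, 8829), (5342, 3168), (5343, 5370), (5344, 8832), (5345, 8835), (5346, 3171), (5347, 8839), (5348, 8841), (5349, 3172), (5350, 8842), (5351, 3175), (5352, 8847), (5353, 8853), (5354, 5354), (5355, 5355), (5356, 5356), (5357, 8858), (5358, 8859), (5359, 3178), (5360, 8795), (5361, 5371), (5362, 3182), (5363, 3183), (5364, 8862), (5365, 8869), (5366, 8864), (5367, 6504), (5368, 7273), (5369, 8874), (5370, 5343), (5371, 5361), (5372, 3187), (5373, 8876), (5374, 5374), (5375, 8868)]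
    ⟨e3 q5312 L145216 q8778, e3 q5313 (flp_g L104296) q3153, e3 q5314 L145238 q8781, e3 q5315 (flp_g L104308) q3154, e3 q5316 L104321 q5307, e3 q5317 L145266 q8784, e3 q5318 L104333 q5005, e3 q5319 L145286 q8787, e3 q5320 L145322 q8791, e3 q5321 L145326 q8792, e3 q5322 (flp_g L104349) q3157, e3 q5323 (flp_g L130466) q8435, e3 q5324 (flp_g L104359) q3159, e3 q5325 (flp_g L144849) q8713, e3 q5326 L104377 q3179, e3 q5327 (flp_g L144863) q8715, e3 q5328 (flp_g L144869) q8716, e3 q5329 L145410 q8806, e3 q5330 L145422 q8808, e3 q5331 L104405 q3165, e3 q5332 L104409 q3166, e3 q5333 L145463 q8816, e3 q5334 (flp_g L145438) q8810, e3 q5335 (flp_g L145442) q8811, e3 q5336 (flp_g L145446) q8812, e3 q5337 L145499 q8821, e3 q5338 L104439 q5338, e3 q5339 L145526 q8824, e3 q5340 L145544 q8828, e3 q5341 L145548 q8829, e3 q5342 (flp_g L104454) q3168, e3 q5343 (flp_g L104647) q5370, e3 q5344 L145568 q8832, e3 q5345 L145586 q8835, e3 q5346 (flp_g L104474) q3171, e3 q5347 L145604 q8839, e3 q5348 L145616 q8841, e3 q5349 (flp_g L104494)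 q3172, e3 q5350 (flp_g L145626) q8842, e3 q5351 L104512 q3175, e3 q5352 (flp_g L145664) q8847, e3 q5353 L145692 q8853, e3 q5354 L104528 q5354, e3 q5355 L104531 q5355, e3 q5356 L104534 q5356, e3 q5357 L145721 q8858, e3 q5358 L145730 q8859, e3 q5359 (flp_g L104553) q3178, e3 q5360 (flp_g L145356) q8795, e3 q5361 (flp_g L104659) q5371, e3 q5362 L104579 q3182, e3 q5363 L104583 q3183, e3 q5364 (flp_g L145758) q8862, e3 q5365 L145791 q8869, e3 q5366 (flp_g L145772) q8864, e3 q5367 (flp_g L150413) q6504, e3 q5368 (flp_g L150408) q7273, e3 q5369 L145843 q8874, e3 q5370 L104647 q5343, e3 q5371 L104659 q5361, e3 q5372 L104668 q3187, e3 q5373 (flp_g L145878) q8876, e3 q5374 L104686 q5374, e3 q5375 (flp_g L222802) q8868, trivial⟩ (by decide +kernel)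

theorem ce_g_84 : ∀ r, r < 64 → sm gg (Qf (5376 + r)) = Qf (tab Gen.g (5376 + r)) :=
  edges_tab (sm gg) Qf (tab Gen.g) 5376 [(5376, 5376), (5377, 8885), (5378, 6678), (5379, 5391), (5380, 8889), (5381, 3194), (5382, 8890), (5383, 3201), (5384, 3202), (5385, 5394), (5386, 8899), (5387, 8903), (5388, 8904), (5389, 3198), (5390, 3199), (5391, 5379), (5392, 8910), (5393, 3581), (5394, 5385), (5395, 6029), (5396, 3203), (5397, 8914), (5398, 8915), (5399, 8916), (5400, 3204), (5401, 8917), (5402, 3206), (5403, 8453), (5404, 3209), (5405, 3210), (5406, 5409), (5407, 8925), (5408, 6799), (5409, 5406), (5410, 6798), (5411, 4075), (5412, 3211), (5413, 5414), (5414, 5413), (5415, 8931), (5416, 3212), (5417, 3250), (5418, 5487), (5419, 8937), (5420, 5428), (5421, 6749), (5422, 3216), (5423, 8287), (5424, 8943), (5425, 3217), (5426, 4030), (5427, 3218), (5428, 5420), (5429, 8948), (5430, 5438), (5431, 3220), (5432, 8952), (5433, 8954), (5434, 8955), (5435, 3221), (5436, 3222), (5437, 3227), (5438, 5430), (5439, 8964)]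
    ⟨e3 q5376 L104705 q5376, e3 q5377 L145933 q8885, e3 q5378 (flp_g L146195) q6678, e3 q5379 (flp_g L104855) q5391, e3 q5380 L145955 q8889, e3 q5381 (flp_g L104817) q3194, e3 q5382 (flp_g L145967) q8890, e3 q5383 L104823 q3201, e3 q5384 L104827 q3202, e3 q5385 L104867 q5394, e3 q5386 L146066 q8899, e3 q5387 L146118 q8903, e3 q5388 L146120 q8904, e3 q5389 (flp_g L104839) q3198, e3 q5390 (flp_g L104847) q3199, e3 q5391 L104855 q5379, e3 q5392 L146150 q8910, e3 q5393 (flp_g L148139) q3581, e3 q5394 (flp_g L104867) q5385, e3 q5395 (flp_g L149514) q6029, e3 q5396 (flp_g L104875) q3203, e3 q5397 L151586 q8914, e3 q5398 L151598 q8915, e3 q5399 L151604 q8916, e3 q5400 (flp_g L104895) q3204, e3 q5401 L151612 q8917, e3 q5402 (flp_g L104911) q3206, e3 q5403 (flp_g L142925) q8453, e3 q5404 L104919 q3209, e3 q5405 L104923 q3210, e3 q5406 L104937 q5409, e3 q5407 L151650 q8925, e3 q5408 (flp_g L153018) q6799, e3 q5409 (flp_g L104937) q5406, e3 q5410 (flp_g L153006) q6798, e3 q5411 L152986 q4075, e3 q5412 (flp_g L104945) q3211,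 e3 q5413 (flp_g L150758) q5414, e3 q5414 L150758 q5413, e3 q5415 (flp_g L151710) q8931, e3 q5416 (flp_g L104957) q3212, e3 q5417 L104973 q3250, e3 q5418 L105280 q5487, e3 q5419 L151734 q8937, e3 q5420 (flp_g L105013) q5428, e3 q5421 (flp_g L153461) q6749, e3 q5422 (flp_g L104989) q3216, e3 q5423 L129244 q8287, e3 q5424 L151772 q8943, e3 q5425 (flp_g L104997) q3217, e3 q5426 L153445 q4030, e3 q5427 (flp_g L105005) q3218, e3 q5428 L105013 q5420, e3 q5429 L151844 q8948, e3 q5430 (flp_g L105053) q5438, e3 q5431 (flp_g L105023) q3220, e3 q5432 L151872 q8952, e3 q5433 L151880 q8954, e3 q5434 L151888 q8955, e3 q5435 (flp_g L105037) q3221, e3 q5436 (flp_g L105041) q3222, e3 q5437 L105047 q3227, e3 q5438 L105053 q5430, e3 q5439 L151946 q8964, trivial⟩ (by decide +kernel)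

theorem ce_g_85 : ∀ r, r < 64 → sm gg (Qf (5440 + r)) = Qf (tab Gen.g (5440 + r)) :=
  edges_tab (sm gg) Qf (tab Gen.g) 5440 [(5440, 8965), (5441, 3224), (5442, 8968), (5443, 3225), (5444, 8966), (5445, 8959), (5446, 8960), (5447, 8276), (5448, 3228), (5449, 3275), (5450, 3592), (5451, 3277), (5452, 3278), (5453, 5539), (5454, 8990), (5455, 8994), (5456, 3237), (5457, 3239), (5458, 5469), (5459, 8999), (5460, 9001), (5461, 9002), (5462, 3235), (5463, 9005), (5464, 9006), (5465, 8912), (5466, 3236), (5467, 9010), (5468, 3255), (5469, 5458), (5470, 8897), (5471, 8765), (5472, 4996), (5473, 9015), (5474, 5482), (5475, 3242), (5476, 9019), (5477, 7444), (5478, 9023), (5479, 3243), (5480, 9027), (5481, 3244), (5482, 5474), (5483, 5978), (5484, 9032), (5485, 3246), (5486, 5916), (5487, 5418), (5488, 9038), (5489, 8962), (5490, 9042), (5491, 3249), (5492, 9044), (5493, 9046), (5494, 3251), (5495, 5587), (5496, 9050), (5497, 3252), (5498, 9051), (5499, 9058), (5500, 3257), (5501, 9059), (5502, 9060), (5503, 9065)]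
    ⟨e3 q5440 L151952 q8965, e3 q5441 (flp_g L105071) q3224, e3 q5442 L151968 q8968, e3 q5443 (flp_g L105079) q3225, e3 q5444 (flp_g L151958) q8966, e3 q5445 (flp_g L151918) q8959, e3 q5446 (flp_g L151930) q8960, e3 q5447 (flp_g L129185) q8276, e3 q5448 (flp_g L105099) q3228, e3 q5449 L105107 q3275, e3 q5450 L119385 q3592, e3 q5451 L105121 q3277, e3 q5452 L105125 q3278, e3 q5453 L105537 q5539, e3 q5454 L152088 q8990, e3 q5455 L152108 q8994, e3 q5456 L105139 q3237, e3 q5457 L105143 q3239, e3 q5458 L105181 q5469, e3 q5459 L152134 q8999, e3 q5460 L152144 q9001, e3 q5461 L152170 q9002, e3 q5462 (flp_g L105157) q3235, e3 q5463 L152186 q9005, e3 q5464 L152194 q9006, e3 q5465 (flp_g L151574) q8912, e3 q5466 (flp_g L105167) q3236, e3 q5467 L152232 q9010, e3 q5468 L151542 q3255, e3 q5469 (flp_g L105181) q5458, e3 q5470 L146048 q8897, e3 q5471 L151532 q8765, e3 q5472 L105206 q4996, e3 q5473 L152284 q9015, e3 q5474 (flp_g L105246) q5482, e3 q5475 (flp_g L105216) q3242, e3 q5476 L152316 q9019, e3 q5477 (flp_g L149817) q7444,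 e3 q5478 L152334 q9023, e3 q5479 (flp_g L105230) q3243, e3 q5480 L152366 q9027, e3 q5481 (flp_g L105238) q3244, e3 q5482 L105246 q5474, e3 q5483 (flp_g L149484) q5978, e3 q5484 L152400 q9032, e3 q5485 (flp_g L105264) q3246, e3 q5486 (flp_g L149482) q5916, e3 q5487 (flp_g L105280) q5418, e3 q5488 L152432 q9038, e3 q5489 L152260 q8962, e3 q5490 L152452 q9042, e3 q5491 (flp_g L105288) q3249, e3 q5492 L152462 q9044, e3 q5493 (flp_g L152484) q9046, e3 q5494 (flp_g L105302) q3251, e3 q5495 (flp_g L105744) q5587, e3 q5496 L152506 q9050, e3 q5497 (flp_g L105322) q3252, e3 q5498 (flp_g L152512) q9051, e3 q5499 L152540 q9058, e3 q5500 L105348 q3257, e3 q5501 (flp_g L152550) q9059, e3 q5502 (flp_g L152556) q9060, e3 q5503 L152584 q9065, trivial⟩ (by decide +kernel)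

theorem ce_g_86 : ∀ r, r < 64 → sm gg (Qf (5504 + r)) = Qf (tab Gen.g (5504 + r)) :=
  edges_tab (sm gg) Qf (tab Gen.g) 5504 [(5504, 9067), (5505, 3924), (5506, 9069), (5507, 3258), (5508, 4820), (5509, 3259), (5510, 6688), (5511, 5293), (5512, 9073), (5513, 9075), (5514, 9078), (5515, 9079), (5516, 3264), (5517, 5027), (5518, 7618), (5519, 5524), (5520, 3266), (5521, 9083), (5522, 3267), (5523, 3268), (5524, 5519), (5525, 9087), (5526, 9088), (5527, 3271), (5528, 9091), (5529, 3272), (5530, 9089), (5531, 8978), (5532, 5178), (5533, 8980), (5534, 8981), (5535, 9098), (5536, 7622), (5537, 3935), (5538, 8984), (5539, 5453), (5540, 8985), (5541, 9106), (5542, 9108), (5543, 3279), (5544, 9110), (5545, 3280), (5546, 9114), (5547, 3284), (5548, 3285), (5549, 3286), (5550, 9121), (5551, 8940), (5552, 9123), (5553, 3283), (5554, 9115), (5555, 9127), (5556, 9117), (5557, 9129), (5558, 9132), (5559, 9133), (5560, 3287), (5561, 5561), (5562, 3912), (5563, 5568), (5564, 3289), (5565, 4329), (5566, 6574), (5567, 3291)]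
    ⟨e3 q5504 L152602 q9067, e3 q5505 L151370 q3924, e3 q5506 L152616 q9069, e3 q5507 (flp_g L105370) q3258, e3 q5508 L151423 q4820, e3 q5509 (flp_g L105380) q3259, e3 q5510 L151127 q6688, e3 q5511 L151490 q5293, e3 q5512 L152642 q9073, e3 q5513 L152658 q9075, e3 q5514 L152680 q9078, e3 q5515 L152686 q9079, e3 q5516 (flp_g L105430) q3264, e3 q5517 L105441 q5027, e3 q5518 (flp_g L121671) q7618, e3 q5519 (flp_g L105477) q5524, e3 q5520 (flp_g L105451) q3266, e3 q5521 L152714 q9083, e3 q5522 (flp_g L105465) q3267, e3 q5523 (flp_g L105469) q3268, e3 q5524 L105477 q5519, e3 q5525 L152736 q9087, e3 q5526 L152740 q9088, e3 q5527 (flp_g L105487) q3271, e3 q5528 L152758 q9091, e3 q5529 (flp_g L105491) q3272, e3 q5530 (flp_g L152748) q9089, e3 q5531 (flp_g L152022) q8978, e3 q5532 L105511 q5178, e3 q5533 (flp_g L152038) q8980, e3 q5534 (flp_g L152042) q8981, e3 q5535 L152800 q9098, e3 q5536 (flp_g L121697) q7622, e3 q5537 L149098 q3935, e3 q5538 (flp_g L152064) q8984, e3 q5539 (flp_g L105537) q5453, e3 q5540 (flp_g L152072)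 q8985, e3 q5541 L152850 q9106, e3 q5542 L152862 q9108, e3 q5543 (flp_g L105551) q3279, e3 q5544 L152866 q9110, e3 q5545 (flp_g L105559) q3280, e3 q5546 L152884 q9114, e3 q5547 L105571 q3284, e3 q5548 L105575 q3285, e3 q5549 L105579 q3286, e3 q5550 L152918 q9121, e3 q5551 (flp_g L153065) q8940, e3 q5552 L152937 q9123, e3 q5553 (flp_g L105590) q3283, e3 q5554 (flp_g L152894) q9115, e3 q5555 L152957 q9127, e3 q5556 (flp_g L152904) q9117, e3 q5557 L153073 q9129, e3 q5558 L153092 q9132, e3 q5559 L153101 q9133, e3 q5560 (flp_g L105618) q3287, e3 q5561 L105629 q5561, e3 q5562 L150440 q3912, e3 q5563 (flp_g L105664) q5568, e3 q5564 (flp_g L105638) q3289, e3 q5565 L150434 q4329, e3 q5566 L150430 q6574, e3 q5567 (flp_g L105656) q3291, trivial⟩ (by decide +kernel)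

theorem ce_g_87 : ∀ r, r < 64 → sm gg (Qf (5568 + r)) = Qf (tab Gen.g (5568 + r)) :=
  edges_tab (sm gg) Qf (tab Gen.g) 5568 [(5568, 5563), (5569, 9140), (5570, 9143), (5571, 3294), (5572, 8563), (5573, 8581), (5574, 6105), (5575, 9149), (5576, 3297), (5577, 5578), (5578, 5577), (5579, 3298), (5580, 9151), (5581, 3934), (5582, 9155), (5583, 3300), (5584, 9157), (5585, 3301), (5586, 3303), (5587, 5495), (5588, 9161), (5589, 9165), (5590, 9159), (5591, 3305), (5592, 5663), (5593, 9169), (5594, 9175), (5595, 8295), (5596, 9177), (5597, 3306), (5598, 5598), (5599, 8298), (5600, 5600), (5601, 9183), (5602, 9184), (5603, 3310), (5604, 8588), (5605, 5832), (5606, 9188), (5607, 9189), (5608, 5615), (5609, 3312), (5610, 9192), (5611, 3313), (5612, 3314), (5613, 3315), (5614, 3321), (5615, 5608), (5616, 9196), (5617, 3317), (5618, 6084), (5619, 3319), (5620, 3337), (5621, 5199), (5622, 9195), (5623, 3383), (5624, 5644), (5625, 9199), (5626, 3369), (5627, 3370), (5628, 3371), (5629, 9208), (5630, 3330), (5631, 8168)]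
    ⟨e3 q5568 L105664 q5563, e3 q5569 L153149 q9140, e3 q5570 L153163 q9143, e3 q5571 (flp_g L105674) q3294, e3 q5572 (flp_g L143813) q8563, e3 q5573 (flp_g L144037) q8581, e3 q5574 L150470 q6105, e3 q5575 L153195 q9149, e3 q5576 (flp_g L105692) q3297, e3 q5577 L151395 q5578, e3 q5578 (flp_g L151395) q5577, e3 q5579 (flp_g L105706) q3298, e3 q5580 (flp_g L153213) q9151, e3 q5581 L151415 q3934, e3 q5582 L153237 q9155, e3 q5583 (flp_g L105720) q3300, e3 q5584 L153255 q9157, e3 q5585 (flp_g L105730) q3301, e3 q5586 L105736 q3303, e3 q5587 L105744 q5495, e3 q5588 (flp_g L153279) q9161, e3 q5589 L153295 q9165, e3 q5590 (flp_g L153265) q9159, e3 q5591 L105766 q3305, e3 q5592 (flp_g L106374) q5663, e3 q5593 (flp_g L153323) q9169, e3 q5594 L153349 q9175, e3 q5595 (flp_g L153502) q8295, e3 q5596 L153370 q9177, e3 q5597 (flp_g L105788) q3306, e3 q5598 L105797 q5598, e3 q5599 (flp_g L151566) q8298, e3 q5600 L105804 q5600, e3 q5601 L153515 q9183, e3 q5602 L153522 q9184, e3 q5603 (flp_g L105820) q3310, e3 q5604 (flp_g L144085)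 q8588, e3 q5605 L120495 q5832, e3 q5606 L153558 q9188, e3 q5607 L153568 q9189, e3 q5608 (flp_g L105905) q5615, e3 q5609 (flp_g L105851) q3312, e3 q5610 L153592 q9192, e3 q5611 (flp_g L105869) q3313, e3 q5612 (flp_g L105883) q3314, e3 q5613 (flp_g L105889) q3315, e3 q5614 L105897 q3321, e3 q5615 L105905 q5608, e3 q5616 L153622 q9196, e3 q5617 (flp_g L105913) q3317, e3 q5618 L120485 q6084, e3 q5619 (flp_g L105933) q3319, e3 q5620 L149295 q3337, e3 q5621 (flp_g L119874) q5199, e3 q5622 (flp_g L153620) q9195, e3 q5623 L149275 q3383, e3 q5624 L149263 q5644, e3 q5625 (flp_g L153656) q9199, e3 q5626 L105975 q3369, e3 q5627 L105999 q3370, e3 q5628 L106003 q3371, e3 q5629 L153702 q9208, e3 q5630 L106053 q3330, e3 q5631 L151232 q8168, trivial⟩ (by decide +kernel)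

theorem ce_g_88 : ∀ r, r < 64 → sm gg (Qf (5632 + r)) = Qf (tab Gen.g (5632 + r)) :=
  edges_tab (sm gg) Qf (tab Gen.g) 5632 [(5632, 9216), (5633, 9218), (5634, 9220), (5635, 8268), (5636, 3329), (5637, 9209), (5638, 9222), (5639, 3332), (5640, 9225), (5641, 5190), (5642, 3459), (5643, 7570), (5644, 5624), (5645, 5649), (5646, 3334), (5647, 5881), (5648, 9198), (5649, 5645), (5650, 5860), (5651, 8565), (5652, 3588), (5653, 8564), (5654, 3342), (5655, 3568), (5656, 5674), (5657, 3343), (5658, 7940), (5659, 3348), (5660, 4084), (5661, 6871), (5662, 9244), (5663, 5592), (5664, 9247), (5665, 9252), (5666, 8274), (5667, 9256), (5668, 9257), (5669, 3351), (5670, 5670), (5671, 9259), (5672, 9260), (5673, 3354), (5674, 5656), (5675, 3355), (5676, 9261), (5677, 3358), (5678, 3359), (5679, 3365), (5680, 4015), (5681, 3366), (5682, 3367), (5683, 5690), (5684, 9267), (5685, 9269), (5686, 3385), (5687, 5724), (5688, 4024), (5689, 9274), (5690, 5683), (5691, 9275), (5692, 5721), (5693, 3368), (5694, 6891), (5695, 9291)]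
    ⟨e3 q5632 L153769 q9216, e3 q5633 L153783 q9218, e3 q5634 L153800 q9220, e3 q5635 (flp_g L153052) q8268, e3 q5636 (flp_g L106110) q3329, e3 q5637 (flp_g L153714) q9209, e3 q5638 L153825 q9222, e3 q5639 L129644 q3332, e3 q5640 L153843 q9225, e3 q5641 (flp_g L129615) q5190, e3 q5642 L150608 q3459, e3 q5643 L150874 q7570, e3 q5644 (flp_g L149263) q5624, e3 q5645 (flp_g L106224) q5649, e3 q5646 (flp_g L106170) q3334, e3 q5647 L149241 q5881, e3 q5648 (flp_g L153642) q9198, e3 q5649 L106224 q5645, e3 q5650 (flp_g L148064) q5860, e3 q5651 (flp_g L143833) q8565, e3 q5652 L150498 q3588, e3 q5653 L143825 q8564, e3 q5654 (flp_g L106260) q3342, e3 q5655 L150536 q3568, e3 q5656 L150526 q5674, e3 q5657 (flp_g L106276) q3343, e3 q5658 (flp_g L151042) q7940, e3 q5659 L132210 q3348, e3 q5660 L106318 q4084, e3 q5661 (flp_g L150790) q6871, e3 q5662 L153976 q9244, e3 q5663 L106374 q5592, e3 q5664 L153998 q9247, e3 q5665 L154041 q9252, e3 q5666 (flp_g L153483) q8274, e3 q5667 L154067 q9256, e3 q5668 L154074 q9257, e3 q5669 (flp_g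 L106432) q3351, e3 q5670 L106443 q5670, e3 q5671 L154094 q9259, e3 q5672 L154100 q9260, e3 q5673 (flp_g L106627) q3354, e3 q5674 (flp_g L150526) q5656, e3 q5675 (flp_g L106639) q3355, e3 q5676 (flp_g L154110) q9261, e3 q5677 (flp_g L106657) q3358, e3 q5678 (flp_g L106661) q3359, e3 q5679 L106671 q3365, e3 q5680 L106683 q4015, e3 q5681 L106687 q3366, e3 q5682 L106691 q3367, e3 q5683 L106725 q5690, e3 q5684 (flp_g L154146) q9267, e3 q5685 (flp_g L154164) q9269, e3 q5686 L150560 q3385, e3 q5687 L151020 q5724, e3 q5688 L151040 q4024, e3 q5689 (flp_g L154196) q9274, e3 q5690 (flp_g L106725) q5683, e3 q5691 (flp_g L154206) q9275, e3 q5692 (flp_g L150592) q5721, e3 q5693 (flp_g L106735) q3368, e3 q5694 (flp_g L150566) q6891, e3 q5695 L154282 q9291, trivial⟩ (by decide +kernel)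

theorem ce_g_89 : ∀ r, r < 64 → sm gg (Qf (5696 + r)) = Qf (tab Gen.g (5696 + r)) :=
  edges_tab (sm gg) Qf (tab Gen.g) 5696 [(5696, 9203), (5697, 5729), (5698, 9204), (5699, 6765), (5700, 9297), (5701, 9300), (5702, 9303), (5703, 5709), (5704, 3373), (5705, 9307), (5706, 9308), (5707, 3374), (5708, 3375), (5709, 5703), (5710, 9311), (5711, 3378), (5712, 9315), (5713, 5717), (5714, 3379), (5715, 9319), (5716, 8448), (5717, 5713), (5718, 5728), (5719, 9324), (5720, 9326), (5721, 5692), (5722, 3389), (5723, 6794), (5724, 5687), (5725, 3390), (5726, 9331), (5727, 3391), (5728, 5718), (5729, 5697), (5730, 9281), (5731, 9337), (5732, 3395), (5733, 9332), (5734, 9342), (5735, 9345), (5736, 5742), (5737, 3397), (5738, 4019), (5739, 9350), (5740, 3398), (5741, 3399), (5742, 5736), (5743, 5746), (5744, 3402), (5745, 3403), (5746, 5743), (5747, 5755), (5748, 3405), (5749, 7472), (5750, 4421), (5751, 9357), (5752, 9358), (5753, 3408), (5754, 3409), (5755, 5747), (5756, 5756), (5757, 9367), (5758, 5765), (5759, 3413)]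
    ⟨e3 q5696 (flp_g L153684) q9203, e3 q5697 (flp_g L142800) q5729, e3 q5698 (flp_g L153692) q9204, e3 q5699 (flp_g L114143) q6765, e3 q5700 L154320 q9297, e3 q5701 L154342 q9300, e3 q5702 L154362 q9303, e3 q5703 (flp_g L106847) q5709, e3 q5704 (flp_g L106813) q3373, e3 q5705 L154382 q9307, e3 q5706 L154388 q9308, e3 q5707 (flp_g L106831) q3374, e3 q5708 (flp_g L106835) q3375, e3 q5709 L106847 q5703, e3 q5710 L154422 q9311, e3 q5711 L148601 q3378, e3 q5712 L154442 q9315, e3 q5713 (flp_g L106911) q5717, e3 q5714 (flp_g L106871) q3379, e3 q5715 L154480 q9319, e3 q5716 (flp_g L142891) q8448, e3 q5717 L106911 q5713, e3 q5718 (flp_g L106973) q5728, e3 q5719 L154570 q9324, e3 q5720 L154582 q9326, e3 q5721 L150592 q5692, e3 q5722 (flp_g L106943) q3389, e3 q5723 L150578 q6794, e3 q5724 (flp_g L151020) q5687, e3 q5725 (flp_g L106955) q3390, e3 q5726 L154610 q9331, e3 q5727 (flp_g L106965) q3391, e3 q5728 L106973 q5718, e3 q5729 L142800 q5697, e3 q5730 (flp_g L154228) q9281, e3 q5731 L154658 q9337, e3 q5732 (flp_g L107013)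 q3395, e3 q5733 (flp_g L154626) q9332, e3 q5734 L154702 q9342, e3 q5735 L154724 q9345, e3 q5736 (flp_g L107071) q5742, e3 q5737 (flp_g L107035) q3397, e3 q5738 L120124 q4019, e3 q5739 L154758 q9350, e3 q5740 (flp_g L107053) q3398, e3 q5741 (flp_g L107059) q3399, e3 q5742 L107071 q5736, e3 q5743 (flp_g L107125) q5746, e3 q5744 (flp_g L107095) q3402, e3 q5745 (flp_g L107105) q3403, e3 q5746 L107125 q5743, e3 q5747 (flp_g L107182) q5755, e3 q5748 (flp_g L107135) q3405, e3 q5749 (flp_g L120635) q7472, e3 q5750 L107149 q4421, e3 q5751 L154818 q9357, e3 q5752 L154826 q9358, e3 q5753 (flp_g L107160) q3408, e3 q5754 (flp_g L107166) q3409, e3 q5755 L107182 q5747, e3 q5756 L107186 q5756, e3 q5757 L154890 q9367, e3 q5758 (flp_g L107254) q5765, e3 q5759 (flp_g L107200) q3413, trivial⟩ (by decide +kernel)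

theorem ce_g_90 : ∀ r, r < 64 → sm gg (Qf (5760 + r)) = Qf (tab Gen.g (5760 + r)) :=
  edges_tab (sm gg) Qf (tab Gen.g) 5760 [(5760, 9371), (5761, 9369), (5762, 9375), (5763, 3416), (5764, 3425), (5765, 5758), (5766, 5782), (5767, 3418), (5768, 9380), (5769, 3428), (5770, 5784), (5771, 9387), (5772, 9388), (5773, 3781), (5774, 9391), (5775, 9393), (5776, 3424), (5777, 9377), (5778, 6187), (5779, 9399), (5780, 9401), (5781, 3426), (5782, 5766), (5783, 9405), (5784, 5770), (5785, 3429), (5786, 5809), (5787, 3430), (5788, 9090), (5789, 3437), (5790, 5790), (5791, 9412), (5792, 5805), (5793, 3433), (5794, 9413), (5795, 3436), (5796, 9409), (5797, 9144), (5798, 9416), (5799, 9418), (5800, 9419), (5801, 3438), (5802, 9421), (5803, 3439), (5804, 3440), (5805, 5792), (5806, 9425), (5807, 3442), (5808, 3455), (5809, 5786), (5810, 3444), (5811, 9429), (5812, 5835), (5813, 9436), (5814, 3450), (5815, 9437), (5816, 9438), (5817, 9445), (5818, 9448), (5819, 9451), (5820, 9453), (5821, 3453), (5822, 9457), (5823, 9458)]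
    ⟨e3 q5760 L154922 q9371, e3 q5761 (flp_g L154910) q9369, e3 q5762 L154952 q9375, e3 q5763 (flp_g L107226) q3416, e3 q5764 L107242 q3425, e3 q5765 L107254 q5758, e3 q5766 (flp_g L107360) q5782, e3 q5767 (flp_g L107263) q3418, e3 q5768 (flp_g L154990) q9380, e3 q5769 L107277 q3428, e3 q5770 L107373 q5784, e3 q5771 L155020 q9387, e3 q5772 L155026 q9388, e3 q5773 L107306 q3781, e3 q5774 L155064 q9391, e3 q5775 L155084 q9393, e3 q5776 (flp_g L107324) q3424, e3 q5777 (flp_g L154972) q9377, e3 q5778 L150305 q6187, e3 q5779 L155150 q9399, e3 q5780 L155172 q9401, e3 q5781 (flp_g L107344) q3426, e3 q5782 L107360 q5766, e3 q5783 L155188 q9405, e3 q5784 (flp_g L107373) q5770, e3 q5785 (flp_g L107375) q3429, e3 q5786 (flp_g L107537) q5809, e3 q5787 (flp_g L107392) q3430, e3 q5788 (flp_g L152756) q9090, e3 q5789 L107406 q3437, e3 q5790 L122033 q5790, e3 q5791 L155243 q9412, e3 q5792 (flp_g L107503) q5805, e3 q5793 (flp_g L107423) q3433, e3 q5794 L155252 q9413, e3 q5795 (flp_g L107441) q3436, e3 q5796 (flp_g L155220) q9409,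 e3 q5797 (flp_g L153171) q9144, e3 q5798 L155280 q9416, e3 q5799 L155302 q9418, e3 q5800 L155312 q9419, e3 q5801 (flp_g L107467) q3438, e3 q5802 L155326 q9421, e3 q5803 (flp_g L107477) q3439, e3 q5804 (flp_g L107487) q3440, e3 q5805 L107503 q5792, e3 q5806 L155354 q9425, e3 q5807 (flp_g L107513) q3442, e3 q5808 L107527 q3455, e3 q5809 L107537 q5786, e3 q5810 (flp_g L107549) q3444, e3 q5811 (flp_g L155382) q9429, e3 q5812 L107679 q5835, e3 q5813 L155408 q9436, e3 q5814 L107579 q3450, e3 q5815 (flp_g L155416) q9437, e3 q5816 (flp_g L155420) q9438, e3 q5817 L155453 q9445, e3 q5818 L155468 q9448, e3 q5819 L155476 q9451, e3 q5820 L155532 q9453, e3 q5821 (flp_g L107599) q3453, e3 q5822 L155562 q9457, e3 q5823 L155572 q9458, trivial⟩ (by decide +kernel)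

theorem ce_g_91 : ∀ r, r < 64 → sm gg (Qf (5824 + r)) = Qf (tab Gen.g (5824 + r)) :=
  edges_tab (sm gg) Qf (tab Gen.g) 5824 [(5824, 3454), (5825, 9226), (5826, 6885), (5827, 9464), (5828, 9237), (5829, 9465), (5830, 3456), (5831, 3457), (5832, 5605), (5833, 9230), (5834, 6888), (5835, 5812), (5836, 9473), (5837, 3461), (5838, 9475), (5839, 3462), (5840, 9476), (5841, 9482), (5842, 9484), (5843, 3465), (5844, 9488), (5845, 6079), (5846, 5877), (5847, 7032), (5848, 3468), (5849, 3486), (5850, 3487), (5851, 5882), (5852, 9493), (5853, 5901), (5854, 9498), (5855, 3471), (5856, 3473), (5857, 9500), (5858, 9501), (5859, 9508), (5860, 5650), (5861, 3501), (5862, 3503), (5863, 5918), (5864, 9518), (5865, 9521), (5866, 9523), (5867, 3477), (5868, 3478), (5869, 9525), (5870, 5951), (5871, 6503), (5872, 9528), (5873, 3482), (5874, 9532), (5875, 3483), (5876, 3485), (5877, 5846), (5878, 9533), (5879, 9534), (5880, 6288), (5881, 5647), (5882, 5851), (5883, 9492), (5884, 7060), (5885, 9548), (5886, 3488), (5887, 9551)]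
    ⟨e3 q5824 (flp_g L107615) q3454, e3 q5825 (flp_g L153860) q9226, e3 q5826 (flp_g L149558) q6885, e3 q5827 L155624 q9464, e3 q5828 (flp_g L153942) q9237, e3 q5829 L155634 q9465, e3 q5830 (flp_g L107641) q3456, e3 q5831 (flp_g L107653) q3457, e3 q5832 (flp_g L120495) q5605, e3 q5833 (flp_g L153892) q9230, e3 q5834 (flp_g L149652) q6888, e3 q5835 (flp_g L107679) q5812, e3 q5836 L155690 q9473, e3 q5837 (flp_g L107689) q3461, e3 q5838 L155706 q9475, e3 q5839 (flp_g L107706) q3462, e3 q5840 (flp_g L155718) q9476, e3 q5841 L155746 q9482, e3 q5842 L155756 q9484, e3 q5843 (flp_g L107721) q3465, e3 q5844 L155781 q9488, e3 q5845 (flp_g L109334) q6079, e3 q5846 (flp_g L107959) q5877, e3 q5847 (flp_g L115994) q7032, e3 q5848 (flp_g L107747) q3468, e3 q5849 L107759 q3486, e3 q5850 L107765 q3487, e3 q5851 L107987 q5882, e3 q5852 L155814 q9493, e3 q5853 (flp_g L108083) q5901, e3 q5854 L155850 q9498, e3 q5855 (flp_g L107793) q3471, e3 q5856 L107803 q3473, e3 q5857 (flp_g L155864) q9500, e3 q5858 (flp_g L155870) q9501, e3 q5859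 L155904 q9508, e3 q5860 L148064 q5650, e3 q5861 L107831 q3501, e3 q5862 L107837 q3503, e3 q5863 L108174 q5918, e3 q5864 L155972 q9518, e3 q5865 L155990 q9521, e3 q5866 L156004 q9523, e3 q5867 (flp_g L107865) q3477, e3 q5868 (flp_g L107873) q3478, e3 q5869 (flp_g L156028) q9525, e3 q5870 L108471 q5951, e3 q5871 L150970 q6503, e3 q5872 L156072 q9528, e3 q5873 (flp_g L107923) q3482, e3 q5874 L156100 q9532, e3 q5875 (flp_g L107939) q3483, e3 q5876 L107951 q3485, e3 q5877 L107959 q5846, e3 q5878 (flp_g L156112) q9533, e3 q5879 (flp_g L156124) q9534, e3 q5880 L151373 q6288, e3 q5881 (flp_g L149241) q5647, e3 q5882 (flp_g L107987) q5851, e3 q5883 (flp_g L155812) q9492, e3 q5884 L150297 q7060, e3 q5885 L156240 q9548, e3 q5886 (flp_g L108001) q3488, e3 q5887 L156262 q9551, trivial⟩ (by decide +kernel)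

theorem ce_g_92 : ∀ r, r < 64 → sm gg (Qf (5888 + r)) = Qf (tab Gen.g (5888 + r)) :=
  edges_tab (sm gg) Qf (tab Gen.g) 5888 [(5888, 6304), (5889, 3489), (5890, 9234), (5891, 9554), (5892, 9555), (5893, 3490), (5894, 8979), (5895, 9561), (5896, 3491), (5897, 9556), (5898, 9567), (5899, 9568), (5900, 3493), (5901, 5853), (5902, 3497), (5903, 3498), (5904, 5908), (5905, 9578), (5906, 9582), (5907, 9572), (5908, 5904), (5909, 9573), (5910, 9589), (5911, 3499), (5912, 9591), (5913, 5162), (5914, 9594), (5915, 3500), (5916, 5486), (5917, 9511), (5918, 5863), (5919, 9603), (5920, 9512), (5921, 9513), (5922, 9607), (5923, 3504), (5924, 5933), (5925, 9612), (5926, 3505), (5927, 9613), (5928, 9620), (5929, 9623), (5930, 3507), (5931, 9626), (5932, 3508), (5933, 5924), (5934, 9632), (5935, 7379), (5936, 7384), (5937, 7385), (5938, 9639), (5939, 5939), (5940, 5940), (5941, 5941), (5942, 7432), (5943, 9647), (5944, 7434), (5945, 5945), (5946, 9646), (5947, 5947), (5948, 3520), (5949, 6004), (5950, 3522), (5951, 5870)]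
    ⟨e3 q5888 L151212 q6304, e3 q5889 (flp_g L108017) q3489, e3 q5890 L153916 q9234, e3 q5891 L156294 q9554, e3 q5892 L156300 q9555, e3 q5893 (flp_g L108035) q3490, e3 q5894 (flp_g L152032) q8979, e3 q5895 L156352 q9561, e3 q5896 (flp_g L108047) q3491, e3 q5897 (flp_g L156316) q9556, e3 q5898 L156388 q9567, e3 q5899 L156392 q9568, e3 q5900 (flp_g L108071) q3493, e3 q5901 L108083 q5853, e3 q5902 L108089 q3497, e3 q5903 L108095 q3498, e3 q5904 L108121 q5908, e3 q5905 L156448 q9578, e3 q5906 L156478 q9582, e3 q5907 (flp_g L156420) q9572, e3 q5908 (flp_g L108121) q5904, e3 q5909 (flp_g L156424) q9573, e3 q5910 L156513 q9589, e3 q5911 (flp_g L108134) q3499, e3 q5912 L156529 q9591, e3 q5913 L147967 q5162, e3 q5914 L156553 q9594, e3 q5915 (flp_g L108154) q3500, e3 q5916 L149482 q5486, e3 q5917 (flp_g L155934) q9511, e3 q5918 (flp_g L108174) q5863, e3 q5919 L156623 q9603, e3 q5920 (flp_g L155938) q9512, e3 q5921 (flp_g L155944) q9513, e3 q5922 L156645 q9607, e3 q5923 (flp_g L108194) q3504, e3 q5924 (flp_g L108259) q5933,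 e3 q5925 L156673 q9612, e3 q5926 (flp_g L108216) q3505, e3 q5927 (flp_g L156687) q9613, e3 q5928 L156723 q9620, e3 q5929 L156743 q9623, e3 q5930 (flp_g L108234) q3507, e3 q5931 L156761 q9626, e3 q5932 (flp_g L108246) q3508, e3 q5933 L108259 q5924, e3 q5934 L156882 q9632, e3 q5935 (flp_g L118240) q7379, e3 q5936 (flp_g L118268) q7384, e3 q5937 (flp_g L118272) q7385, e3 q5938 L156920 q9639, e3 q5939 L108290 q5939, e3 q5940 L108293 q5940, e3 q5941 L108296 q5941, e3 q5942 (flp_g L118552) q7432, e3 q5943 L156966 q9647, e3 q5944 (flp_g L118574) q7434, e3 q5945 L108334 q5945, e3 q5946 (flp_g L222858) q9646, e3 q5947 L108353 q5947, e3 q5948 (flp_g L108417) q3520, e3 q5949 L108911 q6004, e3 q5950 (flp_g L108449) q3522, e3 q5951 (flp_g L108471) q5870, trivial⟩ (by decide +kernel)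

theorem ce_g_93 : ∀ r, r < 64 → sm gg (Qf (5952 + r)) = Qf (tab Gen.g (5952 + r)) :=
  edges_tab (sm gg) Qf (tab Gen.g) 5952 [(5952, 3529), (5953, 3531), (5954, 9656), (5955, 9657), (5956, 9662), (5957, 6026), (5958, 9665), (5959, 9666), (5960, 9668), (5961, 3535), (5962, 3536), (5963, 9670), (5964, 6057), (5965, 9672), (5966, 3538), (5967, 3802), (5968, 3541), (5969, 3542), (5970, 5973), (5971, 9683), (5972, 9678), (5973, 5970), (5974, 9679), (5975, 9690), (5976, 3543), (5977, 8579), (5978, 5483), (5979, 3615), (5980, 3619), (5981, 6087), (5982, 9698), (5983, 5991), (5984, 9702), (5985, 3548), (5986, 9480), (5987, 9708), (5988, 3549), (5989, 9711), (5990, 3550), (5991, 5983), (5992, 3552), (5993, 5996), (5994, 3554), (5995, 3555), (5996, 5993), (5997, 3559), (5998, 3560), (5999, 3561), (6000, 3563), (6001, 9715), (6002, 9716), (6003, 6481), (6004, 5949), (6005, 3656), (6006, 9725), (6007, 9728), (6008, 9729), (6009, 3567), (6010, 3569), (6011, 9236), (6012, 9732), (6013, 3571), (6014, 8111), (6015, 3646)]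
    ⟨e3 q5952 (flp_g L108503) q3529, e3 q5953 L108511 q3531, e3 q5954 (flp_g L157045) q9656, e3 q5955 (flp_g L157049) q9657, e3 q5956 L157097 q9662, e3 q5957 L109075 q6026, e3 q5958 L157119 q9665, e3 q5959 L157125 q9666, e3 q5960 L157139 q9668, e3 q5961 (flp_g L108563) q3535, e3 q5962 (flp_g L108585) q3536, e3 q5963 L157155 q9670, e3 q5964 (flp_g L109253) q6057, e3 q5965 L157173 q9672, e3 q5966 (flp_g L108605) q3538, e3 q5967 L108611 q3802, e3 q5968 L108615 q3541, e3 q5969 L108619 q3542, e3 q5970 L108633 q5973, e3 q5971 L157219 q9683, e3 q5972 (flp_g L157203) q9678, e3 q5973 (flp_g L108633) q5970, e3 q5974 (flp_g L157207) q9679, e3 q5975 L157251 q9690, e3 q5976 (flp_g L108643) q3543, e3 q5977 L148056 q8579, e3 q5978 L149484 q5483, e3 q5979 L108665 q3615, e3 q5980 L108675 q3619, e3 q5981 L109402 q6087, e3 q5982 L157305 q9698, e3 q5983 (flp_g L108719) q5991, e3 q5984 L157319 q9702, e3 q5985 (flp_g L108693) q3548, e3 q5986 L155739 q9480, e3 q5987 L157345 q9708, e3 q5988 (flp_g L108701) q3549, e3 q5989 L157359 q9711,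 e3 q5990 (flp_g L108711) q3550, e3 q5991 L108719 q5983, e3 q5992 (flp_g L108737) q3552, e3 q5993 L108813 q5996, e3 q5994 (flp_g L108773) q3554, e3 q5995 (flp_g L108785) q3555, e3 q5996 (flp_g L108813) q5993, e3 q5997 L148167 q3559, e3 q5998 (flp_g L108845) q3560, e3 q5999 (flp_g L108857) q3561, e3 q6000 L108867 q3563, e3 q6001 (flp_g L157407) q9715, e3 q6002 (flp_g L157415) q9716, e3 q6003 L151375 q6481, e3 q6004 (flp_g L108911) q5949, e3 q6005 L148083 q3656, e3 q6006 L157499 q9725, e3 q6007 L157521 q9728, e3 q6008 L157535 q9729, e3 q6009 (flp_g L108945) q3567, e3 q6010 (flp_g L108971) q3569, e3 q6011 (flp_g L153934) q9236, e3 q6012 L157559 q9732, e3 q6013 (flp_g L108987) q3571, e3 q6014 (flp_g L149750) q8111, e3 q6015 L119695 q3646, trivial⟩ (by decide +kernel)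

theorem ce_g_94 : ∀ r, r < 64 → sm gg (Qf (6016 + r)) = Qf (tab Gen.g (6016 + r)) :=
  edges_tab (sm gg) Qf (tab Gen.g) 6016 [(6016, 3575), (6017, 3576), (6018, 6022), (6019, 8166), (6020, 8583), (6021, 9737), (6022, 6018), (6023, 9738), (6024, 6822), (6025, 3577), (6026, 5957), (6027, 9751), (6028, 8617), (6029, 5395), (6030, 9755), (6031, 3582), (6032, 6041), (6033, 9759), (6034, 3583), (6035, 9760), (6036, 8576), (6037, 9765), (6038, 3585), (6039, 9768), (6040, 3586), (6041, 6032), (6042, 6046), (6043, 3589), (6044, 3590), (6045, 3595), (6046, 6042), (6047, 8256), (6048, 9774), (6049, 3593), (6050, 8982), (6051, 6476), (6052, 6475), (6053, 9449), (6054, 9782), (6055, 3596), (6056, 3597), (6057, 5964), (6058, 9788), (6059, 9792), (6060, 3605), (6061, 3607), (6062, 6073), (6063, 7554), (6064, 9801), (6065, 9802), (6066, 3603), (6067, 8582), (6068, 9807), (6069, 9655), (6070, 3604), (6071, 9811), (6072, 9794), (6073, 6062), (6074, 4509), (6075, 9795), (6076, 9796), (6077, 9820), (6078, 3608), (6079, 5845)]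
    ⟨e3 q6016 L109005 q3575, e3 q6017 L109009 q3576, e3 q6018 L109033 q6022, e3 q6019 (flp_g L142746) q8166, e3 q6020 L150478 q8583, e3 q6021 (flp_g L157597) q9737, e3 q6022 (flp_g L109033) q6018, e3 q6023 (flp_g L157601) q9738, e3 q6024 L157399 q6822, e3 q6025 (flp_g L109041) q3577, e3 q6026 (flp_g L109075) q5957, e3 q6027 L157683 q9751, e3 q6028 (flp_g L149516) q8617, e3 q6029 L149514 q5395, e3 q6030 L157713 q9755, e3 q6031 (flp_g L109091) q3582, e3 q6032 (flp_g L109145) q6041, e3 q6033 L157737 q9759, e3 q6034 (flp_g L109109) q3583, e3 q6035 (flp_g L157751) q9760, e3 q6036 (flp_g L150468) q8576, e3 q6037 L157783 q9765, e3 q6038 (flp_g L109125) q3585, e3 q6039 L157795 q9768, e3 q6040 (flp_g L109135) q3586, e3 q6041 L109145 q6032, e3 q6042 (flp_g L109185) q6046, e3 q6043 (flp_g L109169) q3589, e3 q6044 (flp_g L109173) q3590, e3 q6045 L109179 q3595, e3 q6046 L109185 q6042, e3 q6047 (flp_g L129046) q8256, e3 q6048 L157833 q9774, e3 q6049 (flp_g L109207) q3593, e3 q6050 (flp_g L152052) q8982, e3 q6051 (flp_g L155488)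 q6476, e3 q6052 L155506 q6475, e3 q6053 L155484 q9449, e3 q6054 L157875 q9782, e3 q6055 (flp_g L109239) q3596, e3 q6056 (flp_g L109243) q3597, e3 q6057 L109253 q5964, e3 q6058 L157911 q9788, e3 q6059 L157929 q9792, e3 q6060 L109263 q3605, e3 q6061 L109267 q3607, e3 q6062 L109305 q6073, e3 q6063 (flp_g L121226) q7554, e3 q6064 L157971 q9801, e3 q6065 L157981 q9802, e3 q6066 (flp_g L109281) q3603, e3 q6067 L150486 q8582, e3 q6068 L158015 q9807, e3 q6069 (flp_g L157037) q9655, e3 q6070 (flp_g L109291) q3604, e3 q6071 L158031 q9811, e3 q6072 (flp_g L157939) q9794, e3 q6073 (flp_g L109305) q6062, e3 q6074 L109311 q4509, e3 q6075 (flp_g L157943) q9795, e3 q6076 (flp_g L157947) q9796, e3 q6077 L158086 q9820, e3 q6078 (flp_g L109324) q3608, e3 q6079 L109334 q5845, trivial⟩ (by decide +kernel)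

theorem ce_g_95 : ∀ r, r < 64 → sm gg (Qf (6080 + r)) = Qf (tab Gen.g (6080 + r)) :=
  edges_tab (sm gg) Qf (tab Gen.g) 6080 [(6080, 3610), (6081, 8527), (6082, 9826), (6083, 3612), (6084, 5618), (6085, 4977), (6086, 9693), (6087, 5981), (6088, 9831), (6089, 9772), (6090, 9833), (6091, 3617), (6092, 4948), (6093, 8258), (6094, 9837), (6095, 3620), (6096, 8041), (6097, 9845), (6098, 6116), (6099, 9850), (6100, 3623), (6101, 3625), (6102, 9852), (6103, 7602), (6104, 9856), (6105, 5574), (6106, 9860), (6107, 9142), (6108, 3626), (6109, 9864), (6110, 9867), (6111, 3627), (6112, 6479), (6113, 6579), (6114, 9872), (6115, 3629), (6116, 6098), (6117, 9877), (6118, 8349), (6119, 4860), (6120, 9881), (6121, 9883), (6122, 6130), (6123, 3634), (6124, 7955), (6125, 9888), (6126, 7966), (6127, 4941), (6128, 3930), (6129, 9890), (6130, 6122), (6131, 9879), (6132, 3640), (6133, 6133), (6134, 9895), (6135, 6135), (6136, 9898), (6137, 3644), (6138, 9901), (6139, 9903), (6140, 9904), (6141, 3645), (6142, 3647), (6143, 4792)]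
    ⟨e3 q6080 (flp_g L109344) q3610, e3 q6081 L147958 q8527, e3 q6082 L158121 q9826, e3 q6083 (flp_g L109366) q3612, e3 q6084 (flp_g L120485) q5618, e3 q6085 L148197 q4977, e3 q6086 (flp_g L157281) q9693, e3 q6087 (flp_g L109402) q5981, e3 q6088 L158153 q9831, e3 q6089 (flp_g L157819) q9772, e3 q6090 L158159 q9833, e3 q6091 (flp_g L109410) q3617, e3 q6092 L147709 q4948, e3 q6093 L147705 q8258, e3 q6094 L158189 q9837, e3 q6095 (flp_g L109436) q3620, e3 q6096 (flp_g L124105) q8041, e3 q6097 L158225 q9845, e3 q6098 (flp_g L109517) q6116, e3 q6099 L158247 q9850, e3 q6100 (flp_g L109458) q3623, e3 q6101 L109464 q3625, e3 q6102 (flp_g L158257) q9852, e3 q6103 (flp_g L155522) q7602, e3 q6104 L158289 q9856, e3 q6105 (flp_g L150470) q5574, e3 q6106 L158315 q9860, e3 q6107 (flp_g L153161) q9142, e3 q6108 (flp_g L109482) q3626, e3 q6109 L158331 q9864, e3 q6110 L158343 q9867, e3 q6111 (flp_g L109490) q3627, e3 q6112 L155516 q6479, e3 q6113 L163733 q6579, e3 q6114 L158381 q9872, e3 q6115 (flp_g L109506) q3629, e3 q6116 L109517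 q6098, e3 q6117 L158409 q9877, e3 q6118 (flp_g L129868) q8349, e3 q6119 L109547 q4860, e3 q6120 L158431 q9881, e3 q6121 L158447 q9883, e3 q6122 L152206 q6130, e3 q6123 (flp_g L109566) q3634, e3 q6124 (flp_g L123504) q7955, e3 q6125 L158482 q9888, e3 q6126 (flp_g L123560) q7966, e3 q6127 L147523 q4941, e3 q6128 L109606 q3930, e3 q6129 L158488 q9890, e3 q6130 (flp_g L152206) q6122, e3 q6131 L158423 q9879, e3 q6132 (flp_g L109624) q3640, e3 q6133 L109633 q6133, e3 q6134 L158518 q9895, e3 q6135 L109640 q6135, e3 q6136 L158543 q9898, e3 q6137 (flp_g L109655) q3644, e3 q6138 L158565 q9901, e3 q6139 L158581 q9903, e3 q6140 L158589 q9904, e3 q6141 (flp_g L109673) q3645, e3 q6142 (flp_g L109693) q3647, e3 q6143 L109709 q4792, trivial⟩ (by decide +kernel)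

theorem ce_g_96 : ∀ r, r < 64 → sm gg (Qf (6144 + r)) = Qf (tab Gen.g (6144 + r)) :=
  edges_tab (sm gg) Qf (tab Gen.g) 6144 [(6144, 9762), (6145, 9911), (6146, 9912), (6147, 3651), (6148, 8057), (6149, 5021), (6150, 6155), (6151, 5158), (6152, 9920), (6153, 8340), (6154, 3654), (6155, 6150), (6156, 3988), (6157, 9924), (6158, 9928), (6159, 8110), (6160, 3660), (6161, 6161), (6162, 9931), (6163, 4128), (6164, 9935), (6165, 3664), (6166, 3674), (6167, 4949), (6168, 3666), (6169, 9940), (6170, 6188), (6171, 7323), (6172, 9946), (6173, 9948), (6174, 3670), (6175, 9953), (6176, 9949), (6177, 9959), (6178, 9961), (6179, 3673), (6180, 6189), (6181, 9937), (6182, 9968), (6183, 9969), (6184, 3675), (6185, 9962), (6186, 3676), (6187, 5778), (6188, 6170), (6189, 6180), (6190, 3680), (6191, 9973), (6192, 3681), (6193, 9974), (6194, 6194), (6195, 6195), (6196, 9956), (6197, 9983), (6198, 6261), (6199, 9988), (6200, 3686), (6201, 3688), (6202, 9989), (6203, 9990), (6204, 9997), (6205, 10000), (6206, 3716), (6207, 3718)]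
    ⟨e3 q6144 (flp_g L157775) q9762, e3 q6145 L158636 q9911, e3 q6146 L158640 q9912, e3 q6147 (flp_g L109760) q3651, e3 q6148 (flp_g L124237) q8057, e3 q6149 L149009 q5021, e3 q6150 (flp_g L109832) q6155, e3 q6151 L149480 q5158, e3 q6152 L158704 q9920, e3 q6153 (flp_g L149590) q8340, e3 q6154 (flp_g L109804) q3654, e3 q6155 L109832 q6150, e3 q6156 L109840 q3988, e3 q6157 L158732 q9924, e3 q6158 L158760 q9928, e3 q6159 L150484 q8110, e3 q6160 (flp_g L109890) q3660, e3 q6161 L109899 q6161, e3 q6162 L158783 q9931, e3 q6163 L110059 q4128, e3 q6164 L158811 q9935, e3 q6165 (flp_g L110069) q3664, e3 q6166 L110085 q3674, e3 q6167 L110097 q4949, e3 q6168 (flp_g L110099) q3666, e3 q6169 (flp_g L158847) q9940, e3 q6170 L110236 q6188, e3 q6171 L117861 q7323, e3 q6172 L158887 q9946, e3 q6173 L158902 q9948, e3 q6174 (flp_g L110137) q3670, e3 q6175 L158937 q9953, e3 q6176 (flp_g L158914) q9949, e3 q6177 L158979 q9959, e3 q6178 L158991 q9961, e3 q6179 (flp_g L110162) q3673, e3 q6180 (flp_g L150912) q6189, e3 q6181 (flp_g L158827)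 q9937, e3 q6182 L159041 q9968, e3 q6183 L159053 q9969, e3 q6184 (flp_g L110192) q3675, e3 q6185 (flp_g L159005) q9962, e3 q6186 (flp_g L110208) q3676, e3 q6187 (flp_g L150305) q5778, e3 q6188 (flp_g L110236) q6170, e3 q6189 L150912 q6180, e3 q6190 L150278 q3680, e3 q6191 (flp_g L159215) q9973, e3 q6192 (flp_g L110264) q3681, e3 q6193 (flp_g L159108) q9974, e3 q6194 L110286 q6194, e3 q6195 L151162 q6195, e3 q6196 L158963 q9956, e3 q6197 L159177 q9983, e3 q6198 (flp_g L110659) q6261, e3 q6199 L159229 q9988, e3 q6200 (flp_g L110317) q3686, e3 q6201 L110329 q3688, e3 q6202 (flp_g L159243) q9989, e3 q6203 (flp_g L159249) q9990, e3 q6204 L159291 q9997, e3 q6205 L159311 q10000, e3 q6206 L110361 q3716, e3 q6207 L110365 q3718, trivial⟩ (by decide +kernel)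

theorem ce_g_97 : ∀ r, r < 64 → sm gg (Qf (6208 + r)) = Qf (tab Gen.g (6208 + r)) :=
  edges_tab (sm gg) Qf (tab Gen.g) 6208 [(6208, 6267), (6209, 10008), (6210, 10011), (6211, 10013), (6212, 3692), (6213, 7282), (6214, 10019), (6215, 10020), (6216, 3693), (6217, 10025), (6218, 6295), (6219, 10031), (6220, 10032), (6221, 3695), (6222, 9499), (6223, 3698), (6224, 3699), (6225, 6228), (6226, 7279), (6227, 10038), (6228, 6225), (6229, 10039), (6230, 10048), (6231, 3700), (6232, 6925), (6233, 10053), (6234, 10054), (6235, 3701), (6236, 10059), (6237, 3738), (6238, 3741), (6239, 3742), (6240, 6312), (6241, 10070), (6242, 6250), (6243, 10074), (6244, 3705), (6245, 4295), (6246, 10078), (6247, 3706), (6248, 10081), (6249, 3707), (6250, 6242), (6251, 10083), (6252, 3709), (6253, 7103), (6254, 10086), (6255, 3710), (6256, 10084), (6257, 10093), (6258, 10094), (6259, 3712), (6260, 6260), (6261, 6198), (6262, 10101), (6263, 10103), (6264, 3715), (6265, 4258), (6266, 10002), (6267, 6208), (6268, 10109), (6269, 10003), (6270,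 10004), (6271, 10115)]
    ⟨e3 q6208 L110695 q6267, e3 q6209 L159373 q10008, e3 q6210 L159393 q10011, e3 q6211 L159407 q10013, e3 q6212 (flp_g L110391) q3692, e3 q6213 (flp_g L117623) q7282, e3 q6214 L159445 q10019, e3 q6215 L159451 q10020, e3 q6216 (flp_g L110413) q3693, e3 q6217 L159489 q10025, e3 q6218 (flp_g L110869) q6295, e3 q6219 L159525 q10031, e3 q6220 L159529 q10032, e3 q6221 (flp_g L110437) q3695, e3 q6222 (flp_g L155858) q9499, e3 q6223 L110449 q3698, e3 q6224 L110455 q3699, e3 q6225 L110479 q6228, e3 q6226 L117601 q7279, e3 q6227 (flp_g L159567) q10038, e3 q6228 (flp_g L110479) q6225, e3 q6229 (flp_g L159571) q10039, e3 q6230 L159613 q10048, e3 q6231 (flp_g L110491) q3700, e3 q6232 L115397 q6925, e3 q6233 L159645 q10053, e3 q6234 L159651 q10054, e3 q6235 (flp_g L110511) q3701, e3 q6236 L159683 q10059, e3 q6237 L110525 q3738, e3 q6238 L110529 q3741, e3 q6239 L110533 q3742, e3 q6240 L110983 q6312, e3 q6241 L159749 q10070, e3 q6242 (flp_g L110597) q6250, e3 q6243 L159773 q10074, e3 q6244 (flp_g L110557)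 q3705, e3 q6245 (flp_g L110565) q4295, e3 q6246 L159793 q10078, e3 q6247 (flp_g L110573) q3706, e3 q6248 L159809 q10081, e3 q6249 (flp_g L110585) q3707, e3 q6250 L110597 q6242, e3 q6251 L159823 q10083, e3 q6252 (flp_g L110605) q3709, e3 q6253 (flp_g L116535) q7103, e3 q6254 L159857 q10086, e3 q6255 (flp_g L110619) q3710, e3 q6256 (flp_g L159841) q10084, e3 q6257 L159896 q10093, e3 q6258 L159900 q10094, e3 q6259 (flp_g L110642) q3712, e3 q6260 L110650 q6260, e3 q6261 L110659 q6198, e3 q6262 L159944 q10101, e3 q6263 L159962 q10103, e3 q6264 (flp_g L110673) q3715, e3 q6265 L148996 q4258, e3 q6266 (flp_g L159335) q10002, e3 q6267 (flp_g L110695) q6208, e3 q6268 L160008 q10109, e3 q6269 (flp_g L159341) q10003, e3 q6270 (flp_g L159347) q10004, e3 q6271 L160042 q10115, trivial⟩ (by decide +kernel)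

theorem ce_g_98 : ∀ r, r < 64 → sm gg (Qf (6272 + r)) = Qf (tab Gen.g (6272 + r)) :=
  edges_tab (sm gg) Qf (tab Gen.g) 6272 [(6272, 10116), (6273, 3719), (6274, 7126), (6275, 6279), (6276, 3721), (6277, 3722), (6278, 3727), (6279, 6275), (6280, 10123), (6281, 7176), (6282, 3724), (6283, 10127), (6284, 10128), (6285, 3725), (6286, 10124), (6287, 7077), (6288, 5880), (6289, 4228), (6290, 10135), (6291, 10137), (6292, 3728), (6293, 3729), (6294, 3754), (6295, 6218), (6296, 3755), (6297, 6347), (6298, 10150), (6299, 7058), (6300, 10152), (6301, 3733), (6302, 6306), (6303, 3734), (6304, 5888), (6305, 3735), (6306, 6302), (6307, 10156), (6308, 7278), (6309, 3737), (6310, 10060), (6311, 10061), (6312, 6240), (6313, 10165), (6314, 9547), (6315, 9546), (6316, 3740), (6317, 10063), (6318, 10064), (6319, 10172), (6320, 10174), (6321, 10177), (6322, 3743), (6323, 6368), (6324, 3744), (6325, 10180), (6326, 7266), (6327, 7267), (6328, 10186), (6329, 10188), (6330, 10192), (6331, 6339), (6332, 3747), (6333, 10198), (6334, 10200),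 (6335, 10201)]
    ⟨e3 q6272 L160050 q10116, e3 q6273 (flp_g L110719) q3719, e3 q6274 (flp_g L116643) q7126, e3 q6275 (flp_g L110771) q6279, e3 q6276 (flp_g L110743) q3721, e3 q6277 (flp_g L110751) q3722, e3 q6278 L110761 q3727, e3 q6279 L110771 q6275, e3 q6280 L160104 q10123, e3 q6281 (flp_g L116955) q7176, e3 q6282 (flp_g L110789) q3724, e3 q6283 L160134 q10127, e3 q6284 L160144 q10128, e3 q6285 (flp_g L110809) q3725, e3 q6286 (flp_g L160118) q10124, e3 q6287 (flp_g L116391) q7077, e3 q6288 (flp_g L151373) q5880, e3 q6289 (flp_g L110835) q4228, e3 q6290 L160202 q10135, e3 q6291 L160212 q10137, e3 q6292 (flp_g L110847) q3728, e3 q6293 (flp_g L110851) q3729, e3 q6294 L110861 q3754, e3 q6295 L110869 q6218, e3 q6296 L110875 q3755, e3 q6297 L111173 q6347, e3 q6298 L160284 q10150, e3 q6299 (flp_g L116209) q7058, e3 q6300 L160298 q10152, e3 q6301 (flp_g L110895) q3733, e3 q6302 (flp_g L110937) q6306, e3 q6303 (flp_g L110909) q3734, e3 q6304 (flp_g L151212) q5888, e3 q6305 (flp_g L110923) q3735, e3 q6306 L110937 q6302,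 e3 q6307 L160332 q10156, e3 q6308 (flp_g L117593) q7278, e3 q6309 (flp_g L110957) q3737, e3 q6310 (flp_g L159697) q10060, e3 q6311 (flp_g L159705) q10061, e3 q6312 (flp_g L110983) q6240, e3 q6313 L160408 q10165, e3 q6314 L156238 q9547, e3 q6315 L156224 q9546, e3 q6316 (flp_g L110997) q3740, e3 q6317 (flp_g L159715) q10063, e3 q6318 (flp_g L159723) q10064, e3 q6319 L160450 q10172, e3 q6320 L160466 q10174, e3 q6321 L160486 q10177, e3 q6322 (flp_g L111031) q3743, e3 q6323 (flp_g L111299) q6368, e3 q6324 (flp_g L111045) q3744, e3 q6325 (flp_g L160502) q10180, e3 q6326 (flp_g L117495) q7266, e3 q6327 (flp_g L117501) q7267, e3 q6328 L160534 q10186, e3 q6329 L160552 q10188, e3 q6330 L160578 q10192, e3 q6331 (flp_g L111131) q6339, e3 q6332 (flp_g L111088) q3747, e3 q6333 L160604 q10198, e3 q6334 L160614 q10200, e3 q6335 L160620 q10201, trivial⟩ (by decide +kernel)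

theorem ce_g_99 : ∀ r, r < 64 → sm gg (Qf (6336 + r)) = Qf (tab Gen.g (6336 + r)) :=
  edges_tab (sm gg) Qf (tab Gen.g) 6336 [(6336, 3748), (6337, 3749), (6338, 3752), (6339, 6331), (6340, 10204), (6341, 10209), (6342, 10140), (6343, 10142), (6344, 10143), (6345, 10218), (6346, 10220), (6347, 6297), (6348, 3756), (6349, 9135), (6350, 10227), (6351, 6359), (6352, 3757), (6353, 10233), (6354, 10235), (6355, 10236), (6356, 3758), (6357, 10239), (6358, 3759), (6359, 6351), (6360, 10243), (6361, 3762), (6362, 10247), (6363, 10250), (6364, 10252), (6365, 3764), (6366, 10255), (6367, 3765), (6368, 6323), (6369, 10258), (6370, 10262), (6371, 6378), (6372, 3767), (6373, 10268), (6374, 10270), (6375, 10271), (6376, 3768), (6377, 3769), (6378, 6371), (6379, 8526), (6380, 10280), (6381, 6388), (6382, 3772), (6383, 10286), (6384, 10288), (6385, 10289), (6386, 3773), (6387, 3774), (6388, 6381), (6389, 10294), (6390, 3777), (6391, 4426), (6392, 6478), (6393, 7781), (6394, 3779), (6395, 9842), (6396, 4474), (6397, 7512), (6398,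 10300), (6399, 3784)]
    ⟨e3 q6336 (flp_g L111107) q3748, e3 q6337 (flp_g L111111) q3749, e3 q6338 L111122 q3752, e3 q6339 L111131 q6331, e3 q6340 (flp_g L160642) q10204, e3 q6341 L160666 q10209, e3 q6342 (flp_g L160234) q10140, e3 q6343 (flp_g L160250) q10142, e3 q6344 (flp_g L160254) q10143, e3 q6345 L160714 q10218, e3 q6346 L160730 q10220, e3 q6347 (flp_g L111173) q6297, e3 q6348 (flp_g L111175) q3756, e3 q6349 (flp_g L153121) q9135, e3 q6350 L160774 q10227, e3 q6351 (flp_g L111247) q6359, e3 q6352 (flp_g L111204) q3757, e3 q6353 L160800 q10233, e3 q6354 L160810 q10235, e3 q6355 L160816 q10236, e3 q6356 (flp_g L111223) q3758, e3 q6357 L160836 q10239, e3 q6358 (flp_g L111233) q3759, e3 q6359 L111247 q6351, e3 q6360 L160854 q10243, e3 q6361 (flp_g L111253) q3762, e3 q6362 L160880 q10247, e3 q6363 L160896 q10250, e3 q6364 L160906 q10252, e3 q6365 (flp_g L111271) q3764, e3 q6366 L160922 q10255, e3 q6367 (flp_g L111281) q3765, e3 q6368 L111299 q6323, e3 q6369 L160944 q10258, e3 q6370 L160970 q10262, e3 q6371 (flp_g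 L111363) q6378, e3 q6372 (flp_g L111317) q3767, e3 q6373 L161004 q10268, e3 q6374 L161016 q10270, e3 q6375 L161024 q10271, e3 q6376 (flp_g L111341) q3768, e3 q6377 (flp_g L111347) q3769, e3 q6378 L111363 q6371, e3 q6379 (flp_g L149311) q8526, e3 q6380 L161084 q10280, e3 q6381 (flp_g L111427) q6388, e3 q6382 (flp_g L111381) q3772, e3 q6383 L161118 q10286, e3 q6384 L161130 q10288, e3 q6385 L161138 q10289, e3 q6386 (flp_g L111405) q3773, e3 q6387 (flp_g L111411) q3774, e3 q6388 L111427 q6381, e3 q6389 L161172 q10294, e3 q6390 (flp_g L111433) q3777, e3 q6391 L111443 q4426, e3 q6392 L111942 q6478, e3 q6393 (flp_g L122518) q7781, e3 q6394 (flp_g L111459) q3779, e3 q6395 L158217 q9842, e3 q6396 L150271 q4474, e3 q6397 (flp_g L150952) q7512, e3 q6398 L161208 q10300, e3 q6399 L111479 q3784, trivial⟩ (by decide +kernel)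

theorem ce_g_100 : ∀ r, r < 64 → sm gg (Qf (6400 + r)) = Qf (tab Gen.g (6400 + r)) :=
  edges_tab (sm gg) Qf (tab Gen.g) 6400 [(6400, 7898), (6401, 4713), (6402, 7867), (6403, 3787), (6404, 4475), (6405, 7796), (6406, 10302), (6407, 10304), (6408, 10305), (6409, 3794), (6410, 3795), (6411, 4445), (6412, 10309), (6413, 10312), (6414, 10313), (6415, 3797), (6416, 6490), (6417, 10314), (6418, 3799), (6419, 3800), (6420, 9673), (6421, 9674), (6422, 9675), (6423, 10321), (6424, 7496), (6425, 3807), (6426, 3809), (6427, 6431), (6428, 7793), (6429, 10331), (6430, 10324), (6431, 6427), (6432, 8094), (6433, 8119), (6434, 10336), (6435, 3810), (6436, 7488), (6437, 6443), (6438, 9913), (6439, 10343), (6440, 3813), (6441, 3814), (6442, 4563), (6443, 6437), (6444, 8562), (6445, 10339), (6446, 3816), (6447, 3865), (6448, 3872), (6449, 4692), (6450, 6507), (6451, 8160), (6452, 10356), (6453, 10357), (6454, 3821), (6455, 4450), (6456, 6466), (6457, 10362), (6458, 3823), (6459, 4590), (6460, 10366), (6461, 10367), (6462, 3826),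 (6463, 10369)]
    ⟨e3 q6400 (flp_g L163883) q7898, e3 q6401 L111505 q4713, e3 q6402 (flp_g L123047) q7867, e3 q6403 (flp_g L111511) q3787, e3 q6404 (flp_g L111531) q4475, e3 q6405 (flp_g L122641) q7796, e3 q6406 L161256 q10302, e3 q6407 L161268 q10304, e3 q6408 L161278 q10305, e3 q6409 (flp_g L111583) q3794, e3 q6410 (flp_g L111587) q3795, e3 q6411 L111601 q4445, e3 q6412 L161302 q10309, e3 q6413 L161324 q10312, e3 q6414 L161328 q10313, e3 q6415 (flp_g L111621) q3797, e3 q6416 (flp_g L112016) q6490, e3 q6417 L161336 q10314, e3 q6418 (flp_g L111637) q3799, e3 q6419 (flp_g L111645) q3800, e3 q6420 (flp_g L157183) q9673, e3 q6421 (flp_g L157187) q9674, e3 q6422 (flp_g L157191) q9675, e3 q6423 L161388 q10321, e3 q6424 (flp_g L120828) q7496, e3 q6425 L111673 q3807, e3 q6426 L111677 q3809, e3 q6427 L111699 q6431, e3 q6428 (flp_g L122623) q7793, e3 q6429 L161448 q10331, e3 q6430 (flp_g L161408) q10324, e3 q6431 (flp_g L111699) q6427, e3 q6432 (flp_g L163153) q8094, e3 q6433 (flp_g L163170) q8119, e3 q6434 L161480 q10336,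 e3 q6435 (flp_g L111713) q3810, e3 q6436 (flp_g L120782) q7488, e3 q6437 L151187 q6443, e3 q6438 (flp_g L158654) q9913, e3 q6439 L161531 q10343, e3 q6440 (flp_g L111735) q3813, e3 q6441 (flp_g L111739) q3814, e3 q6442 L111753 q4563, e3 q6443 (flp_g L151187) q6437, e3 q6444 L150976 q8562, e3 q6445 L161511 q10339, e3 q6446 (flp_g L111765) q3816, e3 q6447 L111773 q3865, e3 q6448 L111781 q3872, e3 q6449 L111789 q4692, e3 q6450 L112117 q6507, e3 q6451 (flp_g L163647) q8160, e3 q6452 L161615 q10356, e3 q6453 L161633 q10357, e3 q6454 (flp_g L111805) q3821, e3 q6455 L111811 q4450, e3 q6456 (flp_g L111861) q6466, e3 q6457 L161669 q10362, e3 q6458 (flp_g L111825) q3823, e3 q6459 L111831 q4590, e3 q6460 L161699 q10366, e3 q6461 L161705 q10367, e3 q6462 (flp_g L111839) q3826, e3 q6463 L161723 q10369, trivial⟩ (by decide +kernel)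

theorem ce_g_101 : ∀ r, r < 64 → sm gg (Qf (6464 + r)) = Qf (tab Gen.g (6464 + r)) :=
  edges_tab (sm gg) Qf (tab Gen.g) 6464 [(6464, 10370), (6465, 3828), (6466, 6456), (6467, 4556), (6468, 3843), (6469, 3868), (6470, 8860), (6471, 3836), (6472, 3841), (6473, 3839), (6474, 10373), (6475, 6052), (6476, 6051), (6477, 9780), (6478, 6392), (6479, 6112), (6480, 4543), (6481, 6003), (6482, 4544), (6483, 6518), (6484, 6902), (6485, 3845), (6486, 10386), (6487, 3846), (6488, 4497), (6489, 3905), (6490, 6416), (6491, 3906), (6492, 10392), (6493, 9153), (6494, 10397), (6495, 10400), (6496, 10402), (6497, 3853), (6498, 7569), (6499, 6740), (6500, 3855), (6501, 4752), (6502, 4461), (6503, 5871), (6504, 5367), (6505, 5188), (6506, 10408), (6507, 6450), (6508, 10412), (6509, 10414), (6510, 9440), (6511, 3867), (6512, 4422), (6513, 9526), (6514, 9723), (6515, 3869), (6516, 4129), (6517, 4124), (6518, 6483), (6519, 9353), (6520, 10421), (6521, 3873), (6522, 6566), (6523, 3874), (6524, 6569), (6525, 6563), (6526, 10428), (6527,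 3879)]
    ⟨e3 q6464 L161727 q10370, e3 q6465 (flp_g L111851) q3828, e3 q6466 L111861 q6456, e3 q6467 L111869 q4556, e3 q6468 L111875 q3843, e3 q6469 (flp_g L111885) q3868, e3 q6470 (flp_g L145741) q8860, e3 q6471 (flp_g L111901) q3836, e3 q6472 L111910 q3841, e3 q6473 (flp_g L111912) q3839, e3 q6474 (flp_g L161746) q10373, e3 q6475 (flp_g L155506) q6052, e3 q6476 L155488 q6051, e3 q6477 L157865 q9780, e3 q6478 (flp_g L111942) q6392, e3 q6479 (flp_g L155516) q6112, e3 q6480 L111954 q4543, e3 q6481 (flp_g L151375) q6003, e3 q6482 (flp_g L111964) q4544, e3 q6483 (flp_g L148307) q6518, e3 q6484 L119190 q6902, e3 q6485 (flp_g L111980) q3845, e3 q6486 L161836 q10386, e3 q6487 (flp_g L111986) q3846, e3 q6488 L112002 q4497, e3 q6489 L112008 q3905, e3 q6490 L112016 q6416, e3 q6491 L112022 q3906, e3 q6492 L161882 q10392, e3 q6493 (flp_g L153227) q9153, e3 q6494 L161906 q10397, e3 q6495 L161922 q10400, e3 q6496 L161932 q10402, e3 q6497 (flp_g L112048) q3853, e3 q6498 (flp_g L121313) q7569, e3 q6499 (flp_g L163538) q6740,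 e3 q6500 (flp_g L112058) q3855, e3 q6501 L112068 q4752, e3 q6502 L112076 q4461, e3 q6503 (flp_g L150970) q5871, e3 q6504 L150413 q5367, e3 q6505 L149959 q5188, e3 q6506 L161980 q10408, e3 q6507 (flp_g L112117) q6450, e3 q6508 L161998 q10412, e3 q6509 L162008 q10414, e3 q6510 L155441 q9440, e3 q6511 (flp_g L112166) q3867, e3 q6512 L112174 q4422, e3 q6513 (flp_g L156050) q9526, e3 q6514 L157491 q9723, e3 q6515 (flp_g L112190) q3869, e3 q6516 L148331 q4129, e3 q6517 L148291 q4124, e3 q6518 L148307 q6483, e3 q6519 (flp_g L154792) q9353, e3 q6520 L162076 q10421, e3 q6521 (flp_g L112224) q3873, e3 q6522 L149794 q6566, e3 q6523 (flp_g L112240) q3874, e3 q6524 (flp_g L149134) q6569, e3 q6525 L149796 q6563, e3 q6526 L162124 q10428, e3 q6527 L112270 q3879, trivial⟩ (by decide +kernel)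

theorem ce_g_102 : ∀ r, r < 64 → sm gg (Qf (6528 + r)) = Qf (tab Gen.g (6528 + r)) :=
  edges_tab (sm gg) Qf (tab Gen.g) 6528 [(6528, 10429), (6529, 10430), (6530, 10437), (6531, 7778), (6532, 7779), (6533, 6813), (6534, 3882), (6535, 3883), (6536, 10443), (6537, 10445), (6538, 6548), (6539, 3884), (6540, 10447), (6541, 10441), (6542, 10450), (6543, 3887), (6544, 10452), (6545, 3888), (6546, 3889), (6547, 3895), (6548, 6538), (6549, 7948), (6550, 3896), (6551, 6556), (6552, 10462), (6553, 10453), (6554, 10456), (6555, 10466), (6556, 6551), (6557, 3897), (6558, 10469), (6559, 3904), (6560, 3902), (6561, 8357), (6562, 10470), (6563, 6525), (6564, 10477), (6565, 10388), (6566, 6522), (6567, 10481), (6568, 10483), (6569, 6524), (6570, 3908), (6571, 10486), (6572, 3909), (6573, 4653), (6574, 5566), (6575, 8462), (6576, 10495), (6577, 6587), (6578, 3913), (6579, 6113), (6580, 9013), (6581, 8366), (6582, 10501), (6583, 10503), (6584, 3917), (6585, 10506), (6586, 3918), (6587, 6577), (6588, 6596), (6589, 3920), (6590,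 9925), (6591, 9869)]
    ⟨e3 q6528 (flp_g L162132) q10429, e3 q6529 (flp_g L162136) q10430, e3 q6530 L162164 q10437, e3 q6531 (flp_g L122502) q7778, e3 q6532 (flp_g L122506) q7779, e3 q6533 (flp_g L163671) q6813, e3 q6534 (flp_g L112292) q3882, e3 q6535 (flp_g L112314) q3883, e3 q6536 L162216 q10443, e3 q6537 L162230 q10445, e3 q6538 (flp_g L112382) q6548, e3 q6539 (flp_g L112334) q3884, e3 q6540 L162242 q10447, e3 q6541 (flp_g L162204) q10441, e3 q6542 L162267 q10450, e3 q6543 (flp_g L112352) q3887, e3 q6544 L162285 q10452, e3 q6545 (flp_g L112360) q3888, e3 q6546 (flp_g L112364) q3889, e3 q6547 L112374 q3895, e3 q6548 L112382 q6538, e3 q6549 (flp_g L123472) q7948, e3 q6550 L112388 q3896, e3 q6551 L112416 q6556, e3 q6552 L162346 q10462, e3 q6553 (flp_g L162295) q10453, e3 q6554 (flp_g L162315) q10456, e3 q6555 L162360 q10466, e3 q6556 (flp_g L112416) q6551, e3 q6557 (flp_g L112418) q3897, e3 q6558 L162372 q10469, e3 q6559 L112456 q3904, e3 q6560 (flp_g L112464) q3902, e3 q6561 (flp_g L129942) q8357, e3 q6562 (flp_g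 L162382) q10470, e3 q6563 (flp_g L149796) q6525, e3 q6564 L162424 q10477, e3 q6565 (flp_g L161862) q10388, e3 q6566 (flp_g L149794) q6522, e3 q6567 L162452 q10481, e3 q6568 L162464 q10483, e3 q6569 L149134 q6524, e3 q6570 (flp_g L112524) q3908, e3 q6571 L162480 q10486, e3 q6572 (flp_g L112538) q3909, e3 q6573 L112544 q4653, e3 q6574 (flp_g L150430) q5566, e3 q6575 L149578 q8462, e3 q6576 L162548 q10495, e3 q6577 (flp_g L112626) q6587, e3 q6578 (flp_g L112578) q3913, e3 q6579 (flp_g L163733) q6113, e3 q6580 L152270 q9013, e3 q6581 (flp_g L149576) q8366, e3 q6582 L162591 q10501, e3 q6583 L162609 q10503, e3 q6584 (flp_g L112604) q3917, e3 q6585 L162633 q10506, e3 q6586 (flp_g L112614) q3918, e3 q6587 L112626 q6577, e3 q6588 (flp_g L112666) q6596, e3 q6589 (flp_g L112632) q3920, e3 q6590 L158748 q9925, e3 q6591 (flp_g L163735) q9869, trivial⟩ (by decide +kernel)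

theorem ce_g_103 : ∀ r, r < 64 → sm gg (Qf (6592 + r)) = Qf (tab Gen.g (6592 + r)) :=
  edges_tab (sm gg) Qf (tab Gen.g) 6592 [(6592, 8773), (6593, 8568), (6594, 10516), (6595, 3925), (6596, 6588), (6597, 5008), (6598, 10521), (6599, 4830), (6600, 10524), (6601, 10526), (6602, 8983), (6603, 3932), (6604, 8837), (6605, 8800), (6606, 3933), (6607, 9156), (6608, 10532), (6609, 3937), (6610, 10536), (6611, 10538), (6612, 3940), (6613, 6854), (6614, 3943), (6615, 10539), (6616, 10542), (6617, 10543), (6618, 9916), (6619, 10544), (6620, 3944), (6621, 10546), (6622, 3945), (6623, 10547), (6624, 3946), (6625, 10550), (6626, 10551), (6627, 3949), (6628, 3950), (6629, 3960), (6630, 10554), (6631, 10555), (6632, 3952), (6633, 3953), (6634, 3963), (6635, 4011), (6636, 6672), (6637, 3964), (6638, 3965), (6639, 6650), (6640, 3994), (6641, 3958), (6642, 10552), (6643, 8896), (6644, 10570), (6645, 10556), (6646, 10558), (6647, 10559), (6648, 8491), (6649, 10563), (6650, 6639), (6651, 10564), (6652, 10583), (6653, 3966), (6654,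 4037), (6655, 10588)]
    ⟨e3 q6592 (flp_g L151425) q8773, e3 q6593 L151433 q8568, e3 q6594 L162678 q10516, e3 q6595 (flp_g L112656) q3925, e3 q6596 L112666 q6588, e3 q6597 L146519 q5008, e3 q6598 L162704 q10521, e3 q6599 L112716 q4830, e3 q6600 L162724 q10524, e3 q6601 L162738 q10526, e3 q6602 (flp_g L152056) q8983, e3 q6603 (flp_g L112728) q3932, e3 q6604 L151455 q8837, e3 q6605 L149790 q8800, e3 q6606 (flp_g L112740) q3933, e3 q6607 (flp_g L153249) q9156, e3 q6608 L162770 q10532, e3 q6609 (flp_g L112784) q3937, e3 q6610 L162810 q10536, e3 q6611 L162825 q10538, e3 q6612 (flp_g L112811) q3940, e3 q6613 (flp_g L142810) q6854, e3 q6614 L112898 q3943, e3 q6615 (flp_g L162837) q10539, e3 q6616 L162855 q10542, e3 q6617 L162865 q10543, e3 q6618 (flp_g L158682) q9916, e3 q6619 L162875 q10544, e3 q6620 (flp_g L112956) q3944, e3 q6621 L162915 q10546, e3 q6622 (flp_g L112976) q3945, e3 q6623 L162923 q10547, e3 q6624 (flp_g L112996) q3946, e3 q6625 L162953 q10550, e3 q6626 L162959 q10551, e3 q6627 (flp_g L113018) q3949, e3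 q6628 (flp_g L113022) q3950, e3 q6629 L113032 q3960, e3 q6630 L162983 q10554, e3 q6631 L162993 q10555, e3 q6632 (flp_g L113050) q3952, e3 q6633 (flp_g L113054) q3953, e3 q6634 L113066 q3963, e3 q6635 (flp_g L120156) q4011, e3 q6636 L149037 q6672, e3 q6637 L113082 q3964, e3 q6638 L113086 q3965, e3 q6639 L113158 q6650, e3 q6640 L149624 q3994, e3 q6641 (flp_g L113094) q3958, e3 q6642 (flp_g L162973) q10552, e3 q6643 (flp_g L145997) q8896, e3 q6644 L163117 q10570, e3 q6645 (flp_g L163007) q10556, e3 q6646 (flp_g L163027) q10558, e3 q6647 (flp_g L163037) q10559, e3 q6648 L143269 q8491, e3 q6649 (flp_g L163075) q10563, e3 q6650 (flp_g L113158) q6639, e3 q6651 (flp_g L163081) q10564, e3 q6652 L164091 q10583, e3 q6653 (flp_g L113170) q3966, e3 q6654 L113190 q4037, e3 q6655 L164131 q10588, trivial⟩ (by decide +kernel)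

theorem ce_g_104 : ∀ r, r < 64 → sm gg (Qf (6656 + r)) = Qf (tab Gen.g (6656 + r)) :=
  edges_tab (sm gg) Qf (tab Gen.g) 6656 [(6656, 4040), (6657, 4041), (6658, 4042), (6659, 8436), (6660, 5086), (6661, 6661), (6662, 10595), (6663, 10596), (6664, 3973), (6665, 6666), (6666, 6665), (6667, 9899), (6668, 3974), (6669, 5061), (6670, 6677), (6671, 6792), (6672, 6636), (6673, 10605), (6674, 8407), (6675, 3979), (6676, 8892), (6677, 6670), (6678, 5378), (6679, 10610), (6680, 3982), (6681, 10613), (6682, 3983), (6683, 6697), (6684, 10617), (6685, 3985), (6686, 4885), (6687, 10620), (6688, 5510), (6689, 3990), (6690, 8516), (6691, 10561), (6692, 10626), (6693, 3993), (6694, 10566), (6695, 10631), (6696, 3995), (6697, 6683), (6698, 4912), (6699, 10636), (6700, 4925), (6701, 6866), (6702, 10638), (6703, 4000), (6704, 10639), (6705, 6870), (6706, 4004), (6707, 10647), (6708, 4005), (6709, 4006), (6710, 4007), (6711, 4010), (6712, 5117), (6713, 10649), (6714, 10651), (6715, 10654), (6716, 10557), (6717, 4021), (6718, 9268),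 (6719, 4022)]
    ⟨e3 q6656 L113200 q4040, e3 q6657 L113210 q4041, e3 q6658 L113218 q4042, e3 q6659 (flp_g L148572) q8436, e3 q6660 L146681 q5086, e3 q6661 L113247 q6661, e3 q6662 L164186 q10595, e3 q6663 L164194 q10596, e3 q6664 (flp_g L113344) q3973, e3 q6665 (flp_g L148562) q6666, e3 q6666 L148562 q6665, e3 q6667 (flp_g L158555) q9899, e3 q6668 (flp_g L113384) q3974, e3 q6669 L148477 q5061, e3 q6670 (flp_g L113470) q6677, e3 q6671 L148540 q6792, e3 q6672 (flp_g L149037) q6636, e3 q6673 L164280 q10605, e3 q6674 L148546 q8407, e3 q6675 (flp_g L113446) q3979, e3 q6676 L148548 q8892, e3 q6677 L113470 q6670, e3 q6678 L146195 q5378, e3 q6679 L164328 q10610, e3 q6680 (flp_g L113478) q3982, e3 q6681 L164356 q10613, e3 q6682 (flp_g L113488) q3983, e3 q6683 (flp_g L113602) q6697, e3 q6684 L164394 q10617, e3 q6685 (flp_g L113516) q3985, e3 q6686 L113532 q4885, e3 q6687 L164414 q10620, e3 q6688 (flp_g L151127) q5510, e3 q6689 (flp_g L113546) q3990, e3 q6690 L148878 q8516, e3 q6691 (flp_g L163053) q10561, e3 q6692 L164454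 q10626, e3 q6693 (flp_g L113570) q3993, e3 q6694 (flp_g L163091) q10566, e3 q6695 L164488 q10631, e3 q6696 (flp_g L113592) q3995, e3 q6697 L113602 q6683, e3 q6698 (flp_g L141036) q4912, e3 q6699 L164524 q10636, e3 q6700 L113626 q4925, e3 q6701 L120206 q6866, e3 q6702 L164539 q10638, e3 q6703 (flp_g L113645) q4000, e3 q6704 (flp_g L164551) q10639, e3 q6705 (flp_g L114979) q6870, e3 q6706 (flp_g L113727) q4004, e3 q6707 L164605 q10647, e3 q6708 (flp_g L113745) q4005, e3 q6709 (flp_g L113757) q4006, e3 q6710 (flp_g L113765) q4007, e3 q6711 L113771 q4010, e3 q6712 (flp_g L119805) q5117, e3 q6713 (flp_g L164635) q10649, e3 q6714 (flp_g L164653) q10651, e3 q6715 L164663 q10654, e3 q6716 (flp_g L163019) q10557, e3 q6717 L113847 q4021, e3 q6718 (flp_g L154154) q9268, e3 q6719 L113865 q4022, trivial⟩ (by decide +kernel)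

theorem ce_g_105 : ∀ r, r < 64 → sm gg (Qf (6720 + r)) = Qf (tab Gen.g (6720 + r)) :=
  edges_tab (sm gg) Qf (tab Gen.g) 6720 [(6720, 4023), (6721, 6738), (6722, 9270), (6723, 9271), (6724, 10658), (6725, 10661), (6726, 4027), (6727, 4029), (6728, 6750), (6729, 10665), (6730, 9343), (6731, 9348), (6732, 10650), (6733, 10655), (6734, 7724), (6735, 6757), (6736, 10652), (6737, 7933), (6738, 6721), (6739, 7932), (6740, 6499), (6741, 9273), (6742, 10680), (6743, 4025), (6744, 10682), (6745, 10683), (6746, 10685), (6747, 4026), (6748, 9757), (6749, 5421), (6750, 6728), (6751, 10691), (6752, 10663), (6753, 10692), (6754, 6760), (6755, 10694), (6756, 4031), (6757, 6735), (6758, 8450), (6759, 4033), (6760, 6754), (6761, 10699), (6762, 8097), (6763, 10584), (6764, 10704), (6765, 5699), (6766, 10709), (6767, 10711), (6768, 10712), (6769, 4039), (6770, 10589), (6771, 9181), (6772, 10591), (6773, 6846), (6774, 10721), (6775, 10722), (6776, 4044), (6777, 4117), (6778, 4108), (6779, 6886), (6780, 10703), (6781, 10730), (6782,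 6788), (6783, 8323)]
    ⟨e3 q6720 L113871 q4023, e3 q6721 L113969 q6738, e3 q6722 (flp_g L154170) q9270, e3 q6723 (flp_g L154176) q9271, e3 q6724 L164691 q10658, e3 q6725 L164713 q10661, e3 q6726 L113895 q4027, e3 q6727 L113899 q4029, e3 q6728 L114031 q6750, e3 q6729 L164747 q10665, e3 q6730 L154716 q9343, e3 q6731 (flp_g L154746) q9348, e3 q6732 (flp_g L164647) q10650, e3 q6733 (flp_g L164681) q10655, e3 q6734 L163493 q7724, e3 q6735 (flp_g L151133) q6757, e3 q6736 (flp_g L164659) q10652, e3 q6737 (flp_g L163586) q7933, e3 q6738 (flp_g L113969) q6721, e3 q6739 L163598 q7932, e3 q6740 L163538 q6499, e3 q6741 (flp_g L154186) q9273, e3 q6742 L164861 q10680, e3 q6743 (flp_g L114005) q4025, e3 q6744 L164889 q10682, e3 q6745 L164895 q10683, e3 q6746 L164907 q10685, e3 q6747 (flp_g L114017) q4026, e3 q6748 (flp_g L157731) q9757, e3 q6749 L153461 q5421, e3 q6750 (flp_g L114031) q6728, e3 q6751 L164953 q10691, e3 q6752 (flp_g L164733) q10663, e3 q6753 L164957 q10692, e3 q6754 (flp_g L114103) q6760, e3 q6755 L164965 q10694,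 e3 q6756 (flp_g L114067) q4031, e3 q6757 L151133 q6735, e3 q6758 (flp_g L142907) q8450, e3 q6759 (flp_g L114081) q4033, e3 q6760 L114103 q6754, e3 q6761 L165003 q10699, e3 q6762 (flp_g L142704) q8097, e3 q6763 (flp_g L164107) q10584, e3 q6764 L165031 q10704, e3 q6765 L114143 q5699, e3 q6766 L165051 q10709, e3 q6767 L165059 q10711, e3 q6768 L165063 q10712, e3 q6769 (flp_g L114153) q4039, e3 q6770 (flp_g L164143) q10589, e3 q6771 L153400 q9181, e3 q6772 (flp_g L164157) q10591, e3 q6773 (flp_g L114738) q6846, e3 q6774 L165124 q10721, e3 q6775 L165130 q10722, e3 q6776 (flp_g L114181) q4044, e3 q6777 L148355 q4117, e3 q6778 L148407 q4108, e3 q6779 L148402 q6886, e3 q6780 L165029 q10703, e3 q6781 L165192 q10730, e3 q6782 (flp_g L114344) q6788, e3 q6783 (flp_g L148560) q8323, trivial⟩ (by decide +kernel)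

theorem ce_g_106 : ∀ r, r < 64 → sm gg (Qf (6784 + r)) = Qf (tab Gen.g (6784 + r)) :=
  edges_tab (sm gg) Qf (tab Gen.g) 6784 [(6784, 5122), (6785, 5132), (6786, 10736), (6787, 4053), (6788, 6782), (6789, 6818), (6790, 6810), (6791, 4056), (6792, 6671), (6793, 7890), (6794, 5723), (6795, 10439), (6796, 4059), (6797, 9285), (6798, 5410), (6799, 5408), (6800, 4062), (6801, 4064), (6802, 10746), (6803, 7891), (6804, 9298), (6805, 4065), (6806, 10755), (6807, 10758), (6808, 10759), (6809, 4067), (6810, 6790), (6811, 10760), (6812, 4068), (6813, 6533), (6814, 4069), (6815, 4071), (6816, 10763), (6817, 10765), (6818, 6789), (6819, 9474), (6820, 10734), (6821, 4072), (6822, 6024), (6823, 8927), (6824, 4073), (6825, 10768), (6826, 8651), (6827, 4090), (6828, 4079), (6829, 4080), (6830, 6833), (6831, 10739), (6832, 10614), (6833, 6830), (6834, 4081), (6835, 10783), (6836, 8103), (6837, 8108), (6838, 10642), (6839, 9239), (6840, 10791), (6841, 10411), (6842, 10794), (6843, 4085), (6844, 8200), (6845, 10797), (6846, 6773),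 (6847, 4088)]
    ⟨e3 q6784 L146495 q5122, e3 q6785 L148434 q5132, e3 q6786 L165258 q10736, e3 q6787 (flp_g L114332) q4053, e3 q6788 L114344 q6782, e3 q6789 (flp_g L154518) q6818, e3 q6790 L154528 q6810, e3 q6791 (flp_g L114374) q4056, e3 q6792 (flp_g L148540) q6671, e3 q6793 L163758 q7890, e3 q6794 (flp_g L150578) q5723, e3 q6795 L163770 q10439, e3 q6796 (flp_g L114430) q4059, e3 q6797 (flp_g L154246) q9285, e3 q6798 L153006 q5410, e3 q6799 L153018 q5408, e3 q6800 (flp_g L114454) q4062, e3 q6801 L114460 q4064, e3 q6802 (flp_g L165336) q10746, e3 q6803 (flp_g L163862) q7891, e3 q6804 (flp_g L154522) q9298, e3 q6805 (flp_g L114474) q4065, e3 q6806 L165388 q10755, e3 q6807 L165416 q10758, e3 q6808 L165428 q10759, e3 q6809 (flp_g L114510) q4067, e3 q6810 (flp_g L154528) q6790, e3 q6811 L165438 q10760, e3 q6812 (flp_g L114524) q4068, e3 q6813 L163671 q6533, e3 q6814 (flp_g L114536) q4069, e3 q6815 L114546 q4071, e3 q6816 (flp_g L165472) q10763, e3 q6817 L165488 q10765, e3 q6818 L154518 q6789, e3 q6819 L157391 q9474,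 e3 q6820 (flp_g L165248) q10734, e3 q6821 (flp_g L114578) q4072, e3 q6822 (flp_g L157399) q6024, e3 q6823 L153024 q8927, e3 q6824 (flp_g L114586) q4073, e3 q6825 (flp_g L165520) q10768, e3 q6826 L153030 q8651, e3 q6827 L114608 q4090, e3 q6828 L114622 q4079, e3 q6829 L114626 q4080, e3 q6830 L114648 q6833, e3 q6831 (flp_g L165290) q10739, e3 q6832 (flp_g L164376) q10614, e3 q6833 (flp_g L114648) q6830, e3 q6834 (flp_g L114658) q4081, e3 q6835 L165624 q10783, e3 q6836 (flp_g L141018) q8103, e3 q6837 (flp_g L142776) q8108, e3 q6838 L164564 q10642, e3 q6839 (flp_g L153956) q9239, e3 q6840 L165684 q10791, e3 q6841 L163756 q10411, e3 q6842 L165698 q10794, e3 q6843 (flp_g L114720) q4085, e3 q6844 (flp_g L126724) q8200, e3 q6845 L165718 q10797, e3 q6846 L114738 q6773, e3 q6847 (flp_g L114740) q4088, trivial⟩ (by decide +kernel)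

theorem ce_g_107 : ∀ r, r < 64 → sm gg (Qf (6848 + r)) = Qf (tab Gen.g (6848 + r)) :=
  edges_tab (sm gg) Qf (tab Gen.g) 6848 [(6848, 8928), (6849, 9734), (6850, 10804), (6851, 10805), (6852, 10806), (6853, 4092), (6854, 6613), (6855, 10808), (6856, 4094), (6857, 10810), (6858, 10811), (6859, 10812), (6860, 4095), (6861, 4096), (6862, 5088), (6863, 4098), (6864, 10816), (6865, 4101), (6866, 6701), (6867, 9468), (6868, 4103), (6869, 10819), (6870, 6705), (6871, 5661), (6872, 8442), (6873, 10724), (6874, 10828), (6875, 6875), (6876, 7577), (6877, 6883), (6878, 7574), (6879, 9130), (6880, 10833), (6881, 4111), (6882, 4112), (6883, 6877), (6884, 6884), (6885, 5826), (6886, 6779), (6887, 4118), (6888, 5834), (6889, 9470), (6890, 10843), (6891, 5694), (6892, 10846), (6893, 10166), (6894, 10849), (6895, 4127), (6896, 7270), (6897, 9932), (6898, 7198), (6899, 10854), (6900, 4130), (6901, 6901), (6902, 6484), (6903, 10858), (6904, 4132), (6905, 10859), (6906, 6906), (6907, 6907), (6908, 10420), (6909, 6956), (6910, 10870),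 (6911, 4136)]
    ⟨e3 q6848 L153032 q8928, e3 q6849 (flp_g L157577) q9734, e3 q6850 L165772 q10804, e3 q6851 L165780 q10805, e3 q6852 L165790 q10806, e3 q6853 (flp_g L114829) q4092, e3 q6854 L142810 q6613, e3 q6855 L165806 q10808, e3 q6856 (flp_g L114865) q4094, e3 q6857 L165816 q10810, e3 q6858 L165824 q10811, e3 q6859 L165830 q10812, e3 q6860 (flp_g L114883) q4095, e3 q6861 (flp_g L114887) q4096, e3 q6862 (flp_g L119714) q5088, e3 q6863 (flp_g L114905) q4098, e3 q6864 L165861 q10816, e3 q6865 (flp_g L114931) q4101, e3 q6866 (flp_g L120206) q6701, e3 q6867 (flp_g L155662) q9468, e3 q6868 (flp_g L114963) q4103, e3 q6869 (flp_g L165893) q10819, e3 q6870 L114979 q6705, e3 q6871 L150790 q5661, e3 q6872 (flp_g L148580) q8442, e3 q6873 (flp_g L165147) q10724, e3 q6874 L165965 q10828, e3 q6875 L115012 q6875, e3 q6876 (flp_g L149194) q7577, e3 q6877 (flp_g L115076) q6883, e3 q6878 (flp_g L150870) q7574, e3 q6879 L153084 q9130, e3 q6880 L166001 q10833, e3 q6881 (flp_g L115055) q4111, e3 q6882 (flp_g L115064) q4112, e3 q6883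 L115076 q6877, e3 q6884 L115084 q6884, e3 q6885 L149558 q5826, e3 q6886 (flp_g L148402) q6779, e3 q6887 (flp_g L115110) q4118, e3 q6888 L149652 q5834, e3 q6889 L155678 q9470, e3 q6890 L166090 q10843, e3 q6891 L150566 q5694, e3 q6892 L166122 q10846, e3 q6893 (flp_g L160418) q10166, e3 q6894 L166144 q10849, e3 q6895 (flp_g L115196) q4127, e3 q6896 (flp_g L117523) q7270, e3 q6897 (flp_g L158795) q9932, e3 q6898 L117097 q7198, e3 q6899 L166172 q10854, e3 q6900 (flp_g L115240) q4130, e3 q6901 L115252 q6901, e3 q6902 (flp_g L119190) q6484, e3 q6903 L166208 q10858, e3 q6904 (flp_g L115271) q4132, e3 q6905 (flp_g L166226) q10859, e3 q6906 L115290 q6906, e3 q6907 L120703 q6907, e3 q6908 L162074 q10420, e3 q6909 (flp_g L115543) q6956, e3 q6910 L166316 q10870, e3 q6911 (flp_g L115313) q4136, trivial⟩ (by decide +kernel)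

theorem ce_g_108 : ∀ r, r < 64 → sm gg (Qf (6912 + r)) = Qf (tab Gen.g (6912 + r)) :=
  edges_tab (sm gg) Qf (tab Gen.g) 6912 [(6912, 10871), (6913, 4159), (6914, 4160), (6915, 6959), (6916, 10882), (6917, 10021), (6918, 6973), (6919, 10884), (6920, 4141), (6921, 4143), (6922, 10071), (6923, 10885), (6924, 10889), (6925, 6232), (6926, 4169), (6927, 4171), (6928, 6978), (6929, 7248), (6930, 4321), (6931, 10895), (6932, 4147), (6933, 6933), (6934, 10899), (6935, 6942), (6936, 4148), (6937, 10901), (6938, 4149), (6939, 6992), (6940, 4150), (6941, 4155), (6942, 6935), (6943, 10910), (6944, 10902), (6945, 10915), (6946, 10917), (6947, 4154), (6948, 6996), (6949, 10906), (6950, 4183), (6951, 10923), (6952, 10925), (6953, 4156), (6954, 10929), (6955, 4157), (6956, 6909), (6957, 10933), (6958, 10876), (6959, 6915), (6960, 10877), (6961, 10941), (6962, 4161), (6963, 7269), (6964, 4162), (6965, 10942), (6966, 10944), (6967, 4163), (6968, 7342), (6969, 10948), (6970, 10949), (6971, 4165), (6972, 6972), (6973, 6918), (6974,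 9971), (6975, 4168)]
    ⟨e3 q6912 (flp_g L166324) q10871, e3 q6913 L115325 q4159, e3 q6914 L115329 q4160, e3 q6915 L115559 q6959, e3 q6916 L166386 q10882, e3 q6917 (flp_g L159465) q10021, e3 q6918 (flp_g L115637) q6973, e3 q6919 L166402 q10884, e3 q6920 (flp_g L115361) q4141, e3 q6921 L115371 q4143, e3 q6922 (flp_g L159757) q10071, e3 q6923 (flp_g L166410) q10885, e3 q6924 L166430 q10889, e3 q6925 (flp_g L115397) q6232, e3 q6926 L115405 q4169, e3 q6927 L115409 q4171, e3 q6928 L115679 q6978, e3 q6929 (flp_g L117399) q7248, e3 q6930 (flp_g L115427) q4321, e3 q6931 L166468 q10895, e3 q6932 (flp_g L115433) q4147, e3 q6933 L151372 q6933, e3 q6934 L166503 q10899, e3 q6935 (flp_g L115486) q6942, e3 q6936 (flp_g L115454) q4148, e3 q6937 L166519 q10901, e3 q6938 (flp_g L115464) q4149, e3 q6939 L151284 q6992, e3 q6940 (flp_g L115474) q4150, e3 q6941 L115480 q4155, e3 q6942 L115486 q6935, e3 q6943 L166588 q10910, e3 q6944 (flp_g L166532) q10902, e3 q6945 L166642 q10915, e3 q6946 L166652 q10917, e3 q6947 (flp_g L115505) q4154,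 e3 q6948 (flp_g L151295) q6996, e3 q6949 (flp_g L166553) q10906, e3 q6950 L151172 q4183, e3 q6951 L166692 q10923, e3 q6952 L166704 q10925, e3 q6953 (flp_g L115523) q4156, e3 q6954 L166726 q10929, e3 q6955 (flp_g L115533) q4157, e3 q6956 L115543 q6909, e3 q6957 L166746 q10933, e3 q6958 (flp_g L166360) q10876, e3 q6959 (flp_g L115559) q6915, e3 q6960 (flp_g L166364) q10877, e3 q6961 L166794 q10941, e3 q6962 (flp_g L115567) q4161, e3 q6963 L117515 q7269, e3 q6964 (flp_g L115583) q4162, e3 q6965 L166802 q10942, e3 q6966 L166816 q10944, e3 q6967 (flp_g L115597) q4163, e3 q6968 (flp_g L117977) q7342, e3 q6969 L166846 q10948, e3 q6970 L166850 q10949, e3 q6971 (flp_g L115620) q4165, e3 q6972 L115628 q6972, e3 q6973 L115637 q6918, e3 q6974 (flp_g L159079) q9971, e3 q6975 (flp_g L115655) q4168, trivial⟩ (by decide +kernel)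

theorem ce_g_109 : ∀ r, r < 64 → sm gg (Qf (6976 + r)) = Qf (tab Gen.g (6976 + r)) :=
  edges_tab (sm gg) Qf (tab Gen.g) 6976 [(6976, 4397), (6977, 10890), (6978, 6928), (6979, 4316), (6980, 10348), (6981, 10347), (6982, 10963), (6983, 10964), (6984, 4172), (6985, 4174), (6986, 10909), (6987, 6987), (6988, 10913), (6989, 10968), (6990, 4178), (6991, 4180), (6992, 6939), (6993, 10969), (6994, 6994), (6995, 6995), (6996, 6948), (6997, 10919), (6998, 10921), (6999, 10979), (7000, 10980), (7001, 4184), (7002, 10982), (7003, 10983), (7004, 4186), (7005, 9987), (7006, 4189), (7007, 4190), (7008, 7011), (7009, 10992), (7010, 10988), (7011, 7008), (7012, 10989), (7013, 11000), (7014, 4191), (7015, 11003), (7016, 11004), (7017, 4192), (7018, 4261), (7019, 4262), (7020, 7133), (7021, 11010), (7022, 7030), (7023, 11014), (7024, 4196), (7025, 10090), (7026, 11019), (7027, 4197), (7028, 11022), (7029, 4198), (7030, 7022), (7031, 4200), (7032, 5847), (7033, 11027), (7034, 11029), (7035, 11030), (7036, 4202), (7037, 7212), (7038,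 7214), (7039, 11032)]
    ⟨e3 q6976 L150670 q4397, e3 q6977 (flp_g L166446) q10890, e3 q6978 (flp_g L115679) q6928, e3 q6979 (flp_g L115685) q4316, e3 q6980 (flp_g L161573) q10348, e3 q6981 (flp_g L161561) q10347, e3 q6982 L166946 q10963, e3 q6983 L166954 q10964, e3 q6984 (flp_g L115703) q4172, e3 q6985 L166584 q4174, e3 q6986 (flp_g L166586) q10909, e3 q6987 L115739 q6987, e3 q6988 L166615 q10913, e3 q6989 (flp_g L166992) q10968, e3 q6990 (flp_g L115756) q4178, e3 q6991 L115764 q4180, e3 q6992 (flp_g L151284) q6939, e3 q6993 (flp_g L167000) q10969, e3 q6994 L115793 q6994, e3 q6995 L151157 q6995, e3 q6996 L151295 q6948, e3 q6997 (flp_g L166666) q10919, e3 q6998 L166676 q10921, e3 q6999 L167076 q10979, e3 q7000 L167082 q10980, e3 q7001 (flp_g L115832) q4184, e3 q7002 L167096 q10982, e3 q7003 L167104 q10983, e3 q7004 (flp_g L115846) q4186, e3 q7005 L159227 q9987, e3 q7006 L115856 q4189, e3 q7007 L115860 q4190, e3 q7008 L115880 q7011, e3 q7009 L167158 q10992, e3 q7010 (flp_g L167144) q10988, e3 q7011 (flp_g L115880)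 q7008, e3 q7012 (flp_g L167148) q10989, e3 q7013 L167192 q11000, e3 q7014 (flp_g L115888) q4191, e3 q7015 L167214 q11003, e3 q7016 L167220 q11004, e3 q7017 (flp_g L115906) q4192, e3 q7018 L115922 q4261, e3 q7019 L115926 q4262, e3 q7020 L116689 q7133, e3 q7021 L167266 q11010, e3 q7022 (flp_g L115976) q7030, e3 q7023 L167288 q11014, e3 q7024 (flp_g L115944) q4196, e3 q7025 (flp_g L159885) q10090, e3 q7026 L167310 q11019, e3 q7027 (flp_g L115956) q4197, e3 q7028 L167322 q11022, e3 q7029 (flp_g L115966) q4198, e3 q7030 L115976 q7022, e3 q7031 (flp_g L115978) q4200, e3 q7032 L115994 q5847, e3 q7033 L167357 q11027, e3 q7034 L167377 q11029, e3 q7035 L167387 q11030, e3 q7036 (flp_g L116010) q4202, e3 q7037 (flp_g L117187) q7212, e3 q7038 (flp_g L117205) q7214, e3 q7039 L167403 q11032, trivial⟩ (by decide +kernel)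

theorem ce_g_110 : ∀ r, r < 64 → sm gg (Qf (7040 + r)) = Qf (tab Gen.g (7040 + r)) :=
  edges_tab (sm gg) Qf (tab Gen.g) 7040 [(7040, 4204), (7041, 4205), (7042, 7042), (7043, 7043), (7044, 10952), (7045, 11040), (7046, 4212), (7047, 4214), (7048, 7052), (7049, 4211), (7050, 11050), (7051, 11042), (7052, 7048), (7053, 11043), (7054, 11044), (7055, 11060), (7056, 11061), (7057, 4215), (7058, 6299), (7059, 4217), (7060, 5884), (7061, 11065), (7062, 11067), (7063, 11068), (7064, 4219), (7065, 4340), (7066, 4341), (7067, 4348), (7068, 7293), (7069, 7294), (7070, 11074), (7071, 11076), (7072, 4224), (7073, 7225), (7074, 7085), (7075, 11083), (7076, 4226), (7077, 6287), (7078, 11088), (7079, 11091), (7080, 4229), (7081, 11095), (7082, 11096), (7083, 4231), (7084, 7084), (7085, 7074), (7086, 7268), (7087, 4234), (7088, 4239), (7089, 5234), (7090, 10984), (7091, 11108), (7092, 4236), (7093, 4237), (7094, 11109), (7095, 11103), (7096, 11104), (7097, 10009), (7098, 11121), (7099, 11122), (7100, 4240), (7101, 4241), (7102,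 7102), (7103, 6253)]
    ⟨e3 q7040 (flp_g L116084) q4204, e3 q7041 (flp_g L116090) q4205, e3 q7042 L116102 q7042, e3 q7043 L116112 q7043, e3 q7044 (flp_g L166877) q10952, e3 q7045 L167450 q11040, e3 q7046 L116129 q4212, e3 q7047 L116133 q4214, e3 q7048 L116175 q7052, e3 q7049 (flp_g L116151) q4211, e3 q7050 L167500 q11050, e3 q7051 (flp_g L167468) q11042, e3 q7052 (flp_g L116175) q7048, e3 q7053 (flp_g L167472) q11043, e3 q7054 (flp_g L167476) q11044, e3 q7055 L167560 q11060, e3 q7056 L167568 q11061, e3 q7057 (flp_g L116195) q4215, e3 q7058 L116209 q6299, e3 q7059 (flp_g L116255) q4217, e3 q7060 (flp_g L150297) q5884, e3 q7061 L167594 q11065, e3 q7062 L167615 q11067, e3 q7063 L167627 q11068, e3 q7064 (flp_g L116281) q4219, e3 q7065 L116291 q4340, e3 q7066 L116299 q4341, e3 q7067 L116310 q4348, e3 q7068 L117691 q7293, e3 q7069 L117701 q7294, e3 q7070 L167671 q11074, e3 q7071 L167682 q11076, e3 q7072 (flp_g L116347) q4224, e3 q7073 L117263 q7225, e3 q7074 (flp_g L116437) q7085, e3 q7075 L167726 q11083, e3 q7076 (flp_g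 L116367) q4226, e3 q7077 L116391 q6287, e3 q7078 L167750 q11088, e3 q7079 L167766 q11091, e3 q7080 (flp_g L116401) q4229, e3 q7081 L167791 q11095, e3 q7082 L167795 q11096, e3 q7083 (flp_g L116418) q4231, e3 q7084 L116428 q7084, e3 q7085 L116437 q7074, e3 q7086 (flp_g L117507) q7268, e3 q7087 (flp_g L116447) q4234, e3 q7088 L116459 q4239, e3 q7089 L116469 q5234, e3 q7090 (flp_g L167120) q10984, e3 q7091 L167884 q11108, e3 q7092 (flp_g L116481) q4236, e3 q7093 (flp_g L116483) q4237, e3 q7094 (flp_g L167896) q11109, e3 q7095 (flp_g L167854) q11103, e3 q7096 (flp_g L167860) q11104, e3 q7097 L159385 q10009, e3 q7098 L167958 q11121, e3 q7099 L167961 q11122, e3 q7100 (flp_g L116512) q4240, e3 q7101 (flp_g L116516) q4241, e3 q7102 L116526 q7102, e3 q7103 L116535 q6253, trivial⟩ (by decide +kernel)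

theorem ce_g_111 : ∀ r, r < 64 → sm gg (Qf (7104 + r)) = Qf (tab Gen.g (7104 + r)) :=
  edges_tab (sm gg) Qf (tab Gen.g) 7104 [(7104, 7104), (7105, 10097), (7106, 11133), (7107, 11137), (7108, 4250), (7109, 4252), (7110, 7119), (7111, 11146), (7112, 11148), (7113, 11150), (7114, 4248), (7115, 10936), (7116, 4249), (7117, 11157), (7118, 11139), (7119, 7110), (7120, 10880), (7121, 11140), (7122, 11141), (7123, 11167), (7124, 11168), (7125, 4253), (7126, 6274), (7127, 11175), (7128, 4255), (7129, 5267), (7130, 10001), (7131, 7141), (7132, 4257), (7133, 7020), (7134, 11183), (7135, 11106), (7136, 11187), (7137, 4260), (7138, 11189), (7139, 8681), (7140, 11070), (7141, 7131), (7142, 11195), (7143, 4263), (7144, 11198), (7145, 4264), (7146, 11199), (7147, 11206), (7148, 7165), (7149, 11211), (7150, 4267), (7151, 4269), (7152, 11213), (7153, 11214), (7154, 11220), (7155, 11221), (7156, 4270), (7157, 11226), (7158, 11228), (7159, 4271), (7160, 11222), (7161, 11233), (7162, 11234), (7163, 4273), (7164, 7164), (7165, 7148),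 (7166, 11241), (7167, 7299)]
    ⟨e3 q7104 L116542 q7104, e3 q7105 (flp_g L168045) q10097, e3 q7106 L168030 q11133, e3 q7107 L168100 q11137, e3 q7108 L116557 q4250, e3 q7109 L116561 q4252, e3 q7110 L116611 q7119, e3 q7111 L168140 q11146, e3 q7112 L168150 q11148, e3 q7113 L168164 q11150, e3 q7114 (flp_g L116579) q4248, e3 q7115 L166780 q10936, e3 q7116 (flp_g L116595) q4249, e3 q7117 L168206 q11157, e3 q7118 (flp_g L168112) q11139, e3 q7119 (flp_g L116611) q7110, e3 q7120 L166380 q10880, e3 q7121 (flp_g L168116) q11140, e3 q7122 (flp_g L168120) q11141, e3 q7123 L168244 q11167, e3 q7124 L168252 q11168, e3 q7125 (flp_g L116631) q4253, e3 q7126 L116643 q6274, e3 q7127 L168290 q11175, e3 q7128 (flp_g L116651) q4255, e3 q7129 L116667 q5267, e3 q7130 (flp_g L159323) q10001, e3 q7131 (flp_g L150801) q7141, e3 q7132 (flp_g L116677) q4257, e3 q7133 (flp_g L116689) q7020, e3 q7134 L168342 q11183, e3 q7135 L167876 q11106, e3 q7136 L168364 q11187, e3 q7137 (flp_g L116699) q4260, e3 q7138 L168380 q11189, e3 q7139 (flp_g L150799)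 q8681, e3 q7140 (flp_g L167653) q11070, e3 q7141 L150801 q7131, e3 q7142 L168405 q11195, e3 q7143 (flp_g L116725) q4263, e3 q7144 L168424 q11198, e3 q7145 (flp_g L116743) q4264, e3 q7146 (flp_g L168436) q11199, e3 q7147 L168482 q11206, e3 q7148 (flp_g L116865) q7165, e3 q7149 L168512 q11211, e3 q7150 (flp_g L116765) q4267, e3 q7151 L116777 q4269, e3 q7152 (flp_g L168526) q11213, e3 q7153 (flp_g L168534) q11214, e3 q7154 L168566 q11220, e3 q7155 L168576 q11221, e3 q7156 (flp_g L116809) q4270, e3 q7157 L168612 q11226, e3 q7158 L168622 q11228, e3 q7159 (flp_g L116823) q4271, e3 q7160 (flp_g L168598) q11222, e3 q7161 L168645 q11233, e3 q7162 L168649 q11234, e3 q7163 (flp_g L116846) q4273, e3 q7164 L116856 q7164, e3 q7165 L116865 q7148, e3 q7166 L168698 q11241, e3 q7167 (flp_g L117727) q7299, trivial⟩ (by decide +kernel)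

theorem ce_g_112 : ∀ r, r < 64 → sm gg (Qf (7168 + r)) = Qf (tab Gen.g (7168 + r)) :=
  edges_tab (sm gg) Qf (tab Gen.g) 7168 [(7168, 9398), (7169, 11243), (7170, 4278), (7171, 11246), (7172, 11247), (7173, 4279), (7174, 4280), (7175, 11244), (7176, 6281), (7177, 10055), (7178, 4293), (7179, 4294), (7180, 7200), (7181, 4344), (7182, 7189), (7183, 4285), (7184, 11261), (7185, 11262), (7186, 4286), (7187, 4287), (7188, 4292), (7189, 7182), (7190, 11269), (7191, 8284), (7192, 4289), (7193, 4290), (7194, 11263), (7195, 11266), (7196, 11267), (7197, 11280), (7198, 6898), (7199, 11256), (7200, 7180), (7201, 11257), (7202, 10075), (7203, 11291), (7204, 11295), (7205, 11296), (7206, 11297), (7207, 4296), (7208, 11300), (7209, 4297), (7210, 4298), (7211, 11298), (7212, 7037), (7213, 4379), (7214, 7038), (7215, 4378), (7216, 7371), (7217, 11310), (7218, 11314), (7219, 10953), (7220, 11318), (7221, 11320), (7222, 4305), (7223, 11078), (7224, 11326), (7225, 7073), (7226, 4306), (7227, 11330), (7228, 4319), (7229, 4322), (7230,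 4323), (7231, 7256)]
    ⟨e3 q7168 L155146 q9398, e3 q7169 L168718 q11243, e3 q7170 (flp_g L116907) q4278, e3 q7171 L168742 q11246, e3 q7172 L168750 q11247, e3 q7173 (flp_g L116925) q4279, e3 q7174 (flp_g L116935) q4280, e3 q7175 (flp_g L168728) q11244, e3 q7176 L116955 q6281, e3 q7177 (flp_g L159665) q10055, e3 q7178 L116969 q4293, e3 q7179 L116977 q4294, e3 q7180 (flp_g L117111) q7200, e3 q7181 (flp_g L116991) q4344, e3 q7182 (flp_g L117037) q7189, e3 q7183 (flp_g L116999) q4285, e3 q7184 L168841 q11261, e3 q7185 L168847 q11262, e3 q7186 (flp_g L117015) q4286, e3 q7187 (flp_g L117019) q4287, e3 q7188 L117029 q4292, e3 q7189 L117037 q7182, e3 q7190 L168901 q11269, e3 q7191 (flp_g L129229) q8284, e3 q7192 (flp_g L117053) q4289, e3 q7193 (flp_g L117063) q4290, e3 q7194 (flp_g L168859) q11263, e3 q7195 (flp_g L168881) q11266, e3 q7196 (flp_g L168887) q11267, e3 q7197 L168957 q11280, e3 q7198 (flp_g L117097) q6898, e3 q7199 (flp_g L168814) q11256, e3 q7200 L117111 q7180, e3 q7201 (flp_g L168818) q11257, e3 q7202 (flp_g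 L159783) q10075, e3 q7203 L169021 q11291, e3 q7204 L169051 q11295, e3 q7205 L169055 q11296, e3 q7206 L169067 q11297, e3 q7207 (flp_g L117149) q4296, e3 q7208 L169097 q11300, e3 q7209 (flp_g L117163) q4297, e3 q7210 (flp_g L117171) q4298, e3 q7211 (flp_g L169081) q11298, e3 q7212 L117187 q7037, e3 q7213 L117195 q4379, e3 q7214 L117205 q7038, e3 q7215 L117211 q4378, e3 q7216 L118141 q7371, e3 q7217 L169151 q11310, e3 q7218 L169171 q11314, e3 q7219 (flp_g L166883) q10953, e3 q7220 L169199 q11318, e3 q7221 L169213 q11320, e3 q7222 (flp_g L117241) q4305, e3 q7223 (flp_g L167702) q11078, e3 q7224 L169253 q11326, e3 q7225 (flp_g L117263) q7073, e3 q7226 (flp_g L117265) q4306, e3 q7227 L169277 q11330, e3 q7228 L117279 q4319, e3 q7229 L117283 q4322, e3 q7230 L117287 q4323, e3 q7231 L117445 q7256, trivial⟩ (by decide +kernel)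

theorem ce_g_113 : ∀ r, r < 64 → sm gg (Qf (7232 + r)) = Qf (tab Gen.g (7232 + r)) :=
  edges_tab (sm gg) Qf (tab Gen.g) 7232 [(7232, 11341), (7233, 7240), (7234, 11344), (7235, 4310), (7236, 11346), (7237, 4311), (7238, 11349), (7239, 4312), (7240, 7233), (7241, 11355), (7242, 7249), (7243, 4314), (7244, 11359), (7245, 11362), (7246, 10958), (7247, 4315), (7248, 6929), (7249, 7242), (7250, 11369), (7251, 11373), (7252, 11375), (7253, 4318), (7254, 11331), (7255, 11332), (7256, 7231), (7257, 11383), (7258, 10893), (7259, 11389), (7260, 11334), (7261, 11335), (7262, 11395), (7263, 11396), (7264, 4324), (7265, 10221), (7266, 6326), (7267, 6327), (7268, 7086), (7269, 6963), (7270, 6896), (7271, 8826), (7272, 11406), (7273, 5368), (7274, 11409), (7275, 4330), (7276, 11413), (7277, 4331), (7278, 6308), (7279, 6226), (7280, 11418), (7281, 4333), (7282, 6213), (7283, 7290), (7284, 4336), (7285, 10731), (7286, 11423), (7287, 4337), (7288, 10957), (7289, 4338), (7290, 7283), (7291, 11429), (7292, 4993), (7293, 7068), (7294,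 7069), (7295, 11434)]
    ⟨e3 q7232 L169339 q11341, e3 q7233 (flp_g L117349) q7240, e3 q7234 L169359 q11344, e3 q7235 (flp_g L117313) q4310, e3 q7236 L169371 q11346, e3 q7237 (flp_g L117325) q4311, e3 q7238 L169389 q11349, e3 q7239 (flp_g L117337) q4312, e3 q7240 L117349 q7233, e3 q7241 L169431 q11355, e3 q7242 (flp_g L117407) q7249, e3 q7243 (flp_g L117363) q4314, e3 q7244 L169461 q11359, e3 q7245 L169479 q11362, e3 q7246 (flp_g L166919) q10958, e3 q7247 (flp_g L117387) q4315, e3 q7248 L117399 q6929, e3 q7249 L117407 q7242, e3 q7250 L169519 q11369, e3 q7251 L169537 q11373, e3 q7252 L169547 q11375, e3 q7253 (flp_g L117423) q4318, e3 q7254 (flp_g L169287) q11331, e3 q7255 (flp_g L169295) q11332, e3 q7256 (flp_g L117445) q7231, e3 q7257 L169601 q11383, e3 q7258 (flp_g L166464) q10893, e3 q7259 L169627 q11389, e3 q7260 (flp_g L169305) q11334, e3 q7261 (flp_g L169313) q11335, e3 q7262 L169655 q11395, e3 q7263 L169663 q11396, e3 q7264 (flp_g L117479) q4324, e3 q7265 (flp_g L160738) q10221, e3 q7266 L117495 q6326, e3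 q7267 L117501 q6327, e3 q7268 L117507 q7086, e3 q7269 (flp_g L117515) q6963, e3 q7270 L117523 q6896, e3 q7271 (flp_g L150900) q8826, e3 q7272 L169741 q11406, e3 q7273 L150408 q5368, e3 q7274 L169765 q11409, e3 q7275 (flp_g L117563) q4330, e3 q7276 L169795 q11413, e3 q7277 (flp_g L117573) q4331, e3 q7278 L117593 q6308, e3 q7279 (flp_g L117601) q6226, e3 q7280 L169823 q11418, e3 q7281 (flp_g L117609) q4333, e3 q7282 L117623 q6213, e3 q7283 (flp_g L117671) q7290, e3 q7284 (flp_g L117633) q4336, e3 q7285 (flp_g L165210) q10731, e3 q7286 L169858 q11423, e3 q7287 (flp_g L117649) q4337, e3 q7288 (flp_g L166911) q10957, e3 q7289 (flp_g L117659) q4338, e3 q7290 L117671 q7283, e3 q7291 L169898 q11429, e3 q7292 L148950 q4993, e3 q7293 (flp_g L117691) q7068, e3 q7294 (flp_g L117701) q7069, e3 q7295 L169926 q11434, trivial⟩ (by decide +kernel)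

theorem ce_g_114 : ∀ r, r < 64 → sm gg (Qf (7296 + r)) = Qf (tab Gen.g (7296 + r)) :=
  edges_tab (sm gg) Qf (tab Gen.g) 7296 [(7296, 11437), (7297, 11439), (7298, 4343), (7299, 7167), (7300, 11259), (7301, 11446), (7302, 4345), (7303, 11450), (7304, 11454), (7305, 4984), (7306, 11457), (7307, 4347), (7308, 5265), (7309, 11006), (7310, 8291), (7311, 8637), (7312, 4350), (7313, 11463), (7314, 4351), (7315, 7404), (7316, 4352), (7317, 11466), (7318, 11473), (7319, 4356), (7320, 11474), (7321, 11475), (7322, 11480), (7323, 6171), (7324, 11485), (7325, 9942), (7326, 4357), (7327, 11489), (7328, 7364), (7329, 11495), (7330, 11496), (7331, 4359), (7332, 10291), (7333, 4362), (7334, 4363), (7335, 7337), (7336, 11501), (7337, 7335), (7338, 11502), (7339, 11510), (7340, 4364), (7341, 11514), (7342, 6968), (7343, 4365), (7344, 11518), (7345, 11521), (7346, 7740), (7347, 4366), (7348, 4367), (7349, 4372), (7350, 11528), (7351, 11532), (7352, 11533), (7353, 4369), (7354, 11538), (7355, 11539), (7356, 4370), (7357, 11534),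 (7358, 11524), (7359, 11548)]
    ⟨e3 q7296 L169942 q11437, e3 q7297 L169956 q11439, e3 q7298 (flp_g L117717) q4343, e3 q7299 L117727 q7167, e3 q7300 (flp_g L168834) q11259, e3 q7301 L170002 q11446, e3 q7302 (flp_g L117739) q4345, e3 q7303 L170024 q11450, e3 q7304 L170052 q11454, e3 q7305 L148944 q4984, e3 q7306 L170082 q11457, e3 q7307 (flp_g L117763) q4347, e3 q7308 L149699 q5265, e3 q7309 (flp_g L167240) q11006, e3 q7310 L148937 q8291, e3 q7311 L151596 q8637, e3 q7312 (flp_g L117791) q4350, e3 q7313 L170126 q11463, e3 q7314 (flp_g L117807) q4351, e3 q7315 (flp_g L118383) q7404, e3 q7316 (flp_g L117823) q4352, e3 q7317 (flp_g L170148) q11466, e3 q7318 L170180 q11473, e3 q7319 L117839 q4356, e3 q7320 (flp_g L170188) q11474, e3 q7321 (flp_g L170194) q11475, e3 q7322 L170224 q11480, e3 q7323 (flp_g L117861) q6171, e3 q7324 L170254 q11485, e3 q7325 (flp_g L158861) q9942, e3 q7326 (flp_g L117873) q4357, e3 q7327 L170278 q11489, e3 q7328 (flp_g L118099) q7364, e3 q7329 L170314 q11495, e3 q7330 L170318 q11496, e3 q7331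 (flp_g L117901) q4359, e3 q7332 (flp_g L161156) q10291, e3 q7333 L117913 q4362, e3 q7334 L117921 q4363, e3 q7335 L117943 q7337, e3 q7336 (flp_g L170348) q11501, e3 q7337 (flp_g L117943) q7335, e3 q7338 (flp_g L170354) q11502, e3 q7339 L170398 q11510, e3 q7340 (flp_g L117955) q4364, e3 q7341 L170432 q11514, e3 q7342 L117977 q6968, e3 q7343 (flp_g L117981) q4365, e3 q7344 L170464 q11518, e3 q7345 L170490 q11521, e3 q7346 L163981 q7740, e3 q7347 (flp_g L118001) q4366, e3 q7348 (flp_g L118007) q4367, e3 q7349 L118023 q4372, e3 q7350 L170530 q11528, e3 q7351 L170552 q11532, e3 q7352 L170556 q11533, e3 q7353 (flp_g L118037) q4369, e3 q7354 L170586 q11538, e3 q7355 L170596 q11539, e3 q7356 (flp_g L118053) q4370, e3 q7357 (flp_g L170566) q11534, e3 q7358 (flp_g L170510) q11524, e3 q7359 L170642 q11548, trivial⟩ (by decide +kernel)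

theorem ce_g_115 : ∀ r, r < 64 → sm gg (Qf (7360 + r)) = Qf (tab Gen.g (7360 + r)) :=
  edges_tab (sm gg) Qf (tab Gen.g) 7360 [(7360, 11550), (7361, 11552), (7362, 4373), (7363, 4374), (7364, 7328), (7365, 11559), (7366, 10153), (7367, 11561), (7368, 4377), (7369, 11562), (7370, 11303), (7371, 7216), (7372, 11564), (7373, 4380), (7374, 11566), (7375, 11567), (7376, 4381), (7377, 7377), (7378, 11574), (7379, 5935), (7380, 11578), (7381, 11582), (7382, 11583), (7383, 4385), (7384, 5936), (7385, 5937), (7386, 11589), (7387, 11593), (7388, 7395), (7389, 4387), (7390, 11599), (7391, 11601), (7392, 11602), (7393, 4388), (7394, 4389), (7395, 7388), (7396, 11609), (7397, 11611), (7398, 11612), (7399, 4392), (7400, 8313), (7401, 11615), (7402, 4394), (7403, 4395), (7404, 7315), (7405, 8315), (7406, 9395), (7407, 11620), (7408, 11623), (7409, 11626), (7410, 4402), (7411, 11630), (7412, 11634), (7413, 11635), (7414, 4401), (7415, 7438), (7416, 11627), (7417, 11641), (7418, 11645), (7419, 7426), (7420, 4403), (7421, 11651),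 (7422, 11653), (7423, 11654)]
    ⟨e3 q7360 L170652 q11550, e3 q7361 L170662 q11552, e3 q7362 (flp_g L118083) q4373, e3 q7363 (flp_g L118087) q4374, e3 q7364 L118099 q7328, e3 q7365 L170702 q11559, e3 q7366 (flp_g L160310) q10153, e3 q7367 L170720 q11561, e3 q7368 (flp_g L118117) q4377, e3 q7369 L170732 q11562, e3 q7370 (flp_g L169119) q11303, e3 q7371 (flp_g L118141) q7216, e3 q7372 L170754 q11564, e3 q7373 (flp_g L118204) q4380, e3 q7374 L170771 q11566, e3 q7375 L170781 q11567, e3 q7376 (flp_g L118221) q4381, e3 q7377 L118229 q7377, e3 q7378 L170829 q11574, e3 q7379 L118240 q5935, e3 q7380 L170857 q11578, e3 q7381 L170879 q11582, e3 q7382 L170885 q11583, e3 q7383 (flp_g L118258) q4385, e3 q7384 L118268 q5936, e3 q7385 L118272 q5937, e3 q7386 L170919 q11589, e3 q7387 L170941 q11593, e3 q7388 (flp_g L118328) q7395, e3 q7389 (flp_g L118290) q4387, e3 q7390 L170977 q11599, e3 q7391 L170987 q11601, e3 q7392 L170995 q11602, e3 q7393 (flp_g L118310) q4388, e3 q7394 (flp_g L118316) q4389, e3 q7395 L118328 q7388, e3 q7396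 L171035 q11609, e3 q7397 L171049 q11611, e3 q7398 L171057 q11612, e3 q7399 (flp_g L118346) q4392, e3 q7400 L151018 q8313, e3 q7401 L171081 q11615, e3 q7402 (flp_g L118362) q4394, e3 q7403 (flp_g L118370) q4395, e3 q7404 L118383 q7315, e3 q7405 (flp_g L151270) q8315, e3 q7406 L155116 q9395, e3 q7407 L171130 q11620, e3 q7408 L171152 q11623, e3 q7409 L171170 q11626, e3 q7410 L118429 q4402, e3 q7411 L171202 q11630, e3 q7412 L171224 q11634, e3 q7413 L171228 q11635, e3 q7414 (flp_g L118449) q4401, e3 q7415 (flp_g L118621) q7438, e3 q7416 (flp_g L171184) q11627, e3 q7417 L171264 q11641, e3 q7418 L171284 q11645, e3 q7419 (flp_g L118517) q7426, e3 q7420 (flp_g L118479) q4403, e3 q7421 L171320 q11651, e3 q7422 L171332 q11653, e3 q7423 L171338 q11654, trivial⟩ (by decide +kernel)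

theorem ce_g_116 : ∀ r, r < 64 → sm gg (Qf (7424 + r)) = Qf (tab Gen.g (7424 + r)) :=
  edges_tab (sm gg) Qf (tab Gen.g) 7424 [(7424, 4404), (7425, 4405), (7426, 7419), (7427, 11661), (7428, 11663), (7429, 11664), (7430, 4408), (7431, 7435), (7432, 5942), (7433, 11671), (7434, 5944), (7435, 7431), (7436, 4415), (7437, 11678), (7438, 7415), (7439, 7802), (7440, 7460), (7441, 4416), (7442, 11680), (7443, 4420), (7444, 5477), (7445, 4444), (7446, 10416), (7447, 11683), (7448, 4423), (7449, 7782), (7450, 10295), (7451, 7660), (7452, 7452), (7453, 7453), (7454, 9422), (7455, 4429), (7456, 10592), (7457, 11689), (7458, 4430), (7459, 4431), (7460, 7440), (7461, 4496), (7462, 4433), (7463, 7463), (7464, 4578), (7465, 4435), (7466, 4498), (7467, 7467), (7468, 7815), (7469, 11694), (7470, 4439), (7471, 4441), (7472, 5749), (7473, 8946), (7474, 7474), (7475, 7475), (7476, 4693), (7477, 7835), (7478, 11681), (7479, 10307), (7480, 7508), (7481, 11698), (7482, 4447), (7483, 4451), (7484, 10359), (7485, 9082), (7486, 7975), (7487,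 4452)]
    ⟨e3 q7424 (flp_g L118501) q4404, e3 q7425 (flp_g L118505) q4405, e3 q7426 L118517 q7419, e3 q7427 L171378 q11661, e3 q7428 L171392 q11663, e3 q7429 L171400 q11664, e3 q7430 (flp_g L118535) q4408, e3 q7431 (flp_g L118591) q7435, e3 q7432 L118552 q5942, e3 q7433 L171429 q11671, e3 q7434 L118574 q5944, e3 q7435 L118591 q7431, e3 q7436 L118599 q4415, e3 q7437 L171464 q11678, e3 q7438 L118621 q7415, e3 q7439 L149138 q7802, e3 q7440 (flp_g L118868) q7460, e3 q7441 (flp_g L118705) q4416, e3 q7442 L171476 q11680, e3 q7443 (flp_g L118744) q4420, e3 q7444 L149817 q5477, e3 q7445 (flp_g L118758) q4444, e3 q7446 (flp_g L162034) q10416, e3 q7447 L171500 q11683, e3 q7448 (flp_g L118768) q4423, e3 q7449 (flp_g L122528) q7782, e3 q7450 (flp_g L161182) q10295, e3 q7451 (flp_g L121909) q7660, e3 q7452 L122027 q7452, e3 q7453 L122029 q7453, e3 q7454 (flp_g L155346) q9422, e3 q7455 (flp_g L118824) q4429, e3 q7456 (flp_g L164165) q10592, e3 q7457 L171538 q11689, e3 q7458 (flp_g L118846) q4430, e3 q7459 (flp_g L118854) q4431,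 e3 q7460 L118868 q7440, e3 q7461 (flp_g L120629) q4496, e3 q7462 (flp_g L118876) q4433, e3 q7463 L118886 q7463, e3 q7464 (flp_g L119211) q4578, e3 q7465 (flp_g L118899) q4435, e3 q7466 (flp_g L120621) q4498, e3 q7467 L120702 q7467, e3 q7468 L149158 q7815, e3 q7469 L171581 q11694, e3 q7470 (flp_g L120603) q4439, e3 q7471 L120611 q4441, e3 q7472 L120635 q5749, e3 q7473 L151814 q8946, e3 q7474 L120658 q7474, e3 q7475 L120701 q7475, e3 q7476 L147681 q4693, e3 q7477 (flp_g L149170) q7835, e3 q7478 (flp_g L171494) q11681, e3 q7479 (flp_g L161294) q10307, e3 q7480 (flp_g L120907) q7508, e3 q7481 L171616 q11698, e3 q7482 (flp_g L120744) q4447, e3 q7483 L120754 q4451, e3 q7484 (flp_g L161651) q10359, e3 q7485 (flp_g L152712) q9082, e3 q7486 (flp_g L151816) q7975, e3 q7487 (flp_g L120770) q4452, trivial⟩ (by decide +kernel)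

theorem ce_g_117 : ∀ r, r < 64 → sm gg (Qf (7488 + r)) = Qf (tab Gen.g (7488 + r)) :=
  edges_tab (sm gg) Qf (tab Gen.g) 7488 [(7488, 6436), (7489, 4478), (7490, 4481), (7491, 7517), (7492, 7744), (7493, 4646), (7494, 11708), (7495, 4459), (7496, 6424), (7497, 9477), (7498, 4462), (7499, 7942), (7500, 11709), (7501, 4465), (7502, 11710), (7503, 4466), (7504, 7656), (7505, 7896), (7506, 4469), (7507, 7507), (7508, 7480), (7509, 4503), (7510, 4607), (7511, 4798), (7512, 6397), (7513, 4797), (7514, 4795), (7515, 7997), (7516, 11703), (7517, 7491), (7518, 4676), (7519, 4634), (7520, 11723), (7521, 11725), (7522, 4482), (7523, 4483), (7524, 7863), (7525, 9193), (7526, 4486), (7527, 9822), (7528, 8318), (7529, 11727), (7530, 7537), (7531, 4490), (7532, 10813), (7533, 11730), (7534, 11731), (7535, 4491), (7536, 4492), (7537, 7530), (7538, 7673), (7539, 10384), (7540, 10387), (7541, 7541), (7542, 7542), (7543, 11716), (7544, 7544), (7545, 7612), (7546, 9815), (7547, 4504), (7548, 11743), (7549, 4512), (7550, 4514), (7551,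 4515)]
    ⟨e3 q7488 L120782 q6436, e3 q7489 L120790 q4478, e3 q7490 L120798 q4481, e3 q7491 L120991 q7517, e3 q7492 (flp_g L122338) q7744, e3 q7493 L120814 q4646, e3 q7494 L171688 q11708, e3 q7495 (flp_g L120818) q4459, e3 q7496 L120828 q6424, e3 q7497 (flp_g L155726) q9477, e3 q7498 (flp_g L120840) q4462, e3 q7499 (flp_g L123426) q7942, e3 q7500 L171694 q11709, e3 q7501 (flp_g L120860) q4465, e3 q7502 L171700 q11710, e3 q7503 (flp_g L120866) q4466, e3 q7504 L121887 q7656, e3 q7505 (flp_g L123181) q7896, e3 q7506 (flp_g L120890) q4469, e3 q7507 L120898 q7507, e3 q7508 L120907 q7480, e3 q7509 (flp_g L120914) q4503, e3 q7510 L120941 q4607, e3 q7511 L150676 q4798, e3 q7512 L150952 q6397, e3 q7513 L150682 q4797, e3 q7514 L150672 q4795, e3 q7515 L150668 q7997, e3 q7516 (flp_g L171658) q11703, e3 q7517 (flp_g L120991) q7491, e3 q7518 L151087 q4676, e3 q7519 L120997 q4634, e3 q7520 L171801 q11723, e3 q7521 L171816 q11725, e3 q7522 (flp_g L121025) q4482, e3 q7523 (flp_g L121036) q4483, e3 q7524 L150736 q7863, e3 q7525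 (flp_g L153604) q9193, e3 q7526 (flp_g L121050) q4486, e3 q7527 (flp_g L158101) q9822, e3 q7528 (flp_g L129484) q8318, e3 q7529 L171834 q11727, e3 q7530 (flp_g L121133) q7537, e3 q7531 (flp_g L121087) q4490, e3 q7532 (flp_g L165844) q10813, e3 q7533 L171868 q11730, e3 q7534 L171876 q11731, e3 q7535 (flp_g L121119) q4491, e3 q7536 (flp_g L121123) q4492, e3 q7537 L121133 q7530, e3 q7538 (flp_g L121980) q7673, e3 q7539 (flp_g L161823) q10384, e3 q7540 (flp_g L161854) q10387, e3 q7541 L121165 q7541, e3 q7542 L121168 q7542, e3 q7543 (flp_g L171752) q11716, e3 q7544 L121177 q7544, e3 q7545 (flp_g L121637) q7612, e3 q7546 L158059 q9815, e3 q7547 (flp_g L121184) q4504, e3 q7548 L171960 q11743, e3 q7549 L121200 q4512, e3 q7550 L121204 q4514, e3 q7551 L121208 q4515, trivial⟩ (by decide +kernel)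

theorem ce_g_118 : ∀ r, r < 64 → sm gg (Qf (7552 + r)) = Qf (tab Gen.g (7552 + r)) :=
  edges_tab (sm gg) Qf (tab Gen.g) 7552 [(7552, 7561), (7553, 11742), (7554, 6063), (7555, 11752), (7556, 8998), (7557, 9800), (7558, 4511), (7559, 11744), (7560, 11745), (7561, 7552), (7562, 11760), (7563, 11761), (7564, 11763), (7565, 11765), (7566, 4516), (7567, 4517), (7568, 11767), (7569, 6498), (7570, 5643), (7571, 9228), (7572, 9691), (7573, 7573), (7574, 6878), (7575, 7582), (7576, 4525), (7577, 6876), (7578, 11773), (7579, 10831), (7580, 4526), (7581, 4527), (7582, 7575), (7583, 4680), (7584, 7584), (7585, 4691), (7586, 11777), (7587, 11779), (7588, 4536), (7589, 11782), (7590, 4537), (7591, 7706), (7592, 4611), (7593, 11786), (7594, 7611), (7595, 11789), (7596, 11790), (7597, 4541), (7598, 11783), (7599, 9854), (7600, 9855), (7601, 11797), (7602, 6103), (7603, 4546), (7604, 11799), (7605, 11800), (7606, 4547), (7607, 11798), (7608, 4549), (7609, 4550), (7610, 7610), (7611, 7594), (7612, 7545), (7613, 11803), (7614, 7780),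 (7615, 7825)]
    ⟨e3 q7552 L121260 q7561, e3 q7553 (flp_g L171958) q11742, e3 q7554 L121226 q6063, e3 q7555 L172013 q11752, e3 q7556 L153743 q8998, e3 q7557 L157969 q9800, e3 q7558 (flp_g L121238) q4511, e3 q7559 (flp_g L171972) q11744, e3 q7560 (flp_g L171982) q11745, e3 q7561 (flp_g L121260) q7552, e3 q7562 L172071 q11760, e3 q7563 L172077 q11761, e3 q7564 L172090 q11763, e3 q7565 L172101 q11765, e3 q7566 (flp_g L121290) q4516, e3 q7567 (flp_g L121303) q4517, e3 q7568 (flp_g L172111) q11767, e3 q7569 L121313 q6498, e3 q7570 (flp_g L150874) q5643, e3 q7571 (flp_g L153878) q9228, e3 q7572 (flp_g L157261) q9691, e3 q7573 L151154 q7573, e3 q7574 L150870 q6878, e3 q7575 (flp_g L121420) q7582, e3 q7576 (flp_g L121392) q4525, e3 q7577 L149194 q6876, e3 q7578 L172155 q11773, e3 q7579 L165993 q10831, e3 q7580 (flp_g L121406) q4526, e3 q7581 (flp_g L121412) q4527, e3 q7582 L121420 q7575, e3 q7583 L121432 q4680, e3 q7584 L121442 q7584, e3 q7585 L121458 q4691, e3 q7586 L172206 q11777, e3 q7587 L172213 q11779, e3 q7588 (flp_g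 L121485) q4536, e3 q7589 L172233 q11782, e3 q7590 (flp_g L121507) q4537, e3 q7591 L122158 q7706, e3 q7592 L121519 q4611, e3 q7593 L172263 q11786, e3 q7594 (flp_g L121629) q7611, e3 q7595 L172283 q11789, e3 q7596 L172289 q11790, e3 q7597 (flp_g L121539) q4541, e3 q7598 (flp_g L172247) q11783, e3 q7599 L158275 q9854, e3 q7600 (flp_g L158287) q9855, e3 q7601 L172332 q11797, e3 q7602 L155522 q6103, e3 q7603 (flp_g L121573) q4546, e3 q7604 L172346 q11799, e3 q7605 L172358 q11800, e3 q7606 (flp_g L121585) q4547, e3 q7607 (flp_g L172344) q11798, e3 q7608 (flp_g L121608) q4549, e3 q7609 (flp_g L121612) q4550, e3 q7610 L121620 q7610, e3 q7611 L121629 q7594, e3 q7612 L121637 q7545, e3 q7613 L172380 q11803, e3 q7614 (flp_g L122512) q7780, e3 q7615 (flp_g L122828) q7825, trivial⟩ (by decide +kernel)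

theorem ce_g_119 : ∀ r, r < 64 → sm gg (Qf (7616 + r)) = Qf (tab Gen.g (7616 + r)) :=
  edges_tab (sm gg) Qf (tab Gen.g) 7616 [(7616, 9389), (7617, 4561), (7618, 5518), (7619, 4558), (7620, 9084), (7621, 5176), (7622, 5536), (7623, 11814), (7624, 11815), (7625, 11830), (7626, 11832), (7627, 10344), (7628, 4587), (7629, 4589), (7630, 7663), (7631, 4688), (7632, 11840), (7633, 11842), (7634, 7646), (7635, 4568), (7636, 7636), (7637, 11690), (7638, 11847), (7639, 11849), (7640, 11850), (7641, 4571), (7642, 11852), (7643, 4572), (7644, 4573), (7645, 4582), (7646, 7634), (7647, 11732), (7648, 4583), (7649, 4584), (7650, 4579), (7651, 11853), (7652, 11856), (7653, 11865), (7654, 11846), (7655, 11859), (7656, 7504), (7657, 11860), (7658, 8010), (7659, 4585), (7660, 7451), (7661, 7897), (7662, 11833), (7663, 7630), (7664, 11834), (7665, 11835), (7666, 10327), (7667, 11882), (7668, 11883), (7669, 4591), (7670, 7670), (7671, 4593), (7672, 7672), (7673, 7538), (7674, 7674), (7675, 7675), (7676, 7841), (7677, 7838), (7678,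 4755), (7679, 4756)]
    ⟨e3 q7616 (flp_g L155050) q9389, e3 q7617 L121661 q4561, e3 q7618 L121671 q5518, e3 q7619 (flp_g L121675) q4558, e3 q7620 (flp_g L152724) q9084, e3 q7621 L121691 q5176, e3 q7622 L121697 q5536, e3 q7623 (flp_g L172450) q11814, e3 q7624 (flp_g L172454) q11815, e3 q7625 L172537 q11830, e3 q7626 L172549 q11832, e3 q7627 (flp_g L161545) q10344, e3 q7628 L121721 q4587, e3 q7629 L121725 q4589, e3 q7630 (flp_g L121923) q7663, e3 q7631 L121737 q4688, e3 q7632 L172608 q11840, e3 q7633 L172628 q11842, e3 q7634 (flp_g L121831) q7646, e3 q7635 (flp_g L121762) q4568, e3 q7636 L121770 q7636, e3 q7637 (flp_g L171556) q11690, e3 q7638 L172659 q11847, e3 q7639 L172679 q11849, e3 q7640 L172689 q11850, e3 q7641 (flp_g L121801) q4571, e3 q7642 L172705 q11852, e3 q7643 (flp_g L121809) q4572, e3 q7644 (flp_g L121813) q4573, e3 q7645 L121823 q4582, e3 q7646 L121831 q7634, e3 q7647 (flp_g L171892) q11732, e3 q7648 L121839 q4583, e3 q7649 L121843 q4584, e3 q7650 (flp_g L121845) q4579, e3 q7651 (flp_g L172715) q11853,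 e3 q7652 (flp_g L172735) q11856, e3 q7653 L172797 q11865, e3 q7654 L172651 q11846, e3 q7655 (flp_g L172759) q11859, e3 q7656 (flp_g L121887) q7504, e3 q7657 (flp_g L172771) q11860, e3 q7658 (flp_g L163655) q8010, e3 q7659 (flp_g L121899) q4585, e3 q7660 L121909 q7451, e3 q7661 L151826 q7897, e3 q7662 (flp_g L172561) q11833, e3 q7663 L121923 q7630, e3 q7664 (flp_g L172571) q11834, e3 q7665 (flp_g L172579) q11835, e3 q7666 (flp_g L163196) q10327, e3 q7667 L172917 q11882, e3 q7668 L172927 q11883, e3 q7669 (flp_g L121944) q4591, e3 q7670 L121956 q7670, e3 q7671 (flp_g L121957) q4593, e3 q7672 L121969 q7672, e3 q7673 L121980 q7538, e3 q7674 L121984 q7674, e3 q7675 L121987 q7675, e3 q7676 (flp_g L149140) q7841, e3 q7677 (flp_g L150859) q7838, e3 q7678 L122000 q4755, e3 q7679 L122006 q4756, trivial⟩ (by decide +kernel)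

theorem ce_g_120 : ∀ r, r < 64 → sm gg (Qf (7680 + r)) = Qf (tab Gen.g (7680 + r)) :=
  edges_tab (sm gg) Qf (tab Gen.g) 7680 [(7680, 7936), (7681, 11897), (7682, 11901), (7683, 11717), (7684, 11904), (7685, 7850), (7686, 4602), (7687, 11858), (7688, 5194), (7689, 11906), (7690, 4603), (7691, 8519), (7692, 4763), (7693, 4765), (7694, 4766), (7695, 11915), (7696, 7702), (7697, 10438), (7698, 11918), (7699, 4608), (7700, 11921), (7701, 4609), (7702, 7696), (7703, 9868), (7704, 11929), (7705, 7899), (7706, 7591), (7707, 4612), (7708, 11933), (7709, 11937), (7710, 11938), (7711, 4615), (7712, 4642), (7713, 4643), (7714, 11943), (7715, 4648), (7716, 4649), (7717, 7758), (7718, 7759), (7719, 11950), (7720, 11953), (7721, 11955), (7722, 4620), (7723, 7732), (7724, 6734), (7725, 4622), (7726, 10675), (7727, 4624), (7728, 10674), (7729, 11961), (7730, 4626), (7731, 11922), (7732, 7723), (7733, 11965), (7734, 4733), (7735, 4629), (7736, 11968), (7737, 7870), (7738, 11971), (7739, 4632), (7740, 7346), (7741, 4729), (7742,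 11976), (7743, 11972)]
    ⟨e3 q7680 (flp_g L123389) q7936, e3 q7681 L173028 q11897, e3 q7682 L173050 q11901, e3 q7683 (flp_g L171758) q11717, e3 q7684 L173078 q11904, e3 q7685 L166015 q7850, e3 q7686 (flp_g L122064) q4602, e3 q7687 (flp_g L172747) q11858, e3 q7688 L151335 q5194, e3 q7689 L173100 q11906, e3 q7690 (flp_g L122076) q4603, e3 q7691 (flp_g L151240) q8519, e3 q7692 L122086 q4763, e3 q7693 L122090 q4765, e3 q7694 L122100 q4766, e3 q7695 L173160 q11915, e3 q7696 (flp_g L122138) q7702, e3 q7697 L162174 q10438, e3 q7698 L173180 q11918, e3 q7699 (flp_g L122118) q4608, e3 q7700 L173212 q11921, e3 q7701 (flp_g L122130) q4609, e3 q7702 L122138 q7696, e3 q7703 L158359 q9868, e3 q7704 L173290 q11929, e3 q7705 (flp_g L164001) q7899, e3 q7706 (flp_g L122158) q7591, e3 q7707 (flp_g L122160) q4612, e3 q7708 L173321 q11933, e3 q7709 L173337 q11937, e3 q7710 L173343 q11938, e3 q7711 (flp_g L122172) q4615, e3 q7712 L122180 q4642, e3 q7713 L122188 q4643, e3 q7714 L173367 q11943, e3 q7715 L122196 q4648, e3 q7716 L122204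 q4649, e3 q7717 L122402 q7758, e3 q7718 L122410 q7759, e3 q7719 L173399 q11950, e3 q7720 L173415 q11953, e3 q7721 L173439 q11955, e3 q7722 (flp_g L122224) q4620, e3 q7723 (flp_g L122272) q7732, e3 q7724 (flp_g L163493) q6734, e3 q7725 (flp_g L122236) q4622, e3 q7726 (flp_g L164823) q10675, e3 q7727 (flp_g L122246) q4624, e3 q7728 (flp_g L164813) q10674, e3 q7729 L173498 q11961, e3 q7730 (flp_g L122258) q4626, e3 q7731 (flp_g L173232) q11922, e3 q7732 L122272 q7723, e3 q7733 L173524 q11965, e3 q7734 L163899 q4733, e3 q7735 (flp_g L122286) q4629, e3 q7736 L173548 q11968, e3 q7737 L163939 q7870, e3 q7738 L173576 q11971, e3 q7739 (flp_g L122306) q4632, e3 q7740 (flp_g L163981) q7346, e3 q7741 L163929 q4729, e3 q7742 L173611 q11976, e3 q7743 (flp_g L173588) q11972, trivial⟩ (by decide +kernel)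

theorem ce_g_121 : ∀ r, r < 64 → sm gg (Qf (7744 + r)) = Qf (tab Gen.g (7744 + r)) :=
  edges_tab (sm gg) Qf (tab Gen.g) 7744 [(7744, 7492), (7745, 11979), (7746, 11981), (7747, 7755), (7748, 4638), (7749, 11985), (7750, 11987), (7751, 11988), (7752, 4639), (7753, 11991), (7754, 4640), (7755, 7747), (7756, 11995), (7757, 11939), (7758, 7717), (7759, 7718), (7760, 10432), (7761, 4645), (7762, 11705), (7763, 12005), (7764, 12009), (7765, 12012), (7766, 12013), (7767, 4647), (7768, 11944), (7769, 7926), (7770, 11945), (7771, 12019), (7772, 4650), (7773, 4651), (7774, 10485), (7775, 10488), (7776, 10489), (7777, 12028), (7778, 6531), (7779, 6532), (7780, 7614), (7781, 6393), (7782, 7449), (7783, 11975), (7784, 4659), (7785, 8872), (7786, 12035), (7787, 4661), (7788, 12039), (7789, 12041), (7790, 4662), (7791, 7872), (7792, 12046), (7793, 6428), (7794, 12050), (7795, 4666), (7796, 6405), (7797, 12053), (7798, 12055), (7799, 7811), (7800, 4669), (7801, 12059), (7802, 7439), (7803, 11771), (7804, 12062), (7805, 12063),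 (7806, 4672), (7807, 12066)]
    ⟨e3 q7744 L122338 q7492, e3 q7745 L173631 q11979, e3 q7746 L173641 q11981, e3 q7747 (flp_g L122382) q7755, e3 q7748 (flp_g L122352) q4638, e3 q7749 L173659 q11985, e3 q7750 L173675 q11987, e3 q7751 L173679 q11988, e3 q7752 (flp_g L122366) q4639, e3 q7753 L173703 q11991, e3 q7754 (flp_g L122374) q4640, e3 q7755 L122382 q7747, e3 q7756 L173723 q11995, e3 q7757 (flp_g L173355) q11939, e3 q7758 (flp_g L122402) q7717, e3 q7759 (flp_g L122410) q7718, e3 q7760 L162798 q10432, e3 q7761 (flp_g L122416) q4645, e3 q7762 (flp_g L171674) q11705, e3 q7763 L173787 q12005, e3 q7764 L173805 q12009, e3 q7765 L173819 q12012, e3 q7766 L173825 q12013, e3 q7767 (flp_g L122440) q4647, e3 q7768 (flp_g L173377) q11944, e3 q7769 (flp_g L123339) q7926, e3 q7770 (flp_g L173381) q11945, e3 q7771 L173859 q12019, e3 q7772 (flp_g L122468) q4650, e3 q7773 (flp_g L122476) q4651, e3 q7774 (flp_g L162478) q10485, e3 q7775 (flp_g L162498) q10488, e3 q7776 (flp_g L162510) q10489, e3 q7777 L173913 q12028, e3 q7778 L122502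 q6531, e3 q7779 L122506 q6532, e3 q7780 L122512 q7614, e3 q7781 L122518 q6393, e3 q7782 L122528 q7449, e3 q7783 L173609 q11975, e3 q7784 (flp_g L122549) q4659, e3 q7785 L150404 q8872, e3 q7786 L173958 q12035, e3 q7787 (flp_g L122581) q4661, e3 q7788 L173980 q12039, e3 q7789 L174006 q12041, e3 q7790 (flp_g L122607) q4662, e3 q7791 (flp_g L173994) q7872, e3 q7792 L174050 q12046, e3 q7793 L122623 q6428, e3 q7794 L174084 q12050, e3 q7795 (flp_g L122629) q4666, e3 q7796 L122641 q6405, e3 q7797 L174108 q12053, e3 q7798 L174127 q12055, e3 q7799 (flp_g L122730) q7811, e3 q7800 (flp_g L122666) q4669, e3 q7801 L174152 q12059, e3 q7802 (flp_g L149138) q7439, e3 q7803 (flp_g L172143) q11771, e3 q7804 L174182 q12062, e3 q7805 L174194 q12063, e3 q7806 (flp_g L122700) q4672, e3 q7807 L174220 q12066, trivial⟩ (by decide +kernel)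

theorem ce_g_122 : ∀ r, r < 64 → sm gg (Qf (7808 + r)) = Qf (tab Gen.g (7808 + r)) :=
  edges_tab (sm gg) Qf (tab Gen.g) 7808 [(7808, 4673), (7809, 11720), (7810, 4674), (7811, 7799), (7812, 7824), (7813, 11721), (7814, 7851), (7815, 7468), (7816, 12075), (7817, 12077), (7818, 4683), (7819, 12057), (7820, 12081), (7821, 4684), (7822, 7953), (7823, 4685), (7824, 7812), (7825, 7615), (7826, 7869), (7827, 11838), (7828, 10365), (7829, 12089), (7830, 4689), (7831, 7961), (7832, 10864), (7833, 10351), (7834, 12095), (7835, 7477), (7836, 12097), (7837, 4694), (7838, 7677), (7839, 12100), (7840, 4695), (7841, 7676), (7842, 7843), (7843, 7842), (7844, 4697), (7845, 12103), (7846, 12110), (7847, 4702), (7848, 11903), (7849, 11902), (7850, 7685), (7851, 7814), (7852, 10317), (7853, 11775), (7854, 4703), (7855, 12115), (7856, 8005), (7857, 4705), (7858, 12118), (7859, 4720), (7860, 4708), (7861, 4709), (7862, 12122), (7863, 7524), (7864, 12123), (7865, 12129), (7866, 4710), (7867, 6402), (7868, 12134), (7869, 7826), (7870,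 7737), (7871, 4712)]
    ⟨e3 q7808 (flp_g L122708) q4673, e3 q7809 (flp_g L171782) q11720, e3 q7810 (flp_g L122718) q4674, e3 q7811 L122730 q7799, e3 q7812 (flp_g L122822) q7824, e3 q7813 (flp_g L171788) q11721, e3 q7814 L172190 q7851, e3 q7815 (flp_g L149158) q7468, e3 q7816 L174294 q12075, e3 q7817 L174306 q12077, e3 q7818 (flp_g L122792) q4683, e3 q7819 (flp_g L174158) q12057, e3 q7820 L174336 q12081, e3 q7821 (flp_g L122804) q4684, e3 q7822 L163548 q7953, e3 q7823 (flp_g L122814) q4685, e3 q7824 L122822 q7812, e3 q7825 L122828 q7615, e3 q7826 (flp_g L163999) q7869, e3 q7827 (flp_g L172595) q11838, e3 q7828 (flp_g L163550) q10365, e3 q7829 L174394 q12089, e3 q7830 (flp_g L122848) q4689, e3 q7831 (flp_g L163625) q7961, e3 q7832 L166278 q10864, e3 q7833 (flp_g L161593) q10351, e3 q7834 L174452 q12095, e3 q7835 L149170 q7477, e3 q7836 L174471 q12097, e3 q7837 (flp_g L122887) q4694, e3 q7838 L150859 q7677, e3 q7839 L174511 q12100, e3 q7840 (flp_g L122905) q4695, e3 q7841 L149140 q7676, e3 q7842 (flp_g L149422) q7843,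 e3 q7843 L149422 q7842, e3 q7844 (flp_g L122921) q4697, e3 q7845 (flp_g L174541) q12103, e3 q7846 L174583 q12110, e3 q7847 L122951 q4702, e3 q7848 (flp_g L173072) q11903, e3 q7849 (flp_g L173062) q11902, e3 q7850 (flp_g L166015) q7685, e3 q7851 (flp_g L172190) q7814, e3 q7852 (flp_g L161370) q10317, e3 q7853 (flp_g L172186) q11775, e3 q7854 (flp_g L122973) q4703, e3 q7855 L174635 q12115, e3 q7856 (flp_g L123900) q8005, e3 q7857 L149339 q4705, e3 q7858 (flp_g L174661) q12118, e3 q7859 L122999 q4720, e3 q7860 L123003 q4708, e3 q7861 L123007 q4709, e3 q7862 (flp_g L174681) q12122, e3 q7863 (flp_g L150736) q7524, e3 q7864 (flp_g L174693) q12123, e3 q7865 L174757 q12129, e3 q7866 (flp_g L123037) q4710, e3 q7867 L123047 q6402, e3 q7868 L174803 q12134, e3 q7869 L163999 q7826, e3 q7870 (flp_g L163939) q7737, e3 q7871 (flp_g L123059) q4712, trivial⟩ (by decide +kernel)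

theorem ce_g_123 : ∀ r, r < 64 → sm gg (Qf (7872 + r)) = Qf (tab Gen.g (7872 + r)) :=
  edges_tab (sm gg) Qf (tab Gen.g) 7872 [(7872, 7791), (7873, 12142), (7874, 12043), (7875, 4715), (7876, 7927), (7877, 12147), (7878, 12149), (7879, 4717), (7880, 4718), (7881, 12117), (7882, 12119), (7883, 12120), (7884, 12159), (7885, 4724), (7886, 4726), (7887, 7889), (7888, 12160), (7889, 7887), (7890, 6793), (7891, 6803), (7892, 10757), (7893, 12166), (7894, 4727), (7895, 12072), (7896, 7505), (7897, 7661), (7898, 6400), (7899, 7705), (7900, 4732), (7901, 11354), (7902, 12136), (7903, 12173), (7904, 4745), (7905, 11687), (7906, 11700), (7907, 7915), (7908, 4738), (7909, 11699), (7910, 12184), (7911, 12185), (7912, 4739), (7913, 4740), (7914, 4744), (7915, 7907), (7916, 4742), (7917, 11907), (7918, 12189), (7919, 12175), (7920, 12194), (7921, 12197), (7922, 12198), (7923, 4746), (7924, 12201), (7925, 4747), (7926, 7769), (7927, 7876), (7928, 12206), (7929, 12208), (7930, 12210), (7931, 4751), (7932, 6739), (7933, 6737), (7934,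 4753), (7935, 12213)]
    ⟨e3 q7872 L173994 q7791, e3 q7873 L174854 q12142, e3 q7874 L174028 q12043, e3 q7875 (flp_g L123077) q4715, e3 q7876 (flp_g L123347) q7927, e3 q7877 L174876 q12147, e3 q7878 L174884 q12149, e3 q7879 (flp_g L123093) q4717, e3 q7880 (flp_g L123101) q4718, e3 q7881 (flp_g L174653) q12117, e3 q7882 (flp_g L174665) q12119, e3 q7883 (flp_g L174669) q12120, e3 q7884 L174950 q12159, e3 q7885 L123121 q4724, e3 q7886 L123127 q4726, e3 q7887 L123145 q7889, e3 q7888 (flp_g L174972) q12160, e3 q7889 (flp_g L123145) q7887, e3 q7890 (flp_g L163758) q6793, e3 q7891 L163862 q6803, e3 q7892 L165414 q10757, e3 q7893 L175025 q12166, e3 q7894 (flp_g L123159) q4727, e3 q7895 (flp_g L174276) q12072, e3 q7896 L123181 q7505, e3 q7897 (flp_g L151826) q7661, e3 q7898 L163883 q6400, e3 q7899 L164001 q7705, e3 q7900 (flp_g L123201) q4732, e3 q7901 (flp_g L169429) q11354, e3 q7902 (flp_g L174827) q12136, e3 q7903 (flp_g L175090) q12173, e3 q7904 L123233 q4745, e3 q7905 (flp_g L171524) q11687, e3 q7906 (flp_g L171638)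 q11700, e3 q7907 (flp_g L123277) q7915, e3 q7908 (flp_g L123247) q4738, e3 q7909 (flp_g L171630) q11699, e3 q7910 L175162 q12184, e3 q7911 L175166 q12185, e3 q7912 (flp_g L123261) q4739, e3 q7913 (flp_g L123265) q4740, e3 q7914 L123271 q4744, e3 q7915 L123277 q7907, e3 q7916 (flp_g L123279) q4742, e3 q7917 (flp_g L173112) q11907, e3 q7918 L175200 q12189, e3 q7919 (flp_g L175108) q12175, e3 q7920 L175228 q12194, e3 q7921 L175244 q12197, e3 q7922 L175250 q12198, e3 q7923 (flp_g L123317) q4746, e3 q7924 L175266 q12201, e3 q7925 (flp_g L123323) q4747, e3 q7926 L123339 q7769, e3 q7927 L123347 q7876, e3 q7928 (flp_g L183437) q12206, e3 q7929 L175310 q12208, e3 q7930 L175322 q12210, e3 q7931 (flp_g L123359) q4751, e3 q7932 (flp_g L163598) q6739, e3 q7933 L163586 q6737, e3 q7934 (flp_g L123373) q4753, e3 q7935 L175342 q12213, trivial⟩ (by decide +kernel)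

theorem ce_g_124 : ∀ r, r < 64 → sm gg (Qf (7936 + r)) = Qf (tab Gen.g (7936 + r)) :=
  edges_tab (sm gg) Qf (tab Gen.g) 7936 [(7936, 7680), (7937, 12214), (7938, 4757), (7939, 4759), (7940, 5658), (7941, 4760), (7942, 7499), (7943, 4762), (7944, 11910), (7945, 11912), (7946, 12217), (7947, 4767), (7948, 6549), (7949, 7949), (7950, 7950), (7951, 11924), (7952, 12071), (7953, 7822), (7954, 4770), (7955, 6124), (7956, 12091), (7957, 7964), (7958, 4772), (7959, 12229), (7960, 12231), (7961, 7831), (7962, 4773), (7963, 4774), (7964, 7957), (7965, 12234), (7966, 6126), (7967, 12238), (7968, 12240), (7969, 4778), (7970, 12245), (7971, 12247), (7972, 7982), (7973, 4779), (7974, 11822), (7975, 7486), (7976, 12250), (7977, 12252), (7978, 4782), (7979, 12255), (7980, 4783), (7981, 4784), (7982, 7972), (7983, 10467), (7984, 12263), (7985, 12266), (7986, 7992), (7987, 4788), (7988, 12269), (7989, 12270), (7990, 4789), (7991, 4790), (7992, 7986), (7993, 8342), (7994, 4793), (7995, 8344), (7996, 12274), (7997, 7515), (7998,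 9460), (7999, 9485)]
    ⟨e3 q7936 L123389 q7680, e3 q7937 L175350 q12214, e3 q7938 (flp_g L123398) q4757, e3 q7939 (flp_g L123402) q4759, e3 q7940 L151042 q5658, e3 q7941 (flp_g L123416) q4760, e3 q7942 L123426 q7499, e3 q7943 (flp_g L123430) q4762, e3 q7944 (flp_g L173130) q11910, e3 q7945 (flp_g L173146) q11912, e3 q7946 L175380 q12217, e3 q7947 (flp_g L123460) q4767, e3 q7948 L123472 q6549, e3 q7949 L123476 q7949, e3 q7950 L123479 q7950, e3 q7951 (flp_g L173254) q11924, e3 q7952 (flp_g L174264) q12071, e3 q7953 (flp_g L163548) q7822, e3 q7954 (flp_g L123494) q4770, e3 q7955 L123504 q6124, e3 q7956 (flp_g L174420) q12091, e3 q7957 (flp_g L123552) q7964, e3 q7958 (flp_g L123518) q4772, e3 q7959 L175450 q12229, e3 q7960 L175507 q12231, e3 q7961 L163625 q7831, e3 q7962 (flp_g L123534) q4773, e3 q7963 (flp_g L123540) q4774, e3 q7964 L123552 q7957, e3 q7965 L175525 q12234, e3 q7966 L123560 q6126, e3 q7967 L175541 q12238, e3 q7968 L175559 q12240, e3 q7969 (flp_g L123570) q4778, e3 q7970 L175587 q12245, e3 q7971 L175603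 q12247, e3 q7972 (flp_g L123632) q7982, e3 q7973 (flp_g L123586) q4779, e3 q7974 (flp_g L172491) q11822, e3 q7975 L151816 q7486, e3 q7976 L175621 q12250, e3 q7977 L175627 q12252, e3 q7978 (flp_g L123606) q4782, e3 q7979 L175645 q12255, e3 q7980 (flp_g L123614) q4783, e3 q7981 (flp_g L123620) q4784, e3 q7982 L123632 q7972, e3 q7983 (flp_g L162364) q10467, e3 q7984 L175711 q12263, e3 q7985 L175729 q12266, e3 q7986 (flp_g L123674) q7992, e3 q7987 (flp_g L123650) q4788, e3 q7988 L175741 q12269, e3 q7989 L175749 q12270, e3 q7990 (flp_g L123662) q4789, e3 q7991 (flp_g L123666) q4790, e3 q7992 L123674 q7986, e3 q7993 (flp_g L150504) q8342, e3 q7994 L149454 q4793, e3 q7995 L151117 q8344, e3 q7996 L175781 q12274, e3 q7997 (flp_g L150668) q7515, e3 q7998 (flp_g L155594) q9460, e3 q7999 (flp_g L155770) q9485, trivial⟩ (by decide +kernel)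

theorem ce_g_125 : ∀ r, r < 64 → sm gg (Qf (8000 + r)) = Qf (tab Gen.g (8000 + r)) :=
  edges_tab (sm gg) Qf (tab Gen.g) 8000 [(8000, 4799), (8001, 5163), (8002, 8003), (8003, 8002), (8004, 4804), (8005, 7856), (8006, 12280), (8007, 12130), (8008, 12283), (8009, 4807), (8010, 7658), (8011, 11868), (8012, 4808), (8013, 4815), (8014, 9798), (8015, 8022), (8016, 4810), (8017, 11740), (8018, 12290), (8019, 11881), (8020, 4811), (8021, 4812), (8022, 8015), (8023, 12293), (8024, 8101), (8025, 12297), (8026, 12298), (8027, 4816), (8028, 9070), (8029, 12306), (8030, 8040), (8031, 4817), (8032, 10322), (8033, 12299), (8034, 8996), (8035, 8776), (8036, 12313), (8037, 12314), (8038, 4821), (8039, 4822), (8040, 8030), (8041, 6096), (8042, 12322), (8043, 12325), (8044, 8050), (8045, 4826), (8046, 12328), (8047, 12329), (8048, 4827), (8049, 4828), (8050, 8044), (8051, 12333), (8052, 8099), (8053, 8109), (8054, 10587), (8055, 11919), (8056, 4836), (8057, 6148), (8058, 12336), (8059, 4891), (8060, 12341), (8061, 12344), (8062,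 12345), (8063, 4840)]
    ⟨e3 q8000 (flp_g L123812) q4799, e3 q8001 L147963 q5163, e3 q8002 L150612 q8003, e3 q8003 (flp_g L150612) q8002, e3 q8004 (flp_g L123888) q4804, e3 q8005 L123900 q7856, e3 q8006 L175829 q12280, e3 q8007 (flp_g L174775) q12130, e3 q8008 L175849 q12283, e3 q8009 (flp_g L123912) q4807, e3 q8010 L163655 q7658, e3 q8011 (flp_g L172819) q11868, e3 q8012 (flp_g L123930) q4808, e3 q8013 L123942 q4815, e3 q8014 (flp_g L163824) q9798, e3 q8015 (flp_g L124015) q8022, e3 q8016 (flp_g L123981) q4810, e3 q8017 L171948 q11740, e3 q8018 L175895 q12290, e3 q8019 L172913 q11881, e3 q8020 (flp_g L123999) q4811, e3 q8021 (flp_g L124003) q4812, e3 q8022 L124015 q8015, e3 q8023 L175911 q12293, e3 q8024 (flp_g L124638) q8101, e3 q8025 L175931 q12297, e3 q8026 L175937 q12298, e3 q8027 (flp_g L124031) q4816, e3 q8028 (flp_g L152630) q9070, e3 q8029 L175995 q12306, e3 q8030 (flp_g L124101) q8040, e3 q8031 (flp_g L124047) q4817, e3 q8032 (flp_g L161400) q10322, e3 q8033 (flp_g L175949) q12299, e3 q8034 (flp_g L152124)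 q8996, e3 q8035 L151546 q8776, e3 q8036 L176031 q12313, e3 q8037 L176039 q12314, e3 q8038 (flp_g L124085) q4821, e3 q8039 (flp_g L124089) q4822, e3 q8040 L124101 q8030, e3 q8041 L124105 q6096, e3 q8042 L176099 q12322, e3 q8043 L176121 q12325, e3 q8044 (flp_g L124143) q8050, e3 q8045 (flp_g L124119) q4826, e3 q8046 L176137 q12328, e3 q8047 L176141 q12329, e3 q8048 (flp_g L124131) q4827, e3 q8049 (flp_g L124135) q4828, e3 q8050 L124143 q8044, e3 q8051 L176179 q12333, e3 q8052 (flp_g L150990) q8099, e3 q8053 L124706 q8109, e3 q8054 L164129 q10587, e3 q8055 L173200 q11919, e3 q8056 (flp_g L124225) q4836, e3 q8057 L124237 q6148, e3 q8058 L176221 q12336, e3 q8059 L124251 q4891, e3 q8060 L176274 q12341, e3 q8061 L176296 q12344, e3 q8062 L176300 q12345, e3 q8063 (flp_g L124301) q4840, trivial⟩ (by decide +kernel)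

theorem ce_g_126 : ∀ r, r < 64 → sm gg (Qf (8064 + r)) = Qf (tab Gen.g (8064 + r)) :=
  edges_tab (sm gg) Qf (tab Gen.g) 8064 [(8064, 10798), (8065, 4841), (8066, 9907), (8067, 12348), (8068, 8074), (8069, 4843), (8070, 8906), (8071, 12352), (8072, 4844), (8073, 4845), (8074, 8068), (8075, 12354), (8076, 12355), (8077, 4848), (8078, 12360), (8079, 12363), (8080, 4884), (8081, 4849), (8082, 8123), (8083, 12356), (8084, 12367), (8085, 12370), (8086, 8125), (8087, 4853), (8088, 8130), (8089, 12374), (8090, 4854), (8091, 4855), (8092, 8127), (8093, 4878), (8094, 6432), (8095, 12379), (8096, 12127), (8097, 6762), (8098, 12381), (8099, 8052), (8100, 4865), (8101, 8024), (8102, 12384), (8103, 6836), (8104, 12387), (8105, 10440), (8106, 12391), (8107, 4869), (8108, 6837), (8109, 8053), (8110, 6159), (8111, 6014), (8112, 8118), (8113, 4872), (8114, 12397), (8115, 9735), (8116, 4873), (8117, 4874), (8118, 8112), (8119, 6433), (8120, 5133), (8121, 12375), (8122, 12373), (8123, 8082), (8124, 12406), (8125, 8086), (8126, 12410),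 (8127, 8092)]
    ⟨e3 q8064 (flp_g L165734) q10798, e3 q8065 (flp_g L124319) q4841, e3 q8066 L158613 q9907, e3 q8067 L176324 q12348, e3 q8068 (flp_g L124397) q8074, e3 q8069 (flp_g L124363) q4843, e3 q8070 (flp_g L146136) q8906, e3 q8071 L176368 q12352, e3 q8072 (flp_g L124379) q4844, e3 q8073 (flp_g L124385) q4845, e3 q8074 L124397 q8068, e3 q8075 L176388 q12354, e3 q8076 L176396 q12355, e3 q8077 (flp_g L124415) q4848, e3 q8078 L176442 q12360, e3 q8079 L176470 q12363, e3 q8080 L147272 q4884, e3 q8081 (flp_g L124431) q4849, e3 q8082 L147144 q8123, e3 q8083 (flp_g L176414) q12356, e3 q8084 L176498 q12367, e3 q8085 L176520 q12370, e3 q8086 (flp_g L148876) q8125, e3 q8087 (flp_g L124475) q4853, e3 q8088 L148852 q8130, e3 q8089 L176548 q12374, e3 q8090 (flp_g L124489) q4854, e3 q8091 (flp_g L124493) q4855, e3 q8092 L148850 q8127, e3 q8093 (flp_g L147177) q4878, e3 q8094 L163153 q6432, e3 q8095 L176600 q12379, e3 q8096 (flp_g L174741) q12127, e3 q8097 L142704 q6762, e3 q8098 L176620 q12381, e3 q8099 L150990 q8052, e3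 q8100 (flp_g L124628) q4865, e3 q8101 L124638 q8024, e3 q8102 L176658 q12384, e3 q8103 L141018 q6836, e3 q8104 L176691 q12387, e3 q8105 (flp_g L163748) q10440, e3 q8106 L176721 q12391, e3 q8107 (flp_g L124682) q4869, e3 q8108 L142776 q6837, e3 q8109 (flp_g L124706) q8053, e3 q8110 (flp_g L150484) q6159, e3 q8111 L149750 q6014, e3 q8112 (flp_g L124790) q8118, e3 q8113 (flp_g L124756) q4872, e3 q8114 L176781 q12397, e3 q8115 L157585 q9735, e3 q8116 (flp_g L124774) q4873, e3 q8117 (flp_g L124778) q4874, e3 q8118 L124790 q8112, e3 q8119 L163170 q6433, e3 q8120 L147249 q5133, e3 q8121 (flp_g L176566) q12375, e3 q8122 (flp_g L176546) q12373, e3 q8123 (flp_g L147144) q8082, e3 q8124 L176865 q12406, e3 q8125 L148876 q8086, e3 q8126 L176897 q12410, e3 q8127 (flp_g L148850) q8092, trivial⟩ (by decide +kernel)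

theorem ce_g_127 : ∀ r, r < 64 → sm gg (Qf (8128 + r)) = Qf (tab Gen.g (8128 + r)) :=
  edges_tab (sm gg) Qf (tab Gen.g) 8128 [(8128, 4880), (8129, 12362), (8130, 8088), (8131, 4881), (8132, 12359), (8133, 8138), (8134, 4887), (8135, 8141), (8136, 12413), (8137, 4915), (8138, 8133), (8139, 10355), (8140, 4889), (8141, 8135), (8142, 12339), (8143, 8159), (8144, 4897), (8145, 4898), (8146, 4909), (8147, 4910), (8148, 8155), (8149, 8156), (8150, 12435), (8151, 12439), (8152, 8164), (8153, 12425), (8154, 12427), (8155, 8148), (8156, 8149), (8157, 12433), (8158, 12450), (8159, 8143), (8160, 6451), (8161, 12454), (8162, 4901), (8163, 4908), (8164, 8152), (8165, 12459), (8166, 6019), (8167, 9211), (8168, 5631), (8169, 4905), (8170, 4906), (8171, 12455), (8172, 8172), (8173, 12429), (8174, 12430), (8175, 12467), (8176, 4911), (8177, 10633), (8178, 12470), (8179, 4913), (8180, 12417), (8181, 12418), (8182, 12458), (8183, 4919), (8184, 4920), (8185, 12419), (8186, 12482), (8187, 4918), (8188, 12486), (8189, 12477), (8190,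 12478), (8191, 12479)]
    ⟨e3 q8128 (flp_g L124868) q4880, e3 q8129 (flp_g L176468) q12362, e3 q8130 (flp_g L148852) q8088, e3 q8131 (flp_g L124882) q4881, e3 q8132 (flp_g L176440) q12359, e3 q8133 L149654 q8138, e3 q8134 L148671 q4887, e3 q8135 (flp_g L125556) q8141, e3 q8136 L176929 q12413, e3 q8137 L148687 q4915, e3 q8138 (flp_g L149654) q8133, e3 q8139 L163637 q10355, e3 q8140 (flp_g L125546) q4889, e3 q8141 L125556 q8135, e3 q8142 (flp_g L176258) q12339, e3 q8143 L149666 q8159, e3 q8144 L148800 q4897, e3 q8145 L148815 q4898, e3 q8146 L147061 q4909, e3 q8147 L147053 q4910, e3 q8148 (flp_g L149676) q8155, e3 q8149 (flp_g L149678) q8156, e3 q8150 L177112 q12435, e3 q8151 L177138 q12439, e3 q8152 (flp_g L125862) q8164, e3 q8153 L177033 q12425, e3 q8154 (flp_g L177051) q12427, e3 q8155 L149676 q8148, e3 q8156 L149678 q8149, e3 q8157 L177098 q12433, e3 q8158 L177204 q12450, e3 q8159 (flp_g L149666) q8143, e3 q8160 L163647 q6451, e3 q8161 L177228 q12454, e3 q8162 (flp_g L125848) q4901, e3 q8163 L125854 q4908, e3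 q8164 L125862 q8152, e3 q8165 L177275 q12459, e3 q8166 L142746 q6019, e3 q8167 (flp_g L153734) q9211, e3 q8168 (flp_g L151232) q5631, e3 q8169 (flp_g L125916) q4905, e3 q8170 (flp_g L125920) q4906, e3 q8171 (flp_g L177242) q12455, e3 q8172 L150796 q8172, e3 q8173 (flp_g L177069) q12429, e3 q8174 (flp_g L177077) q12430, e3 q8175 L177342 q12467, e3 q8176 (flp_g L126362) q4911, e3 q8177 (flp_g L164510) q10633, e3 q8178 L177368 q12470, e3 q8179 (flp_g L126400) q4913, e3 q8180 (flp_g L176963) q12417, e3 q8181 (flp_g L176973) q12418, e3 q8182 (flp_g L177283) q12458, e3 q8183 L126545 q4919, e3 q8184 L126549 q4920, e3 q8185 (flp_g L176989) q12419, e3 q8186 L177457 q12482, e3 q8187 (flp_g L126636) q4918, e3 q8188 L177481 q12486, e3 q8189 (flp_g L177429) q12477, e3 q8190 (flp_g L177433) q12478, e3 q8191 (flp_g L177439) q12479, trivial⟩ (by decide +kernel)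

theorem ce_g_128 : ∀ r, r < 64 → sm gg (Qf (8192 + r)) = Qf (tab Gen.g (8192 + r)) :=
  edges_tab (sm gg) Qf (tab Gen.g) 8192 [(8192, 12492), (8193, 12493), (8194, 4921), (8195, 12468), (8196, 12495), (8197, 12497), (8198, 9246), (8199, 4924), (8200, 6844), (8201, 12094), (8202, 4927), (8203, 8203), (8204, 12502), (8205, 4934), (8206, 5083), (8207, 8207), (8208, 11886), (8209, 12491), (8210, 4939), (8211, 12504), (8212, 8217), (8213, 4940), (8214, 12505), (8215, 4942), (8216, 4943), (8217, 8212), (8218, 12511), (8219, 9834), (8220, 12516), (8221, 4947), (8222, 9827), (8223, 12520), (8224, 12521), (8225, 5232), (8226, 8244), (8227, 10085), (8228, 4951), (8229, 12523), (8230, 4964), (8231, 4965), (8232, 8245), (8233, 12530), (8234, 4957), (8235, 12531), (8236, 12532), (8237, 12539), (8238, 12542), (8239, 12545), (8240, 12547), (8241, 4960), (8242, 4961), (8243, 4962), (8244, 8226), (8245, 8232), (8246, 10104), (8247, 4966), (8248, 11033), (8249, 12560), (8250, 12563), (8251, 8737), (8252, 9783), (8253, 9055), (8254,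 12567), (8255, 4975)]
    ⟨e3 q8192 L177523 q12492, e3 q8193 L177535 q12493, e3 q8194 (flp_g L126668) q4921, e3 q8195 (flp_g L177360) q12468, e3 q8196 L177560 q12495, e3 q8197 L177577 q12497, e3 q8198 L153996 q9246, e3 q8199 (flp_g L126714) q4924, e3 q8200 L126724 q6844, e3 q8201 L174450 q12094, e3 q8202 (flp_g L126732) q4927, e3 q8203 L128561 q8203, e3 q8204 L177615 q12502, e3 q8205 (flp_g L128599) q4934, e3 q8206 L128619 q5083, e3 q8207 L128638 q8207, e3 q8208 (flp_g L172963) q11886, e3 q8209 L177521 q12491, e3 q8210 (flp_g L128653) q4939, e3 q8211 L177631 q12504, e3 q8212 (flp_g L128729) q8217, e3 q8213 (flp_g L128677) q4940, e3 q8214 L177641 q12505, e3 q8215 (flp_g L128703) q4942, e3 q8216 (flp_g L128711) q4943, e3 q8217 L128729 q8212, e3 q8218 L177683 q12511, e3 q8219 (flp_g L158169) q9834, e3 q8220 L177711 q12516, e3 q8221 (flp_g L128747) q4947, e3 q8222 (flp_g L158137) q9827, e3 q8223 L177747 q12520, e3 q8224 L177759 q12521, e3 q8225 L128777 q5232, e3 q8226 (flp_g L128917) q8244, e3 q8227 (flp_g L159855)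 q10085, e3 q8228 (flp_g L128799) q4951, e3 q8229 (flp_g L177785) q12523, e3 q8230 L128817 q4964, e3 q8231 L128827 q4965, e3 q8232 L128937 q8245, e3 q8233 L177823 q12530, e3 q8234 L128847 q4957, e3 q8235 (flp_g L177835) q12531, e3 q8236 (flp_g L177841) q12532, e3 q8237 L177888 q12539, e3 q8238 L177911 q12542, e3 q8239 L177929 q12545, e3 q8240 L177947 q12547, e3 q8241 (flp_g L128881) q4960, e3 q8242 (flp_g L128887) q4961, e3 q8243 (flp_g L128899) q4962, e3 q8244 L128917 q8226, e3 q8245 (flp_g L128937) q8232, e3 q8246 (flp_g L159982) q10104, e3 q8247 (flp_g L128949) q4966, e3 q8248 (flp_g L167419) q11033, e3 q8249 L178047 q12560, e3 q8250 L178064 q12563, e3 q8251 (flp_g L144998) q8737, e3 q8252 (flp_g L157887) q9783, e3 q8253 L152530 q9055, e3 q8254 L178093 q12567, e3 q8255 (flp_g L129028) q4975, trivial⟩ (by decide +kernel)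

theorem ce_g_129 : ∀ r, r < 64 → sm gg (Qf (8256 + r)) = Qf (tab Gen.g (8256 + r)) :=
  edges_tab (sm gg) Qf (tab Gen.g) 8256 [(8256, 6047), (8257, 8907), (8258, 6093), (8259, 4978), (8260, 9028), (8261, 4979), (8262, 4981), (8263, 4982), (8264, 8267), (8265, 9025), (8266, 12571), (8267, 8264), (8268, 5635), (8269, 9213), (8270, 4983), (8271, 8894), (8272, 12575), (8273, 8281), (8274, 5666), (8275, 4985), (8276, 5447), (8277, 9254), (8278, 4986), (8279, 9251), (8280, 4987), (8281, 8273), (8282, 4989), (8283, 4991), (8284, 7191), (8285, 8941), (8286, 12582), (8287, 5423), (8288, 8929), (8289, 10795), (8290, 4992), (8291, 7310), (8292, 8923), (8293, 4994), (8294, 12583), (8295, 5595), (8296, 4995), (8297, 9011), (8298, 5599), (8299, 12592), (8300, 8311), (8301, 12593), (8302, 4997), (8303, 5002), (8304, 5003), (8305, 8314), (8306, 12595), (8307, 12596), (8308, 4999), (8309, 11568), (8310, 5000), (8311, 8300), (8312, 9914), (8313, 7400), (8314, 8305), (8315, 7405), (8316, 11614), (8317, 5004), (8318, 7528), (8319,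 8319)]
    ⟨e3 q8256 L129046 q6047, e3 q8257 (flp_g L151123) q8907, e3 q8258 (flp_g L147705) q6093, e3 q8259 (flp_g L129070) q4978, e3 q8260 (flp_g L152380) q9028, e3 q8261 (flp_g L129082) q4979, e3 q8262 L129090 q4981, e3 q8263 L129094 q4982, e3 q8264 L129115 q8267, e3 q8265 L152354 q9025, e3 q8266 (flp_g L178145) q12571, e3 q8267 (flp_g L129115) q8264, e3 q8268 L153052 q5635, e3 q8269 L153755 q9213, e3 q8270 (flp_g L129127) q4983, e3 q8271 L149711 q8894, e3 q8272 L178171 q12575, e3 q8273 (flp_g L129199) q8281, e3 q8274 L153483 q5666, e3 q8275 (flp_g L129163) q4985, e3 q8276 L129185 q5447, e3 q8277 (flp_g L154059) q9254, e3 q8278 (flp_g L129175) q4986, e3 q8279 (flp_g L154037) q9251, e3 q8280 (flp_g L129189) q4987, e3 q8281 L129199 q8273, e3 q8282 (flp_g L129201) q4989, e3 q8283 L129217 q4991, e3 q8284 L129229 q7191, e3 q8285 (flp_g L151764) q8941, e3 q8286 (flp_g L178245) q12582, e3 q8287 (flp_g L129244) q5423, e3 q8288 L152166 q8929, e3 q8289 L165712 q10795, e3 q8290 (flp_g L129253) q4992, e3 q8291 (flp_g L148937)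 q7310, e3 q8292 L151646 q8923, e3 q8293 (flp_g L129294) q4994, e3 q8294 L178259 q12583, e3 q8295 L153502 q5595, e3 q8296 (flp_g L129315) q4995, e3 q8297 (flp_g L152238) q9011, e3 q8298 L151566 q5599, e3 q8299 L178361 q12592, e3 q8300 (flp_g L129436) q8311, e3 q8301 L178371 q12593, e3 q8302 (flp_g L129359) q4997, e3 q8303 L129371 q5002, e3 q8304 L129377 q5003, e3 q8305 L129454 q8314, e3 q8306 L178391 q12595, e3 q8307 L178401 q12596, e3 q8308 (flp_g L129404) q4999, e3 q8309 (flp_g L170799) q11568, e3 q8310 (flp_g L129422) q5000, e3 q8311 L129436 q8300, e3 q8312 (flp_g L158666) q9914, e3 q8313 (flp_g L151018) q7400, e3 q8314 (flp_g L129454) q8305, e3 q8315 L151270 q7405, e3 q8316 L171079 q11614, e3 q8317 (flp_g L129466) q5004, e3 q8318 L129484 q7528, e3 q8319 L129491 q8319, trivial⟩ (by decide +kernel)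

theorem ce_g_130 : ∀ r, r < 64 → sm gg (Qf (8320 + r)) = Qf (tab Gen.g (8320 + r)) :=
  edges_tab (sm gg) Qf (tab Gen.g) 8320 [(8320, 12599), (8321, 12600), (8322, 5007), (8323, 6783), (8324, 10518), (8325, 10732), (8326, 8338), (8327, 12603), (8328, 5010), (8329, 5022), (8330, 5024), (8331, 8343), (8332, 5015), (8333, 12606), (8334, 12607), (8335, 5016), (8336, 12215), (8337, 5018), (8338, 8326), (8339, 9733), (8340, 6153), (8341, 12612), (8342, 7993), (8343, 8331), (8344, 7995), (8345, 12272), (8346, 5025), (8347, 8523), (8348, 5029), (8349, 6118), (8350, 8378), (8351, 11264), (8352, 5031), (8353, 12617), (8354, 5047), (8355, 5048), (8356, 8382), (8357, 6561), (8358, 12621), (8359, 8396), (8360, 12623), (8361, 5036), (8362, 5038), (8363, 12625), (8364, 12626), (8365, 12631), (8366, 6581), (8367, 5062), (8368, 5064), (8369, 8410), (8370, 12638), (8371, 12640), (8372, 12641), (8373, 5042), (8374, 12643), (8375, 5043), (8376, 5044), (8377, 5046), (8378, 8350), (8379, 12646), (8380, 12651), (8381, 10600), (8382,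 8356), (8383, 11424)]
    ⟨e3 q8320 L178435 q12599, e3 q8321 L178449 q12600, e3 q8322 (flp_g L129523) q5007, e3 q8323 L148560 q6783, e3 q8324 (flp_g L162688) q10518, e3 q8325 L165224 q10732, e3 q8326 (flp_g L129789) q8338, e3 q8327 L178487 q12603, e3 q8328 (flp_g L129684) q5010, e3 q8329 L129707 q5022, e3 q8330 L129712 q5024, e3 q8331 L129819 q8343, e3 q8332 (flp_g L129731) q5015, e3 q8333 L178519 q12606, e3 q8334 L178527 q12607, e3 q8335 (flp_g L129757) q5016, e3 q8336 (flp_g L175368) q12215, e3 q8337 (flp_g L129779) q5018, e3 q8338 L129789 q8326, e3 q8339 (flp_g L157571) q9733, e3 q8340 L149590 q6153, e3 q8341 L178561 q12612, e3 q8342 L150504 q7993, e3 q8343 (flp_g L129819) q8331, e3 q8344 (flp_g L151117) q7995, e3 q8345 L175771 q12272, e3 q8346 (flp_g L129834) q5025, e3 q8347 (flp_g L143481) q8523, e3 q8348 (flp_g L129844) q5029, e3 q8349 L129868 q6118, e3 q8350 (flp_g L130084) q8378, e3 q8351 (flp_g L168869) q11264, e3 q8352 (flp_g L129908) q5031, e3 q8353 (flp_g L178605) q12617, e3 q8354 L129920 q5047, e3 q8355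 L129928 q5048, e3 q8356 L130121 q8382, e3 q8357 L129942 q6561, e3 q8358 L178631 q12621, e3 q8359 (flp_g L130218) q8396, e3 q8360 L178647 q12623, e3 q8361 (flp_g L129968) q5036, e3 q8362 L129978 q5038, e3 q8363 (flp_g L178661) q12625, e3 q8364 (flp_g L178667) q12626, e3 q8365 L178697 q12631, e3 q8366 L149576 q6581, e3 q8367 L130006 q5062, e3 q8368 L130012 q5064, e3 q8369 L130308 q8410, e3 q8370 L178747 q12638, e3 q8371 L178757 q12640, e3 q8372 L178767 q12641, e3 q8373 (flp_g L130036) q5042, e3 q8374 L178787 q12643, e3 q8375 (flp_g L130052) q5043, e3 q8376 (flp_g L130062) q5044, e3 q8377 L130076 q5046, e3 q8378 L130084 q8350, e3 q8379 (flp_g L178822) q12646, e3 q8380 L178864 q12651, e3 q8381 (flp_g L164242) q10600, e3 q8382 (flp_g L130121) q8356, e3 q8383 (flp_g L169876) q11424, trivial⟩ (by decide +kernel)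

theorem ce_g_131 : ∀ r, r < 64 → sm gg (Qf (8384 + r)) = Qf (tab Gen.g (8384 + r)) :=
  edges_tab (sm gg) Qf (tab Gen.g) 8384 [(8384, 12656), (8385, 5049), (8386, 12659), (8387, 5050), (8388, 5051), (8389, 12663), (8390, 12665), (8391, 5052), (8392, 12661), (8393, 12669), (8394, 5054), (8395, 5073), (8396, 8359), (8397, 5058), (8398, 5059), (8399, 8403), (8400, 12678), (8401, 12682), (8402, 12674), (8403, 8399), (8404, 12675), (8405, 12688), (8406, 5060), (8407, 6674), (8408, 9917), (8409, 12633), (8410, 8369), (8411, 12697), (8412, 8825), (8413, 12700), (8414, 12702), (8415, 5065), (8416, 8425), (8417, 12705), (8418, 5066), (8419, 12706), (8420, 12711), (8421, 12713), (8422, 5068), (8423, 12716), (8424, 5069), (8425, 8416), (8426, 5071), (8427, 12670), (8428, 12672), (8429, 12725), (8430, 8431), (8431, 8430), (8432, 12729), (8433, 12731), (8434, 5077), (8435, 5323), (8436, 6659), (8437, 9359), (8438, 5082), (8439, 10593), (8440, 5085), (8441, 10807), (8442, 6872), (8443, 5092), (8444, 8476), (8445, 5095), (8446,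 5097), (8447, 10778)]
    ⟨e3 q8384 L178917 q12656, e3 q8385 (flp_g L130139) q5049, e3 q8386 L178941 q12659, e3 q8387 (flp_g L130158) q5050, e3 q8388 (flp_g L130166) q5051, e3 q8389 L178981 q12663, e3 q8390 L178993 q12665, e3 q8391 (flp_g L130180) q5052, e3 q8392 (flp_g L178973) q12661, e3 q8393 L179021 q12669, e3 q8394 (flp_g L130200) q5054, e3 q8395 L130208 q5073, e3 q8396 L130218 q8359, e3 q8397 L130224 q5058, e3 q8398 L130230 q5059, e3 q8399 L130256 q8403, e3 q8400 L179077 q12678, e3 q8401 L179103 q12682, e3 q8402 (flp_g L179057) q12674, e3 q8403 (flp_g L130256) q8399, e3 q8404 (flp_g L179063) q12675, e3 q8405 L179145 q12688, e3 q8406 (flp_g L130270) q5060, e3 q8407 (flp_g L148546) q6674, e3 q8408 (flp_g L158690) q9917, e3 q8409 (flp_g L178721) q12633, e3 q8410 (flp_g L130308) q8369, e3 q8411 L179207 q12697, e3 q8412 (flp_g L150982) q8825, e3 q8413 L179229 q12700, e3 q8414 L179243 q12702, e3 q8415 (flp_g L130330) q5065, e3 q8416 (flp_g L130398) q8425, e3 q8417 L179261 q12705, e3 q8418 (flp_g L130352) q5066,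 e3 q8419 (flp_g L179271) q12706, e3 q8420 L179299 q12711, e3 q8421 L179317 q12713, e3 q8422 (flp_g L130372) q5068, e3 q8423 L179337 q12716, e3 q8424 (flp_g L130384) q5069, e3 q8425 L130398 q8416, e3 q8426 (flp_g L130400) q5071, e3 q8427 (flp_g L179031) q12670, e3 q8428 (flp_g L179045) q12672, e3 q8429 L179403 q12725, e3 q8430 (flp_g L130440) q8431, e3 q8431 L130440 q8430, e3 q8432 L179427 q12729, e3 q8433 L179443 q12731, e3 q8434 (flp_g L130452) q5077, e3 q8435 L130466 q5323, e3 q8436 L148572 q6659, e3 q8437 (flp_g L154842) q9359, e3 q8438 (flp_g L130606) q5082, e3 q8439 (flp_g L164176) q10593, e3 q8440 (flp_g L130624) q5085, e3 q8441 (flp_g L165804) q10807, e3 q8442 L148580 q6872, e3 q8443 (flp_g L142817) q5092, e3 q8444 L143091 q8476, e3 q8445 (flp_g L142851) q5095, e3 q8446 L142867 q5097, e3 q8447 (flp_g L165596) q10778, trivial⟩ (by decide +kernel)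

theorem ce_g_132 : ∀ r, r < 64 → sm gg (Qf (8448 + r)) = Qf (tab Gen.g (8448 + r)) :=
  edges_tab (sm gg) Qf (tab Gen.g) 8448 [(8448, 5716), (8449, 10562), (8450, 6758), (8451, 10451), (8452, 5102), (8453, 5403), (8454, 5106), (8455, 5107), (8456, 8458), (8457, 12736), (8458, 8456), (8459, 12737), (8460, 12741), (8461, 5108), (8462, 6575), (8463, 10493), (8464, 12744), (8465, 8472), (8466, 12747), (8467, 5112), (8468, 12748), (8469, 5113), (8470, 12749), (8471, 5114), (8472, 8465), (8473, 5116), (8474, 5119), (8475, 12349), (8476, 8444), (8477, 12376), (8478, 5123), (8479, 9467), (8480, 5128), (8481, 5129), (8482, 9661), (8483, 10611), (8484, 12751), (8485, 12754), (8486, 5130), (8487, 10743), (8488, 8494), (8489, 12400), (8490, 12401), (8491, 6648), (8492, 12757), (8493, 5136), (8494, 8488), (8495, 5142), (8496, 5139), (8497, 12760), (8498, 5140), (8499, 8974), (8500, 8893), (8501, 10621), (8502, 5143), (8503, 5183), (8504, 5184), (8505, 8560), (8506, 11908), (8507, 5152), (8508, 5154), (8509, 8518), (8510, 12364),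 (8511, 12772)]
    ⟨e3 q8448 L142891 q5716, e3 q8449 (flp_g L163063) q10562, e3 q8450 L142907 q6758, e3 q8451 (flp_g L162281) q10451, e3 q8452 (flp_g L142919) q5102, e3 q8453 L142925 q5403, e3 q8454 L142929 q5106, e3 q8455 L142933 q5107, e3 q8456 L142947 q8458, e3 q8457 (flp_g L179485) q12736, e3 q8458 (flp_g L142947) q8456, e3 q8459 (flp_g L179493) q12737, e3 q8460 L179523 q12741, e3 q8461 (flp_g L142957) q5108, e3 q8462 (flp_g L149578) q6575, e3 q8463 L162540 q10493, e3 q8464 L179541 q12744, e3 q8465 (flp_g L143039) q8472, e3 q8466 L179565 q12747, e3 q8467 (flp_g L143009) q5112, e3 q8468 L179571 q12748, e3 q8469 (flp_g L143017) q5113, e3 q8470 L179581 q12749, e3 q8471 (flp_g L143029) q5114, e3 q8472 L143039 q8465, e3 q8473 (flp_g L143041) q5116, e3 q8474 L143057 q5119, e3 q8475 (flp_g L176344) q12349, e3 q8476 (flp_g L143091) q8444, e3 q8477 (flp_g L176576) q12376, e3 q8478 (flp_g L143131) q5123, e3 q8479 (flp_g L155650) q9467, e3 q8480 L143151 q5128, e3 q8481 L143155 q5129, e3 q8482 L162891 q9661, e3 q8483 L164344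 q10611, e3 q8484 (flp_g L179601) q12751, e3 q8485 L179617 q12754, e3 q8486 (flp_g L143183) q5130, e3 q8487 (flp_g L165312) q10743, e3 q8488 (flp_g L143293) q8494, e3 q8489 (flp_g L176817) q12400, e3 q8490 (flp_g L176827) q12401, e3 q8491 (flp_g L143269) q6648, e3 q8492 L179637 q12757, e3 q8493 (flp_g L143283) q5136, e3 q8494 L143293 q8488, e3 q8495 L143299 q5142, e3 q8496 (flp_g L143301) q5139, e3 q8497 L179665 q12760, e3 q8498 (flp_g L143311) q5140, e3 q8499 (flp_g L152000) q8974, e3 q8500 L146064 q8893, e3 q8501 (flp_g L164430) q10621, e3 q8502 (flp_g L143337) q5143, e3 q8503 L143345 q5183, e3 q8504 L143349 q5184, e3 q8505 L143753 q8560, e3 q8506 (flp_g L173120) q11908, e3 q8507 L143361 q5152, e3 q8508 L143365 q5154, e3 q8509 L143407 q8518, e3 q8510 (flp_g L176480) q12364, e3 q8511 L179765 q12772, trivial⟩ (by decide +kernel)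

theorem ce_g_133 : ∀ r, r < 64 → sm gg (Qf (8512 + r)) = Qf (tab Gen.g (8512 + r)) :=
  edges_tab (sm gg) Qf (tab Gen.g) 8512 [(8512, 12773), (8513, 5150), (8514, 10609), (8515, 12777), (8516, 6690), (8517, 5151), (8518, 8509), (8519, 7691), (8520, 12767), (8521, 12187), (8522, 5155), (8523, 8347), (8524, 8898), (8525, 12784), (8526, 6379), (8527, 6081), (8528, 12572), (8529, 12570), (8530, 5161), (8531, 10276), (8532, 11857), (8533, 8570), (8534, 5164), (8535, 12791), (8536, 8551), (8537, 11999), (8538, 5167), (8539, 5169), (8540, 12794), (8541, 12795), (8542, 9667), (8543, 12800), (8544, 12802), (8545, 10571), (8546, 5170), (8547, 5171), (8548, 12804), (8549, 12805), (8550, 5173), (8551, 8536), (8552, 12808), (8553, 12809), (8554, 12810), (8555, 5179), (8556, 5180), (8557, 12763), (8558, 12764), (8559, 10457), (8560, 8505), (8561, 5185), (8562, 6444), (8563, 5572), (8564, 5653), (8565, 5651), (8566, 11312), (8567, 11905), (8568, 6593), (8569, 5195), (8570, 8533), (8571, 5203), (8572, 5201), (8573, 9654), (8574,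 8578), (8575, 5204)]
    ⟨e3 q8512 L179775 q12773, e3 q8513 (flp_g L143379) q5150, e3 q8514 (flp_g L164326) q10609, e3 q8515 L179805 q12777, e3 q8516 (flp_g L148878) q6690, e3 q8517 (flp_g L143393) q5151, e3 q8518 (flp_g L143407) q8509, e3 q8519 L151240 q7691, e3 q8520 (flp_g L179729) q12767, e3 q8521 (flp_g L175190) q12187, e3 q8522 (flp_g L143471) q5155, e3 q8523 L143481 q8347, e3 q8524 (flp_g L146058) q8898, e3 q8525 L179873 q12784, e3 q8526 L149311 q6379, e3 q8527 (flp_g L147958) q6081, e3 q8528 (flp_g L178155) q12572, e3 q8529 (flp_g L178133) q12570, e3 q8530 (flp_g L143547) q5161, e3 q8531 L161066 q10276, e3 q8532 (flp_g L172741) q11857, e3 q8533 (flp_g L143871) q8570, e3 q8534 (flp_g L143591) q5164, e3 q8535 (flp_g L179937) q12791, e3 q8536 (flp_g L143695) q8551, e3 q8537 (flp_g L173763) q11999, e3 q8538 (flp_g L143615) q5167, e3 q8539 L143621 q5169, e3 q8540 (flp_g L179967) q12794, e3 q8541 (flp_g L179973) q12795, e3 q8542 (flp_g L162899) q9667, e3 q8543 L180005 q12800, e3 q8544 L180023 q12802, e3 q8545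 (flp_g L164013) q10571, e3 q8546 (flp_g L143643) q5170, e3 q8547 (flp_g L143651) q5171, e3 q8548 L180041 q12804, e3 q8549 L180051 q12805, e3 q8550 (flp_g L143681) q5173, e3 q8551 L143695 q8536, e3 q8552 L180079 q12808, e3 q8553 L180091 q12809, e3 q8554 L180099 q12810, e3 q8555 (flp_g L143719) q5179, e3 q8556 (flp_g L143729) q5180, e3 q8557 (flp_g L179701) q12763, e3 q8558 (flp_g L179711) q12764, e3 q8559 (flp_g L162327) q10457, e3 q8560 (flp_g L143753) q8505, e3 q8561 (flp_g L143755) q5185, e3 q8562 (flp_g L150976) q6444, e3 q8563 L143813 q5572, e3 q8564 (flp_g L143825) q5653, e3 q8565 L143833 q5651, e3 q8566 L169165 q11312, e3 q8567 (flp_g L173094) q11905, e3 q8568 (flp_g L151433) q6593, e3 q8569 (flp_g L143857) q5195, e3 q8570 L143871 q8533, e3 q8571 L143877 q5203, e3 q8572 (flp_g L143879) q5201, e3 q8573 (flp_g L157025) q9654, e3 q8574 (flp_g L150476) q8578, e3 q8575 L149225 q5204, trivial⟩ (by decide +kernel)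

theorem ce_g_134 : ∀ r, r < 64 → sm gg (Qf (8576 + r)) = Qf (tab Gen.g (8576 + r)) :=
  edges_tab (sm gg) Qf (tab Gen.g) 8576 [(8576, 6036), (8577, 12461), (8578, 8574), (8579, 5977), (8580, 8585), (8581, 5573), (8582, 6067), (8583, 6020), (8584, 5211), (8585, 8580), (8586, 9761), (8587, 5212), (8588, 5604), (8589, 8596), (8590, 5214), (8591, 12821), (8592, 10603), (8593, 12825), (8594, 5217), (8595, 5224), (8596, 8589), (8597, 8615), (8598, 12831), (8599, 5219), (8600, 12832), (8601, 5228), (8602, 5229), (8603, 8618), (8604, 12840), (8605, 12843), (8606, 12845), (8607, 5223), (8608, 12827), (8609, 12828), (8610, 12852), (8611, 12856), (8612, 12857), (8613, 5225), (8614, 5226), (8615, 8597), (8616, 12862), (8617, 6028), (8618, 8603), (8619, 9752), (8620, 5230), (8621, 12865), (8622, 11184), (8623, 5231), (8624, 8625), (8625, 8624), (8626, 11114), (8627, 12869), (8628, 5236), (8629, 12870), (8630, 12871), (8631, 12878), (8632, 11452), (8633, 12884), (8634, 12887), (8635, 12889), (8636, 5240), (8637, 7311), (8638,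 12892), (8639, 11456)]
    ⟨e3 q8576 L150468 q6036, e3 q8577 (flp_g L177309) q12461, e3 q8578 L150476 q8574, e3 q8579 (flp_g L148056) q5977, e3 q8580 (flp_g L150480) q8585, e3 q8581 L144037 q5573, e3 q8582 (flp_g L150486) q6067, e3 q8583 (flp_g L150478) q6020, e3 q8584 (flp_g L144045) q5211, e3 q8585 L150480 q8580, e3 q8586 (flp_g L157765) q9761, e3 q8587 (flp_g L144073) q5212, e3 q8588 L144085 q5604, e3 q8589 (flp_g L144141) q8596, e3 q8590 (flp_g L144097) q5214, e3 q8591 L180203 q12821, e3 q8592 L164272 q10603, e3 q8593 L180229 q12825, e3 q8594 (flp_g L144119) q5217, e3 q8595 L144131 q5224, e3 q8596 L144141 q8589, e3 q8597 (flp_g L144247) q8615, e3 q8598 L180259 q12831, e3 q8599 (flp_g L144163) q5219, e3 q8600 (flp_g L180275) q12832, e3 q8601 L144175 q5228, e3 q8602 L144181 q5229, e3 q8603 L144265 q8618, e3 q8604 L180353 q12840, e3 q8605 L180373 q12843, e3 q8606 L180385 q12845, e3 q8607 (flp_g L144199) q5223, e3 q8608 (flp_g L180241) q12827, e3 q8609 (flp_g L180247) q12828, e3 q8610 L180421 q12852, e3 q8611 L180455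 q12856, e3 q8612 L180461 q12857, e3 q8613 (flp_g L144227) q5225, e3 q8614 (flp_g L144235) q5226, e3 q8615 L144247 q8597, e3 q8616 L180505 q12862, e3 q8617 L149516 q6028, e3 q8618 (flp_g L144265) q8603, e3 q8619 L157697 q9752, e3 q8620 (flp_g L144275) q5230, e3 q8621 L180533 q12865, e3 q8622 (flp_g L168352) q11184, e3 q8623 (flp_g L144305) q5231, e3 q8624 (flp_g L144323) q8625, e3 q8625 L144323 q8624, e3 q8626 L167920 q11114, e3 q8627 L180571 q12869, e3 q8628 L144341 q5236, e3 q8629 (flp_g L180581) q12870, e3 q8630 (flp_g L180585) q12871, e3 q8631 L180621 q12878, e3 q8632 L170046 q11452, e3 q8633 L180655 q12884, e3 q8634 L180669 q12887, e3 q8635 L180685 q12889, e3 q8636 (flp_g L144371) q5240, e3 q8637 (flp_g L151596) q7311, e3 q8638 L180705 q12892, e3 q8639 (flp_g L170080) q11456, trivial⟩ (by decide +kernel)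

theorem ce_g_135 : ∀ r, r < 64 → sm gg (Qf (8640 + r)) = Qf (tab Gen.g (8640 + r)) :=
  edges_tab (sm gg) Qf (tab Gen.g) 8640 [(8640, 5241), (8641, 8714), (8642, 12893), (8643, 5243), (8644, 12624), (8645, 5246), (8646, 5247), (8647, 8650), (8648, 12901), (8649, 10745), (8650, 8647), (8651, 6826), (8652, 5248), (8653, 8654), (8654, 8653), (8655, 12907), (8656, 5249), (8657, 5300), (8658, 5303), (8659, 8752), (8660, 12912), (8661, 8668), (8662, 10687), (8663, 5253), (8664, 12557), (8665, 12918), (8666, 5254), (8667, 5255), (8668, 8661), (8669, 12921), (8670, 5257), (8671, 12922), (8672, 12550), (8673, 5262), (8674, 5263), (8675, 8678), (8676, 12931), (8677, 12934), (8678, 8675), (8679, 10926), (8680, 5264), (8681, 7139), (8682, 11191), (8683, 12941), (8684, 10922), (8685, 8692), (8686, 11153), (8687, 5268), (8688, 12944), (8689, 12950), (8690, 5270), (8691, 5271), (8692, 8685), (8693, 12955), (8694, 8702), (8695, 5273), (8696, 12959), (8697, 12963), (8698, 12964), (8699, 5274), (8700, 5275), (8701, 5280), (8702,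 8694), (8703, 12973)]
    ⟨e3 q8640 (flp_g L144397) q5241, e3 q8641 (flp_g L144857) q8714, e3 q8642 L180715 q12893, e3 q8643 (flp_g L144415) q5243, e3 q8644 (flp_g L178655) q12624, e3 q8645 L144427 q5246, e3 q8646 L144433 q5247, e3 q8647 L144455 q8650, e3 q8648 L180761 q12901, e3 q8649 (flp_g L165328) q10745, e3 q8650 (flp_g L144455) q8647, e3 q8651 (flp_g L153030) q6826, e3 q8652 (flp_g L144465) q5248, e3 q8653 L151121 q8654, e3 q8654 (flp_g L151121) q8653, e3 q8655 (flp_g L180821) q12907, e3 q8656 (flp_g L144485) q5249, e3 q8657 L144499 q5300, e3 q8658 L144503 q5303, e3 q8659 L145086 q8752, e3 q8660 L180847 q12912, e3 q8661 (flp_g L144563) q8668, e3 q8662 (flp_g L164931) q10687, e3 q8663 (flp_g L144527) q5253, e3 q8664 L178032 q12557, e3 q8665 L180883 q12918, e3 q8666 (flp_g L144541) q5254, e3 q8667 (flp_g L144551) q5255, e3 q8668 L144563 q8661, e3 q8669 L180915 q12921, e3 q8670 (flp_g L144577) q5257, e3 q8671 (flp_g L180931) q12922, e3 q8672 (flp_g L177977) q12550, e3 q8673 L144595 q5262, e3 q8674 L144599 q5263,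 e3 q8675 L144623 q8678, e3 q8676 L180977 q12931, e3 q8677 L180995 q12934, e3 q8678 (flp_g L144623) q8675, e3 q8679 (flp_g L166716) q10926, e3 q8680 (flp_g L144631) q5264, e3 q8681 L150799 q7139, e3 q8682 L168393 q11191, e3 q8683 L181037 q12941, e3 q8684 L166690 q10922, e3 q8685 (flp_g L144729) q8692, e3 q8686 (flp_g L168194) q11153, e3 q8687 (flp_g L144679) q5268, e3 q8688 (flp_g L181069) q12944, e3 q8689 L181101 q12950, e3 q8690 (flp_g L144701) q5270, e3 q8691 (flp_g L144715) q5271, e3 q8692 L144729 q8685, e3 q8693 L181139 q12955, e3 q8694 (flp_g L144793) q8702, e3 q8695 (flp_g L144747) q5273, e3 q8696 L181171 q12959, e3 q8697 L181189 q12963, e3 q8698 L181193 q12964, e3 q8699 (flp_g L144769) q5274, e3 q8700 (flp_g L144775) q5275, e3 q8701 L144785 q5280, e3 q8702 L144793 q8694, e3 q8703 L181259 q12973, trivial⟩ (by decide +kernel)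

theorem ce_g_136 : ∀ r, r < 64 → sm gg (Qf (8704 + r)) = Qf (tab Gen.g (8704 + r)) :=
  edges_tab (sm gg) Qf (tab Gen.g) 8704 [(8704, 12974), (8705, 5277), (8706, 12977), (8707, 5278), (8708, 12975), (8709, 12967), (8710, 12968), (8711, 12543), (8712, 5281), (8713, 5325), (8714, 8641), (8715, 5327), (8716, 5328), (8717, 8802), (8718, 13000), (8719, 13004), (8720, 5290), (8721, 5292), (8722, 8733), (8723, 13012), (8724, 13014), (8725, 13016), (8726, 5288), (8727, 13019), (8728, 13020), (8729, 12864), (8730, 5289), (8731, 13024), (8732, 13006), (8733, 8722), (8734, 12838), (8735, 13007), (8736, 8780), (8737, 8251), (8738, 13031), (8739, 8747), (8740, 5295), (8741, 13035), (8742, 13039), (8743, 13041), (8744, 5296), (8745, 13045), (8746, 5297), (8747, 8739), (8748, 13048), (8749, 13050), (8750, 5299), (8751, 9596), (8752, 8659), (8753, 13056), (8754, 12970), (8755, 13060), (8756, 5302), (8757, 13062), (8758, 13065), (8759, 5304), (8760, 8843), (8761, 13070), (8762, 5305), (8763, 13071), (8764, 13078), (8765, 5471),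 (8766, 13025), (8767, 5308)]
    ⟨e3 q8704 L181263 q12974, e3 q8705 (flp_g L144803) q5277, e3 q8706 L181285 q12977, e3 q8707 (flp_g L144813) q5278, e3 q8708 (flp_g L181273) q12975, e3 q8709 (flp_g L181219) q12967, e3 q8710 (flp_g L181233) q12968, e3 q8711 L177921 q12543, e3 q8712 (flp_g L144839) q5281, e3 q8713 L144849 q5325, e3 q8714 L144857 q8641, e3 q8715 L144863 q5327, e3 q8716 L144869 q5328, e3 q8717 L145392 q8802, e3 q8718 L181433 q13000, e3 q8719 L181457 q13004, e3 q8720 L144891 q5290, e3 q8721 L144895 q5292, e3 q8722 L144965 q8733, e3 q8723 L181519 q13012, e3 q8724 L181533 q13014, e3 q8725 L181545 q13016, e3 q8726 (flp_g L144917) q5288, e3 q8727 L181567 q13019, e3 q8728 L181577 q13020, e3 q8729 (flp_g L180531) q12864, e3 q8730 (flp_g L144941) q5289, e3 q8731 L181607 q13024, e3 q8732 (flp_g L181475) q13006, e3 q8733 (flp_g L144965) q8722, e3 q8734 L180335 q12838, e3 q8735 (flp_g L181483) q13007, e3 q8736 L151554 q8780, e3 q8737 L144998 q8251, e3 q8738 L181661 q13031, e3 q8739 (flp_g L145060) q8747, e3 q8740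 (flp_g L145014) q5295, e3 q8741 L181693 q13035, e3 q8742 L181711 q13039, e3 q8743 L181719 q13041, e3 q8744 (flp_g L145036) q5296, e3 q8745 L181757 q13045, e3 q8746 (flp_g L145048) q5297, e3 q8747 L145060 q8739, e3 q8748 L181777 q13048, e3 q8749 L181787 q13050, e3 q8750 (flp_g L145070) q5299, e3 q8751 (flp_g L156579) q9596, e3 q8752 (flp_g L145086) q8659, e3 q8753 L181827 q13056, e3 q8754 L181247 q12970, e3 q8755 L181853 q13060, e3 q8756 (flp_g L145100) q5302, e3 q8757 L181867 q13062, e3 q8758 L181887 q13065, e3 q8759 (flp_g L145118) q5304, e3 q8760 (flp_g L145636) q8843, e3 q8761 L181919 q13070, e3 q8762 (flp_g L145140) q5305, e3 q8763 (flp_g L181929) q13071, e3 q8764 L181963 q13078, e3 q8765 (flp_g L151532) q5471, e3 q8766 (flp_g L181617) q13025, e3 q8767 (flp_g L145164) q5308, trivial⟩ (by decide +kernel)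

theorem ce_g_137 : ∀ r, r < 64 → sm gg (Qf (8768 + r)) = Qf (tab Gen.g (8768 + r)) :=
  edges_tab (sm gg) Qf (tab Gen.g) 8768 [(8768, 5310), (8769, 13081), (8770, 13082), (8771, 13088), (8772, 13090), (8773, 6592), (8774, 13092), (8775, 5311), (8776, 8035), (8777, 13096), (8778, 5312), (8779, 10619), (8780, 8736), (8781, 5314), (8782, 13098), (8783, 13099), (8784, 5317), (8785, 13103), (8786, 8793), (8787, 5319), (8788, 13105), (8789, 13106), (8790, 13107), (8791, 5320), (8792, 5321), (8793, 8786), (8794, 12987), (8795, 5360), (8796, 12989), (8797, 12990), (8798, 13121), (8799, 13124), (8800, 6605), (8801, 12994), (8802, 8717), (8803, 12995), (8804, 13132), (8805, 13134), (8806, 5329), (8807, 13136), (8808, 5330), (8809, 13140), (8810, 5334), (8811, 5335), (8812, 5336), (8813, 13147), (8814, 13151), (8815, 13152), (8816, 5333), (8817, 13141), (8818, 13157), (8819, 13143), (8820, 13158), (8821, 5337), (8822, 13162), (8823, 8830), (8824, 5339), (8825, 8412), (8826, 7271), (8827, 13166), (8828, 5340), (8829, 5341),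 (8830, 8823), (8831, 13172)]
    ⟨e3 q8768 L145174 q5310, e3 q8769 (flp_g L181987) q13081, e3 q8770 (flp_g L181995) q13082, e3 q8771 L182031 q13088, e3 q8772 L182051 q13090, e3 q8773 L151425 q6592, e3 q8774 L182065 q13092, e3 q8775 (flp_g L145204) q5311, e3 q8776 (flp_g L151546) q8035, e3 q8777 L182095 q13096, e3 q8778 (flp_g L145216) q5312, e3 q8779 L164412 q10619, e3 q8780 (flp_g L151554) q8736, e3 q8781 (flp_g L145238) q5314, e3 q8782 L182113 q13098, e3 q8783 L182121 q13099, e3 q8784 (flp_g L145266) q5317, e3 q8785 L182165 q13103, e3 q8786 (flp_g L145338) q8793, e3 q8787 (flp_g L145286) q5319, e3 q8788 L182181 q13105, e3 q8789 L182189 q13106, e3 q8790 L182197 q13107, e3 q8791 (flp_g L145322) q5320, e3 q8792 (flp_g L145326) q5321, e3 q8793 L145338 q8786, e3 q8794 (flp_g L181357) q12987, e3 q8795 L145356 q5360, e3 q8796 (flp_g L181373) q12989, e3 q8797 (flp_g L181377) q12990, e3 q8798 L182285 q13121, e3 q8799 L182301 q13124, e3 q8800 (flp_g L149790) q6605, e3 q8801 (flp_g L181401) q12994, e3 q8802 (flp_g L145392)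 q8717, e3 q8803 (flp_g L181409) q12995, e3 q8804 L182347 q13132, e3 q8805 L182363 q13134, e3 q8806 (flp_g L145410) q5329, e3 q8807 L182371 q13136, e3 q8808 (flp_g L145422) q5330, e3 q8809 L182395 q13140, e3 q8810 L145438 q5334, e3 q8811 L145442 q5335, e3 q8812 L145446 q5336, e3 q8813 L182435 q13147, e3 q8814 L182454 q13151, e3 q8815 L182458 q13152, e3 q8816 (flp_g L145463) q5333, e3 q8817 (flp_g L182407) q13141, e3 q8818 L182481 q13157, e3 q8819 (flp_g L182417) q13143, e3 q8820 L182483 q13158, e3 q8821 (flp_g L145499) q5337, e3 q8822 L182521 q13162, e3 q8823 (flp_g L145560) q8830, e3 q8824 (flp_g L145526) q5339, e3 q8825 L150982 q8412, e3 q8826 L150900 q7271, e3 q8827 L182559 q13166, e3 q8828 (flp_g L145544) q5340, e3 q8829 (flp_g L145548) q5341, e3 q8830 L145560 q8823, e3 q8831 L182599 q13172, trivial⟩ (by decide +kernel)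

theorem ce_g_138 : ∀ r, r < 64 → sm gg (Qf (8832 + r)) = Qf (tab Gen.g (8832 + r)) :=
  edges_tab (sm gg) Qf (tab Gen.g) 8832 [(8832, 5344), (8833, 13176), (8834, 13178), (8835, 5345), (8836, 13179), (8837, 6604), (8838, 13185), (8839, 5347), (8840, 13189), (8841, 5348), (8842, 5350), (8843, 8760), (8844, 13192), (8845, 13196), (8846, 13190), (8847, 5352), (8848, 8878), (8849, 13200), (8850, 13206), (8851, 13210), (8852, 13211), (8853, 5353), (8854, 8854), (8855, 13216), (8856, 8856), (8857, 13217), (8858, 5357), (8859, 5358), (8860, 6470), (8861, 8875), (8862, 5364), (8863, 13226), (8864, 5366), (8865, 13230), (8866, 8882), (8867, 13236), (8868, 5375), (8869, 5365), (8870, 13227), (8871, 10154), (8872, 7785), (8873, 13239), (8874, 5369), (8875, 8861), (8876, 5373), (8877, 13246), (8878, 8848), (8879, 13250), (8880, 13232), (8881, 13235), (8882, 8866), (8883, 8883), (8884, 12590), (8885, 5377), (8886, 9017), (8887, 8973), (8888, 12569), (8889, 5380), (8890, 5382), (8891, 12576), (8892, 6676), (8893, 8500), (8894,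 8271), (8895, 8911)]
    ⟨e3 q8832 (flp_g L145568) q5344, e3 q8833 L182627 q13176, e3 q8834 L182637 q13178, e3 q8835 (flp_g L145586) q5345, e3 q8836 (flp_g L182645) q13179, e3 q8837 (flp_g L151455) q6604, e3 q8838 L182675 q13185, e3 q8839 (flp_g L145604) q5347, e3 q8840 L182699 q13189, e3 q8841 (flp_g L145616) q5348, e3 q8842 L145626 q5350, e3 q8843 L145636 q8760, e3 q8844 (flp_g L182727) q13192, e3 q8845 L182755 q13196, e3 q8846 (flp_g L182709) q13190, e3 q8847 L145664 q5352, e3 q8848 (flp_g L145894) q8878, e3 q8849 (flp_g L182789) q13200, e3 q8850 L182819 q13206, e3 q8851 L182839 q13210, e3 q8852 L182844 q13211, e3 q8853 (flp_g L145692) q5353, e3 q8854 L145703 q8854, e3 q8855 L182870 q13216, e3 q8856 L145712 q8856, e3 q8857 L182873 q13217, e3 q8858 (flp_g L145721) q5357, e3 q8859 (flp_g L145730) q5358, e3 q8860 L145741 q6470, e3 q8861 (flp_g L145866) q8875, e3 q8862 L145758 q5364, e3 q8863 L182936 q13226, e3 q8864 L145772 q5366, e3 q8865 L182963 q13230, e3 q8866 (flp_g L222666) q8882, e3 q8867 L182996 q13236,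 e3 q8868 L222802 q5375, e3 q8869 (flp_g L145791) q5365, e3 q8870 (flp_g L182950) q13227, e3 q8871 L160322 q10154, e3 q8872 (flp_g L150404) q7785, e3 q8873 L183028 q13239, e3 q8874 (flp_g L145843) q5369, e3 q8875 L145866 q8861, e3 q8876 L145878 q5373, e3 q8877 L183085 q13246, e3 q8878 L145894 q8848, e3 q8879 L183115 q13250, e3 q8880 L222812 q13232, e3 q8881 (flp_g L222698) q13235, e3 q8882 L222666 q8866, e3 q8883 L145924 q8883, e3 q8884 (flp_g L178345) q12590, e3 q8885 (flp_g L145933) q5377, e3 q8886 (flp_g L152304) q9017, e3 q8887 (flp_g L151994) q8973, e3 q8888 (flp_g L178123) q12569, e3 q8889 (flp_g L145955) q5380, e3 q8890 L145967 q5382, e3 q8891 (flp_g L178191) q12576, e3 q8892 (flp_g L148548) q6676, e3 q8893 (flp_g L146064) q8500, e3 q8894 (flp_g L149711) q8271, e3 q8895 L146164 q8911, trivial⟩ (by decide +kernel)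

theorem ce_g_139 : ∀ r, r < 64 → sm gg (Qf (8896 + r)) = Qf (tab Gen.g (8896 + r)) :=
  edges_tab (sm gg) Qf (tab Gen.g) 8896 [(8896, 6643), (8897, 5470), (8898, 8524), (8899, 5386), (8900, 12588), (8901, 13255), (8902, 9016), (8903, 5387), (8904, 5388), (8905, 9066), (8906, 8070), (8907, 8257), (8908, 12030), (8909, 12568), (8910, 5392), (8911, 8895), (8912, 5465), (8913, 10801), (8914, 5397), (8915, 5398), (8916, 5399), (8917, 5401), (8918, 9770), (8919, 12733), (8920, 12734), (8921, 13262), (8922, 12787), (8923, 8292), (8924, 13266), (8925, 5407), (8926, 13268), (8927, 6823), (8928, 6848), (8929, 8288), (8930, 8932), (8931, 5415), (8932, 8930), (8933, 9034), (8934, 13271), (8935, 13273), (8936, 13274), (8937, 5419), (8938, 8993), (8939, 12586), (8940, 5551), (8941, 8285), (8942, 13281), (8943, 5424), (8944, 12350), (8945, 9012), (8946, 7473), (8947, 8957), (8948, 5429), (8949, 9039), (8950, 12581), (8951, 8967), (8952, 5432), (8953, 13284), (8954, 5433), (8955, 5434), (8956, 12022), (8957, 8947), (8958, 11455),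 (8959, 5445)]
    ⟨e3 q8896 L145997 q6643, e3 q8897 (flp_g L146048) q5470, e3 q8898 L146058 q8524, e3 q8899 (flp_g L146066) q5386, e3 q8900 (flp_g L178327) q12588, e3 q8901 L183167 q13255, e3 q8902 (flp_g L152308) q9016, e3 q8903 (flp_g L146118) q5387, e3 q8904 (flp_g L146120) q5388, e3 q8905 (flp_g L152598) q9066, e3 q8906 L146136 q8070, e3 q8907 L151123 q8257, e3 q8908 (flp_g L173937) q12030, e3 q8909 L178109 q12568, e3 q8910 (flp_g L146150) q5392, e3 q8911 (flp_g L146164) q8895, e3 q8912 L151574 q5465, e3 q8913 (flp_g L165750) q10801, e3 q8914 (flp_g L151586) q5397, e3 q8915 (flp_g L151598) q5398, e3 q8916 (flp_g L151604) q5399, e3 q8917 (flp_g L151612) q5401, e3 q8918 (flp_g L157811) q9770, e3 q8919 (flp_g L179465) q12733, e3 q8920 (flp_g L179469) q12734, e3 q8921 L183225 q13262, e3 q8922 (flp_g L179913) q12787, e3 q8923 (flp_g L151646) q8292, e3 q8924 L183257 q13266, e3 q8925 (flp_g L151650) q5407, e3 q8926 L183275 q13268, e3 q8927 (flp_g L153024) q6823, e3 q8928 (flp_g L153032) q6848, e3 q8929 (flp_g L152166)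 q8288, e3 q8930 (flp_g L151718) q8932, e3 q8931 L151710 q5415, e3 q8932 L151718 q8930, e3 q8933 L152420 q9034, e3 q8934 L183289 q13271, e3 q8935 L183297 q13273, e3 q8936 L183303 q13274, e3 q8937 (flp_g L151734) q5419, e3 q8938 (flp_g L152254) q8993, e3 q8939 (flp_g L178307) q12586, e3 q8940 L153065 q5551, e3 q8941 L151764 q8285, e3 q8942 L183351 q13281, e3 q8943 (flp_g L151772) q5424, e3 q8944 (flp_g L176352) q12350, e3 q8945 L152244 q9012, e3 q8946 (flp_g L151814) q7473, e3 q8947 (flp_g L151902) q8957, e3 q8948 (flp_g L151844) q5429, e3 q8949 (flp_g L152440) q9039, e3 q8950 (flp_g L178237) q12581, e3 q8951 (flp_g L151966) q8967, e3 q8952 (flp_g L151872) q5432, e3 q8953 L183375 q13284, e3 q8954 (flp_g L151880) q5433, e3 q8955 (flp_g L151888) q5434, e3 q8956 (flp_g L173879) q12022, e3 q8957 L151902 q8947, e3 q8958 (flp_g L170068) q11455, e3 q8959 L151918 q5445, trivial⟩ (by decide +kernel)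

theorem ce_g_140 : ∀ r, r < 64 → sm gg (Qf (8960 + r)) = Qf (tab Gen.g (8960 + r)) :=
  edges_tab (sm gg) Qf (tab Gen.g) 8960 [(8960, 5446), (8961, 8975), (8962, 5489), (8963, 13290), (8964, 5439), (8965, 5440), (8966, 5444), (8967, 8951), (8968, 5442), (8969, 13291), (8970, 13294), (8971, 13295), (8972, 13305), (8973, 8887), (8974, 8499), (8975, 8961), (8976, 10394), (8977, 12578), (8978, 5531), (8979, 5894), (8980, 5533), (8981, 5534), (8982, 6050), (8983, 6602), (8984, 5538), (8985, 5540), (8986, 9101), (8987, 13321), (8988, 13324), (8989, 13325), (8990, 5454), (8991, 12762), (8992, 13331), (8993, 8938), (8994, 5455), (8995, 13333), (8996, 8034), (8997, 9003), (8998, 7556), (8999, 5459), (9000, 11754), (9001, 5460), (9002, 5461), (9003, 8997), (9004, 9007), (9005, 5463), (9006, 5464), (9007, 9004), (9008, 12254), (9009, 13343), (9010, 5467), (9011, 8297), (9012, 8945), (9013, 6580), (9014, 9024), (9015, 5473), (9016, 8902), (9017, 8886), (9018, 9033), (9019, 5476), (9020, 10419), (9021, 10498), (9022, 13347),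 (9023, 5478)]
    ⟨e3 q8960 L151930 q5446, e3 q8961 (flp_g L152008) q8975, e3 q8962 (flp_g L152260) q5489, e3 q8963 L183461 q13290, e3 q8964 (flp_g L151946) q5439, e3 q8965 (flp_g L151952) q5440, e3 q8966 L151958 q5444, e3 q8967 L151966 q8951, e3 q8968 (flp_g L151968) q5442, e3 q8969 (flp_g L183471) q13291, e3 q8970 (flp_g L183495) q13294, e3 q8971 (flp_g L183501) q13295, e3 q8972 L183579 q13305, e3 q8973 L151994 q8887, e3 q8974 L152000 q8499, e3 q8975 L152008 q8961, e3 q8976 L161894 q10394, e3 q8977 (flp_g L178213) q12578, e3 q8978 L152022 q5531, e3 q8979 L152032 q5894, e3 q8980 L152038 q5533, e3 q8981 L152042 q5534, e3 q8982 L152052 q6050, e3 q8983 L152056 q6602, e3 q8984 L152064 q5538, e3 q8985 L152072 q5540, e3 q8986 L152828 q9101, e3 q8987 L183703 q13321, e3 q8988 L183717 q13324, e3 q8989 L183725 q13325, e3 q8990 (flp_g L152088) q5454, e3 q8991 (flp_g L179695) q12762, e3 q8992 L183765 q13331, e3 q8993 L152254 q8938, e3 q8994 (flp_g L152108) q5455, e3 q8995 L183781 q13333, e3 q8996 L152124 q8034, e3 q8997 (flp_g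 L152178) q9003, e3 q8998 (flp_g L153743) q7556, e3 q8999 (flp_g L152134) q5459, e3 q9000 (flp_g L172035) q11754, e3 q9001 (flp_g L152144) q5460, e3 q9002 (flp_g L152170) q5461, e3 q9003 L152178 q8997, e3 q9004 (flp_g L152216) q9007, e3 q9005 (flp_g L152186) q5463, e3 q9006 (flp_g L152194) q5464, e3 q9007 L152216 q9004, e3 q9008 (flp_g L175643) q12254, e3 q9009 L183863 q13343, e3 q9010 (flp_g L152232) q5467, e3 q9011 L152238 q8297, e3 q9012 (flp_g L152244) q8945, e3 q9013 (flp_g L152270) q6580, e3 q9014 (flp_g L152346) q9024, e3 q9015 (flp_g L152284) q5473, e3 q9016 L152308 q8902, e3 q9017 L152304 q8886, e3 q9018 (flp_g L152410) q9033, e3 q9019 (flp_g L152316) q5476, e3 q9020 (flp_g L162062) q10419, e3 q9021 (flp_g L162573) q10498, e3 q9022 L183897 q13347, e3 q9023 (flp_g L152334) q5478, trivial⟩ (by decide +kernel)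

theorem ce_g_141 : ∀ r, r < 64 → sm gg (Qf (9024 + r)) = Qf (tab Gen.g (9024 + r)) :=
  edges_tab (sm gg) Qf (tab Gen.g) 9024 [(9024, 9014), (9025, 8265), (9026, 10424), (9027, 5480), (9028, 8260), (9029, 9510), (9030, 13352), (9031, 13355), (9032, 5484), (9033, 9018), (9034, 8933), (9035, 13361), (9036, 13363), (9037, 13364), (9038, 5488), (9039, 8949), (9040, 13289), (9041, 12248), (9042, 5490), (9043, 13369), (9044, 5492), (9045, 9152), (9046, 5493), (9047, 13360), (9048, 13373), (9049, 9160), (9050, 5496), (9051, 5498), (9052, 13374), (9053, 13375), (9054, 13380), (9055, 8253), (9056, 13384), (9057, 9836), (9058, 5499), (9059, 5501), (9060, 5502), (9061, 9063), (9062, 13338), (9063, 9061), (9064, 11794), (9065, 5503), (9066, 8905), (9067, 5504), (9068, 10505), (9069, 5506), (9070, 8028), (9071, 12304), (9072, 12587), (9073, 5512), (9074, 9080), (9075, 5513), (9076, 13388), (9077, 13389), (9078, 5514), (9079, 5515), (9080, 9074), (9081, 11245), (9082, 7485), (9083, 5521), (9084, 7620), (9085, 10446), (9086,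 13397), (9087, 5525)]
    ⟨e3 q9024 L152346 q9014, e3 q9025 (flp_g L152354) q8265, e3 q9026 L162110 q10424, e3 q9027 (flp_g L152366) q5480, e3 q9028 L152380 q8260, e3 q9029 (flp_g L155928) q9510, e3 q9030 L183943 q13352, e3 q9031 L183965 q13355, e3 q9032 (flp_g L152400) q5484, e3 q9033 L152410 q9018, e3 q9034 (flp_g L152420) q8933, e3 q9035 L183999 q13361, e3 q9036 L184013 q13363, e3 q9037 L184025 q13364, e3 q9038 (flp_g L152432) q5488, e3 q9039 L152440 q8949, e3 q9040 (flp_g L183455) q13289, e3 q9041 (flp_g L175615) q12248, e3 q9042 (flp_g L152452) q5490, e3 q9043 L184063 q13369, e3 q9044 (flp_g L152462) q5492, e3 q9045 (flp_g L153223) q9152, e3 q9046 L152484 q5493, e3 q9047 L183997 q13360, e3 q9048 L184091 q13373, e3 q9049 (flp_g L153273) q9160, e3 q9050 (flp_g L152506) q5496, e3 q9051 L152512 q5498, e3 q9052 (flp_g L184103) q13374, e3 q9053 (flp_g L184107) q13375, e3 q9054 L184133 q13380, e3 q9055 (flp_g L152530) q8253, e3 q9056 L184157 q13384, e3 q9057 (flp_g L158185) q9836, e3 q9058 (flp_g L152540) q5499, e3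 q9059 L152550 q5501, e3 q9060 L152556 q5502, e3 q9061 L152574 q9063, e3 q9062 (flp_g L183829) q13338, e3 q9063 (flp_g L152574) q9061, e3 q9064 (flp_g L172314) q11794, e3 q9065 (flp_g L152584) q5503, e3 q9066 L152598 q8905, e3 q9067 (flp_g L152602) q5504, e3 q9068 L162631 q10505, e3 q9069 (flp_g L152616) q5506, e3 q9070 L152630 q8028, e3 q9071 L175987 q12304, e3 q9072 (flp_g L178317) q12587, e3 q9073 (flp_g L152642) q5512, e3 q9074 (flp_g L152698) q9080, e3 q9075 (flp_g L152658) q5513, e3 q9076 L184191 q13388, e3 q9077 L184201 q13389, e3 q9078 (flp_g L152680) q5514, e3 q9079 (flp_g L152686) q5515, e3 q9080 L152698 q9074, e3 q9081 (flp_g L168738) q11245, e3 q9082 L152712 q7485, e3 q9083 (flp_g L152714) q5521, e3 q9084 L152724 q7620, e3 q9085 (flp_g L162240) q10446, e3 q9086 L184254 q13397, e3 q9087 (flp_g L152736) q5525, trivial⟩ (by decide +kernel)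

theorem ce_g_142 : ∀ r, r < 64 → sm gg (Qf (9088 + r)) = Qf (tab Gen.g (9088 + r)) :=
  edges_tab (sm gg) Qf (tab Gen.g) 9088 [(9088, 5526), (9089, 5530), (9090, 5788), (9091, 5528), (9092, 13398), (9093, 13309), (9094, 13310), (9095, 13403), (9096, 11250), (9097, 13405), (9098, 5535), (9099, 11823), (9100, 13315), (9101, 8986), (9102, 13411), (9103, 13316), (9104, 13079), (9105, 13415), (9106, 5541), (9107, 9111), (9108, 5542), (9109, 13416), (9110, 5544), (9111, 9107), (9112, 13421), (9113, 13278), (9114, 5546), (9115, 5554), (9116, 13426), (9117, 5556), (9118, 13429), (9119, 13277), (9120, 9124), (9121, 5550), (9122, 12915), (9123, 5552), (9124, 9120), (9125, 13437), (9126, 13438), (9127, 5555), (9128, 9134), (9129, 5557), (9130, 6879), (9131, 13441), (9132, 5558), (9133, 5559), (9134, 9128), (9135, 6349), (9136, 11977), (9137, 10223), (9138, 12781), (9139, 13448), (9140, 5569), (9141, 13451), (9142, 6107), (9143, 5570), (9144, 5797), (9145, 9509), (9146, 9617), (9147, 9148), (9148, 9147), (9149, 5575), (9150,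 13454), (9151, 5580)]
    ⟨e3 q9088 (flp_g L152740) q5526, e3 q9089 L152748 q5530, e3 q9090 L152756 q5788, e3 q9091 (flp_g L152758) q5528, e3 q9092 (flp_g L184270) q13398, e3 q9093 (flp_g L183613) q13309, e3 q9094 (flp_g L183619) q13310, e3 q9095 L184312 q13403, e3 q9096 (flp_g L168778) q11250, e3 q9097 L184330 q13405, e3 q9098 (flp_g L152800) q5535, e3 q9099 (flp_g L172499) q11823, e3 q9100 (flp_g L183665) q13315, e3 q9101 (flp_g L152828) q8986, e3 q9102 L184378 q13411, e3 q9103 (flp_g L183669) q13316, e3 q9104 (flp_g L181975) q13079, e3 q9105 L184404 q13415, e3 q9106 (flp_g L152850) q5541, e3 q9107 (flp_g L152876) q9111, e3 q9108 (flp_g L152862) q5542, e3 q9109 (flp_g L184412) q13416, e3 q9110 (flp_g L152866) q5544, e3 q9111 L152876 q9107, e3 q9112 L184444 q13421, e3 q9113 (flp_g L183337) q13278, e3 q9114 (flp_g L152884) q5546, e3 q9115 L152894 q5554, e3 q9116 L184478 q13426, e3 q9117 L152904 q5556, e3 q9118 L184498 q13429, e3 q9119 (flp_g L183327) q13277, e3 q9120 (flp_g L152945) q9124, e3 q9121 (flp_g L152918)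 q5550, e3 q9122 (flp_g L180869) q12915, e3 q9123 (flp_g L152937) q5552, e3 q9124 L152945 q9120, e3 q9125 L184531 q13437, e3 q9126 L184541 q13438, e3 q9127 (flp_g L152957) q5555, e3 q9128 (flp_g L153113) q9134, e3 q9129 (flp_g L153073) q5557, e3 q9130 (flp_g L153084) q6879, e3 q9131 L184571 q13441, e3 q9132 (flp_g L153092) q5558, e3 q9133 (flp_g L153101) q5559, e3 q9134 L153113 q9128, e3 q9135 L153121 q6349, e3 q9136 (flp_g L173623) q11977, e3 q9137 L160756 q10223, e3 q9138 (flp_g L179845) q12781, e3 q9139 L184624 q13448, e3 q9140 (flp_g L153149) q5569, e3 q9141 L184652 q13451, e3 q9142 L153161 q6107, e3 q9143 (flp_g L153163) q5570, e3 q9144 L153171 q5797, e3 q9145 (flp_g L155920) q9509, e3 q9146 L156711 q9617, e3 q9147 L153193 q9148, e3 q9148 (flp_g L153193) q9147, e3 q9149 (flp_g L153195) q5575, e3 q9150 (flp_g L184686) q13454, e3 q9151 L153213 q5580, trivial⟩ (by decide +kernel)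

theorem ce_g_143 : ∀ r, r < 64 → sm gg (Qf (9152 + r)) = Qf (tab Gen.g (9152 + r)) :=
  edges_tab (sm gg) Qf (tab Gen.g) 9152 [(9152, 9045), (9153, 6493), (9154, 13458), (9155, 5582), (9156, 6607), (9157, 5584), (9158, 13465), (9159, 5590), (9160, 9049), (9161, 5588), (9162, 9164), (9163, 13469), (9164, 9162), (9165, 5589), (9166, 13466), (9167, 13464), (9168, 13475), (9169, 5593), (9170, 13267), (9171, 9245), (9172, 13481), (9173, 12591), (9174, 9178), (9175, 5594), (9176, 12562), (9177, 5596), (9178, 9174), (9179, 10716), (9180, 12565), (9181, 6771), (9182, 9185), (9183, 5601), (9184, 5602), (9185, 9182), (9186, 9459), (9187, 13492), (9188, 5606), (9189, 5607), (9190, 9235), (9191, 9469), (9192, 5610), (9193, 7525), (9194, 9714), (9195, 5622), (9196, 5616), (9197, 9595), (9198, 5648), (9199, 5625), (9200, 13501), (9201, 13500), (9202, 10844), (9203, 5696), (9204, 5698), (9205, 9769), (9206, 13507), (9207, 10688), (9208, 5629), (9209, 5637), (9210, 12463), (9211, 8167), (9212, 12440), (9213, 8269), (9214, 13516),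 (9215, 9221)]
    ⟨e3 q9152 L153223 q9045, e3 q9153 L153227 q6493, e3 q9154 L184728 q13458, e3 q9155 (flp_g L153237) q5582, e3 q9156 L153249 q6607, e3 q9157 (flp_g L153255) q5584, e3 q9158 (flp_g L184772) q13465, e3 q9159 L153265 q5590, e3 q9160 L153273 q9049, e3 q9161 L153279 q5588, e3 q9162 L153293 q9164, e3 q9163 L184796 q13469, e3 q9164 (flp_g L153293) q9162, e3 q9165 (flp_g L153295) q5589, e3 q9166 (flp_g L184778) q13466, e3 q9167 (flp_g L184766) q13464, e3 q9168 L184842 q13475, e3 q9169 L153323 q5593, e3 q9170 L183273 q13267, e3 q9171 (flp_g L153986) q9245, e3 q9172 L184890 q13481, e3 q9173 (flp_g L178357) q12591, e3 q9174 (flp_g L153382) q9178, e3 q9175 (flp_g L153349) q5594, e3 q9176 L178062 q12562, e3 q9177 (flp_g L153370) q5596, e3 q9178 L153382 q9174, e3 q9179 (flp_g L165096) q10716, e3 q9180 (flp_g L178084) q12565, e3 q9181 (flp_g L153400) q6771, e3 q9182 (flp_g L153540) q9185, e3 q9183 (flp_g L153515) q5601, e3 q9184 (flp_g L153522) q5602, e3 q9185 L153540 q9182, e3 q9186 (flp_g L155586) q9459, e3 q9187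 L184959 q13492, e3 q9188 (flp_g L153558) q5606, e3 q9189 (flp_g L153568) q5607, e3 q9190 (flp_g L153926) q9235, e3 q9191 (flp_g L155668) q9469, e3 q9192 (flp_g L153592) q5610, e3 q9193 L153604 q7525, e3 q9194 (flp_g L157385) q9714, e3 q9195 L153620 q5622, e3 q9196 (flp_g L153622) q5616, e3 q9197 (flp_g L156569) q9595, e3 q9198 L153642 q5648, e3 q9199 L153656 q5625, e3 q9200 L185067 q13501, e3 q9201 (flp_g L185065) q13500, e3 q9202 L166104 q10844, e3 q9203 L153684 q5696, e3 q9204 L153692 q5698, e3 q9205 (flp_g L157803) q9769, e3 q9206 L185119 q13507, e3 q9207 (flp_g L164941) q10688, e3 q9208 (flp_g L153702) q5629, e3 q9209 L153714 q5637, e3 q9210 (flp_g L177322) q12463, e3 q9211 L153734 q8167, e3 q9212 (flp_g L177148) q12440, e3 q9213 (flp_g L153755) q8269, e3 q9214 L185173 q13516, e3 q9215 (flp_g L153814) q9221, trivial⟩ (by decide +kernel)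

theorem ce_g_144 : ∀ r, r < 64 → sm gg (Qf (9216 + r)) = Qf (tab Gen.g (9216 + r)) :=
  edges_tab (sm gg) Qf (tab Gen.g) 9216 [(9216, 5632), (9217, 13518), (9218, 5633), (9219, 12574), (9220, 5634), (9221, 9215), (9222, 5638), (9223, 9224), (9224, 9223), (9225, 5640), (9226, 5825), (9227, 9540), (9228, 7571), (9229, 13497), (9230, 5833), (9231, 13499), (9232, 13495), (9233, 12814), (9234, 5890), (9235, 9190), (9236, 6011), (9237, 5828), (9238, 10645), (9239, 6839), (9240, 10818), (9241, 13528), (9242, 13529), (9243, 10742), (9244, 5662), (9245, 9171), (9246, 8198), (9247, 5664), (9248, 13537), (9249, 12577), (9250, 13540), (9251, 8279), (9252, 5665), (9253, 12541), (9254, 8277), (9255, 13543), (9256, 5667), (9257, 5668), (9258, 9262), (9259, 5671), (9260, 5672), (9261, 5676), (9262, 9258), (9263, 13546), (9264, 13547), (9265, 13548), (9266, 13553), (9267, 5684), (9268, 6718), (9269, 5685), (9270, 6722), (9271, 6723), (9272, 9340), (9273, 6741), (9274, 5689), (9275, 5691), (9276, 9286), (9277, 10627), (9278, 9328),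 (9279, 10779)]
    ⟨e3 q9216 (flp_g L153769) q5632, e3 q9217 L185195 q13518, e3 q9218 (flp_g L153783) q5633, e3 q9219 (flp_g L178167) q12574, e3 q9220 (flp_g L153800) q5634, e3 q9221 L153814 q9215, e3 q9222 (flp_g L153825) q5638, e3 q9223 (flp_g L153841) q9224, e3 q9224 L153841 q9223, e3 q9225 (flp_g L153843) q5640, e3 q9226 L153860 q5825, e3 q9227 (flp_g L156178) q9540, e3 q9228 L153878 q7571, e3 q9229 L185025 q13497, e3 q9230 L153892 q5833, e3 q9231 (flp_g L185047) q13499, e3 q9232 (flp_g L185003) q13495, e3 q9233 (flp_g L180141) q12814, e3 q9234 (flp_g L153916) q5890, e3 q9235 L153926 q9190, e3 q9236 L153934 q6011, e3 q9237 L153942 q5828, e3 q9238 L164591 q10645, e3 q9239 L153956 q6839, e3 q9240 (flp_g L165885) q10818, e3 q9241 L185297 q13528, e3 q9242 L185313 q13529, e3 q9243 (flp_g L165306) q10742, e3 q9244 (flp_g L153976) q5662, e3 q9245 L153986 q9171, e3 q9246 (flp_g L153996) q8198, e3 q9247 (flp_g L153998) q5664, e3 q9248 L185353 q13537, e3 q9249 (flp_g L178203) q12577, e3 q9250 L185379 q13540, e3 q9251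 L154037 q8279, e3 q9252 (flp_g L154041) q5665, e3 q9253 L177909 q12541, e3 q9254 L154059 q8277, e3 q9255 L185407 q13543, e3 q9256 (flp_g L154067) q5667, e3 q9257 (flp_g L154074) q5668, e3 q9258 (flp_g L154120) q9262, e3 q9259 (flp_g L154094) q5671, e3 q9260 (flp_g L154100) q5672, e3 q9261 L154110 q5676, e3 q9262 L154120 q9258, e3 q9263 (flp_g L185429) q13546, e3 q9264 (flp_g L185433) q13547, e3 q9265 (flp_g L185437) q13548, e3 q9266 L185479 q13553, e3 q9267 L154146 q5684, e3 q9268 L154154 q6718, e3 q9269 L154164 q5685, e3 q9270 L154170 q6722, e3 q9271 L154176 q6723, e3 q9272 L154690 q9340, e3 q9273 L154186 q6741, e3 q9274 L154196 q5689, e3 q9275 L154206 q5691, e3 q9276 (flp_g L154254) q9286, e3 q9277 (flp_g L164466) q10627, e3 q9278 (flp_g L154602) q9328, e3 q9279 (flp_g L165608) q10779, trivial⟩ (by decide +kernel)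

theorem ce_g_145 : ∀ r, r < 64 → sm gg (Qf (9280 + r)) = Qf (tab Gen.g (9280 + r)) :=
  edges_tab (sm gg) Qf (tab Gen.g) 9280 [(9280, 9333), (9281, 5730), (9282, 10577), (9283, 10737), (9284, 9310), (9285, 6797), (9286, 9276), (9287, 10839), (9288, 13562), (9289, 13534), (9290, 10740), (9291, 5695), (9292, 13502), (9293, 10693), (9294, 9334), (9295, 10705), (9296, 13565), (9297, 5700), (9298, 6804), (9299, 9320), (9300, 5701), (9301, 10747), (9302, 9309), (9303, 5702), (9304, 13560), (9305, 13567), (9306, 13575), (9307, 5705), (9308, 5706), (9309, 9302), (9310, 9284), (9311, 5710), (9312, 9313), (9313, 9312), (9314, 13579), (9315, 5712), (9316, 13564), (9317, 9318), (9318, 9317), (9319, 5715), (9320, 9299), (9321, 10764), (9322, 10752), (9323, 13582), (9324, 5719), (9325, 13583), (9326, 5720), (9327, 10669), (9328, 9278), (9329, 13541), (9330, 13585), (9331, 5726), (9332, 5733), (9333, 9280), (9334, 9294), (9335, 13557), (9336, 13588), (9337, 5731), (9338, 13586), (9339, 10659), (9340, 9272), (9341, 13554), (9342,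 5734), (9343, 6730)]
    ⟨e3 q9280 (flp_g L154640) q9333, e3 q9281 L154228 q5730, e3 q9282 L164057 q10577, e3 q9283 (flp_g L165276) q10737, e3 q9284 (flp_g L154410) q9310, e3 q9285 L154246 q6797, e3 q9286 L154254 q9276, e3 q9287 (flp_g L166070) q10839, e3 q9288 L185567 q13562, e3 q9289 L185343 q13534, e3 q9290 (flp_g L165296) q10740, e3 q9291 (flp_g L154282) q5695, e3 q9292 (flp_g L185085) q13502, e3 q9293 (flp_g L164963) q10693, e3 q9294 (flp_g L154646) q9334, e3 q9295 (flp_g L165039) q10705, e3 q9296 L185597 q13565, e3 q9297 (flp_g L154320) q5700, e3 q9298 L154522 q6804, e3 q9299 (flp_g L154490) q9320, e3 q9300 (flp_g L154342) q5701, e3 q9301 (flp_g L165348) q10747, e3 q9302 (flp_g L154404) q9309, e3 q9303 (flp_g L154362) q5702, e3 q9304 (flp_g L185557) q13560, e3 q9305 (flp_g L185627) q13567, e3 q9306 L185705 q13575, e3 q9307 (flp_g L154382) q5705, e3 q9308 (flp_g L154388) q5706, e3 q9309 L154404 q9302, e3 q9310 L154410 q9284, e3 q9311 (flp_g L154422) q5710, e3 q9312 (flp_g L154436) q9313, e3 q9313 L154436 q9312,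 e3 q9314 L185751 q13579, e3 q9315 (flp_g L154442) q5712, e3 q9316 L185595 q13564, e3 q9317 L165534 q9318, e3 q9318 (flp_g L165534) q9317, e3 q9319 (flp_g L154480) q5715, e3 q9320 L154490 q9299, e3 q9321 L165484 q10764, e3 q9322 (flp_g L165368) q10752, e3 q9323 L185773 q13582, e3 q9324 (flp_g L154570) q5719, e3 q9325 L185787 q13583, e3 q9326 (flp_g L154582) q5720, e3 q9327 (flp_g L164769) q10669, e3 q9328 L154602 q9278, e3 q9329 (flp_g L185391) q13541, e3 q9330 L185801 q13585, e3 q9331 (flp_g L154610) q5726, e3 q9332 L154626 q5733, e3 q9333 L154640 q9280, e3 q9334 L154646 q9294, e3 q9335 (flp_g L185531) q13557, e3 q9336 L185841 q13588, e3 q9337 (flp_g L154658) q5731, e3 q9338 (flp_g L185823) q13586, e3 q9339 L164707 q10659, e3 q9340 (flp_g L154690) q9272, e3 q9341 (flp_g L185501) q13554, e3 q9342 (flp_g L154702) q5734, e3 q9343 (flp_g L154716) q6730, trivial⟩ (by decide +kernel)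

theorem ce_g_146 : ∀ r, r < 64 → sm gg (Qf (9344 + r)) = Qf (tab Gen.g (9344 + r)) :=
  edges_tab (sm gg) Qf (tab Gen.g) 9344 [(9344, 9351), (9345, 5735), (9346, 13592), (9347, 13551), (9348, 6731), (9349, 10664), (9350, 5739), (9351, 9344), (9352, 10860), (9353, 6519), (9354, 9354), (9355, 13602), (9356, 13603), (9357, 5751), (9358, 5752), (9359, 8437), (9360, 9360), (9361, 11889), (9362, 9362), (9363, 9363), (9364, 13608), (9365, 13612), (9366, 13614), (9367, 5757), (9368, 13399), (9369, 5761), (9370, 13618), (9371, 5760), (9372, 13616), (9373, 13449), (9374, 9394), (9375, 5762), (9376, 13621), (9377, 5777), (9378, 9396), (9379, 13628), (9380, 5768), (9381, 13629), (9382, 13630), (9383, 13637), (9384, 13640), (9385, 13643), (9386, 13645), (9387, 5771), (9388, 5772), (9389, 7616), (9390, 13647), (9391, 5774), (9392, 12553), (9393, 5775), (9394, 9374), (9395, 7406), (9396, 9378), (9397, 9963), (9398, 7168), (9399, 5779), (9400, 13651), (9401, 5780), (9402, 13652), (9403, 13656), (9404, 13649), (9405, 5783), (9406,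 13660), (9407, 9590)]
    ⟨e3 q9344 (flp_g L154772) q9351, e3 q9345 (flp_g L154724) q5735, e3 q9346 (flp_g L185893) q13592, e3 q9347 L185467 q13551, e3 q9348 L154746 q6731, e3 q9349 L164743 q10664, e3 q9350 (flp_g L154758) q5739, e3 q9351 L154772 q9344, e3 q9352 (flp_g L166238) q10860, e3 q9353 L154792 q6519, e3 q9354 L154802 q9354, e3 q9355 L185973 q13602, e3 q9356 L185981 q13603, e3 q9357 (flp_g L154818) q5751, e3 q9358 (flp_g L154826) q5752, e3 q9359 L154842 q8437, e3 q9360 L154850 q9360, e3 q9361 (flp_g L172982) q11889, e3 q9362 L154866 q9362, e3 q9363 L154871 q9363, e3 q9364 (flp_g L186040) q13608, e3 q9365 L186058 q13612, e3 q9366 L186075 q13614, e3 q9367 (flp_g L154890) q5757, e3 q9368 (flp_g L184284) q13399, e3 q9369 L154910 q5761, e3 q9370 L186107 q13618, e3 q9371 (flp_g L154922) q5760, e3 q9372 (flp_g L186095) q13616, e3 q9373 (flp_g L184636) q13449, e3 q9374 (flp_g L155106) q9394, e3 q9375 (flp_g L154952) q5762, e3 q9376 (flp_g L186141) q13621, e3 q9377 L154972 q5777, e3 q9378 L155128 q9396, e3 q9379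 L186191 q13628, e3 q9380 L154990 q5768, e3 q9381 (flp_g L186205) q13629, e3 q9382 (flp_g L186213) q13630, e3 q9383 L186254 q13637, e3 q9384 L186279 q13640, e3 q9385 L186299 q13643, e3 q9386 L186315 q13645, e3 q9387 (flp_g L155020) q5771, e3 q9388 (flp_g L155026) q5772, e3 q9389 L155050 q7616, e3 q9390 L186329 q13647, e3 q9391 (flp_g L155064) q5774, e3 q9392 (flp_g L178003) q12553, e3 q9393 (flp_g L155084) q5775, e3 q9394 L155106 q9374, e3 q9395 (flp_g L155116) q7406, e3 q9396 (flp_g L155128) q9378, e3 q9397 (flp_g L159015) q9963, e3 q9398 (flp_g L155146) q7168, e3 q9399 (flp_g L155150) q5779, e3 q9400 L186365 q13651, e3 q9401 (flp_g L155172) q5780, e3 q9402 (flp_g L186383) q13652, e3 q9403 L186405 q13656, e3 q9404 (flp_g L186355) q13649, e3 q9405 (flp_g L155188) q5783, e3 q9406 L186436 q13660, e3 q9407 (flp_g L156527) q9590, trivial⟩ (by decide +kernel)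

theorem ce_g_147 : ∀ r, r < 64 → sm gg (Qf (9408 + r)) = Qf (tab Gen.g (9408 + r)) :=
  edges_tab (sm gg) Qf (tab Gen.g) 9408 [(9408, 13292), (9409, 5796), (9410, 9410), (9411, 9420), (9412, 5791), (9413, 5794), (9414, 9692), (9415, 13604), (9416, 5798), (9417, 13663), (9418, 5799), (9419, 5800), (9420, 9411), (9421, 5802), (9422, 7454), (9423, 10809), (9424, 9424), (9425, 5806), (9426, 13671), (9427, 9462), (9428, 13491), (9429, 5811), (9430, 13677), (9431, 13678), (9432, 13685), (9433, 13688), (9434, 13691), (9435, 13693), (9436, 5813), (9437, 5815), (9438, 5816), (9439, 9442), (9440, 6510), (9441, 10363), (9442, 9439), (9443, 13684), (9444, 13697), (9445, 5817), (9446, 9454), (9447, 13692), (9448, 5818), (9449, 6053), (9450, 13698), (9451, 5819), (9452, 13699), (9453, 5820), (9454, 9446), (9455, 13524), (9456, 13701), (9457, 5822), (9458, 5823), (9459, 9186), (9460, 7998), (9461, 10836), (9462, 9427), (9463, 13704), (9464, 5827), (9465, 5829), (9466, 12480), (9467, 8479), (9468, 6867), (9469, 9191), (9470, 6889),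 (9471, 12434)]
    ⟨e3 q9408 (flp_g L183483) q13292, e3 q9409 L155220 q5796, e3 q9410 L155232 q9410, e3 q9411 (flp_g L155324) q9420, e3 q9412 (flp_g L155243) q5791, e3 q9413 (flp_g L155252) q5794, e3 q9414 (flp_g L157271) q9692, e3 q9415 (flp_g L186003) q13604, e3 q9416 (flp_g L155280) q5798, e3 q9417 L186457 q13663, e3 q9418 (flp_g L155302) q5799, e3 q9419 (flp_g L155312) q5800, e3 q9420 L155324 q9411, e3 q9421 (flp_g L155326) q5802, e3 q9422 L155346 q7454, e3 q9423 (flp_g L165814) q10809, e3 q9424 L155353 q9424, e3 q9425 (flp_g L155354) q5806, e3 q9426 (flp_g L186539) q13671, e3 q9427 L155616 q9462, e3 q9428 (flp_g L184957) q13491, e3 q9429 L155382 q5811, e3 q9430 (flp_g L186597) q13677, e3 q9431 (flp_g L186605) q13678, e3 q9432 L186662 q13685, e3 q9433 L186694 q13688, e3 q9434 L186722 q13691, e3 q9435 L186738 q13693, e3 q9436 (flp_g L155408) q5813, e3 q9437 L155416 q5815, e3 q9438 L155420 q5816, e3 q9439 L155435 q9442, e3 q9440 (flp_g L155441) q6510, e3 q9441 (flp_g L161677) q10363, e3 q9442 (flp_g L155435) q9439,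 e3 q9443 (flp_g L186659) q13684, e3 q9444 L186781 q13697, e3 q9445 (flp_g L155453) q5817, e3 q9446 (flp_g L155540) q9454, e3 q9447 (flp_g L186736) q13692, e3 q9448 (flp_g L155468) q5818, e3 q9449 (flp_g L155484) q6053, e3 q9450 L186791 q13698, e3 q9451 (flp_g L155476) q5819, e3 q9452 L186801 q13699, e3 q9453 (flp_g L155532) q5820, e3 q9454 L155540 q9446, e3 q9455 (flp_g L185265) q13524, e3 q9456 L186821 q13701, e3 q9457 (flp_g L155562) q5822, e3 q9458 (flp_g L155572) q5823, e3 q9459 L155586 q9186, e3 q9460 L155594 q7998, e3 q9461 (flp_g L166040) q10836, e3 q9462 (flp_g L155616) q9427, e3 q9463 L186859 q13704, e3 q9464 (flp_g L155624) q5827, e3 q9465 (flp_g L155634) q5829, e3 q9466 (flp_g L177447) q12480, e3 q9467 L155650 q8479, e3 q9468 L155662 q6867, e3 q9469 L155668 q9191, e3 q9470 (flp_g L155678) q6889, e3 q9471 L177110 q12434, trivial⟩ (by decide +kernel)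

theorem ce_g_148 : ∀ r, r < 64 → sm gg (Qf (9472 + r)) = Qf (tab Gen.g (9472 + r)) :=
  edges_tab (sm gg) Qf (tab Gen.g) 9472 [(9472, 10741), (9473, 5836), (9474, 6819), (9475, 5838), (9476, 5840), (9477, 7497), (9478, 9705), (9479, 13709), (9480, 5986), (9481, 13713), (9482, 5841), (9483, 9681), (9484, 5842), (9485, 7999), (9486, 13710), (9487, 13716), (9488, 5844), (9489, 9823), (9490, 13718), (9491, 10981), (9492, 5883), (9493, 5852), (9494, 13722), (9495, 9569), (9496, 13727), (9497, 13728), (9498, 5854), (9499, 6222), (9500, 5857), (9501, 5858), (9502, 9505), (9503, 13739), (9504, 13734), (9505, 9502), (9506, 13735), (9507, 13744), (9508, 5859), (9509, 9145), (9510, 9029), (9511, 5917), (9512, 5920), (9513, 5921), (9514, 9599), (9515, 13757), (9516, 9524), (9517, 13761), (9518, 5864), (9519, 13654), (9520, 13767), (9521, 5865), (9522, 13768), (9523, 5866), (9524, 9516), (9525, 5869), (9526, 6513), (9527, 13496), (9528, 5872), (9529, 13771), (9530, 13773), (9531, 11176), (9532, 5874), (9533, 5878), (9534, 5879),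 (9535, 9538)]
    ⟨e3 q9472 (flp_g L165300) q10741, e3 q9473 (flp_g L155690) q5836, e3 q9474 (flp_g L157391) q6819, e3 q9475 (flp_g L155706) q5838, e3 q9476 L155718 q5840, e3 q9477 L155726 q7497, e3 q9478 (flp_g L157337) q9705, e3 q9479 (flp_g L186923) q13709, e3 q9480 (flp_g L155739) q5986, e3 q9481 L186947 q13713, e3 q9482 (flp_g L155746) q5841, e3 q9483 L157215 q9681, e3 q9484 (flp_g L155756) q5842, e3 q9485 L155770 q7999, e3 q9486 (flp_g L186929) q13710, e3 q9487 L186975 q13716, e3 q9488 (flp_g L155781) q5844, e3 q9489 (flp_g L158107) q9823, e3 q9490 L186995 q13718, e3 q9491 (flp_g L167094) q10981, e3 q9492 L155812 q5883, e3 q9493 (flp_g L155814) q5852, e3 q9494 L187027 q13722, e3 q9495 (flp_g L156404) q9569, e3 q9496 L187067 q13727, e3 q9497 L187071 q13728, e3 q9498 (flp_g L155850) q5854, e3 q9499 L155858 q6222, e3 q9500 L155864 q5857, e3 q9501 L155870 q5858, e3 q9502 L155892 q9505, e3 q9503 L187143 q13739, e3 q9504 (flp_g L187117) q13734, e3 q9505 (flp_g L155892) q9502, e3 q9506 (flp_g L187121) q13735, e3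 q9507 L187183 q13744, e3 q9508 (flp_g L155904) q5859, e3 q9509 L155920 q9145, e3 q9510 L155928 q9029, e3 q9511 L155934 q5917, e3 q9512 L155938 q5920, e3 q9513 L155944 q5921, e3 q9514 L156605 q9599, e3 q9515 L187281 q13757, e3 q9516 (flp_g L156018) q9524, e3 q9517 L187311 q13761, e3 q9518 (flp_g L155972) q5864, e3 q9519 L186396 q13654, e3 q9520 L187353 q13767, e3 q9521 (flp_g L155990) q5865, e3 q9522 L187363 q13768, e3 q9523 (flp_g L156004) q5866, e3 q9524 L156018 q9516, e3 q9525 L156028 q5869, e3 q9526 L156050 q6513, e3 q9527 (flp_g L185015) q13496, e3 q9528 (flp_g L156072) q5872, e3 q9529 (flp_g L187397) q13771, e3 q9530 L187409 q13773, e3 q9531 (flp_g L168308) q11176, e3 q9532 (flp_g L156100) q5874, e3 q9533 L156112 q5878, e3 q9534 L156124 q5879, e3 q9535 (flp_g L156162) q9538, trivial⟩ (by decide +kernel)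

theorem ce_g_149 : ∀ r, r < 64 → sm gg (Qf (9536 + r)) = Qf (tab Gen.g (9536 + r)) :=
  edges_tab (sm gg) Qf (tab Gen.g) 9536 [(9536, 12817), (9537, 13777), (9538, 9535), (9539, 13774), (9540, 9227), (9541, 13522), (9542, 13745), (9543, 13720), (9544, 10875), (9545, 11005), (9546, 6315), (9547, 6314), (9548, 5885), (9549, 9581), (9550, 9575), (9551, 5887), (9552, 10102), (9553, 9557), (9554, 5891), (9555, 5892), (9556, 5897), (9557, 9553), (9558, 12988), (9559, 13791), (9560, 13792), (9561, 5895), (9562, 13311), (9563, 10131), (9564, 10130), (9565, 13641), (9566, 13801), (9567, 5898), (9568, 5899), (9569, 9495), (9570, 13808), (9571, 13810), (9572, 5907), (9573, 5909), (9574, 9585), (9575, 9550), (9576, 13785), (9577, 13819), (9578, 5905), (9579, 12819), (9580, 13823), (9581, 9549), (9582, 5906), (9583, 13825), (9584, 13812), (9585, 9574), (9586, 13813), (9587, 13814), (9588, 13834), (9589, 5910), (9590, 9407), (9591, 5912), (9592, 12785), (9593, 13839), (9594, 5914), (9595, 9197), (9596, 8751), (9597, 13748),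 (9598, 13749), (9599, 9514)]
    ⟨e3 q9536 (flp_g L180163) q12817, e3 q9537 L187445 q13777, e3 q9538 L156162 q9535, e3 q9539 (flp_g L187423) q13774, e3 q9540 L156178 q9227, e3 q9541 (flp_g L185239) q13522, e3 q9542 (flp_g L187199) q13745, e3 q9543 (flp_g L187017) q13720, e3 q9544 L166352 q10875, e3 q9545 (flp_g L167232) q11005, e3 q9546 (flp_g L156224) q6315, e3 q9547 (flp_g L156238) q6314, e3 q9548 (flp_g L156240) q5885, e3 q9549 L156476 q9581, e3 q9550 (flp_g L156438) q9575, e3 q9551 (flp_g L156262) q5887, e3 q9552 L159960 q10102, e3 q9553 (flp_g L156324) q9557, e3 q9554 (flp_g L156294) q5891, e3 q9555 (flp_g L156300) q5892, e3 q9556 L156316 q5897, e3 q9557 L156324 q9553, e3 q9558 (flp_g L181367) q12988, e3 q9559 L187565 q13791, e3 q9560 L187575 q13792, e3 q9561 (flp_g L156352) q5895, e3 q9562 (flp_g L183627) q13311, e3 q9563 (flp_g L160172) q10131, e3 q9564 (flp_g L160162) q10130, e3 q9565 L186291 q13641, e3 q9566 L187631 q13801, e3 q9567 (flp_g L156388) q5898, e3 q9568 (flp_g L156392) q5899, e3 q9569 L156404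 q9495, e3 q9570 L187673 q13808, e3 q9571 L187683 q13810, e3 q9572 L156420 q5907, e3 q9573 L156424 q5909, e3 q9574 L156498 q9585, e3 q9575 L156438 q9550, e3 q9576 (flp_g L187529) q13785, e3 q9577 L187737 q13819, e3 q9578 (flp_g L156448) q5905, e3 q9579 (flp_g L180187) q12819, e3 q9580 L187769 q13823, e3 q9581 (flp_g L156476) q9549, e3 q9582 (flp_g L156478) q5906, e3 q9583 L187793 q13825, e3 q9584 (flp_g L187701) q13812, e3 q9585 (flp_g L156498) q9574, e3 q9586 (flp_g L187705) q13813, e3 q9587 (flp_g L187709) q13814, e3 q9588 L187872 q13834, e3 q9589 (flp_g L156513) q5910, e3 q9590 L156527 q9407, e3 q9591 (flp_g L156529) q5912, e3 q9592 (flp_g L179891) q12785, e3 q9593 L187907 q13839, e3 q9594 (flp_g L156553) q5914, e3 q9595 L156569 q9197, e3 q9596 L156579 q8751, e3 q9597 (flp_g L187223) q13748, e3 q9598 (flp_g L187233) q13749, e3 q9599 (flp_g L156605) q9514, trivial⟩ (by decide +kernel)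

theorem ce_g_150 : ∀ r, r < 64 → sm gg (Qf (9600 + r)) = Qf (tab Gen.g (9600 + r)) :=
  edges_tab (sm gg) Qf (tab Gen.g) 9600 [(9600, 13846), (9601, 13789), (9602, 13848), (9603, 5919), (9604, 13751), (9605, 13852), (9606, 13853), (9607, 5922), (9608, 11656), (9609, 13622), (9610, 9627), (9611, 13864), (9612, 5925), (9613, 5927), (9614, 13400), (9615, 11087), (9616, 13776), (9617, 9146), (9618, 13872), (9619, 13450), (9620, 5928), (9621, 13874), (9622, 13877), (9623, 5929), (9624, 13881), (9625, 13882), (9626, 5931), (9627, 9610), (9628, 13886), (9629, 13890), (9630, 13894), (9631, 9891), (9632, 5934), (9633, 11575), (9634, 13899), (9635, 11586), (9636, 13903), (9637, 13907), (9638, 13908), (9639, 5938), (9640, 9640), (9641, 13912), (9642, 9642), (9643, 13915), (9644, 9652), (9645, 13921), (9646, 5946), (9647, 5943), (9648, 11672), (9649, 13924), (9650, 13917), (9651, 13920), (9652, 9644), (9653, 9653), (9654, 8573), (9655, 6069), (9656, 5954), (9657, 5955), (9658, 9659), (9659, 9658), (9660, 12769), (9661, 8482),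 (9662, 5956), (9663, 9669)]
    ⟨e3 q9600 L187957 q13846, e3 q9601 (flp_g L187555) q13789, e3 q9602 L187965 q13848, e3 q9603 (flp_g L156623) q5919, e3 q9604 (flp_g L187249) q13751, e3 q9605 L187987 q13852, e3 q9606 L187995 q13853, e3 q9607 (flp_g L156645) q5922, e3 q9608 (flp_g L171356) q11656, e3 q9609 (flp_g L186151) q13622, e3 q9610 (flp_g L156774) q9627, e3 q9611 L188059 q13864, e3 q9612 (flp_g L156673) q5925, e3 q9613 L156687 q5927, e3 q9614 (flp_g L184292) q13400, e3 q9615 L167748 q11087, e3 q9616 L187443 q13776, e3 q9617 (flp_g L156711) q9146, e3 q9618 L188113 q13872, e3 q9619 (flp_g L184648) q13450, e3 q9620 (flp_g L156723) q5928, e3 q9621 L188137 q13874, e3 q9622 L188179 q13877, e3 q9623 (flp_g L156743) q5929, e3 q9624 L188207 q13881, e3 q9625 L188211 q13882, e3 q9626 (flp_g L156761) q5931, e3 q9627 L156774 q9610, e3 q9628 L188237 q13886, e3 q9629 L188263 q13890, e3 q9630 L188286 q13894, e3 q9631 (flp_g L158502) q9891, e3 q9632 (flp_g L156882) q5934, e3 q9633 (flp_g L170841) q11575, e3 q9634 L188311 q13899,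 e3 q9635 (flp_g L170909) q11586, e3 q9636 L188331 q13903, e3 q9637 L188353 q13907, e3 q9638 L188362 q13908, e3 q9639 (flp_g L156920) q5938, e3 q9640 L156931 q9640, e3 q9641 L188382 q13912, e3 q9642 L156940 q9642, e3 q9643 L188402 q13915, e3 q9644 L222861 q9652, e3 q9645 L188447 q13921, e3 q9646 L222858 q5946, e3 q9647 (flp_g L156966) q5943, e3 q9648 (flp_g L171441) q11672, e3 q9649 L188483 q13924, e3 q9650 (flp_g L222624) q13917, e3 q9651 L222737 q13920, e3 q9652 (flp_g L222861) q9644, e3 q9653 L157014 q9653, e3 q9654 L157025 q8573, e3 q9655 L157037 q6069, e3 q9656 L157045 q5954, e3 q9657 L157049 q5955, e3 q9658 L157069 q9659, e3 q9659 (flp_g L157069) q9658, e3 q9660 (flp_g L179749) q12769, e3 q9661 (flp_g L162891) q8482, e3 q9662 (flp_g L157097) q5956, e3 q9663 (flp_g L157153) q9669, trivial⟩ (by decide +kernel)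

theorem ce_g_151 : ∀ r, r < 64 → sm gg (Qf (9664 + r)) = Qf (tab Gen.g (9664 + r)) :=
  edges_tab (sm gg) Qf (tab Gen.g) 9664 [(9664, 10648), (9665, 5958), (9666, 5959), (9667, 8542), (9668, 5960), (9669, 9663), (9670, 5963), (9671, 9784), (9672, 5965), (9673, 6420), (9674, 6421), (9675, 6422), (9676, 10319), (9677, 13938), (9678, 5972), (9679, 5974), (9680, 9686), (9681, 9483), (9682, 13945), (9683, 5971), (9684, 11877), (9685, 13939), (9686, 9680), (9687, 12426), (9688, 12471), (9689, 13957), (9690, 5975), (9691, 7572), (9692, 9414), (9693, 6086), (9694, 9828), (9695, 13960), (9696, 10358), (9697, 12416), (9698, 5982), (9699, 9791), (9700, 9712), (9701, 13954), (9702, 5984), (9703, 13711), (9704, 13712), (9705, 9478), (9706, 13969), (9707, 13972), (9708, 5987), (9709, 13975), (9710, 13976), (9711, 5989), (9712, 9700), (9713, 9824), (9714, 9194), (9715, 6001), (9716, 6002), (9717, 9720), (9718, 12494), (9719, 13979), (9720, 9717), (9721, 10383), (9722, 13494), (9723, 6514), (9724, 12087), (9725, 6006), (9726,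 9740), (9727, 13985)]
    ⟨e3 q9664 (flp_g L164625) q10648, e3 q9665 (flp_g L157119) q5958, e3 q9666 (flp_g L157125) q5959, e3 q9667 L162899 q8542, e3 q9668 (flp_g L157139) q5960, e3 q9669 L157153 q9663, e3 q9670 (flp_g L157155) q5963, e3 q9671 (flp_g L157897) q9784, e3 q9672 (flp_g L157173) q5965, e3 q9673 L157183 q6420, e3 q9674 L157187 q6421, e3 q9675 L157191 q6422, e3 q9676 L161368 q10319, e3 q9677 L188623 q13938, e3 q9678 L157203 q5972, e3 q9679 L157207 q5974, e3 q9680 L157239 q9686, e3 q9681 (flp_g L157215) q9483, e3 q9682 L188679 q13945, e3 q9683 (flp_g L157219) q5971, e3 q9684 (flp_g L172883) q11877, e3 q9685 (flp_g L188637) q13939, e3 q9686 (flp_g L157239) q9680, e3 q9687 (flp_g L177041) q12426, e3 q9688 (flp_g L177382) q12471, e3 q9689 L188749 q13957, e3 q9690 (flp_g L157251) q5975, e3 q9691 L157261 q7572, e3 q9692 L157271 q9414, e3 q9693 L157281 q6086, e3 q9694 L158145 q9828, e3 q9695 L188767 q13960, e3 q9696 (flp_g L161643) q10358, e3 q9697 (flp_g L176953) q12416, e3 q9698 (flp_g L157305) q5982, e3 q9699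 L157927 q9791, e3 q9700 (flp_g L157369) q9712, e3 q9701 (flp_g L188733) q13954, e3 q9702 (flp_g L157319) q5984, e3 q9703 (flp_g L186937) q13711, e3 q9704 L186945 q13712, e3 q9705 L157337 q9478, e3 q9706 L188833 q13969, e3 q9707 L188855 q13972, e3 q9708 (flp_g L157345) q5987, e3 q9709 L188877 q13975, e3 q9710 L188887 q13976, e3 q9711 (flp_g L157359) q5989, e3 q9712 L157369 q9700, e3 q9713 (flp_g L158111) q9824, e3 q9714 L157385 q9194, e3 q9715 L157407 q6001, e3 q9716 L157415 q6002, e3 q9717 (flp_g L157447) q9720, e3 q9718 L177558 q12494, e3 q9719 (flp_g L188925) q13979, e3 q9720 L157447 q9717, e3 q9721 (flp_g L161812) q10383, e3 q9722 (flp_g L184991) q13494, e3 q9723 (flp_g L157491) q6514, e3 q9724 (flp_g L174384) q12087, e3 q9725 (flp_g L157499) q6006, e3 q9726 (flp_g L157617) q9740, e3 q9727 L188969 q13985, trivial⟩ (by decide +kernel)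

theorem ce_g_152 : ∀ r, r < 64 → sm gg (Qf (9728 + r)) = Qf (tab Gen.g (9728 + r)) :=
  edges_tab (sm gg) Qf (tab Gen.g) 9728 [(9728, 6007), (9729, 6008), (9730, 10381), (9731, 13689), (9732, 6012), (9733, 8339), (9734, 6849), (9735, 8115), (9736, 12820), (9737, 6021), (9738, 6023), (9739, 9745), (9740, 9726), (9741, 12460), (9742, 9929), (9743, 13998), (9744, 13990), (9745, 9739), (9746, 12806), (9747, 13991), (9748, 10770), (9749, 10772), (9750, 13493), (9751, 6027), (9752, 8619), (9753, 10720), (9754, 10723), (9755, 6030), (9756, 13672), (9757, 6748), (9758, 13445), (9759, 6033), (9760, 6035), (9761, 8586), (9762, 6144), (9763, 14017), (9764, 14019), (9765, 6037), (9766, 14022), (9767, 14023), (9768, 6039), (9769, 9205), (9770, 8918), (9771, 9778), (9772, 6089), (9773, 12517), (9774, 6048), (9775, 13312), (9776, 13301), (9777, 14030), (9778, 9771), (9779, 10376), (9780, 6477), (9781, 14035), (9782, 6054), (9783, 8252), (9784, 9671), (9785, 13293), (9786, 14039), (9787, 14040), (9788, 6058), (9789, 13962), (9790,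 14044), (9791, 9699)]
    ⟨e3 q9728 (flp_g L157521) q6007, e3 q9729 (flp_g L157535) q6008, e3 q9730 (flp_g L161792) q10381, e3 q9731 L186714 q13689, e3 q9732 (flp_g L157559) q6012, e3 q9733 L157571 q8339, e3 q9734 L157577 q6849, e3 q9735 (flp_g L157585) q8115, e3 q9736 (flp_g L180197) q12820, e3 q9737 L157597 q6021, e3 q9738 L157601 q6023, e3 q9739 (flp_g L157655) q9745, e3 q9740 L157617 q9726, e3 q9741 (flp_g L177295) q12460, e3 q9742 (flp_g L158775) q9929, e3 q9743 L189055 q13998, e3 q9744 (flp_g L189025) q13990, e3 q9745 L157655 q9739, e3 q9746 (flp_g L180063) q12806, e3 q9747 (flp_g L189029) q13991, e3 q9748 (flp_g L165544) q10770, e3 q9749 (flp_g L165556) q10772, e3 q9750 (flp_g L184977) q13493, e3 q9751 (flp_g L157683) q6027, e3 q9752 (flp_g L157697) q8619, e3 q9753 (flp_g L165122) q10720, e3 q9754 (flp_g L165142) q10723, e3 q9755 (flp_g L157713) q6030, e3 q9756 (flp_g L186551) q13672, e3 q9757 L157731 q6748, e3 q9758 (flp_g L184604) q13445, e3 q9759 (flp_g L157737) q6033, e3 q9760 L157751 q6035, e3 q9761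 L157765 q8586, e3 q9762 L157775 q6144, e3 q9763 L189177 q14017, e3 q9764 L189183 q14019, e3 q9765 (flp_g L157783) q6037, e3 q9766 L189211 q14022, e3 q9767 L189223 q14023, e3 q9768 (flp_g L157795) q6039, e3 q9769 L157803 q9205, e3 q9770 L157811 q8918, e3 q9771 (flp_g L157855) q9778, e3 q9772 L157819 q6089, e3 q9773 (flp_g L177729) q12517, e3 q9774 (flp_g L157833) q6048, e3 q9775 (flp_g L183635) q13312, e3 q9776 L183539 q13301, e3 q9777 L189291 q14030, e3 q9778 L157855 q9771, e3 q9779 (flp_g L161764) q10376, e3 q9780 (flp_g L157865) q6477, e3 q9781 L189329 q14035, e3 q9782 (flp_g L157875) q6054, e3 q9783 L157887 q8252, e3 q9784 L157897 q9671, e3 q9785 (flp_g L183489) q13293, e3 q9786 L189357 q14039, e3 q9787 L189363 q14040, e3 q9788 (flp_g L157911) q6058, e3 q9789 (flp_g L188793) q13962, e3 q9790 L189395 q14044, e3 q9791 (flp_g L157927) q9699, trivial⟩ (by decide +kernel)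

theorem ce_g_153 : ∀ r, r < 64 → sm gg (Qf (9792 + r)) = Qf (tab Gen.g (9792 + r)) :=
  edges_tab (sm gg) Qf (tab Gen.g) 9792 [(9792, 6059), (9793, 14048), (9794, 6072), (9795, 6075), (9796, 6076), (9797, 9814), (9798, 8014), (9799, 9803), (9800, 7557), (9801, 6064), (9802, 6065), (9803, 9799), (9804, 11825), (9805, 14059), (9806, 10487), (9807, 6068), (9808, 14063), (9809, 14066), (9810, 14067), (9811, 6071), (9812, 14049), (9813, 14050), (9814, 9797), (9815, 7546), (9816, 14074), (9817, 14051), (9818, 14052), (9819, 14077), (9820, 6077), (9821, 9821), (9822, 7527), (9823, 9489), (9824, 9713), (9825, 14083), (9826, 6082), (9827, 8222), (9828, 9694), (9829, 14086), (9830, 12154), (9831, 6088), (9832, 14090), (9833, 6090), (9834, 8219), (9835, 12519), (9836, 9057), (9837, 6094), (9838, 12316), (9839, 12318), (9840, 12319), (9841, 14097), (9842, 6395), (9843, 14100), (9844, 10298), (9845, 6097), (9846, 14102), (9847, 9873), (9848, 14107), (9849, 14108), (9850, 6099), (9851, 12090), (9852, 6102), (9853, 11795), (9854,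 7599), (9855, 7600)]
    ⟨e3 q9792 (flp_g L157929) q6059, e3 q9793 L189411 q14048, e3 q9794 L157939 q6072, e3 q9795 L157943 q6075, e3 q9796 L157947 q6076, e3 q9797 L158049 q9814, e3 q9798 L163824 q8014, e3 q9799 (flp_g L157997) q9803, e3 q9800 (flp_g L157969) q7557, e3 q9801 (flp_g L157971) q6064, e3 q9802 (flp_g L157981) q6065, e3 q9803 L157997 q9799, e3 q9804 (flp_g L172513) q11825, e3 q9805 L189509 q14059, e3 q9806 (flp_g L162492) q10487, e3 q9807 (flp_g L158015) q6068, e3 q9808 L189535 q14063, e3 q9809 L189555 q14066, e3 q9810 L189563 q14067, e3 q9811 (flp_g L158031) q6071, e3 q9812 (flp_g L189431) q14049, e3 q9813 (flp_g L189441) q14050, e3 q9814 (flp_g L158049) q9797, e3 q9815 (flp_g L158059) q7546, e3 q9816 L189621 q14074, e3 q9817 (flp_g L189449) q14051, e3 q9818 (flp_g L189461) q14052, e3 q9819 L189639 q14077, e3 q9820 (flp_g L158086) q6077, e3 q9821 L158096 q9821, e3 q9822 L158101 q7527, e3 q9823 L158107 q9489, e3 q9824 L158111 q9713, e3 q9825 L189679 q14083, e3 q9826 (flp_g L158121) q6082, e3 q9827 L158137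 q8222, e3 q9828 (flp_g L158145) q9694, e3 q9829 L189711 q14086, e3 q9830 (flp_g L174960) q12154, e3 q9831 (flp_g L158153) q6088, e3 q9832 L189745 q14090, e3 q9833 (flp_g L158159) q6090, e3 q9834 L158169 q8219, e3 q9835 L177745 q12519, e3 q9836 L158185 q9057, e3 q9837 (flp_g L158189) q6094, e3 q9838 (flp_g L176057) q12316, e3 q9839 (flp_g L176071) q12318, e3 q9840 (flp_g L176083) q12319, e3 q9841 L189801 q14097, e3 q9842 (flp_g L158217) q6395, e3 q9843 L189825 q14100, e3 q9844 L161200 q10298, e3 q9845 (flp_g L158225) q6097, e3 q9846 L189847 q14102, e3 q9847 (flp_g L158392) q9873, e3 q9848 L189895 q14107, e3 q9849 L189907 q14108, e3 q9850 (flp_g L158247) q6099, e3 q9851 (flp_g L174406) q12090, e3 q9852 L158257 q6102, e3 q9853 (flp_g L172324) q11795, e3 q9854 (flp_g L158275) q7599, e3 q9855 L158287 q7600, trivial⟩ (by decide +kernel)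

theorem ce_g_154 : ∀ r, r < 64 → sm gg (Qf (9856 + r)) = Qf (tab Gen.g (9856 + r)) :=
  edges_tab (sm gg) Qf (tab Gen.g) 9856 [(9856, 6104), (9857, 14110), (9858, 13461), (9859, 10533), (9860, 6106), (9861, 14116), (9862, 14117), (9863, 14046), (9864, 6109), (9865, 10497), (9866, 14121), (9867, 6110), (9868, 7703), (9869, 6591), (9870, 10496), (9871, 10228), (9872, 6114), (9873, 9847), (9874, 14131), (9875, 13714), (9876, 14132), (9877, 6117), (9878, 11867), (9879, 6131), (9880, 9884), (9881, 6120), (9882, 13902), (9883, 6121), (9884, 9880), (9885, 14140), (9886, 14142), (9887, 12220), (9888, 6125), (9889, 14144), (9890, 6129), (9891, 9631), (9892, 14149), (9893, 14151), (9894, 14152), (9895, 6134), (9896, 12759), (9897, 14154), (9898, 6136), (9899, 6667), (9900, 14156), (9901, 6138), (9902, 14158), (9903, 6139), (9904, 6140), (9905, 14163), (9906, 14013), (9907, 8066), (9908, 14169), (9909, 14171), (9910, 14172), (9911, 6145), (9912, 6146), (9913, 6438), (9914, 8312), (9915, 9921), (9916, 6618), (9917, 8408),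 (9918, 10341), (9919, 12597)]
    ⟨e3 q9856 (flp_g L158289) q6104, e3 q9857 L189921 q14110, e3 q9858 (flp_g L184746) q13461, e3 q9859 (flp_g L162784) q10533, e3 q9860 (flp_g L158315) q6106, e3 q9861 L189969 q14116, e3 q9862 L189989 q14117, e3 q9863 (flp_g L189407) q14046, e3 q9864 (flp_g L158331) q6109, e3 q9865 (flp_g L163795) q10497, e3 q9866 L190011 q14121, e3 q9867 (flp_g L158343) q6110, e3 q9868 (flp_g L158359) q7703, e3 q9869 L163735 q6591, e3 q9870 (flp_g L163797) q10496, e3 q9871 (flp_g L163799) q10228, e3 q9872 (flp_g L158381) q6114, e3 q9873 L158392 q9847, e3 q9874 L190083 q14131, e3 q9875 (flp_g L186967) q13714, e3 q9876 L190087 q14132, e3 q9877 (flp_g L158409) q6117, e3 q9878 (flp_g L172813) q11867, e3 q9879 (flp_g L158423) q6131, e3 q9880 (flp_g L158465) q9884, e3 q9881 (flp_g L158431) q6120, e3 q9882 (flp_g L188329) q13902, e3 q9883 (flp_g L158447) q6121, e3 q9884 L158465 q9880, e3 q9885 L190137 q14140, e3 q9886 L190160 q14142, e3 q9887 L175495 q12220, e3 q9888 (flp_g L158482) q6125, e3 q9889 L190176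 q14144, e3 q9890 (flp_g L158488) q6129, e3 q9891 L158502 q9631, e3 q9892 L190214 q14149, e3 q9893 L190228 q14151, e3 q9894 L190239 q14152, e3 q9895 (flp_g L158518) q6134, e3 q9896 (flp_g L179663) q12759, e3 q9897 L190259 q14154, e3 q9898 (flp_g L158543) q6136, e3 q9899 L158555 q6667, e3 q9900 L190273 q14156, e3 q9901 (flp_g L158565) q6138, e3 q9902 L190287 q14158, e3 q9903 (flp_g L158581) q6139, e3 q9904 (flp_g L158589) q6140, e3 q9905 L190319 q14163, e3 q9906 (flp_g L189167) q14013, e3 q9907 (flp_g L158613) q8066, e3 q9908 L190371 q14169, e3 q9909 L190388 q14171, e3 q9910 L190394 q14172, e3 q9911 (flp_g L158636) q6145, e3 q9912 (flp_g L158640) q6146, e3 q9913 L158654 q6438, e3 q9914 L158666 q8312, e3 q9915 (flp_g L158724) q9921, e3 q9916 L158682 q6618, e3 q9917 L158690 q8408, e3 q9918 L161527 q10341, e3 q9919 L178419 q12597, trivial⟩ (by decide +kernel)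

theorem ce_g_155 : ∀ r, r < 64 → sm gg (Qf (9920 + r)) = Qf (tab Gen.g (9920 + r)) :=
  edges_tab (sm gg) Qf (tab Gen.g) 9920 [(9920, 6152), (9921, 9915), (9922, 14184), (9923, 14187), (9924, 6157), (9925, 6590), (9926, 14192), (9927, 12393), (9928, 6158), (9929, 9742), (9930, 14196), (9931, 6162), (9932, 6897), (9933, 10133), (9934, 14200), (9935, 6164), (9936, 14201), (9937, 6181), (9938, 9965), (9939, 11203), (9940, 6169), (9941, 12171), (9942, 7325), (9943, 11481), (9944, 9944), (9945, 9950), (9946, 6172), (9947, 9975), (9948, 6173), (9949, 6176), (9950, 9945), (9951, 14214), (9952, 14216), (9953, 6175), (9954, 9978), (9955, 14211), (9956, 6196), (9957, 12942), (9958, 14222), (9959, 6177), (9960, 14224), (9961, 6178), (9962, 6185), (9963, 9397), (9964, 9972), (9965, 9938), (9966, 14203), (9967, 14232), (9968, 6182), (9969, 6183), (9970, 14226), (9971, 6974), (9972, 9964), (9973, 6191), (9974, 6193), (9975, 9947), (9976, 14237), (9977, 9977), (9978, 9954), (9979, 14218), (9980, 14220), (9981, 14247), (9982,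 14248), (9983, 6197)]
    ⟨e3 q9920 (flp_g L158704) q6152, e3 q9921 L158724 q9915, e3 q9922 L190511 q14184, e3 q9923 L190535 q14187, e3 q9924 (flp_g L158732) q6157, e3 q9925 (flp_g L158748) q6590, e3 q9926 L190581 q14192, e3 q9927 (flp_g L176743) q12393, e3 q9928 (flp_g L158760) q6158, e3 q9929 L158775 q9742, e3 q9930 L190617 q14196, e3 q9931 (flp_g L158783) q6162, e3 q9932 L158795 q6897, e3 q9933 L160192 q10133, e3 q9934 L190645 q14200, e3 q9935 (flp_g L158811) q6164, e3 q9936 (flp_g L190659) q14201, e3 q9937 L158827 q6181, e3 q9938 L159031 q9965, e3 q9939 L168468 q11203, e3 q9940 L158847 q6169, e3 q9941 (flp_g L175075) q12171, e3 q9942 L158861 q7325, e3 q9943 (flp_g L170238) q11481, e3 q9944 L158878 q9944, e3 q9945 (flp_g L158923) q9950, e3 q9946 (flp_g L158887) q6172, e3 q9947 (flp_g L159119) q9975, e3 q9948 (flp_g L158902) q6173, e3 q9949 L158914 q6176, e3 q9950 L158923 q9945, e3 q9951 L190737 q14214, e3 q9952 L190750 q14216, e3 q9953 (flp_g L158937) q6175, e3 q9954 L159150 q9978, e3 q9955 (flp_g L190721) q14211,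 e3 q9956 (flp_g L158963) q6196, e3 q9957 (flp_g L181051) q12942, e3 q9958 L190789 q14222, e3 q9959 (flp_g L158979) q6177, e3 q9960 L190803 q14224, e3 q9961 (flp_g L158991) q6178, e3 q9962 L159005 q6185, e3 q9963 L159015 q9397, e3 q9964 (flp_g L159087) q9972, e3 q9965 (flp_g L159031) q9938, e3 q9966 (flp_g L190671) q14203, e3 q9967 L190847 q14232, e3 q9968 (flp_g L159041) q6182, e3 q9969 (flp_g L159053) q6183, e3 q9970 (flp_g L190819) q14226, e3 q9971 L159079 q6974, e3 q9972 L159087 q9964, e3 q9973 L159215 q6191, e3 q9974 L159108 q6193, e3 q9975 L159119 q9947, e3 q9976 (flp_g L190885) q14237, e3 q9977 L159132 q9977, e3 q9978 (flp_g L159150) q9954, e3 q9979 (flp_g L190771) q14218, e3 q9980 L190783 q14220, e3 q9981 L190949 q14247, e3 q9982 L190955 q14248, e3 q9983 (flp_g L159177) q6197, trivial⟩ (by decide +kernel)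

theorem ce_g_156 : ∀ r, r < 64 → sm gg (Qf (9984 + r)) = Qf (tab Gen.g (9984 + r)) :=
  edges_tab (sm gg) Qf (tab Gen.g) 9984 [(9984, 10986), (9985, 10096), (9986, 14251), (9987, 7005), (9988, 6199), (9989, 6202), (9990, 6203), (9991, 9994), (9992, 11173), (9993, 14253), (9994, 9991), (9995, 14254), (9996, 14264), (9997, 6204), (9998, 14267), (9999, 14268), (10000, 6205), (10001, 7130), (10002, 6266), (10003, 6269), (10004, 6270), (10005, 10105), (10006, 10014), (10007, 14275), (10008, 6209), (10009, 7097), (10010, 14279), (10011, 6210), (10012, 14282), (10013, 6211), (10014, 10006), (10015, 11419), (10016, 14287), (10017, 14291), (10018, 14292), (10019, 6214), (10020, 6215), (10021, 6917), (10022, 14296), (10023, 14300), (10024, 14301), (10025, 6217), (10026, 10139), (10027, 10141), (10028, 14307), (10029, 14308), (10030, 14310), (10031, 6219), (10032, 6220), (10033, 13729), (10034, 13730), (10035, 13731), (10036, 14320), (10037, 10896), (10038, 6227), (10039, 6229), (10040, 10044), (10041, 11416), (10042, 14331),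 (10043, 14323), (10044, 10040), (10045, 14324), (10046, 12399), (10047, 14338)]
    ⟨e3 q9984 (flp_g L167134) q10986, e3 q9985 (flp_g L159917) q10096, e3 q9986 L190991 q14251, e3 q9987 (flp_g L159227) q7005, e3 q9988 (flp_g L159229) q6199, e3 q9989 L159243 q6202, e3 q9990 L159249 q6203, e3 q9991 L159279 q9994, e3 q9992 L168284 q11173, e3 q9993 (flp_g L191019) q14253, e3 q9994 (flp_g L159279) q9991, e3 q9995 (flp_g L191025) q14254, e3 q9996 L191073 q14264, e3 q9997 (flp_g L159291) q6204, e3 q9998 L191093 q14267, e3 q9999 L191099 q14268, e3 q10000 (flp_g L159311) q6205, e3 q10001 L159323 q7130, e3 q10002 L159335 q6266, e3 q10003 L159341 q6269, e3 q10004 L159347 q6270, e3 q10005 L159992 q10105, e3 q10006 (flp_g L159421) q10014, e3 q10007 L191171 q14275, e3 q10008 (flp_g L159373) q6209, e3 q10009 (flp_g L159385) q7097, e3 q10010 L191191 q14279, e3 q10011 (flp_g L159393) q6210, e3 q10012 L191207 q14282, e3 q10013 (flp_g L159407) q6211, e3 q10014 L159421 q10006, e3 q10015 (flp_g L169839) q11419, e3 q10016 L191243 q14287,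 e3 q10017 L191265 q14291, e3 q10018 L191269 q14292, e3 q10019 (flp_g L159445) q6214, e3 q10020 (flp_g L159451) q6215, e3 q10021 L159465 q6917, e3 q10022 L191301 q14296, e3 q10023 L191329 q14300, e3 q10024 L191333 q14301, e3 q10025 (flp_g L159489) q6217, e3 q10026 (flp_g L160226) q10139, e3 q10027 (flp_g L160244) q10141, e3 q10028 L191375 q14307, e3 q10029 L191377 q14308, e3 q10030 L191391 q14310, e3 q10031 (flp_g L159525) q6219, e3 q10032 (flp_g L159529) q6220, e3 q10033 (flp_g L187081) q13729, e3 q10034 (flp_g L187087) q13730, e3 q10035 (flp_g L187093) q13731, e3 q10036 L191455 q14320, e3 q10037 (flp_g L166482) q10896, e3 q10038 L159567 q6227, e3 q10039 L159571 q6229, e3 q10040 L159601 q10044, e3 q10041 (flp_g L169817) q11416, e3 q10042 L191533 q14331, e3 q10043 (flp_g L191483) q14323, e3 q10044 (flp_g L159601) q10040, e3 q10045 (flp_g L191491) q14324, e3 q10046 (flp_g L176807) q12399, e3 q10047 L191597 q14338, trivial⟩ (by decide +kernel)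

theorem ce_g_157 : ∀ r, r < 64 → sm gg (Qf (10048 + r)) = Qf (tab Gen.g (10048 + r)) :=
  edges_tab (sm gg) Qf (tab Gen.g) 10048 [(10048, 6230), (10049, 10282), (10050, 10056), (10051, 14346), (10052, 14348), (10053, 6233), (10054, 6234), (10055, 7177), (10056, 10050), (10057, 14355), (10058, 14342), (10059, 6236), (10060, 6310), (10061, 6311), (10062, 13750), (10063, 6317), (10064, 6318), (10065, 10160), (10066, 10161), (10067, 14370), (10068, 14373), (10069, 14374), (10070, 6241), (10071, 6922), (10072, 10082), (10073, 14380), (10074, 6243), (10075, 7202), (10076, 14386), (10077, 14388), (10078, 6246), (10079, 14391), (10080, 14392), (10081, 6248), (10082, 10072), (10083, 6251), (10084, 6256), (10085, 8227), (10086, 6254), (10087, 11127), (10088, 11016), (10089, 14395), (10090, 7025), (10091, 14404), (10092, 14406), (10093, 6257), (10094, 6258), (10095, 10095), (10096, 9985), (10097, 7105), (10098, 11113), (10099, 11001), (10100, 14415), (10101, 6262), (10102, 9552), (10103, 6263), (10104, 8246), (10105, 10005),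 (10106, 11202), (10107, 13782), (10108, 14422), (10109, 6268), (10110, 14426), (10111, 14270)]
    ⟨e3 q10048 (flp_g L159613) q6230, e3 q10049 (flp_g L161100) q10282, e3 q10050 L159673 q10056, e3 q10051 L191648 q14346, e3 q10052 L191658 q14348, e3 q10053 (flp_g L159645) q6233, e3 q10054 (flp_g L159651) q6234, e3 q10055 L159665 q7177, e3 q10056 (flp_g L159673) q10050, e3 q10057 L191706 q14355, e3 q10058 L191632 q14342, e3 q10059 (flp_g L159683) q6236, e3 q10060 L159697 q6310, e3 q10061 L159705 q6311, e3 q10062 (flp_g L187243) q13750, e3 q10063 L159715 q6317, e3 q10064 L159723 q6318, e3 q10065 L160372 q10160, e3 q10066 L160382 q10161, e3 q10067 L191792 q14370, e3 q10068 L191814 q14373, e3 q10069 L191824 q14374, e3 q10070 (flp_g L159749) q6241, e3 q10071 L159757 q6922, e3 q10072 (flp_g L159821) q10082, e3 q10073 L191876 q14380, e3 q10074 (flp_g L159773) q6243, e3 q10075 L159783 q7202, e3 q10076 L191918 q14386, e3 q10077 L191934 q14388, e3 q10078 (flp_g L159793) q6246, e3 q10079 L191960 q14391, e3 q10080 L191968 q14392,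 e3 q10081 (flp_g L159809) q6248, e3 q10082 L159821 q10072, e3 q10083 (flp_g L159823) q6251, e3 q10084 L159841 q6256, e3 q10085 L159855 q8227, e3 q10086 (flp_g L159857) q6254, e3 q10087 (flp_g L167996) q11127, e3 q10088 (flp_g L167302) q11016, e3 q10089 (flp_g L191997) q14395, e3 q10090 L159885 q7025, e3 q10091 L192056 q14404, e3 q10092 L192065 q14406, e3 q10093 (flp_g L159896) q6257, e3 q10094 (flp_g L159900) q6258, e3 q10095 L159910 q10095, e3 q10096 L159917 q9985, e3 q10097 L168045 q7105, e3 q10098 L167912 q11113, e3 q10099 (flp_g L167204) q11001, e3 q10100 L192121 q14415, e3 q10101 (flp_g L159944) q6262, e3 q10102 (flp_g L159960) q9552, e3 q10103 (flp_g L159962) q6263, e3 q10104 L159982 q8246, e3 q10105 (flp_g L159992) q10005, e3 q10106 L168452 q11202, e3 q10107 (flp_g L187495) q13782, e3 q10108 L192171 q14422, e3 q10109 (flp_g L160008) q6268, e3 q10110 L192196 q14426, e3 q10111 (flp_g L191129) q14270, trivial⟩ (by decide +kernel)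

theorem ce_g_158 : ∀ r, r < 64 → sm gg (Qf (10112 + r)) = Qf (tab Gen.g (10112 + r)) :=
  edges_tab (sm gg) Qf (tab Gen.g) 10112 [(10112, 14363), (10113, 11008), (10114, 14432), (10115, 6271), (10116, 6272), (10117, 14434), (10118, 11170), (10119, 11171), (10120, 14438), (10121, 13219), (10122, 11249), (10123, 6280), (10124, 6286), (10125, 14444), (10126, 14446), (10127, 6283), (10128, 6284), (10129, 14439), (10130, 9564), (10131, 9563), (10132, 13799), (10133, 9933), (10134, 14456), (10135, 6290), (10136, 14459), (10137, 6291), (10138, 13802), (10139, 10026), (10140, 6342), (10141, 10027), (10142, 6343), (10143, 6344), (10144, 10215), (10145, 14475), (10146, 13456), (10147, 14480), (10148, 14483), (10149, 14484), (10150, 6298), (10151, 11063), (10152, 6300), (10153, 7366), (10154, 8871), (10155, 11410), (10156, 6307), (10157, 14489), (10158, 14493), (10159, 14358), (10160, 10065), (10161, 10066), (10162, 14500), (10163, 14502), (10164, 13632), (10165, 6313), (10166, 6893), (10167, 11177), (10168, 14271), (10169,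 14364), (10170, 14510), (10171, 14513), (10172, 6319), (10173, 10480), (10174, 6320), (10175, 10253)]
    ⟨e3 q10112 (flp_g L191766) q14363, e3 q10113 L167260 q11008, e3 q10114 L192233 q14432, e3 q10115 (flp_g L160042) q6271, e3 q10116 (flp_g L160050) q6272, e3 q10117 (flp_g L192251) q14434, e3 q10118 (flp_g L168262) q11170, e3 q10119 (flp_g L168266) q11171, e3 q10120 L192273 q14438, e3 q10121 (flp_g L182899) q13219, e3 q10122 (flp_g L168772) q11249, e3 q10123 (flp_g L160104) q6280, e3 q10124 L160118 q6286, e3 q10125 L192319 q14444, e3 q10126 L192331 q14446, e3 q10127 (flp_g L160134) q6283, e3 q10128 (flp_g L160144) q6284, e3 q10129 (flp_g L192289) q14439, e3 q10130 L160162 q9564, e3 q10131 L160172 q9563, e3 q10132 L187625 q13799, e3 q10133 (flp_g L160192) q9933, e3 q10134 L192401 q14456, e3 q10135 (flp_g L160202) q6290, e3 q10136 L192421 q14459, e3 q10137 (flp_g L160212) q6291, e3 q10138 (flp_g L187639) q13802, e3 q10139 L160226 q10026, e3 q10140 L160234 q6342, e3 q10141 L160244 q10027, e3 q10142 L160250 q6343,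 e3 q10143 L160254 q6344, e3 q10144 L160706 q10215, e3 q10145 L192497 q14475, e3 q10146 (flp_g L184702) q13456, e3 q10147 L192529 q14480, e3 q10148 L192551 q14483, e3 q10149 L192559 q14484, e3 q10150 (flp_g L160284) q6298, e3 q10151 (flp_g L167584) q11063, e3 q10152 (flp_g L160298) q6300, e3 q10153 L160310 q7366, e3 q10154 (flp_g L160322) q8871, e3 q10155 (flp_g L169783) q11410, e3 q10156 (flp_g L160332) q6307, e3 q10157 L192603 q14489, e3 q10158 L192629 q14493, e3 q10159 (flp_g L191738) q14358, e3 q10160 (flp_g L160372) q10065, e3 q10161 (flp_g L160382) q10066, e3 q10162 L192669 q14500, e3 q10163 L192681 q14502, e3 q10164 (flp_g L186224) q13632, e3 q10165 (flp_g L160408) q6313, e3 q10166 L160418 q6893, e3 q10167 (flp_g L168316) q11177, e3 q10168 (flp_g L191143) q14271, e3 q10169 (flp_g L191770) q14364, e3 q10170 L192739 q14510, e3 q10171 L192755 q14513, e3 q10172 (flp_g L160450) q6319, e3 q10173 (flp_g L162448) q10480, e3 q10174 (flp_g L160466) q6320, e3 q10175 (flp_g L160916) q10253, trivial⟩ (by decide +kernel)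

theorem ce_g_159 : ∀ r, r < 64 → sm gg (Qf (10176 + r)) = Qf (tab Gen.g (10176 + r)) :=
  edges_tab (sm gg) Qf (tab Gen.g) 10176 [(10176, 14520), (10177, 6321), (10178, 14521), (10179, 14526), (10180, 6325), (10181, 14527), (10182, 14528), (10183, 14534), (10184, 11401), (10185, 10762), (10186, 6328), (10187, 14537), (10188, 6329), (10189, 14543), (10190, 14545), (10191, 10202), (10192, 6330), (10193, 14547), (10194, 14538), (10195, 14550), (10196, 14552), (10197, 14553), (10198, 6333), (10199, 14556), (10200, 6334), (10201, 6335), (10202, 10191), (10203, 10273), (10204, 6340), (10205, 10208), (10206, 14563), (10207, 14565), (10208, 10205), (10209, 6341), (10210, 14465), (10211, 14466), (10212, 14571), (10213, 14574), (10214, 14469), (10215, 10144), (10216, 14470), (10217, 14582), (10218, 6345), (10219, 14584), (10220, 6346), (10221, 7265), (10222, 13160), (10223, 9137), (10224, 14594), (10225, 14596), (10226, 10237), (10227, 6350), (10228, 9871), (10229, 13344), (10230, 14600), (10231, 14602), (10232, 14605),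 (10233, 6353), (10234, 14607), (10235, 6354), (10236, 6355), (10237, 10226), (10238, 10244), (10239, 6357)]
    ⟨e3 q10176 L192795 q14520, e3 q10177 (flp_g L160486) q6321, e3 q10178 (flp_g L192803) q14521, e3 q10179 L192829 q14526, e3 q10180 L160502 q6325, e3 q10181 (flp_g L192839) q14527, e3 q10182 (flp_g L192847) q14528, e3 q10183 L192889 q14534, e3 q10184 (flp_g L169701) q11401, e3 q10185 (flp_g L165462) q10762, e3 q10186 (flp_g L160534) q6328, e3 q10187 L192917 q14537, e3 q10188 (flp_g L160552) q6329, e3 q10189 L192959 q14543, e3 q10190 L192973 q14545, e3 q10191 (flp_g L160632) q10202, e3 q10192 (flp_g L160578) q6330, e3 q10193 L192987 q14547, e3 q10194 (flp_g L192933) q14538, e3 q10195 L193009 q14550, e3 q10196 L193027 q14552, e3 q10197 L193033 q14553, e3 q10198 (flp_g L160604) q6333, e3 q10199 L193049 q14556, e3 q10200 (flp_g L160614) q6334, e3 q10201 (flp_g L160620) q6335, e3 q10202 L160632 q10191, e3 q10203 (flp_g L161042) q10273, e3 q10204 L160642 q6340, e3 q10205 L160664 q10208, e3 q10206 L193089 q14563,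 e3 q10207 L193099 q14565, e3 q10208 (flp_g L160664) q10205, e3 q10209 (flp_g L160666) q6341, e3 q10210 (flp_g L192453) q14465, e3 q10211 (flp_g L192459) q14466, e3 q10212 L193129 q14571, e3 q10213 L193149 q14574, e3 q10214 (flp_g L192475) q14469, e3 q10215 (flp_g L160706) q10144, e3 q10216 (flp_g L192479) q14470, e3 q10217 L193185 q14582, e3 q10218 (flp_g L160714) q6345, e3 q10219 L193199 q14584, e3 q10220 (flp_g L160730) q6346, e3 q10221 L160738 q7265, e3 q10222 L182513 q13160, e3 q10223 (flp_g L160756) q9137, e3 q10224 L193273 q14594, e3 q10225 L193287 q14596, e3 q10226 (flp_g L160828) q10237, e3 q10227 (flp_g L160774) q6350, e3 q10228 L163799 q9871, e3 q10229 (flp_g L183879) q13344, e3 q10230 (flp_g L193339) q14600, e3 q10231 (flp_g L193333) q14602, e3 q10232 L193349 q14605, e3 q10233 (flp_g L160800) q6353, e3 q10234 L193365 q14607, e3 q10235 (flp_g L160810) q6354, e3 q10236 (flp_g L160816) q6355, e3 q10237 L160828 q10226, e3 q10238 (flp_g L160868) q10244, e3 q10239 (flp_g L160836) q6357, trivial⟩ (by decide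 +kernel)

theorem ce_g_160 : ∀ r, r < 64 → sm gg (Qf (10240 + r)) = Qf (tab Gen.g (10240 + r)) :=
  edges_tab (sm gg) Qf (tab Gen.g) 10240 [(10240, 14189), (10241, 14124), (10242, 14616), (10243, 6360), (10244, 10238), (10245, 13174), (10246, 14621), (10247, 6362), (10248, 14625), (10249, 14627), (10250, 6363), (10251, 14629), (10252, 6364), (10253, 10175), (10254, 13775), (10255, 6366), (10256, 14636), (10257, 14637), (10258, 6369), (10259, 14641), (10260, 14642), (10261, 10272), (10262, 6370), (10263, 14294), (10264, 12778), (10265, 14649), (10266, 14652), (10267, 14654), (10268, 6373), (10269, 14657), (10270, 6374), (10271, 6375), (10272, 10261), (10273, 10203), (10274, 14665), (10275, 12693), (10276, 8531), (10277, 14670), (10278, 12275), (10279, 10290), (10280, 6380), (10281, 14675), (10282, 10049), (10283, 14678), (10284, 14681), (10285, 14683), (10286, 6383), (10287, 14686), (10288, 6384), (10289, 6385), (10290, 10279), (10291, 7332), (10292, 14694), (10293, 14696), (10294, 6389), (10295, 7450), (10296, 10382),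 (10297, 11966), (10298, 9844), (10299, 14700), (10300, 6398), (10301, 14701), (10302, 6406), (10303, 14703)]
    ⟨e3 q10240 (flp_g L190565) q14189, e3 q10241 (flp_g L190045) q14124, e3 q10242 L193415 q14616, e3 q10243 (flp_g L160854) q6360, e3 q10244 L160868 q10238, e3 q10245 L182621 q13174, e3 q10246 L193439 q14621, e3 q10247 (flp_g L160880) q6362, e3 q10248 L193463 q14625, e3 q10249 L193471 q14627, e3 q10250 (flp_g L160896) q6363, e3 q10251 L193481 q14629, e3 q10252 (flp_g L160906) q6364, e3 q10253 L160916 q10175, e3 q10254 (flp_g L187431) q13775, e3 q10255 (flp_g L160922) q6366, e3 q10256 L193529 q14636, e3 q10257 L193535 q14637, e3 q10258 (flp_g L160944) q6369, e3 q10259 L193575 q14641, e3 q10260 L193581 q14642, e3 q10261 (flp_g L161036) q10272, e3 q10262 (flp_g L160970) q6370, e3 q10263 (flp_g L191293) q14294, e3 q10264 (flp_g L179821) q12778, e3 q10265 L193631 q14649, e3 q10266 L193649 q14652, e3 q10267 L193663 q14654, e3 q10268 (flp_g L161004) q6373, e3 q10269 L193683 q14657, e3 q10270 (flp_g L161016) q6374,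 e3 q10271 (flp_g L161024) q6375, e3 q10272 L161036 q10261, e3 q10273 L161042 q10203, e3 q10274 L193741 q14665, e3 q10275 (flp_g L179185) q12693, e3 q10276 (flp_g L161066) q8531, e3 q10277 L193787 q14670, e3 q10278 (flp_g L175799) q12275, e3 q10279 (flp_g L161150) q10290, e3 q10280 (flp_g L161084) q6380, e3 q10281 L193823 q14675, e3 q10282 L161100 q10049, e3 q10283 L193847 q14678, e3 q10284 L193865 q14681, e3 q10285 L193877 q14683, e3 q10286 (flp_g L161118) q6383, e3 q10287 L193899 q14686, e3 q10288 (flp_g L161130) q6384, e3 q10289 (flp_g L161138) q6385, e3 q10290 L161150 q10279, e3 q10291 L161156 q7332, e3 q10292 L193957 q14694, e3 q10293 L193971 q14696, e3 q10294 (flp_g L161172) q6389, e3 q10295 L161182 q7450, e3 q10296 (flp_g L161804) q10382, e3 q10297 (flp_g L173538) q11966, e3 q10298 (flp_g L161200) q9844, e3 q10299 L194011 q14700, e3 q10300 (flp_g L161208) q6398, e3 q10301 L194023 q14701, e3 q10302 (flp_g L161256) q6406, e3 q10303 L194039 q14703, trivial⟩ (by decide +kernel)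

theorem ce_g_161 : ∀ r, r < 64 → sm gg (Qf (10304 + r)) = Qf (tab Gen.g (10304 + r)) :=
  edges_tab (sm gg) Qf (tab Gen.g) 10304 [(10304, 6407), (10305, 6408), (10306, 14702), (10307, 7479), (10308, 14706), (10309, 6412), (10310, 14707), (10311, 14708), (10312, 6413), (10313, 6414), (10314, 6417), (10315, 13935), (10316, 12793), (10317, 7852), (10318, 13937), (10319, 9676), (10320, 14711), (10321, 6423), (10322, 8032), (10323, 12321), (10324, 6430), (10325, 10332), (10326, 13700), (10327, 7666), (10328, 12047), (10329, 14715), (10330, 11873), (10331, 6429), (10332, 10325), (10333, 14717), (10334, 12395), (10335, 12758), (10336, 6434), (10337, 11960), (10338, 10345), (10339, 6445), (10340, 14174), (10341, 9918), (10342, 12388), (10343, 6439), (10344, 7627), (10345, 10338), (10346, 10350), (10347, 6981), (10348, 6980), (10349, 14720), (10350, 10346), (10351, 7833), (10352, 12453), (10353, 12451), (10354, 12789), (10355, 8139), (10356, 6452), (10357, 6453), (10358, 9696), (10359, 7484), (10360, 14731), (10361, 10371),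 (10362, 6457), (10363, 9441), (10364, 12048), (10365, 7828), (10366, 6460), (10367, 6461)]
    ⟨e3 q10304 (flp_g L161268) q6407, e3 q10305 (flp_g L161278) q6408, e3 q10306 (flp_g L194035) q14702, e3 q10307 L161294 q7479, e3 q10308 L194063 q14706, e3 q10309 (flp_g L161302) q6412, e3 q10310 L194073 q14707, e3 q10311 L194083 q14708, e3 q10312 (flp_g L161324) q6413, e3 q10313 (flp_g L161328) q6414, e3 q10314 (flp_g L161336) q6417, e3 q10315 (flp_g L188601) q13935, e3 q10316 (flp_g L179953) q12793, e3 q10317 L161370 q7852, e3 q10318 (flp_g L188619) q13937, e3 q10319 (flp_g L161368) q9676, e3 q10320 L194107 q14711, e3 q10321 (flp_g L161388) q6423, e3 q10322 L161400 q8032, e3 q10323 L176097 q12321, e3 q10324 L161408 q6430, e3 q10325 L161460 q10332, e3 q10326 (flp_g L186819) q13700, e3 q10327 L163196 q7666, e3 q10328 (flp_g L174064) q12047, e3 q10329 L194143 q14715, e3 q10330 (flp_g L172857) q11873, e3 q10331 (flp_g L161448) q6429, e3 q10332 (flp_g L161460) q10325, e3 q10333 L194167 q14717, e3 q10334 (flp_g L176765) q12395,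 e3 q10335 (flp_g L179653) q12758, e3 q10336 (flp_g L161480) q6434, e3 q10337 (flp_g L173495) q11960, e3 q10338 (flp_g L161551) q10345, e3 q10339 (flp_g L161511) q6445, e3 q10340 (flp_g L190423) q14174, e3 q10341 (flp_g L161527) q9918, e3 q10342 (flp_g L176707) q12388, e3 q10343 (flp_g L161531) q6439, e3 q10344 L161545 q7627, e3 q10345 L161551 q10338, e3 q10346 (flp_g L161585) q10350, e3 q10347 L161561 q6981, e3 q10348 L161573 q6980, e3 q10349 L194193 q14720, e3 q10350 L161585 q10346, e3 q10351 L161593 q7833, e3 q10352 (flp_g L177226) q12453, e3 q10353 (flp_g L177212) q12451, e3 q10354 (flp_g L179929) q12789, e3 q10355 (flp_g L163637) q8139, e3 q10356 (flp_g L161615) q6452, e3 q10357 (flp_g L161633) q6453, e3 q10358 L161643 q9696, e3 q10359 L161651 q7484, e3 q10360 L194279 q14731, e3 q10361 (flp_g L161737) q10371, e3 q10362 (flp_g L161669) q6457, e3 q10363 L161677 q9441, e3 q10364 L174078 q12048, e3 q10365 L163550 q7828, e3 q10366 (flp_g L161699) q6460, e3 q10367 (flp_g L161705) q6461, trivial⟩ (by decide +kernel)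

theorem ce_g_162 : ∀ r, r < 64 → sm gg (Qf (10368 + r)) = Qf (tab Gen.g (10368 + r)) :=
  edges_tab (sm gg) Qf (tab Gen.g) 10368 [(10368, 14735), (10369, 6463), (10370, 6464), (10371, 10361), (10372, 14738), (10373, 6474), (10374, 10380), (10375, 13220), (10376, 9779), (10377, 14739), (10378, 14033), (10379, 13258), (10380, 10374), (10381, 9730), (10382, 10296), (10383, 9721), (10384, 7539), (10385, 14747), (10386, 6486), (10387, 7540), (10388, 6565), (10389, 14750), (10390, 13306), (10391, 13314), (10392, 6492), (10393, 12307), (10394, 8976), (10395, 10403), (10396, 14753), (10397, 6494), (10398, 11909), (10399, 14755), (10400, 6495), (10401, 14756), (10402, 6496), (10403, 10395), (10404, 12124), (10405, 10676), (10406, 14757), (10407, 13471), (10408, 6506), (10409, 14763), (10410, 14765), (10411, 6841), (10412, 6508), (10413, 14082), (10414, 6509), (10415, 13680), (10416, 7446), (10417, 13983), (10418, 10418), (10419, 9020), (10420, 6908), (10421, 6520), (10422, 10479), (10423, 10473), (10424, 9026), (10425,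 10475), (10426, 13372), (10427, 12786), (10428, 6526), (10429, 6528), (10430, 6529), (10431, 10434)]
    ⟨e3 q10368 (flp_g L194335) q14735, e3 q10369 (flp_g L161723) q6463, e3 q10370 (flp_g L161727) q6464, e3 q10371 L161737 q10361, e3 q10372 L194352 q14738, e3 q10373 L161746 q6474, e3 q10374 (flp_g L161784) q10380, e3 q10375 (flp_g L182905) q13220, e3 q10376 L161764 q9779, e3 q10377 (flp_g L194361) q14739, e3 q10378 L189321 q14033, e3 q10379 (flp_g L183193) q13258, e3 q10380 L161784 q10374, e3 q10381 L161792 q9730, e3 q10382 L161804 q10296, e3 q10383 L161812 q9721, e3 q10384 L161823 q7539, e3 q10385 L194428 q14747, e3 q10386 (flp_g L161836) q6486, e3 q10387 L161854 q7540, e3 q10388 L161862 q6565, e3 q10389 L194454 q14750, e3 q10390 (flp_g L183597) q13306, e3 q10391 (flp_g L183657) q13314, e3 q10392 (flp_g L161882) q6492, e3 q10393 (flp_g L176009) q12307, e3 q10394 (flp_g L161894) q8976, e3 q10395 (flp_g L161940) q10403, e3 q10396 L194482 q14753, e3 q10397 (flp_g L161906) q6494, e3 q10398 L173124 q11909, e3 q10399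 L194502 q14755, e3 q10400 (flp_g L161922) q6495, e3 q10401 L194512 q14756, e3 q10402 (flp_g L161932) q6496, e3 q10403 L161940 q10395, e3 q10404 L174705 q12124, e3 q10405 (flp_g L164835) q10676, e3 q10406 (flp_g L194530) q14757, e3 q10407 (flp_g L184814) q13471, e3 q10408 (flp_g L161980) q6506, e3 q10409 L194571 q14763, e3 q10410 L194589 q14765, e3 q10411 (flp_g L163756) q6841, e3 q10412 (flp_g L161998) q6508, e3 q10413 L189675 q14082, e3 q10414 (flp_g L162008) q6509, e3 q10415 (flp_g L186625) q13680, e3 q10416 L162034 q7446, e3 q10417 (flp_g L188963) q13983, e3 q10418 L162054 q10418, e3 q10419 L162062 q9020, e3 q10420 (flp_g L162074) q6908, e3 q10421 (flp_g L162076) q6520, e3 q10422 (flp_g L162444) q10479, e3 q10423 (flp_g L162398) q10473, e3 q10424 (flp_g L162110) q9026, e3 q10425 (flp_g L162412) q10475, e3 q10426 L184089 q13372, e3 q10427 L179903 q12786, e3 q10428 (flp_g L162124) q6526, e3 q10429 L162132 q6528, e3 q10430 L162136 q6529, e3 q10431 L162154 q10434, trivial⟩ (by decide +kernel)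

theorem ce_g_163 : ∀ r, r < 64 → sm gg (Qf (10432 + r)) = Qf (tab Gen.g (10432 + r)) :=
  edges_tab (sm gg) Qf (tab Gen.g) 10432 [(10432, 7760), (10433, 11958), (10434, 10431), (10435, 14773), (10436, 14779), (10437, 6530), (10438, 7697), (10439, 6795), (10440, 8105), (10441, 6541), (10442, 14781), (10443, 6536), (10444, 10454), (10445, 6537), (10446, 9085), (10447, 6540), (10448, 14053), (10449, 14784), (10450, 6542), (10451, 8451), (10452, 6544), (10453, 6553), (10454, 10444), (10455, 12218), (10456, 6554), (10457, 8559), (10458, 13288), (10459, 12219), (10460, 14028), (10461, 14710), (10462, 6552), (10463, 14786), (10464, 14795), (10465, 14796), (10466, 6555), (10467, 7983), (10468, 14800), (10469, 6558), (10470, 6562), (10471, 10476), (10472, 12620), (10473, 10423), (10474, 14804), (10475, 10425), (10476, 10471), (10477, 6564), (10478, 14806), (10479, 10422), (10480, 10173), (10481, 6567), (10482, 13348), (10483, 6568), (10484, 13346), (10485, 7774), (10486, 6571), (10487, 9806), (10488, 7775), (10489, 7776),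 (10490, 12025), (10491, 14103), (10492, 10499), (10493, 8463), (10494, 10504), (10495, 6576)]
    ⟨e3 q10432 (flp_g L162798) q7760, e3 q10433 (flp_g L173477) q11958, e3 q10434 (flp_g L162154) q10431, e3 q10435 (flp_g L194669) q14773, e3 q10436 L194727 q14779, e3 q10437 (flp_g L162164) q6530, e3 q10438 (flp_g L162174) q7697, e3 q10439 (flp_g L163770) q6795, e3 q10440 L163748 q8105, e3 q10441 L162204 q6541, e3 q10442 L194743 q14781, e3 q10443 (flp_g L162216) q6536, e3 q10444 (flp_g L162303) q10454, e3 q10445 (flp_g L162230) q6537, e3 q10446 L162240 q9085, e3 q10447 (flp_g L162242) q6540, e3 q10448 (flp_g L189471) q14053, e3 q10449 L194775 q14784, e3 q10450 (flp_g L162267) q6542, e3 q10451 L162281 q8451, e3 q10452 (flp_g L162285) q6544, e3 q10453 L162295 q6553, e3 q10454 L162303 q10444, e3 q10455 (flp_g L175394) q12218, e3 q10456 L162315 q6554, e3 q10457 L162327 q8559, e3 q10458 (flp_g L183445) q13288, e3 q10459 (flp_g L175398) q12219, e3 q10460 (flp_g L189271) q14028, e3 q10461 (flp_g L194103) q14710, e3 q10462 (flp_g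 L162346) q6552, e3 q10463 (flp_g L194801) q14786, e3 q10464 L194877 q14795, e3 q10465 L194887 q14796, e3 q10466 (flp_g L162360) q6555, e3 q10467 L162364 q7983, e3 q10468 L194927 q14800, e3 q10469 (flp_g L162372) q6558, e3 q10470 L162382 q6562, e3 q10471 L162420 q10476, e3 q10472 (flp_g L178629) q12620, e3 q10473 L162398 q10423, e3 q10474 L194967 q14804, e3 q10475 L162412 q10425, e3 q10476 (flp_g L162420) q10471, e3 q10477 (flp_g L162424) q6564, e3 q10478 L194983 q14806, e3 q10479 L162444 q10422, e3 q10480 L162448 q10173, e3 q10481 (flp_g L162452) q6567, e3 q10482 (flp_g L183921) q13348, e3 q10483 (flp_g L162464) q6568, e3 q10484 L183895 q13346, e3 q10485 L162478 q7774, e3 q10486 (flp_g L162480) q6571, e3 q10487 L162492 q9806, e3 q10488 L162498 q7775, e3 q10489 L162510 q7776, e3 q10490 L173901 q12025, e3 q10491 (flp_g L189863) q14103, e3 q10492 (flp_g L162579) q10499, e3 q10493 (flp_g L162540) q8463, e3 q10494 (flp_g L162621) q10504, e3 q10495 (flp_g L162548) q6576, trivial⟩ (by decide +kernel)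

theorem ce_g_164 : ∀ r, r < 64 → sm gg (Qf (10496 + r)) = Qf (tab Gen.g (10496 + r)) :=
  edges_tab (sm gg) Qf (tab Gen.g) 10496 [(10496, 9870), (10497, 9865), (10498, 9021), (10499, 10492), (10500, 14818), (10501, 6582), (10502, 14820), (10503, 6583), (10504, 10494), (10505, 9068), (10506, 6585), (10507, 14188), (10508, 14123), (10509, 13359), (10510, 14185), (10511, 14810), (10512, 14122), (10513, 12730), (10514, 12816), (10515, 14828), (10516, 6594), (10517, 14831), (10518, 8324), (10519, 12601), (10520, 10527), (10521, 6598), (10522, 14834), (10523, 12993), (10524, 6600), (10525, 13313), (10526, 6601), (10527, 10520), (10528, 13186), (10529, 13115), (10530, 13462), (10531, 14791), (10532, 6608), (10533, 9859), (10534, 12211), (10535, 14842), (10536, 6610), (10537, 13664), (10538, 6611), (10539, 6615), (10540, 10541), (10541, 10540), (10542, 6616), (10543, 6617), (10544, 6619), (10545, 14843), (10546, 6621), (10547, 6623), (10548, 14845), (10549, 14846), (10550, 6625), (10551, 6626), (10552, 6642), (10553, 10602),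 (10554, 6630), (10555, 6631), (10556, 6645), (10557, 6716), (10558, 6646), (10559, 6647)]
    ⟨e3 q10496 L163797 q9870, e3 q10497 L163795 q9865, e3 q10498 L162573 q9021, e3 q10499 L162579 q10492, e3 q10500 (flp_g L195095) q14818, e3 q10501 (flp_g L162591) q6582, e3 q10502 L195109 q14820, e3 q10503 (flp_g L162609) q6583, e3 q10504 L162621 q10494, e3 q10505 (flp_g L162631) q9068, e3 q10506 (flp_g L162633) q6585, e3 q10507 (flp_g L190553) q14188, e3 q10508 (flp_g L190037) q14123, e3 q10509 L183989 q13359, e3 q10510 L190527 q14185, e3 q10511 (flp_g L195017) q14810, e3 q10512 (flp_g L190023) q14122, e3 q10513 L179441 q12730, e3 q10514 (flp_g L180153) q12816, e3 q10515 L195173 q14828, e3 q10516 (flp_g L162678) q6594, e3 q10517 L195201 q14831, e3 q10518 L162688 q8324, e3 q10519 (flp_g L178471) q12601, e3 q10520 (flp_g L162750) q10527, e3 q10521 (flp_g L162704) q6598, e3 q10522 L195233 q14834, e3 q10523 (flp_g L181391) q12993, e3 q10524 (flp_g L162724) q6600, e3 q10525 (flp_g L183645) q13313, e3 q10526 (flp_g L162738) q6601,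 e3 q10527 L162750 q10520, e3 q10528 (flp_g L182689) q13186, e3 q10529 L182259 q13115, e3 q10530 (flp_g L184752) q13462, e3 q10531 (flp_g L194843) q14791, e3 q10532 (flp_g L162770) q6608, e3 q10533 L162784 q9859, e3 q10534 (flp_g L175330) q12211, e3 q10535 L195293 q14842, e3 q10536 (flp_g L162810) q6610, e3 q10537 (flp_g L186479) q13664, e3 q10538 (flp_g L162825) q6611, e3 q10539 L162837 q6615, e3 q10540 L162853 q10541, e3 q10541 (flp_g L162853) q10540, e3 q10542 (flp_g L162855) q6616, e3 q10543 (flp_g L162865) q6617, e3 q10544 (flp_g L162875) q6619, e3 q10545 L195299 q14843, e3 q10546 (flp_g L162915) q6621, e3 q10547 (flp_g L162923) q6623, e3 q10548 L195322 q14845, e3 q10549 L195334 q14846, e3 q10550 (flp_g L162953) q6625, e3 q10551 (flp_g L162959) q6626, e3 q10552 L162973 q6642, e3 q10553 L164262 q10602, e3 q10554 (flp_g L162983) q6630, e3 q10555 (flp_g L162993) q6631, e3 q10556 L163007 q6645, e3 q10557 L163019 q6716, e3 q10558 L163027 q6646, e3 q10559 L163037 q6647, trivial⟩ (by decide +kernel)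

theorem ce_g_165 : ∀ r, r < 64 → sm gg (Qf (10560 + r)) = Qf (tab Gen.g (10560 + r)) :=
  edges_tab (sm gg) Qf (tab Gen.g) 10560 [(10560, 10574), (10561, 6691), (10562, 8449), (10563, 6649), (10564, 6651), (10565, 10579), (10566, 6694), (10567, 14847), (10568, 12837), (10569, 12658), (10570, 6644), (10571, 8545), (10572, 14849), (10573, 14850), (10574, 10560), (10575, 12212), (10576, 12756), (10577, 9282), (10578, 14853), (10579, 10565), (10580, 14854), (10581, 14855), (10582, 14871), (10583, 6652), (10584, 6763), (10585, 12335), (10586, 14874), (10587, 8054), (10588, 6655), (10589, 6770), (10590, 13478), (10591, 6772), (10592, 7456), (10593, 8439), (10594, 10597), (10595, 6662), (10596, 6663), (10597, 10594), (10598, 10599), (10599, 10598), (10600, 8381), (10601, 10607), (10602, 10553), (10603, 8592), (10604, 12652), (10605, 6673), (10606, 12834), (10607, 10601), (10608, 12584), (10609, 8514), (10610, 6679), (10611, 8483), (10612, 14883), (10613, 6681), (10614, 6832), (10615, 10632), (10616, 14888), (10617, 6684),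 (10618, 12681), (10619, 8779), (10620, 6687), (10621, 8501), (10622, 12775), (10623, 12776)]
    ⟨e3 q10560 (flp_g L164031) q10574, e3 q10561 L163053 q6691, e3 q10562 L163063 q8449, e3 q10563 L163075 q6649, e3 q10564 L163081 q6651, e3 q10565 L164075 q10579, e3 q10566 L163091 q6694, e3 q10567 (flp_g L195354) q14847, e3 q10568 (flp_g L180329) q12837, e3 q10569 L178939 q12658, e3 q10570 (flp_g L163117) q6644, e3 q10571 L164013 q8545, e3 q10572 (flp_g L195378) q14849, e3 q10573 (flp_g L195390) q14850, e3 q10574 L164031 q10560, e3 q10575 (flp_g L175340) q12212, e3 q10576 (flp_g L179635) q12756, e3 q10577 (flp_g L164057) q9282, e3 q10578 (flp_g L195416) q14853, e3 q10579 (flp_g L164075) q10565, e3 q10580 (flp_g L195420) q14854, e3 q10581 (flp_g L195430) q14855, e3 q10582 L195552 q14871, e3 q10583 (flp_g L164091) q6652, e3 q10584 L164107 q6763, e3 q10585 (flp_g L176207) q12335, e3 q10586 L195578 q14874, e3 q10587 (flp_g L164129) q8054, e3 q10588 (flp_g L164131) q6655, e3 q10589 L164143 q6770, e3 q10590 (flp_g L184876)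 q13478, e3 q10591 L164157 q6772, e3 q10592 L164165 q7456, e3 q10593 L164176 q8439, e3 q10594 (flp_g L164210) q10597, e3 q10595 (flp_g L164186) q6662, e3 q10596 (flp_g L164194) q6663, e3 q10597 L164210 q10594, e3 q10598 (flp_g L164232) q10599, e3 q10599 L164232 q10598, e3 q10600 L164242 q8381, e3 q10601 (flp_g L164306) q10607, e3 q10602 (flp_g L164262) q10553, e3 q10603 (flp_g L164272) q8592, e3 q10604 L178886 q12652, e3 q10605 (flp_g L164280) q6673, e3 q10606 (flp_g L180293) q12834, e3 q10607 L164306 q10601, e3 q10608 L178279 q12584, e3 q10609 L164326 q8514, e3 q10610 (flp_g L164328) q6679, e3 q10611 (flp_g L164344) q8483, e3 q10612 L195677 q14883, e3 q10613 (flp_g L164356) q6681, e3 q10614 L164376 q6832, e3 q10615 (flp_g L164500) q10632, e3 q10616 L195717 q14888, e3 q10617 (flp_g L164394) q6684, e3 q10618 L179101 q12681, e3 q10619 (flp_g L164412) q8779, e3 q10620 (flp_g L164414) q6687, e3 q10621 L164430 q8501, e3 q10622 (flp_g L179793) q12775, e3 q10623 L179803 q12776, trivial⟩ (by decide +kernel)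

theorem ce_g_166 : ∀ r, r < 64 → sm gg (Qf (10624 + r)) = Qf (tab Gen.g (10624 + r)) :=
  edges_tab (sm gg) Qf (tab Gen.g) 10624 [(10624, 11954), (10625, 11952), (10626, 6692), (10627, 9277), (10628, 14858), (10629, 14898), (10630, 14899), (10631, 6695), (10632, 10615), (10633, 8177), (10634, 14889), (10635, 11920), (10636, 6699), (10637, 14901), (10638, 6702), (10639, 6704), (10640, 10786), (10641, 10790), (10642, 6838), (10643, 10823), (10644, 10824), (10645, 9238), (10646, 14905), (10647, 6707), (10648, 9664), (10649, 6713), (10650, 6732), (10651, 6714), (10652, 6736), (10653, 14906), (10654, 6715), (10655, 6733), (10656, 13587), (10657, 12437), (10658, 6724), (10659, 9339), (10660, 13504), (10661, 6725), (10662, 14008), (10663, 6752), (10664, 9349), (10665, 6729), (10666, 10822), (10667, 13591), (10668, 13595), (10669, 9327), (10670, 14775), (10671, 10695), (10672, 10785), (10673, 11957), (10674, 7728), (10675, 7726), (10676, 10405), (10677, 14919), (10678, 11560), (10679, 10681), (10680, 6742), (10681, 10679),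 (10682, 6744), (10683, 6745), (10684, 14923), (10685, 6746), (10686, 14009), (10687, 8662)]
    ⟨e3 q10624 (flp_g L173431) q11954, e3 q10625 (flp_g L173435) q11952, e3 q10626 (flp_g L164454) q6692, e3 q10627 L164466 q9277, e3 q10628 (flp_g L195456) q14858, e3 q10629 L195795 q14898, e3 q10630 L195803 q14899, e3 q10631 (flp_g L164488) q6695, e3 q10632 L164500 q10615, e3 q10633 L164510 q8177, e3 q10634 (flp_g L195735) q14889, e3 q10635 L173210 q11920, e3 q10636 (flp_g L164524) q6699, e3 q10637 L195819 q14901, e3 q10638 (flp_g L164539) q6702, e3 q10639 L164551 q6704, e3 q10640 (flp_g L165658) q10786, e3 q10641 (flp_g L165682) q10790, e3 q10642 (flp_g L164564) q6838, e3 q10643 (flp_g L165917) q10823, e3 q10644 (flp_g L165931) q10824, e3 q10645 (flp_g L164591) q9238, e3 q10646 L195852 q14905, e3 q10647 (flp_g L164605) q6707, e3 q10648 L164625 q9664, e3 q10649 L164635 q6713, e3 q10650 L164647 q6732, e3 q10651 L164653 q6714, e3 q10652 L164659 q6736, e3 q10653 L195864 q14906, e3 q10654 (flp_g L164663) q6715, e3 q10655 L164681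 q6733, e3 q10656 L185837 q13587, e3 q10657 (flp_g L185639) q12437, e3 q10658 (flp_g L164691) q6724, e3 q10659 (flp_g L164707) q9339, e3 q10660 (flp_g L185101) q13504, e3 q10661 (flp_g L164713) q6725, e3 q10662 (flp_g L189135) q14008, e3 q10663 L164733 q6752, e3 q10664 (flp_g L164743) q9349, e3 q10665 (flp_g L164747) q6729, e3 q10666 L165909 q10822, e3 q10667 (flp_g L185881) q13591, e3 q10668 (flp_g L185919) q13595, e3 q10669 L164769 q9327, e3 q10670 (flp_g L194687) q14775, e3 q10671 (flp_g L164987) q10695, e3 q10672 (flp_g L165646) q10785, e3 q10673 (flp_g L173465) q11957, e3 q10674 L164813 q7728, e3 q10675 L164823 q7726, e3 q10676 L164835 q10405, e3 q10677 (flp_g L195990) q14919, e3 q10678 (flp_g L170716) q11560, e3 q10679 (flp_g L164885) q10681, e3 q10680 (flp_g L164861) q6742, e3 q10681 L164885 q10679, e3 q10682 (flp_g L164889) q6744, e3 q10683 (flp_g L164895) q6745, e3 q10684 L196029 q14923, e3 q10685 (flp_g L164907) q6746, e3 q10686 (flp_g L189147) q14009, e3 q10687 L164931 q8662, trivial⟩ (by decide +kernel)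

theorem ce_g_167 : ∀ r, r < 64 → sm gg (Qf (10688 + r)) = Qf (tab Gen.g (10688 + r)) :=
  edges_tab (sm gg) Qf (tab Gen.g) 10688 [(10688, 9207), (10689, 13549), (10690, 14903), (10691, 6751), (10692, 6753), (10693, 9293), (10694, 6755), (10695, 10671), (10696, 10845), (10697, 12128), (10698, 10729), (10699, 6761), (10700, 12380), (10701, 10726), (10702, 10735), (10703, 6780), (10704, 6764), (10705, 9295), (10706, 14933), (10707, 14935), (10708, 10713), (10709, 6766), (10710, 14938), (10711, 6767), (10712, 6768), (10713, 10708), (10714, 13489), (10715, 13490), (10716, 9179), (10717, 12334), (10718, 14945), (10719, 14946), (10720, 9753), (10721, 6774), (10722, 6775), (10723, 9754), (10724, 6873), (10725, 10826), (10726, 10701), (10727, 10756), (10728, 13566), (10729, 10698), (10730, 6781), (10731, 7285), (10732, 8325), (10733, 12365), (10734, 6820), (10735, 10702), (10736, 6786), (10737, 9283), (10738, 10761), (10739, 6831), (10740, 9290), (10741, 9472), (10742, 9243), (10743, 8487), (10744, 14960), (10745, 8649),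 (10746, 6802), (10747, 9301), (10748, 14963), (10749, 12162), (10750, 11507), (10751, 13571)]
    ⟨e3 q10688 L164941 q9207, e3 q10689 (flp_g L185829) q13549, e3 q10690 (flp_g L195842) q14903, e3 q10691 (flp_g L164953) q6751, e3 q10692 (flp_g L164957) q6753, e3 q10693 L164963 q9293, e3 q10694 (flp_g L164965) q6755, e3 q10695 L164987 q10671, e3 q10696 L166120 q10845, e3 q10697 L174755 q12128, e3 q10698 L165190 q10729, e3 q10699 (flp_g L165003) q6761, e3 q10700 (flp_g L176616) q12380, e3 q10701 (flp_g L165165) q10726, e3 q10702 L165256 q10735, e3 q10703 (flp_g L165029) q6780, e3 q10704 (flp_g L165031) q6764, e3 q10705 L165039 q9295, e3 q10706 L196117 q14933, e3 q10707 L196123 q14935, e3 q10708 (flp_g L165074) q10713, e3 q10709 (flp_g L165051) q6766, e3 q10710 L196144 q14938, e3 q10711 (flp_g L165059) q6767, e3 q10712 (flp_g L165063) q6768, e3 q10713 L165074 q10708, e3 q10714 (flp_g L184939) q13489, e3 q10715 L184947 q13490, e3 q10716 L165096 q9179, e3 q10717 (flp_g L176195) q12334, e3 q10718 L196197 q14945, e3 q10719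 L196203 q14946, e3 q10720 L165122 q9753, e3 q10721 (flp_g L165124) q6774, e3 q10722 (flp_g L165130) q6775, e3 q10723 L165142 q9754, e3 q10724 L165147 q6873, e3 q10725 L165957 q10826, e3 q10726 L165165 q10701, e3 q10727 (flp_g L165400) q10756, e3 q10728 (flp_g L185617) q13566, e3 q10729 (flp_g L165190) q10698, e3 q10730 (flp_g L165192) q6781, e3 q10731 L165210 q7285, e3 q10732 (flp_g L165224) q8325, e3 q10733 (flp_g L176490) q12365, e3 q10734 L165248 q6820, e3 q10735 (flp_g L165256) q10702, e3 q10736 (flp_g L165258) q6786, e3 q10737 L165276 q9283, e3 q10738 (flp_g L165454) q10761, e3 q10739 L165290 q6831, e3 q10740 L165296 q9290, e3 q10741 L165300 q9472, e3 q10742 L165306 q9243, e3 q10743 L165312 q8487, e3 q10744 L196327 q14960, e3 q10745 L165328 q8649, e3 q10746 L165336 q6802, e3 q10747 L165348 q9301, e3 q10748 L196353 q14963, e3 q10749 (flp_g L174996) q12162, e3 q10750 (flp_g L170384) q11507, e3 q10751 (flp_g L185681) q13571, trivial⟩ (by decide +kernel)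

theorem ce_g_168 : ∀ r, r < 64 → sm gg (Qf (10752 + r)) = Qf (tab Gen.g (10752 + r)) :=
  edges_tab (sm gg) Qf (tab Gen.g) 10752 [(10752, 9322), (10753, 13559), (10754, 14965), (10755, 6806), (10756, 10727), (10757, 7892), (10758, 6807), (10759, 6808), (10760, 6811), (10761, 10738), (10762, 10185), (10763, 6816), (10764, 9321), (10765, 6817), (10766, 10769), (10767, 13523), (10768, 6825), (10769, 10766), (10770, 9748), (10771, 12903), (10772, 9749), (10773, 14970), (10774, 13708), (10775, 14952), (10776, 10803), (10777, 14955), (10778, 8447), (10779, 9279), (10780, 14975), (10781, 13717), (10782, 11962), (10783, 6835), (10784, 12385), (10785, 10672), (10786, 10640), (10787, 13526), (10788, 14981), (10789, 14764), (10790, 10641), (10791, 6840), (10792, 14762), (10793, 14088), (10794, 6842), (10795, 8289), (10796, 14990), (10797, 6845), (10798, 8064), (10799, 12904), (10800, 12807), (10801, 8913), (10802, 12610), (10803, 10776), (10804, 6850), (10805, 6851), (10806, 6852), (10807, 8441), (10808, 6855), (10809, 9423),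 (10810, 6857), (10811, 6858), (10812, 6859), (10813, 7532), (10814, 10814), (10815, 13702)]
    ⟨e3 q10752 L165368 q9322, e3 q10753 (flp_g L185547) q13559, e3 q10754 L196377 q14965, e3 q10755 (flp_g L165388) q6806, e3 q10756 L165400 q10727, e3 q10757 (flp_g L165414) q7892, e3 q10758 (flp_g L165416) q6807, e3 q10759 (flp_g L165428) q6808, e3 q10760 (flp_g L165438) q6811, e3 q10761 L165454 q10738, e3 q10762 L165462 q10185, e3 q10763 L165472 q6816, e3 q10764 (flp_g L165484) q9321, e3 q10765 (flp_g L165488) q6817, e3 q10766 (flp_g L165530) q10769, e3 q10767 (flp_g L185251) q13523, e3 q10768 L165520 q6825, e3 q10769 L165530 q10766, e3 q10770 L165544 q9748, e3 q10771 (flp_g L180783) q12903, e3 q10772 L165556 q9749, e3 q10773 (flp_g L196436) q14970, e3 q10774 (flp_g L186917) q13708, e3 q10775 (flp_g L196259) q14952, e3 q10776 L165770 q10803, e3 q10777 (flp_g L196293) q14955, e3 q10778 L165596 q8447, e3 q10779 L165608 q9279, e3 q10780 L196482 q14975, e3 q10781 L186991 q13717, e3 q10782 (flp_g L173512) q11962, e3 q10783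 (flp_g L165624) q6835, e3 q10784 (flp_g L176679) q12385, e3 q10785 L165646 q10672, e3 q10786 L165658 q10640, e3 q10787 (flp_g L185287) q13526, e3 q10788 L196534 q14981, e3 q10789 L194587 q14764, e3 q10790 L165682 q10641, e3 q10791 (flp_g L165684) q6840, e3 q10792 L194569 q14762, e3 q10793 L189739 q14088, e3 q10794 (flp_g L165698) q6842, e3 q10795 (flp_g L165712) q8289, e3 q10796 L196588 q14990, e3 q10797 (flp_g L165718) q6845, e3 q10798 L165734 q8064, e3 q10799 (flp_g L180793) q12904, e3 q10800 L180077 q12807, e3 q10801 L165750 q8913, e3 q10802 (flp_g L178549) q12610, e3 q10803 (flp_g L165770) q10776, e3 q10804 (flp_g L165772) q6850, e3 q10805 (flp_g L165780) q6851, e3 q10806 (flp_g L165790) q6852, e3 q10807 L165804 q8441, e3 q10808 (flp_g L165806) q6855, e3 q10809 L165814 q9423, e3 q10810 (flp_g L165816) q6857, e3 q10811 (flp_g L165824) q6858, e3 q10812 (flp_g L165830) q6859, e3 q10813 L165844 q7532, e3 q10814 L165848 q10814, e3 q10815 (flp_g L186843) q13702, trivial⟩ (by decide +kernel)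

theorem ce_g_169 : ∀ r, r < 64 → sm gg (Qf (10816 + r)) = Qf (tab Gen.g (10816 + r)) :=
  edges_tab (sm gg) Qf (tab Gen.g) 10816 [(10816, 6864), (10817, 14925), (10818, 9240), (10819, 6869), (10820, 14916), (10821, 15007), (10822, 10666), (10823, 10643), (10824, 10644), (10825, 13589), (10826, 10725), (10827, 15012), (10828, 6874), (10829, 10834), (10830, 15005), (10831, 7579), (10832, 15015), (10833, 6880), (10834, 10829), (10835, 15000), (10836, 9461), (10837, 13703), (10838, 14929), (10839, 9287), (10840, 14961), (10841, 13581), (10842, 15022), (10843, 6890), (10844, 9202), (10845, 10696), (10846, 6892), (10847, 14503), (10848, 15025), (10849, 6894), (10850, 11403), (10851, 14197), (10852, 11281), (10853, 10857), (10854, 6899), (10855, 10855), (10856, 10856), (10857, 10853), (10858, 6903), (10859, 6905), (10860, 9352), (10861, 13283), (10862, 10862), (10863, 10863), (10864, 7832), (10865, 12092), (10866, 14768), (10867, 14249), (10868, 10931), (10869, 15038), (10870, 6910), (10871, 6912), (10872, 14272), (10873,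 15040), (10874, 15044), (10875, 9544), (10876, 6958), (10877, 6960), (10878, 10935), (10879, 11152)]
    ⟨e3 q10816 (flp_g L165861) q6864, e3 q10817 (flp_g L196055) q14925, e3 q10818 L165885 q9240, e3 q10819 L165893 q6869, e3 q10820 (flp_g L195962) q14916, e3 q10821 (flp_g L196737) q15007, e3 q10822 (flp_g L165909) q10666, e3 q10823 L165917 q10643, e3 q10824 L165931 q10644, e3 q10825 (flp_g L185857) q13589, e3 q10826 (flp_g L165957) q10725, e3 q10827 L196771 q15012, e3 q10828 (flp_g L165965) q6874, e3 q10829 (flp_g L166027) q10834, e3 q10830 (flp_g L196723) q15005, e3 q10831 (flp_g L165993) q7579, e3 q10832 L196797 q15015, e3 q10833 (flp_g L166001) q6880, e3 q10834 L166027 q10829, e3 q10835 (flp_g L196679) q15000, e3 q10836 L166040 q9461, e3 q10837 L186855 q13703, e3 q10838 (flp_g L196093) q14929, e3 q10839 L166070 q9287, e3 q10840 L196345 q14961, e3 q10841 (flp_g L185767) q13581, e3 q10842 L196855 q15022, e3 q10843 (flp_g L166090) q6890, e3 q10844 (flp_g L166104) q9202, e3 q10845 (flp_g L166120) q10696, e3 q10846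 (flp_g L166122) q6892, e3 q10847 (flp_g L192699) q14503, e3 q10848 L196879 q15025, e3 q10849 (flp_g L166144) q6894, e3 q10850 (flp_g L169725) q11403, e3 q10851 (flp_g L190627) q14197, e3 q10852 (flp_g L168971) q11281, e3 q10853 (flp_g L166206) q10857, e3 q10854 (flp_g L166172) q6899, e3 q10855 L166185 q10855, e3 q10856 L166195 q10856, e3 q10857 L166206 q10853, e3 q10858 (flp_g L166208) q6903, e3 q10859 L166226 q6905, e3 q10860 L166238 q9352, e3 q10861 (flp_g L183373) q13283, e3 q10862 L166251 q10862, e3 q10863 L166265 q10863, e3 q10864 (flp_g L166278) q7832, e3 q10865 (flp_g L174432) q12092, e3 q10866 (flp_g L194629) q14768, e3 q10867 (flp_g L190973) q14249, e3 q10868 (flp_g L166738) q10931, e3 q10869 L196967 q15038, e3 q10870 (flp_g L166316) q6910, e3 q10871 L166324 q6912, e3 q10872 (flp_g L191153) q14272, e3 q10873 (flp_g L196975) q15040, e3 q10874 L196995 q15044, e3 q10875 (flp_g L166352) q9544, e3 q10876 L166360 q6958, e3 q10877 L166364 q6960, e3 q10878 L166772 q10935, e3 q10879 (flp_g L168182) q11152, trivial⟩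 (by decide +kernel)

theorem ce_g_170 : ∀ r, r < 64 → sm gg (Qf (10880 + r)) = Qf (tab Gen.g (10880 + r)) :=
  edges_tab (sm gg) Qf (tab Gen.g) 10880 [(10880, 7120), (10881, 15055), (10882, 6916), (10883, 10951), (10884, 6919), (10885, 6923), (10886, 14376), (10887, 15057), (10888, 11595), (10889, 6924), (10890, 6977), (10891, 10956), (10892, 11365), (10893, 7258), (10894, 15066), (10895, 6931), (10896, 10037), (10897, 10897), (10898, 10903), (10899, 6934), (10900, 10966), (10901, 6937), (10902, 6944), (10903, 10898), (10904, 10971), (10905, 10970), (10906, 6949), (10907, 10907), (10908, 15076), (10909, 6986), (10910, 6943), (10911, 10912), (10912, 10911), (10913, 6988), (10914, 15079), (10915, 6945), (10916, 15081), (10917, 6946), (10918, 10974), (10919, 6997), (10920, 15073), (10921, 6998), (10922, 8684), (10923, 6951), (10924, 15089), (10925, 6952), (10926, 8679), (10927, 15091), (10928, 15092), (10929, 6954), (10930, 15082), (10931, 10868), (10932, 12926), (10933, 6957), (10934, 15047), (10935, 10878), (10936,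 7115), (10937, 15048), (10938, 15049), (10939, 15104), (10940, 15106), (10941, 6961), (10942, 6965), (10943, 15108)]
    ⟨e3 q10880 (flp_g L166380) q7120, e3 q10881 L197065 q15055, e3 q10882 (flp_g L166386) q6916, e3 q10883 (flp_g L166869) q10951, e3 q10884 (flp_g L166402) q6919, e3 q10885 L166410 q6923, e3 q10886 (flp_g L191852) q14376, e3 q10887 (flp_g L197085) q15057, e3 q10888 (flp_g L170959) q11595, e3 q10889 (flp_g L166430) q6924, e3 q10890 L166446 q6977, e3 q10891 L166905 q10956, e3 q10892 (flp_g L169499) q11365, e3 q10893 L166464 q7258, e3 q10894 L197121 q15066, e3 q10895 (flp_g L166468) q6931, e3 q10896 L166482 q10037, e3 q10897 L166492 q10897, e3 q10898 (flp_g L166542) q10903, e3 q10899 (flp_g L166503) q6934, e3 q10900 (flp_g L166973) q10966, e3 q10901 (flp_g L166519) q6937, e3 q10902 L166532 q6944, e3 q10903 L166542 q10898, e3 q10904 (flp_g L167010) q10971, e3 q10905 (flp_g L167004) q10970, e3 q10906 L166553 q6949, e3 q10907 L166557 q10907, e3 q10908 L197171 q15076, e3 q10909 L166586 q6986, e3 q10910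 (flp_g L166588) q6943, e3 q10911 (flp_g L166623) q10912, e3 q10912 L166623 q10911, e3 q10913 (flp_g L166615) q6988, e3 q10914 L197199 q15079, e3 q10915 (flp_g L166642) q6945, e3 q10916 L197214 q15081, e3 q10917 (flp_g L166652) q6946, e3 q10918 (flp_g L167054) q10974, e3 q10919 L166666 q6997, e3 q10920 (flp_g L197161) q15073, e3 q10921 (flp_g L166676) q6998, e3 q10922 (flp_g L166690) q8684, e3 q10923 (flp_g L166692) q6951, e3 q10924 L197271 q15089, e3 q10925 (flp_g L166704) q6952, e3 q10926 L166716 q8679, e3 q10927 L197283 q15091, e3 q10928 L197287 q15092, e3 q10929 (flp_g L166726) q6954, e3 q10930 (flp_g L197224) q15082, e3 q10931 L166738 q10868, e3 q10932 (flp_g L180955) q12926, e3 q10933 (flp_g L166746) q6957, e3 q10934 (flp_g L197021) q15047, e3 q10935 (flp_g L166772) q10878, e3 q10936 (flp_g L166780) q7115, e3 q10937 (flp_g L197031) q15048, e3 q10938 (flp_g L197043) q15049, e3 q10939 L197345 q15104, e3 q10940 L197355 q15106, e3 q10941 (flp_g L166794) q6961, e3 q10942 (flp_g L166802) q6965, e3 q10943 L197361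 q15108, trivial⟩ (by decide +kernel)

theorem ce_g_171 : ∀ r, r < 64 → sm gg (Qf (10944 + r)) = Qf (tab Gen.g (10944 + r)) :=
  edges_tab (sm gg) Qf (tab Gen.g) 10944 [(10944, 6966), (10945, 11277), (10946, 11513), (10947, 15112), (10948, 6969), (10949, 6970), (10950, 10950), (10951, 10883), (10952, 7044), (10953, 7219), (10954, 11618), (10955, 14724), (10956, 10891), (10957, 7288), (10958, 7246), (10959, 14353), (10960, 15126), (10961, 15128), (10962, 15130), (10963, 6982), (10964, 6983), (10965, 11477), (10966, 10900), (10967, 15077), (10968, 6989), (10969, 6993), (10970, 10905), (10971, 10904), (10972, 15134), (10973, 10973), (10974, 10918), (10975, 15142), (10976, 15084), (10977, 15086), (10978, 15148), (10979, 6999), (10980, 7000), (10981, 9491), (10982, 7002), (10983, 7003), (10984, 7090), (10985, 14250), (10986, 9984), (10987, 15156), (10988, 7010), (10989, 7012), (10990, 10995), (10991, 15164), (10992, 7009), (10993, 15168), (10994, 15158), (10995, 10990), (10996, 15159), (10997, 15160), (10998, 15177),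 (10999, 15179), (11000, 7013), (11001, 10099), (11002, 15183), (11003, 7015), (11004, 7016), (11005, 9545), (11006, 7309), (11007, 11179)]
    ⟨e3 q10944 (flp_g L166816) q6966, e3 q10945 L168943 q11277, e3 q10946 (flp_g L170430) q11513, e3 q10947 L197399 q15112, e3 q10948 (flp_g L166846) q6969, e3 q10949 (flp_g L166850) q6970, e3 q10950 L166860 q10950, e3 q10951 L166869 q10883, e3 q10952 L166877 q7044, e3 q10953 L166883 q7219, e3 q10954 L171118 q11618, e3 q10955 (flp_g L194223) q14724, e3 q10956 (flp_g L166905) q10891, e3 q10957 L166911 q7288, e3 q10958 L166919 q7246, e3 q10959 L191700 q14353, e3 q10960 L197511 q15126, e3 q10961 L197530 q15128, e3 q10962 L197547 q15130, e3 q10963 (flp_g L166946) q6982, e3 q10964 (flp_g L166954) q6983, e3 q10965 L170210 q11477, e3 q10966 L166973 q10900, e3 q10967 (flp_g L197191) q15077, e3 q10968 L166992 q6989, e3 q10969 L167000 q6993, e3 q10970 L167004 q10905, e3 q10971 L167010 q10904, e3 q10972 (flp_g L197583) q15134, e3 q10973 L167019 q10973, e3 q10974 L167054 q10918, e3 q10975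 (flp_g L197647) q15142, e3 q10976 (flp_g L197238) q15084, e3 q10977 L197251 q15086, e3 q10978 L197679 q15148, e3 q10979 (flp_g L167076) q6999, e3 q10980 (flp_g L167082) q7000, e3 q10981 L167094 q9491, e3 q10982 (flp_g L167096) q7002, e3 q10983 (flp_g L167104) q7003, e3 q10984 L167120 q7090, e3 q10985 L190989 q14250, e3 q10986 L167134 q9984, e3 q10987 L197735 q15156, e3 q10988 L167144 q7010, e3 q10989 L167148 q7012, e3 q10990 L167178 q10995, e3 q10991 L197775 q15164, e3 q10992 (flp_g L167158) q7009, e3 q10993 L197793 q15168, e3 q10994 (flp_g L197753) q15158, e3 q10995 (flp_g L167178) q10990, e3 q10996 (flp_g L197757) q15159, e3 q10997 (flp_g L197761) q15160, e3 q10998 L197827 q15177, e3 q10999 L197841 q15179, e3 q11000 (flp_g L167192) q7013, e3 q11001 L167204 q10099, e3 q11002 L197865 q15183, e3 q11003 (flp_g L167214) q7015, e3 q11004 (flp_g L167220) q7016, e3 q11005 L167232 q9545, e3 q11006 L167240 q7309, e3 q11007 (flp_g L168330) q11179, trivial⟩ (by decide +kernel)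

theorem ce_g_172 : ∀ r, r < 64 → sm gg (Qf (11008 + r)) = Qf (tab Gen.g (11008 + r)) :=
  edges_tab (sm gg) Qf (tab Gen.g) 11008 [(11008, 10113), (11009, 14505), (11010, 7021), (11011, 11136), (11012, 11024), (11013, 15195), (11014, 7023), (11015, 14400), (11016, 10088), (11017, 15202), (11018, 15204), (11019, 7026), (11020, 15208), (11021, 15209), (11022, 7028), (11023, 15087), (11024, 11012), (11025, 11172), (11026, 11031), (11027, 7033), (11028, 13100), (11029, 7034), (11030, 7035), (11031, 11026), (11032, 7039), (11033, 8248), (11034, 11034), (11035, 11035), (11036, 15118), (11037, 11037), (11038, 11099), (11039, 13829), (11040, 7045), (11041, 15230), (11042, 7051), (11043, 7053), (11044, 7054), (11045, 11053), (11046, 15229), (11047, 15242), (11048, 15246), (11049, 13817), (11050, 7050), (11051, 15231), (11052, 15232), (11053, 11045), (11054, 15254), (11055, 15234), (11056, 15235), (11057, 15260), (11058, 15262), (11059, 15264), (11060, 7055), (11061, 7056), (11062, 15266), (11063, 10151), (11064, 11069),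 (11065, 7061), (11066, 13159), (11067, 7062), (11068, 7063), (11069, 11064), (11070, 7140), (11071, 12899)]
    ⟨e3 q11008 (flp_g L167260) q10113, e3 q11009 L192719 q14505, e3 q11010 (flp_g L167266) q7021, e3 q11011 L168098 q11136, e3 q11012 (flp_g L167336) q11024, e3 q11013 L197943 q15195, e3 q11014 (flp_g L167288) q7023, e3 q11015 (flp_g L192033) q14400, e3 q11016 L167302 q10088, e3 q11017 L197973 q15202, e3 q11018 L197979 q15204, e3 q11019 (flp_g L167310) q7026, e3 q11020 L197995 q15208, e3 q11021 L197999 q15209, e3 q11022 (flp_g L167322) q7028, e3 q11023 (flp_g L197259) q15087, e3 q11024 L167336 q11012, e3 q11025 (flp_g L168272) q11172, e3 q11026 (flp_g L167401) q11031, e3 q11027 (flp_g L167357) q7033, e3 q11028 (flp_g L182141) q13100, e3 q11029 (flp_g L167377) q7034, e3 q11030 (flp_g L167387) q7035, e3 q11031 L167401 q11026, e3 q11032 (flp_g L167403) q7039, e3 q11033 L167419 q8248, e3 q11034 L167427 q11034, e3 q11035 L167430 q11035, e3 q11036 (flp_g L197453) q15118, e3 q11037 L167439 q11037, e3 q11038 (flp_g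 L167824) q11099, e3 q11039 (flp_g L187849) q13829, e3 q11040 (flp_g L167450) q7045, e3 q11041 L198123 q15230, e3 q11042 L167468 q7051, e3 q11043 L167472 q7053, e3 q11044 L167476 q7054, e3 q11045 L167526 q11053, e3 q11046 (flp_g L198121) q15229, e3 q11047 L198200 q15242, e3 q11048 L198228 q15246, e3 q11049 (flp_g L187731) q13817, e3 q11050 (flp_g L167500) q7050, e3 q11051 (flp_g L198137) q15231, e3 q11052 (flp_g L198145) q15232, e3 q11053 (flp_g L167526) q11045, e3 q11054 L198284 q15254, e3 q11055 (flp_g L198155) q15234, e3 q11056 (flp_g L198163) q15235, e3 q11057 L198338 q15260, e3 q11058 L198353 q15262, e3 q11059 L198366 q15264, e3 q11060 (flp_g L167560) q7055, e3 q11061 (flp_g L167568) q7056, e3 q11062 (flp_g L198378) q15266, e3 q11063 L167584 q10151, e3 q11064 (flp_g L167641) q11069, e3 q11065 (flp_g L167594) q7061, e3 q11066 (flp_g L182503) q13159, e3 q11067 (flp_g L167615) q7062, e3 q11068 (flp_g L167627) q7063, e3 q11069 L167641 q11064, e3 q11070 L167653 q7140, e3 q11071 L180753 q12899, trivial⟩ (by decide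 +kernel)

theorem ce_g_173 : ∀ r, r < 64 → sm gg (Qf (11072 + r)) = Qf (tab Gen.g (11072 + r)) :=
  edges_tab (sm gg) Qf (tab Gen.g) 11072 [(11072, 15273), (11073, 15275), (11074, 7070), (11075, 15278), (11076, 7071), (11077, 11325), (11078, 7223), (11079, 15283), (11080, 11098), (11081, 15289), (11082, 15290), (11083, 7075), (11084, 15279), (11085, 13868), (11086, 15299), (11087, 9615), (11088, 7078), (11089, 15303), (11090, 15304), (11091, 7079), (11092, 15300), (11093, 15309), (11094, 15311), (11095, 7081), (11096, 7082), (11097, 11097), (11098, 11080), (11099, 11038), (11100, 15307), (11101, 11402), (11102, 14269), (11103, 7095), (11104, 7096), (11105, 11116), (11106, 7135), (11107, 15153), (11108, 7091), (11109, 7094), (11110, 15152), (11111, 14412), (11112, 15328), (11113, 10098), (11114, 8626), (11115, 15323), (11116, 11105), (11117, 15324), (11118, 14276), (11119, 15341), (11120, 15342), (11121, 7098), (11122, 7099), (11123, 15343), (11124, 11124), (11125, 11125), (11126, 14410), (11127, 10087), (11128,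 11128), (11129, 11237), (11130, 14396), (11131, 15360), (11132, 15362), (11133, 7106), (11134, 15190), (11135, 15367)]
    ⟨e3 q11072 L198431 q15273, e3 q11073 L198440 q15275, e3 q11074 (flp_g L167671) q7070, e3 q11075 L198458 q15278, e3 q11076 (flp_g L167682) q7071, e3 q11077 L169251 q11325, e3 q11078 L167702 q7223, e3 q11079 L198492 q15283, e3 q11080 (flp_g L167814) q11098, e3 q11081 L198530 q15289, e3 q11082 L198534 q15290, e3 q11083 (flp_g L167726) q7075, e3 q11084 (flp_g L198474) q15279, e3 q11085 (flp_g L188091) q13868, e3 q11086 L198601 q15299, e3 q11087 (flp_g L167748) q9615, e3 q11088 (flp_g L167750) q7078, e3 q11089 L198623 q15303, e3 q11090 L198633 q15304, e3 q11091 (flp_g L167766) q7079, e3 q11092 (flp_g L198609) q15300, e3 q11093 L198687 q15309, e3 q11094 L198701 q15311, e3 q11095 (flp_g L167791) q7081, e3 q11096 (flp_g L167795) q7082, e3 q11097 L167805 q11097, e3 q11098 L167814 q11080, e3 q11099 L167824 q11038, e3 q11100 L198661 q15307, e3 q11101 (flp_g L169715) q11402, e3 q11102 (flp_g L191117) q14269,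 e3 q11103 L167854 q7095, e3 q11104 L167860 q7096, e3 q11105 (flp_g L167934) q11116, e3 q11106 (flp_g L167876) q7135, e3 q11107 (flp_g L197723) q15153, e3 q11108 (flp_g L167884) q7091, e3 q11109 L167896 q7094, e3 q11110 (flp_g L197713) q15152, e3 q11111 (flp_g L192105) q14412, e3 q11112 (flp_g L198827) q15328, e3 q11113 (flp_g L167912) q10098, e3 q11114 (flp_g L167920) q8626, e3 q11115 (flp_g L198793) q15323, e3 q11116 L167934 q11105, e3 q11117 (flp_g L198797) q15324, e3 q11118 (flp_g L191181) q14276, e3 q11119 L198881 q15341, e3 q11120 L198888 q15342, e3 q11121 (flp_g L167958) q7098, e3 q11122 (flp_g L167961) q7099, e3 q11123 (flp_g L198905) q15343, e3 q11124 L167977 q11124, e3 q11125 L167985 q11125, e3 q11126 (flp_g L192093) q14410, e3 q11127 L167996 q10087, e3 q11128 L168015 q11128, e3 q11129 (flp_g L168678) q11237, e3 q11130 (flp_g L192003) q14396, e3 q11131 L199004 q15360, e3 q11132 L199020 q15362, e3 q11133 (flp_g L168030) q7106, e3 q11134 (flp_g L197923) q15190, e3 q11135 L199054 q15367, trivial⟩ (by decide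 +kernel)

theorem ce_g_174 : ∀ r, r < 64 → sm gg (Qf (11136 + r)) = Qf (tab Gen.g (11136 + r)) :=
  edges_tab (sm gg) Qf (tab Gen.g) 11136 [(11136, 11011), (11137, 7107), (11138, 15371), (11139, 7118), (11140, 7121), (11141, 7122), (11142, 11159), (11143, 15370), (11144, 11151), (11145, 15382), (11146, 7111), (11147, 15385), (11148, 7112), (11149, 15388), (11150, 7113), (11151, 11144), (11152, 10879), (11153, 8686), (11154, 15395), (11155, 15399), (11156, 15401), (11157, 7117), (11158, 15372), (11159, 11142), (11160, 15407), (11161, 15053), (11162, 15412), (11163, 15374), (11164, 15416), (11165, 15418), (11166, 15420), (11167, 7123), (11168, 7124), (11169, 15422), (11170, 10118), (11171, 10119), (11172, 11025), (11173, 9992), (11174, 15430), (11175, 7127), (11176, 9531), (11177, 10167), (11178, 14435), (11179, 11007), (11180, 15433), (11181, 15437), (11182, 15439), (11183, 7134), (11184, 8622), (11185, 15326), (11186, 15443), (11187, 7136), (11188, 14878), (11189, 7138), (11190, 15448), (11191, 8682), (11192, 15452),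 (11193, 15454), (11194, 15456), (11195, 7142), (11196, 11200), (11197, 15460), (11198, 7144), (11199, 7146)]
    ⟨e3 q11136 (flp_g L168098) q11011, e3 q11137 (flp_g L168100) q7107, e3 q11138 L199066 q15371, e3 q11139 L168112 q7118, e3 q11140 L168116 q7121, e3 q11141 L168120 q7122, e3 q11142 L168218 q11159, e3 q11143 (flp_g L199305) q15370, e3 q11144 (flp_g L168174) q11151, e3 q11145 L199118 q15382, e3 q11146 (flp_g L168140) q7111, e3 q11147 L199130 q15385, e3 q11148 (flp_g L168150) q7112, e3 q11149 L199144 q15388, e3 q11150 (flp_g L168164) q7113, e3 q11151 L168174 q11144, e3 q11152 L168182 q10879, e3 q11153 L168194 q8686, e3 q11154 L199177 q15395, e3 q11155 L199191 q15399, e3 q11156 L199199 q15401, e3 q11157 (flp_g L168206) q7117, e3 q11158 (flp_g L199074) q15372, e3 q11159 (flp_g L168218) q11142, e3 q11160 L199227 q15407, e3 q11161 (flp_g L197059) q15053, e3 q11162 L199244 q15412, e3 q11163 (flp_g L199082) q15374, e3 q11164 L199257 q15416, e3 q11165 L199272 q15418, e3 q11166 L199283 q15420, e3 q11167 (flp_g L168244)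 q7123, e3 q11168 (flp_g L168252) q7124, e3 q11169 (flp_g L199293) q15422, e3 q11170 L168262 q10118, e3 q11171 L168266 q10119, e3 q11172 L168272 q11025, e3 q11173 (flp_g L168284) q9992, e3 q11174 L199357 q15430, e3 q11175 (flp_g L168290) q7127, e3 q11176 L168308 q9531, e3 q11177 L168316 q10167, e3 q11178 (flp_g L192259) q14435, e3 q11179 L168330 q11007, e3 q11180 (flp_g L199389) q15433, e3 q11181 L199401 q15437, e3 q11182 L199411 q15439, e3 q11183 (flp_g L168342) q7134, e3 q11184 L168352 q8622, e3 q11185 (flp_g L198811) q15326, e3 q11186 L199425 q15443, e3 q11187 (flp_g L168364) q7136, e3 q11188 (flp_g L195628) q14878, e3 q11189 (flp_g L168380) q7138, e3 q11190 L199461 q15448, e3 q11191 (flp_g L168393) q8682, e3 q11192 L199496 q15452, e3 q11193 L199511 q15454, e3 q11194 L199520 q15456, e3 q11195 (flp_g L168405) q7142, e3 q11196 L168454 q11200, e3 q11197 L199544 q15460, e3 q11198 (flp_g L168424) q7144, e3 q11199 L168436 q7146, trivial⟩ (by decide +kernel)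

theorem ce_g_175 : ∀ r, r < 64 → sm gg (Qf (11200 + r)) = Qf (tab Gen.g (11200 + r)) :=
  edges_tab (sm gg) Qf (tab Gen.g) 11200 [(11200, 11196), (11201, 15462), (11202, 10106), (11203, 9939), (11204, 15471), (11205, 14205), (11206, 7147), (11207, 15475), (11208, 11236), (11209, 15479), (11210, 15480), (11211, 7149), (11212, 15461), (11213, 7152), (11214, 7153), (11215, 11217), (11216, 15484), (11217, 11215), (11218, 15485), (11219, 15494), (11220, 7154), (11221, 7155), (11222, 7160), (11223, 15499), (11224, 15503), (11225, 15504), (11226, 7157), (11227, 15507), (11228, 7158), (11229, 15505), (11230, 15495), (11231, 15411), (11232, 15517), (11233, 7161), (11234, 7162), (11235, 11235), (11236, 11208), (11237, 11129), (11238, 15511), (11239, 14416), (11240, 15530), (11241, 7166), (11242, 11441), (11243, 7169), (11244, 7175), (11245, 9081), (11246, 7171), (11247, 7172), (11248, 15532), (11249, 10122), (11250, 9096), (11251, 15534), (11252, 15535), (11253, 15551), (11254, 15553), (11255, 14349), (11256, 7199), (11257,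 7201), (11258, 11284), (11259, 7300), (11260, 11260), (11261, 7184), (11262, 7185), (11263, 7194)]
    ⟨e3 q11200 (flp_g L168454) q11196, e3 q11201 (flp_g L199562) q15462, e3 q11202 (flp_g L168452) q10106, e3 q11203 (flp_g L168468) q9939, e3 q11204 L199618 q15471, e3 q11205 (flp_g L190689) q14205, e3 q11206 (flp_g L168482) q7147, e3 q11207 L199648 q15475, e3 q11208 (flp_g L168668) q11236, e3 q11209 L199670 q15479, e3 q11210 L199678 q15480, e3 q11211 (flp_g L168512) q7149, e3 q11212 (flp_g L199556) q15461, e3 q11213 L168526 q7152, e3 q11214 L168534 q7153, e3 q11215 L168556 q11217, e3 q11216 (flp_g L199706) q15484, e3 q11217 (flp_g L168556) q11215, e3 q11218 (flp_g L199710) q15485, e3 q11219 L199748 q15494, e3 q11220 (flp_g L168566) q7154, e3 q11221 (flp_g L168576) q7155, e3 q11222 L168598 q7160, e3 q11223 L199785 q15499, e3 q11224 L199807 q15503, e3 q11225 L199811 q15504, e3 q11226 (flp_g L168612) q7157, e3 q11227 L199831 q15507, e3 q11228 (flp_g L168622) q7158, e3 q11229 (flp_g L199821) q15505, e3 q11230 (flp_g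 L199762) q15495, e3 q11231 L230853 q15411, e3 q11232 L199883 q15517, e3 q11233 (flp_g L168645) q7161, e3 q11234 (flp_g L168649) q7162, e3 q11235 L168659 q11235, e3 q11236 L168668 q11208, e3 q11237 L168678 q11129, e3 q11238 L199863 q15511, e3 q11239 (flp_g L192135) q14416, e3 q11240 L199977 q15530, e3 q11241 (flp_g L168698) q7166, e3 q11242 (flp_g L169978) q11441, e3 q11243 (flp_g L168718) q7169, e3 q11244 L168728 q7175, e3 q11245 L168738 q9081, e3 q11246 (flp_g L168742) q7171, e3 q11247 (flp_g L168750) q7172, e3 q11248 (flp_g L199999) q15532, e3 q11249 L168772 q10122, e3 q11250 L168778 q9096, e3 q11251 (flp_g L200019) q15534, e3 q11252 (flp_g L200027) q15535, e3 q11253 L200131 q15551, e3 q11254 L200147 q15553, e3 q11255 (flp_g L191674) q14349, e3 q11256 L168814 q7199, e3 q11257 L168818 q7201, e3 q11258 (flp_g L168989) q11284, e3 q11259 L168834 q7300, e3 q11260 L168840 q11260, e3 q11261 (flp_g L168841) q7184, e3 q11262 (flp_g L168847) q7185, e3 q11263 L168859 q7194, trivial⟩ (by decide +kernel)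

theorem ce_g_176 : ∀ r, r < 64 → sm gg (Qf (11264 + r)) = Qf (tab Gen.g (11264 + r)) :=
  edges_tab (sm gg) Qf (tab Gen.g) 11264 [(11264, 8351), (11265, 15216), (11266, 7195), (11267, 7196), (11268, 13057), (11269, 7190), (11270, 12561), (11271, 15564), (11272, 15566), (11273, 15567), (11274, 15579), (11275, 15563), (11276, 15570), (11277, 10945), (11278, 15571), (11279, 12284), (11280, 7197), (11281, 10852), (11282, 11515), (11283, 15555), (11284, 11258), (11285, 15556), (11286, 15557), (11287, 14383), (11288, 15600), (11289, 15602), (11290, 11299), (11291, 7203), (11292, 15604), (11293, 15605), (11294, 15606), (11295, 7204), (11296, 7205), (11297, 7206), (11298, 7211), (11299, 11290), (11300, 7208), (11301, 15607), (11302, 12956), (11303, 7370), (11304, 11563), (11305, 13387), (11306, 15619), (11307, 15119), (11308, 15623), (11309, 15625), (11310, 7217), (11311, 15569), (11312, 8566), (11313, 15629), (11314, 7218), (11315, 11321), (11316, 14535), (11317, 15632), (11318, 7220), (11319, 15634), (11320, 7221), (11321,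 11315), (11322, 13878), (11323, 15642), (11324, 15646), (11325, 11077), (11326, 7224), (11327, 15649)]
    ⟨e3 q11264 L168869 q8351, e3 q11265 (flp_g L198047) q15216, e3 q11266 L168881 q7195, e3 q11267 L168887 q7196, e3 q11268 (flp_g L181839) q13057, e3 q11269 (flp_g L168901) q7190, e3 q11270 L178265 q12561, e3 q11271 (flp_g L200227) q15564, e3 q11272 (flp_g L200237) q15566, e3 q11273 (flp_g L200241) q15567, e3 q11274 L200321 q15579, e3 q11275 (flp_g L200217) q15563, e3 q11276 (flp_g L200269) q15570, e3 q11277 (flp_g L168943) q10945, e3 q11278 (flp_g L200275) q15571, e3 q11279 (flp_g L175861) q12284, e3 q11280 (flp_g L168957) q7197, e3 q11281 L168971 q10852, e3 q11282 L170450 q11515, e3 q11283 (flp_g L200167) q15555, e3 q11284 L168989 q11258, e3 q11285 (flp_g L200171) q15556, e3 q11286 (flp_g L200175) q15557, e3 q11287 (flp_g L191900) q14383, e3 q11288 L200439 q15600, e3 q11289 L200459 q15602, e3 q11290 (flp_g L169093) q11299, e3 q11291 (flp_g L169021) q7203, e3 q11292 L200479 q15604, e3 q11293 L200487 q15605, e3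 q11294 L200497 q15606, e3 q11295 (flp_g L169051) q7204, e3 q11296 (flp_g L169055) q7205, e3 q11297 (flp_g L169067) q7206, e3 q11298 L169081 q7211, e3 q11299 L169093 q11290, e3 q11300 (flp_g L169097) q7208, e3 q11301 (flp_g L200511) q15607, e3 q11302 (flp_g L181155) q12956, e3 q11303 L169119 q7370, e3 q11304 L170752 q11563, e3 q11305 (flp_g L184187) q13387, e3 q11306 L200609 q15619, e3 q11307 (flp_g L197459) q15119, e3 q11308 L200641 q15623, e3 q11309 L200657 q15625, e3 q11310 (flp_g L169151) q7217, e3 q11311 (flp_g L200255) q15569, e3 q11312 (flp_g L169165) q8566, e3 q11313 L200693 q15629, e3 q11314 (flp_g L169171) q7218, e3 q11315 (flp_g L169225) q11321, e3 q11316 L192905 q14535, e3 q11317 L200721 q15632, e3 q11318 (flp_g L169199) q7220, e3 q11319 L200737 q15634, e3 q11320 (flp_g L169213) q7221, e3 q11321 L169225 q11315, e3 q11322 (flp_g L188195) q13878, e3 q11323 L200811 q15642, e3 q11324 L200837 q15646, e3 q11325 (flp_g L169251) q11077, e3 q11326 (flp_g L169253) q7224, e3 q11327 L200858 q15649, trivial⟩ (by decide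 +kernel)

theorem ce_g_177 : ∀ r, r < 64 → sm gg (Qf (11328 + r)) = Qf (tab Gen.g (11328 + r)) :=
  edges_tab (sm gg) Qf (tab Gen.g) 11328 [(11328, 15653), (11329, 15654), (11330, 7227), (11331, 7254), (11332, 7255), (11333, 15661), (11334, 7260), (11335, 7261), (11336, 11379), (11337, 11380), (11338, 15669), (11339, 15672), (11340, 15674), (11341, 7232), (11342, 11351), (11343, 15677), (11344, 7234), (11345, 15681), (11346, 7236), (11347, 15684), (11348, 15685), (11349, 7238), (11350, 15635), (11351, 11342), (11352, 15692), (11353, 15694), (11354, 7901), (11355, 7241), (11356, 15698), (11357, 15701), (11358, 15703), (11359, 7244), (11360, 11520), (11361, 15123), (11362, 7245), (11363, 15710), (11364, 15704), (11365, 10892), (11366, 15713), (11367, 15716), (11368, 11376), (11369, 7250), (11370, 15721), (11371, 15723), (11372, 15725), (11373, 7251), (11374, 15727), (11375, 7252), (11376, 11368), (11377, 15731), (11378, 15656), (11379, 11336), (11380, 11337), (11381, 15736), (11382, 14530), (11383, 7257), (11384,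 15063), (11385, 15745), (11386, 15749), (11387, 15752), (11388, 15754), (11389, 7259), (11390, 15662), (11391, 15375)]
    ⟨e3 q11328 L200878 q15653, e3 q11329 L200884 q15654, e3 q11330 (flp_g L169277) q7227, e3 q11331 L169287 q7254, e3 q11332 L169295 q7255, e3 q11333 L200916 q15661, e3 q11334 L169305 q7260, e3 q11335 L169313 q7261, e3 q11336 L169579 q11379, e3 q11337 L169589 q11380, e3 q11338 L200954 q15669, e3 q11339 L200976 q15672, e3 q11340 L200996 q15674, e3 q11341 (flp_g L169339) q7232, e3 q11342 (flp_g L169407) q11351, e3 q11343 L201030 q15677, e3 q11344 (flp_g L169359) q7234, e3 q11345 L201076 q15681, e3 q11346 (flp_g L169371) q7236, e3 q11347 L201099 q15684, e3 q11348 L201103 q15685, e3 q11349 (flp_g L169389) q7238, e3 q11350 (flp_g L200755) q15635, e3 q11351 L169407 q11342, e3 q11352 L201153 q15692, e3 q11353 L201171 q15694, e3 q11354 L169429 q7901, e3 q11355 (flp_g L169431) q7241, e3 q11356 L201209 q15698, e3 q11357 L201239 q15701, e3 q11358 L201251 q15703, e3 q11359 (flp_g L169461) q7244, e3 q11360 L170488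 q11520, e3 q11361 (flp_g L197493) q15123, e3 q11362 (flp_g L169479) q7245, e3 q11363 L201302 q15710, e3 q11364 (flp_g L201265) q15704, e3 q11365 L169499 q10892, e3 q11366 L201326 q15713, e3 q11367 L201346 q15716, e3 q11368 (flp_g L169559) q11376, e3 q11369 (flp_g L169519) q7250, e3 q11370 L201370 q15721, e3 q11371 L201380 q15723, e3 q11372 L201392 q15725, e3 q11373 (flp_g L169537) q7251, e3 q11374 L201406 q15727, e3 q11375 (flp_g L169547) q7252, e3 q11376 L169559 q11368, e3 q11377 L201424 q15731, e3 q11378 (flp_g L200902) q15656, e3 q11379 (flp_g L169579) q11336, e3 q11380 (flp_g L169589) q11337, e3 q11381 L201454 q15736, e3 q11382 (flp_g L192861) q14530, e3 q11383 (flp_g L169601) q7257, e3 q11384 (flp_g L197113) q15063, e3 q11385 L201510 q15745, e3 q11386 L201528 q15749, e3 q11387 L201542 q15752, e3 q11388 L201552 q15754, e3 q11389 (flp_g L169627) q7259, e3 q11390 (flp_g L200928) q15662, e3 q11391 (flp_g L199090) q15375, trivial⟩ (by decide +kernel)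

theorem ce_g_178 : ∀ r, r < 64 → sm gg (Qf (11392 + r)) = Qf (tab Gen.g (11392 + r)) :=
  edges_tab (sm gg) Qf (tab Gen.g) 11392 [(11392, 15663), (11393, 15762), (11394, 15763), (11395, 7262), (11396, 7263), (11397, 14583), (11398, 14585), (11399, 14586), (11400, 15772), (11401, 10184), (11402, 11101), (11403, 10850), (11404, 15777), (11405, 15709), (11406, 7272), (11407, 13237), (11408, 15782), (11409, 7274), (11410, 10155), (11411, 15787), (11412, 15789), (11413, 7276), (11414, 11486), (11415, 15794), (11416, 10041), (11417, 15798), (11418, 7280), (11419, 10015), (11420, 15803), (11421, 14832), (11422, 15121), (11423, 7286), (11424, 8383), (11425, 11440), (11426, 15122), (11427, 11470), (11428, 14879), (11429, 7291), (11430, 12914), (11431, 15813), (11432, 15816), (11433, 15818), (11434, 7295), (11435, 15801), (11436, 15823), (11437, 7296), (11438, 15826), (11439, 7297), (11440, 11425), (11441, 11242), (11442, 12135), (11443, 15560), (11444, 15834), (11445, 15835), (11446, 7301), (11447, 12230), (11448, 15840),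 (11449, 11458), (11450, 7303), (11451, 15842), (11452, 8632), (11453, 15609), (11454, 7304), (11455, 8958)]
    ⟨e3 q11392 (flp_g L200932) q15663, e3 q11393 L201594 q15762, e3 q11394 L201606 q15763, e3 q11395 (flp_g L169655) q7262, e3 q11396 (flp_g L169663) q7263, e3 q11397 (flp_g L193197) q14583, e3 q11398 (flp_g L193213) q14585, e3 q11399 (flp_g L193221) q14586, e3 q11400 L201650 q15772, e3 q11401 L169701 q10184, e3 q11402 L169715 q11101, e3 q11403 L169725 q10850, e3 q11404 L201700 q15777, e3 q11405 L201300 q15709, e3 q11406 (flp_g L169741) q7272, e3 q11407 L183022 q13237, e3 q11408 L201736 q15782, e3 q11409 (flp_g L169765) q7274, e3 q11410 L169783 q10155, e3 q11411 L201770 q15787, e3 q11412 L201786 q15789, e3 q11413 (flp_g L169795) q7276, e3 q11414 L173996 q11486, e3 q11415 L201834 q15794, e3 q11416 L169817 q10041, e3 q11417 L201858 q15798, e3 q11418 (flp_g L169823) q7280, e3 q11419 L169839 q10015, e3 q11420 L201894 q15803, e3 q11421 (flp_g L195221) q14832, e3 q11422 (flp_g L197477) q15121, e3 q11423 (flp_g L169858)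 q7286, e3 q11424 L169876 q8383, e3 q11425 (flp_g L169968) q11440, e3 q11426 (flp_g L197485) q15122, e3 q11427 (flp_g L172194) q11470, e3 q11428 (flp_g L195641) q14879, e3 q11429 (flp_g L169898) q7291, e3 q11430 (flp_g L180859) q12914, e3 q11431 L201966 q15813, e3 q11432 L201982 q15816, e3 q11433 L202000 q15818, e3 q11434 (flp_g L169926) q7295, e3 q11435 L201885 q15801, e3 q11436 L202028 q15823, e3 q11437 (flp_g L169942) q7296, e3 q11438 L202046 q15826, e3 q11439 (flp_g L169956) q7297, e3 q11440 L169968 q11425, e3 q11441 L169978 q11242, e3 q11442 (flp_g L174819) q12135, e3 q11443 (flp_g L200193) q15560, e3 q11444 L202090 q15834, e3 q11445 L202094 q15835, e3 q11446 (flp_g L170002) q7301, e3 q11447 L175505 q12230, e3 q11448 L202134 q15840, e3 q11449 (flp_g L170100) q11458, e3 q11450 (flp_g L170024) q7303, e3 q11451 L202154 q15842, e3 q11452 (flp_g L170046) q8632, e3 q11453 (flp_g L200533) q15609, e3 q11454 (flp_g L170052) q7304, e3 q11455 L170068 q8958, trivial⟩ (by decide +kernel)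

theorem ce_g_179 : ∀ r, r < 64 → sm gg (Qf (11456 + r)) = Qf (tab Gen.g (11456 + r)) :=
  edges_tab (sm gg) Qf (tab Gen.g) 11456 [(11456, 8639), (11457, 7306), (11458, 11449), (11459, 12937), (11460, 12867), (11461, 12853), (11462, 11616), (11463, 7313), (11464, 15847), (11465, 15853), (11466, 7317), (11467, 15854), (11468, 15855), (11469, 15860), (11470, 11427), (11471, 14316), (11472, 15269), (11473, 7318), (11474, 7320), (11475, 7321), (11476, 15864), (11477, 10965), (11478, 15865), (11479, 15870), (11480, 7322), (11481, 9943), (11482, 15876), (11483, 15880), (11484, 11969), (11485, 7324), (11486, 11414), (11487, 15885), (11488, 15791), (11489, 7327), (11490, 11554), (11491, 11555), (11492, 15891), (11493, 15519), (11494, 15894), (11495, 7329), (11496, 7330), (11497, 14688), (11498, 14690), (11499, 14691), (11500, 15905), (11501, 7336), (11502, 7338), (11503, 11505), (11504, 15906), (11505, 11503), (11506, 13135), (11507, 10750), (11508, 15917), (11509, 15918), (11510, 7339), (11511, 15922), (11512, 15705),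 (11513, 10946), (11514, 7341), (11515, 11282), (11516, 15930), (11517, 11930), (11518, 7344), (11519, 15693)]
    ⟨e3 q11456 L170080 q8639, e3 q11457 (flp_g L170082) q7306, e3 q11458 L170100 q11449, e3 q11459 (flp_g L181021) q12937, e3 q11460 L180565 q12867, e3 q11461 L180439 q12853, e3 q11462 (flp_g L171103) q11616, e3 q11463 (flp_g L170126) q7313, e3 q11464 (flp_g L202206) q15847, e3 q11465 L202252 q15853, e3 q11466 L170148 q7317, e3 q11467 (flp_g L202262) q15854, e3 q11468 (flp_g L202268) q15855, e3 q11469 L202308 q15860, e3 q11470 L172194 q11427, e3 q11471 L191421 q14316, e3 q11472 (flp_g L198404) q15269, e3 q11473 (flp_g L170180) q7318, e3 q11474 L170188 q7320, e3 q11475 L170194 q7321, e3 q11476 (flp_g L202350) q15864, e3 q11477 (flp_g L170210) q10965, e3 q11478 (flp_g L202358) q15865, e3 q11479 L202402 q15870, e3 q11480 (flp_g L170224) q7322, e3 q11481 L170238 q9943, e3 q11482 L202450 q15876, e3 q11483 L202476 q15880, e3 q11484 (flp_g L173568) q11969, e3 q11485 (flp_g L170254) q7324, e3 q11486 (flp_g L173996)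 q11414, e3 q11487 L202525 q15885, e3 q11488 L201812 q15791, e3 q11489 (flp_g L170278) q7327, e3 q11490 (flp_g L170676) q11554, e3 q11491 (flp_g L170686) q11555, e3 q11492 L202567 q15891, e3 q11493 (flp_g L199899) q15519, e3 q11494 L202581 q15894, e3 q11495 (flp_g L170314) q7329, e3 q11496 (flp_g L170318) q7330, e3 q11497 (flp_g L193921) q14688, e3 q11498 (flp_g L193933) q14690, e3 q11499 (flp_g L193941) q14691, e3 q11500 L202655 q15905, e3 q11501 L170348 q7336, e3 q11502 L170354 q7338, e3 q11503 L170378 q11505, e3 q11504 (flp_g L202671) q15906, e3 q11505 (flp_g L170378) q11503, e3 q11506 L183553 q13135, e3 q11507 L170384 q10750, e3 q11508 L202768 q15917, e3 q11509 L202776 q15918, e3 q11510 (flp_g L170398) q7339, e3 q11511 L202802 q15922, e3 q11512 (flp_g L201278) q15705, e3 q11513 L170430 q10946, e3 q11514 (flp_g L170432) q7341, e3 q11515 (flp_g L170450) q11282, e3 q11516 L202888 q15930, e3 q11517 (flp_g L173300) q11930, e3 q11518 (flp_g L170464) q7344, e3 q11519 (flp_g L201169) q15693, trivial⟩ (by decide +kernel)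

theorem ce_g_180 : ∀ r, r < 64 → sm gg (Qf (11520 + r)) = Qf (tab Gen.g (11520 + r)) :=
  edges_tab (sm gg) Qf (tab Gen.g) 11520 [(11520, 11360), (11521, 7345), (11522, 15881), (11523, 15932), (11524, 7358), (11525, 15030), (11526, 15942), (11527, 11535), (11528, 7350), (11529, 15947), (11530, 15949), (11531, 15950), (11532, 7351), (11533, 7352), (11534, 7357), (11535, 11527), (11536, 15730), (11537, 15958), (11538, 7354), (11539, 7355), (11540, 15951), (11541, 14645), (11542, 15963), (11543, 15937), (11544, 15970), (11545, 15974), (11546, 15977), (11547, 15978), (11548, 7359), (11549, 15982), (11550, 7360), (11551, 15985), (11552, 7361), (11553, 15979), (11554, 11490), (11555, 11491), (11556, 15993), (11557, 15995), (11558, 15996), (11559, 7365), (11560, 10678), (11561, 7367), (11562, 7369), (11563, 11304), (11564, 7372), (11565, 11565), (11566, 7374), (11567, 7375), (11568, 8309), (11569, 11569), (11570, 11570), (11571, 15637), (11572, 16009), (11573, 12082), (11574, 7378), (11575, 9633), (11576, 16014), (11577,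 11584), (11578, 7380), (11579, 16019), (11580, 16021), (11581, 16022), (11582, 7381), (11583, 7382)]
    ⟨e3 q11520 (flp_g L170488) q11360, e3 q11521 (flp_g L170490) q7345, e3 q11522 (flp_g L202494) q15881, e3 q11523 (flp_g L202911) q15932, e3 q11524 L170510 q7358, e3 q11525 (flp_g L196915) q15030, e3 q11526 L202981 q15942, e3 q11527 (flp_g L170574) q11535, e3 q11528 (flp_g L170530) q7350, e3 q11529 L203007 q15947, e3 q11530 L203017 q15949, e3 q11531 L203023 q15950, e3 q11532 (flp_g L170552) q7351, e3 q11533 (flp_g L170556) q7352, e3 q11534 L170566 q7357, e3 q11535 L170574 q11527, e3 q11536 (flp_g L230900) q15730, e3 q11537 L203071 q15958, e3 q11538 (flp_g L170586) q7354, e3 q11539 (flp_g L170596) q7355, e3 q11540 (flp_g L203033) q15951, e3 q11541 (flp_g L193609) q14645, e3 q11542 L203105 q15963, e3 q11543 (flp_g L202951) q15937, e3 q11544 L203147 q15970, e3 q11545 L203165 q15974, e3 q11546 L203179 q15977, e3 q11547 L203185 q15978, e3 q11548 (flp_g L170642) q7359, e3 q11549 L203209 q15982, e3 q11550 (flp_g L170652)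 q7360, e3 q11551 L203223 q15985, e3 q11552 (flp_g L170662) q7361, e3 q11553 (flp_g L203193) q15979, e3 q11554 L170676 q11490, e3 q11555 L170686 q11491, e3 q11556 L203259 q15993, e3 q11557 L203273 q15995, e3 q11558 L203281 q15996, e3 q11559 (flp_g L170702) q7365, e3 q11560 L170716 q10678, e3 q11561 (flp_g L170720) q7367, e3 q11562 (flp_g L170732) q7369, e3 q11563 (flp_g L170752) q11304, e3 q11564 (flp_g L170754) q7372, e3 q11565 L170770 q11565, e3 q11566 (flp_g L170771) q7374, e3 q11567 (flp_g L170781) q7375, e3 q11568 L170799 q8309, e3 q11569 L170807 q11569, e3 q11570 L170812 q11570, e3 q11571 (flp_g L200781) q15637, e3 q11572 L203387 q16009, e3 q11573 (flp_g L174348) q12082, e3 q11574 (flp_g L170829) q7378, e3 q11575 L170841 q9633, e3 q11576 L203421 q16014, e3 q11577 (flp_g L170901) q11584, e3 q11578 (flp_g L170857) q7380, e3 q11579 L203443 q16019, e3 q11580 L203457 q16021, e3 q11581 L203465 q16022, e3 q11582 (flp_g L170879) q7381, e3 q11583 (flp_g L170885) q7382, trivial⟩ (by decide +kernel)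

theorem ce_g_181 : ∀ r, r < 64 → sm gg (Qf (11584 + r)) = Qf (tab Gen.g (11584 + r)) :=
  edges_tab (sm gg) Qf (tab Gen.g) 11584 [(11584, 11577), (11585, 16027), (11586, 9635), (11587, 16031), (11588, 16033), (11589, 7386), (11590, 16039), (11591, 16041), (11592, 11603), (11593, 7387), (11594, 15543), (11595, 10888), (11596, 16048), (11597, 16051), (11598, 16053), (11599, 7390), (11600, 16056), (11601, 7391), (11602, 7392), (11603, 11592), (11604, 14566), (11605, 16064), (11606, 16067), (11607, 16069), (11608, 11613), (11609, 7396), (11610, 16072), (11611, 7397), (11612, 7398), (11613, 11608), (11614, 8316), (11615, 7401), (11616, 11462), (11617, 16079), (11618, 10954), (11619, 13658), (11620, 7407), (11621, 15871), (11622, 16081), (11623, 7408), (11624, 16085), (11625, 16086), (11626, 7409), (11627, 7416), (11628, 16090), (11629, 11636), (11630, 7411), (11631, 16095), (11632, 16097), (11633, 16098), (11634, 7412), (11635, 7413), (11636, 11629), (11637, 16103), (11638, 11679), (11639, 16107), (11640, 16108), (11641,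 7417), (11642, 16115), (11643, 16117), (11644, 11655), (11645, 7418), (11646, 14321), (11647, 16109)]
    ⟨e3 q11584 L170901 q11577, e3 q11585 L203491 q16027, e3 q11586 L170909 q9635, e3 q11587 L203511 q16031, e3 q11588 L203529 q16033, e3 q11589 (flp_g L170919) q7386, e3 q11590 L203567 q16039, e3 q11591 L203583 q16041, e3 q11592 (flp_g L171007) q11603, e3 q11593 (flp_g L170941) q7387, e3 q11594 (flp_g L200075) q15543, e3 q11595 L170959 q10888, e3 q11596 L203631 q16048, e3 q11597 L203645 q16051, e3 q11598 L203657 q16053, e3 q11599 (flp_g L170977) q7390, e3 q11600 L203677 q16056, e3 q11601 (flp_g L170987) q7391, e3 q11602 (flp_g L170995) q7392, e3 q11603 L171007 q11592, e3 q11604 (flp_g L193107) q14566, e3 q11605 L203739 q16064, e3 q11606 L203755 q16067, e3 q11607 L203769 q16069, e3 q11608 (flp_g L171069) q11613, e3 q11609 (flp_g L171035) q7396, e3 q11610 L203789 q16072, e3 q11611 (flp_g L171049) q7397, e3 q11612 (flp_g L171057) q7398, e3 q11613 L171069 q11608, e3 q11614 (flp_g L171079) q8316, e3 q11615 (flp_g L171081)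 q7401, e3 q11616 L171103 q11462, e3 q11617 L203846 q16079, e3 q11618 (flp_g L171118) q10954, e3 q11619 (flp_g L186427) q13658, e3 q11620 (flp_g L171130) q7407, e3 q11621 (flp_g L202422) q15871, e3 q11622 L203859 q16081, e3 q11623 (flp_g L171152) q7408, e3 q11624 L203883 q16085, e3 q11625 L203893 q16086, e3 q11626 (flp_g L171170) q7409, e3 q11627 L171184 q7416, e3 q11628 L203923 q16090, e3 q11629 (flp_g L171244) q11636, e3 q11630 (flp_g L171202) q7411, e3 q11631 L203943 q16095, e3 q11632 L203955 q16097, e3 q11633 L203965 q16098, e3 q11634 (flp_g L171224) q7412, e3 q11635 (flp_g L171228) q7413, e3 q11636 L171244 q11629, e3 q11637 L203993 q16103, e3 q11638 (flp_g L171474) q11679, e3 q11639 L204013 q16107, e3 q11640 L204017 q16108, e3 q11641 (flp_g L171264) q7417, e3 q11642 L204071 q16115, e3 q11643 L204085 q16117, e3 q11644 (flp_g L171350) q11655, e3 q11645 (flp_g L171284) q7418, e3 q11646 (flp_g L191471) q14321, e3 q11647 (flp_g L204031) q16109, trivial⟩ (by decide +kernel)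

theorem ce_g_182 : ∀ r, r < 64 → sm gg (Qf (11648 + r)) = Qf (tab Gen.g (11648 + r)) :=
  edges_tab (sm gg) Qf (tab Gen.g) 11648 [(11648, 16124), (11649, 16127), (11650, 16129), (11651, 7421), (11652, 16132), (11653, 7422), (11654, 7423), (11655, 11644), (11656, 9608), (11657, 16140), (11658, 16143), (11659, 16145), (11660, 11665), (11661, 7427), (11662, 16148), (11663, 7428), (11664, 7429), (11665, 11660), (11666, 11673), (11667, 16156), (11668, 16160), (11669, 16164), (11670, 16165), (11671, 7433), (11672, 9648), (11673, 11666), (11674, 16171), (11675, 16175), (11676, 16179), (11677, 16180), (11678, 7437), (11679, 11638), (11680, 7442), (11681, 7478), (11682, 15845), (11683, 7447), (11684, 12241), (11685, 14697), (11686, 11872), (11687, 7905), (11688, 11688), (11689, 7457), (11690, 7637), (11691, 11691), (11692, 16185), (11693, 16186), (11694, 7469), (11695, 11695), (11696, 11696), (11697, 11714), (11698, 7481), (11699, 7909), (11700, 7906), (11701, 13104), (11702, 12182), (11703, 7516), (11704, 11719), (11705,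 7762), (11706, 11989), (11707, 16193), (11708, 7494), (11709, 7500), (11710, 7502), (11711, 11864)]
    ⟨e3 q11648 L204135 q16124, e3 q11649 L204149 q16127, e3 q11650 L204161 q16129, e3 q11651 (flp_g L171320) q7421, e3 q11652 L204181 q16132, e3 q11653 (flp_g L171332) q7422, e3 q11654 (flp_g L171338) q7423, e3 q11655 L171350 q11644, e3 q11656 L171356 q9608, e3 q11657 L204241 q16140, e3 q11658 L204259 q16143, e3 q11659 L204271 q16145, e3 q11660 (flp_g L171412) q11665, e3 q11661 (flp_g L171378) q7427, e3 q11662 L204293 q16148, e3 q11663 (flp_g L171392) q7428, e3 q11664 (flp_g L171400) q7429, e3 q11665 L171412 q11660, e3 q11666 (flp_g L171448) q11673, e3 q11667 L204348 q16156, e3 q11668 L204366 q16160, e3 q11669 L204388 q16164, e3 q11670 L204394 q16165, e3 q11671 (flp_g L171429) q7433, e3 q11672 L171441 q9648, e3 q11673 L171448 q11666, e3 q11674 L204435 q16171, e3 q11675 L204453 q16175, e3 q11676 L204475 q16179, e3 q11677 L204481 q16180, e3 q11678 (flp_g L171464) q7437, e3 q11679 L171474 q11638, e3 q11680 (flp_g L171476)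 q7442, e3 q11681 L171494 q7478, e3 q11682 (flp_g L202184) q15845, e3 q11683 (flp_g L171500) q7447, e3 q11684 (flp_g L175569) q12241, e3 q11685 (flp_g L193987) q14697, e3 q11686 (flp_g L172849) q11872, e3 q11687 L171524 q7905, e3 q11688 L171534 q11688, e3 q11689 (flp_g L171538) q7457, e3 q11690 L171556 q7637, e3 q11691 L171566 q11691, e3 q11692 L204523 q16185, e3 q11693 L204533 q16186, e3 q11694 (flp_g L171581) q7469, e3 q11695 L171596 q11695, e3 q11696 L171603 q11696, e3 q11697 (flp_g L171739) q11714, e3 q11698 (flp_g L171616) q7481, e3 q11699 L171630 q7909, e3 q11700 L171638 q7906, e3 q11701 (flp_g L182175) q13104, e3 q11702 (flp_g L175154) q12182, e3 q11703 L171658 q7516, e3 q11704 L171776 q11719, e3 q11705 L171674 q7762, e3 q11706 (flp_g L173695) q11989, e3 q11707 L204601 q16193, e3 q11708 (flp_g L171688) q7494, e3 q11709 (flp_g L171694) q7500, e3 q11710 (flp_g L171700) q7502, e3 q11711 L172793 q11864, trivial⟩ (by decide +kernel)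

theorem ce_g_183 : ∀ r, r < 64 → sm gg (Qf (11712 + r)) = Qf (tab Gen.g (11712 + r)) :=
  edges_tab (sm gg) Qf (tab Gen.g) 11712 [(11712, 11869), (11713, 11713), (11714, 11697), (11715, 11715), (11716, 7543), (11717, 7683), (11718, 12273), (11719, 11704), (11720, 7809), (11721, 7813), (11722, 16200), (11723, 7520), (11724, 16203), (11725, 7521), (11726, 12111), (11727, 7529), (11728, 15002), (11729, 13390), (11730, 7533), (11731, 7534), (11732, 7647), (11733, 14745), (11734, 16195), (11735, 11735), (11736, 16198), (11737, 11737), (11738, 11738), (11739, 11808), (11740, 8017), (11741, 13335), (11742, 7553), (11743, 7548), (11744, 7559), (11745, 7560), (11746, 11756), (11747, 11757), (11748, 16213), (11749, 12288), (11750, 11793), (11751, 13336), (11752, 7555), (11753, 13011), (11754, 9000), (11755, 11768), (11756, 11746), (11757, 11747), (11758, 16224), (11759, 16225), (11760, 7562), (11761, 7563), (11762, 16226), (11763, 7564), (11764, 16229), (11765, 7565), (11766, 16230), (11767, 7568), (11768, 11755), (11769,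 12233), (11770, 11774), (11771, 7803), (11772, 13442), (11773, 7578), (11774, 11770), (11775, 7853)]
    ⟨e3 q11712 (flp_g L172829) q11869, e3 q11713 L171728 q11713, e3 q11714 L171739 q11697, e3 q11715 L171745 q11715, e3 q11716 L171752 q7543, e3 q11717 L171758 q7683, e3 q11718 L175779 q12273, e3 q11719 (flp_g L171776) q11704, e3 q11720 L171782 q7809, e3 q11721 L171788 q7813, e3 q11722 L204654 q16200, e3 q11723 (flp_g L171801) q7520, e3 q11724 L204681 q16203, e3 q11725 (flp_g L171816) q7521, e3 q11726 (flp_g L174603) q12111, e3 q11727 (flp_g L171834) q7529, e3 q11728 (flp_g L196699) q15002, e3 q11729 (flp_g L184221) q13390, e3 q11730 (flp_g L171868) q7533, e3 q11731 (flp_g L171876) q7534, e3 q11732 L171892 q7647, e3 q11733 (flp_g L194412) q14745, e3 q11734 (flp_g L204619) q16195, e3 q11735 L171921 q11735, e3 q11736 (flp_g L204646) q16198, e3 q11737 L171930 q11737, e3 q11738 L171937 q11738, e3 q11739 (flp_g L172416) q11808, e3 q11740 (flp_g L171948) q8017, e3 q11741 (flp_g L183799) q13335, e3 q11742 L171958 q7553,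 e3 q11743 (flp_g L171960) q7548, e3 q11744 L171972 q7559, e3 q11745 L171982 q7560, e3 q11746 L172049 q11756, e3 q11747 L172059 q11757, e3 q11748 L204780 q16213, e3 q11749 (flp_g L175887) q12288, e3 q11750 (flp_g L172305) q11793, e3 q11751 (flp_g L183811) q13336, e3 q11752 (flp_g L172013) q7555, e3 q11753 L181517 q13011, e3 q11754 L172035 q9000, e3 q11755 (flp_g L172119) q11768, e3 q11756 (flp_g L172049) q11746, e3 q11757 (flp_g L172059) q11747, e3 q11758 L204863 q16224, e3 q11759 L204871 q16225, e3 q11760 (flp_g L172071) q7562, e3 q11761 (flp_g L172077) q7563, e3 q11762 L204879 q16226, e3 q11763 (flp_g L172090) q7564, e3 q11764 L204896 q16229, e3 q11765 (flp_g L172101) q7565, e3 q11766 (flp_g L204904) q16230, e3 q11767 L172111 q7568, e3 q11768 L172119 q11755, e3 q11769 L175523 q12233, e3 q11770 (flp_g L172175) q11774, e3 q11771 L172143 q7803, e3 q11772 (flp_g L184591) q13442, e3 q11773 (flp_g L172155) q7578, e3 q11774 L172175 q11770, e3 q11775 L172186 q7853, trivial⟩ (by decide +kernel)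

theorem ce_g_184 : ∀ r, r < 64 → sm gg (Qf (11776 + r)) = Qf (tab Gen.g (11776 + r)) :=
  edges_tab (sm gg) Qf (tab Gen.g) 11776 [(11776, 11776), (11777, 7586), (11778, 16236), (11779, 7587), (11780, 16239), (11781, 16240), (11782, 7589), (11783, 7598), (11784, 16243), (11785, 11792), (11786, 7593), (11787, 11804), (11788, 11806), (11789, 7595), (11790, 7596), (11791, 16241), (11792, 11785), (11793, 11750), (11794, 9064), (11795, 9853), (11796, 16249), (11797, 7601), (11798, 7607), (11799, 7604), (11800, 7605), (11801, 16250), (11802, 11810), (11803, 7613), (11804, 11787), (11805, 11805), (11806, 11788), (11807, 11807), (11808, 11739), (11809, 16254), (11810, 11802), (11811, 16255), (11812, 14716), (11813, 12083), (11814, 7623), (11815, 7624), (11816, 11827), (11817, 13109), (11818, 13393), (11819, 13394), (11820, 16275), (11821, 16277), (11822, 7974), (11823, 9099), (11824, 12239), (11825, 9804), (11826, 16265), (11827, 11816), (11828, 16266), (11829, 12174), (11830, 7625), (11831, 12132), (11832, 7626), (11833,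 7662), (11834, 7664), (11835, 7665), (11836, 11875), (11837, 14134), (11838, 7827), (11839, 11851)]
    ⟨e3 q11776 L172201 q11776, e3 q11777 (flp_g L172206) q7586, e3 q11778 L204946 q16236, e3 q11779 (flp_g L172213) q7587, e3 q11780 L204976 q16239, e3 q11781 L204988 q16240, e3 q11782 (flp_g L172233) q7589, e3 q11783 L172247 q7598, e3 q11784 L205016 q16243, e3 q11785 (flp_g L172299) q11792, e3 q11786 (flp_g L172263) q7593, e3 q11787 (flp_g L172388) q11804, e3 q11788 (flp_g L172403) q11806, e3 q11789 (flp_g L172283) q7595, e3 q11790 (flp_g L172289) q7596, e3 q11791 (flp_g L205004) q16241, e3 q11792 L172299 q11785, e3 q11793 L172305 q11750, e3 q11794 L172314 q9064, e3 q11795 L172324 q9853, e3 q11796 L205075 q16249, e3 q11797 (flp_g L172332) q7601, e3 q11798 L172344 q7607, e3 q11799 (flp_g L172346) q7604, e3 q11800 (flp_g L172358) q7605, e3 q11801 (flp_g L205091) q16250, e3 q11802 (flp_g L172426) q11810, e3 q11803 (flp_g L172380) q7613, e3 q11804 L172388 q11787, e3 q11805 L172394 q11805, e3 q11806 L172403 q11788, e3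 q11807 L172409 q11807, e3 q11808 L172416 q11739, e3 q11809 L205117 q16254, e3 q11810 L172426 q11802, e3 q11811 (flp_g L205125) q16255, e3 q11812 (flp_g L194163) q14716, e3 q11813 (flp_g L174356) q12083, e3 q11814 L172450 q7623, e3 q11815 L172454 q7624, e3 q11816 L172527 q11827, e3 q11817 (flp_g L182219) q13109, e3 q11818 (flp_g L184234) q13393, e3 q11819 (flp_g L184238) q13394, e3 q11820 L205285 q16275, e3 q11821 L205302 q16277, e3 q11822 L172491 q7974, e3 q11823 L172499 q9099, e3 q11824 (flp_g L175555) q12239, e3 q11825 L172513 q9804, e3 q11826 (flp_g L205197) q16265, e3 q11827 (flp_g L172527) q11816, e3 q11828 (flp_g L205221) q16266, e3 q11829 (flp_g L175102) q12174, e3 q11830 (flp_g L172537) q7625, e3 q11831 L174791 q12132, e3 q11832 (flp_g L172549) q7626, e3 q11833 L172561 q7662, e3 q11834 L172571 q7664, e3 q11835 L172579 q7665, e3 q11836 (flp_g L172875) q11875, e3 q11837 L190105 q14134, e3 q11838 L172595 q7827, e3 q11839 (flp_g L172701) q11851, trivial⟩ (by decide +kernel)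

theorem ce_g_185 : ∀ r, r < 64 → sm gg (Qf (11840 + r)) = Qf (tab Gen.g (11840 + r)) :=
  edges_tab (sm gg) Qf (tab Gen.g) 11840 [(11840, 7632), (11841, 11854), (11842, 7633), (11843, 11843), (11844, 11844), (11845, 11845), (11846, 7654), (11847, 7638), (11848, 14998), (11849, 7639), (11850, 7640), (11851, 11839), (11852, 7642), (11853, 7651), (11854, 11841), (11855, 16204), (11856, 7652), (11857, 8532), (11858, 7687), (11859, 7655), (11860, 7657), (11861, 16291), (11862, 16295), (11863, 16287), (11864, 11711), (11865, 7653), (11866, 16289), (11867, 9878), (11868, 8011), (11869, 11712), (11870, 12168), (11871, 15691), (11872, 11686), (11873, 10330), (11874, 16280), (11875, 11836), (11876, 12131), (11877, 9684), (11878, 13981), (11879, 16281), (11880, 14327), (11881, 8019), (11882, 7667), (11883, 7668), (11884, 11884), (11885, 11885), (11886, 8208), (11887, 11887), (11888, 12098), (11889, 9361), (11890, 11890), (11891, 12101), (11892, 12099), (11893, 16315), (11894, 16196), (11895, 16318), (11896, 12106), (11897,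 7681), (11898, 16292), (11899, 16320), (11900, 12108), (11901, 7682), (11902, 7849), (11903, 7848)]
    ⟨e3 q11840 (flp_g L172608) q7632, e3 q11841 (flp_g L172723) q11854, e3 q11842 (flp_g L172628) q7633, e3 q11843 L172640 q11843, e3 q11844 L172643 q11844, e3 q11845 L172646 q11845, e3 q11846 (flp_g L172651) q7654, e3 q11847 (flp_g L172659) q7638, e3 q11848 (flp_g L196669) q14998, e3 q11849 (flp_g L172679) q7639, e3 q11850 (flp_g L172689) q7640, e3 q11851 L172701 q11839, e3 q11852 (flp_g L172705) q7642, e3 q11853 L172715 q7651, e3 q11854 L172723 q11841, e3 q11855 (flp_g L204697) q16204, e3 q11856 L172735 q7652, e3 q11857 L172741 q8532, e3 q11858 L172747 q7687, e3 q11859 L172759 q7655, e3 q11860 L172771 q7657, e3 q11861 (flp_g L205442) q16291, e3 q11862 L205476 q16295, e3 q11863 (flp_g L205405) q16287, e3 q11864 (flp_g L172793) q11711, e3 q11865 (flp_g L172797) q7653, e3 q11866 (flp_g L205430) q16289, e3 q11867 L172813 q9878, e3 q11868 L172819 q8011, e3 q11869 L172829 q11712, e3 q11870 (flp_g L175041) q12168, e3 q11871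 (flp_g L201151) q15691, e3 q11872 L172849 q11686, e3 q11873 L172857 q10330, e3 q11874 (flp_g L205338) q16280, e3 q11875 L172875 q11836, e3 q11876 L174783 q12131, e3 q11877 L172883 q9684, e3 q11878 (flp_g L188941) q13981, e3 q11879 (flp_g L205350) q16281, e3 q11880 (flp_g L191515) q14327, e3 q11881 (flp_g L172913) q8019, e3 q11882 (flp_g L172917) q7667, e3 q11883 (flp_g L172927) q7668, e3 q11884 L172941 q11884, e3 q11885 L172948 q11885, e3 q11886 L172963 q8208, e3 q11887 L172969 q11887, e3 q11888 (flp_g L174489) q12098, e3 q11889 L172982 q9361, e3 q11890 L172988 q11890, e3 q11891 (flp_g L174527) q12101, e3 q11892 (flp_g L174498) q12099, e3 q11893 L205653 q16315, e3 q11894 (flp_g L204625) q16196, e3 q11895 L205683 q16318, e3 q11896 L174561 q12106, e3 q11897 (flp_g L173028) q7681, e3 q11898 (flp_g L205452) q16292, e3 q11899 L205701 q16320, e3 q11900 L174575 q12108, e3 q11901 (flp_g L173050) q7682, e3 q11902 L173062 q7849, e3 q11903 L173072 q7848, trivial⟩ (by decide +kernel)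

theorem ce_g_186 : ∀ r, r < 64 → sm gg (Qf (11904 + r)) = Qf (tab Gen.g (11904 + r)) :=
  edges_tab (sm gg) Qf (tab Gen.g) 11904 [(11904, 7684), (11905, 8567), (11906, 7689), (11907, 7917), (11908, 8506), (11909, 10398), (11910, 7944), (11911, 14157), (11912, 7945), (11913, 11956), (11914, 12029), (11915, 7695), (11916, 11923), (11917, 12125), (11918, 7698), (11919, 8055), (11920, 10635), (11921, 7700), (11922, 7731), (11923, 11916), (11924, 7951), (11925, 12170), (11926, 14145), (11927, 12133), (11928, 16328), (11929, 7704), (11930, 11517), (11931, 16329), (11932, 13322), (11933, 7708), (11934, 16333), (11935, 16335), (11936, 16336), (11937, 7709), (11938, 7710), (11939, 7757), (11940, 16339), (11941, 16342), (11942, 12402), (11943, 7714), (11944, 7768), (11945, 7770), (11946, 11997), (11947, 16349), (11948, 16351), (11949, 16352), (11950, 7719), (11951, 13299), (11952, 10625), (11953, 7720), (11954, 10624), (11955, 7721), (11956, 11913), (11957, 10673), (11958, 10433), (11959, 13596), (11960, 10337), (11961,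 7729), (11962, 10782), (11963, 14081), (11964, 13958), (11965, 7733), (11966, 10297), (11967, 13966)]
    ⟨e3 q11904 (flp_g L173078) q7684, e3 q11905 L173094 q8567, e3 q11906 (flp_g L173100) q7689, e3 q11907 L173112 q7917, e3 q11908 L173120 q8506, e3 q11909 (flp_g L173124) q10398, e3 q11910 L173130 q7944, e3 q11911 (flp_g L190285) q14157, e3 q11912 L173146 q7945, e3 q11913 (flp_g L173453) q11956, e3 q11914 (flp_g L173927) q12029, e3 q11915 (flp_g L173160) q7695, e3 q11916 (flp_g L173246) q11923, e3 q11917 (flp_g L174711) q12125, e3 q11918 (flp_g L173180) q7698, e3 q11919 (flp_g L173200) q8055, e3 q11920 (flp_g L173210) q10635, e3 q11921 (flp_g L173212) q7700, e3 q11922 L173232 q7731, e3 q11923 L173246 q11916, e3 q11924 L173254 q7951, e3 q11925 (flp_g L175061) q12170, e3 q11926 (flp_g L190188) q14145, e3 q11927 (flp_g L174801) q12133, e3 q11928 L205777 q16328, e3 q11929 (flp_g L173290) q7704, e3 q11930 L173300 q11517, e3 q11931 (flp_g L205793) q16329, e3 q11932 L183711 q13322, e3 q11933 (flp_g L173321) q7708, e3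 q11934 L205814 q16333, e3 q11935 L205826 q16335, e3 q11936 L205834 q16336, e3 q11937 (flp_g L173337) q7709, e3 q11938 (flp_g L173343) q7710, e3 q11939 L173355 q7757, e3 q11940 L205858 q16339, e3 q11941 L205878 q16342, e3 q11942 L176839 q12402, e3 q11943 (flp_g L173367) q7714, e3 q11944 L173377 q7768, e3 q11945 L173381 q7770, e3 q11946 L173741 q11997, e3 q11947 L205922 q16349, e3 q11948 L205931 q16351, e3 q11949 L205937 q16352, e3 q11950 (flp_g L173399) q7719, e3 q11951 (flp_g L183519) q13299, e3 q11952 L173435 q10625, e3 q11953 (flp_g L173415) q7720, e3 q11954 L173431 q10624, e3 q11955 (flp_g L173439) q7721, e3 q11956 L173453 q11913, e3 q11957 L173465 q10673, e3 q11958 L173477 q10433, e3 q11959 (flp_g L185931) q13596, e3 q11960 L173495 q10337, e3 q11961 (flp_g L173498) q7729, e3 q11962 L173512 q10782, e3 q11963 (flp_g L189667) q14081, e3 q11964 (flp_g L188759) q13958, e3 q11965 (flp_g L173524) q7733, e3 q11966 L173538 q10297, e3 q11967 (flp_g L188823) q13966, trivial⟩ (by decide +kernel)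

theorem ce_g_187 : ∀ r, r < 64 → sm gg (Qf (11968 + r)) = Qf (tab Gen.g (11968 + r)) :=
  edges_tab (sm gg) Qf (tab Gen.g) 11968 [(11968, 7736), (11969, 11484), (11970, 12038), (11971, 7738), (11972, 7743), (11973, 16359), (11974, 16360), (11975, 7783), (11976, 7742), (11977, 9136), (11978, 16362), (11979, 7745), (11980, 16363), (11981, 7746), (11982, 14025), (11983, 12317), (11984, 16368), (11985, 7749), (11986, 16369), (11987, 7750), (11988, 7751), (11989, 11706), (11990, 16372), (11991, 7753), (11992, 16376), (11993, 16379), (11994, 16380), (11995, 7756), (11996, 16337), (11997, 11946), (11998, 14772), (11999, 8537), (12000, 16191), (12001, 16388), (12002, 16392), (12003, 16395), (12004, 12014), (12005, 7763), (12006, 16397), (12007, 16400), (12008, 16401), (12009, 7764), (12010, 16404), (12011, 16405), (12012, 7765), (12013, 7766), (12014, 12004), (12015, 16345), (12016, 12202), (12017, 16346), (12018, 16411), (12019, 7771), (12020, 13460), (12021, 14809), (12022, 8956), (12023, 13287), (12024, 14812), (12025,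 10490), (12026, 14813), (12027, 16420), (12028, 7777), (12029, 11914), (12030, 8908), (12031, 12042)]
    ⟨e3 q11968 (flp_g L173548) q7736, e3 q11969 L173568 q11484, e3 q11970 L173978 q12038, e3 q11971 (flp_g L173576) q7738, e3 q11972 L173588 q7743, e3 q11973 L205998 q16359, e3 q11974 L206010 q16360, e3 q11975 (flp_g L173609) q7783, e3 q11976 (flp_g L173611) q7742, e3 q11977 L173623 q9136, e3 q11978 L206028 q16362, e3 q11979 (flp_g L173631) q7745, e3 q11980 L206038 q16363, e3 q11981 (flp_g L173641) q7746, e3 q11982 (flp_g L189241) q14025, e3 q11983 (flp_g L176063) q12317, e3 q11984 L206076 q16368, e3 q11985 (flp_g L173659) q7749, e3 q11986 L206088 q16369, e3 q11987 (flp_g L173675) q7750, e3 q11988 (flp_g L173679) q7751, e3 q11989 L173695 q11706, e3 q11990 L206118 q16372, e3 q11991 (flp_g L173703) q7753, e3 q11992 L206152 q16376, e3 q11993 L206172 q16379, e3 q11994 L206176 q16380, e3 q11995 (flp_g L173723) q7756, e3 q11996 (flp_g L205850) q16337, e3 q11997 (flp_g L173741) q11946, e3 q11998 (flp_g L194661) q14772,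 e3 q11999 L173763 q8537, e3 q12000 (flp_g L204591) q16191, e3 q12001 L206252 q16388, e3 q12002 L206290 q16392, e3 q12003 L206312 q16395, e3 q12004 (flp_g L173837) q12014, e3 q12005 (flp_g L173787) q7763, e3 q12006 L206326 q16397, e3 q12007 L206346 q16400, e3 q12008 L206350 q16401, e3 q12009 (flp_g L173805) q7764, e3 q12010 L206374 q16404, e3 q12011 L206394 q16405, e3 q12012 (flp_g L173819) q7765, e3 q12013 (flp_g L173825) q7766, e3 q12014 L173837 q12004, e3 q12015 (flp_g L205905) q16345, e3 q12016 (flp_g L175278) q12202, e3 q12017 (flp_g L205911) q16346, e3 q12018 L206440 q16411, e3 q12019 (flp_g L173859) q7771, e3 q12020 (flp_g L184740) q13460, e3 q12021 (flp_g L195005) q14809, e3 q12022 L173879 q8956, e3 q12023 L183415 q13287, e3 q12024 (flp_g L195037) q14812, e3 q12025 (flp_g L173901) q10490, e3 q12026 (flp_g L195045) q14813, e3 q12027 L206524 q16420, e3 q12028 (flp_g L173913) q7777, e3 q12029 L173927 q11914, e3 q12030 L173937 q8908, e3 q12031 (flp_g L174020) q12042, trivial⟩ (by decide +kernel)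

theorem ce_g_188 : ∀ r, r < 64 → sm gg (Qf (12032 + r)) = Qf (tab Gen.g (12032 + r)) :=
  edges_tab (sm gg) Qf (tab Gen.g) 12032 [(12032, 16424), (12033, 16427), (12034, 16429), (12035, 7786), (12036, 12137), (12037, 14829), (12038, 11970), (12039, 7788), (12040, 14043), (12041, 7789), (12042, 12031), (12043, 7874), (12044, 13457), (12045, 12761), (12046, 7792), (12047, 10328), (12048, 10364), (12049, 16437), (12050, 7794), (12051, 16434), (12052, 12064), (12053, 7797), (12054, 12067), (12055, 7798), (12056, 16441), (12057, 7819), (12058, 16443), (12059, 7801), (12060, 13440), (12061, 14949), (12062, 7804), (12063, 7805), (12064, 12052), (12065, 16199), (12066, 7807), (12067, 12054), (12068, 12078), (12069, 12107), (12070, 12113), (12071, 7952), (12072, 7895), (12073, 12112), (12074, 16447), (12075, 7816), (12076, 16440), (12077, 7817), (12078, 12068), (12079, 16442), (12080, 16439), (12081, 7820), (12082, 11573), (12083, 11813), (12084, 14734), (12085, 16285), (12086, 16455), (12087, 9724), (12088, 14385), (12089,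 7829), (12090, 9851), (12091, 7956), (12092, 10865), (12093, 16458), (12094, 8201), (12095, 7834)]
    ⟨e3 q12032 L206557 q16424, e3 q12033 L206577 q16427, e3 q12034 L206600 q16429, e3 q12035 (flp_g L173958) q7786, e3 q12036 (flp_g L174836) q12137, e3 q12037 (flp_g L195189) q14829, e3 q12038 (flp_g L173978) q11970, e3 q12039 (flp_g L173980) q7788, e3 q12040 L189393 q14043, e3 q12041 (flp_g L174006) q7789, e3 q12042 L174020 q12031, e3 q12043 (flp_g L174028) q7874, e3 q12044 (flp_g L184714) q13457, e3 q12045 (flp_g L179681) q12761, e3 q12046 (flp_g L174050) q7792, e3 q12047 L174064 q10328, e3 q12048 (flp_g L174078) q10364, e3 q12049 L206673 q16437, e3 q12050 (flp_g L174084) q7794, e3 q12051 (flp_g L206645) q16434, e3 q12052 (flp_g L174208) q12064, e3 q12053 (flp_g L174108) q7797, e3 q12054 (flp_g L174234) q12067, e3 q12055 (flp_g L174127) q7798, e3 q12056 L206716 q16441, e3 q12057 L174158 q7819, e3 q12058 L206739 q16443, e3 q12059 (flp_g L174152) q7801, e3 q12060 (flp_g L184569) q13440, e3 q12061 (flp_g L196234) q14949,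 e3 q12062 (flp_g L174182) q7804, e3 q12063 (flp_g L174194) q7805, e3 q12064 L174208 q12052, e3 q12065 (flp_g L204652) q16199, e3 q12066 (flp_g L174220) q7807, e3 q12067 L174234 q12054, e3 q12068 (flp_g L174326) q12078, e3 q12069 L174567 q12107, e3 q12070 (flp_g L174625) q12113, e3 q12071 L174264 q7952, e3 q12072 L174276 q7895, e3 q12073 (flp_g L174613) q12112, e3 q12074 L206773 q16447, e3 q12075 (flp_g L174294) q7816, e3 q12076 L206714 q16440, e3 q12077 (flp_g L174306) q7817, e3 q12078 L174326 q12068, e3 q12079 (flp_g L206733) q16442, e3 q12080 (flp_g L206699) q16439, e3 q12081 (flp_g L174336) q7820, e3 q12082 L174348 q11573, e3 q12083 L174356 q11813, e3 q12084 (flp_g L194323) q14734, e3 q12085 (flp_g L205382) q16285, e3 q12086 L206853 q16455, e3 q12087 L174384 q9724, e3 q12088 L191916 q14385, e3 q12089 (flp_g L174394) q7829, e3 q12090 L174406 q9851, e3 q12091 L174420 q7956, e3 q12092 L174432 q10865, e3 q12093 L206886 q16458, e3 q12094 (flp_g L174450) q8201, e3 q12095 (flp_g L174452) q7834, trivial⟩ (by decide +kernel)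

theorem ce_g_189 : ∀ r, r < 64 → sm gg (Qf (12096 + r)) = Qf (tab Gen.g (12096 + r)) :=
  edges_tab (sm gg) Qf (tab Gen.g) 12096 [(12096, 16459), (12097, 7836), (12098, 11888), (12099, 11892), (12100, 7839), (12101, 11891), (12102, 16464), (12103, 7845), (12104, 16317), (12105, 16316), (12106, 11896), (12107, 12069), (12108, 11900), (12109, 16235), (12110, 7846), (12111, 11726), (12112, 12073), (12113, 12070), (12114, 16467), (12115, 7855), (12116, 12276), (12117, 7881), (12118, 7858), (12119, 7882), (12120, 7883), (12121, 12156), (12122, 7862), (12123, 7864), (12124, 10404), (12125, 11917), (12126, 14857), (12127, 8096), (12128, 10697), (12129, 7865), (12130, 8007), (12131, 11876), (12132, 11831), (12133, 11927), (12134, 7868), (12135, 11442), (12136, 7902), (12137, 12036), (12138, 12143), (12139, 12203), (12140, 16477), (12141, 16432), (12142, 7873), (12143, 12138), (12144, 13431), (12145, 16483), (12146, 16484), (12147, 7877), (12148, 16487), (12149, 7878), (12150, 16485), (12151, 16469), (12152, 16468), (12153,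 16493), (12154, 9830), (12155, 13964), (12156, 12121), (12157, 14851), (12158, 16494), (12159, 7884)]
    ⟨e3 q12096 L206898 q16459, e3 q12097 (flp_g L174471) q7836, e3 q12098 L174489 q11888, e3 q12099 L174498 q11892, e3 q12100 (flp_g L174511) q7839, e3 q12101 L174527 q11891, e3 q12102 L206942 q16464, e3 q12103 L174541 q7845, e3 q12104 (flp_g L205679) q16317, e3 q12105 (flp_g L205667) q16316, e3 q12106 (flp_g L174561) q11896, e3 q12107 (flp_g L174567) q12069, e3 q12108 (flp_g L174575) q11900, e3 q12109 (flp_g L204940) q16235, e3 q12110 (flp_g L174583) q7846, e3 q12111 L174603 q11726, e3 q12112 L174613 q12073, e3 q12113 L174625 q12070, e3 q12114 L206974 q16467, e3 q12115 (flp_g L174635) q7855, e3 q12116 (flp_g L175811) q12276, e3 q12117 L174653 q7881, e3 q12118 L174661 q7858, e3 q12119 L174665 q7882, e3 q12120 L174669 q7883, e3 q12121 L174920 q12156, e3 q12122 L174681 q7862, e3 q12123 L174693 q7864, e3 q12124 (flp_g L174705) q10404, e3 q12125 L174711 q11917, e3 q12126 (flp_g L195446) q14857, e3 q12127 L174741 q8096,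 e3 q12128 (flp_g L174755) q10697, e3 q12129 (flp_g L174757) q7865, e3 q12130 L174775 q8007, e3 q12131 (flp_g L174783) q11876, e3 q12132 (flp_g L174791) q11831, e3 q12133 L174801 q11927, e3 q12134 (flp_g L174803) q7868, e3 q12135 L174819 q11442, e3 q12136 L174827 q7902, e3 q12137 L174836 q12036, e3 q12138 (flp_g L174864) q12143, e3 q12139 (flp_g L183429) q12203, e3 q12140 L207051 q16477, e3 q12141 (flp_g L206629) q16432, e3 q12142 (flp_g L174854) q7873, e3 q12143 L174864 q12138, e3 q12144 L184514 q13431, e3 q12145 L207093 q16483, e3 q12146 L207099 q16484, e3 q12147 (flp_g L174876) q7877, e3 q12148 L207122 q16487, e3 q12149 (flp_g L174884) q7878, e3 q12150 (flp_g L207115) q16485, e3 q12151 (flp_g L206996) q16469, e3 q12152 (flp_g L206986) q16468, e3 q12153 L207164 q16493, e3 q12154 L174960 q9830, e3 q12155 (flp_g L188809) q13964, e3 q12156 (flp_g L174920) q12121, e3 q12157 (flp_g L195402) q14851, e3 q12158 L207176 q16494, e3 q12159 (flp_g L174950) q7884, trivial⟩ (by decide +kernel)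

theorem ce_g_190 : ∀ r, r < 64 → sm gg (Qf (12160 + r)) = Qf (tab Gen.g (12160 + r)) :=
  edges_tab (sm gg) Qf (tab Gen.g) 12160 [(12160, 7888), (12161, 14758), (12162, 10749), (12163, 16495), (12164, 13569), (12165, 14927), (12166, 7893), (12167, 16496), (12168, 11870), (12169, 16300), (12170, 11925), (12171, 9941), (12172, 16471), (12173, 7903), (12174, 11829), (12175, 7919), (12176, 15615), (12177, 12300), (12178, 16189), (12179, 12186), (12180, 14817), (12181, 16188), (12182, 11702), (12183, 16503), (12184, 7910), (12185, 7911), (12186, 12179), (12187, 8521), (12188, 16321), (12189, 7918), (12190, 16498), (12191, 16508), (12192, 16511), (12193, 12199), (12194, 7920), (12195, 16513), (12196, 16514), (12197, 7921), (12198, 7922), (12199, 12193), (12200, 15741), (12201, 7924), (12202, 12016), (12203, 12139), (12204, 16521), (12205, 16522), (12206, 7928), (12207, 16524), (12208, 7929), (12209, 16526), (12210, 7930), (12211, 10534), (12212, 10575), (12213, 7935), (12214, 7937), (12215, 8336), (12216, 14658), (12217,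 7946), (12218, 10455), (12219, 10459), (12220, 9887), (12221, 14071), (12222, 12222), (12223, 12223)]
    ⟨e3 q12160 L174972 q7888, e3 q12161 (flp_g L194540) q14758, e3 q12162 L174996 q10749, e3 q12163 L207186 q16495, e3 q12164 (flp_g L185661) q13569, e3 q12165 (flp_g L196079) q14927, e3 q12166 (flp_g L175025) q7893, e3 q12167 (flp_g L207199) q16496, e3 q12168 L175041 q11870, e3 q12169 (flp_g L205532) q16300, e3 q12170 L175061 q11925, e3 q12171 L175075 q9941, e3 q12172 (flp_g L207016) q16471, e3 q12173 L175090 q7903, e3 q12174 L175102 q11829, e3 q12175 L175108 q7919, e3 q12176 (flp_g L200585) q15615, e3 q12177 (flp_g L175963) q12300, e3 q12178 (flp_g L204573) q16189, e3 q12179 (flp_g L175182) q12186, e3 q12180 (flp_g L195081) q14817, e3 q12181 (flp_g L204565) q16188, e3 q12182 L175154 q11702, e3 q12183 L207245 q16503, e3 q12184 (flp_g L175162) q7910, e3 q12185 (flp_g L175166) q7911, e3 q12186 L175182 q12179, e3 q12187 L175190 q8521, e3 q12188 (flp_g L205719) q16321, e3 q12189 (flp_g L175200) q7918, e3 q12190 (flp_g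 L207209) q16498, e3 q12191 L207303 q16508, e3 q12192 L207323 q16511, e3 q12193 (flp_g L175262) q12199, e3 q12194 (flp_g L175228) q7920, e3 q12195 L207337 q16513, e3 q12196 L207341 q16514, e3 q12197 (flp_g L175244) q7921, e3 q12198 (flp_g L175250) q7922, e3 q12199 L175262 q12193, e3 q12200 L201492 q15741, e3 q12201 (flp_g L175266) q7924, e3 q12202 L175278 q12016, e3 q12203 L183429 q12139, e3 q12204 L207407 q16521, e3 q12205 L207419 q16522, e3 q12206 L183437 q7928, e3 q12207 L207429 q16524, e3 q12208 (flp_g L175310) q7929, e3 q12209 L207449 q16526, e3 q12210 (flp_g L175322) q7930, e3 q12211 L175330 q10534, e3 q12212 L175340 q10575, e3 q12213 (flp_g L175342) q7935, e3 q12214 (flp_g L175350) q7937, e3 q12215 L175368 q8336, e3 q12216 (flp_g L193699) q14658, e3 q12217 (flp_g L175380) q7946, e3 q12218 L175394 q10455, e3 q12219 L175398 q10459, e3 q12220 (flp_g L175495) q9887, e3 q12221 L189599 q14071, e3 q12222 L175414 q12222, e3 q12223 L175417 q12223, trivial⟩ (by decide +kernel)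

theorem ce_g_191 : ∀ r, r < 64 → sm gg (Qf (12224 + r)) = Qf (tab Gen.g (12224 + r)) :=
  edges_tab (sm gg) Qf (tab Gen.g) 12224 [(12224, 12337), (12225, 15809), (12226, 15838), (12227, 16531), (12228, 16533), (12229, 7959), (12230, 11447), (12231, 7960), (12232, 16535), (12233, 11769), (12234, 7965), (12235, 16537), (12236, 16538), (12237, 16539), (12238, 7967), (12239, 11824), (12240, 7968), (12241, 11684), (12242, 16543), (12243, 16545), (12244, 16547), (12245, 7970), (12246, 12256), (12247, 7971), (12248, 9041), (12249, 16549), (12250, 7976), (12251, 16552), (12252, 7977), (12253, 12371), (12254, 9008), (12255, 7979), (12256, 12246), (12257, 13339), (12258, 13418), (12259, 14798), (12260, 14759), (12261, 14041), (12262, 16558), (12263, 7984), (12264, 12689), (12265, 12271), (12266, 7985), (12267, 12919), (12268, 16562), (12269, 7988), (12270, 7989), (12271, 12265), (12272, 8345), (12273, 11718), (12274, 7996), (12275, 10278), (12276, 12116), (12277, 16564), (12278, 14125), (12279, 14148), (12280, 8006), (12281,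 12383), (12282, 12382), (12283, 8008), (12284, 11279), (12285, 13816), (12286, 16211), (12287, 15226)]
    ⟨e3 q12224 (flp_g L176231) q12337, e3 q12225 (flp_g L201944) q15809, e3 q12226 (flp_g L202124) q15838, e3 q12227 L207489 q16531, e3 q12228 L207503 q16533, e3 q12229 (flp_g L175450) q7959, e3 q12230 (flp_g L175505) q11447, e3 q12231 (flp_g L175507) q7960, e3 q12232 L207523 q16535, e3 q12233 (flp_g L175523) q11769, e3 q12234 (flp_g L175525) q7965, e3 q12235 L207543 q16537, e3 q12236 L207557 q16538, e3 q12237 L207567 q16539, e3 q12238 (flp_g L175541) q7967, e3 q12239 L175555 q11824, e3 q12240 (flp_g L175559) q7968, e3 q12241 L175569 q11684, e3 q12242 L207603 q16543, e3 q12243 L207618 q16545, e3 q12244 L207632 q16547, e3 q12245 (flp_g L175587) q7970, e3 q12246 (flp_g L175657) q12256, e3 q12247 (flp_g L175603) q7971, e3 q12248 L175615 q9041, e3 q12249 L207646 q16549, e3 q12250 (flp_g L175621) q7976, e3 q12251 L207662 q16552, e3 q12252 (flp_g L175627) q7977, e3 q12253 (flp_g L176530) q12371, e3 q12254 L175643 q9008,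 e3 q12255 (flp_g L175645) q7979, e3 q12256 L175657 q12246, e3 q12257 (flp_g L183841) q13339, e3 q12258 (flp_g L184426) q13418, e3 q12259 (flp_g L194909) q14798, e3 q12260 (flp_g L194546) q14759, e3 q12261 (flp_g L189377) q14041, e3 q12262 L207708 q16558, e3 q12263 (flp_g L175711) q7984, e3 q12264 (flp_g L179161) q12689, e3 q12265 (flp_g L175763) q12271, e3 q12266 (flp_g L175729) q7985, e3 q12267 (flp_g L180903) q12919, e3 q12268 L207740 q16562, e3 q12269 (flp_g L175741) q7988, e3 q12270 (flp_g L175749) q7989, e3 q12271 L175763 q12265, e3 q12272 (flp_g L175771) q8345, e3 q12273 (flp_g L175779) q11718, e3 q12274 (flp_g L175781) q7996, e3 q12275 L175799 q10278, e3 q12276 L175811 q12116, e3 q12277 L207762 q16564, e3 q12278 (flp_g L190053) q14125, e3 q12279 (flp_g L190210) q14148, e3 q12280 (flp_g L175829) q8006, e3 q12281 L176656 q12383, e3 q12282 (flp_g L176644) q12382, e3 q12283 (flp_g L175849) q8008, e3 q12284 L175861 q11279, e3 q12285 L187723 q13816, e3 q12286 L204766 q16211, e3 q12287 L198109 q15226, trivial⟩ (by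 decide +kernel)

theorem ce_g_192 : ∀ r, r < 64 → sm gg (Qf (12288 + r)) = Qf (tab Gen.g (12288 + r)) :=
  edges_tab (sm gg) Qf (tab Gen.g) 12288 [(12288, 11749), (12289, 15599), (12290, 8018), (12291, 16570), (12292, 16263), (12293, 8023), (12294, 15614), (12295, 15622), (12296, 13349), (12297, 8025), (12298, 8026), (12299, 8033), (12300, 12177), (12301, 16575), (12302, 13334), (12303, 13093), (12304, 9071), (12305, 12315), (12306, 8029), (12307, 10393), (12308, 13009), (12309, 16216), (12310, 13094), (12311, 16589), (12312, 13383), (12313, 8036), (12314, 8037), (12315, 12305), (12316, 9838), (12317, 11983), (12318, 9839), (12319, 9840), (12320, 14096), (12321, 10323), (12322, 8042), (12323, 13987), (12324, 12330), (12325, 8043), (12326, 16596), (12327, 14992), (12328, 8046), (12329, 8047), (12330, 12324), (12331, 13986), (12332, 14921), (12333, 8051), (12334, 10717), (12335, 10585), (12336, 8058), (12337, 12224), (12338, 12338), (12339, 8142), (12340, 12346), (12341, 8060), (12342, 14799), (12343, 16602), (12344,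 8061), (12345, 8062), (12346, 12340), (12347, 14166), (12348, 8067), (12349, 8475), (12350, 8944), (12351, 12783)]
    ⟨e3 q12288 L175887 q11749, e3 q12289 L200435 q15599, e3 q12290 (flp_g L175895) q8018, e3 q12291 L207804 q16570, e3 q12292 (flp_g L205177) q16263, e3 q12293 (flp_g L175911) q8023, e3 q12294 (flp_g L200573) q15614, e3 q12295 L200639 q15622, e3 q12296 (flp_g L183927) q13349, e3 q12297 (flp_g L175931) q8025, e3 q12298 (flp_g L175937) q8026, e3 q12299 L175949 q8033, e3 q12300 L175963 q12177, e3 q12301 (flp_g L207868) q16575, e3 q12302 (flp_g L183795) q13334, e3 q12303 (flp_g L182081) q13093, e3 q12304 (flp_g L175987) q9071, e3 q12305 (flp_g L176051) q12315, e3 q12306 (flp_g L175995) q8029, e3 q12307 L176009 q10393, e3 q12308 (flp_g L181501) q13009, e3 q12309 (flp_g L204802) q16216, e3 q12310 (flp_g L182087) q13094, e3 q12311 L207957 q16589, e3 q12312 (flp_g L184155) q13383, e3 q12313 (flp_g L176031) q8036, e3 q12314 (flp_g L176039) q8037, e3 q12315 L176051 q12305, e3 q12316 L176057 q9838, e3 q12317 L176063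 q11983, e3 q12318 L176071 q9839, e3 q12319 L176083 q9840, e3 q12320 L189799 q14096, e3 q12321 (flp_g L176097) q10323, e3 q12322 (flp_g L176099) q8042, e3 q12323 (flp_g L188999) q13987, e3 q12324 (flp_g L176155) q12330, e3 q12325 (flp_g L176121) q8043, e3 q12326 L208019 q16596, e3 q12327 (flp_g L196612) q14992, e3 q12328 (flp_g L176137) q8046, e3 q12329 (flp_g L176141) q8047, e3 q12330 L176155 q12324, e3 q12331 (flp_g L188989) q13986, e3 q12332 (flp_g L196009) q14921, e3 q12333 (flp_g L176179) q8051, e3 q12334 L176195 q10717, e3 q12335 L176207 q10585, e3 q12336 (flp_g L176221) q8058, e3 q12337 L176231 q12224, e3 q12338 L176247 q12338, e3 q12339 L176258 q8142, e3 q12340 (flp_g L176316) q12346, e3 q12341 (flp_g L176274) q8060, e3 q12342 (flp_g L194923) q14799, e3 q12343 L208092 q16602, e3 q12344 (flp_g L176296) q8061, e3 q12345 (flp_g L176300) q8062, e3 q12346 L176316 q12340, e3 q12347 L190347 q14166, e3 q12348 (flp_g L176324) q8067, e3 q12349 L176344 q8475, e3 q12350 L176352 q8944, e3 q12351 (flp_g L179869) q12783,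 trivial⟩ (by decide +kernel)

theorem ce_g_193 : ∀ r, r < 64 → sm gg (Qf (12352 + r)) = Qf (tab Gen.g (12352 + r)) :=
  edges_tab (sm gg) Qf (tab Gen.g) 12352 [(12352, 8071), (12353, 16603), (12354, 8075), (12355, 8076), (12356, 8083), (12357, 16480), (12358, 16607), (12359, 8132), (12360, 8078), (12361, 12404), (12362, 8129), (12363, 8079), (12364, 8510), (12365, 10733), (12366, 16612), (12367, 8084), (12368, 16616), (12369, 12407), (12370, 8085), (12371, 12253), (12372, 12409), (12373, 8122), (12374, 8089), (12375, 8121), (12376, 8477), (12377, 16621), (12378, 14956), (12379, 8095), (12380, 10700), (12381, 8098), (12382, 12282), (12383, 12281), (12384, 8102), (12385, 10784), (12386, 12392), (12387, 8104), (12388, 10342), (12389, 14536), (12390, 14830), (12391, 8106), (12392, 12386), (12393, 9927), (12394, 12398), (12395, 10334), (12396, 14994), (12397, 8114), (12398, 12394), (12399, 10046), (12400, 8489), (12401, 8490), (12402, 11942), (12403, 16619), (12404, 12361), (12405, 12797), (12406, 8124), (12407, 12369),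 (12408, 16633), (12409, 12372), (12410, 8126), (12411, 13381), (12412, 16606), (12413, 8136), (12414, 12436), (12415, 12422)]
    ⟨e3 q12352 (flp_g L176368) q8071, e3 q12353 L208098 q16603, e3 q12354 (flp_g L176388) q8075, e3 q12355 (flp_g L176396) q8076, e3 q12356 L176414 q8083, e3 q12357 L207079 q16480, e3 q12358 L208130 q16607, e3 q12359 L176440 q8132, e3 q12360 (flp_g L176442) q8078, e3 q12361 (flp_g L176855) q12404, e3 q12362 L176468 q8129, e3 q12363 (flp_g L176470) q8079, e3 q12364 L176480 q8510, e3 q12365 L176490 q10733, e3 q12366 L208173 q16612, e3 q12367 (flp_g L176498) q8084, e3 q12368 L208201 q16616, e3 q12369 (flp_g L176883) q12407, e3 q12370 (flp_g L176520) q8085, e3 q12371 L176530 q12253, e3 q12372 L176895 q12409, e3 q12373 L176546 q8122, e3 q12374 (flp_g L176548) q8089, e3 q12375 L176566 q8121, e3 q12376 L176576 q8477, e3 q12377 L208240 q16621, e3 q12378 (flp_g L196299) q14956, e3 q12379 (flp_g L176600) q8095, e3 q12380 L176616 q10700, e3 q12381 (flp_g L176620) q8098, e3 q12382 L176644 q12282, e3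 q12383 (flp_g L176656) q12281, e3 q12384 (flp_g L176658) q8102, e3 q12385 L176679 q10784, e3 q12386 (flp_g L176737) q12392, e3 q12387 (flp_g L176691) q8104, e3 q12388 L176707 q10342, e3 q12389 (flp_g L192915) q14536, e3 q12390 L195199 q14830, e3 q12391 (flp_g L176721) q8106, e3 q12392 L176737 q12386, e3 q12393 L176743 q9927, e3 q12394 (flp_g L176799) q12398, e3 q12395 L176765 q10334, e3 q12396 (flp_g L196636) q14994, e3 q12397 (flp_g L176781) q8114, e3 q12398 L176799 q12394, e3 q12399 L176807 q10046, e3 q12400 L176817 q8489, e3 q12401 L176827 q8490, e3 q12402 (flp_g L176839) q11942, e3 q12403 (flp_g L208227) q16619, e3 q12404 L176855 q12361, e3 q12405 (flp_g L179989) q12797, e3 q12406 (flp_g L176865) q8124, e3 q12407 L176883 q12369, e3 q12408 L208343 q16633, e3 q12409 (flp_g L176895) q12372, e3 q12410 (flp_g L176897) q8126, e3 q12411 (flp_g L184145) q13381, e3 q12412 (flp_g L208128) q16606, e3 q12413 (flp_g L176929) q8136, e3 q12414 L177128 q12436, e3 q12415 (flp_g L177013) q12422, trivial⟩ (by decide +kernel)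

theorem ce_g_194 : ∀ r, r < 64 → sm gg (Qf (12416 + r)) = Qf (tab Gen.g (12416 + r)) :=
  edges_tab (sm gg) Qf (tab Gen.g) 12416 [(12416, 9697), (12417, 8180), (12418, 8181), (12419, 8185), (12420, 14732), (12421, 14372), (12422, 12415), (12423, 12475), (12424, 12452), (12425, 8153), (12426, 9687), (12427, 8154), (12428, 16640), (12429, 8173), (12430, 8174), (12431, 12472), (12432, 12444), (12433, 8157), (12434, 9471), (12435, 8150), (12436, 12414), (12437, 10657), (12438, 16636), (12439, 8151), (12440, 9212), (12441, 12456), (12442, 12768), (12443, 16641), (12444, 12432), (12445, 13929), (12446, 16644), (12447, 16273), (12448, 16271), (12449, 13673), (12450, 8158), (12451, 10353), (12452, 12424), (12453, 10352), (12454, 8161), (12455, 8171), (12456, 12441), (12457, 12457), (12458, 8182), (12459, 8165), (12460, 9741), (12461, 8577), (12462, 12462), (12463, 9210), (12464, 16658), (12465, 13687), (12466, 16643), (12467, 8175), (12468, 8195), (12469, 16662), (12470, 8178), (12471, 9688), (12472, 12431), (12473, 16639),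 (12474, 13573), (12475, 12423), (12476, 16666), (12477, 8189), (12478, 8190), (12479, 8191)]
    ⟨e3 q12416 L176953 q9697, e3 q12417 L176963 q8180, e3 q12418 L176973 q8181, e3 q12419 L176989 q8185, e3 q12420 (flp_g L194293) q14732, e3 q12421 L191812 q14372, e3 q12422 L177013 q12415, e3 q12423 L177417 q12475, e3 q12424 (flp_g L177220) q12452, e3 q12425 (flp_g L177033) q8153, e3 q12426 L177041 q9687, e3 q12427 L177051 q8154, e3 q12428 (flp_g L208431) q16640, e3 q12429 L177069 q8173, e3 q12430 L177077 q8174, e3 q12431 (flp_g L177392) q12472, e3 q12432 (flp_g L177172) q12444, e3 q12433 (flp_g L177098) q8157, e3 q12434 (flp_g L177110) q9471, e3 q12435 (flp_g L177112) q8150, e3 q12436 (flp_g L177128) q12414, e3 q12437 L185639 q10657, e3 q12438 (flp_g L208379) q16636, e3 q12439 (flp_g L177138) q8151, e3 q12440 L177148 q9212, e3 q12441 (flp_g L177256) q12456, e3 q12442 (flp_g L179737) q12768, e3 q12443 L208441 q16641, e3 q12444 L177172 q12432, e3 q12445 (flp_g L188559) q13929, e3 q12446 (flp_g L208479) q16644, e3 q12447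 (flp_g L205271) q16273, e3 q12448 (flp_g L205254) q16271, e3 q12449 (flp_g L186559) q13673, e3 q12450 (flp_g L177204) q8158, e3 q12451 L177212 q10353, e3 q12452 L177220 q12424, e3 q12453 L177226 q10352, e3 q12454 (flp_g L177228) q8161, e3 q12455 L177242 q8171, e3 q12456 L177256 q12441, e3 q12457 L177270 q12457, e3 q12458 L177283 q8182, e3 q12459 (flp_g L177275) q8165, e3 q12460 L177295 q9741, e3 q12461 L177309 q8577, e3 q12462 L177313 q12462, e3 q12463 L177322 q9210, e3 q12464 (flp_g L208616) q16658, e3 q12465 L186692 q13687, e3 q12466 (flp_g L208465) q16643, e3 q12467 (flp_g L177342) q8175, e3 q12468 L177360 q8195, e3 q12469 L208646 q16662, e3 q12470 (flp_g L177368) q8178, e3 q12471 L177382 q9688, e3 q12472 L177392 q12431, e3 q12473 (flp_g L208415) q16639, e3 q12474 (flp_g L185695) q13573, e3 q12475 (flp_g L177417) q12423, e3 q12476 L208694 q16666, e3 q12477 L177429 q8189, e3 q12478 L177433 q8190, e3 q12479 L177439 q8191, trivial⟩ (by decide +kernel)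

theorem ce_g_195 : ∀ r, r < 64 → sm gg (Qf (12480 + r)) = Qf (tab Gen.g (12480 + r)) :=
  edges_tab (sm gg) Qf (tab Gen.g) 12480 [(12480, 9466), (12481, 13674), (12482, 8186), (12483, 13988), (12484, 16671), (12485, 16672), (12486, 8188), (12487, 13936), (12488, 16667), (12489, 16668), (12490, 16677), (12491, 8209), (12492, 8192), (12493, 8193), (12494, 9718), (12495, 8196), (12496, 16678), (12497, 8197), (12498, 16457), (12499, 12499), (12500, 16309), (12501, 16676), (12502, 8204), (12503, 12506), (12504, 8211), (12505, 8214), (12506, 12503), (12507, 14036), (12508, 13075), (12509, 16684), (12510, 16686), (12511, 8218), (12512, 14084), (12513, 14091), (12514, 16693), (12515, 16694), (12516, 8220), (12517, 9773), (12518, 12859), (12519, 9835), (12520, 8223), (12521, 8224), (12522, 12866), (12523, 8229), (12524, 16696), (12525, 16697), (12526, 16704), (12527, 16707), (12528, 16710), (12529, 16712), (12530, 8233), (12531, 8235), (12532, 8236), (12533, 12536), (12534, 13043), (12535, 16715), (12536, 12533), (12537,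 14141), (12538, 13514), (12539, 8237), (12540, 12548), (12541, 9253), (12542, 8238), (12543, 8711)]
    ⟨e3 q12480 L177447 q9466, e3 q12481 (flp_g L186569) q13674, e3 q12482 (flp_g L177457) q8186, e3 q12483 (flp_g L189009) q13988, e3 q12484 L208735 q16671, e3 q12485 L208743 q16672, e3 q12486 (flp_g L177481) q8188, e3 q12487 (flp_g L188611) q13936, e3 q12488 (flp_g L208710) q16667, e3 q12489 (flp_g L208716) q16668, e3 q12490 L208795 q16677, e3 q12491 (flp_g L177521) q8209, e3 q12492 (flp_g L177523) q8192, e3 q12493 (flp_g L177535) q8193, e3 q12494 (flp_g L177558) q9718, e3 q12495 (flp_g L177560) q8196, e3 q12496 L208807 q16678, e3 q12497 (flp_g L177577) q8197, e3 q12498 L206884 q16457, e3 q12499 L177595 q12499, e3 q12500 (flp_g L205619) q16309, e3 q12501 L208793 q16676, e3 q12502 (flp_g L177615) q8204, e3 q12503 (flp_g L177661) q12506, e3 q12504 (flp_g L177631) q8211, e3 q12505 (flp_g L177641) q8214, e3 q12506 L177661 q12503, e3 q12507 (flp_g L189341) q14036, e3 q12508 L181951 q13075, e3 q12509 L208855 q16684, e3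 q12510 L208869 q16686, e3 q12511 (flp_g L177683) q8218, e3 q12512 (flp_g L189695) q14084, e3 q12513 (flp_g L189759) q14091, e3 q12514 L208919 q16693, e3 q12515 L208931 q16694, e3 q12516 (flp_g L177711) q8220, e3 q12517 L177729 q9773, e3 q12518 L180491 q12859, e3 q12519 (flp_g L177745) q9835, e3 q12520 (flp_g L177747) q8223, e3 q12521 (flp_g L177759) q8224, e3 q12522 (flp_g L180557) q12866, e3 q12523 L177785 q8229, e3 q12524 (flp_g L208957) q16696, e3 q12525 (flp_g L208963) q16697, e3 q12526 L209013 q16704, e3 q12527 L209037 q16707, e3 q12528 L209061 q16710, e3 q12529 L209079 q16712, e3 q12530 (flp_g L177823) q8233, e3 q12531 L177835 q8235, e3 q12532 L177841 q8236, e3 q12533 L177870 q12536, e3 q12534 L181743 q13043, e3 q12535 (flp_g L209115) q16715, e3 q12536 (flp_g L177870) q12533, e3 q12537 L190158 q14141, e3 q12538 (flp_g L185163) q13514, e3 q12539 (flp_g L177888) q8237, e3 q12540 (flp_g L177959) q12548, e3 q12541 (flp_g L177909) q9253, e3 q12542 (flp_g L177911) q8238, e3 q12543 (flp_g L177921) q8711, trivial⟩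 (by decide +kernel)

theorem ce_g_196 : ∀ r, r < 64 → sm gg (Qf (12544 + r)) = Qf (tab Gen.g (12544 + r)) :=
  edges_tab (sm gg) Qf (tab Gen.g) 12544 [(12544, 13542), (12545, 8239), (12546, 16725), (12547, 8240), (12548, 12540), (12549, 15217), (12550, 8672), (12551, 16729), (12552, 15346), (12553, 9392), (12554, 12936), (12555, 12916), (12556, 15218), (12557, 8664), (12558, 12905), (12559, 14988), (12560, 8249), (12561, 11270), (12562, 9176), (12563, 8250), (12564, 13027), (12565, 9180), (12566, 16739), (12567, 8254), (12568, 8909), (12569, 8888), (12570, 8529), (12571, 8266), (12572, 8528), (12573, 12743), (12574, 9219), (12575, 8272), (12576, 8891), (12577, 9249), (12578, 8977), (12579, 16743), (12580, 13539), (12581, 8950), (12582, 8286), (12583, 8294), (12584, 10608), (12585, 13279), (12586, 8939), (12587, 9072), (12588, 8900), (12589, 13264), (12590, 8884), (12591, 9173), (12592, 8299), (12593, 8301), (12594, 12598), (12595, 8306), (12596, 8307), (12597, 9919), (12598, 12594), (12599, 8320), (12600, 8321),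 (12601, 10519), (12602, 14953), (12603, 8327), (12604, 12613), (12605, 15116), (12606, 8333), (12607, 8334)]
    ⟨e3 q12544 (flp_g L185405) q13542, e3 q12545 (flp_g L177929) q8239, e3 q12546 L209199 q16725, e3 q12547 (flp_g L177947) q8240, e3 q12548 L177959 q12540, e3 q12549 (flp_g L198055) q15217, e3 q12550 L177977 q8672, e3 q12551 L209233 q16729, e3 q12552 (flp_g L198936) q15346, e3 q12553 L178003 q9392, e3 q12554 (flp_g L181009) q12936, e3 q12555 (flp_g L180877) q12916, e3 q12556 (flp_g L198061) q15218, e3 q12557 (flp_g L178032) q8664, e3 q12558 (flp_g L180801) q12905, e3 q12559 (flp_g L196578) q14988, e3 q12560 (flp_g L178047) q8249, e3 q12561 (flp_g L178265) q11270, e3 q12562 (flp_g L178062) q9176, e3 q12563 (flp_g L178064) q8250, e3 q12564 (flp_g L181633) q13027, e3 q12565 L178084 q9180, e3 q12566 L209309 q16739, e3 q12567 (flp_g L178093) q8254, e3 q12568 (flp_g L178109) q8909, e3 q12569 L178123 q8888, e3 q12570 L178133 q8529, e3 q12571 L178145 q8266, e3 q12572 L178155 q8528, e3 q12573 (flp_g L179547) q12743,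 e3 q12574 L178167 q9219, e3 q12575 (flp_g L178171) q8272, e3 q12576 L178191 q8891, e3 q12577 L178203 q9249, e3 q12578 L178213 q8977, e3 q12579 L209343 q16743, e3 q12580 (flp_g L185375) q13539, e3 q12581 L178237 q8950, e3 q12582 L178245 q8286, e3 q12583 (flp_g L178259) q8294, e3 q12584 (flp_g L178279) q10608, e3 q12585 (flp_g L183347) q13279, e3 q12586 L178307 q8939, e3 q12587 L178317 q9072, e3 q12588 L178327 q8900, e3 q12589 (flp_g L183245) q13264, e3 q12590 L178345 q8884, e3 q12591 L178357 q9173, e3 q12592 (flp_g L178361) q8299, e3 q12593 (flp_g L178371) q8301, e3 q12594 (flp_g L178433) q12598, e3 q12595 (flp_g L178391) q8306, e3 q12596 (flp_g L178401) q8307, e3 q12597 (flp_g L178419) q9919, e3 q12598 L178433 q12594, e3 q12599 (flp_g L178435) q8320, e3 q12600 (flp_g L178449) q8321, e3 q12601 L178471 q10519, e3 q12602 (flp_g L196271) q14953, e3 q12603 (flp_g L178487) q8327, e3 q12604 (flp_g L178583) q12613, e3 q12605 (flp_g L197440) q15116, e3 q12606 (flp_g L178519) q8333, e3 q12607 (flp_g L178527) q8334, trivial⟩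 (by decide +kernel)

theorem ce_g_197 : ∀ r, r < 64 → sm gg (Qf (12608 + r)) = Qf (tab Gen.g (12608 + r)) :=
  edges_tab (sm gg) Qf (tab Gen.g) 12608 [(12608, 16746), (12609, 15612), (12610, 10802), (12611, 14726), (12612, 8341), (12613, 12604), (12614, 15812), (12615, 13443), (12616, 12782), (12617, 8353), (12618, 14836), (12619, 14802), (12620, 10472), (12621, 8358), (12622, 12671), (12623, 8360), (12624, 8644), (12625, 8363), (12626, 8364), (12627, 12629), (12628, 16756), (12629, 12627), (12630, 16759), (12631, 8365), (12632, 14815), (12633, 8409), (12634, 12694), (12635, 16763), (12636, 12642), (12637, 16765), (12638, 8370), (12639, 16766), (12640, 8371), (12641, 8372), (12642, 12636), (12643, 8374), (12644, 16768), (12645, 12645), (12646, 8379), (12647, 12650), (12648, 16772), (12649, 12668), (12650, 12647), (12651, 8380), (12652, 10604), (12653, 12710), (12654, 16775), (12655, 12660), (12656, 8384), (12657, 16776), (12658, 10569), (12659, 8386), (12660, 12655), (12661, 8392), (12662, 16778), (12663, 8389),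 (12664, 16780), (12665, 8390), (12666, 12983), (12667, 12835), (12668, 12649), (12669, 8393), (12670, 8427), (12671, 12622)]
    ⟨e3 q12608 (flp_g L209387) q16746, e3 q12609 (flp_g L200555) q15612, e3 q12610 L178549 q10802, e3 q12611 (flp_g L194243) q14726, e3 q12612 (flp_g L178561) q8341, e3 q12613 L178583 q12604, e3 q12614 L201996 q15812, e3 q12615 (flp_g L184595) q13443, e3 q12616 (flp_g L179853) q12782, e3 q12617 L178605 q8353, e3 q12618 (flp_g L195261) q14836, e3 q12619 L194955 q14802, e3 q12620 L178629 q10472, e3 q12621 (flp_g L178631) q8358, e3 q12622 (flp_g L179039) q12671, e3 q12623 (flp_g L178647) q8360, e3 q12624 L178655 q8644, e3 q12625 L178661 q8363, e3 q12626 L178667 q8364, e3 q12627 L178687 q12629, e3 q12628 (flp_g L209461) q16756, e3 q12629 (flp_g L178687) q12627, e3 q12630 L209485 q16759, e3 q12631 (flp_g L178697) q8365, e3 q12632 L195063 q14815, e3 q12633 L178721 q8409, e3 q12634 L179195 q12694, e3 q12635 L209519 q16763, e3 q12636 (flp_g L178783) q12642, e3 q12637 L209539 q16765, e3 q12638 (flp_g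 L178747) q8370, e3 q12639 L209547 q16766, e3 q12640 (flp_g L178757) q8371, e3 q12641 (flp_g L178767) q8372, e3 q12642 L178783 q12636, e3 q12643 (flp_g L178787) q8374, e3 q12644 (flp_g L209575) q16768, e3 q12645 L178813 q12645, e3 q12646 L178822 q8379, e3 q12647 L178860 q12650, e3 q12648 L209613 q16772, e3 q12649 L179017 q12668, e3 q12650 (flp_g L178860) q12647, e3 q12651 (flp_g L178864) q8380, e3 q12652 (flp_g L178886) q10604, e3 q12653 L179297 q12710, e3 q12654 L209645 q16775, e3 q12655 (flp_g L178965) q12660, e3 q12656 (flp_g L178917) q8384, e3 q12657 (flp_g L209667) q16776, e3 q12658 (flp_g L178939) q10569, e3 q12659 (flp_g L178941) q8386, e3 q12660 L178965 q12655, e3 q12661 L178973 q8392, e3 q12662 L209683 q16778, e3 q12663 (flp_g L178981) q8389, e3 q12664 L209699 q16780, e3 q12665 (flp_g L178993) q8390, e3 q12666 (flp_g L181329) q12983, e3 q12667 (flp_g L180307) q12835, e3 q12668 (flp_g L179017) q12649, e3 q12669 (flp_g L179021) q8393, e3 q12670 L179031 q8427, e3 q12671 L179039 q12622, trivial⟩ (by decide +kernel)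

theorem ce_g_198 : ∀ r, r < 64 → sm gg (Qf (12672 + r)) = Qf (tab Gen.g (12672 + r)) :=
  edges_tab (sm gg) Qf (tab Gen.g) 12672 [(12672, 8428), (12673, 12724), (12674, 8402), (12675, 8404), (12676, 12684), (12677, 16610), (12678, 8400), (12679, 14880), (12680, 16796), (12681, 10618), (12682, 8401), (12683, 16788), (12684, 12676), (12685, 16789), (12686, 16790), (12687, 16801), (12688, 8405), (12689, 12264), (12690, 12839), (12691, 14176), (12692, 16805), (12693, 10275), (12694, 12634), (12695, 16716), (12696, 16714), (12697, 8411), (12698, 14666), (12699, 16812), (12700, 8413), (12701, 12732), (12702, 8414), (12703, 12717), (12704, 16817), (12705, 8417), (12706, 8419), (12707, 13934), (12708, 16773), (12709, 16822), (12710, 12653), (12711, 8420), (12712, 16823), (12713, 8421), (12714, 16825), (12715, 16826), (12716, 8423), (12717, 12703), (12718, 16597), (12719, 16783), (12720, 16784), (12721, 16785), (12722, 16835), (12723, 14787), (12724, 12673), (12725, 8429), (12726, 15628), (12727, 16839), (12728, 16841),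 (12729, 8432), (12730, 10513), (12731, 8433), (12732, 12701), (12733, 8919), (12734, 8920), (12735, 13260)]
    ⟨e3 q12672 L179045 q8428, e3 q12673 L179401 q12724, e3 q12674 L179057 q8402, e3 q12675 L179063 q8404, e3 q12676 L179127 q12684, e3 q12677 (flp_g L208163) q16610, e3 q12678 (flp_g L179077) q8400, e3 q12679 L195655 q14880, e3 q12680 L209811 q16796, e3 q12681 (flp_g L179101) q10618, e3 q12682 (flp_g L179103) q8401, e3 q12683 (flp_g L209755) q16788, e3 q12684 (flp_g L179127) q12676, e3 q12685 (flp_g L209761) q16789, e3 q12686 (flp_g L209769) q16790, e3 q12687 L209853 q16801, e3 q12688 (flp_g L179145) q8405, e3 q12689 L179161 q12264, e3 q12690 L180351 q12839, e3 q12691 (flp_g L190437) q14176, e3 q12692 L209891 q16805, e3 q12693 L179185 q10275, e3 q12694 (flp_g L179195) q12634, e3 q12695 (flp_g L209125) q16716, e3 q12696 (flp_g L209101) q16714, e3 q12697 (flp_g L179207) q8411, e3 q12698 L193757 q14666, e3 q12699 L209939 q16812, e3 q12700 (flp_g L179229) q8413, e3 q12701 (flp_g L179461) q12732, e3 q12702 (flp_g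 L179243) q8414, e3 q12703 (flp_g L179351) q12717, e3 q12704 L209975 q16817, e3 q12705 (flp_g L179261) q8417, e3 q12706 L179271 q8419, e3 q12707 (flp_g L188593) q13934, e3 q12708 (flp_g L209633) q16773, e3 q12709 L210015 q16822, e3 q12710 (flp_g L179297) q12653, e3 q12711 (flp_g L179299) q8420, e3 q12712 L210023 q16823, e3 q12713 (flp_g L179317) q8421, e3 q12714 L210041 q16825, e3 q12715 L210045 q16826, e3 q12716 (flp_g L179337) q8423, e3 q12717 L179351 q12703, e3 q12718 (flp_g L208039) q16597, e3 q12719 (flp_g L209725) q16783, e3 q12720 (flp_g L209731) q16784, e3 q12721 (flp_g L209735) q16785, e3 q12722 L210123 q16835, e3 q12723 (flp_g L194813) q14787, e3 q12724 (flp_g L179401) q12673, e3 q12725 (flp_g L179403) q8429, e3 q12726 (flp_g L200689) q15628, e3 q12727 L210151 q16839, e3 q12728 L210169 q16841, e3 q12729 (flp_g L179427) q8432, e3 q12730 (flp_g L179441) q10513, e3 q12731 (flp_g L179443) q8433, e3 q12732 L179461 q12701, e3 q12733 L179465 q8919, e3 q12734 L179469 q8920, e3 q12735 L183209 q13260, trivial⟩ (by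 decide +kernel)

theorem ce_g_199 : ∀ r, r < 64 → sm gg (Qf (12736 + r)) = Qf (tab Gen.g (12736 + r)) :=
  edges_tab (sm gg) Qf (tab Gen.g) 12736 [(12736, 8457), (12737, 8459), (12738, 12739), (12739, 12738), (12740, 13556), (12741, 8460), (12742, 13275), (12743, 12573), (12744, 8464), (12745, 12750), (12746, 13517), (12747, 8466), (12748, 8468), (12749, 8470), (12750, 12745), (12751, 8484), (12752, 14882), (12753, 16848), (12754, 8485), (12755, 16626), (12756, 10576), (12757, 8492), (12758, 10335), (12759, 9896), (12760, 8497), (12761, 12045), (12762, 8991), (12763, 8557), (12764, 8558), (12765, 14167), (12766, 16855), (12767, 8520), (12768, 12442), (12769, 9660), (12770, 13953), (12771, 16858), (12772, 8511), (12773, 8512), (12774, 14881), (12775, 10622), (12776, 10623), (12777, 8515), (12778, 10264), (12779, 16322), (12780, 15953), (12781, 9138), (12782, 12616), (12783, 12351), (12784, 8525), (12785, 9592), (12786, 10427), (12787, 8922), (12788, 15568), (12789, 10354), (12790, 16655), (12791, 8535), (12792, 15738),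 (12793, 10316), (12794, 8540), (12795, 8541), (12796, 16865), (12797, 12405), (12798, 13933), (12799, 16744)]
    ⟨e3 q12736 L179485 q8457, e3 q12737 L179493 q8459, e3 q12738 L179511 q12739, e3 q12739 (flp_g L179511) q12738, e3 q12740 (flp_g L185525) q13556, e3 q12741 (flp_g L179523) q8460, e3 q12742 (flp_g L183313) q13275, e3 q12743 L179547 q12573, e3 q12744 (flp_g L179541) q8464, e3 q12745 (flp_g L179597) q12750, e3 q12746 (flp_g L185191) q13517, e3 q12747 (flp_g L179565) q8466, e3 q12748 (flp_g L179571) q8468, e3 q12749 (flp_g L179581) q8470, e3 q12750 L179597 q12745, e3 q12751 L179601 q8484, e3 q12752 (flp_g L195675) q14882, e3 q12753 L210209 q16848, e3 q12754 (flp_g L179617) q8485, e3 q12755 (flp_g L208301) q16626, e3 q12756 L179635 q10576, e3 q12757 (flp_g L179637) q8492, e3 q12758 L179653 q10335, e3 q12759 L179663 q9896, e3 q12760 (flp_g L179665) q8497, e3 q12761 L179681 q12045, e3 q12762 L179695 q8991, e3 q12763 L179701 q8557, e3 q12764 L179711 q8558, e3 q12765 L190361 q14167, e3 q12766 L210283 q16855, e3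 q12767 L179729 q8520, e3 q12768 L179737 q12442, e3 q12769 L179749 q9660, e3 q12770 (flp_g L188723) q13953, e3 q12771 L210307 q16858, e3 q12772 (flp_g L179765) q8511, e3 q12773 (flp_g L179775) q8512, e3 q12774 (flp_g L195663) q14881, e3 q12775 L179793 q10622, e3 q12776 (flp_g L179803) q10623, e3 q12777 (flp_g L179805) q8515, e3 q12778 L179821 q10264, e3 q12779 (flp_g L205729) q16322, e3 q12780 (flp_g L203047) q15953, e3 q12781 L179845 q9138, e3 q12782 L179853 q12616, e3 q12783 L179869 q12351, e3 q12784 (flp_g L179873) q8525, e3 q12785 L179891 q9592, e3 q12786 (flp_g L179903) q10427, e3 q12787 L179913 q8922, e3 q12788 (flp_g L200249) q15568, e3 q12789 L179929 q10354, e3 q12790 (flp_g L208590) q16655, e3 q12791 L179937 q8535, e3 q12792 (flp_g L201476) q15738, e3 q12793 L179953 q10316, e3 q12794 L179967 q8540, e3 q12795 L179973 q8541, e3 q12796 (flp_g L210387) q16865, e3 q12797 L179989 q12405, e3 q12798 (flp_g L188587) q13933, e3 q12799 (flp_g L209361) q16744, trivial⟩ (by decide +kernel)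

theorem ce_g_200 : ∀ r, r < 64 → sm gg (Qf (12800 + r)) = Qf (tab Gen.g (12800 + r)) :=
  edges_tab (sm gg) Qf (tab Gen.g) 12800 [(12800, 8543), (12801, 14861), (12802, 8544), (12803, 16869), (12804, 8548), (12805, 8549), (12806, 9746), (12807, 10800), (12808, 8552), (12809, 8553), (12810, 8554), (12811, 16854), (12812, 16870), (12813, 14725), (12814, 9233), (12815, 15627), (12816, 10514), (12817, 9536), (12818, 13521), (12819, 9579), (12820, 9736), (12821, 8591), (12822, 12982), (12823, 12846), (12824, 16874), (12825, 8593), (12826, 16875), (12827, 8608), (12828, 8609), (12829, 12849), (12830, 16885), (12831, 8598), (12832, 8600), (12833, 16720), (12834, 10606), (12835, 12667), (12836, 12863), (12837, 10568), (12838, 8734), (12839, 12690), (12840, 8604), (12841, 16888), (12842, 16890), (12843, 8605), (12844, 16894), (12845, 8606), (12846, 12823), (12847, 16899), (12848, 16879), (12849, 12829), (12850, 16880), (12851, 16907), (12852, 8610), (12853, 11461), (12854, 16909), (12855, 13032), (12856, 8611), (12857,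 8612), (12858, 13089), (12859, 12518), (12860, 16421), (12861, 16695), (12862, 8616), (12863, 12836)]
    ⟨e3 q12800 (flp_g L180005) q8543, e3 q12801 (flp_g L195476) q14861, e3 q12802 (flp_g L180023) q8544, e3 q12803 L210417 q16869, e3 q12804 (flp_g L180041) q8548, e3 q12805 (flp_g L180051) q8549, e3 q12806 L180063 q9746, e3 q12807 (flp_g L180077) q10800, e3 q12808 (flp_g L180079) q8552, e3 q12809 (flp_g L180091) q8553, e3 q12810 (flp_g L180099) q8554, e3 q12811 (flp_g L210281) q16854, e3 q12812 L210427 q16870, e3 q12813 (flp_g L194231) q14725, e3 q12814 L180141 q9233, e3 q12815 (flp_g L200683) q15627, e3 q12816 L180153 q10514, e3 q12817 L180163 q9536, e3 q12818 (flp_g L185227) q13521, e3 q12819 L180187 q9579, e3 q12820 L180197 q9736, e3 q12821 (flp_g L180203) q8591, e3 q12822 (flp_g L181319) q12982, e3 q12823 (flp_g L180395) q12846, e3 q12824 L210473 q16874, e3 q12825 (flp_g L180229) q8593, e3 q12826 (flp_g L210481) q16875, e3 q12827 L180241 q8608, e3 q12828 L180247 q8609, e3 q12829 L180411 q12849, e3 q12830 L210549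 q16885, e3 q12831 (flp_g L180259) q8598, e3 q12832 L180275 q8600, e3 q12833 (flp_g L209159) q16720, e3 q12834 L180293 q10606, e3 q12835 L180307 q12667, e3 q12836 (flp_g L180521) q12863, e3 q12837 L180329 q10568, e3 q12838 (flp_g L180335) q8734, e3 q12839 (flp_g L180351) q12690, e3 q12840 (flp_g L180353) q8604, e3 q12841 L210581 q16888, e3 q12842 L210595 q16890, e3 q12843 (flp_g L180373) q8605, e3 q12844 L210629 q16894, e3 q12845 (flp_g L180385) q8606, e3 q12846 L180395 q12823, e3 q12847 L210663 q16899, e3 q12848 (flp_g L210509) q16879, e3 q12849 (flp_g L180411) q12829, e3 q12850 (flp_g L210521) q16880, e3 q12851 L210733 q16907, e3 q12852 (flp_g L180421) q8610, e3 q12853 (flp_g L180439) q11461, e3 q12854 L210749 q16909, e3 q12855 (flp_g L181677) q13032, e3 q12856 (flp_g L180455) q8611, e3 q12857 (flp_g L180461) q8612, e3 q12858 (flp_g L182047) q13089, e3 q12859 (flp_g L180491) q12518, e3 q12860 (flp_g L206542) q16421, e3 q12861 (flp_g L208947) q16695, e3 q12862 (flp_g L180505) q8616, e3 q12863 L180521 q12836, trivial⟩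 (by decide +kernel)

theorem ce_g_201 : ∀ r, r < 64 → sm gg (Qf (12864 + r)) = Qf (tab Gen.g (12864 + r)) :=
  edges_tab (sm gg) Qf (tab Gen.g) 12864 [(12864, 8729), (12865, 8621), (12866, 12522), (12867, 11460), (12868, 16913), (12869, 8627), (12870, 8629), (12871, 8630), (12872, 12875), (12873, 16918), (12874, 15426), (12875, 12872), (12876, 15425), (12877, 16922), (12878, 8631), (12879, 12906), (12880, 14360), (12881, 16926), (12882, 12890), (12883, 16928), (12884, 8633), (12885, 15450), (12886, 16932), (12887, 8634), (12888, 15181), (12889, 8635), (12890, 12882), (12891, 16914), (12892, 8638), (12893, 8642), (12894, 16752), (12895, 16753), (12896, 16754), (12897, 16943), (12898, 16862), (12899, 11071), (12900, 16948), (12901, 8648), (12902, 15631), (12903, 10771), (12904, 10799), (12905, 12558), (12906, 12879), (12907, 8655), (12908, 13052), (12909, 16954), (12910, 16956), (12911, 16957), (12912, 8660), (12913, 13003), (12914, 11430), (12915, 9122), (12916, 12555), (12917, 16964), (12918, 8665), (12919, 12267),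 (12920, 13028), (12921, 8669), (12922, 8671), (12923, 16967), (12924, 16968), (12925, 16708), (12926, 10932), (12927, 16976)]
    ⟨e3 q12864 L180531 q8729, e3 q12865 (flp_g L180533) q8621, e3 q12866 L180557 q12522, e3 q12867 (flp_g L180565) q11460, e3 q12868 L210787 q16913, e3 q12869 (flp_g L180571) q8627, e3 q12870 L180581 q8629, e3 q12871 L180585 q8630, e3 q12872 L180607 q12875, e3 q12873 L210813 q16918, e3 q12874 (flp_g L199333) q15426, e3 q12875 (flp_g L180607) q12872, e3 q12876 (flp_g L199325) q15425, e3 q12877 L210839 q16922, e3 q12878 (flp_g L180621) q8631, e3 q12879 (flp_g L180809) q12906, e3 q12880 (flp_g L191746) q14360, e3 q12881 L210877 q16926, e3 q12882 (flp_g L180695) q12890, e3 q12883 L210891 q16928, e3 q12884 (flp_g L180655) q8633, e3 q12885 L199490 q15450, e3 q12886 L210909 q16932, e3 q12887 (flp_g L180669) q8634, e3 q12888 (flp_g L197855) q15181, e3 q12889 (flp_g L180685) q8635, e3 q12890 L180695 q12882, e3 q12891 (flp_g L210801) q16914, e3 q12892 (flp_g L180705) q8638, e3 q12893 (flp_g L180715)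 q8642, e3 q12894 (flp_g L209427) q16752, e3 q12895 (flp_g L209433) q16753, e3 q12896 (flp_g L209439) q16754, e3 q12897 L210981 q16943, e3 q12898 (flp_g L210359) q16862, e3 q12899 (flp_g L180753) q11071, e3 q12900 L211021 q16948, e3 q12901 (flp_g L180761) q8648, e3 q12902 (flp_g L200717) q15631, e3 q12903 L180783 q10771, e3 q12904 L180793 q10799, e3 q12905 L180801 q12558, e3 q12906 L180809 q12879, e3 q12907 L180821 q8655, e3 q12908 L181811 q13052, e3 q12909 L211061 q16954, e3 q12910 L211073 q16956, e3 q12911 L211081 q16957, e3 q12912 (flp_g L180847) q8660, e3 q12913 L181455 q13003, e3 q12914 L180859 q11430, e3 q12915 L180869 q9122, e3 q12916 L180877 q12555, e3 q12917 L211139 q16964, e3 q12918 (flp_g L180883) q8665, e3 q12919 L180903 q12267, e3 q12920 (flp_g L181641) q13028, e3 q12921 (flp_g L180915) q8669, e3 q12922 L180931 q8671, e3 q12923 (flp_g L211175) q16967, e3 q12924 (flp_g L211183) q16968, e3 q12925 L209051 q16708, e3 q12926 L180955 q10932, e3 q12927 L211234 q16976, trivial⟩ (by decide +kernel)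

theorem ce_g_202 : ∀ r, r < 64 → sm gg (Qf (12928 + r)) = Qf (tab Gen.g (12928 + r)) :=
  edges_tab (sm gg) Qf (tab Gen.g) 12928 [(12928, 16979), (12929, 16981), (12930, 16983), (12931, 8676), (12932, 16986), (12933, 16902), (12934, 8677), (12935, 16883), (12936, 12554), (12937, 11459), (12938, 16994), (12939, 15345), (12940, 16997), (12941, 8683), (12942, 9957), (12943, 17001), (12944, 8688), (12945, 17002), (12946, 17003), (12947, 17009), (12948, 17011), (12949, 17012), (12950, 8689), (12951, 14891), (12952, 17015), (12953, 17018), (12954, 12966), (12955, 8693), (12956, 11302), (12957, 17020), (12958, 12976), (12959, 8696), (12960, 15154), (12961, 17022), (12962, 17023), (12963, 8697), (12964, 8698), (12965, 16413), (12966, 12954), (12967, 8709), (12968, 8710), (12969, 12984), (12970, 8754), (12971, 17031), (12972, 17032), (12973, 8703), (12974, 8704), (12975, 8708), (12976, 12958), (12977, 8706), (12978, 17033), (12979, 17036), (12980, 17037), (12981, 17048), (12982, 12822), (12983, 12666), (12984, 12969), (12985,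 17029), (12986, 16722), (12987, 8794), (12988, 9558), (12989, 8796), (12990, 8797), (12991, 13117)]
    ⟨e3 q12928 L211258 q16979, e3 q12929 L211268 q16981, e3 q12930 L211282 q16983, e3 q12931 (flp_g L180977) q8676, e3 q12932 L211302 q16986, e3 q12933 (flp_g L210703) q16902, e3 q12934 (flp_g L180995) q8677, e3 q12935 L210543 q16883, e3 q12936 L181009 q12554, e3 q12937 L181021 q11459, e3 q12938 L211378 q16994, e3 q12939 (flp_g L198926) q15345, e3 q12940 L211399 q16997, e3 q12941 (flp_g L181037) q8683, e3 q12942 L181051 q9957, e3 q12943 L211427 q17001, e3 q12944 L181069 q8688, e3 q12945 (flp_g L211443) q17002, e3 q12946 (flp_g L211451) q17003, e3 q12947 L211485 q17009, e3 q12948 L211509 q17011, e3 q12949 L211519 q17012, e3 q12950 (flp_g L181101) q8689, e3 q12951 (flp_g L195749) q14891, e3 q12952 L211549 q17015, e3 q12953 L211585 q17018, e3 q12954 (flp_g L181213) q12966, e3 q12955 (flp_g L181139) q8693, e3 q12956 L181155 q11302, e3 q12957 L211601 q17020, e3 q12958 (flp_g L181283) q12976, e3 q12959 (flp_g L181171) q8696,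 e3 q12960 (flp_g L197729) q15154, e3 q12961 L211617 q17022, e3 q12962 L211625 q17023, e3 q12963 (flp_g L181189) q8697, e3 q12964 (flp_g L181193) q8698, e3 q12965 (flp_g L206460) q16413, e3 q12966 L181213 q12954, e3 q12967 L181219 q8709, e3 q12968 L181233 q8710, e3 q12969 (flp_g L181339) q12984, e3 q12970 (flp_g L181247) q8754, e3 q12971 L211691 q17031, e3 q12972 L211697 q17032, e3 q12973 (flp_g L181259) q8703, e3 q12974 (flp_g L181263) q8704, e3 q12975 L181273 q8708, e3 q12976 L181283 q12958, e3 q12977 (flp_g L181285) q8706, e3 q12978 (flp_g L211707) q17033, e3 q12979 (flp_g L211727) q17036, e3 q12980 (flp_g L211735) q17037, e3 q12981 L211795 q17048, e3 q12982 L181319 q12822, e3 q12983 L181329 q12666, e3 q12984 L181339 q12969, e3 q12985 (flp_g L211677) q17029, e3 q12986 (flp_g L209183) q16722, e3 q12987 L181357 q8794, e3 q12988 L181367 q9558, e3 q12989 L181373 q8796, e3 q12990 L181377 q8797, e3 q12991 L182271 q13117, trivial⟩ (by decide +kernel)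

theorem ce_g_203 : ∀ r, r < 64 → sm gg (Qf (12992 + r)) = Qf (tab Gen.g (12992 + r)) :=
  edges_tab (sm gg) Qf (tab Gen.g) 12992 [(12992, 17066), (12993, 10523), (12994, 8801), (12995, 8803), (12996, 13126), (12997, 17076), (12998, 17079), (12999, 17081), (13000, 8718), (13001, 16853), (13002, 17087), (13003, 12913), (13004, 8719), (13005, 17090), (13006, 8732), (13007, 8735), (13008, 13026), (13009, 12308), (13010, 13017), (13011, 11753), (13012, 8723), (13013, 16219), (13014, 8724), (13015, 17099), (13016, 8725), (13017, 13010), (13018, 13021), (13019, 8727), (13020, 8728), (13021, 13018), (13022, 16554), (13023, 17106), (13024, 8731), (13025, 8766), (13026, 13008), (13027, 12564), (13028, 12920), (13029, 17109), (13030, 13042), (13031, 8738), (13032, 12855), (13033, 17111), (13034, 13051), (13035, 8741), (13036, 14427), (13037, 14767), (13038, 17115), (13039, 8742), (13040, 17118), (13041, 8743), (13042, 13030), (13043, 12534), (13044, 14769), (13045, 8745), (13046, 13746), (13047, 17123), (13048, 8748), (13049,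 17127), (13050, 8749), (13051, 13034), (13052, 12908), (13053, 17133), (13054, 17135), (13055, 17137)]
    ⟨e3 q12992 L211921 q17066, e3 q12993 L181391 q10523, e3 q12994 L181401 q8801, e3 q12995 L181409 q8803, e3 q12996 L182321 q13126, e3 q12997 L211999 q17076, e3 q12998 L212017 q17079, e3 q12999 L212029 q17081, e3 q13000 (flp_g L181433) q8718, e3 q13001 (flp_g L210271) q16853, e3 q13002 L212073 q17087, e3 q13003 (flp_g L181455) q12913, e3 q13004 (flp_g L181457) q8719, e3 q13005 L212099 q17090, e3 q13006 L181475 q8732, e3 q13007 L181483 q8735, e3 q13008 (flp_g L181627) q13026, e3 q13009 L181501 q12308, e3 q13010 (flp_g L181557) q13017, e3 q13011 (flp_g L181517) q11753, e3 q13012 (flp_g L181519) q8723, e3 q13013 (flp_g L204835) q16219, e3 q13014 (flp_g L181533) q8724, e3 q13015 L212167 q17099, e3 q13016 (flp_g L181545) q8725, e3 q13017 L181557 q13010, e3 q13018 (flp_g L181589) q13021, e3 q13019 (flp_g L181567) q8727, e3 q13020 (flp_g L181577) q8728, e3 q13021 L181589 q13018, e3 q13022 (flp_g L207680) q16554, e3 q13023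 L212223 q17106, e3 q13024 (flp_g L181607) q8731, e3 q13025 L181617 q8766, e3 q13026 L181627 q13008, e3 q13027 L181633 q12564, e3 q13028 L181641 q12920, e3 q13029 L212251 q17109, e3 q13030 (flp_g L181735) q13042, e3 q13031 (flp_g L181661) q8738, e3 q13032 L181677 q12855, e3 q13033 L212269 q17111, e3 q13034 (flp_g L181801) q13051, e3 q13035 (flp_g L181693) q8741, e3 q13036 (flp_g L192207) q14427, e3 q13037 (flp_g L194615) q14767, e3 q13038 L212297 q17115, e3 q13039 (flp_g L181711) q8742, e3 q13040 L212319 q17118, e3 q13041 (flp_g L181719) q8743, e3 q13042 L181735 q13030, e3 q13043 (flp_g L181743) q12534, e3 q13044 L194637 q14769, e3 q13045 (flp_g L181757) q8745, e3 q13046 (flp_g L187207) q13746, e3 q13047 L212359 q17123, e3 q13048 (flp_g L181777) q8748, e3 q13049 L212387 q17127, e3 q13050 (flp_g L181787) q8749, e3 q13051 L181801 q13034, e3 q13052 (flp_g L181811) q12908, e3 q13053 L212417 q17133, e3 q13054 L212427 q17135, e3 q13055 L212443 q17137, trivial⟩ (by decide +kernel)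

theorem ce_g_204 : ∀ r, r < 64 → sm gg (Qf (13056 + r)) = Qf (tab Gen.g (13056 + r)) :=
  edges_tab (sm gg) Qf (tab Gen.g) 13056 [(13056, 8753), (13057, 11268), (13058, 17030), (13059, 17142), (13060, 8755), (13061, 17146), (13062, 8757), (13063, 13180), (13064, 17151), (13065, 8758), (13066, 17152), (13067, 17155), (13068, 13191), (13069, 17158), (13070, 8761), (13071, 8763), (13072, 17160), (13073, 17161), (13074, 17167), (13075, 12508), (13076, 17172), (13077, 14093), (13078, 8764), (13079, 9104), (13080, 17159), (13081, 8769), (13082, 8770), (13083, 13085), (13084, 17100), (13085, 13083), (13086, 17177), (13087, 16248), (13088, 8771), (13089, 12858), (13090, 8772), (13091, 14819), (13092, 8774), (13093, 12303), (13094, 12310), (13095, 16582), (13096, 8777), (13097, 16736), (13098, 8782), (13099, 8783), (13100, 11028), (13101, 15533), (13102, 13108), (13103, 8785), (13104, 11701), (13105, 8788), (13106, 8789), (13107, 8790), (13108, 13102), (13109, 11817), (13110, 14782), (13111, 17055), (13112, 17056), (13113,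 17197), (13114, 15538), (13115, 10529), (13116, 17060), (13117, 12991), (13118, 17061), (13119, 17204)]
    ⟨e3 q13056 (flp_g L181827) q8753, e3 q13057 L181839 q11268, e3 q13058 (flp_g L211687) q17030, e3 q13059 L212475 q17142, e3 q13060 (flp_g L181853) q8755, e3 q13061 L212501 q17146, e3 q13062 (flp_g L181867) q8757, e3 q13063 (flp_g L182653) q13180, e3 q13064 L212549 q17151, e3 q13065 (flp_g L181887) q8758, e3 q13066 (flp_g L212557) q17152, e3 q13067 L212583 q17155, e3 q13068 (flp_g L182719) q13191, e3 q13069 L212613 q17158, e3 q13070 (flp_g L181919) q8761, e3 q13071 L181929 q8763, e3 q13072 (flp_g L212627) q17160, e3 q13073 (flp_g L212633) q17161, e3 q13074 L212665 q17167, e3 q13075 (flp_g L181951) q12508, e3 q13076 L212699 q17172, e3 q13077 (flp_g L189773) q14093, e3 q13078 (flp_g L181963) q8764, e3 q13079 L181975 q9104, e3 q13080 (flp_g L212621) q17159, e3 q13081 L181987 q8769, e3 q13082 L181995 q8770, e3 q13083 L182019 q13085, e3 q13084 (flp_g L212185) q17100, e3 q13085 (flp_g L182019) q13083, e3 q13086 (flp_g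 L212749) q17177, e3 q13087 (flp_g L205071) q16248, e3 q13088 (flp_g L182031) q8771, e3 q13089 L182047 q12858, e3 q13090 (flp_g L182051) q8772, e3 q13091 L195107 q14819, e3 q13092 (flp_g L182065) q8774, e3 q13093 L182081 q12303, e3 q13094 L182087 q12310, e3 q13095 L207925 q16582, e3 q13096 (flp_g L182095) q8777, e3 q13097 (flp_g L209292) q16736, e3 q13098 (flp_g L182113) q8782, e3 q13099 (flp_g L182121) q8783, e3 q13100 L182141 q11028, e3 q13101 (flp_g L200011) q15533, e3 q13102 (flp_g L182213) q13108, e3 q13103 (flp_g L182165) q8785, e3 q13104 L182175 q11701, e3 q13105 (flp_g L182181) q8788, e3 q13106 (flp_g L182189) q8789, e3 q13107 (flp_g L182197) q8790, e3 q13108 L182213 q13102, e3 q13109 L182219 q11817, e3 q13110 (flp_g L194759) q14782, e3 q13111 (flp_g L211849) q17055, e3 q13112 (flp_g L211855) q17056, e3 q13113 L212883 q17197, e3 q13114 (flp_g L200053) q15538, e3 q13115 (flp_g L182259) q10529, e3 q13116 (flp_g L211883) q17060, e3 q13117 (flp_g L182271) q12991, e3 q13118 (flp_g L211891) q17061, e3 q13119 L212943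 q17204, trivial⟩ (by decide +kernel)

theorem ce_g_205 : ∀ r, r < 64 → sm gg (Qf (13120 + r)) = Qf (tab Gen.g (13120 + r)) :=
  edges_tab (sm gg) Qf (tab Gen.g) 13120 [(13120, 17207), (13121, 8798), (13122, 17210), (13123, 17212), (13124, 8799), (13125, 17069), (13126, 12996), (13127, 17219), (13128, 17070), (13129, 17071), (13130, 17224), (13131, 17226), (13132, 8804), (13133, 13137), (13134, 8805), (13135, 11506), (13136, 8807), (13137, 13133), (13138, 17231), (13139, 17233), (13140, 8809), (13141, 8817), (13142, 17237), (13143, 8819), (13144, 17240), (13145, 17244), (13146, 13153), (13147, 8813), (13148, 17250), (13149, 16962), (13150, 17251), (13151, 8814), (13152, 8815), (13153, 13146), (13154, 17257), (13155, 17259), (13156, 17260), (13157, 8818), (13158, 8820), (13159, 11066), (13160, 10222), (13161, 13167), (13162, 8822), (13163, 16361), (13164, 16806), (13165, 14588), (13166, 8827), (13167, 13161), (13168, 16802), (13169, 17268), (13170, 13453), (13171, 17271), (13172, 8831), (13173, 17272), (13174, 10245),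 (13175, 17276), (13176, 8833), (13177, 17278), (13178, 8834), (13179, 8836), (13180, 13063), (13181, 17281), (13182, 17282), (13183, 17289)]
    ⟨e3 q13120 L212961 q17207, e3 q13121 (flp_g L182285) q8798, e3 q13122 L212977 q17210, e3 q13123 L212991 q17212, e3 q13124 (flp_g L182301) q8799, e3 q13125 (flp_g L211955) q17069, e3 q13126 (flp_g L182321) q12996, e3 q13127 L213043 q17219, e3 q13128 (flp_g L211963) q17070, e3 q13129 (flp_g L211973) q17071, e3 q13130 L213073 q17224, e3 q13131 L213089 q17226, e3 q13132 (flp_g L182347) q8804, e3 q13133 (flp_g L182385) q13137, e3 q13134 (flp_g L182363) q8805, e3 q13135 (flp_g L183553) q11506, e3 q13136 (flp_g L182371) q8807, e3 q13137 L182385 q13133, e3 q13138 L213123 q17231, e3 q13139 L213137 q17233, e3 q13140 (flp_g L182395) q8809, e3 q13141 L182407 q8817, e3 q13142 L213159 q17237, e3 q13143 L182417 q8819, e3 q13144 L213173 q17240, e3 q13145 L213197 q17244, e3 q13146 (flp_g L182470) q13153, e3 q13147 (flp_g L182435) q8813, e3 q13148 L213231 q17250, e3 q13149 (flp_g L211125)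 q16962, e3 q13150 L213235 q17251, e3 q13151 (flp_g L182454) q8814, e3 q13152 (flp_g L182458) q8815, e3 q13153 L182470 q13146, e3 q13154 L213266 q17257, e3 q13155 L213281 q17259, e3 q13156 L213287 q17260, e3 q13157 (flp_g L182481) q8818, e3 q13158 (flp_g L182483) q8820, e3 q13159 L182503 q11066, e3 q13160 (flp_g L182513) q10222, e3 q13161 (flp_g L182575) q13167, e3 q13162 (flp_g L182521) q8822, e3 q13163 (flp_g L206026) q16361, e3 q13164 (flp_g L209911) q16806, e3 q13165 L193241 q14588, e3 q13166 (flp_g L182559) q8827, e3 q13167 L182575 q13161, e3 q13168 (flp_g L209867) q16802, e3 q13169 L213349 q17268, e3 q13170 (flp_g L184676) q13453, e3 q13171 L213371 q17271, e3 q13172 (flp_g L182599) q8831, e3 q13173 (flp_g L213383) q17272, e3 q13174 (flp_g L182621) q10245, e3 q13175 L213413 q17276, e3 q13176 (flp_g L182627) q8833, e3 q13177 L213433 q17278, e3 q13178 (flp_g L182637) q8834, e3 q13179 L182645 q8836, e3 q13180 L182653 q13063, e3 q13181 (flp_g L213457) q17281, e3 q13182 (flp_g L213461) q17282, e3 q13183 L213497 q17289,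 trivial⟩ (by decide +kernel)

theorem ce_g_206 : ∀ r, r < 64 → sm gg (Qf (13184 + r)) = Qf (tab Gen.g (13184 + r)) :=
  edges_tab (sm gg) Qf (tab Gen.g) 13184 [(13184, 17291), (13185, 8838), (13186, 10528), (13187, 17297), (13188, 17298), (13189, 8840), (13190, 8846), (13191, 13068), (13192, 8844), (13193, 13195), (13194, 17304), (13195, 13193), (13196, 8845), (13197, 17301), (13198, 17299), (13199, 17310), (13200, 8849), (13201, 17313), (13202, 13247), (13203, 17316), (13204, 17320), (13205, 13212), (13206, 8850), (13207, 17326), (13208, 16738), (13209, 17327), (13210, 8851), (13211, 8852), (13212, 13205), (13213, 17333), (13214, 17335), (13215, 17336), (13216, 8855), (13217, 8857), (13218, 15113), (13219, 10121), (13220, 10375), (13221, 13241), (13222, 17343), (13223, 17346), (13224, 17349), (13225, 17350), (13226, 8863), (13227, 8870), (13228, 17353), (13229, 17354), (13230, 8865), (13231, 13254), (13232, 8880), (13233, 17363), (13234, 17365), (13235, 8881), (13236, 8867), (13237, 11407), (13238, 16473), (13239,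 8873), (13240, 17306), (13241, 13221), (13242, 17371), (13243, 17374), (13244, 17377), (13245, 15233), (13246, 8877), (13247, 13202)]
    ⟨e3 q13184 L213515 q17291, e3 q13185 (flp_g L182675) q8838, e3 q13186 L182689 q10528, e3 q13187 L213557 q17297, e3 q13188 L213563 q17298, e3 q13189 (flp_g L182699) q8840, e3 q13190 L182709 q8846, e3 q13191 L182719 q13068, e3 q13192 L182727 q8844, e3 q13193 L182753 q13195, e3 q13194 L213605 q17304, e3 q13195 (flp_g L182753) q13193, e3 q13196 (flp_g L182755) q8845, e3 q13197 (flp_g L213589) q17301, e3 q13198 (flp_g L213573) q17299, e3 q13199 L213651 q17310, e3 q13200 L182789 q8849, e3 q13201 L213671 q17313, e3 q13202 (flp_g L183099) q13247, e3 q13203 L213685 q17316, e3 q13204 L213707 q17320, e3 q13205 (flp_g L182860) q13212, e3 q13206 (flp_g L182819) q8850, e3 q13207 L213741 q17326, e3 q13208 (flp_g L209305) q16738, e3 q13209 L213745 q17327, e3 q13210 (flp_g L182839) q8851, e3 q13211 (flp_g L182844) q8852, e3 q13212 L182860 q13205, e3 q13213 L213778 q17333, e3 q13214 L213788 q17335,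 e3 q13215 L213797 q17336, e3 q13216 (flp_g L182870) q8855, e3 q13217 (flp_g L182873) q8857, e3 q13218 (flp_g L197409) q15113, e3 q13219 L182899 q10121, e3 q13220 L182905 q10375, e3 q13221 (flp_g L183053) q13241, e3 q13222 L213853 q17343, e3 q13223 L213875 q17346, e3 q13224 L213903 q17349, e3 q13225 L213913 q17350, e3 q13226 (flp_g L182936) q8863, e3 q13227 L182950 q8870, e3 q13228 L213937 q17353, e3 q13229 L213943 q17354, e3 q13230 (flp_g L182963) q8865, e3 q13231 L222787 q13254, e3 q13232 (flp_g L222812) q8880, e3 q13233 L214084 q17363, e3 q13234 L214093 q17365, e3 q13235 L222698 q8881, e3 q13236 (flp_g L182996) q8867, e3 q13237 (flp_g L183022) q11407, e3 q13238 (flp_g L207031) q16473, e3 q13239 (flp_g L183028) q8873, e3 q13240 (flp_g L213627) q17306, e3 q13241 L183053 q13221, e3 q13242 L214158 q17371, e3 q13243 L214182 q17374, e3 q13244 L214212 q17377, e3 q13245 (flp_g L222783) q15233, e3 q13246 (flp_g L183085) q8877, e3 q13247 L183099 q13202, trivial⟩ (by decide +kernel)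

theorem ce_g_207 : ∀ r, r < 64 → sm gg (Qf (13248 + r)) = Qf (tab Gen.g (13248 + r)) :=
  edges_tab (sm gg) Qf (tab Gen.g) 13248 [(13248, 17381), (13249, 17382), (13250, 8879), (13251, 17358), (13252, 17362), (13253, 17364), (13254, 13231), (13255, 8901), (13256, 14698), (13257, 13787), (13258, 10379), (13259, 16844), (13260, 12735), (13261, 16742), (13262, 8921), (13263, 14867), (13264, 12589), (13265, 17393), (13266, 8924), (13267, 9170), (13268, 8926), (13269, 14005), (13270, 17394), (13271, 8934), (13272, 16741), (13273, 8935), (13274, 8936), (13275, 12742), (13276, 13330), (13277, 9119), (13278, 9113), (13279, 12585), (13280, 13424), (13281, 8942), (13282, 13505), (13283, 10861), (13284, 8953), (13285, 15849), (13286, 16415), (13287, 12023), (13288, 10458), (13289, 9040), (13290, 8963), (13291, 8969), (13292, 9408), (13293, 9785), (13294, 8970), (13295, 8971), (13296, 13303), (13297, 14794), (13298, 17398), (13299, 11951), (13300, 14029), (13301, 9776), (13302, 16389), (13303, 13296), (13304, 17400), (13305,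 8972), (13306, 10390), (13307, 14477), (13308, 14003), (13309, 9093), (13310, 9094), (13311, 9562)]
    ⟨e3 q13248 L214252 q17381, e3 q13249 L214260 q17382, e3 q13250 (flp_g L183115) q8879, e3 q13251 (flp_g L222793) q17358, e3 q13252 (flp_g L222752) q17362, e3 q13253 (flp_g L222714) q17364, e3 q13254 (flp_g L222787) q13231, e3 q13255 (flp_g L183167) q8901, e3 q13256 (flp_g L193997) q14698, e3 q13257 (flp_g L187541) q13787, e3 q13258 L183193 q10379, e3 q13259 (flp_g L210193) q16844, e3 q13260 (flp_g L183209) q12735, e3 q13261 L209341 q16742, e3 q13262 (flp_g L183225) q8921, e3 q13263 (flp_g L195528) q14867, e3 q13264 L183245 q12589, e3 q13265 L214463 q17393, e3 q13266 (flp_g L183257) q8924, e3 q13267 (flp_g L183273) q9170, e3 q13268 (flp_g L183275) q8926, e3 q13269 (flp_g L189111) q14005, e3 q13270 L214479 q17394, e3 q13271 (flp_g L183289) q8934, e3 q13272 (flp_g L209333) q16741, e3 q13273 (flp_g L183297) q8935, e3 q13274 (flp_g L183303) q8936, e3 q13275 L183313 q12742, e3 q13276 L183763 q13330, e3 q13277 L183327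 q9119, e3 q13278 L183337 q9113, e3 q13279 L183347 q12585, e3 q13280 L184464 q13424, e3 q13281 (flp_g L183351) q8942, e3 q13282 L185111 q13505, e3 q13283 L183373 q10861, e3 q13284 (flp_g L183375) q8953, e3 q13285 (flp_g L202226) q15849, e3 q13286 (flp_g L206476) q16415, e3 q13287 (flp_g L183415) q12023, e3 q13288 L183445 q10458, e3 q13289 L183455 q9040, e3 q13290 (flp_g L183461) q8963, e3 q13291 L183471 q8969, e3 q13292 L183483 q9408, e3 q13293 L183489 q9785, e3 q13294 L183495 q8970, e3 q13295 L183501 q8971, e3 q13296 L183567 q13303, e3 q13297 L194875 q14794, e3 q13298 (flp_g L214515) q17398, e3 q13299 L183519 q11951, e3 q13300 L189287 q14029, e3 q13301 (flp_g L183539) q9776, e3 q13302 L206274 q16389, e3 q13303 (flp_g L183567) q13296, e3 q13304 (flp_g L214537) q17400, e3 q13305 (flp_g L183579) q8972, e3 q13306 L183597 q10390, e3 q13307 L192511 q14477, e3 q13308 (flp_g L189097) q14003, e3 q13309 L183613 q9093, e3 q13310 L183619 q9094, e3 q13311 L183627 q9562, trivial⟩ (by decide +kernel)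

theorem ce_g_208 : ∀ r, r < 64 → sm gg (Qf (13312 + r)) = Qf (tab Gen.g (13312 + r)) :=
  edges_tab (sm gg) Qf (tab Gen.g) 13312 [(13312, 9775), (13313, 10525), (13314, 10391), (13315, 9100), (13316, 9103), (13317, 13406), (13318, 16580), (13319, 13326), (13320, 17406), (13321, 8987), (13322, 11932), (13323, 17408), (13324, 8988), (13325, 8989), (13326, 13319), (13327, 14896), (13328, 13332), (13329, 14894), (13330, 13276), (13331, 8992), (13332, 13328), (13333, 8995), (13334, 12302), (13335, 11741), (13336, 11751), (13337, 17413), (13338, 9062), (13339, 12257), (13340, 16385), (13341, 16246), (13342, 16245), (13343, 9009), (13344, 10229), (13345, 14599), (13346, 10484), (13347, 9022), (13348, 10482), (13349, 12296), (13350, 17417), (13351, 14085), (13352, 9030), (13353, 13365), (13354, 13357), (13355, 9031), (13356, 14827), (13357, 13354), (13358, 17421), (13359, 10509), (13360, 9047), (13361, 9035), (13362, 13385), (13363, 9036), (13364, 9037), (13365, 13353), (13366, 16044), (13367, 14105), (13368, 13455), (13369,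 9043), (13370, 17420), (13371, 14087), (13372, 10426), (13373, 9048), (13374, 9052), (13375, 9053)]
    ⟨e3 q13312 L183635 q9775, e3 q13313 L183645 q10525, e3 q13314 L183657 q10391, e3 q13315 L183665 q9100, e3 q13316 L183669 q9103, e3 q13317 (flp_g L184346) q13406, e3 q13318 (flp_g L207911) q16580, e3 q13319 (flp_g L183737) q13326, e3 q13320 L214585 q17406, e3 q13321 (flp_g L183703) q8987, e3 q13322 (flp_g L183711) q11932, e3 q13323 L214603 q17408, e3 q13324 (flp_g L183717) q8988, e3 q13325 (flp_g L183725) q8989, e3 q13326 L183737 q13319, e3 q13327 L195789 q14896, e3 q13328 L183777 q13332, e3 q13329 (flp_g L195767) q14894, e3 q13330 (flp_g L183763) q13276, e3 q13331 (flp_g L183765) q8992, e3 q13332 (flp_g L183777) q13328, e3 q13333 (flp_g L183781) q8995, e3 q13334 L183795 q12302, e3 q13335 L183799 q11741, e3 q13336 L183811 q11751, e3 q13337 L214653 q17413, e3 q13338 L183829 q9062, e3 q13339 L183841 q12257, e3 q13340 L206232 q16385, e3 q13341 (flp_g L205044) q16246, e3 q13342 (flp_g L205032) q16245, e3 q13343 (flp_g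 L183863) q9009, e3 q13344 L183879 q10229, e3 q13345 (flp_g L193315) q14599, e3 q13346 (flp_g L183895) q10484, e3 q13347 (flp_g L183897) q9022, e3 q13348 L183921 q10482, e3 q13349 L183927 q12296, e3 q13350 L214691 q17417, e3 q13351 L189709 q14085, e3 q13352 (flp_g L183943) q9030, e3 q13353 (flp_g L184039) q13365, e3 q13354 (flp_g L183975) q13357, e3 q13355 (flp_g L183965) q9031, e3 q13356 L195169 q14827, e3 q13357 L183975 q13354, e3 q13358 L214727 q17421, e3 q13359 (flp_g L183989) q10509, e3 q13360 (flp_g L183997) q9047, e3 q13361 (flp_g L183999) q9035, e3 q13362 (flp_g L184171) q13385, e3 q13363 (flp_g L184013) q9036, e3 q13364 (flp_g L184025) q9037, e3 q13365 L184039 q13353, e3 q13366 (flp_g L203615) q16044, e3 q13367 L189885 q14105, e3 q13368 (flp_g L184696) q13455, e3 q13369 (flp_g L184063) q9043, e3 q13370 L214725 q17420, e3 q13371 (flp_g L189731) q14087, e3 q13372 (flp_g L184089) q10426, e3 q13373 (flp_g L184091) q9048, e3 q13374 L184103 q9052, e3 q13375 L184107 q9053, trivial⟩ (by decide +kernel)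

theorem ce_g_209 : ∀ r, r < 64 → sm gg (Qf (13376 + r)) = Qf (tab Gen.g (13376 + r)) :=
  edges_tab (sm gg) Qf (tab Gen.g) 13376 [(13376, 13379), (13377, 16478), (13378, 17423), (13379, 13376), (13380, 9054), (13381, 12411), (13382, 17426), (13383, 12312), (13384, 9056), (13385, 13362), (13386, 17429), (13387, 11305), (13388, 9076), (13389, 9077), (13390, 11729), (13391, 13391), (13392, 17435), (13393, 11818), (13394, 11819), (13395, 16272), (13396, 14000), (13397, 9086), (13398, 9092), (13399, 9368), (13400, 9614), (13401, 17057), (13402, 17437), (13403, 9095), (13404, 15544), (13405, 9097), (13406, 13317), (13407, 17173), (13408, 17425), (13409, 14811), (13410, 14823), (13411, 9102), (13412, 17427), (13413, 17169), (13414, 13423), (13415, 9105), (13416, 9109), (13417, 16529), (13418, 12258), (13419, 14744), (13420, 14872), (13421, 9112), (13422, 16961), (13423, 13414), (13424, 13280), (13425, 17444), (13426, 9116), (13427, 16384), (13428, 16516), (13429, 9118), (13430, 16960), (13431, 12144), (13432, 16505),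 (13433, 13433), (13434, 13472), (13435, 17452), (13436, 17453), (13437, 9125), (13438, 9126), (13439, 16319)]
    ⟨e3 q13376 L184131 q13379, e3 q13377 (flp_g L207065) q16478, e3 q13378 (flp_g L214755) q17423, e3 q13379 (flp_g L184131) q13376, e3 q13380 (flp_g L184133) q9054, e3 q13381 L184145 q12411, e3 q13382 L214785 q17426, e3 q13383 L184155 q12312, e3 q13384 (flp_g L184157) q9056, e3 q13385 L184171 q13362, e3 q13386 L214821 q17429, e3 q13387 L184187 q11305, e3 q13388 (flp_g L184191) q9076, e3 q13389 (flp_g L184201) q9077, e3 q13390 L184221 q11729, e3 q13391 L184225 q13391, e3 q13392 L214880 q17435, e3 q13393 L184234 q11818, e3 q13394 L184238 q11819, e3 q13395 L205264 q16272, e3 q13396 (flp_g L189069) q14000, e3 q13397 (flp_g L184254) q9086, e3 q13398 L184270 q9092, e3 q13399 L184284 q9368, e3 q13400 L184292 q9614, e3 q13401 (flp_g L211863) q17057, e3 q13402 L214898 q17437, e3 q13403 (flp_g L184312) q9095, e3 q13404 (flp_g L200085) q15544, e3 q13405 (flp_g L184330) q9097, e3 q13406 L184346 q13317, e3 q13407 (flp_g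 L212713) q17173, e3 q13408 (flp_g L214779) q17425, e3 q13409 (flp_g L195029) q14811, e3 q13410 (flp_g L195135) q14823, e3 q13411 (flp_g L184378) q9102, e3 q13412 (flp_g L214805) q17427, e3 q13413 L212687 q17169, e3 q13414 (flp_g L184458) q13423, e3 q13415 (flp_g L184404) q9105, e3 q13416 L184412 q9109, e3 q13417 (flp_g L207481) q16529, e3 q13418 L184426 q12258, e3 q13419 (flp_g L194404) q14744, e3 q13420 L195570 q14872, e3 q13421 (flp_g L184444) q9112, e3 q13422 (flp_g L211121) q16961, e3 q13423 L184458 q13414, e3 q13424 (flp_g L184464) q13280, e3 q13425 L214974 q17444, e3 q13426 (flp_g L184478) q9116, e3 q13427 L206220 q16384, e3 q13428 (flp_g L207367) q16516, e3 q13429 (flp_g L184498) q9118, e3 q13430 (flp_g L211113) q16960, e3 q13431 (flp_g L184514) q12144, e3 q13432 L207279 q16505, e3 q13433 L184520 q13433, e3 q13434 L184822 q13472, e3 q13435 L215046 q17452, e3 q13436 L215052 q17453, e3 q13437 (flp_g L184531) q9125, e3 q13438 (flp_g L184541) q9126, e3 q13439 (flp_g L205697) q16319, trivial⟩ (by decide +kernel)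

theorem ce_g_210 : ∀ r, r < 64 → sm gg (Qf (13440 + r)) = Qf (tab Gen.g (13440 + r)) :=
  edges_tab (sm gg) Qf (tab Gen.g) 13440 [(13440, 12060), (13441, 9131), (13442, 11772), (13443, 12615), (13444, 17460), (13445, 9758), (13446, 16430), (13447, 17391), (13448, 9139), (13449, 9373), (13450, 9619), (13451, 9141), (13452, 13784), (13453, 13170), (13454, 9150), (13455, 13368), (13456, 10146), (13457, 12044), (13458, 9154), (13459, 17464), (13460, 12020), (13461, 9858), (13462, 10530), (13463, 14112), (13464, 9167), (13465, 9158), (13466, 9166), (13467, 13473), (13468, 17467), (13469, 9163), (13470, 17418), (13471, 10407), (13472, 13434), (13473, 13467), (13474, 17466), (13475, 9168), (13476, 14876), (13477, 16949), (13478, 10590), (13479, 17470), (13480, 17396), (13481, 9172), (13482, 16737), (13483, 17472), (13484, 16344), (13485, 17397), (13486, 17475), (13487, 16748), (13488, 14942), (13489, 10714), (13490, 10715), (13491, 9428), (13492, 9187), (13493, 9750), (13494, 9722), (13495, 9232), (13496, 9527), (13497,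 9229), (13498, 13525), (13499, 9231), (13500, 9201), (13501, 9200), (13502, 9292), (13503, 14024)]
    ⟨e3 q13440 L184569 q12060, e3 q13441 (flp_g L184571) q9131, e3 q13442 L184591 q11772, e3 q13443 L184595 q12615, e3 q13444 L215123 q17460, e3 q13445 L184604 q9758, e3 q13446 (flp_g L206612) q16430, e3 q13447 L214453 q17391, e3 q13448 (flp_g L184624) q9139, e3 q13449 L184636 q9373, e3 q13450 L184648 q9619, e3 q13451 (flp_g L184652) q9141, e3 q13452 (flp_g L187513) q13784, e3 q13453 L184676 q13170, e3 q13454 L184686 q9150, e3 q13455 L184696 q13368, e3 q13456 L184702 q10146, e3 q13457 L184714 q12044, e3 q13458 (flp_g L184728) q9154, e3 q13459 (flp_g L215165) q17464, e3 q13460 L184740 q12020, e3 q13461 L184746 q9858, e3 q13462 L184752 q10530, e3 q13463 L189939 q14112, e3 q13464 L184766 q9167, e3 q13465 L184772 q9158, e3 q13466 L184778 q9166, e3 q13467 L184836 q13473, e3 q13468 L215189 q17467, e3 q13469 (flp_g L184796) q9163, e3 q13470 (flp_g L214709) q17418, e3 q13471 L184814 q10407, e3 q13472 (flp_g L184822) q13434,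 e3 q13473 (flp_g L184836) q13467, e3 q13474 (flp_g L215187) q17466, e3 q13475 (flp_g L184842) q9168, e3 q13476 (flp_g L195604) q14876, e3 q13477 (flp_g L211041) q16949, e3 q13478 L184876 q10590, e3 q13479 L215225 q17470, e3 q13480 (flp_g L214497) q17396, e3 q13481 (flp_g L184890) q9172, e3 q13482 (flp_g L209300) q16737, e3 q13483 L215251 q17472, e3 q13484 (flp_g L205897) q16344, e3 q13485 (flp_g L214507) q17397, e3 q13486 L215275 q17475, e3 q13487 (flp_g L209395) q16748, e3 q13488 (flp_g L196177) q14942, e3 q13489 L184939 q10714, e3 q13490 (flp_g L184947) q10715, e3 q13491 L184957 q9428, e3 q13492 (flp_g L184959) q9187, e3 q13493 L184977 q9750, e3 q13494 L184991 q9722, e3 q13495 L185003 q9232, e3 q13496 L185015 q9527, e3 q13497 (flp_g L185025) q9229, e3 q13498 (flp_g L185275) q13525, e3 q13499 L185047 q9231, e3 q13500 L185065 q9201, e3 q13501 (flp_g L185067) q9200, e3 q13502 L185085 q9292, e3 q13503 (flp_g L189233) q14024, trivial⟩ (by decide +kernel)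

theorem ce_g_211 : ∀ r, r < 64 → sm gg (Qf (13504 + r)) = Qf (tab Gen.g (13504 + r)) :=
  edges_tab (sm gg) Qf (tab Gen.g) 13504 [(13504, 10660), (13505, 13282), (13506, 17483), (13507, 9206), (13508, 14932), (13509, 16646), (13510, 16645), (13511, 16647), (13512, 16637), (13513, 14852), (13514, 12538), (13515, 13519), (13516, 9214), (13517, 12746), (13518, 9217), (13519, 13515), (13520, 14913), (13521, 12818), (13522, 9541), (13523, 10767), (13524, 9455), (13525, 13498), (13526, 10787), (13527, 17489), (13528, 9241), (13529, 9242), (13530, 17491), (13531, 14958), (13532, 14996), (13533, 15018), (13534, 9289), (13535, 16253), (13536, 15020), (13537, 9248), (13538, 16721), (13539, 12580), (13540, 9250), (13541, 9329), (13542, 12544), (13543, 9255), (13544, 14957), (13545, 13706), (13546, 9263), (13547, 9264), (13548, 9265), (13549, 10689), (13550, 13594), (13551, 9347), (13552, 14914), (13553, 9266), (13554, 9341), (13555, 13568), (13556, 12740), (13557, 9335), (13558, 14754), (13559, 10753), (13560, 9304), (13561,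 13563), (13562, 9288), (13563, 13561), (13564, 9316), (13565, 9296), (13566, 10728), (13567, 9305)]
    ⟨e3 q13504 L185101 q10660, e3 q13505 (flp_g L185111) q13282, e3 q13506 L215345 q17483, e3 q13507 (flp_g L185119) q9206, e3 q13508 L196115 q14932, e3 q13509 (flp_g L208503) q16646, e3 q13510 (flp_g L208493) q16645, e3 q13511 (flp_g L208517) q16647, e3 q13512 (flp_g L208391) q16637, e3 q13513 (flp_g L195410) q14852, e3 q13514 L185163 q12538, e3 q13515 (flp_g L185213) q13519, e3 q13516 (flp_g L185173) q9214, e3 q13517 L185191 q12746, e3 q13518 (flp_g L185195) q9217, e3 q13519 L185213 q13515, e3 q13520 L195934 q14913, e3 q13521 L185227 q12818, e3 q13522 L185239 q9541, e3 q13523 L185251 q10767, e3 q13524 L185265 q9455, e3 q13525 L185275 q13498, e3 q13526 L185287 q10787, e3 q13527 L215411 q17489, e3 q13528 (flp_g L185297) q9241, e3 q13529 (flp_g L185313) q9242, e3 q13530 (flp_g L215429) q17491, e3 q13531 (flp_g L196313) q14958, e3 q13532 (flp_g L196649) q14996, e3 q13533 (flp_g L196835) q15018, e3 q13534 (flp_g L185343)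 q9289, e3 q13535 (flp_g L205105) q16253, e3 q13536 (flp_g L196849) q15020, e3 q13537 (flp_g L185353) q9248, e3 q13538 (flp_g L209173) q16721, e3 q13539 L185375 q12580, e3 q13540 (flp_g L185379) q9250, e3 q13541 L185391 q9329, e3 q13542 L185405 q12544, e3 q13543 (flp_g L185407) q9255, e3 q13544 (flp_g L196305) q14957, e3 q13545 (flp_g L186893) q13706, e3 q13546 L185429 q9263, e3 q13547 L185433 q9264, e3 q13548 L185437 q9265, e3 q13549 L185829 q10689, e3 q13550 (flp_g L185913) q13594, e3 q13551 (flp_g L185467) q9347, e3 q13552 (flp_g L195942) q14914, e3 q13553 (flp_g L185479) q9266, e3 q13554 L185501 q9341, e3 q13555 (flp_g L185651) q13568, e3 q13556 L185525 q12740, e3 q13557 L185531 q9335, e3 q13558 L194500 q14754, e3 q13559 L185547 q10753, e3 q13560 L185557 q9304, e3 q13561 (flp_g L185583) q13563, e3 q13562 (flp_g L185567) q9288, e3 q13563 L185583 q13561, e3 q13564 (flp_g L185595) q9316, e3 q13565 (flp_g L185597) q9296, e3 q13566 L185617 q10728, e3 q13567 L185627 q9305, trivial⟩ (by decide +kernel)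

theorem ce_g_212 : ∀ r, r < 64 → sm gg (Qf (13568 + r)) = Qf (tab Gen.g (13568 + r)) :=
  edges_tab (sm gg) Qf (tab Gen.g) 13568 [(13568, 13555), (13569, 12164), (13570, 13578), (13571, 10751), (13572, 13577), (13573, 12474), (13574, 17501), (13575, 9306), (13576, 14954), (13577, 13572), (13578, 13570), (13579, 9314), (13580, 14971), (13581, 10841), (13582, 9323), (13583, 9325), (13584, 17495), (13585, 9330), (13586, 9338), (13587, 10656), (13588, 9336), (13589, 10825), (13590, 14909), (13591, 10667), (13592, 9346), (13593, 13705), (13594, 13550), (13595, 10668), (13596, 11959), (13597, 13597), (13598, 13598), (13599, 17509), (13600, 17513), (13601, 17515), (13602, 9355), (13603, 9356), (13604, 9415), (13605, 13605), (13606, 16311), (13607, 13607), (13608, 9364), (13609, 13609), (13610, 17516), (13611, 17518), (13612, 9365), (13613, 17519), (13614, 9366), (13615, 17399), (13616, 9372), (13617, 17523), (13618, 9370), (13619, 17521), (13620, 13747), (13621, 9376), (13622, 9609), (13623, 15695), (13624, 13859), (13625,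 17530), (13626, 13758), (13627, 17533), (13628, 9379), (13629, 9381), (13630, 9382), (13631, 13634)]
    ⟨e3 q13568 L185651 q13555, e3 q13569 L185661 q12164, e3 q13570 L185737 q13578, e3 q13571 L185681 q10751, e3 q13572 (flp_g L185725) q13577, e3 q13573 L185695 q12474, e3 q13574 L215518 q17501, e3 q13575 (flp_g L185705) q9306, e3 q13576 L196281 q14954, e3 q13577 L185725 q13572, e3 q13578 (flp_g L185737) q13570, e3 q13579 (flp_g L185751) q9314, e3 q13580 (flp_g L196452) q14971, e3 q13581 L185767 q10841, e3 q13582 (flp_g L185773) q9323, e3 q13583 (flp_g L185787) q9325, e3 q13584 (flp_g L215465) q17495, e3 q13585 (flp_g L185801) q9330, e3 q13586 L185823 q9338, e3 q13587 (flp_g L185837) q10656, e3 q13588 (flp_g L185841) q9336, e3 q13589 L185857 q10825, e3 q13590 (flp_g L195898) q14909, e3 q13591 L185881 q10667, e3 q13592 L185893 q9346, e3 q13593 (flp_g L186879) q13705, e3 q13594 L185913 q13550, e3 q13595 L185919 q10668, e3 q13596 L185931 q11959, e3 q13597 L185939 q13597, e3 q13598 L185946 q13598, e3 q13599 (flp_g L215608)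 q17509, e3 q13600 L215636 q17513, e3 q13601 L215659 q17515, e3 q13602 (flp_g L185973) q9355, e3 q13603 (flp_g L185981) q9356, e3 q13604 L186003 q9415, e3 q13605 L186013 q13605, e3 q13606 (flp_g L205631) q16311, e3 q13607 L186033 q13607, e3 q13608 L186040 q9364, e3 q13609 L186046 q13609, e3 q13610 (flp_g L215671) q17516, e3 q13611 L215681 q17518, e3 q13612 (flp_g L186058) q9365, e3 q13613 L215691 q17519, e3 q13614 (flp_g L186075) q9366, e3 q13615 (flp_g L214527) q17399, e3 q13616 L186095 q9372, e3 q13617 L215723 q17523, e3 q13618 (flp_g L186107) q9370, e3 q13619 (flp_g L215713) q17521, e3 q13620 (flp_g L187217) q13747, e3 q13621 L186141 q9376, e3 q13622 L186151 q9609, e3 q13623 (flp_g L201187) q15695, e3 q13624 (flp_g L188035) q13859, e3 q13625 L215783 q17530, e3 q13626 (flp_g L187293) q13758, e3 q13627 L215809 q17533, e3 q13628 (flp_g L186191) q9379, e3 q13629 L186205 q9381, e3 q13630 L186213 q9382, e3 q13631 L186242 q13634, trivial⟩ (by decide +kernel)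

theorem ce_g_213 : ∀ r, r < 64 → sm gg (Qf (13632 + r)) = Qf (tab Gen.g (13632 + r)) :=
  edges_tab (sm gg) Qf (tab Gen.g) 13632 [(13632, 10164), (13633, 14381), (13634, 13631), (13635, 16268), (13636, 17537), (13637, 9383), (13638, 13646), (13639, 17538), (13640, 9384), (13641, 9565), (13642, 17539), (13643, 9385), (13644, 17540), (13645, 9386), (13646, 13638), (13647, 9390), (13648, 17542), (13649, 9404), (13650, 13764), (13651, 9400), (13652, 9402), (13653, 17544), (13654, 9519), (13655, 17547), (13656, 9403), (13657, 13737), (13658, 11619), (13659, 17551), (13660, 9406), (13661, 13836), (13662, 17553), (13663, 9417), (13664, 10537), (13665, 14999), (13666, 13666), (13667, 14997), (13668, 13668), (13669, 15001), (13670, 13670), (13671, 9426), (13672, 9756), (13673, 12449), (13674, 12481), (13675, 13932), (13676, 16428), (13677, 9430), (13678, 9431), (13679, 13682), (13680, 10415), (13681, 13696), (13682, 13679), (13683, 13695), (13684, 9443), (13685, 9432), (13686, 13694), (13687, 12465), (13688, 9433), (13689,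 9731), (13690, 14713), (13691, 9434), (13692, 9447), (13693, 9435), (13694, 13686), (13695, 13683)]
    ⟨e3 q13632 L186224 q10164, e3 q13633 (flp_g L191886) q14381, e3 q13634 (flp_g L186242) q13631, e3 q13635 (flp_g L205233) q16268, e3 q13636 L215843 q17537, e3 q13637 (flp_g L186254) q9383, e3 q13638 (flp_g L186327) q13646, e3 q13639 L215853 q17538, e3 q13640 (flp_g L186279) q9384, e3 q13641 (flp_g L186291) q9565, e3 q13642 L215859 q17539, e3 q13643 (flp_g L186299) q9385, e3 q13644 L215869 q17540, e3 q13645 (flp_g L186315) q9386, e3 q13646 L186327 q13638, e3 q13647 (flp_g L186329) q9390, e3 q13648 (flp_g L215897) q17542, e3 q13649 L186355 q9404, e3 q13650 (flp_g L187339) q13764, e3 q13651 (flp_g L186365) q9400, e3 q13652 L186383 q9402, e3 q13653 (flp_g L215917) q17544, e3 q13654 (flp_g L186396) q9519, e3 q13655 L215930 q17547, e3 q13656 (flp_g L186405) q9403, e3 q13657 L187137 q13737, e3 q13658 L186427 q11619, e3 q13659 L215967 q17551, e3 q13660 (flp_g L186436) q9406, e3 q13661 (flp_g L187889) q13836, e3 q13662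 L215989 q17553, e3 q13663 (flp_g L186457) q9417, e3 q13664 L186479 q10537, e3 q13665 (flp_g L196675) q14999, e3 q13666 L186500 q13666, e3 q13667 (flp_g L196657) q14997, e3 q13668 L186514 q13668, e3 q13669 (flp_g L196685) q15001, e3 q13670 L186528 q13670, e3 q13671 L186539 q9426, e3 q13672 L186551 q9756, e3 q13673 L186559 q12449, e3 q13674 L186569 q12481, e3 q13675 (flp_g L188581) q13932, e3 q13676 L206598 q16428, e3 q13677 L186597 q9430, e3 q13678 L186605 q9431, e3 q13679 L186643 q13682, e3 q13680 L186625 q10415, e3 q13681 (flp_g L186779) q13696, e3 q13682 (flp_g L186643) q13679, e3 q13683 L186769 q13695, e3 q13684 L186659 q9443, e3 q13685 (flp_g L186662) q9432, e3 q13686 (flp_g L186757) q13694, e3 q13687 (flp_g L186692) q12465, e3 q13688 (flp_g L186694) q9433, e3 q13689 (flp_g L186714) q9731, e3 q13690 L194135 q14713, e3 q13691 (flp_g L186722) q9434, e3 q13692 L186736 q9447, e3 q13693 (flp_g L186738) q9435, e3 q13694 L186757 q13686, e3 q13695 (flp_g L186769) q13683, trivial⟩ (by decide +kernel)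

theorem ce_g_214 : ∀ r, r < 64 → sm gg (Qf (13696 + r)) = Qf (tab Gen.g (13696 + r)) :=
  edges_tab (sm gg) Qf (tab Gen.g) 13696 [(13696, 13681), (13697, 9444), (13698, 9450), (13699, 9452), (13700, 10326), (13701, 9456), (13702, 10815), (13703, 10837), (13704, 9463), (13705, 13593), (13706, 13545), (13707, 14964), (13708, 10774), (13709, 9479), (13710, 9486), (13711, 9703), (13712, 9704), (13713, 9481), (13714, 9875), (13715, 13942), (13716, 9487), (13717, 10781), (13718, 9490), (13719, 15150), (13720, 9543), (13721, 17563), (13722, 9494), (13723, 13803), (13724, 13804), (13725, 17567), (13726, 17569), (13727, 9496), (13728, 9497), (13729, 10033), (13730, 10034), (13731, 10035), (13732, 14318), (13733, 17526), (13734, 9504), (13735, 9506), (13736, 13742), (13737, 13657), (13738, 17582), (13739, 9503), (13740, 16305), (13741, 17576), (13742, 13736), (13743, 17588), (13744, 9507), (13745, 9542), (13746, 13046), (13747, 13620), (13748, 9597), (13749, 9598), (13750, 10062), (13751, 9604), (13752, 13841), (13753, 13842),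 (13754, 17602), (13755, 14375), (13756, 16638), (13757, 9515), (13758, 13626), (13759, 13769)]
    ⟨e3 q13696 L186779 q13681, e3 q13697 (flp_g L186781) q9444, e3 q13698 (flp_g L186791) q9450, e3 q13699 (flp_g L186801) q9452, e3 q13700 L186819 q10326, e3 q13701 (flp_g L186821) q9456, e3 q13702 L186843 q10815, e3 q13703 (flp_g L186855) q10837, e3 q13704 (flp_g L186859) q9463, e3 q13705 L186879 q13593, e3 q13706 L186893 q13545, e3 q13707 (flp_g L196373) q14964, e3 q13708 L186917 q10774, e3 q13709 L186923 q9479, e3 q13710 L186929 q9486, e3 q13711 L186937 q9703, e3 q13712 (flp_g L186945) q9704, e3 q13713 (flp_g L186947) q9481, e3 q13714 L186967 q9875, e3 q13715 (flp_g L188663) q13942, e3 q13716 (flp_g L186975) q9487, e3 q13717 (flp_g L186991) q10781, e3 q13718 (flp_g L186995) q9490, e3 q13719 (flp_g L197701) q15150, e3 q13720 L187017 q9543, e3 q13721 L216075 q17563, e3 q13722 (flp_g L187027) q9494, e3 q13723 (flp_g L187647) q13803, e3 q13724 (flp_g L187657) q13804, e3 q13725 L216105 q17567, e3 q13726 L216117 q17569,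 e3 q13727 (flp_g L187067) q9496, e3 q13728 (flp_g L187071) q9497, e3 q13729 L187081 q10033, e3 q13730 L187087 q10034, e3 q13731 L187093 q10035, e3 q13732 L191441 q14318, e3 q13733 (flp_g L215757) q17526, e3 q13734 L187117 q9504, e3 q13735 L187121 q9506, e3 q13736 L187173 q13742, e3 q13737 (flp_g L187137) q13657, e3 q13738 L216203 q17582, e3 q13739 (flp_g L187143) q9503, e3 q13740 (flp_g L205576) q16305, e3 q13741 (flp_g L216163) q17576, e3 q13742 (flp_g L187173) q13736, e3 q13743 L216247 q17588, e3 q13744 (flp_g L187183) q9507, e3 q13745 L187199 q9542, e3 q13746 L187207 q13046, e3 q13747 L187217 q13620, e3 q13748 L187223 q9597, e3 q13749 L187233 q9598, e3 q13750 L187243 q10062, e3 q13751 L187249 q9604, e3 q13752 L187931 q13841, e3 q13753 L187941 q13842, e3 q13754 L216341 q17602, e3 q13755 (flp_g L191842) q14375, e3 q13756 (flp_g L208403) q16638, e3 q13757 (flp_g L187281) q9515, e3 q13758 L187293 q13626, e3 q13759 (flp_g L187379) q13769, trivial⟩ (by decide +kernel)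

theorem ce_g_215 : ∀ r, r < 64 → sm gg (Qf (13760 + r)) = Qf (tab Gen.g (13760 + r)) :=
  edges_tab (sm gg) Qf (tab Gen.g) 13760 [(13760, 17605), (13761, 9517), (13762, 17543), (13763, 17546), (13764, 13650), (13765, 17613), (13766, 17614), (13767, 9520), (13768, 9522), (13769, 13759), (13770, 13837), (13771, 9529), (13772, 15431), (13773, 9530), (13774, 9539), (13775, 10254), (13776, 9616), (13777, 9537), (13778, 17619), (13779, 17548), (13780, 15045), (13781, 15184), (13782, 10107), (13783, 13822), (13784, 13452), (13785, 9576), (13786, 14417), (13787, 13257), (13788, 13797), (13789, 9601), (13790, 17629), (13791, 9559), (13792, 9560), (13793, 17058), (13794, 17404), (13795, 17403), (13796, 17637), (13797, 13788), (13798, 14449), (13799, 10132), (13800, 17641), (13801, 9566), (13802, 10138), (13803, 13723), (13804, 13724), (13805, 17650), (13806, 17652), (13807, 17654), (13808, 9570), (13809, 17658), (13810, 9571), (13811, 17662), (13812, 9584), (13813, 9586), (13814, 9587), (13815, 13828), (13816, 12285), (13817,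 11049), (13818, 17672), (13819, 9577), (13820, 15546), (13821, 17676), (13822, 13783), (13823, 9580)]
    ⟨e3 q13760 L216367 q17605, e3 q13761 (flp_g L187311) q9517, e3 q13762 (flp_g L215909) q17543, e3 q13763 L215928 q17546, e3 q13764 L187339 q13650, e3 q13765 L216425 q17613, e3 q13766 L216429 q17614, e3 q13767 (flp_g L187353) q9520, e3 q13768 (flp_g L187363) q9522, e3 q13769 L187379 q13759, e3 q13770 (flp_g L187897) q13837, e3 q13771 L187397 q9529, e3 q13772 (flp_g L199373) q15431, e3 q13773 (flp_g L187409) q9530, e3 q13774 L187423 q9539, e3 q13775 L187431 q10254, e3 q13776 (flp_g L187443) q9616, e3 q13777 (flp_g L187445) q9537, e3 q13778 (flp_g L216477) q17619, e3 q13779 (flp_g L215954) q17548, e3 q13780 (flp_g L197011) q15045, e3 q13781 (flp_g L197881) q15184, e3 q13782 L187495 q10107, e3 q13783 (flp_g L187767) q13822, e3 q13784 L187513 q13452, e3 q13785 L187529 q9576, e3 q13786 (flp_g L192143) q14417, e3 q13787 L187541 q13257, e3 q13788 (flp_g L187613) q13797, e3 q13789 L187555 q9601, e3 q13790 L216543 q17629,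 e3 q13791 (flp_g L187565) q9559, e3 q13792 (flp_g L187575) q9560, e3 q13793 (flp_g L211871) q17058, e3 q13794 (flp_g L214573) q17404, e3 q13795 L214563 q17403, e3 q13796 L216611 q17637, e3 q13797 L187613 q13788, e3 q13798 (flp_g L192355) q14449, e3 q13799 (flp_g L187625) q10132, e3 q13800 L216649 q17641, e3 q13801 (flp_g L187631) q9566, e3 q13802 L187639 q10138, e3 q13803 L187647 q13723, e3 q13804 L187657 q13724, e3 q13805 L216689 q17650, e3 q13806 L216703 q17652, e3 q13807 L216717 q17654, e3 q13808 (flp_g L187673) q9570, e3 q13809 L216753 q17658, e3 q13810 (flp_g L187683) q9571, e3 q13811 L216789 q17662, e3 q13812 L187701 q9584, e3 q13813 L187705 q9586, e3 q13814 L187709 q9587, e3 q13815 L187839 q13828, e3 q13816 (flp_g L187723) q12285, e3 q13817 L187731 q11049, e3 q13818 L216867 q17672, e3 q13819 (flp_g L187737) q9577, e3 q13820 (flp_g L200099) q15546, e3 q13821 L216918 q17676, e3 q13822 L187767 q13783, e3 q13823 (flp_g L187769) q9580, trivial⟩ (by decide +kernel)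

theorem ce_g_216 : ∀ r, r < 64 → sm gg (Qf (13824 + r)) = Qf (tab Gen.g (13824 + r)) :=
  edges_tab (sm gg) Qf (tab Gen.g) 13824 [(13824, 17677), (13825, 9583), (13826, 17663), (13827, 17664), (13828, 13815), (13829, 11039), (13830, 17686), (13831, 17666), (13832, 17690), (13833, 17691), (13834, 9588), (13835, 13835), (13836, 13661), (13837, 13770), (13838, 17699), (13839, 9593), (13840, 17593), (13841, 13752), (13842, 13753), (13843, 17705), (13844, 17707), (13845, 15900), (13846, 9600), (13847, 17711), (13848, 9602), (13849, 17596), (13850, 17715), (13851, 17717), (13852, 9605), (13853, 9606), (13854, 16134), (13855, 16136), (13856, 16137), (13857, 17724), (13858, 17527), (13859, 13624), (13860, 17731), (13861, 13883), (13862, 14421), (13863, 17736), (13864, 9611), (13865, 15837), (13866, 15295), (13867, 15298), (13868, 11085), (13869, 17741), (13870, 17744), (13871, 14633), (13872, 9618), (13873, 17745), (13874, 9621), (13875, 17748), (13876, 17749), (13877, 9622), (13878, 11322), (13879, 17754), (13880, 17756),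 (13881, 9624), (13882, 9625), (13883, 13861), (13884, 17763), (13885, 17765), (13886, 9628), (13887, 15581)]
    ⟨e3 q13824 L216926 q17677, e3 q13825 (flp_g L187793) q9583, e3 q13826 (flp_g L216805) q17663, e3 q13827 (flp_g L216815) q17664, e3 q13828 (flp_g L187839) q13815, e3 q13829 L187849 q11039, e3 q13830 L217002 q17686, e3 q13831 (flp_g L216825) q17666, e3 q13832 L217021 q17690, e3 q13833 L217031 q17691, e3 q13834 (flp_g L187872) q9588, e3 q13835 L187884 q13835, e3 q13836 L187889 q13661, e3 q13837 L187897 q13770, e3 q13838 L217100 q17699, e3 q13839 (flp_g L187907) q9593, e3 q13840 (flp_g L216291) q17593, e3 q13841 (flp_g L187931) q13752, e3 q13842 (flp_g L187941) q13753, e3 q13843 L217136 q17705, e3 q13844 L217154 q17707, e3 q13845 (flp_g L202609) q15900, e3 q13846 (flp_g L187957) q9600, e3 q13847 L217208 q17711, e3 q13848 (flp_g L187965) q9602, e3 q13849 (flp_g L216313) q17596, e3 q13850 L217232 q17715, e3 q13851 L217246 q17717, e3 q13852 (flp_g L187987) q9605, e3 q13853 (flp_g L187995) q9606, e3 q13854 (flp_g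 L204203) q16134, e3 q13855 (flp_g L204213) q16136, e3 q13856 (flp_g L204221) q16137, e3 q13857 L217290 q17724, e3 q13858 (flp_g L215769) q17527, e3 q13859 L188035 q13624, e3 q13860 L217356 q17731, e3 q13861 (flp_g L188224) q13883, e3 q13862 (flp_g L192169) q14421, e3 q13863 L217398 q17736, e3 q13864 (flp_g L188059) q9611, e3 q13865 (flp_g L202110) q15837, e3 q13866 (flp_g L198579) q15295, e3 q13867 L198599 q15298, e3 q13868 L188091 q11085, e3 q13869 L217442 q17741, e3 q13870 L217472 q17744, e3 q13871 (flp_g L193511) q14633, e3 q13872 (flp_g L188113) q9618, e3 q13873 L217482 q17745, e3 q13874 (flp_g L188137) q9621, e3 q13875 L217512 q17748, e3 q13876 L217522 q17749, e3 q13877 (flp_g L188179) q9622, e3 q13878 L188195 q11322, e3 q13879 L217558 q17754, e3 q13880 L217568 q17756, e3 q13881 (flp_g L188207) q9624, e3 q13882 (flp_g L188211) q9625, e3 q13883 L188224 q13861, e3 q13884 L217616 q17763, e3 q13885 L217634 q17765, e3 q13886 (flp_g L188237) q9628, e3 q13887 (flp_g L200339) q15581, trivial⟩ (by decide +kernel)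

theorem ce_g_217 : ∀ r, r < 64 → sm gg (Qf (13888 + r)) = Qf (tab Gen.g (13888 + r)) :=
  edges_tab (sm gg) Qf (tab Gen.g) 13888 [(13888, 17770), (13889, 13895), (13890, 9629), (13891, 17775), (13892, 17776), (13893, 13905), (13894, 9630), (13895, 13889), (13896, 17781), (13897, 17783), (13898, 17784), (13899, 9634), (13900, 17786), (13901, 17788), (13902, 9882), (13903, 9636), (13904, 17793), (13905, 13893), (13906, 17768), (13907, 9637), (13908, 9638), (13909, 17797), (13910, 17799), (13911, 17800), (13912, 9641), (13913, 17804), (13914, 17805), (13915, 9643), (13916, 13928), (13917, 9650), (13918, 17814), (13919, 17816), (13920, 9651), (13921, 9645), (13922, 17819), (13923, 17820), (13924, 9649), (13925, 17809), (13926, 17813), (13927, 17815), (13928, 13916), (13929, 12445), (13930, 16856), (13931, 16777), (13932, 13675), (13933, 12798), (13934, 12707), (13935, 10315), (13936, 12487), (13937, 10318), (13938, 9677), (13939, 9685), (13940, 13951), (13941, 16354), (13942, 13715), (13943, 16301), (13944, 16358),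 (13945, 9682), (13946, 16304), (13947, 14160), (13948, 17835), (13949, 14020), (13950, 14001), (13951, 13940)]
    ⟨e3 q13888 L217674 q17770, e3 q13889 (flp_g L188298) q13895, e3 q13890 (flp_g L188263) q9629, e3 q13891 L217708 q17775, e3 q13892 L217712 q17776, e3 q13893 L188347 q13905, e3 q13894 (flp_g L188286) q9630, e3 q13895 L188298 q13889, e3 q13896 L217746 q17781, e3 q13897 L217757 q17783, e3 q13898 L217763 q17784, e3 q13899 (flp_g L188311) q9634, e3 q13900 L217773 q17786, e3 q13901 L217787 q17788, e3 q13902 L188329 q9882, e3 q13903 (flp_g L188331) q9636, e3 q13904 L217825 q17793, e3 q13905 (flp_g L188347) q13893, e3 q13906 L217666 q17768, e3 q13907 (flp_g L188353) q9637, e3 q13908 (flp_g L188362) q9638, e3 q13909 L217847 q17797, e3 q13910 L217857 q17799, e3 q13911 L217864 q17800, e3 q13912 (flp_g L188382) q9641, e3 q13913 L217894 q17804, e3 q13914 L217904 q17805, e3 q13915 (flp_g L188402) q9643, e3 q13916 L222748 q13928, e3 q13917 L222624 q9650, e3 q13918 L217980 q17814, e3 q13919 L217991 q17816, e3 q13920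 (flp_g L222737) q9651, e3 q13921 (flp_g L188447) q9645, e3 q13922 L218040 q17819, e3 q13923 L218050 q17820, e3 q13924 (flp_g L188483) q9649, e3 q13925 L222817 q17809, e3 q13926 (flp_g L222750) q17813, e3 q13927 (flp_g L222720) q17815, e3 q13928 (flp_g L222748) q13916, e3 q13929 L188559 q12445, e3 q13930 (flp_g L210299) q16856, e3 q13931 (flp_g L209679) q16777, e3 q13932 L188581 q13675, e3 q13933 L188587 q12798, e3 q13934 L188593 q12707, e3 q13935 L188601 q10315, e3 q13936 L188611 q12487, e3 q13937 L188619 q10318, e3 q13938 (flp_g L188623) q9677, e3 q13939 L188637 q9685, e3 q13940 L188715 q13951, e3 q13941 (flp_g L205967) q16354, e3 q13942 L188663 q13715, e3 q13943 (flp_g L205544) q16301, e3 q13944 (flp_g L205994) q16358, e3 q13945 (flp_g L188679) q9682, e3 q13946 (flp_g L205568) q16304, e3 q13947 L190309 q14160, e3 q13948 L218238 q17835, e3 q13949 L189203 q14020, e3 q13950 L189081 q14001, e3 q13951 (flp_g L188715) q13940, trivial⟩ (by decide +kernel)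

theorem ce_g_218 : ∀ r, r < 64 → sm gg (Qf (13952 + r)) = Qf (tab Gen.g (13952 + r)) :=
  edges_tab (sm gg) Qf (tab Gen.g) 13952 [(13952, 17837), (13953, 12770), (13954, 9701), (13955, 13971), (13956, 13970), (13957, 9689), (13958, 11964), (13959, 17840), (13960, 9695), (13961, 14730), (13962, 9789), (13963, 13977), (13964, 12155), (13965, 17841), (13966, 11967), (13967, 14161), (13968, 14159), (13969, 9706), (13970, 13956), (13971, 13955), (13972, 9707), (13973, 17844), (13974, 16867), (13975, 9709), (13976, 9710), (13977, 13963), (13978, 14733), (13979, 9719), (13980, 17851), (13981, 11878), (13982, 14969), (13983, 10417), (13984, 17848), (13985, 9727), (13986, 12331), (13987, 12323), (13988, 12483), (13989, 17497), (13990, 9744), (13991, 9747), (13992, 17833), (13993, 17855), (13994, 14193), (13995, 14985), (13996, 17860), (13997, 17504), (13998, 9743), (13999, 17854), (14000, 13396), (14001, 13950), (14002, 16828), (14003, 13308), (14004, 14972), (14005, 13269), (14006, 14944), (14007, 16654), (14008, 10662),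 (14009, 10686), (14010, 16456), (14011, 14948), (14012, 17852), (14013, 9906), (14014, 16661), (14015, 17828)]
    ⟨e3 q13952 L218254 q17837, e3 q13953 L188723 q12770, e3 q13954 L188733 q9701, e3 q13955 L188853 q13971, e3 q13956 L188843 q13970, e3 q13957 (flp_g L188749) q9689, e3 q13958 L188759 q11964, e3 q13959 L218286 q17840, e3 q13960 (flp_g L188767) q9695, e3 q13961 (flp_g L194277) q14730, e3 q13962 L188793 q9789, e3 q13963 (flp_g L188911) q13977, e3 q13964 L188809 q12155, e3 q13965 L218298 q17841, e3 q13966 L188823 q11967, e3 q13967 (flp_g L190489) q14161, e3 q13968 L190479 q14159, e3 q13969 (flp_g L188833) q9706, e3 q13970 (flp_g L188843) q13956, e3 q13971 (flp_g L188853) q13955, e3 q13972 (flp_g L188855) q9707, e3 q13973 (flp_g L218332) q17844, e3 q13974 (flp_g L210403) q16867, e3 q13975 (flp_g L188877) q9709, e3 q13976 (flp_g L188887) q9710, e3 q13977 L188911 q13963, e3 q13978 (flp_g L194313) q14733, e3 q13979 L188925 q9719, e3 q13980 L218400 q17851, e3 q13981 L188941 q11878, e3 q13982 (flp_g L196422) q14969,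 e3 q13983 L188963 q10417, e3 q13984 (flp_g L218374) q17848, e3 q13985 (flp_g L188969) q9727, e3 q13986 L188989 q12331, e3 q13987 L188999 q12323, e3 q13988 L189009 q12483, e3 q13989 (flp_g L215487) q17497, e3 q13990 L189025 q9744, e3 q13991 L189029 q9747, e3 q13992 (flp_g L218222) q17833, e3 q13993 L218430 q17855, e3 q13994 (flp_g L190598) q14193, e3 q13995 (flp_g L208821) q14985, e3 q13996 L218468 q17860, e3 q13997 (flp_g L215554) q17504, e3 q13998 (flp_g L189055) q9743, e3 q13999 (flp_g L218428) q17854, e3 q14000 L189069 q13396, e3 q14001 (flp_g L189081) q13950, e3 q14002 (flp_g L210069) q16828, e3 q14003 L189097 q13308, e3 q14004 (flp_g L196460) q14972, e3 q14005 L189111 q13269, e3 q14006 L196193 q14944, e3 q14007 (flp_g L208578) q16654, e3 q14008 L189135 q10662, e3 q14009 L189147 q10686, e3 q14010 (flp_g L206867) q16456, e3 q14011 (flp_g L196222) q14948, e3 q14012 (flp_g L218412) q17852, e3 q14013 L189167 q9906, e3 q14014 (flp_g L208642) q16661, e3 q14015 (flp_g L218170) q17828, trivial⟩ (by decide +kernel)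

theorem ce_g_219 : ∀ r, r < 64 → sm gg (Qf (14016 + r)) = Qf (tab Gen.g (14016 + r)) :=
  edges_tab (sm gg) Qf (tab Gen.g) 14016 [(14016, 17873), (14017, 9763), (14018, 17874), (14019, 9764), (14020, 13949), (14021, 17876), (14022, 9766), (14023, 9767), (14024, 13503), (14025, 11982), (14026, 14783), (14027, 16687), (14028, 10460), (14029, 13300), (14030, 9777), (14031, 14743), (14032, 14740), (14033, 10378), (14034, 17881), (14035, 9781), (14036, 12507), (14037, 17035), (14038, 17883), (14039, 9786), (14040, 9787), (14041, 12261), (14042, 14045), (14043, 12040), (14044, 9790), (14045, 14042), (14046, 9863), (14047, 14114), (14048, 9793), (14049, 9812), (14050, 9813), (14051, 9817), (14052, 9818), (14053, 10448), (14054, 14070), (14055, 16233), (14056, 16270), (14057, 14797), (14058, 17891), (14059, 9805), (14060, 16279), (14061, 14098), (14062, 14068), (14063, 9808), (14064, 14101), (14065, 17730), (14066, 9809), (14067, 9810), (14068, 14062), (14069, 17885), (14070, 14054), (14071, 12221), (14072, 17442), (14073,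 17898), (14074, 9816), (14075, 17886), (14076, 17887), (14077, 9819), (14078, 14078), (14079, 14079)]
    ⟨e3 q14016 L218578 q17873, e3 q14017 (flp_g L189177) q9763, e3 q14018 L218590 q17874, e3 q14019 (flp_g L189183) q9764, e3 q14020 (flp_g L189203) q13949, e3 q14021 L218606 q17876, e3 q14022 (flp_g L189211) q9766, e3 q14023 (flp_g L189223) q9767, e3 q14024 L189233 q13503, e3 q14025 L189241 q11982, e3 q14026 (flp_g L194771) q14783, e3 q14027 (flp_g L208883) q16687, e3 q14028 L189271 q10460, e3 q14029 (flp_g L189287) q13300, e3 q14030 (flp_g L189291) q9777, e3 q14031 (flp_g L194390) q14743, e3 q14032 (flp_g L194370) q14740, e3 q14033 (flp_g L189321) q10378, e3 q14034 L218658 q17881, e3 q14035 (flp_g L189329) q9781, e3 q14036 L189341 q12507, e3 q14037 (flp_g L211721) q17035, e3 q14038 L218676 q17883, e3 q14039 (flp_g L189357) q9786, e3 q14040 (flp_g L189363) q9787, e3 q14041 L189377 q12261, e3 q14042 L189423 q14045, e3 q14043 (flp_g L189393) q12040, e3 q14044 (flp_g L189395) q9790, e3 q14045 (flp_g L189423) q14042,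 e3 q14046 L189407 q9863, e3 q14047 L189955 q14114, e3 q14048 (flp_g L189411) q9793, e3 q14049 L189431 q9812, e3 q14050 L189441 q9813, e3 q14051 L189449 q9817, e3 q14052 L189461 q9818, e3 q14053 L189471 q10448, e3 q14054 L189591 q14070, e3 q14055 (flp_g L204920) q16233, e3 q14056 (flp_g L205246) q16270, e3 q14057 (flp_g L194901) q14797, e3 q14058 L218762 q17891, e3 q14059 (flp_g L189509) q9805, e3 q14060 (flp_g L205324) q16279, e3 q14061 L189819 q14098, e3 q14062 (flp_g L189573) q14068, e3 q14063 (flp_g L189535) q9808, e3 q14064 L189843 q14101, e3 q14065 L217354 q17730, e3 q14066 (flp_g L189555) q9809, e3 q14067 (flp_g L189563) q9810, e3 q14068 L189573 q14062, e3 q14069 (flp_g L218708) q17885, e3 q14070 (flp_g L189591) q14054, e3 q14071 (flp_g L189599) q12221, e3 q14072 (flp_g L214960) q17442, e3 q14073 L218834 q17898, e3 q14074 (flp_g L189621) q9816, e3 q14075 (flp_g L218720) q17886, e3 q14076 (flp_g L218726) q17887, e3 q14077 (flp_g L189639) q9819, e3 q14078 L189649 q14078, e3 q14079 L189652 q14079, trivial⟩ (by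 decide +kernel)

theorem ce_g_220 : ∀ r, r < 64 → sm gg (Qf (14080 + r)) = Qf (tab Gen.g (14080 + r)) :=
  edges_tab (sm gg) Qf (tab Gen.g) 14080 [(14080, 16298), (14081, 11963), (14082, 10413), (14083, 9825), (14084, 12512), (14085, 13351), (14086, 9829), (14087, 13371), (14088, 10793), (14089, 17903), (14090, 9832), (14091, 12513), (14092, 16690), (14093, 13077), (14094, 16590), (14095, 16592), (14096, 12320), (14097, 9841), (14098, 14061), (14099, 14699), (14100, 9843), (14101, 14064), (14102, 9846), (14103, 10491), (14104, 14128), (14105, 13367), (14106, 17911), (14107, 9848), (14108, 9849), (14109, 14826), (14110, 9857), (14111, 17293), (14112, 13463), (14113, 16297), (14114, 14047), (14115, 14119), (14116, 9861), (14117, 9862), (14118, 17915), (14119, 14115), (14120, 14598), (14121, 9866), (14122, 10512), (14123, 10508), (14124, 10241), (14125, 12278), (14126, 14816), (14127, 14597), (14128, 14104), (14129, 16451), (14130, 17923), (14131, 9874), (14132, 9876), (14133, 16299), (14134, 11837), (14135, 16326),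 (14136, 17925), (14137, 17846), (14138, 16719), (14139, 14143), (14140, 9885), (14141, 12537), (14142, 9886), (14143, 14139)]
    ⟨e3 q14080 (flp_g L205512) q16298, e3 q14081 L189667 q11963, e3 q14082 (flp_g L189675) q10413, e3 q14083 (flp_g L189679) q9825, e3 q14084 L189695 q12512, e3 q14085 (flp_g L189709) q13351, e3 q14086 (flp_g L189711) q9829, e3 q14087 L189731 q13371, e3 q14088 (flp_g L189739) q10793, e3 q14089 L218870 q17903, e3 q14090 (flp_g L189745) q9832, e3 q14091 L189759 q12513, e3 q14092 L208907 q16690, e3 q14093 L189773 q13077, e3 q14094 (flp_g L207971) q16590, e3 q14095 (flp_g L207991) q16592, e3 q14096 (flp_g L189799) q12320, e3 q14097 (flp_g L189801) q9841, e3 q14098 (flp_g L189819) q14061, e3 q14099 L194007 q14699, e3 q14100 (flp_g L189825) q9843, e3 q14101 (flp_g L189843) q14064, e3 q14102 (flp_g L189847) q9846, e3 q14103 L189863 q10491, e3 q14104 (flp_g L190071) q14128, e3 q14105 (flp_g L189885) q13367, e3 q14106 L218950 q17911, e3 q14107 (flp_g L189895) q9848, e3 q14108 (flp_g L189907) q9849,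 e3 q14109 (flp_g L195155) q14826, e3 q14110 (flp_g L189921) q9857, e3 q14111 (flp_g L213535) q17293, e3 q14112 (flp_g L189939) q13463, e3 q14113 (flp_g L205502) q16297, e3 q14114 (flp_g L189955) q14047, e3 q14115 (flp_g L190001) q14119, e3 q14116 (flp_g L189969) q9861, e3 q14117 (flp_g L189989) q9862, e3 q14118 (flp_g L219004) q17915, e3 q14119 L190001 q14115, e3 q14120 (flp_g L193307) q14598, e3 q14121 (flp_g L190011) q9866, e3 q14122 L190023 q10512, e3 q14123 L190037 q10508, e3 q14124 L190045 q10241, e3 q14125 L190053 q12278, e3 q14126 L195071 q14816, e3 q14127 L193299 q14597, e3 q14128 L190071 q14104, e3 q14129 (flp_g L206827) q16451, e3 q14130 L219066 q17923, e3 q14131 (flp_g L190083) q9874, e3 q14132 (flp_g L190087) q9876, e3 q14133 (flp_g L205520) q16299, e3 q14134 (flp_g L190105) q11837, e3 q14135 (flp_g L205763) q16326, e3 q14136 L219084 q17925, e3 q14137 (flp_g L218350) q17846, e3 q14138 (flp_g L209151) q16719, e3 q14139 (flp_g L190174) q14143, e3 q14140 (flp_g L190137) q9885, e3 q14141 (flp_g L190158)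 q12537, e3 q14142 (flp_g L190160) q9886, e3 q14143 L190174 q14139, trivial⟩ (by decide +kernel)

theorem ce_g_221 : ∀ r, r < 64 → sm gg (Qf (14144 + r)) = Qf (tab Gen.g (14144 + r)) :=
  edges_tab (sm gg) Qf (tab Gen.g) 14144 [(14144, 9889), (14145, 11926), (14146, 17929), (14147, 17931), (14148, 12279), (14149, 9892), (14150, 16724), (14151, 9893), (14152, 9894), (14153, 16779), (14154, 9897), (14155, 17932), (14156, 9900), (14157, 11911), (14158, 9902), (14159, 13968), (14160, 13947), (14161, 13967), (14162, 14181), (14163, 9905), (14164, 14792), (14165, 17868), (14166, 12347), (14167, 12765), (14168, 17939), (14169, 9908), (14170, 17940), (14171, 9909), (14172, 9910), (14173, 14173), (14174, 10340), (14175, 14179), (14176, 12691), (14177, 14722), (14178, 16492), (14179, 14175), (14180, 17944), (14181, 14162), (14182, 16306), (14183, 14974), (14184, 9922), (14185, 10510), (14186, 17947), (14187, 9923), (14188, 10507), (14189, 10240), (14190, 14729), (14191, 14941), (14192, 9926), (14193, 13994), (14194, 17951),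 (14195, 17953), (14196, 9930), (14197, 10851), (14198, 14454), (14199, 17957), (14200, 9934), (14201, 9936), (14202, 17959), (14203, 9966), (14204, 14228), (14205, 11205), (14206, 15467), (14207, 15928)]
    ⟨e3 q14144 (flp_g L190176) q9889, e3 q14145 L190188 q11926, e3 q14146 L219136 q17929, e3 q14147 L219144 q17931, e3 q14148 L190210 q12279, e3 q14149 (flp_g L190214) q9892, e3 q14150 (flp_g L209193) q16724, e3 q14151 (flp_g L190228) q9893, e3 q14152 (flp_g L190239) q9894, e3 q14153 (flp_g L209697) q16779, e3 q14154 (flp_g L190259) q9897, e3 q14155 L219156 q17932, e3 q14156 (flp_g L190273) q9900, e3 q14157 L190285 q11911, e3 q14158 (flp_g L190287) q9902, e3 q14159 (flp_g L190479) q13968, e3 q14160 (flp_g L190309) q13947, e3 q14161 L190489 q13967, e3 q14162 L190477 q14181, e3 q14163 (flp_g L190319) q9905, e3 q14164 (flp_g L194857) q14792, e3 q14165 (flp_g L218548) q17868, e3 q14166 (flp_g L190347) q12347, e3 q14167 (flp_g L190361) q12765, e3 q14168 L219224 q17939, e3 q14169 (flp_g L190371) q9908, e3 q14170 L219232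 q17940, e3 q14171 (flp_g L190388) q9909, e3 q14172 (flp_g L190394) q9910, e3 q14173 L190412 q14173, e3 q14174 L190423 q10340, e3 q14175 (flp_g L190463) q14179, e3 q14176 L190437 q12691, e3 q14177 L194209 q14722, e3 q14178 L207160 q16492, e3 q14179 L190463 q14175, e3 q14180 L219270 q17944, e3 q14181 (flp_g L190477) q14162, e3 q14182 (flp_g L205584) q16306, e3 q14183 (flp_g L196478) q14974, e3 q14184 (flp_g L190511) q9922, e3 q14185 (flp_g L190527) q10510, e3 q14186 L219302 q17947, e3 q14187 (flp_g L190535) q9923, e3 q14188 L190553 q10507, e3 q14189 L190565 q10240, e3 q14190 (flp_g L194265) q14729, e3 q14191 (flp_g L196165) q14941, e3 q14192 (flp_g L190581) q9926, e3 q14193 L190598 q13994, e3 q14194 L219350 q17951, e3 q14195 L219372 q17953, e3 q14196 (flp_g L190617) q9930, e3 q14197 L190627 q10851, e3 q14198 (flp_g L192389) q14454, e3 q14199 L219410 q17957, e3 q14200 (flp_g L190645) q9934, e3 q14201 L190659 q9936, e3 q14202 (flp_g L219428) q17959, e3 q14203 L190671 q9966, e3 q14204 L190833 q14228, e3 q14205 L190689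 q11205, e3 q14206 (flp_g L199600) q15467, e3 q14207 L202874 q15928, trivial⟩ (by decide +kernel)

theorem ce_g_222 : ∀ r, r < 64 → sm gg (Qf (14208 + r)) = Qf (tab Gen.g (14208 + r)) :=
  edges_tab (sm gg) Qf (tab Gen.g) 14208 [(14208, 15872), (14209, 14239), (14210, 14238), (14211, 9955), (14212, 14212), (14213, 17973), (14214, 9951), (14215, 17976), (14216, 9952), (14217, 14241), (14218, 9979), (14219, 17969), (14220, 9980), (14221, 17985), (14222, 9958), (14223, 17986), (14224, 9960), (14225, 17977), (14226, 9970), (14227, 14236), (14228, 14204), (14229, 17961), (14230, 17996), (14231, 17998), (14232, 9967), (14233, 18002), (14234, 17988), (14235, 18006), (14236, 14227), (14237, 9976), (14238, 14210), (14239, 14209), (14240, 14302), (14241, 14217), (14242, 18014), (14243, 17979), (14244, 17982), (14245, 18022), (14246, 18023), (14247, 9981), (14248, 9982), (14249, 10867), (14250, 10985), (14251, 9986), (14252, 15056), (14253, 9993), (14254, 9995), (14255, 14259), (14256, 15428), (14257, 18038), (14258, 18028),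 (14259, 14255), (14260, 18029), (14261, 18030), (14262, 18045), (14263, 18047), (14264, 9996), (14265, 18051), (14266, 18053), (14267, 9998), (14268, 9999), (14269, 11102), (14270, 10111), (14271, 10168)]
    ⟨e3 q14208 (flp_g L202430) q15872, e3 q14209 (flp_g L190902) q14239, e3 q14210 (flp_g L190894) q14238, e3 q14211 L190721 q9955, e3 q14212 L190730 q14212, e3 q14213 L219516 q17973, e3 q14214 (flp_g L190737) q9951, e3 q14215 L219534 q17976, e3 q14216 (flp_g L190750) q9952, e3 q14217 (flp_g L190916) q14241, e3 q14218 L190771 q9979, e3 q14219 (flp_g L219493) q17969, e3 q14220 (flp_g L190783) q9980, e3 q14221 L219598 q17985, e3 q14222 (flp_g L190789) q9958, e3 q14223 L219606 q17986, e3 q14224 (flp_g L190803) q9960, e3 q14225 (flp_g L219546) q17977, e3 q14226 L190819 q9970, e3 q14227 (flp_g L190873) q14236, e3 q14228 (flp_g L190833) q14204, e3 q14229 (flp_g L219438) q17961, e3 q14230 L219684 q17996, e3 q14231 L219698 q17998, e3 q14232 (flp_g L190847) q9967, e3 q14233 L219722 q18002, e3 q14234 (flp_g L219624) q17988,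 e3 q14235 L219740 q18006, e3 q14236 L190873 q14227, e3 q14237 L190885 q9976, e3 q14238 L190894 q14210, e3 q14239 L190902 q14209, e3 q14240 (flp_g L191347) q14302, e3 q14241 L190916 q14217, e3 q14242 (flp_g L219800) q18014, e3 q14243 (flp_g L219564) q17979, e3 q14244 L219578 q17982, e3 q14245 L219840 q18022, e3 q14246 L219846 q18023, e3 q14247 (flp_g L190949) q9981, e3 q14248 (flp_g L190955) q9982, e3 q14249 L190973 q10867, e3 q14250 (flp_g L190989) q10985, e3 q14251 (flp_g L190991) q9986, e3 q14252 (flp_g L197079) q15056, e3 q14253 L191019 q9993, e3 q14254 L191025 q9995, e3 q14255 L191055 q14259, e3 q14256 (flp_g L199351) q15428, e3 q14257 L219956 q18038, e3 q14258 (flp_g L219884) q18028, e3 q14259 (flp_g L191055) q14255, e3 q14260 (flp_g L219888) q18029, e3 q14261 (flp_g L219896) q18030, e3 q14262 L219996 q18045, e3 q14263 L220012 q18047, e3 q14264 (flp_g L191073) q9996, e3 q14265 L220054 q18051, e3 q14266 L220066 q18053, e3 q14267 (flp_g L191093) q9998, e3 q14268 (flp_g L191099) q9999, e3 q14269 L191117 q11102,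 e3 q14270 L191129 q10111, e3 q14271 L191143 q10168, trivial⟩ (by decide +kernel)

theorem ce_g_223 : ∀ r, r < 64 → sm gg (Qf (14272 + r)) = Qf (tab Gen.g (14272 + r)) :=
  edges_tab (sm gg) Qf (tab Gen.g) 14272 [(14272, 10872), (14273, 14284), (14274, 18060), (14275, 10007), (14276, 11118), (14277, 18067), (14278, 18069), (14279, 10010), (14280, 18071), (14281, 18072), (14282, 10012), (14283, 17983), (14284, 14273), (14285, 15800), (14286, 18079), (14287, 10016), (14288, 18083), (14289, 18084), (14290, 18085), (14291, 10017), (14292, 10018), (14293, 18080), (14294, 10263), (14295, 18088), (14296, 10022), (14297, 18090), (14298, 18091), (14299, 18092), (14300, 10023), (14301, 10024), (14302, 14240), (14303, 14461), (14304, 18094), (14305, 18095), (14306, 18096), (14307, 10028), (14308, 10029), (14309, 18100), (14310, 10030), (14311, 18097), (14312, 17571), (14313, 17572), (14314, 17573), (14315, 18111), (14316, 11471), (14317, 17575), (14318, 13732), (14319, 18113), (14320, 10036), (14321, 11646), (14322, 16139),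 (14323, 10043), (14324, 10045), (14325, 14333), (14326, 17541), (14327, 11880), (14328, 15795), (14329, 18124), (14330, 15774), (14331, 10042), (14332, 18116), (14333, 14325), (14334, 18127), (14335, 18117)]
    ⟨e3 q14272 L191153 q10872, e3 q14273 (flp_g L191225) q14284, e3 q14274 L220116 q18060, e3 q14275 (flp_g L191171) q10007, e3 q14276 L191181 q11118, e3 q14277 L220168 q18067, e3 q14278 L220184 q18069, e3 q14279 (flp_g L191191) q10010, e3 q14280 L220198 q18071, e3 q14281 L220202 q18072, e3 q14282 (flp_g L191207) q10012, e3 q14283 (flp_g L219588) q17983, e3 q14284 L191225 q14273, e3 q14285 (flp_g L201876) q15800, e3 q14286 L220252 q18079, e3 q14287 (flp_g L191243) q10016, e3 q14288 L220288 q18083, e3 q14289 L220292 q18084, e3 q14290 L220302 q18085, e3 q14291 (flp_g L191265) q10017, e3 q14292 (flp_g L191269) q10018, e3 q14293 (flp_g L220268) q18080, e3 q14294 L191293 q10263, e3 q14295 L220326 q18088, e3 q14296 (flp_g L191301) q10022, e3 q14297 L220340 q18090, e3 q14298 L220348 q18091, e3 q14299 L220358 q18092,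 e3 q14300 (flp_g L191329) q10023, e3 q14301 (flp_g L191333) q10024, e3 q14302 L191347 q14240, e3 q14303 (flp_g L192437) q14461, e3 q14304 L220374 q18094, e3 q14305 L220380 q18095, e3 q14306 L220390 q18096, e3 q14307 (flp_g L191375) q10028, e3 q14308 (flp_g L191377) q10029, e3 q14309 L220412 q18100, e3 q14310 (flp_g L191391) q10030, e3 q14311 (flp_g L220396) q18097, e3 q14312 (flp_g L216131) q17571, e3 q14313 (flp_g L216137) q17572, e3 q14314 (flp_g L216141) q17573, e3 q14315 L220468 q18111, e3 q14316 (flp_g L191421) q11471, e3 q14317 (flp_g L216153) q17575, e3 q14318 (flp_g L191441) q13732, e3 q14319 L220488 q18113, e3 q14320 (flp_g L191455) q10036, e3 q14321 L191471 q11646, e3 q14322 L204239 q16139, e3 q14323 L191483 q10043, e3 q14324 L191491 q10045, e3 q14325 L191561 q14333, e3 q14326 (flp_g L215887) q17541, e3 q14327 L191515 q11880, e3 q14328 (flp_g L201846) q15795, e3 q14329 L220588 q18124, e3 q14330 L201678 q15774, e3 q14331 (flp_g L191533) q10042, e3 q14332 (flp_g L220526) q18116, e3 q14333 (flp_g L191561)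 q14325, e3 q14334 L220628 q18127, e3 q14335 (flp_g L220538) q18117, trivial⟩ (by decide +kernel)

theorem ce_g_224 : ∀ r, r < 64 → sm gg (Qf (14336 + r)) = Qf (tab Gen.g (14336 + r)) :=
  edges_tab (sm gg) Qf (tab Gen.g) 14336 [(14336, 18129), (14337, 16850), (14338, 10047), (14339, 15682), (14340, 14673), (14341, 14350), (14342, 10058), (14343, 16904), (14344, 16903), (14345, 18140), (14346, 10051), (14347, 16624), (14348, 10052), (14349, 11255), (14350, 14341), (14351, 14356), (14352, 15098), (14353, 10959), (14354, 18133), (14355, 10057), (14356, 14351), (14357, 17978), (14358, 10159), (14359, 14684), (14360, 12880), (14361, 17594), (14362, 18152), (14363, 10112), (14364, 10169), (14365, 14495), (14366, 18158), (14367, 16657), (14368, 18163), (14369, 18164), (14370, 10067), (14371, 16863), (14372, 12421), (14373, 10068), (14374, 10069), (14375, 13755), (14376, 10886), (14377, 18169), (14378, 14393), (14379, 18172), (14380, 10073), (14381, 13633), (14382, 16435), (14383, 11287), (14384, 16436), (14385, 12088),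 (14386, 10076), (14387, 18178), (14388, 10077), (14389, 18177), (14390, 18180), (14391, 10079), (14392, 10080), (14393, 14378), (14394, 18183), (14395, 10089), (14396, 11130), (14397, 15353), (14398, 15198), (14399, 17680)]
    ⟨e3 q14336 L220650 q18129, e3 q14337 (flp_g L210240) q16850, e3 q14338 (flp_g L191597) q10047, e3 q14339 (flp_g L201090) q15682, e3 q14340 (flp_g L193811) q14673, e3 q14341 (flp_g L191682) q14350, e3 q14342 (flp_g L191632) q10058, e3 q14343 (flp_g L210723) q16904, e3 q14344 (flp_g L210711) q16903, e3 q14345 L220738 q18140, e3 q14346 (flp_g L191648) q10051, e3 q14347 (flp_g L208287) q16624, e3 q14348 (flp_g L191658) q10052, e3 q14349 L191674 q11255, e3 q14350 L191682 q14341, e3 q14351 (flp_g L191724) q14356, e3 q14352 (flp_g L197319) q15098, e3 q14353 (flp_g L191700) q10959, e3 q14354 L220690 q18133, e3 q14355 (flp_g L191706) q10057, e3 q14356 L191724 q14351, e3 q14357 (flp_g L219554) q17978, e3 q14358 L191738 q10159, e3 q14359 (flp_g L193887) q14684, e3 q14360 L191746 q12880, e3 q14361 (flp_g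 L216299) q17594, e3 q14362 L220828 q18152, e3 q14363 L191766 q10112, e3 q14364 L191770 q10169, e3 q14365 L192649 q14495, e3 q14366 L220858 q18158, e3 q14367 (flp_g L208604) q16657, e3 q14368 L220886 q18163, e3 q14369 L220894 q18164, e3 q14370 (flp_g L191792) q10067, e3 q14371 (flp_g L210369) q16863, e3 q14372 (flp_g L191812) q12421, e3 q14373 (flp_g L191814) q10068, e3 q14374 (flp_g L191824) q10069, e3 q14375 L191842 q13755, e3 q14376 L191852 q10886, e3 q14377 L220940 q18169, e3 q14378 (flp_g L191984) q14393, e3 q14379 L220972 q18172, e3 q14380 (flp_g L191876) q10073, e3 q14381 L191886 q13633, e3 q14382 (flp_g L206659) q16435, e3 q14383 L191900 q11287, e3 q14384 (flp_g L206671) q16436, e3 q14385 (flp_g L191916) q12088, e3 q14386 (flp_g L191918) q10076, e3 q14387 L221030 q18178, e3 q14388 (flp_g L191934) q10077, e3 q14389 (flp_g L221026) q18177, e3 q14390 L221052 q18180, e3 q14391 (flp_g L191960) q10079, e3 q14392 (flp_g L191968) q10080, e3 q14393 L191984 q14378, e3 q14394 L221079 q18183, e3 q14395 L191997 q10089,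 e3 q14396 L192003 q11130, e3 q14397 (flp_g L198974) q15353, e3 q14398 (flp_g L197963) q15198, e3 q14399 L216964 q17680, trivial⟩ (by decide +kernel)

theorem ce_g_225 : ∀ r, r < 64 → sm gg (Qf (14400 + r)) = Qf (tab Gen.g (14400 + r)) :=
  edges_tab (sm gg) Qf (tab Gen.g) 14400 [(14400, 11015), (14401, 18188), (14402, 18190), (14403, 18191), (14404, 10091), (14405, 18193), (14406, 10092), (14407, 18192), (14408, 14408), (14409, 14409), (14410, 11126), (14411, 15327), (14412, 11111), (14413, 15332), (14414, 15334), (14415, 10100), (14416, 11239), (14417, 13786), (14418, 15464), (14419, 15466), (14420, 17623), (14421, 13862), (14422, 10108), (14423, 14424), (14424, 14423), (14425, 18215), (14426, 10110), (14427, 13036), (14428, 15187), (14429, 18222), (14430, 18224), (14431, 18226), (14432, 10114), (14433, 18227), (14434, 10117), (14435, 11178), (14436, 18230), (14437, 18233), (14438, 10120), (14439, 10129), (14440, 14453), (14441, 18235), (14442, 18237), (14443, 18238), (14444, 10125), (14445, 18241), (14446, 10126),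 (14447, 18239), (14448, 17340), (14449, 13798), (14450, 17710), (14451, 17639), (14452, 17390), (14453, 14440), (14454, 14198), (14455, 18253), (14456, 10134), (14457, 15149), (14458, 18257), (14459, 10136), (14460, 17642), (14461, 14303), (14462, 17644), (14463, 16054)]
    ⟨e3 q14400 L192033 q11015, e3 q14401 L221114 q18188, e3 q14402 L221129 q18190, e3 q14403 L221136 q18191, e3 q14404 (flp_g L192056) q10091, e3 q14405 L221149 q18193, e3 q14406 (flp_g L192065) q10092, e3 q14407 (flp_g L221147) q18192, e3 q14408 L192079 q14408, e3 q14409 L192086 q14409, e3 q14410 L192093 q11126, e3 q14411 (flp_g L198823) q15327, e3 q14412 L192105 q11111, e3 q14413 (flp_g L198843) q15332, e3 q14414 L198853 q15334, e3 q14415 (flp_g L192121) q10100, e3 q14416 L192135 q11239, e3 q14417 L192143 q13786, e3 q14418 (flp_g L199578) q15464, e3 q14419 L199592 q15466, e3 q14420 (flp_g L216503) q17623, e3 q14421 L192169 q13862, e3 q14422 (flp_g L192171) q10108, e3 q14423 L192191 q14424, e3 q14424 (flp_g L192191) q14423, e3 q14425 (flp_g L221303)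 q18215, e3 q14426 (flp_g L192196) q10110, e3 q14427 L192207 q13036, e3 q14428 (flp_g L197903) q15187, e3 q14429 L221334 q18222, e3 q14430 L221343 q18224, e3 q14431 L221358 q18226, e3 q14432 (flp_g L192233) q10114, e3 q14433 (flp_g L221372) q18227, e3 q14434 L192251 q10117, e3 q14435 L192259 q11178, e3 q14436 (flp_g L221396) q18230, e3 q14437 L221412 q18233, e3 q14438 (flp_g L192273) q10120, e3 q14439 L192289 q10129, e3 q14440 (flp_g L192379) q14453, e3 q14441 L221430 q18235, e3 q14442 L221450 q18237, e3 q14443 L221456 q18238, e3 q14444 (flp_g L192319) q10125, e3 q14445 L221480 q18241, e3 q14446 (flp_g L192331) q10126, e3 q14447 (flp_g L221468) q18239, e3 q14448 (flp_g L213830) q17340, e3 q14449 L192355 q13798, e3 q14450 L217206 q17710, e3 q14451 L216643 q17639, e3 q14452 (flp_g L214441) q17390, e3 q14453 L192379 q14440, e3 q14454 L192389 q14198, e3 q14455 L221574 q18253, e3 q14456 (flp_g L192401) q10134, e3 q14457 (flp_g L197691) q15149, e3 q14458 L221606 q18257, e3 q14459 (flp_g L192421) q10136, e3 q14460 (flp_g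 L216657) q17642, e3 q14461 L192437 q14303, e3 q14462 (flp_g L216671) q17644, e3 q14463 (flp_g L203667) q16054, trivial⟩ (by decide +kernel)

theorem ce_g_226 : ∀ r, r < 64 → sm gg (Qf (14464 + r)) = Qf (tab Gen.g (14464 + r)) :=
  edges_tab (sm gg) Qf (tab Gen.g) 14464 [(14464, 18268), (14465, 10210), (14466, 10211), (14467, 18272), (14468, 17463), (14469, 10214), (14470, 10216), (14471, 14577), (14472, 18284), (14473, 18286), (14474, 18287), (14475, 10145), (14476, 16120), (14477, 13307), (14478, 14485), (14479, 18289), (14480, 10147), (14481, 14646), (14482, 18290), (14483, 10148), (14484, 10149), (14485, 14478), (14486, 15866), (14487, 16560), (14488, 18293), (14489, 10157), (14490, 18214), (14491, 17590), (14492, 18298), (14493, 10158), (14494, 17112), (14495, 14365), (14496, 18304), (14497, 18251), (14498, 18308), (14499, 18247), (14500, 10162), (14501, 17698), (14502, 10163), (14503, 10847), (14504, 14667), (14505, 11009), (14506, 18061), (14507, 17107), (14508, 18316), (14509, 18319), (14510, 10170), (14511,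 18322), (14512, 18324), (14513, 10171), (14514, 14622), (14515, 14808), (14516, 14803), (14517, 18332), (14518, 14631), (14519, 18337), (14520, 10176), (14521, 10178), (14522, 18339), (14523, 18340), (14524, 18345), (14525, 16861), (14526, 10179), (14527, 10181)]
    ⟨e3 q14464 L221688 q18268, e3 q14465 L192453 q10210, e3 q14466 L192459 q10211, e3 q14467 L221714 q18272, e3 q14468 (flp_g L215153) q17463, e3 q14469 L192475 q10214, e3 q14470 L192479 q10216, e3 q14471 L193167 q14577, e3 q14472 L221786 q18284, e3 q14473 L221806 q18286, e3 q14474 L221816 q18287, e3 q14475 (flp_g L192497) q10145, e3 q14476 (flp_g L204119) q16120, e3 q14477 (flp_g L192511) q13307, e3 q14478 (flp_g L192573) q14485, e3 q14479 L221832 q18289, e3 q14480 (flp_g L192529) q10147, e3 q14481 L193615 q14646, e3 q14482 L221842 q18290, e3 q14483 (flp_g L192551) q10148, e3 q14484 (flp_g L192559) q10149, e3 q14485 L192573 q14478, e3 q14486 L202370 q15866, e3 q14487 (flp_g L207726) q16560, e3 q14488 L221876 q18293, e3 q14489 (flp_g L192603) q10157, e3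 q14490 (flp_g L221294) q18214, e3 q14491 (flp_g L216269) q17590, e3 q14492 L221918 q18298, e3 q14493 (flp_g L192629) q10158, e3 q14494 (flp_g L212281) q17112, e3 q14495 (flp_g L192649) q14365, e3 q14496 L221958 q18304, e3 q14497 L221558 q18251, e3 q14498 L221990 q18308, e3 q14499 L221524 q18247, e3 q14500 (flp_g L192669) q10162, e3 q14501 L217096 q17698, e3 q14502 (flp_g L192681) q10163, e3 q14503 L192699 q10847, e3 q14504 L193767 q14667, e3 q14505 (flp_g L192719) q11009, e3 q14506 (flp_g L220128) q18061, e3 q14507 L212237 q17107, e3 q14508 L222056 q18316, e3 q14509 L222080 q18319, e3 q14510 (flp_g L192739) q10170, e3 q14511 L222098 q18322, e3 q14512 L222108 q18324, e3 q14513 (flp_g L192755) q10171, e3 q14514 (flp_g L193453) q14622, e3 q14515 (flp_g L194999) q14808, e3 q14516 (flp_g L194963) q14803, e3 q14517 L222162 q18332, e3 q14518 (flp_g L193495) q14631, e3 q14519 L222194 q18337, e3 q14520 (flp_g L192795) q10176, e3 q14521 L192803 q10178, e3 q14522 (flp_g L222249) q18339, e3 q14523 (flp_g L222261) q18340, e3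 q14524 L222309 q18345, e3 q14525 L210349 q16861, e3 q14526 (flp_g L192829) q10179, e3 q14527 L192839 q10181, trivial⟩ (by decide +kernel)

theorem ce_g_227 : ∀ r, r < 64 → sm gg (Qf (14528 + r)) = Qf (tab Gen.g (14528 + r)) :=
  edges_tab (sm gg) Qf (tab Gen.g) 14528 [(14528, 10182), (14529, 14532), (14530, 11382), (14531, 15678), (14532, 14529), (14533, 18348), (14534, 10183), (14535, 11316), (14536, 12389), (14537, 10187), (14538, 10194), (14539, 18351), (14540, 18353), (14541, 18355), (14542, 14555), (14543, 10189), (14544, 14557), (14545, 10190), (14546, 18350), (14547, 10193), (14548, 17888), (14549, 18361), (14550, 10195), (14551, 18364), (14552, 10196), (14553, 10197), (14554, 14655), (14555, 14542), (14556, 10199), (14557, 14544), (14558, 14659), (14559, 18377), (14560, 14661), (14561, 17634), (14562, 18112), (14563, 10206), (14564, 18379), (14565, 10207), (14566, 11604), (14567, 18384), (14568, 18270), (14569, 18271), (14570, 18391), (14571, 10212), (14572, 18395), (14573, 18396), (14574, 10213), (14575,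 18400), (14576, 18277), (14577, 14471), (14578, 18278), (14579, 18279), (14580, 18405), (14581, 15455), (14582, 10217), (14583, 11397), (14584, 10219), (14585, 11398), (14586, 11399), (14587, 15770), (14588, 13165), (14589, 17908), (14590, 16900), (14591, 18414)]
    ⟨e3 q14528 L192847 q10182, e3 q14529 L192879 q14532, e3 q14530 L192861 q11382, e3 q14531 (flp_g L201042) q15678, e3 q14532 (flp_g L192879) q14529, e3 q14533 L222339 q18348, e3 q14534 (flp_g L192889) q10183, e3 q14535 (flp_g L192905) q11316, e3 q14536 L192915 q12389, e3 q14537 (flp_g L192917) q10187, e3 q14538 L192933 q10194, e3 q14539 L222369 q18351, e3 q14540 L222389 q18353, e3 q14541 L222409 q18355, e3 q14542 (flp_g L193047) q14555, e3 q14543 (flp_g L192959) q10189, e3 q14544 (flp_g L193065) q14557, e3 q14545 (flp_g L192973) q10190, e3 q14546 (flp_g L222367) q18350, e3 q14547 (flp_g L192987) q10193, e3 q14548 (flp_g L218736) q17888, e3 q14549 L222451 q18361, e3 q14550 (flp_g L193009) q10195, e3 q14551 L222475 q18364, e3 q14552 (flp_g L193027) q10196,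 e3 q14553 (flp_g L193033) q10197, e3 q14554 (flp_g L193673) q14655, e3 q14555 L193047 q14542, e3 q14556 (flp_g L193049) q10199, e3 q14557 L193065 q14544, e3 q14558 (flp_g L193705) q14659, e3 q14559 L222940 q18377, e3 q14560 (flp_g L193717) q14661, e3 q14561 (flp_g L216575) q17634, e3 q14562 (flp_g L220484) q18112, e3 q14563 (flp_g L193089) q10206, e3 q14564 L222958 q18379, e3 q14565 (flp_g L193099) q10207, e3 q14566 L193107 q11604, e3 q14567 L223008 q18384, e3 q14568 (flp_g L221708) q18270, e3 q14569 (flp_g L221712) q18271, e3 q14570 L223042 q18391, e3 q14571 (flp_g L193129) q10212, e3 q14572 L223072 q18395, e3 q14573 L223078 q18396, e3 q14574 (flp_g L193149) q10213, e3 q14575 L223094 q18400, e3 q14576 (flp_g L221742) q18277, e3 q14577 (flp_g L193167) q14471, e3 q14578 (flp_g L221750) q18278, e3 q14579 (flp_g L221756) q18279, e3 q14580 L223120 q18405, e3 q14581 (flp_g L227428) q15455, e3 q14582 (flp_g L193185) q10217, e3 q14583 L193197 q11397, e3 q14584 (flp_g L193199) q10219, e3 q14585 L193213 q11398, e3 q14586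 L193221 q11399, e3 q14587 L201642 q15770, e3 q14588 (flp_g L193241) q13165, e3 q14589 (flp_g L218930) q17908, e3 q14590 (flp_g L210687) q16900, e3 q14591 L223201 q18414, trivial⟩ (by decide +kernel)

theorem ce_g_228 : ∀ r, r < 64 → sm gg (Qf (14592 + r)) = Qf (tab Gen.g (14592 + r)) :=
  edges_tab (sm gg) Qf (tab Gen.g) 14592 [(14592, 18416), (14593, 14606), (14594, 10224), (14595, 14608), (14596, 10225), (14597, 14127), (14598, 14120), (14599, 13345), (14600, 10230), (14601, 18425), (14602, 10231), (14603, 18428), (14604, 18430), (14605, 10232), (14606, 14593), (14607, 10234), (14608, 14595), (14609, 16150), (14610, 17919), (14611, 17419), (14612, 17946), (14613, 18440), (14614, 17917), (14615, 18441), (14616, 10242), (14617, 18444), (14618, 17277), (14619, 17275), (14620, 18451), (14621, 10246), (14622, 14514), (14623, 18457), (14624, 17620), (14625, 10248), (14626, 18461), (14627, 10249), (14628, 18462), (14629, 10251), (14630, 16130), (14631, 14518), (14632, 18467), (14633, 13871), (14634, 15997), (14635, 18469),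 (14636, 10256), (14637, 10257), (14638, 18470), (14639, 18471), (14640, 14656), (14641, 10259), (14642, 10260), (14643, 18087), (14644, 16859), (14645, 11541), (14646, 14481), (14647, 18478), (14648, 18479), (14649, 10265), (14650, 18483), (14651, 18484), (14652, 10266), (14653, 18098), (14654, 10267), (14655, 14554)]
    ⟨e3 q14592 L223221 q18416, e3 q14593 (flp_g L193363) q14606, e3 q14594 (flp_g L193273) q10224, e3 q14595 (flp_g L193381) q14608, e3 q14596 (flp_g L193287) q10225, e3 q14597 (flp_g L193299) q14127, e3 q14598 L193307 q14120, e3 q14599 L193315 q13345, e3 q14600 L193339 q10230, e3 q14601 L223277 q18425, e3 q14602 L193333 q10231, e3 q14603 L223303 q18428, e3 q14604 L223317 q18430, e3 q14605 (flp_g L193349) q10232, e3 q14606 L193363 q14593, e3 q14607 (flp_g L193365) q10234, e3 q14608 L193381 q14595, e3 q14609 (flp_g L204315) q16150, e3 q14610 (flp_g L219044) q17919, e3 q14611 L214717 q17419, e3 q14612 (flp_g L219300) q17946, e3 q14613 L223373 q18440, e3 q14614 (flp_g L219026) q17917, e3 q14615 L223385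 q18441, e3 q14616 (flp_g L193415) q10242, e3 q14617 L223417 q18444, e3 q14618 (flp_g L213431) q17277, e3 q14619 (flp_g L213409) q17275, e3 q14620 L223461 q18451, e3 q14621 (flp_g L193439) q10246, e3 q14622 L193453 q14514, e3 q14623 L223509 q18457, e3 q14624 (flp_g L216483) q17620, e3 q14625 (flp_g L193463) q10248, e3 q14626 L223527 q18461, e3 q14627 (flp_g L193471) q10249, e3 q14628 L223529 q18462, e3 q14629 (flp_g L193481) q10251, e3 q14630 (flp_g L204171) q16130, e3 q14631 L193495 q14518, e3 q14632 L223559 q18467, e3 q14633 L193511 q13871, e3 q14634 (flp_g L203293) q15997, e3 q14635 L223575 q18469, e3 q14636 (flp_g L193529) q10256, e3 q14637 (flp_g L193535) q10257, e3 q14638 L223585 q18470, e3 q14639 L223597 q18471, e3 q14640 (flp_g L193681) q14656, e3 q14641 (flp_g L193575) q10259, e3 q14642 (flp_g L193581) q10260, e3 q14643 (flp_g L220324) q18087, e3 q14644 (flp_g L210325) q16859, e3 q14645 L193609 q11541, e3 q14646 (flp_g L193615) q14481, e3 q14647 L223653 q18478, e3 q14648 L223665 q18479, e3 q14649 (flp_g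 L193631) q10265, e3 q14650 L223705 q18483, e3 q14651 L223713 q18484, e3 q14652 (flp_g L193649) q10266, e3 q14653 (flp_g L220406) q18098, e3 q14654 (flp_g L193663) q10267, e3 q14655 L193673 q14554, trivial⟩ (by decide +kernel)

theorem ce_g_229 : ∀ r, r < 64 → sm gg (Qf (14656 + r)) = Qf (tab Gen.g (14656 + r)) :=
  edges_tab (sm gg) Qf (tab Gen.g) 14656 [(14656, 14640), (14657, 10269), (14658, 12216), (14659, 14558), (14660, 18496), (14661, 14560), (14662, 17895), (14663, 15675), (14664, 15773), (14665, 10274), (14666, 12698), (14667, 14504), (14668, 16563), (14669, 14685), (14670, 10277), (14671, 14687), (14672, 18503), (14673, 14340), (14674, 18505), (14675, 10281), (14676, 16924), (14677, 18508), (14678, 10283), (14679, 18510), (14680, 18513), (14681, 10284), (14682, 18516), (14683, 10285), (14684, 14359), (14685, 14669), (14686, 10287), (14687, 14671), (14688, 11497), (14689, 18524), (14690, 11498), (14691, 11499), (14692, 15902), (14693, 17920), (14694, 10292), (14695, 18526), (14696, 10293), (14697, 11685),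 (14698, 13256), (14699, 14099), (14700, 10299), (14701, 10301), (14702, 10306), (14703, 10303), (14704, 17414), (14705, 15114), (14706, 10308), (14707, 10310), (14708, 10311), (14709, 16818), (14710, 10461), (14711, 10320), (14712, 14778), (14713, 13690), (14714, 18529), (14715, 10329), (14716, 11812), (14717, 10333), (14718, 14920), (14719, 16355)]
    ⟨e3 q14656 L193681 q14640, e3 q14657 (flp_g L193683) q10269, e3 q14658 L193699 q12216, e3 q14659 L193705 q14558, e3 q14660 L223851 q18496, e3 q14661 L193717 q14560, e3 q14662 (flp_g L218814) q17895, e3 q14663 (flp_g L201014) q15675, e3 q14664 (flp_g L201668) q15773, e3 q14665 (flp_g L193741) q10274, e3 q14666 (flp_g L193757) q12698, e3 q14667 (flp_g L193767) q14504, e3 q14668 (flp_g L207760) q16563, e3 q14669 (flp_g L193897) q14685, e3 q14670 (flp_g L193787) q10277, e3 q14671 (flp_g L193915) q14687, e3 q14672 L223909 q18503, e3 q14673 L193811 q14340, e3 q14674 L223923 q18505, e3 q14675 (flp_g L193823) q10281, e3 q14676 (flp_g L210865) q16924, e3 q14677 L223953 q18508,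 e3 q14678 (flp_g L193847) q10283, e3 q14679 L223985 q18510, e3 q14680 L224003 q18513, e3 q14681 (flp_g L193865) q10284, e3 q14682 L224027 q18516, e3 q14683 (flp_g L193877) q10285, e3 q14684 L193887 q14359, e3 q14685 L193897 q14669, e3 q14686 (flp_g L193899) q10287, e3 q14687 L193915 q14671, e3 q14688 L193921 q11497, e3 q14689 L224083 q18524, e3 q14690 L193933 q11498, e3 q14691 L193941 q11499, e3 q14692 L202631 q15902, e3 q14693 (flp_g L219054) q17920, e3 q14694 (flp_g L193957) q10292, e3 q14695 L224099 q18526, e3 q14696 (flp_g L193971) q10293, e3 q14697 L193987 q11685, e3 q14698 L193997 q13256, e3 q14699 (flp_g L194007) q14099, e3 q14700 (flp_g L194011) q10299, e3 q14701 (flp_g L194023) q10301, e3 q14702 L194035 q10306, e3 q14703 (flp_g L194039) q10303, e3 q14704 (flp_g L214669) q17414, e3 q14705 (flp_g L197419) q15114, e3 q14706 (flp_g L194063) q10308, e3 q14707 (flp_g L194073) q10310, e3 q14708 (flp_g L194083) q10311, e3 q14709 (flp_g L209985) q16818, e3 q14710 L194103 q10461, e3 q14711 (flp_g L194107) q10320,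 e3 q14712 L194725 q14778, e3 q14713 (flp_g L194135) q13690, e3 q14714 L224125 q18529, e3 q14715 (flp_g L194143) q10329, e3 q14716 L194163 q11812, e3 q14717 (flp_g L194167) q10333, e3 q14718 (flp_g L195998) q14920, e3 q14719 L205974 q16355, trivial⟩ (by decide +kernel)

theorem ce_g_230 : ∀ r, r < 64 → sm gg (Qf (14720 + r)) = Qf (tab Gen.g (14720 + r)) :=
  edges_tab (sm gg) Qf (tab Gen.g) 14720 [(14720, 10349), (14721, 14780), (14722, 14177), (14723, 16364), (14724, 10955), (14725, 12813), (14726, 12611), (14727, 15120), (14728, 16656), (14729, 14190), (14730, 13961), (14731, 10360), (14732, 12420), (14733, 13978), (14734, 12084), (14735, 10368), (14736, 16234), (14737, 16600), (14738, 10372), (14739, 10377), (14740, 14032), (14741, 17341), (14742, 17879), (14743, 14031), (14744, 13419), (14745, 11733), (14746, 18535), (14747, 10385), (14748, 17050), (14749, 17068), (14750, 10389), (14751, 16323), (14752, 17486), (14753, 10396), (14754, 13558), (14755, 10399), (14756, 10401), (14757, 10406), (14758, 12161), (14759,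 12260), (14760, 14983), (14761, 18537), (14762, 10792), (14763, 10409), (14764, 10789), (14765, 10410), (14766, 14766), (14767, 13037), (14768, 10866), (14769, 13044), (14770, 14801), (14771, 17154), (14772, 11998), (14773, 10435), (14774, 14776), (14775, 10670), (14776, 14774), (14777, 14917), (14778, 14712), (14779, 10436), (14780, 14721), (14781, 10442), (14782, 13110), (14783, 14026)]
    ⟨e3 q14720 (flp_g L194193) q10349, e3 q14721 (flp_g L194739) q14780, e3 q14722 (flp_g L194209) q14177, e3 q14723 (flp_g L206054) q16364, e3 q14724 L194223 q10955, e3 q14725 L194231 q12813, e3 q14726 L194243 q12611, e3 q14727 L197471 q15120, e3 q14728 (flp_g L208600) q16656, e3 q14729 L194265 q14190, e3 q14730 L194277 q13961, e3 q14731 (flp_g L194279) q10360, e3 q14732 L194293 q12420, e3 q14733 L194313 q13978, e3 q14734 L194323 q12084, e3 q14735 L194335 q10368, e3 q14736 (flp_g L204930) q16234, e3 q14737 (flp_g L208079) q16600, e3 q14738 (flp_g L194352) q10372, e3 q14739 L194361 q10377, e3 q14740 L194370 q14032, e3 q14741 (flp_g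 L213840) q17341, e3 q14742 L218648 q17879, e3 q14743 L194390 q14031, e3 q14744 L194404 q13419, e3 q14745 L194412 q11733, e3 q14746 L224189 q18535, e3 q14747 (flp_g L194428) q10385, e3 q14748 (flp_g L211821) q17050, e3 q14749 (flp_g L211947) q17068, e3 q14750 (flp_g L194454) q10389, e3 q14751 (flp_g L205737) q16323, e3 q14752 (flp_g L215379) q17486, e3 q14753 (flp_g L194482) q10396, e3 q14754 (flp_g L194500) q13558, e3 q14755 (flp_g L194502) q10399, e3 q14756 (flp_g L194512) q10401, e3 q14757 L194530 q10406, e3 q14758 L194540 q12161, e3 q14759 L194546 q12260, e3 q14760 (flp_g L196552) q14983, e3 q14761 L224213 q18537, e3 q14762 (flp_g L194569) q10792, e3 q14763 (flp_g L194571) q10409, e3 q14764 (flp_g L194587) q10789, e3 q14765 (flp_g L194589) q10410, e3 q14766 L194606 q14766, e3 q14767 L194615 q13037, e3 q14768 L194629 q10866, e3 q14769 (flp_g L194637) q13044, e3 q14770 (flp_g L194945) q14801, e3 q14771 L212581 q17154, e3 q14772 L194661 q11998, e3 q14773 L194669 q10435, e3 q14774 L194703 q14776, e3 q14775 L194687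 q10670, e3 q14776 (flp_g L194703) q14774, e3 q14777 (flp_g L195974) q14917, e3 q14778 (flp_g L194725) q14712, e3 q14779 (flp_g L194727) q10436, e3 q14780 L194739 q14721, e3 q14781 (flp_g L194743) q10442, e3 q14782 L194759 q13110, e3 q14783 L194771 q14026, trivial⟩ (by decide +kernel)

theorem ce_g_231 : ∀ r, r < 64 → sm gg (Qf (14784 + r)) = Qf (tab Gen.g (14784 + r)) :=
  edges_tab (sm gg) Qf (tab Gen.g) 14784 [(14784, 10449), (14785, 15909), (14786, 10463), (14787, 12723), (14788, 17028), (14789, 15910), (14790, 16673), (14791, 10531), (14792, 14164), (14793, 18543), (14794, 13297), (14795, 10464), (14796, 10465), (14797, 14057), (14798, 12259), (14799, 12342), (14800, 10468), (14801, 14770), (14802, 12619), (14803, 14516), (14804, 10474), (14805, 17119), (14806, 10478), (14807, 17117), (14808, 14515), (14809, 12021), (14810, 10511), (14811, 13409), (14812, 12024), (14813, 12026), (14814, 16417), (14815, 12632), (14816, 14126), (14817, 12180), (14818, 10500), (14819, 13091), (14820, 10502), (14821, 17948), (14822,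 17918), (14823, 13410), (14824, 17505), (14825, 16843), (14826, 14109), (14827, 13356), (14828, 10515), (14829, 12037), (14830, 12390), (14831, 10517), (14832, 11421), (14833, 17067), (14834, 10522), (14835, 17059), (14836, 12618), (14837, 17294), (14838, 18541), (14839, 17199), (14840, 16527), (14841, 17487), (14842, 10535), (14843, 10545), (14844, 15344), (14845, 10548), (14846, 10549), (14847, 10567)]
    ⟨e3 q14784 (flp_g L194775) q10449, e3 q14785 (flp_g L202697) q15909, e3 q14786 L194801 q10463, e3 q14787 L194813 q12723, e3 q14788 (flp_g L211669) q17028, e3 q14789 (flp_g L202719) q15910, e3 q14790 (flp_g L208763) q16673, e3 q14791 L194843 q10531, e3 q14792 L194857 q14164, e3 q14793 L224281 q18543, e3 q14794 (flp_g L194875) q13297, e3 q14795 (flp_g L194877) q10464, e3 q14796 (flp_g L194887) q10465, e3 q14797 L194901 q14057, e3 q14798 L194909 q12259, e3 q14799 L194923 q12342, e3 q14800 (flp_g L194927) q10468, e3 q14801 L194945 q14770, e3 q14802 (flp_g L194955) q12619, e3 q14803 L194963 q14516, e3 q14804 (flp_g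 L194967) q10474, e3 q14805 (flp_g L212339) q17119, e3 q14806 (flp_g L194983) q10478, e3 q14807 L212317 q17117, e3 q14808 L194999 q14515, e3 q14809 L195005 q12021, e3 q14810 L195017 q10511, e3 q14811 L195029 q13409, e3 q14812 L195037 q12024, e3 q14813 L195045 q12026, e3 q14814 L206498 q16417, e3 q14815 (flp_g L195063) q12632, e3 q14816 (flp_g L195071) q14126, e3 q14817 L195081 q12180, e3 q14818 L195095 q10500, e3 q14819 (flp_g L195107) q13091, e3 q14820 (flp_g L195109) q10502, e3 q14821 (flp_g L219326) q17948, e3 q14822 (flp_g L219038) q17918, e3 q14823 L195135 q13410, e3 q14824 (flp_g L215562) q17505, e3 q14825 (flp_g L210185) q16843, e3 q14826 L195155 q14109, e3 q14827 (flp_g L195169) q13356, e3 q14828 (flp_g L195173) q10515, e3 q14829 L195189 q12037, e3 q14830 (flp_g L195199) q12390, e3 q14831 (flp_g L195201) q10517, e3 q14832 L195221 q11421, e3 q14833 (flp_g L211935) q17067, e3 q14834 (flp_g L195233) q10522, e3 q14835 (flp_g L211877) q17059, e3 q14836 L195261 q12618, e3 q14837 (flp_g L213543) q17294, e3 q14838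 (flp_g L224265) q18541, e3 q14839 (flp_g L212907) q17199, e3 q14840 (flp_g L207467) q16527, e3 q14841 (flp_g L215393) q17487, e3 q14842 (flp_g L195293) q10535, e3 q14843 (flp_g L195299) q10545, e3 q14844 (flp_g L198918) q15344, e3 q14845 (flp_g L195322) q10548, e3 q14846 (flp_g L195334) q10549, e3 q14847 L195354 q10567, trivial⟩ (by decide +kernel)

theorem ce_g_232 : ∀ r, r < 64 → sm gg (Qf (14848 + r)) = Qf (tab Gen.g (14848 + r)) :=
  edges_tab (sm gg) Qf (tab Gen.g) 14848 [(14848, 14877), (14849, 10572), (14850, 10573), (14851, 12157), (14852, 13513), (14853, 10578), (14854, 10580), (14855, 10581), (14856, 14865), (14857, 12126), (14858, 10628), (14859, 18556), (14860, 16882), (14861, 12801), (14862, 15998), (14863, 16585), (14864, 18559), (14865, 14856), (14866, 17411), (14867, 13263), (14868, 18560), (14869, 16609), (14870, 18568), (14871, 10582), (14872, 13420), (14873, 15868), (14874, 10586), (14875, 17469), (14876, 13476), (14877, 14848), (14878, 11188), (14879, 11428), (14880, 12679), (14881, 12774), (14882,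 12752), (14883, 10612), (14884, 16664), (14885, 14900), (14886, 17410), (14887, 18497), (14888, 10616), (14889, 10634), (14890, 16795), (14891, 12951), (14892, 16745), (14893, 15671), (14894, 13329), (14895, 15673), (14896, 13327), (14897, 18580), (14898, 10629), (14899, 10630), (14900, 14885), (14901, 10637), (14902, 14902), (14903, 10690), (14904, 14922), (14905, 10646), (14906, 10653), (14907, 14977), (14908, 16598), (14909, 13590), (14910, 14912), (14911, 17480)]
    ⟨e3 q14848 (flp_g L195618) q14877, e3 q14849 L195378 q10572, e3 q14850 L195390 q10573, e3 q14851 L195402 q12157, e3 q14852 L195410 q13513, e3 q14853 L195416 q10578, e3 q14854 L195420 q10580, e3 q14855 L195430 q10581, e3 q14856 L195508 q14865, e3 q14857 L195446 q12126, e3 q14858 L195456 q10628, e3 q14859 (flp_g L224391) q18556, e3 q14860 (flp_g L210537) q16882, e3 q14861 L195476 q12801, e3 q14862 (flp_g L203305) q15998, e3 q14863 (flp_g L207939) q16585, e3 q14864 (flp_g L224423) q18559, e3 q14865 (flp_g L195508) q14856, e3 q14866 (flp_g L214643)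 q17411, e3 q14867 L195528 q13263, e3 q14868 (flp_g L224431) q18560, e3 q14869 (flp_g L208157) q16609, e3 q14870 L224483 q18568, e3 q14871 (flp_g L195552) q10582, e3 q14872 (flp_g L195570) q13420, e3 q14873 (flp_g L202384) q15868, e3 q14874 (flp_g L195578) q10586, e3 q14875 (flp_g L215221) q17469, e3 q14876 L195604 q13476, e3 q14877 L195618 q14848, e3 q14878 L195628 q11188, e3 q14879 L195641 q11428, e3 q14880 (flp_g L195655) q12679, e3 q14881 L195663 q12774, e3 q14882 L195675 q12752, e3 q14883 (flp_g L195677) q10612, e3 q14884 L208678 q16664, e3 q14885 (flp_g L195815) q14900, e3 q14886 (flp_g L214631) q17410, e3 q14887 (flp_g L223863) q18497, e3 q14888 (flp_g L195717) q10616, e3 q14889 L195735 q10634, e3 q14890 L209809 q16795, e3 q14891 L195749 q12951, e3 q14892 (flp_g L209375) q16745, e3 q14893 L200972 q15671, e3 q14894 L195767 q13329, e3 q14895 L200994 q15673, e3 q14896 (flp_g L195789) q13327, e3 q14897 L224587 q18580, e3 q14898 (flp_g L195795) q10629, e3 q14899 (flp_g L195803) q10630, e3 q14900 L195815 q14885,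 e3 q14901 (flp_g L195819) q10637, e3 q14902 L195833 q14902, e3 q14903 L195842 q10690, e3 q14904 (flp_g L196023) q14922, e3 q14905 (flp_g L195852) q10646, e3 q14906 (flp_g L195864) q10653, e3 q14907 (flp_g L196508) q14977, e3 q14908 (flp_g L208053) q16598, e3 q14909 L195898 q13590, e3 q14910 (flp_g L195922) q14912, e3 q14911 (flp_g L215319) q17480, trivial⟩ (by decide +kernel)

theorem ce_g_233 : ∀ r, r < 64 → sm gg (Qf (14912 + r)) = Qf (tab Gen.g (14912 + r)) :=
  edges_tab (sm gg) Qf (tab Gen.g) 14912 [(14912, 14910), (14913, 13520), (14914, 13552), (14915, 15010), (14916, 10820), (14917, 14777), (14918, 17838), (14919, 10677), (14920, 14718), (14921, 12332), (14922, 14904), (14923, 10684), (14924, 17866), (14925, 10817), (14926, 17934), (14927, 12165), (14928, 15869), (14929, 10838), (14930, 14980), (14931, 18589), (14932, 13508), (14933, 10706), (14934, 17764), (14935, 10707), (14936, 17499), (14937, 18590), (14938, 10710), (14939, 18591), (14940, 17478), (14941, 14191), (14942, 13488), (14943, 16561), (14944,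 14006), (14945, 10718), (14946, 10719), (14947, 16849), (14948, 14011), (14949, 12061), (14950, 18593), (14951, 14967), (14952, 10775), (14953, 12602), (14954, 13576), (14955, 10777), (14956, 12378), (14957, 13544), (14958, 13531), (14959, 18595), (14960, 10744), (14961, 10840), (14962, 18571), (14963, 10748), (14964, 13707), (14965, 10754), (14966, 18587), (14967, 14951), (14968, 18596), (14969, 13982), (14970, 10773), (14971, 13580), (14972, 14004), (14973, 16663), (14974, 14183), (14975, 10780)]
    ⟨e3 q14912 L195922 q14910, e3 q14913 (flp_g L195934) q13520, e3 q14914 L195942 q13552, e3 q14915 L196763 q15010, e3 q14916 L195962 q10820, e3 q14917 L195974 q14777, e3 q14918 (flp_g L218270) q17838, e3 q14919 L195990 q10677, e3 q14920 L195998 q14718, e3 q14921 L196009 q12332, e3 q14922 L196023 q14904, e3 q14923 (flp_g L196029) q10684, e3 q14924 (flp_g L218532) q17866, e3 q14925 L196055 q10817, e3 q14926 (flp_g L219176) q17934, e3 q14927 L196079 q12165, e3 q14928 L202398 q15869, e3 q14929 L196093 q10838, e3 q14930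 L196532 q14980, e3 q14931 L224680 q18589, e3 q14932 (flp_g L196115) q13508, e3 q14933 (flp_g L196117) q10706, e3 q14934 L217630 q17764, e3 q14935 (flp_g L196123) q10707, e3 q14936 (flp_g L215504) q17499, e3 q14937 (flp_g L224692) q18590, e3 q14938 (flp_g L196144) q10710, e3 q14939 L224694 q18591, e3 q14940 (flp_g L215307) q17478, e3 q14941 L196165 q14191, e3 q14942 L196177 q13488, e3 q14943 (flp_g L207738) q16561, e3 q14944 (flp_g L196193) q14006, e3 q14945 (flp_g L196197) q10718, e3 q14946 (flp_g L196203) q10719, e3 q14947 (flp_g L210227) q16849, e3 q14948 L196222 q14011, e3 q14949 L196234 q12061, e3 q14950 L224707 q18593, e3 q14951 (flp_g L196403) q14967, e3 q14952 L196259 q10775, e3 q14953 L196271 q12602, e3 q14954 (flp_g L196281) q13576, e3 q14955 L196293 q10777, e3 q14956 L196299 q12378, e3 q14957 L196305 q13544, e3 q14958 L196313 q13531, e3 q14959 L224727 q18595, e3 q14960 (flp_g L196327) q10744, e3 q14961 (flp_g L196345) q10840, e3 q14962 (flp_g L224527) q18571, e3 q14963 (flp_g L196353) q10748, e3 q14964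 L196373 q13707, e3 q14965 (flp_g L196377) q10754, e3 q14966 (flp_g L224672) q18587, e3 q14967 L196403 q14951, e3 q14968 (flp_g L224749) q18596, e3 q14969 L196422 q13982, e3 q14970 L196436 q10773, e3 q14971 L196452 q13580, e3 q14972 L196460 q14004, e3 q14973 (flp_g L208666) q16663, e3 q14974 L196478 q14183, e3 q14975 (flp_g L196482) q10780, trivial⟩ (by decide +kernel)

theorem ce_g_234 : ∀ r, r < 64 → sm gg (Qf (14976 + r)) = Qf (tab Gen.g (14976 + r)) :=
  edges_tab (sm gg) Qf (tab Gen.g) 14976 [(14976, 17552), (14977, 14907), (14978, 17843), (14979, 17477), (14980, 14930), (14981, 10788), (14982, 18536), (14983, 14760), (14984, 14984), (14985, 13995), (14986, 15686), (14987, 14987), (14988, 12559), (14989, 17937), (14990, 10796), (14991, 16829), (14992, 12327), (14993, 16594), (14994, 12396), (14995, 17498), (14996, 13532), (14997, 13667), (14998, 11848), (14999, 13665), (15000, 10835), (15001, 13669), (15002, 11728), (15003, 15003), (15004, 15004), (15005, 10830), (15006, 16648), (15007, 10821), (15008, 18557),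 (15009, 17558), (15010, 14915), (15011, 18582), (15012, 10827), (15013, 16296), (15014, 18605), (15015, 10832), (15016, 16449), (15017, 18603), (15018, 13533), (15019, 16642), (15020, 13536), (15021, 17834), (15022, 10842), (15023, 18309), (15024, 18612), (15025, 10848), (15026, 16034), (15027, 15775), (15028, 17954), (15029, 15587), (15030, 11525), (15031, 17016), (15032, 18539), (15033, 18025), (15034, 18618), (15035, 15094), (15036, 18620), (15037, 18621), (15038, 10869), (15039, 16895)]
    ⟨e3 q14976 L215985 q17552, e3 q14977 L196508 q14907, e3 q14978 (flp_g L218324) q17843, e3 q14979 (flp_g L215297) q17477, e3 q14980 (flp_g L196532) q14930, e3 q14981 (flp_g L196534) q10788, e3 q14982 L224211 q18536, e3 q14983 L196552 q14760, e3 q14984 L196558 q14984, e3 q14985 L208821 q13995, e3 q14986 (flp_g L201117) q15686, e3 q14987 L196571 q14987, e3 q14988 L196578 q12559, e3 q14989 L219208 q17937, e3 q14990 (flp_g L196588) q10796, e3 q14991 (flp_g L210081) q16829, e3 q14992 L196612 q12327, e3 q14993 (flp_g L208009) q16594,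 e3 q14994 L196636 q12396, e3 q14995 (flp_g L215495) q17498, e3 q14996 L196649 q13532, e3 q14997 L196657 q13667, e3 q14998 L196669 q11848, e3 q14999 L196675 q13665, e3 q15000 L196679 q10835, e3 q15001 L196685 q13669, e3 q15002 L196699 q11728, e3 q15003 L196705 q15003, e3 q15004 L196714 q15004, e3 q15005 L196723 q10830, e3 q15006 (flp_g L208529) q16648, e3 q15007 L196737 q10821, e3 q15008 (flp_g L224405) q18557, e3 q15009 L216045 q17558, e3 q15010 (flp_g L196763) q14915, e3 q15011 (flp_g L224613) q18582, e3 q15012 (flp_g L196771) q10827, e3 q15013 (flp_g L205494) q16296, e3 q15014 (flp_g L224833) q18605, e3 q15015 (flp_g L196797) q10832, e3 q15016 (flp_g L206805) q16449, e3 q15017 (flp_g L224805) q18603, e3 q15018 L196835 q13533, e3 q15019 (flp_g L208453) q16642, e3 q15020 L196849 q13536, e3 q15021 (flp_g L218234) q17834, e3 q15022 (flp_g L196855) q10842, e3 q15023 (flp_g L222006) q18309, e3 q15024 L224881 q18612, e3 q15025 (flp_g L196879) q10848, e3 q15026 (flp_g L203543) q16034, e3 q15027 (flp_g L201690) q15775,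 e3 q15028 (flp_g L219388) q17954, e3 q15029 (flp_g L200369) q15587, e3 q15030 L196915 q11525, e3 q15031 L211571 q17016, e3 q15032 (flp_g L224245) q18539, e3 q15033 (flp_g L219866) q18025, e3 q15034 L224939 q18618, e3 q15035 (flp_g L197301) q15094, e3 q15036 L224957 q18620, e3 q15037 L224969 q18621, e3 q15038 (flp_g L196967) q10869, e3 q15039 (flp_g L210635) q16895, trivial⟩ (by decide +kernel)

theorem ce_g_235 : ∀ r, r < 64 → sm gg (Qf (15040 + r)) = Qf (tab Gen.g (15040 + r)) :=
  edges_tab (sm gg) Qf (tab Gen.g) 15040 [(15040, 10873), (15041, 18055), (15042, 18626), (15043, 18630), (15044, 10874), (15045, 13780), (15046, 17561), (15047, 10934), (15048, 10937), (15049, 10938), (15050, 15099), (15051, 18640), (15052, 15391), (15053, 11161), (15054, 18644), (15055, 10881), (15056, 14252), (15057, 10887), (15058, 18168), (15059, 18065), (15060, 17187), (15061, 16043), (15062, 15711), (15063, 11384), (15064, 18656), (15065, 18657), (15066, 10894), (15067, 15067), (15068, 15132), (15069, 15069), (15070, 15138), (15071,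 15135), (15072, 15136), (15073, 10920), (15074, 15074), (15075, 15075), (15076, 10908), (15077, 10967), (15078, 15139), (15079, 10914), (15080, 18668), (15081, 10916), (15082, 10930), (15083, 15141), (15084, 10976), (15085, 18135), (15086, 10977), (15087, 11023), (15088, 18676), (15089, 10924), (15090, 16732), (15091, 10927), (15092, 10928), (15093, 18669), (15094, 15035), (15095, 18670), (15096, 15178), (15097, 18686), (15098, 14352), (15099, 15050), (15100, 18690), (15101, 18145), (15102, 18144), (15103, 18695)]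
    ⟨e3 q15040 L196975 q10873, e3 q15041 (flp_g L220090) q18055, e3 q15042 (flp_g L224997) q18626, e3 q15043 L225021 q18630, e3 q15044 (flp_g L196995) q10874, e3 q15045 L197011 q13780, e3 q15046 (flp_g L216065) q17561, e3 q15047 L197021 q10934, e3 q15048 L197031 q10937, e3 q15049 L197043 q10938, e3 q15050 L197327 q15099, e3 q15051 L225097 q18640, e3 q15052 (flp_g L199164) q15391, e3 q15053 L197059 q11161, e3 q15054 L225121 q18644, e3 q15055 (flp_g L197065) q10881, e3 q15056 L197079 q14252, e3 q15057 L197085 q10887, e3 q15058 (flp_g L220936) q18168, e3 q15059 L220162 q18065, e3 q15060 (flp_g L212815) q17187, e3 q15061 (flp_g L203603) q16043, e3 q15062 (flp_g L201316) q15711, e3 q15063 L197113 q11384, e3 q15064 L225207 q18656, e3 q15065 L225213 q18657, e3 q15066 (flp_g L197121) q10894, e3 q15067 L197132 q15067, e3 q15068 (flp_g L197566) q15132, e3 q15069 L197146 q15069, e3 q15070 (flp_g L197613) q15138, e3 q15071 (flp_g L197589) q15135, e3 q15072 (flp_g L197605) q15136, e3 q15073 L197161 q10920, e3 q15074 L197167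 q15074, e3 q15075 L197170 q15075, e3 q15076 (flp_g L197171) q10908, e3 q15077 L197191 q10967, e3 q15078 (flp_g L197623) q15139, e3 q15079 (flp_g L197199) q10914, e3 q15080 L225271 q18668, e3 q15081 (flp_g L197214) q10916, e3 q15082 L197224 q10930, e3 q15083 (flp_g L197639) q15141, e3 q15084 L197238 q10976, e3 q15085 (flp_g L220708) q18135, e3 q15086 (flp_g L197251) q10977, e3 q15087 L197259 q11023, e3 q15088 L225321 q18676, e3 q15089 (flp_g L197271) q10924, e3 q15090 (flp_g L209259) q16732, e3 q15091 (flp_g L197283) q10927, e3 q15092 (flp_g L197287) q10928, e3 q15093 (flp_g L225283) q18669, e3 q15094 L197301 q15035, e3 q15095 (flp_g L225289) q18670, e3 q15096 L197839 q15178, e3 q15097 L225365 q18686, e3 q15098 L197319 q14352, e3 q15099 (flp_g L197327) q15050, e3 q15100 L225395 q18690, e3 q15101 (flp_g L220786) q18145, e3 q15102 L220776 q18144, e3 q15103 L225413 q18695, trivial⟩ (by decide +kernel)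

theorem ce_g_236 : ∀ r, r < 64 → sm gg (Qf (15104 + r)) = Qf (tab Gen.g (15104 + r)) :=
  edges_tab (sm gg) Qf (tab Gen.g) 15104 [(15104, 10939), (15105, 15213), (15106, 10940), (15107, 18064), (15108, 10943), (15109, 15576), (15110, 15583), (15111, 15923), (15112, 10947), (15113, 13218), (15114, 14705), (15115, 15115), (15116, 12605), (15117, 15117), (15118, 11036), (15119, 11307), (15120, 14727), (15121, 11422), (15122, 11426), (15123, 11361), (15124, 18635), (15125, 16476), (15126, 10960), (15127, 16536), (15128, 10961), (15129, 16542), (15130, 10962), (15131, 15857), (15132, 15068), (15133, 18714), (15134, 10972), (15135, 15071), (15136, 15072), (15137, 18723), (15138, 15070), (15139, 15078), (15140, 18716), (15141, 15083), (15142, 10975), (15143, 18728), (15144, 18734), (15145, 15146), (15146, 15145), (15147, 18673), (15148, 10978), (15149, 14457), (15150, 13719), (15151, 16966), (15152, 11110), (15153, 11107), (15154, 12960), (15155, 18744), (15156, 10987), (15157, 18748), (15158, 10994), (15159, 10996),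 (15160, 10997), (15161, 15170), (15162, 18756), (15163, 18759), (15164, 10991), (15165, 18761), (15166, 18764), (15167, 18766)]
    ⟨e3 q15104 (flp_g L197345) q10939, e3 q15105 (flp_g L198027) q15213, e3 q15106 (flp_g L197355) q10940, e3 q15107 L220154 q18064, e3 q15108 (flp_g L197361) q10943, e3 q15109 L200311 q15576, e3 q15110 (flp_g L200353) q15583, e3 q15111 (flp_g L202822) q15923, e3 q15112 (flp_g L197399) q10947, e3 q15113 L197409 q13218, e3 q15114 L197419 q14705, e3 q15115 L197427 q15115, e3 q15116 L197440 q12605, e3 q15117 L197446 q15117, e3 q15118 L197453 q11036, e3 q15119 L197459 q11307, e3 q15120 (flp_g L197471) q14727, e3 q15121 L197477 q11422, e3 q15122 L197485 q11426, e3 q15123 L197493 q11361, e3 q15124 (flp_g L225075) q18635, e3 q15125 (flp_g L207047) q16476, e3 q15126 (flp_g L197511) q10960, e3 q15127 L207541 q16536, e3 q15128 (flp_g L197530) q10961, e3 q15129 L207601 q16542, e3 q15130 (flp_g L197547) q10962, e3 q15131 L202292 q15857, e3 q15132 L197566 q15068, e3 q15133 (flp_g L225576) q18714, e3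 q15134 L197583 q10972, e3 q15135 L197589 q15071, e3 q15136 L197605 q15072, e3 q15137 L225651 q18723, e3 q15138 L197613 q15070, e3 q15139 L197623 q15078, e3 q15140 (flp_g L225595) q18716, e3 q15141 L197639 q15083, e3 q15142 L197647 q10975, e3 q15143 (flp_g L225701) q18728, e3 q15144 L225753 q18734, e3 q15145 (flp_g L197671) q15146, e3 q15146 L197671 q15145, e3 q15147 L225303 q18673, e3 q15148 (flp_g L197679) q10978, e3 q15149 L197691 q14457, e3 q15150 L197701 q13719, e3 q15151 (flp_g L211167) q16966, e3 q15152 L197713 q11110, e3 q15153 L197723 q11107, e3 q15154 L197729 q12960, e3 q15155 L225811 q18744, e3 q15156 (flp_g L197735) q10987, e3 q15157 L225841 q18748, e3 q15158 L197753 q10994, e3 q15159 L197757 q10996, e3 q15160 L197761 q10997, e3 q15161 L197805 q15170, e3 q15162 L225879 q18756, e3 q15163 L225901 q18759, e3 q15164 (flp_g L197775) q10991, e3 q15165 L225911 q18761, e3 q15166 L225923 q18764, e3 q15167 L225931 q18766, trivial⟩ (by decide +kernel)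

theorem ce_g_237 : ∀ r, r < 64 → sm gg (Qf (15168 + r)) = Qf (tab Gen.g (15168 + r)) :=
  edges_tab (sm gg) Qf (tab Gen.g) 15168 [(15168, 10993), (15169, 18749), (15170, 15161), (15171, 18771), (15172, 18774), (15173, 18751), (15174, 18777), (15175, 18779), (15176, 18782), (15177, 10998), (15178, 15096), (15179, 10999), (15180, 18785), (15181, 12888), (15182, 18790), (15183, 11002), (15184, 13781), (15185, 16886), (15186, 18228), (15187, 14428), (15188, 18310), (15189, 15366), (15190, 11134), (15191, 18799), (15192, 15211), (15193, 18803), (15194, 18804), (15195, 11013), (15196, 18311), (15197, 18810), (15198, 14398), (15199, 17999), (15200, 18815), (15201, 18816), (15202, 11017), (15203, 18819), (15204, 11018), (15205, 18817), (15206, 18825), (15207, 18826), (15208, 11020), (15209, 11021), (15210, 18674), (15211, 15192), (15212, 18675), (15213, 15105), (15214, 18839), (15215, 15427), (15216, 11265), (15217, 12549), (15218, 12556), (15219, 15219), (15220, 16571), (15221, 15221), (15222, 16577), (15223, 15223),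 (15224, 15224), (15225, 15317), (15226, 12287), (15227, 17682), (15228, 18854), (15229, 11046), (15230, 11041), (15231, 11051)]
    ⟨e3 q15168 (flp_g L197793) q10993, e3 q15169 (flp_g L225849) q18749, e3 q15170 (flp_g L197805) q15161, e3 q15171 L225961 q18771, e3 q15172 L225973 q18774, e3 q15173 (flp_g L225859) q18751, e3 q15174 L225983 q18777, e3 q15175 L225997 q18779, e3 q15176 L226013 q18782, e3 q15177 (flp_g L197827) q10998, e3 q15178 (flp_g L197839) q15096, e3 q15179 (flp_g L197841) q10999, e3 q15180 (flp_g L226031) q18785, e3 q15181 L197855 q12888, e3 q15182 L226059 q18790, e3 q15183 (flp_g L197865) q11002, e3 q15184 L197881 q13781, e3 q15185 L210567 q16886, e3 q15186 (flp_g L221382) q18228, e3 q15187 L197903 q14428, e3 q15188 L222020 q18310, e3 q15189 L199052 q15366, e3 q15190 L197923 q11134, e3 q15191 L226113 q18799, e3 q15192 (flp_g L198013) q15211, e3 q15193 L226133 q18803, e3 q15194 L226141 q18804, e3 q15195 (flp_g L197943) q11013, e3 q15196 (flp_g L222028) q18311, e3 q15197 L226169 q18810, e3 q15198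 L197963 q14398, e3 q15199 (flp_g L220028) q17999, e3 q15200 L226195 q18815, e3 q15201 L226199 q18816, e3 q15202 (flp_g L197973) q11017, e3 q15203 L226217 q18819, e3 q15204 (flp_g L197979) q11018, e3 q15205 (flp_g L226209) q18817, e3 q15206 L226259 q18825, e3 q15207 L226261 q18826, e3 q15208 (flp_g L197995) q11020, e3 q15209 (flp_g L197999) q11021, e3 q15210 (flp_g L225311) q18674, e3 q15211 L198013 q15192, e3 q15212 (flp_g L225319) q18675, e3 q15213 L198027 q15105, e3 q15214 L226335 q18839, e3 q15215 (flp_g L199341) q15427, e3 q15216 L198047 q11265, e3 q15217 L198055 q12549, e3 q15218 L198061 q12556, e3 q15219 L198069 q15219, e3 q15220 L207826 q16571, e3 q15221 L198082 q15221, e3 q15222 (flp_g L207884) q16577, e3 q15223 L198089 q15223, e3 q15224 L198094 q15224, e3 q15225 (flp_g L198747) q15317, e3 q15226 (flp_g L198109) q12287, e3 q15227 (flp_g L216982) q17682, e3 q15228 L226429 q18854, e3 q15229 L198121 q11046, e3 q15230 (flp_g L198123) q11041, e3 q15231 L198137 q11051, trivial⟩ (by decide +kernel)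

theorem ce_g_238 : ∀ r, r < 64 → sm gg (Qf (15232 + r)) = Qf (tab Gen.g (15232 + r)) :=
  edges_tab (sm gg) Qf (tab Gen.g) 15232 [(15232, 11052), (15233, 13245), (15234, 11055), (15235, 11056), (15236, 15250), (15237, 15251), (15238, 18853), (15239, 16568), (15240, 15293), (15241, 18865), (15242, 11047), (15243, 18868), (15244, 17095), (15245, 17670), (15246, 11048), (15247, 15267), (15248, 18872), (15249, 18856), (15250, 15236), (15251, 15237), (15252, 18878), (15253, 18879), (15254, 11054), (15255, 18858), (15256, 18752), (15257, 18859), (15258, 18884), (15259, 18887), (15260, 11057), (15261, 18890), (15262, 11058), (15263, 18874), (15264, 11059), (15265, 18877), (15266, 11062), (15267, 15247), (15268, 16534), (15269, 11472), (15270, 15348), (15271, 16945), (15272, 16540), (15273, 11072), (15274, 18899), (15275, 11073), (15276, 18903), (15277, 18904), (15278, 11075), (15279, 11084), (15280, 15645), (15281, 18909), (15282, 15292), (15283, 11079), (15284, 15313), (15285, 15315), (15286, 17345), (15287, 18828),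 (15288, 18915), (15289, 11081), (15290, 11082), (15291, 18905), (15292, 15282), (15293, 15240), (15294, 17740), (15295, 13866)]
    ⟨e3 q15232 L198145 q11052, e3 q15233 L222783 q13245, e3 q15234 L198155 q11055, e3 q15235 L198163 q11056, e3 q15236 L198260 q15250, e3 q15237 L198270 q15251, e3 q15238 (flp_g L226427) q18853, e3 q15239 (flp_g L207796) q16568, e3 q15240 (flp_g L198556) q15293, e3 q15241 L226499 q18865, e3 q15242 (flp_g L198200) q11047, e3 q15243 L226525 q18868, e3 q15244 (flp_g L212149) q17095, e3 q15245 (flp_g L216857) q17670, e3 q15246 (flp_g L198228) q11048, e3 q15247 (flp_g L198388) q15267, e3 q15248 L226559 q18872, e3 q15249 (flp_g L226447) q18856, e3 q15250 (flp_g L198260) q15236, e3 q15251 (flp_g L198270) q15237, e3 q15252 L226609 q18878, e3 q15253 L226619 q18879, e3 q15254 (flp_g L198284) q11054, e3 q15255 (flp_g L226467) q18858, e3 q15256 (flp_g L225867) q18752, e3 q15257 (flp_g L226473) q18859, e3 q15258 L226655 q18884, e3 q15259 L226673 q18887, e3 q15260 (flp_g L198338) q11057, e3 q15261 L226692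 q18890, e3 q15262 (flp_g L198353) q11058, e3 q15263 (flp_g L226607) q18874, e3 q15264 (flp_g L198366) q11059, e3 q15265 (flp_g L226603) q18877, e3 q15266 L198378 q11062, e3 q15267 L198388 q15247, e3 q15268 L207521 q16534, e3 q15269 L198404 q11472, e3 q15270 L198950 q15348, e3 q15271 (flp_g L211005) q16945, e3 q15272 L207585 q16540, e3 q15273 (flp_g L198431) q11072, e3 q15274 L226760 q18899, e3 q15275 (flp_g L198440) q11073, e3 q15276 L226798 q18903, e3 q15277 L226808 q18904, e3 q15278 (flp_g L198458) q11075, e3 q15279 L198474 q11084, e3 q15280 L200835 q15645, e3 q15281 L226842 q18909, e3 q15282 (flp_g L198548) q15292, e3 q15283 (flp_g L198492) q11079, e3 q15284 (flp_g L198715) q15313, e3 q15285 (flp_g L198734) q15315, e3 q15286 L222844 q17345, e3 q15287 (flp_g L226277) q18828, e3 q15288 L226888 q18915, e3 q15289 (flp_g L198530) q11081, e3 q15290 (flp_g L198534) q11082, e3 q15291 (flp_g L226824) q18905, e3 q15292 L198548 q15282, e3 q15293 L198556 q15240, e3 q15294 (flp_g L217440) q17740, e3 q15295 L198579 q13866,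 trivial⟩ (by decide +kernel)

theorem ce_g_239 : ∀ r, r < 64 → sm gg (Qf (15296 + r)) = Qf (tab Gen.g (15296 + r)) :=
  edges_tab (sm gg) Qf (tab Gen.g) 15296 [(15296, 18923), (15297, 18924), (15298, 13867), (15299, 11086), (15300, 11092), (15301, 18927), (15302, 18928), (15303, 11089), (15304, 11090), (15305, 18925), (15306, 15319), (15307, 11100), (15308, 18935), (15309, 11093), (15310, 18937), (15311, 11094), (15312, 17359), (15313, 15284), (15314, 15314), (15315, 15285), (15316, 15316), (15317, 15225), (15318, 18933), (15319, 15306), (15320, 18934), (15321, 18125), (15322, 18054), (15323, 11115), (15324, 11117), (15325, 15336), (15326, 11185), (15327, 14411), (15328, 11112), (15329, 18202), (15330, 18742), (15331, 18205), (15332, 14413), (15333, 18960), (15334, 14414), (15335, 18952), (15336, 15325), (15337, 18953), (15338, 18954), (15339, 18063), (15340, 18978), (15341, 11119), (15342, 11120), (15343, 11123), (15344, 14844), (15345, 12939), (15346, 12552), (15347, 18979), (15348, 15270), (15349, 15349), (15350,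 18199), (15351, 15351), (15352, 18201), (15353, 14397), (15354, 15354), (15355, 15355), (15356, 15523), (15357, 15368), (15358, 18184), (15359, 18996)]
    ⟨e3 q15296 L226942 q18923, e3 q15297 L226950 q18924, e3 q15298 (flp_g L198599) q13867, e3 q15299 (flp_g L198601) q11086, e3 q15300 L198609 q11092, e3 q15301 L226970 q18927, e3 q15302 L226974 q18928, e3 q15303 (flp_g L198623) q11089, e3 q15304 (flp_g L198633) q11090, e3 q15305 (flp_g L226964) q18925, e3 q15306 (flp_g L198759) q15319, e3 q15307 (flp_g L198661) q11100, e3 q15308 L227054 q18935, e3 q15309 (flp_g L198687) q11093, e3 q15310 L227066 q18937, e3 q15311 (flp_g L198701) q11094, e3 q15312 (flp_g L222796) q17359, e3 q15313 L198715 q15284, e3 q15314 L198723 q15314, e3 q15315 L198734 q15285, e3 q15316 L198740 q15316, e3 q15317 L198747 q15225, e3 q15318 L227040 q18933, e3 q15319 L198759 q15306, e3 q15320 (flp_g L227052) q18934, e3 q15321 (flp_g L220612) q18125, e3 q15322 (flp_g L220082) q18054, e3 q15323 L198793 q11115, e3 q15324 L198797 q11117, e3 q15325 (flp_g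 L198865) q15336, e3 q15326 L198811 q11185, e3 q15327 L198823 q14411, e3 q15328 L198827 q11112, e3 q15329 (flp_g L221203) q18202, e3 q15330 (flp_g L225805) q18742, e3 q15331 (flp_g L221227) q18205, e3 q15332 L198843 q14413, e3 q15333 (flp_g L227244) q18960, e3 q15334 (flp_g L198853) q14414, e3 q15335 (flp_g L227190) q18952, e3 q15336 L198865 q15325, e3 q15337 (flp_g L227194) q18953, e3 q15338 (flp_g L227198) q18954, e3 q15339 (flp_g L220142) q18063, e3 q15340 L227342 q18978, e3 q15341 (flp_g L198881) q11119, e3 q15342 (flp_g L198888) q11120, e3 q15343 L198905 q11123, e3 q15344 L198918 q14844, e3 q15345 L198926 q12939, e3 q15346 L198936 q12552, e3 q15347 (flp_g L227356) q18979, e3 q15348 (flp_g L198950) q15270, e3 q15349 L198956 q15349, e3 q15350 (flp_g L221182) q18199, e3 q15351 L198965 q15351, e3 q15352 (flp_g L221195) q18201, e3 q15353 L198974 q14397, e3 q15354 L198978 q15354, e3 q15355 L198983 q15355, e3 q15356 (flp_g L199931) q15523, e3 q15357 L199311 q15368, e3 q15358 (flp_g L221092) q18184, e3 q15359 L227534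 q18996, trivial⟩ (by decide +kernel)

theorem ce_g_240 : ∀ r, r < 64 → sm gg (Qf (15360 + r)) = Qf (tab Gen.g (15360 + r)) :=
  edges_tab (sm gg) Qf (tab Gen.g) 15360 [(15360, 11131), (15361, 18999), (15362, 11132), (15363, 18795), (15364, 19004), (15365, 19008), (15366, 15189), (15367, 11135), (15368, 15357), (15369, 19015), (15370, 11143), (15371, 11138), (15372, 11158), (15373, 19017), (15374, 11163), (15375, 11391), (15376, 15403), (15377, 19014), (15378, 19011), (15379, 19003), (15380, 15390), (15381, 19029), (15382, 11145), (15383, 18808), (15384, 19033), (15385, 11147), (15386, 19035), (15387, 19036), (15388, 11149), (15389, 18256), (15390, 15380), (15391, 15052), (15392, 15496), (15393, 19043), (15394, 15402), (15395, 11154), (15396, 19047), (15397, 19049), (15398, 19051), (15399, 11155), (15400, 15423), (15401, 11156), (15402, 15394), (15403, 15376), (15404, 19059), (15405, 19061), (15406, 19063), (15407, 11160), (15408, 18643), (15409, 15515), (15410, 19071), (15411, 11231), (15412, 11162), (15413, 19018),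 (15414, 19076), (15415, 19079), (15416, 11164), (15417, 19082), (15418, 11165), (15419, 15758), (15420, 11166), (15421, 19058), (15422, 11169), (15423, 15400)]
    ⟨e3 q15360 (flp_g L199004) q11131, e3 q15361 L227556 q18999, e3 q15362 (flp_g L199020) q11132, e3 q15363 (flp_g L226091) q18795, e3 q15364 L227586 q19004, e3 q15365 L227618 q19008, e3 q15366 (flp_g L199052) q15189, e3 q15367 (flp_g L199054) q11135, e3 q15368 (flp_g L199311) q15357, e3 q15369 L227650 q19015, e3 q15370 L199305 q11143, e3 q15371 (flp_g L199066) q11138, e3 q15372 L199074 q11158, e3 q15373 L227666 q19017, e3 q15374 L199082 q11163, e3 q15375 L199090 q11391, e3 q15376 L199215 q15403, e3 q15377 (flp_g L227648) q19014, e3 q15378 (flp_g L227636) q19011, e3 q15379 (flp_g L227584) q19003, e3 q15380 (flp_g L199158) q15390, e3 q15381 L227738 q19029, e3 q15382 (flp_g L199118) q11145, e3 q15383 L226161 q18808, e3 q15384 L227770 q19033, e3 q15385 (flp_g L199130) q11147, e3 q15386 L227784 q19035, e3 q15387 L227790 q19036, e3 q15388 (flp_g L199144) q11149,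 e3 q15389 (flp_g L221602) q18256, e3 q15390 L199158 q15380, e3 q15391 L199164 q15052, e3 q15392 (flp_g L199793) q15496, e3 q15393 L227831 q19043, e3 q15394 (flp_g L199207) q15402, e3 q15395 (flp_g L199177) q11154, e3 q15396 L227859 q19047, e3 q15397 L227871 q19049, e3 q15398 L227881 q19051, e3 q15399 (flp_g L199191) q11155, e3 q15400 (flp_g L199315) q15423, e3 q15401 (flp_g L199199) q11156, e3 q15402 L199207 q15394, e3 q15403 (flp_g L199215) q15376, e3 q15404 L227927 q19059, e3 q15405 L227941 q19061, e3 q15406 L227951 q19063, e3 q15407 (flp_g L199227) q11160, e3 q15408 (flp_g L225117) q18643, e3 q15409 L230868 q15515, e3 q15410 L228001 q19071, e3 q15411 (flp_g L230853) q11231, e3 q15412 (flp_g L199244) q11162, e3 q15413 (flp_g L227678) q19018, e3 q15414 L228034 q19076, e3 q15415 L228054 q19079, e3 q15416 (flp_g L199257) q11164, e3 q15417 L228075 q19082, e3 q15418 (flp_g L199272) q11165, e3 q15419 (flp_g L227436) q15758, e3 q15420 (flp_g L199283) q11166, e3 q15421 L227919 q19058, e3 q15422 L199293 q11169, e3 q15423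 L199315 q15400, trivial⟩ (by decide +kernel)

theorem ce_g_241 : ∀ r, r < 64 → sm gg (Qf (15424 + r)) = Qf (tab Gen.g (15424 + r)) :=
  edges_tab (sm gg) Qf (tab Gen.g) 15424 [(15424, 19085), (15425, 12876), (15426, 12874), (15427, 15215), (15428, 14256), (15429, 19095), (15430, 11174), (15431, 13772), (15432, 18231), (15433, 11180), (15434, 19099), (15435, 19100), (15436, 19105), (15437, 11181), (15438, 19108), (15439, 11182), (15440, 18957), (15441, 19113), (15442, 19114), (15443, 11186), (15444, 19109), (15445, 15446), (15446, 15445), (15447, 16930), (15448, 11190), (15449, 16969), (15450, 12885), (15451, 19122), (15452, 11192), (15453, 19124), (15454, 11193), (15455, 14581), (15456, 11194), (15457, 15463), (15458, 19130), (15459, 19131), (15460, 11197), (15461, 11212), (15462, 11201), (15463, 15457), (15464, 14418), (15465, 19134), (15466, 14419), (15467, 14206), (15468, 19143), (15469, 19147), (15470, 17964), (15471, 11204), (15472, 19150), (15473, 19154), (15474, 15482), (15475, 11207), (15476, 15521), (15477,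 15732), (15478, 19156), (15479, 11209), (15480, 11210), (15481, 19132), (15482, 15474), (15483, 19133), (15484, 11216), (15485, 11218), (15486, 15489), (15487, 19169)]
    ⟨e3 q15424 (flp_g L228095) q19085, e3 q15425 L199325 q12876, e3 q15426 L199333 q12874, e3 q15427 L199341 q15215, e3 q15428 L199351 q14256, e3 q15429 L228148 q19095, e3 q15430 (flp_g L199357) q11174, e3 q15431 L199373 q13772, e3 q15432 (flp_g L221404) q18231, e3 q15433 L199389 q11180, e3 q15434 (flp_g L228182) q19099, e3 q15435 (flp_g L228192) q19100, e3 q15436 L228214 q19105, e3 q15437 (flp_g L199401) q11181, e3 q15438 L228228 q19108, e3 q15439 (flp_g L199411) q11182, e3 q15440 (flp_g L227216) q18957, e3 q15441 L228254 q19113, e3 q15442 L228264 q19114, e3 q15443 (flp_g L199425) q11186, e3 q15444 (flp_g L228242) q19109, e3 q15445 (flp_g L199447) q15446, e3 q15446 L199447 q15445, e3 q15447 (flp_g L210903) q16930, e3 q15448 (flp_g L199461) q11190, e3 q15449 (flp_g L211195) q16969, e3 q15450 (flp_g L199490) q12885, e3 q15451 L228335 q19122, e3 q15452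 (flp_g L199496) q11192, e3 q15453 L228356 q19124, e3 q15454 (flp_g L199511) q11193, e3 q15455 L227428 q14581, e3 q15456 (flp_g L199520) q11194, e3 q15457 (flp_g L199568) q15463, e3 q15458 L228407 q19130, e3 q15459 L228419 q19131, e3 q15460 (flp_g L199544) q11197, e3 q15461 L199556 q11212, e3 q15462 L199562 q11201, e3 q15463 L199568 q15457, e3 q15464 L199578 q14418, e3 q15465 (flp_g L228447) q19134, e3 q15466 (flp_g L199592) q14419, e3 q15467 L199600 q14206, e3 q15468 L228507 q19143, e3 q15469 L228533 q19147, e3 q15470 (flp_g L219460) q17964, e3 q15471 (flp_g L199618) q11204, e3 q15472 L228557 q19150, e3 q15473 L228581 q19154, e3 q15474 (flp_g L199692) q15482, e3 q15475 (flp_g L199648) q11207, e3 q15476 (flp_g L199918) q15521, e3 q15477 L223837 q15732, e3 q15478 L228595 q19156, e3 q15479 (flp_g L199670) q11209, e3 q15480 (flp_g L199678) q11210, e3 q15481 (flp_g L228433) q19132, e3 q15482 L199692 q15474, e3 q15483 (flp_g L228439) q19133, e3 q15484 L199706 q11216, e3 q15485 L199710 q11218, e3 q15486 L199734 q15489,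 e3 q15487 L228681 q19169, trivial⟩ (by decide +kernel)

theorem ce_g_242 : ∀ r, r < 64 → sm gg (Qf (15488 + r)) = Qf (tab Gen.g (15488 + r)) :=
  edges_tab (sm gg) Qf (tab Gen.g) 15488 [(15488, 19165), (15489, 15486), (15490, 18371), (15491, 18374), (15492, 18338), (15493, 18323), (15494, 11219), (15495, 11230), (15496, 15392), (15497, 19180), (15498, 15506), (15499, 11223), (15500, 19184), (15501, 19186), (15502, 19187), (15503, 11224), (15504, 11225), (15505, 11229), (15506, 15498), (15507, 11227), (15508, 19188), (15509, 15525), (15510, 19191), (15511, 11238), (15512, 19175), (15513, 19068), (15514, 19070), (15515, 15409), (15516, 19208), (15517, 11232), (15518, 19072), (15519, 11493), (15520, 15520), (15521, 15476), (15522, 15522), (15523, 15356), (15524, 19196), (15525, 15509), (15526, 19198), (15527, 19200), (15528, 18208), (15529, 16934), (15530, 11240), (15531, 15827), (15532, 11248), (15533, 13101), (15534, 11251), (15535, 11252), (15536, 15548), (15537, 17189), (15538, 13114), (15539, 19225), (15540, 19226),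 (15541, 19237), (15542, 19239), (15543, 11594), (15544, 13404), (15545, 16032), (15546, 13820), (15547, 19228), (15548, 15536), (15549, 19229), (15550, 15936), (15551, 11253)]
    ⟨e3 q15488 (flp_g L228653) q19165, e3 q15489 (flp_g L199734) q15486, e3 q15490 (flp_g L222515) q18371, e3 q15491 (flp_g L222926) q18374, e3 q15492 (flp_g L222241) q18338, e3 q15493 (flp_g L222116) q18323, e3 q15494 (flp_g L199748) q11219, e3 q15495 L199762 q11230, e3 q15496 L199793 q15392, e3 q15497 L228764 q19180, e3 q15498 (flp_g L199829) q15506, e3 q15499 (flp_g L199785) q11223, e3 q15500 L228796 q19184, e3 q15501 L228806 q19186, e3 q15502 L228812 q19187, e3 q15503 (flp_g L199807) q11224, e3 q15504 (flp_g L199811) q11225, e3 q15505 L199821 q11229, e3 q15506 L199829 q15498, e3 q15507 (flp_g L199831) q11227, e3 q15508 (flp_g L228822) q19188, e3 q15509 (flp_g L199943) q15525, e3 q15510 (flp_g L228844) q19191, e3 q15511 (flp_g L199863) q11238, e3 q15512 (flp_g L228729) q19175, e3 q15513 (flp_g L230903) q19068, e3 q15514 (flp_g L230898)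 q19070, e3 q15515 (flp_g L230868) q15409, e3 q15516 L228985 q19208, e3 q15517 (flp_g L199883) q11232, e3 q15518 (flp_g L230825) q19072, e3 q15519 L199899 q11493, e3 q15520 L199907 q15520, e3 q15521 L199918 q15476, e3 q15522 L199924 q15522, e3 q15523 L199931 q15356, e3 q15524 L228884 q19196, e3 q15525 L199943 q15509, e3 q15526 (flp_g L228900) q19198, e3 q15527 L228912 q19200, e3 q15528 (flp_g L221253) q18208, e3 q15529 (flp_g L210931) q16934, e3 q15530 (flp_g L199977) q11240, e3 q15531 (flp_g L202056) q15827, e3 q15532 L199999 q11248, e3 q15533 L200011 q13101, e3 q15534 L200019 q11251, e3 q15535 L200027 q11252, e3 q15536 L200117 q15548, e3 q15537 (flp_g L212833) q17189, e3 q15538 L200053 q13114, e3 q15539 (flp_g L229108) q19225, e3 q15540 (flp_g L229114) q19226, e3 q15541 L229206 q19237, e3 q15542 L229222 q19239, e3 q15543 L200075 q11594, e3 q15544 L200085 q13404, e3 q15545 (flp_g L203525) q16032, e3 q15546 L200099 q13820, e3 q15547 (flp_g L229138) q19228, e3 q15548 (flp_g L200117) q15536, e3 q15549 (flp_g L229148)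 q19229, e3 q15550 (flp_g L202945) q15936, e3 q15551 (flp_g L200131) q11253, trivial⟩ (by decide +kernel)

theorem ce_g_243 : ∀ r, r < 64 → sm gg (Qf (15552 + r)) = Qf (tab Gen.g (15552 + r)) :=
  edges_tab (sm gg) Qf (tab Gen.g) 15552 [(15552, 16470), (15553, 11254), (15554, 18141), (15555, 11283), (15556, 11285), (15557, 11286), (15558, 15591), (15559, 17766), (15560, 11443), (15561, 15561), (15562, 15562), (15563, 11275), (15564, 11271), (15565, 17186), (15566, 11272), (15567, 11273), (15568, 12788), (15569, 11311), (15570, 11276), (15571, 11278), (15572, 19260), (15573, 17446), (15574, 16770), (15575, 19262), (15576, 15109), (15577, 19263), (15578, 17246), (15579, 11274), (15580, 19259), (15581, 13887), (15582, 19265), (15583, 15110), (15584, 19266), (15585, 19267), (15586, 16083), (15587, 15029), (15588, 15926), (15589, 19246), (15590, 19247), (15591, 15558), (15592, 15873), (15593, 19292), (15594, 19249), (15595, 19250), (15596, 18174), (15597, 18120), (15598, 19300), (15599, 12289), (15600, 11288), (15601,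 15608), (15602, 11289), (15603, 18481), (15604, 11292), (15605, 11293), (15606, 11294), (15607, 11301), (15608, 15601), (15609, 11453), (15610, 18149), (15611, 16302), (15612, 12609), (15613, 16572), (15614, 12294), (15615, 12176)]
    ⟨e3 q15552 (flp_g L207006) q16470, e3 q15553 (flp_g L200147) q11254, e3 q15554 (flp_g L220752) q18141, e3 q15555 L200167 q11283, e3 q15556 L200171 q11285, e3 q15557 L200175 q11286, e3 q15558 (flp_g L200393) q15591, e3 q15559 L217652 q17766, e3 q15560 L200193 q11443, e3 q15561 L200199 q15561, e3 q15562 L200208 q15562, e3 q15563 L200217 q11275, e3 q15564 L200227 q11271, e3 q15565 (flp_g L212807) q17186, e3 q15566 L200237 q11272, e3 q15567 L200241 q11273, e3 q15568 L200249 q12788, e3 q15569 L200255 q11311, e3 q15570 L200269 q11276, e3 q15571 L200275 q11278, e3 q15572 (flp_g L229426) q19260, e3 q15573 (flp_g L215004) q17446, e3 q15574 (flp_g L209597) q16770, e3 q15575 (flp_g L229448) q19262, e3 q15576 (flp_g L200311) q15109, e3 q15577 (flp_g L229452) q19263, e3 q15578 (flp_g L213219)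 q17246, e3 q15579 (flp_g L200321) q11274, e3 q15580 (flp_g L229412) q19259, e3 q15581 L200339 q13887, e3 q15582 (flp_g L229470) q19265, e3 q15583 L200353 q15110, e3 q15584 (flp_g L229476) q19266, e3 q15585 (flp_g L229492) q19267, e3 q15586 L203875 q16083, e3 q15587 L200369 q15029, e3 q15588 (flp_g L202848) q15926, e3 q15589 (flp_g L229288) q19246, e3 q15590 (flp_g L229298) q19247, e3 q15591 L200393 q15558, e3 q15592 L202438 q15873, e3 q15593 L229698 q19292, e3 q15594 (flp_g L229318) q19249, e3 q15595 (flp_g L229330) q19250, e3 q15596 (flp_g L220992) q18174, e3 q15597 (flp_g L220564) q18120, e3 q15598 L229762 q19300, e3 q15599 (flp_g L200435) q12289, e3 q15600 (flp_g L200439) q11288, e3 q15601 (flp_g L200523) q15608, e3 q15602 (flp_g L200459) q11289, e3 q15603 (flp_g L223691) q18481, e3 q15604 (flp_g L200479) q11292, e3 q15605 (flp_g L200487) q11293, e3 q15606 (flp_g L200497) q11294, e3 q15607 L200511 q11301, e3 q15608 L200523 q15601, e3 q15609 L200533 q11453, e3 q15610 (flp_g L220818) q18149, e3 q15611 (flp_g L205552)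 q16302, e3 q15612 L200555 q12609, e3 q15613 L207838 q16572, e3 q15614 L200573 q12294, e3 q15615 L200585 q12176, trivial⟩ (by decide +kernel)

theorem ce_g_244 : ∀ r, r < 64 → sm gg (Qf (15616 + r)) = Qf (tab Gen.g (15616 + r)) :=
  edges_tab (sm gg) Qf (tab Gen.g) 15616 [(15616, 19261), (15617, 19307), (15618, 19308), (15619, 11306), (15620, 15626), (15621, 16573), (15622, 12295), (15623, 11308), (15624, 19313), (15625, 11309), (15626, 15620), (15627, 12815), (15628, 12726), (15629, 11313), (15630, 15636), (15631, 12902), (15632, 11317), (15633, 17468), (15634, 11319), (15635, 11350), (15636, 15630), (15637, 11571), (15638, 17750), (15639, 17789), (15640, 19326), (15641, 19327), (15642, 11323), (15643, 17258), (15644, 15929), (15645, 15280), (15646, 11324), (15647, 19328), (15648, 19335), (15649, 11327), (15650, 19337), (15651, 19339), (15652, 19340), (15653, 11328), (15654, 11329), (15655, 15987), (15656, 11378), (15657, 19344), (15658, 19347), (15659, 19350), (15660, 19352), (15661, 11333), (15662, 11390), (15663,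 11392), (15664, 15733), (15665, 19360), (15666, 19363), (15667, 19366), (15668, 19368), (15669, 11338), (15670, 17401), (15671, 14893), (15672, 11339), (15673, 14895), (15674, 11340), (15675, 14663), (15676, 15687), (15677, 11343), (15678, 14531), (15679, 19371)]
    ⟨e3 q15616 (flp_g L229436) q19261, e3 q15617 L229860 q19307, e3 q15618 L229868 q19308, e3 q15619 (flp_g L200609) q11306, e3 q15620 (flp_g L200673) q15626, e3 q15621 L207848 q16573, e3 q15622 (flp_g L200639) q12295, e3 q15623 (flp_g L200641) q11308, e3 q15624 L229918 q19313, e3 q15625 (flp_g L200657) q11309, e3 q15626 L200673 q15620, e3 q15627 L200683 q12815, e3 q15628 L200689 q12726, e3 q15629 (flp_g L200693) q11313, e3 q15630 (flp_g L200771) q15636, e3 q15631 L200717 q12902, e3 q15632 (flp_g L200721) q11317, e3 q15633 (flp_g L215211) q17468, e3 q15634 (flp_g L200737) q11319, e3 q15635 L200755 q11350, e3 q15636 L200771 q15630, e3 q15637 L200781 q11571, e3 q15638 (flp_g L217538) q17750, e3 q15639 (flp_g L217803) q17789, e3 q15640 L230038 q19326, e3 q15641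 L230042 q19327, e3 q15642 (flp_g L200811) q11323, e3 q15643 L213279 q17258, e3 q15644 (flp_g L202886) q15929, e3 q15645 (flp_g L200835) q15280, e3 q15646 (flp_g L200837) q11324, e3 q15647 (flp_g L230060) q19328, e3 q15648 L230120 q19335, e3 q15649 (flp_g L200858) q11327, e3 q15650 L230142 q19337, e3 q15651 L230162 q19339, e3 q15652 L230174 q19340, e3 q15653 (flp_g L200878) q11328, e3 q15654 (flp_g L200884) q11329, e3 q15655 L223803 q15987, e3 q15656 L200902 q11378, e3 q15657 L230198 q19344, e3 q15658 L230216 q19347, e3 q15659 L230230 q19350, e3 q15660 L230244 q19352, e3 q15661 (flp_g L200916) q11333, e3 q15662 L200928 q11390, e3 q15663 L200932 q11392, e3 q15664 L201442 q15733, e3 q15665 L230288 q19360, e3 q15666 L230310 q19363, e3 q15667 L230334 q19366, e3 q15668 L230344 q19368, e3 q15669 (flp_g L200954) q11338, e3 q15670 (flp_g L214543) q17401, e3 q15671 (flp_g L200972) q14893, e3 q15672 (flp_g L200976) q11339, e3 q15673 (flp_g L200994) q14895, e3 q15674 (flp_g L200996) q11340, e3 q15675 L201014 q14663, e3 q15676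 (flp_g L201127) q15687, e3 q15677 (flp_g L201030) q11343, e3 q15678 L201042 q14531, e3 q15679 L230370 q19371, trivial⟩ (by decide +kernel)

theorem ce_g_245 : ∀ r, r < 64 → sm gg (Qf (15680 + r)) = Qf (tab Gen.g (15680 + r)) :=
  edges_tab (sm gg) Qf (tab Gen.g) 15680 [(15680, 17506), (15681, 11345), (15682, 14339), (15683, 19374), (15684, 11347), (15685, 11348), (15686, 14986), (15687, 15676), (15688, 17697), (15689, 17589), (15690, 19380), (15691, 11871), (15692, 11352), (15693, 11519), (15694, 11353), (15695, 13623), (15696, 17610), (15697, 19385), (15698, 11356), (15699, 15879), (15700, 19387), (15701, 11357), (15702, 15786), (15703, 11358), (15704, 11364), (15705, 11512), (15706, 19390), (15707, 19388), (15708, 19391), (15709, 11405), (15710, 11363), (15711, 15062), (15712, 19396), (15713, 11366), (15714, 19398), (15715, 15726), (15716, 11367), (15717, 17626), (15718, 19403), (15719, 19406), (15720, 18912), (15721, 11370), (15722, 19410), (15723, 11371), (15724, 19413), (15725, 11372), (15726, 15715), (15727,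 11374), (15728, 15956), (15729, 15989), (15730, 11536), (15731, 11377), (15732, 15477), (15733, 15664), (15734, 19421), (15735, 19422), (15736, 11381), (15737, 18342), (15738, 12792), (15739, 18652), (15740, 18653), (15741, 12200), (15742, 19432), (15743, 19433)]
    ⟨e3 q15680 (flp_g L215578) q17506, e3 q15681 (flp_g L201076) q11345, e3 q15682 L201090 q14339, e3 q15683 L230404 q19374, e3 q15684 (flp_g L201099) q11347, e3 q15685 (flp_g L201103) q11348, e3 q15686 L201117 q14986, e3 q15687 L201127 q15676, e3 q15688 (flp_g L217088) q17697, e3 q15689 (flp_g L216263) q17589, e3 q15690 L230454 q19380, e3 q15691 L201151 q11871, e3 q15692 (flp_g L201153) q11352, e3 q15693 L201169 q11519, e3 q15694 (flp_g L201171) q11353, e3 q15695 L201187 q13623, e3 q15696 (flp_g L216409) q17610, e3 q15697 L230506 q19385, e3 q15698 (flp_g L201209) q11356, e3 q15699 (flp_g L202474) q15879, e3 q15700 L230526 q19387, e3 q15701 (flp_g L201239) q11357, e3 q15702 L201768 q15786, e3 q15703 (flp_g L201251) q11358, e3 q15704 L201265 q11364, e3 q15705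 L201278 q11512, e3 q15706 L230558 q19390, e3 q15707 (flp_g L230545) q19388, e3 q15708 L230566 q19391, e3 q15709 (flp_g L201300) q11405, e3 q15710 (flp_g L201302) q11363, e3 q15711 L201316 q15062, e3 q15712 L230616 q19396, e3 q15713 (flp_g L201326) q11366, e3 q15714 L230632 q19398, e3 q15715 (flp_g L201404) q15726, e3 q15716 (flp_g L201346) q11367, e3 q15717 (flp_g L216521) q17626, e3 q15718 L230664 q19403, e3 q15719 L230682 q19406, e3 q15720 (flp_g L226868) q18912, e3 q15721 (flp_g L201370) q11370, e3 q15722 L230702 q19410, e3 q15723 (flp_g L201380) q11371, e3 q15724 L230732 q19413, e3 q15725 (flp_g L201392) q11372, e3 q15726 L201404 q15715, e3 q15727 (flp_g L201406) q11374, e3 q15728 (flp_g L230873) q15956, e3 q15729 (flp_g L223833) q15989, e3 q15730 L230900 q11536, e3 q15731 (flp_g L201424) q11377, e3 q15732 (flp_g L223837) q15477, e3 q15733 (flp_g L201442) q15664, e3 q15734 L230804 q19421, e3 q15735 L230968 q19422, e3 q15736 (flp_g L201454) q11381, e3 q15737 (flp_g L222285) q18342, e3 q15738 L201476 q12792, e3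 q15739 (flp_g L225183) q18652, e3 q15740 (flp_g L225197) q18653, e3 q15741 (flp_g L201492) q12200, e3 q15742 L231046 q19432, e3 q15743 L231052 q19433, trivial⟩ (by decide +kernel)

theorem ce_g_246 : ∀ r, r < 64 → sm gg (Qf (15744 + r)) = Qf (tab Gen.g (15744 + r)) :=
  edges_tab (sm gg) Qf (tab Gen.g) 15744 [(15744, 15755), (15745, 11385), (15746, 19437), (15747, 19440), (15748, 19441), (15749, 11386), (15750, 19443), (15751, 19445), (15752, 11387), (15753, 19128), (15754, 11388), (15755, 15744), (15756, 19354), (15757, 19019), (15758, 15419), (15759, 19355), (15760, 19155), (15761, 19414), (15762, 11393), (15763, 11394), (15764, 19415), (15765, 18392), (15766, 18407), (15767, 18408), (15768, 19462), (15769, 18410), (15770, 14587), (15771, 19464), (15772, 11400), (15773, 14664), (15774, 14330), (15775, 15027), (15776, 19392), (15777, 11404), (15778, 15790), (15779, 19468), (15780, 19469), (15781, 19470), (15782, 11408), (15783, 15882), (15784, 19476), (15785, 18442), (15786, 15702), (15787, 11411), (15788, 19466),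 (15789, 11412), (15790, 15778), (15791, 11488), (15792, 17462), (15793, 16852), (15794, 11415), (15795, 14328), (15796, 19485), (15797, 19486), (15798, 11417), (15799, 19479), (15800, 14285), (15801, 11435), (15802, 19492), (15803, 11420), (15804, 16749), (15805, 15819), (15806, 18706), (15807, 15850)]
    ⟨e3 q15744 (flp_g L201564) q15755, e3 q15745 (flp_g L201510) q11385, e3 q15746 L231080 q19437, e3 q15747 L231094 q19440, e3 q15748 L231098 q19441, e3 q15749 (flp_g L201528) q11386, e3 q15750 L231114 q19443, e3 q15751 L231132 q19445, e3 q15752 (flp_g L201542) q11387, e3 q15753 L228398 q19128, e3 q15754 (flp_g L201552) q11388, e3 q15755 L201564 q15744, e3 q15756 (flp_g L230262) q19354, e3 q15757 (flp_g L227688) q19019, e3 q15758 L227436 q15419, e3 q15759 (flp_g L230270) q19355, e3 q15760 L228591 q19155, e3 q15761 (flp_g L230915) q19414, e3 q15762 (flp_g L201594) q11393, e3 q15763 (flp_g L201606) q11394, e3 q15764 (flp_g L230913) q19415, e3 q15765 (flp_g L223058) q18392, e3 q15766 (flp_g L223141) q18407, e3 q15767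 (flp_g L223147) q18408, e3 q15768 L231252 q19462, e3 q15769 (flp_g L223161) q18410, e3 q15770 (flp_g L201642) q14587, e3 q15771 L231272 q19464, e3 q15772 (flp_g L201650) q11400, e3 q15773 L201668 q14664, e3 q15774 (flp_g L201678) q14330, e3 q15775 L201690 q15027, e3 q15776 (flp_g L230582) q19392, e3 q15777 (flp_g L201700) q11404, e3 q15778 (flp_g L201804) q15790, e3 q15779 L231312 q19468, e3 q15780 L231320 q19469, e3 q15781 L231332 q19470, e3 q15782 (flp_g L201736) q11408, e3 q15783 (flp_g L202503) q15882, e3 q15784 L231388 q19476, e3 q15785 (flp_g L223403) q18442, e3 q15786 (flp_g L201768) q15702, e3 q15787 (flp_g L201770) q11411, e3 q15788 (flp_g L231298) q19466, e3 q15789 (flp_g L201786) q11412, e3 q15790 L201804 q15778, e3 q15791 (flp_g L201812) q11488, e3 q15792 (flp_g L215145) q17462, e3 q15793 (flp_g L210257) q16852, e3 q15794 (flp_g L201834) q11415, e3 q15795 L201846 q14328, e3 q15796 L231478 q19485, e3 q15797 L231490 q19486, e3 q15798 (flp_g L201858) q11417, e3 q15799 (flp_g L231422) q19479, e3 q15800 L201876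 q14285, e3 q15801 (flp_g L201885) q11435, e3 q15802 L231548 q19492, e3 q15803 (flp_g L201894) q11420, e3 q15804 (flp_g L209409) q16749, e3 q15805 (flp_g L202010) q15819, e3 q15806 (flp_g L225510) q18706, e3 q15807 L202236 q15850, trivial⟩ (by decide +kernel)

theorem ce_g_247 : ∀ r, r < 64 → sm gg (Qf (15808 + r)) = Qf (tab Gen.g (15808 + r)) :=
  edges_tab (sm gg) Qf (tab Gen.g) 15808 [(15808, 15863), (15809, 12225), (15810, 18707), (15811, 15861), (15812, 12614), (15813, 11431), (15814, 16238), (15815, 16386), (15816, 11432), (15817, 19503), (15818, 11433), (15819, 15805), (15820, 19490), (15821, 19488), (15822, 19509), (15823, 11436), (15824, 19513), (15825, 16008), (15826, 11438), (15827, 15531), (15828, 15878), (15829, 19255), (15830, 19256), (15831, 19520), (15832, 19522), (15833, 19524), (15834, 11444), (15835, 11445), (15836, 16020), (15837, 13865), (15838, 12226), (15839, 15843), (15840, 11448), (15841, 18509), (15842, 11451), (15843, 15839), (15844, 16912), (15845, 11682), (15846, 19531), (15847, 11464),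 (15848, 19532), (15849, 13285), (15850, 15807), (15851, 19535), (15852, 17262), (15853, 11465), (15854, 11467), (15855, 11468), (15856, 19537), (15857, 15131), (15858, 19538), (15859, 19541), (15860, 11469), (15861, 15811), (15862, 18107), (15863, 15808), (15864, 11476), (15865, 11478), (15866, 14486), (15867, 19545), (15868, 14873), (15869, 14928), (15870, 11479), (15871, 11621)]
    ⟨e3 q15808 (flp_g L202340) q15863, e3 q15809 L201944 q12225, e3 q15810 (flp_g L225518) q18707, e3 q15811 (flp_g L202324) q15861, e3 q15812 (flp_g L201996) q12614, e3 q15813 (flp_g L201966) q11431, e3 q15814 L204974 q16238, e3 q15815 L206244 q16386, e3 q15816 (flp_g L201982) q11432, e3 q15817 L231648 q19503, e3 q15818 (flp_g L202000) q11433, e3 q15819 L202010 q15805, e3 q15820 (flp_g L231535) q19490, e3 q15821 (flp_g L231516) q19488, e3 q15822 L231698 q19509, e3 q15823 (flp_g L202028) q11436, e3 q15824 L231744 q19513, e3 q15825 L203385 q16008, e3 q15826 (flp_g L202046) q11438, e3 q15827 L202056 q15531, e3 q15828 L202466 q15878, e3 q15829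 (flp_g L229370) q19255, e3 q15830 (flp_g L229378) q19256, e3 q15831 L231798 q19520, e3 q15832 L231822 q19522, e3 q15833 L231836 q19524, e3 q15834 (flp_g L202090) q11444, e3 q15835 (flp_g L202094) q11445, e3 q15836 L203455 q16020, e3 q15837 L202110 q13865, e3 q15838 L202124 q12226, e3 q15839 (flp_g L202174) q15843, e3 q15840 (flp_g L202134) q11448, e3 q15841 (flp_g L223973) q18509, e3 q15842 (flp_g L202154) q11451, e3 q15843 L202174 q15839, e3 q15844 (flp_g L210781) q16912, e3 q15845 L202184 q11682, e3 q15846 L231902 q19531, e3 q15847 L202206 q11464, e3 q15848 (flp_g L231924) q19532, e3 q15849 L202226 q13285, e3 q15850 (flp_g L202236) q15807, e3 q15851 L231946 q19535, e3 q15852 (flp_g L213309) q17262, e3 q15853 (flp_g L202252) q11465, e3 q15854 L202262 q11467, e3 q15855 L202268 q11468, e3 q15856 (flp_g L231978) q19537, e3 q15857 (flp_g L202292) q15131, e3 q15858 (flp_g L231986) q19538, e3 q15859 L232008 q19541, e3 q15860 (flp_g L202308) q11469, e3 q15861 L202324 q15811, e3 q15862 L220450 q18107, e3 q15863 L202340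 q15808, e3 q15864 L202350 q11476, e3 q15865 L202358 q11478, e3 q15866 (flp_g L202370) q14486, e3 q15867 (flp_g L232056) q19545, e3 q15868 L202384 q14873, e3 q15869 (flp_g L202398) q14928, e3 q15870 (flp_g L202402) q11479, e3 q15871 L202422 q11621, trivial⟩ (by decide +kernel)

theorem ce_g_248 : ∀ r, r < 64 → sm gg (Qf (15872 + r)) = Qf (tab Gen.g (15872 + r)) :=
  edges_tab (sm gg) Qf (tab Gen.g) 15872 [(15872, 14208), (15873, 15592), (15874, 19552), (15875, 16327), (15876, 11482), (15877, 19557), (15878, 15828), (15879, 15699), (15880, 11483), (15881, 11522), (15882, 15783), (15883, 15886), (15884, 19473), (15885, 11487), (15886, 15883), (15887, 19447), (15888, 19564), (15889, 19351), (15890, 19569), (15891, 11492), (15892, 19210), (15893, 19572), (15894, 11494), (15895, 19349), (15896, 18519), (15897, 18520), (15898, 18521), (15899, 19584), (15900, 13845), (15901, 17606), (15902, 14692), (15903, 18525), (15904, 19585), (15905, 11500), (15906, 11504), (15907, 15911), (15908, 18291), (15909, 14785), (15910, 14789),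 (15911, 15907), (15912, 19588), (15913, 17208), (15914, 17896), (15915, 17500), (15916, 18532), (15917, 11508), (15918, 11509), (15919, 19592), (15920, 19499), (15921, 16010), (15922, 11511), (15923, 15111), (15924, 19277), (15925, 19596), (15926, 15588), (15927, 15933), (15928, 14207), (15929, 15644), (15930, 11516), (15931, 19553), (15932, 11523), (15933, 15927), (15934, 19558), (15935, 19600)]
    ⟨e3 q15872 L202430 q14208, e3 q15873 (flp_g L202438) q15592, e3 q15874 L232104 q19552, e3 q15875 (flp_g L205775) q16327, e3 q15876 (flp_g L202450) q11482, e3 q15877 L232150 q19557, e3 q15878 (flp_g L202466) q15828, e3 q15879 L202474 q15699, e3 q15880 (flp_g L202476) q11483, e3 q15881 L202494 q11522, e3 q15882 L202503 q15783, e3 q15883 (flp_g L202537) q15886, e3 q15884 L231368 q19473, e3 q15885 (flp_g L202525) q11487, e3 q15886 L202537 q15883, e3 q15887 (flp_g L231156) q19447, e3 q15888 L232218 q19564, e3 q15889 (flp_g L230952) q19351, e3 q15890 L232250 q19569, e3 q15891 (flp_g L202567) q11492, e3 q15892 (flp_g L229001)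 q19210, e3 q15893 L232278 q19572, e3 q15894 (flp_g L202581) q11494, e3 q15895 L230917 q19349, e3 q15896 (flp_g L224041) q18519, e3 q15897 (flp_g L224053) q18520, e3 q15898 (flp_g L224065) q18521, e3 q15899 L232362 q19584, e3 q15900 L202609 q13845, e3 q15901 (flp_g L216381) q17606, e3 q15902 (flp_g L202631) q14692, e3 q15903 (flp_g L224095) q18525, e3 q15904 L232372 q19585, e3 q15905 (flp_g L202655) q11500, e3 q15906 L202671 q11504, e3 q15907 L202729 q15911, e3 q15908 (flp_g L221864) q18291, e3 q15909 L202697 q14785, e3 q15910 L202719 q14789, e3 q15911 (flp_g L202729) q15907, e3 q15912 L232407 q19588, e3 q15913 (flp_g L212971) q17208, e3 q15914 (flp_g L218826) q17896, e3 q15915 (flp_g L215512) q17500, e3 q15916 (flp_g L224161) q18532, e3 q15917 (flp_g L202768) q11508, e3 q15918 (flp_g L202776) q11509, e3 q15919 (flp_g L232452) q19592, e3 q15920 (flp_g L231630) q19499, e3 q15921 (flp_g L203401) q16010, e3 q15922 (flp_g L202802) q11511, e3 q15923 L202822 q15111, e3 q15924 (flp_g L229566) q19277, e3 q15925 (flp_g L232488)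 q19596, e3 q15926 L202848 q15588, e3 q15927 (flp_g L202925) q15933, e3 q15928 (flp_g L202874) q14207, e3 q15929 L202886 q15644, e3 q15930 (flp_g L202888) q11516, e3 q15931 (flp_g L232122) q19553, e3 q15932 L202911 q11523, e3 q15933 L202925 q15927, e3 q15934 (flp_g L232167) q19558, e3 q15935 (flp_g L232532) q19600, trivial⟩ (by decide +kernel)

theorem ce_g_249 : ∀ r, r < 64 → sm gg (Qf (15936 + r)) = Qf (tab Gen.g (15936 + r)) :=
  edges_tab (sm gg) Qf (tab Gen.g) 15936 [(15936, 15550), (15937, 11543), (15938, 18615), (15939, 16110), (15940, 19604), (15941, 15952), (15942, 11526), (15943, 18422), (15944, 19402), (15945, 19611), (15946, 19613), (15947, 11529), (15948, 19615), (15949, 11530), (15950, 11531), (15951, 11540), (15952, 15941), (15953, 12780), (15954, 19416), (15955, 19418), (15956, 15728), (15957, 19622), (15958, 11537), (15959, 19419), (15960, 19617), (15961, 19625), (15962, 18474), (15963, 11542), (15964, 19248), (15965, 19601), (15966, 19630), (15967, 19633), (15968, 19044), (15969, 15980), (15970,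 11544), (15971, 19638), (15972, 19641), (15973, 19642), (15974, 11545), (15975, 19040), (15976, 19645), (15977, 11546), (15978, 11547), (15979, 11553), (15980, 15969), (15981, 19649), (15982, 11549), (15983, 18991), (15984, 19652), (15985, 11551), (15986, 19646), (15987, 15655), (15988, 15988), (15989, 15729), (15990, 19657), (15991, 19659), (15992, 19661), (15993, 11556), (15994, 19663), (15995, 11557), (15996, 11558), (15997, 14634), (15998, 14862), (15999, 18176)]
    ⟨e3 q15936 L202945 q15550, e3 q15937 L202951 q11543, e3 q15938 (flp_g L224917) q18615, e3 q15939 (flp_g L204047) q16110, e3 q15940 L232564 q19604, e3 q15941 (flp_g L203041) q15952, e3 q15942 (flp_g L202981) q11526, e3 q15943 (flp_g L223261) q18422, e3 q15944 L230925 q19402, e3 q15945 L232624 q19611, e3 q15946 L232638 q19613, e3 q15947 (flp_g L203007) q11529, e3 q15948 L232650 q19615, e3 q15949 (flp_g L203017) q11530, e3 q15950 (flp_g L203023) q11531, e3 q15951 L203033 q11540, e3 q15952 L203041 q15941, e3 q15953 L203047 q12780, e3 q15954 L230889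 q19416, e3 q15955 L230919 q19418, e3 q15956 L230873 q15728, e3 q15957 L232721 q19622, e3 q15958 (flp_g L203071) q11537, e3 q15959 (flp_g L230816) q19419, e3 q15960 (flp_g L232676) q19617, e3 q15961 L232755 q19625, e3 q15962 (flp_g L223623) q18474, e3 q15963 (flp_g L203105) q11542, e3 q15964 L229308 q19248, e3 q15965 (flp_g L232542) q19601, e3 q15966 L232807 q19630, e3 q15967 L232827 q19633, e3 q15968 L227849 q19044, e3 q15969 (flp_g L203201) q15980, e3 q15970 (flp_g L203147) q11544, e3 q15971 L232863 q19638, e3 q15972 L232877 q19641, e3 q15973 L232881 q19642, e3 q15974 (flp_g L203165) q11545, e3 q15975 (flp_g L227819) q19040, e3 q15976 L232905 q19645, e3 q15977 (flp_g L203179) q11546, e3 q15978 (flp_g L203185) q11547, e3 q15979 L203193 q11553, e3 q15980 L203201 q15969, e3 q15981 L232947 q19649, e3 q15982 (flp_g L203209) q11549, e3 q15983 (flp_g L227508) q18991, e3 q15984 L232973 q19652, e3 q15985 (flp_g L203223) q11551, e3 q15986 (flp_g L232921) q19646, e3 q15987 (flp_g L223803) q15655, e3 q15988 L222234 q15988,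 e3 q15989 L223833 q15729, e3 q15990 L233015 q19657, e3 q15991 L233031 q19659, e3 q15992 L233045 q19661, e3 q15993 (flp_g L203259) q11556, e3 q15994 L233061 q19663, e3 q15995 (flp_g L203273) q11557, e3 q15996 (flp_g L203281) q11558, e3 q15997 L203293 q14634, e3 q15998 L203305 q14862, e3 q15999 (flp_g L221012) q18176, trivial⟩ (by decide +kernel)

theorem ce_g_250 : ∀ r, r < 64 → sm gg (Qf (16000 + r)) = Qf (tab Gen.g (16000 + r)) :=
  edges_tab (sm gg) Qf (tab Gen.g) 16000 [(16000, 16000), (16001, 16001), (16002, 16002), (16003, 19315), (16004, 16004), (16005, 16599), (16006, 19668), (16007, 19497), (16008, 15825), (16009, 11572), (16010, 15921), (16011, 19673), (16012, 19528), (16013, 16023), (16014, 11576), (16015, 18263), (16016, 19678), (16017, 19681), (16018, 19682), (16019, 11579), (16020, 15836), (16021, 11580), (16022, 11581), (16023, 16013), (16024, 19686), (16025, 19688), (16026, 19689), (16027, 11585), (16028, 19694), (16029, 19695), (16030, 19697), (16031, 11587), (16032, 15545), (16033, 11588), (16034,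 15026), (16035, 19703), (16036, 19706), (16037, 19709), (16038, 16055), (16039, 11590), (16040, 16057), (16041, 11591), (16042, 19232), (16043, 15061), (16044, 13366), (16045, 19719), (16046, 19722), (16047, 19723), (16048, 11596), (16049, 19726), (16050, 19727), (16051, 11597), (16052, 18225), (16053, 11598), (16054, 14463), (16055, 16038), (16056, 11600), (16057, 16040), (16058, 16074), (16059, 19738), (16060, 18381), (16061, 18292), (16062, 17655), (16063, 19741)]
    ⟨e3 q16000 L203327 q16000, e3 q16001 L203336 q16001, e3 q16002 L203343 q16002, e3 q16003 (flp_g L229950) q19315, e3 q16004 L203358 q16004, e3 q16005 (flp_g L208067) q16599, e3 q16006 L233109 q19668, e3 q16007 (flp_g L231608) q19497, e3 q16008 (flp_g L203385) q15825, e3 q16009 (flp_g L203387) q11572, e3 q16010 L203401 q15921, e3 q16011 L233147 q19673, e3 q16012 (flp_g L231872) q19528, e3 q16013 (flp_g L203481) q16023, e3 q16014 (flp_g L203421) q11576, e3 q16015 (flp_g L221684) q18263, e3 q16016 L233183 q19678, e3 q16017 L233199 q19681, e3 q16018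 L233205 q19682, e3 q16019 (flp_g L203443) q11579, e3 q16020 (flp_g L203455) q15836, e3 q16021 (flp_g L203457) q11580, e3 q16022 (flp_g L203465) q11581, e3 q16023 L203481 q16013, e3 q16024 L233231 q19686, e3 q16025 L233239 q19688, e3 q16026 L233245 q19689, e3 q16027 (flp_g L203491) q11585, e3 q16028 L233287 q19694, e3 q16029 L233295 q19695, e3 q16030 L233317 q19697, e3 q16031 (flp_g L203511) q11587, e3 q16032 L203525 q15545, e3 q16033 (flp_g L203529) q11588, e3 q16034 L203543 q15026, e3 q16035 L233365 q19703, e3 q16036 L233387 q19706, e3 q16037 L233409 q19709, e3 q16038 (flp_g L203675) q16055, e3 q16039 (flp_g L203567) q11590, e3 q16040 (flp_g L203693) q16057, e3 q16041 (flp_g L203583) q11591, e3 q16042 (flp_g L229168) q19232, e3 q16043 L203603 q15061, e3 q16044 L203615 q13366, e3 q16045 L233495 q19719, e3 q16046 L233517 q19722, e3 q16047 L233523 q19723, e3 q16048 (flp_g L203631) q11596, e3 q16049 L233553 q19726, e3 q16050 L233557 q19727, e3 q16051 (flp_g L203645) q11597, e3 q16052 (flp_g L227432) q18225, e3 q16053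 (flp_g L203657) q11598, e3 q16054 L203667 q14463, e3 q16055 L203675 q16038, e3 q16056 (flp_g L203677) q11600, e3 q16057 L203693 q16040, e3 q16058 (flp_g L203811) q16074, e3 q16059 L233647 q19738, e3 q16060 (flp_g L222984) q18381, e3 q16061 (flp_g L221872) q18292, e3 q16062 (flp_g L216731) q17655, e3 q16063 L233669 q19741, trivial⟩ (by decide +kernel)

theorem ce_g_251 : ∀ r, r < 64 → sm gg (Qf (16064 + r)) = Qf (tab Gen.g (16064 + r)) :=
  edges_tab (sm gg) Qf (tab Gen.g) 16064 [(16064, 11605), (16065, 19743), (16066, 19744), (16067, 11606), (16068, 16073), (16069, 11607), (16070, 19749), (16071, 19745), (16072, 11610), (16073, 16068), (16074, 16058), (16075, 19758), (16076, 19759), (16077, 19542), (16078, 19760), (16079, 11617), (16080, 16622), (16081, 11622), (16082, 17995), (16083, 15586), (16084, 19275), (16085, 11624), (16086, 11625), (16087, 19767), (16088, 17668), (16089, 16099), (16090, 11628), (16091, 19771), (16092, 17963), (16093, 19775), (16094, 19776), (16095, 11631), (16096, 19298), (16097, 11632),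 (16098, 11633), (16099, 16089), (16100, 19780), (16101, 19782), (16102, 19783), (16103, 11637), (16104, 19788), (16105, 19311), (16106, 19790), (16107, 11639), (16108, 11640), (16109, 11647), (16110, 15939), (16111, 19797), (16112, 19800), (16113, 19803), (16114, 16131), (16115, 11642), (16116, 16133), (16117, 11643), (16118, 18114), (16119, 19791), (16120, 14476), (16121, 19813), (16122, 19816), (16123, 19818), (16124, 11648), (16125, 18729), (16126, 19822), (16127, 11649)]
    ⟨e3 q16064 (flp_g L203739) q11605, e3 q16065 L233685 q19743, e3 q16066 L233691 q19744, e3 q16067 (flp_g L203755) q11606, e3 q16068 (flp_g L203805) q16073, e3 q16069 (flp_g L203769) q11607, e3 q16070 L233737 q19749, e3 q16071 (flp_g L233703) q19745, e3 q16072 (flp_g L203789) q11610, e3 q16073 L203805 q16068, e3 q16074 L203811 q16058, e3 q16075 L233825 q19758, e3 q16076 L233831 q19759, e3 q16077 (flp_g L232028) q19542, e3 q16078 L233845 q19760, e3 q16079 (flp_g L203846) q11617, e3 q16080 (flp_g L208264) q16622, e3 q16081 (flp_g L203859) q11622,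 e3 q16082 L220026 q17995, e3 q16083 (flp_g L203875) q15586, e3 q16084 (flp_g L229546) q19275, e3 q16085 (flp_g L203883) q11624, e3 q16086 (flp_g L203893) q11625, e3 q16087 L233895 q19767, e3 q16088 L216843 q17668, e3 q16089 (flp_g L203979) q16099, e3 q16090 (flp_g L203923) q11628, e3 q16091 L233921 q19771, e3 q16092 L220038 q17963, e3 q16093 L233945 q19775, e3 q16094 L233953 q19776, e3 q16095 (flp_g L203943) q11631, e3 q16096 L229756 q19298, e3 q16097 (flp_g L203955) q11632, e3 q16098 (flp_g L203965) q11633, e3 q16099 L203979 q16089, e3 q16100 L233979 q19780, e3 q16101 L233989 q19782, e3 q16102 L233993 q19783, e3 q16103 (flp_g L203993) q11637, e3 q16104 L234039 q19788, e3 q16105 (flp_g L229904) q19311, e3 q16106 L234059 q19790, e3 q16107 (flp_g L204013) q11639, e3 q16108 (flp_g L204017) q11640, e3 q16109 L204031 q11647, e3 q16110 L204047 q15939, e3 q16111 L234115 q19797, e3 q16112 L234137 q19800, e3 q16113 L234161 q19803, e3 q16114 (flp_g L204179) q16131, e3 q16115 (flp_g L204071) q11642, e3 q16116 (flp_g L204197)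 q16133, e3 q16117 (flp_g L204085) q11643, e3 q16118 (flp_g L220506) q18114, e3 q16119 (flp_g L234075) q19791, e3 q16120 L204119 q14476, e3 q16121 L234247 q19813, e3 q16122 L234269 q19816, e3 q16123 L234289 q19818, e3 q16124 (flp_g L204135) q11648, e3 q16125 (flp_g L225711) q18729, e3 q16126 L234319 q19822, e3 q16127 (flp_g L204149) q11649, trivial⟩ (by decide +kernel)

theorem ce_g_252 : ∀ r, r < 64 → sm gg (Qf (16128 + r)) = Qf (tab Gen.g (16128 + r)) :=
  edges_tab (sm gg) Qf (tab Gen.g) 16128 [(16128, 19824), (16129, 11650), (16130, 14630), (16131, 16114), (16132, 11652), (16133, 16116), (16134, 13854), (16135, 19832), (16136, 13855), (16137, 13856), (16138, 17722), (16139, 14322), (16140, 11657), (16141, 19837), (16142, 19839), (16143, 11658), (16144, 16149), (16145, 11659), (16146, 19843), (16147, 19316), (16148, 11662), (16149, 16144), (16150, 14609), (16151, 19852), (16152, 17180), (16153, 16168), (16154, 19856), (16155, 19857), (16156, 11667), (16157, 19859), (16158, 19861), (16159, 16166), (16160, 11668),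 (16161, 19866), (16162, 19868), (16163, 19869), (16164, 11669), (16165, 11670), (16166, 16159), (16167, 19872), (16168, 16153), (16169, 19875), (16170, 17098), (16171, 11674), (16172, 19858), (16173, 19879), (16174, 16181), (16175, 11675), (16176, 19884), (16177, 19886), (16178, 19887), (16179, 11676), (16180, 11677), (16181, 16174), (16182, 16182), (16183, 19890), (16184, 19891), (16185, 11692), (16186, 11693), (16187, 16187), (16188, 12181), (16189, 12178), (16190, 16502), (16191, 12000)]
    ⟨e3 q16128 L234343 q19824, e3 q16129 (flp_g L204161) q11650, e3 q16130 L204171 q14630, e3 q16131 L204179 q16114, e3 q16132 (flp_g L204181) q11652, e3 q16133 L204197 q16116, e3 q16134 L204203 q13854, e3 q16135 L234407 q19832, e3 q16136 L204213 q13855, e3 q16137 L204221 q13856, e3 q16138 L217282 q17722, e3 q16139 (flp_g L204239) q14322, e3 q16140 (flp_g L204241) q11657, e3 q16141 L234447 q19837, e3 q16142 L234465 q19839, e3 q16143 (flp_g L204259) q11658, e3 q16144 (flp_g L204309) q16149, e3 q16145 (flp_g L204271) q11659, e3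 q16146 L234507 q19843, e3 q16147 (flp_g L229962) q19316, e3 q16148 (flp_g L204293) q11662, e3 q16149 L204309 q16144, e3 q16150 L204315 q14609, e3 q16151 L234595 q19852, e3 q16152 (flp_g L212763) q17180, e3 q16153 (flp_g L204417) q16168, e3 q16154 L234641 q19856, e3 q16155 L234651 q19857, e3 q16156 (flp_g L204348) q11667, e3 q16157 L234663 q19859, e3 q16158 L234679 q19861, e3 q16159 (flp_g L204402) q16166, e3 q16160 (flp_g L204366) q11668, e3 q16161 L234709 q19866, e3 q16162 L234725 q19868, e3 q16163 L234731 q19869, e3 q16164 (flp_g L204388) q11669, e3 q16165 (flp_g L204394) q11670, e3 q16166 L204402 q16159, e3 q16167 L234749 q19872, e3 q16168 L204417 q16153, e3 q16169 L234783 q19875, e3 q16170 L212175 q17098, e3 q16171 (flp_g L204435) q11674, e3 q16172 (flp_g L234669) q19858, e3 q16173 L234825 q19879, e3 q16174 (flp_g L204489) q16181, e3 q16175 (flp_g L204453) q11675, e3 q16176 L234855 q19884, e3 q16177 L234871 q19886, e3 q16178 L234877 q19887, e3 q16179 (flp_g L204475) q11676, e3 q16180 (flp_g L204481) q11677,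 e3 q16181 L204489 q16174, e3 q16182 L204499 q16182, e3 q16183 (flp_g L234905) q19890, e3 q16184 L234907 q19891, e3 q16185 (flp_g L204523) q11692, e3 q16186 (flp_g L204533) q11693, e3 q16187 L204552 q16187, e3 q16188 L204565 q12181, e3 q16189 L204573 q12178, e3 q16190 (flp_g L207241) q16502, e3 q16191 L204591 q12000, trivial⟩ (by decide +kernel)

theorem ce_g_253 : ∀ r, r < 64 → sm gg (Qf (16192 + r)) = Qf (tab Gen.g (16192 + r)) :=
  edges_tab (sm gg) Qf (tab Gen.g) 16192 [(16192, 16370), (16193, 11707), (16194, 16294), (16195, 11734), (16196, 11894), (16197, 16197), (16198, 11736), (16199, 12065), (16200, 11722), (16201, 16465), (16202, 19893), (16203, 11724), (16204, 11855), (16205, 16205), (16206, 19892), (16207, 16207), (16208, 16208), (16209, 16258), (16210, 16256), (16211, 12286), (16212, 17093), (16213, 11748), (16214, 19896), (16215, 16566), (16216, 12309), (16217, 16247), (16218, 17094), (16219, 13013), (16220, 16231), (16221, 19902), (16222, 19903), (16223, 18558), (16224, 11758), (16225, 11759), (16226,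 11762), (16227, 19904), (16228, 19907), (16229, 11764), (16230, 11766), (16231, 16220), (16232, 17484), (16233, 14055), (16234, 14736), (16235, 12109), (16236, 11778), (16237, 16446), (16238, 15814), (16239, 11780), (16240, 11781), (16241, 11791), (16242, 19909), (16243, 11784), (16244, 19908), (16245, 13342), (16246, 13341), (16247, 16217), (16248, 13087), (16249, 11796), (16250, 11801), (16251, 19912), (16252, 16259), (16253, 13535), (16254, 11809), (16255, 11811)]
    ⟨e3 q16192 (flp_g L206106) q16370, e3 q16193 (flp_g L204601) q11707, e3 q16194 L205472 q16294, e3 q16195 L204619 q11734, e3 q16196 L204625 q11894, e3 q16197 L204637 q16197, e3 q16198 L204646 q11736, e3 q16199 L204652 q12065, e3 q16200 (flp_g L204654) q11722, e3 q16201 (flp_g L206964) q16465, e3 q16202 L234933 q19893, e3 q16203 (flp_g L204681) q11724, e3 q16204 L204697 q11855, e3 q16205 L204707 q16205, e3 q16206 (flp_g L234931) q19892, e3 q16207 L204726 q16207, e3 q16208 L204737 q16208, e3 q16209 (flp_g L205145) q16258, e3 q16210 (flp_g L205133)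 q16256, e3 q16211 (flp_g L204766) q12286, e3 q16212 (flp_g L212129) q17093, e3 q16213 (flp_g L204780) q11748, e3 q16214 L234979 q19896, e3 q16215 (flp_g L207780) q16566, e3 q16216 L204802 q12309, e3 q16217 (flp_g L205057) q16247, e3 q16218 (flp_g L212141) q17094, e3 q16219 L204835 q13013, e3 q16220 (flp_g L204914) q16231, e3 q16221 L235025 q19902, e3 q16222 L235033 q19903, e3 q16223 (flp_g L224415) q18558, e3 q16224 (flp_g L204863) q11758, e3 q16225 (flp_g L204871) q11759, e3 q16226 (flp_g L204879) q11762, e3 q16227 (flp_g L235047) q19904, e3 q16228 L235067 q19907, e3 q16229 (flp_g L204896) q11764, e3 q16230 L204904 q11766, e3 q16231 L204914 q16220, e3 q16232 (flp_g L215361) q17484, e3 q16233 L204920 q14055, e3 q16234 L204930 q14736, e3 q16235 L204940 q12109, e3 q16236 (flp_g L204946) q11778, e3 q16237 L206771 q16446, e3 q16238 (flp_g L204974) q15814, e3 q16239 (flp_g L204976) q11780, e3 q16240 (flp_g L204988) q11781, e3 q16241 L205004 q11791, e3 q16242 L235093 q19909, e3 q16243 (flp_g L205016) q11784, e3 q16244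 (flp_g L235089) q19908, e3 q16245 L205032 q13342, e3 q16246 L205044 q13341, e3 q16247 L205057 q16217, e3 q16248 L205071 q13087, e3 q16249 (flp_g L205075) q11796, e3 q16250 L205091 q11801, e3 q16251 (flp_g L235129) q19912, e3 q16252 (flp_g L205153) q16259, e3 q16253 L205105 q13535, e3 q16254 (flp_g L205117) q11809, e3 q16255 L205125 q11811, trivial⟩ (by decide +kernel)

theorem ce_g_254 : ∀ r, r < 64 → sm gg (Qf (16256 + r)) = Qf (tab Gen.g (16256 + r)) :=
  edges_tab (sm gg) Qf (tab Gen.g) 16256 [(16256, 16210), (16257, 19915), (16258, 16209), (16259, 16252), (16260, 19916), (16261, 18572), (16262, 16557), (16263, 12292), (16264, 16452), (16265, 11826), (16266, 11828), (16267, 17191), (16268, 13635), (16269, 19923), (16270, 14056), (16271, 12448), (16272, 13395), (16273, 12447), (16274, 16653), (16275, 11820), (16276, 17465), (16277, 11821), (16278, 19381), (16279, 14060), (16280, 11874), (16281, 11879), (16282, 16303), (16283, 17924), (16284, 16450), (16285, 12085), (16286, 16286), (16287, 11863), (16288, 16288),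 (16289, 11866), (16290, 17430), (16291, 11861), (16292, 11898), (16293, 19894), (16294, 16194), (16295, 11862), (16296, 15013), (16297, 14113), (16298, 14080), (16299, 14133), (16300, 12169), (16301, 13943), (16302, 15611), (16303, 16282), (16304, 13946), (16305, 13740), (16306, 14182), (16307, 17862), (16308, 16308), (16309, 12500), (16310, 16460), (16311, 13606), (16312, 19927), (16313, 19932), (16314, 16462), (16315, 11893), (16316, 12105), (16317, 12104), (16318, 11895), (16319, 13439)]
    ⟨e3 q16256 L205133 q16210, e3 q16257 L235151 q19915, e3 q16258 L205145 q16209, e3 q16259 L205153 q16252, e3 q16260 (flp_g L235159) q19916, e3 q16261 (flp_g L224537) q18572, e3 q16262 (flp_g L207706) q16557, e3 q16263 L205177 q12292, e3 q16264 (flp_g L206837) q16452, e3 q16265 L205197 q11826, e3 q16266 L205221 q11828, e3 q16267 (flp_g L212845) q17191, e3 q16268 L205233 q13635, e3 q16269 L235213 q19923, e3 q16270 L205246 q14056, e3 q16271 L205254 q12448, e3 q16272 (flp_g L205264) q13395, e3 q16273 L205271 q12447, e3 q16274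 L208568 q16653, e3 q16275 (flp_g L205285) q11820, e3 q16276 (flp_g L215175) q17465, e3 q16277 (flp_g L205302) q11821, e3 q16278 (flp_g L230472) q19381, e3 q16279 L205324 q14060, e3 q16280 L205338 q11874, e3 q16281 L205350 q11879, e3 q16282 (flp_g L205560) q16303, e3 q16283 (flp_g L219080) q17924, e3 q16284 (flp_g L206817) q16450, e3 q16285 L205382 q12085, e3 q16286 L205392 q16286, e3 q16287 L205405 q11863, e3 q16288 L205415 q16288, e3 q16289 L205430 q11866, e3 q16290 (flp_g L214839) q17430, e3 q16291 L205442 q11861, e3 q16292 L205452 q11898, e3 q16293 (flp_g L234957) q19894, e3 q16294 (flp_g L205472) q16194, e3 q16295 (flp_g L205476) q11862, e3 q16296 L205494 q15013, e3 q16297 L205502 q14113, e3 q16298 L205512 q14080, e3 q16299 L205520 q14133, e3 q16300 L205532 q12169, e3 q16301 L205544 q13943, e3 q16302 L205552 q15611, e3 q16303 L205560 q16282, e3 q16304 L205568 q13946, e3 q16305 L205576 q13740, e3 q16306 L205584 q14182, e3 q16307 (flp_g L218496) q17862, e3 q16308 L205604 q16308, e3 q16309 L205619 q12500, e3 q16310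 (flp_g L206916) q16460, e3 q16311 L205631 q13606, e3 q16312 (flp_g L235262) q19927, e3 q16313 L235310 q19932, e3 q16314 L206932 q16462, e3 q16315 (flp_g L205653) q11893, e3 q16316 L205667 q12105, e3 q16317 L205679 q12104, e3 q16318 (flp_g L205683) q11895, e3 q16319 L205697 q13439, trivial⟩ (by decide +kernel)

theorem ce_g_255 : ∀ r, r < 64 → sm gg (Qf (16320 + r)) = Qf (tab Gen.g (16320 + r)) :=
  edges_tab (sm gg) Qf (tab Gen.g) 16320 [(16320, 11899), (16321, 12188), (16322, 12779), (16323, 14751), (16324, 16353), (16325, 17933), (16326, 14135), (16327, 15875), (16328, 11928), (16329, 11931), (16330, 17407), (16331, 17077), (16332, 19936), (16333, 11934), (16334, 18702), (16335, 11935), (16336, 11936), (16337, 11996), (16338, 19938), (16339, 11940), (16340, 19941), (16341, 16627), (16342, 11941), (16343, 16620), (16344, 13484), (16345, 12015), (16346, 12017), (16347, 16383), (16348, 19946), (16349, 11947), (16350, 19947), (16351, 11948), (16352, 11949), (16353, 16324), (16354, 13941), (16355, 14719), (16356, 17832),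 (16357, 17839), (16358, 13944), (16359, 11973), (16360, 11974), (16361, 13163), (16362, 11978), (16363, 11980), (16364, 14723), (16365, 16591), (16366, 17428), (16367, 19806), (16368, 11984), (16369, 11986), (16370, 16192), (16371, 16864), (16372, 11990), (16373, 16407), (16374, 19956), (16375, 16381), (16376, 11992), (16377, 19958), (16378, 19959), (16379, 11993), (16380, 11994), (16381, 16375), (16382, 19428), (16383, 16347)]
    ⟨e3 q16320 (flp_g L205701) q11899, e3 q16321 L205719 q12188, e3 q16322 L205729 q12779, e3 q16323 L205737 q14751, e3 q16324 (flp_g L205955) q16353, e3 q16325 (flp_g L219166) q17933, e3 q16326 L205763 q14135, e3 q16327 L205775 q15875, e3 q16328 (flp_g L205777) q11928, e3 q16329 L205793 q11931, e3 q16330 (flp_g L214597) q17407, e3 q16331 L212009 q17077, e3 q16332 L235352 q19936, e3 q16333 (flp_g L205814) q11934, e3 q16334 (flp_g L225471) q18702, e3 q16335 (flp_g L205826) q11935, e3 q16336 (flp_g L205834) q11936, e3 q16337 L205850 q11996, e3 q16338 L235372 q19938, e3 q16339 (flp_g L205858)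 q11940, e3 q16340 L235398 q19941, e3 q16341 (flp_g L208311) q16627, e3 q16342 (flp_g L205878) q11941, e3 q16343 (flp_g L208237) q16620, e3 q16344 L205897 q13484, e3 q16345 L205905 q12015, e3 q16346 L205911 q12017, e3 q16347 L206210 q16383, e3 q16348 L235440 q19946, e3 q16349 (flp_g L205922) q11947, e3 q16350 L235447 q19947, e3 q16351 (flp_g L205931) q11948, e3 q16352 (flp_g L205937) q11949, e3 q16353 L205955 q16324, e3 q16354 L205967 q13941, e3 q16355 (flp_g L205974) q14719, e3 q16356 (flp_g L218208) q17832, e3 q16357 (flp_g L218282) q17839, e3 q16358 L205994 q13944, e3 q16359 (flp_g L205998) q11973, e3 q16360 (flp_g L206010) q11974, e3 q16361 L206026 q13163, e3 q16362 (flp_g L206028) q11978, e3 q16363 (flp_g L206038) q11980, e3 q16364 L206054 q14723, e3 q16365 (flp_g L207981) q16591, e3 q16366 (flp_g L214817) q17428, e3 q16367 L234197 q19806, e3 q16368 (flp_g L206076) q11984, e3 q16369 (flp_g L206088) q11986, e3 q16370 L206106 q16192, e3 q16371 (flp_g L210379) q16864, e3 q16372 (flp_g L206118) q11990, e3 q16373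 (flp_g L206416) q16407, e3 q16374 L235535 q19956, e3 q16375 (flp_g L206190) q16381, e3 q16376 (flp_g L206152) q11992, e3 q16377 L235553 q19958, e3 q16378 L235559 q19959, e3 q16379 (flp_g L206172) q11993, e3 q16380 (flp_g L206176) q11994, e3 q16381 L206190 q16375, e3 q16382 (flp_g L231028) q19428, e3 q16383 (flp_g L206210) q16347, trivial⟩ (by decide +kernel)

theorem ce_g_256 : ∀ r, r < 64 → sm gg (Qf (16384 + r)) = Qf (tab Gen.g (16384 + r)) :=
  edges_tab (sm gg) Qf (tab Gen.g) 16384 [(16384, 13427), (16385, 13340), (16386, 15815), (16387, 17445), (16388, 12001), (16389, 13302), (16390, 19966), (16391, 16402), (16392, 12002), (16393, 19968), (16394, 16406), (16395, 12003), (16396, 19970), (16397, 12006), (16398, 19972), (16399, 19973), (16400, 12007), (16401, 12008), (16402, 16391), (16403, 19975), (16404, 12010), (16405, 12011), (16406, 16394), (16407, 16373), (16408, 19426), (16409, 16518), (16410, 19127), (16411, 12018), (16412, 17292), (16413, 12965), (16414, 17027), (16415, 13286), (16416, 18548), (16417,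 14814), (16418, 17496), (16419, 19980), (16420, 12027), (16421, 12860), (16422, 19982), (16423, 19983), (16424, 12032), (16425, 16871), (16426, 19985), (16427, 12033), (16428, 13676), (16429, 12034), (16430, 13446), (16431, 16472), (16432, 12141), (16433, 17531), (16434, 12051), (16435, 14382), (16436, 14384), (16437, 12049), (16438, 17884), (16439, 12080), (16440, 12076), (16441, 12056), (16442, 12079), (16443, 12058), (16444, 16448), (16445, 16461), (16446, 16237), (16447, 12074)]
    ⟨e3 q16384 (flp_g L206220) q13427, e3 q16385 (flp_g L206232) q13340, e3 q16386 (flp_g L206244) q15815, e3 q16387 (flp_g L214994) q17445, e3 q16388 (flp_g L206252) q12001, e3 q16389 (flp_g L206274) q13302, e3 q16390 L235637 q19966, e3 q16391 (flp_g L206366) q16402, e3 q16392 (flp_g L206290) q12002, e3 q16393 L235653 q19968, e3 q16394 (flp_g L206410) q16406, e3 q16395 (flp_g L206312) q12003, e3 q16396 L235669 q19970, e3 q16397 (flp_g L206326) q12006, e3 q16398 L235687 q19972, e3 q16399 L235695 q19973, e3 q16400 (flp_g L206346) q12007,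 e3 q16401 (flp_g L206350) q12008, e3 q16402 L206366 q16391, e3 q16403 L235717 q19975, e3 q16404 (flp_g L206374) q12010, e3 q16405 (flp_g L206394) q12011, e3 q16406 L206410 q16394, e3 q16407 L206416 q16373, e3 q16408 (flp_g L231010) q19426, e3 q16409 (flp_g L207383) q16518, e3 q16410 L228385 q19127, e3 q16411 (flp_g L206440) q12018, e3 q16412 (flp_g L213529) q17292, e3 q16413 L206460 q12965, e3 q16414 L211659 q17027, e3 q16415 L206476 q13286, e3 q16416 (flp_g L224325) q18548, e3 q16417 (flp_g L206498) q14814, e3 q16418 (flp_g L215481) q17496, e3 q16419 L235759 q19980, e3 q16420 (flp_g L206524) q12027, e3 q16421 L206542 q12860, e3 q16422 L235781 q19982, e3 q16423 L235791 q19983, e3 q16424 (flp_g L206557) q12032, e3 q16425 (flp_g L210447) q16871, e3 q16426 L235809 q19985, e3 q16427 (flp_g L206577) q12033, e3 q16428 (flp_g L206598) q13676, e3 q16429 (flp_g L206600) q12034, e3 q16430 L206612 q13446, e3 q16431 (flp_g L207023) q16472, e3 q16432 L206629 q12141, e3 q16433 (flp_g L215803) q17531, e3 q16434 L206645 q12051,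 e3 q16435 L206659 q14382, e3 q16436 L206671 q14384, e3 q16437 (flp_g L206673) q12049, e3 q16438 (flp_g L218694) q17884, e3 q16439 L206699 q12080, e3 q16440 (flp_g L206714) q12076, e3 q16441 (flp_g L206716) q12056, e3 q16442 L206733 q12079, e3 q16443 (flp_g L206739) q12058, e3 q16444 (flp_g L206795) q16448, e3 q16445 L206924 q16461, e3 q16446 (flp_g L206771) q16237, e3 q16447 (flp_g L206773) q12074, trivial⟩ (by decide +kernel)

theorem ce_g_257 : ∀ r, r < 64 → sm gg (Qf (16448 + r)) = Qf (tab Gen.g (16448 + r)) :=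
  edges_tab (sm gg) Qf (tab Gen.g) 16448 [(16448, 16444), (16449, 15016), (16450, 16284), (16451, 14129), (16452, 16264), (16453, 17845), (16454, 19991), (16455, 12086), (16456, 14010), (16457, 12498), (16458, 12093), (16459, 12096), (16460, 16310), (16461, 16445), (16462, 16314), (16463, 17455), (16464, 12102), (16465, 16201), (16466, 19304), (16467, 12114), (16468, 12152), (16469, 12151), (16470, 15552), (16471, 12172), (16472, 16431), (16473, 13238), (16474, 16519), (16475, 17440), (16476, 15125), (16477, 12140), (16478, 13377), (16479, 17245), (16480, 12357), (16481, 20000), (16482, 20001), (16483, 12145), (16484, 12146), (16485, 12150), (16486, 20003), (16487, 12148), (16488, 20002), (16489, 16608), (16490, 19992), (16491, 20007), (16492, 14178), (16493, 12153), (16494, 12158), (16495, 12163), (16496, 12167), (16497, 18531), (16498, 12190), (16499, 16574), (16500, 16504), (16501, 18647), (16502, 16190), (16503, 12183), (16504, 16500), (16505, 13432), (16506, 18699), (16507, 17447), (16508, 12191), (16509, 20011),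 (16510, 16515), (16511, 12192)]
    ⟨e3 q16448 L206795 q16444, e3 q16449 L206805 q15016, e3 q16450 L206817 q16284, e3 q16451 L206827 q14129, e3 q16452 L206837 q16264, e3 q16453 (flp_g L218344) q17845, e3 q16454 L235870 q19991, e3 q16455 (flp_g L206853) q12086, e3 q16456 L206867 q14010, e3 q16457 (flp_g L206884) q12498, e3 q16458 (flp_g L206886) q12093, e3 q16459 (flp_g L206898) q12096, e3 q16460 L206916 q16310, e3 q16461 (flp_g L206924) q16445, e3 q16462 (flp_g L206932) q16314, e3 q16463 (flp_g L215074) q17455, e3 q16464 (flp_g L206942) q12102, e3 q16465 L206964 q16201, e3 q16466 (flp_g L229834) q19304, e3 q16467 (flp_g L206974) q12114, e3 q16468 L206986 q12152, e3 q16469 L206996 q12151, e3 q16470 L207006 q15552, e3 q16471 L207016 q12172, e3 q16472 L207023 q16431, e3 q16473 L207031 q13238, e3 q16474 L207391 q16519, e3 q16475 (flp_g L214936) q17440, e3 q16476 L207047 q15125, e3 q16477 (flp_g L207051) q12140, e3 q16478 L207065 q13377, e3 q16479 L213211 q17245, e3 q16480 (flp_g L207079) q12357, e3 q16481 L235960 q20000,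 e3 q16482 L235964 q20001, e3 q16483 (flp_g L207093) q12145, e3 q16484 (flp_g L207099) q12146, e3 q16485 L207115 q12150, e3 q16486 L235983 q20003, e3 q16487 (flp_g L207122) q12148, e3 q16488 (flp_g L235980) q20002, e3 q16489 (flp_g L208146) q16608, e3 q16490 (flp_g L235890) q19992, e3 q16491 L236021 q20007, e3 q16492 (flp_g L207160) q14178, e3 q16493 (flp_g L207164) q12153, e3 q16494 (flp_g L207176) q12158, e3 q16495 (flp_g L207186) q12163, e3 q16496 L207199 q12167, e3 q16497 (flp_g L224151) q18531, e3 q16498 L207209 q12190, e3 q16499 (flp_g L207858) q16574, e3 q16500 (flp_g L207263) q16504, e3 q16501 (flp_g L225155) q18647, e3 q16502 L207241 q16190, e3 q16503 (flp_g L207245) q12183, e3 q16504 L207263 q16500, e3 q16505 (flp_g L207279) q13432, e3 q16506 (flp_g L225447) q18699, e3 q16507 (flp_g L215014) q17447, e3 q16508 (flp_g L207303) q12191, e3 q16509 L236057 q20011, e3 q16510 (flp_g L207357) q16515, e3 q16511 (flp_g L207323) q12192, trivial⟩ (by decide +kernel)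

theorem ce_g_258 : ∀ r, r < 64 → sm gg (Qf (16512 + r)) = Qf (tab Gen.g (16512 + r)) :=
  edges_tab (sm gg) Qf (tab Gen.g) 16512 [(16512, 20012), (16513, 12195), (16514, 12196), (16515, 16510), (16516, 13428), (16517, 19427), (16518, 16409), (16519, 16474), (16520, 20016), (16521, 12204), (16522, 12205), (16523, 16525), (16524, 12207), (16525, 16523), (16526, 12209), (16527, 14840), (16528, 18486), (16529, 13417), (16530, 20019), (16531, 12227), (16532, 20021), (16533, 12228), (16534, 15268), (16535, 12232), (16536, 15127), (16537, 12235), (16538, 12236), (16539, 12237), (16540, 15272), (16541, 17473), (16542, 15129), (16543, 12242), (16544, 20026), (16545, 12243), (16546, 20028), (16547, 12244), (16548, 20030), (16549, 12249), (16550, 16613), (16551, 20034), (16552, 12251), (16553, 16617), (16554, 13022), (16555, 17101), (16556, 17229), (16557, 16262), (16558, 12262), (16559, 16803), (16560, 14487), (16561, 14943), (16562, 12268), (16563, 14668), (16564, 12277), (16565, 19895), (16566, 16215), (16567, 18850),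 (16568, 15239), (16569, 18949), (16570, 12291), (16571, 15220), (16572, 15613), (16573, 15621), (16574, 16499), (16575, 12301)]
    ⟨e3 q16512 L236063 q20012, e3 q16513 (flp_g L207337) q12195, e3 q16514 (flp_g L207341) q12196, e3 q16515 L207357 q16510, e3 q16516 L207367 q13428, e3 q16517 (flp_g L231018) q19427, e3 q16518 L207383 q16409, e3 q16519 (flp_g L207391) q16474, e3 q16520 L236107 q20016, e3 q16521 (flp_g L207407) q12204, e3 q16522 (flp_g L207419) q12205, e3 q16523 L207447 q16525, e3 q16524 (flp_g L207429) q12207, e3 q16525 (flp_g L207447) q16523, e3 q16526 (flp_g L207449) q12209, e3 q16527 L207467 q14840, e3 q16528 (flp_g L223737) q18486, e3 q16529 L207481 q13417, e3 q16530 L236129 q20019, e3 q16531 (flp_g L207489) q12227, e3 q16532 L236145 q20021, e3 q16533 (flp_g L207503) q12228, e3 q16534 (flp_g L207521) q15268, e3 q16535 (flp_g L207523) q12232, e3 q16536 (flp_g L207541) q15127, e3 q16537 (flp_g L207543) q12235, e3 q16538 (flp_g L207557) q12236, e3 q16539 (flp_g L207567) q12237, e3 q16540 (flp_g L207585)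 q15272, e3 q16541 L215266 q17473, e3 q16542 (flp_g L207601) q15129, e3 q16543 (flp_g L207603) q12242, e3 q16544 L236181 q20026, e3 q16545 (flp_g L207618) q12243, e3 q16546 L236199 q20028, e3 q16547 (flp_g L207632) q12244, e3 q16548 L236211 q20030, e3 q16549 (flp_g L207646) q12249, e3 q16550 (flp_g L208191) q16613, e3 q16551 L236237 q20034, e3 q16552 (flp_g L207662) q12251, e3 q16553 (flp_g L208211) q16617, e3 q16554 L207680 q13022, e3 q16555 (flp_g L212195) q17101, e3 q16556 (flp_g L213111) q17229, e3 q16557 L207706 q16262, e3 q16558 (flp_g L207708) q12262, e3 q16559 (flp_g L209879) q16803, e3 q16560 L207726 q14487, e3 q16561 L207738 q14943, e3 q16562 (flp_g L207740) q12268, e3 q16563 L207760 q14668, e3 q16564 (flp_g L207762) q12277, e3 q16565 L234971 q19895, e3 q16566 L207780 q16215, e3 q16567 L226413 q18850, e3 q16568 L207796 q15239, e3 q16569 (flp_g L227165) q18949, e3 q16570 (flp_g L207804) q12291, e3 q16571 (flp_g L207826) q15220, e3 q16572 (flp_g L207838) q15613, e3 q16573 (flp_g L207848) q15621, e3 q16574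 L207858 q16499, e3 q16575 L207868 q12301, trivial⟩ (by decide +kernel)

theorem ce_g_259 : ∀ r, r < 64 → sm gg (Qf (16576 + r)) = Qf (tab Gen.g (16576 + r)) :=
  edges_tab (sm gg) Qf (tab Gen.g) 16576 [(16576, 17450), (16577, 15222), (16578, 16578), (16579, 17092), (16580, 13318), (16581, 17183), (16582, 13095), (16583, 17091), (16584, 19898), (16585, 14863), (16586, 17184), (16587, 20056), (16588, 17171), (16589, 12311), (16590, 14094), (16591, 16365), (16592, 14095), (16593, 17889), (16594, 14993), (16595, 18115), (16596, 12326), (16597, 12718), (16598, 14908), (16599, 16005), (16600, 14737), (16601, 18382), (16602, 12343), (16603, 12353), (16604, 19997), (16605, 20062), (16606, 12412), (16607, 12358), (16608, 16489), (16609, 14869), (16610, 12677), (16611, 20066), (16612, 12366), (16613, 16550), (16614, 20070), (16615, 16630), (16616, 12368), (16617, 16553), (16618, 16632), (16619, 12403), (16620, 16343), (16621, 12377), (16622, 16080), (16623, 18585), (16624, 14347), (16625, 18443), (16626, 12755), (16627, 16341),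 (16628, 20073), (16629, 16771), (16630, 16615), (16631, 20081), (16632, 16618), (16633, 12408), (16634, 17168), (16635, 20061), (16636, 12438), (16637, 13512), (16638, 13756), (16639, 12473)]
    ⟨e3 q16576 (flp_g L215038) q17450, e3 q16577 L207884 q15222, e3 q16578 L207896 q16578, e3 q16579 (flp_g L212121) q17092, e3 q16580 L207911 q13318, e3 q16581 (flp_g L212789) q17183, e3 q16582 (flp_g L207925) q13095, e3 q16583 (flp_g L212115) q17091, e3 q16584 (flp_g L234999) q19898, e3 q16585 L207939 q14863, e3 q16586 (flp_g L212793) q17184, e3 q16587 L236384 q20056, e3 q16588 (flp_g L212697) q17171, e3 q16589 (flp_g L207957) q12311, e3 q16590 L207971 q14094, e3 q16591 L207981 q16365, e3 q16592 L207991 q14095, e3 q16593 (flp_g L218748) q17889, e3 q16594 L208009 q14993, e3 q16595 L220518 q18115, e3 q16596 (flp_g L208019) q12326, e3 q16597 L208039 q12718, e3 q16598 L208053 q14908, e3 q16599 L208067 q16005, e3 q16600 L208079 q14737, e3 q16601 (flp_g L222998) q18382, e3 q16602 (flp_g L208092) q12343, e3 q16603 (flp_g L208098)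 q12353, e3 q16604 L235936 q19997, e3 q16605 L236433 q20062, e3 q16606 L208128 q12412, e3 q16607 (flp_g L208130) q12358, e3 q16608 L208146 q16489, e3 q16609 L208157 q14869, e3 q16610 L208163 q12677, e3 q16611 L236470 q20066, e3 q16612 (flp_g L208173) q12366, e3 q16613 L208191 q16550, e3 q16614 L236498 q20070, e3 q16615 (flp_g L208331) q16630, e3 q16616 (flp_g L208201) q12368, e3 q16617 L208211 q16553, e3 q16618 L208341 q16632, e3 q16619 L208227 q12403, e3 q16620 L208237 q16343, e3 q16621 (flp_g L208240) q12377, e3 q16622 L208264 q16080, e3 q16623 (flp_g L224645) q18585, e3 q16624 L208287 q14347, e3 q16625 L223415 q18443, e3 q16626 L208301 q12755, e3 q16627 L208311 q16341, e3 q16628 (flp_g L236524) q20073, e3 q16629 (flp_g L209609) q16771, e3 q16630 L208331 q16615, e3 q16631 L236579 q20081, e3 q16632 (flp_g L208341) q16618, e3 q16633 (flp_g L208343) q12408, e3 q16634 (flp_g L212679) q17168, e3 q16635 (flp_g L236431) q20061, e3 q16636 L208379 q12438, e3 q16637 L208391 q13512, e3 q16638 L208403 q13756, e3 q16639 L208415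 q12473, trivial⟩ (by decide +kernel)

theorem ce_g_260 : ∀ r, r < 64 → sm gg (Qf (16640 + r)) = Qf (tab Gen.g (16640 + r)) :=
  edges_tab (sm gg) Qf (tab Gen.g) 16640 [(16640, 12428), (16641, 12443), (16642, 15019), (16643, 12466), (16644, 12446), (16645, 13510), (16646, 13509), (16647, 13511), (16648, 15006), (16649, 16659), (16650, 16792), (16651, 16651), (16652, 18173), (16653, 16274), (16654, 14007), (16655, 12790), (16656, 14728), (16657, 14367), (16658, 12464), (16659, 16649), (16660, 20087), (16661, 14014), (16662, 12469), (16663, 14973), (16664, 14884), (16665, 20093), (16666, 12476), (16667, 12488), (16668, 12489), (16669, 20095), (16670, 20096), (16671, 12484), (16672, 12485), (16673, 14790), (16674, 17830), (16675, 20094), (16676, 12501), (16677, 12490), (16678, 12496), (16679, 17861), (16680, 17882), (16681, 16998), (16682, 20102), (16683, 20104), (16684, 12509), (16685, 20107), (16686, 12510), (16687, 14027), (16688, 16897), (16689, 17902), (16690, 14092), (16691, 17904), (16692, 20117), (16693, 12514),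 (16694, 12515), (16695, 12861), (16696, 12524), (16697, 12525), (16698, 16701), (16699, 16992), (16700, 19089), (16701, 16698), (16702, 20119), (16703, 20124)]
    ⟨e3 q16640 L208431 q12428, e3 q16641 (flp_g L208441) q12443, e3 q16642 L208453 q15019, e3 q16643 L208465 q12466, e3 q16644 L208479 q12446, e3 q16645 L208493 q13510, e3 q16646 L208503 q13509, e3 q16647 L208517 q13511, e3 q16648 L208529 q15006, e3 q16649 (flp_g L208630) q16659, e3 q16650 (flp_g L209785) q16792, e3 q16651 L208551 q16651, e3 q16652 (flp_g L220984) q18173, e3 q16653 (flp_g L208568) q16274, e3 q16654 L208578 q14007, e3 q16655 L208590 q12790, e3 q16656 L208600 q14728, e3 q16657 L208604 q14367, e3 q16658 L208616 q12464, e3 q16659 L208630 q16649, e3 q16660 (flp_g L236641) q20087, e3 q16661 L208642 q14014, e3 q16662 (flp_g L208646) q12469, e3 q16663 L208666 q14973, e3 q16664 (flp_g L208678) q14884, e3 q16665 L236697 q20093, e3 q16666 (flp_g L208694) q12476, e3 q16667 L208710 q12488, e3 q16668 L208716 q12489, e3 q16669 L236715 q20095, e3 q16670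 L236727 q20096, e3 q16671 (flp_g L208735) q12484, e3 q16672 (flp_g L208743) q12485, e3 q16673 L208763 q14790, e3 q16674 (flp_g L218192) q17830, e3 q16675 (flp_g L236711) q20094, e3 q16676 (flp_g L208793) q12501, e3 q16677 (flp_g L208795) q12490, e3 q16678 (flp_g L208807) q12496, e3 q16679 (flp_g L218482) q17861, e3 q16680 (flp_g L218672) q17882, e3 q16681 L211411 q16998, e3 q16682 L236781 q20102, e3 q16683 L236805 q20104, e3 q16684 (flp_g L208855) q12509, e3 q16685 L236837 q20107, e3 q16686 (flp_g L208869) q12510, e3 q16687 L208883 q14027, e3 q16688 L210653 q16897, e3 q16689 (flp_g L218866) q17902, e3 q16690 (flp_g L208907) q14092, e3 q16691 (flp_g L218886) q17904, e3 q16692 L236939 q20117, e3 q16693 (flp_g L208919) q12514, e3 q16694 (flp_g L208931) q12515, e3 q16695 L208947 q12861, e3 q16696 L208957 q12524, e3 q16697 L208963 q12525, e3 q16698 L208997 q16701, e3 q16699 L211368 q16992, e3 q16700 (flp_g L228119) q19089, e3 q16701 (flp_g L208997) q16698, e3 q16702 (flp_g L236967) q20119, e3 q16703 L237009 q20124, trivial⟩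 (by decide +kernel)

theorem ce_g_261 : ∀ r, r < 64 → sm gg (Qf (16704 + r)) = Qf (tab Gen.g (16704 + r)) :=
  edges_tab (sm gg) Qf (tab Gen.g) 16704 [(16704, 12526), (16705, 16713), (16706, 20127), (16707, 12527), (16708, 12925), (16709, 20130), (16710, 12528), (16711, 19732), (16712, 12529), (16713, 16705), (16714, 12696), (16715, 12535), (16716, 12695), (16717, 16762), (16718, 17928), (16719, 14138), (16720, 12833), (16721, 13538), (16722, 12986), (16723, 20137), (16724, 14150), (16725, 12546), (16726, 18840), (16727, 16923), (16728, 20140), (16729, 12551), (16730, 18981), (16731, 16989), (16732, 15090), (16733, 20145), (16734, 16963), (16735, 18841), (16736, 13097), (16737, 13482), (16738, 13208), (16739, 12566), (16740, 16846), (16741, 13272), (16742, 13261), (16743, 12579), (16744, 12799), (16745, 14892), (16746, 12608), (16747, 19302), (16748, 13487), (16749, 15804), (16750, 17456), (16751, 17457), (16752, 12894), (16753, 12895), (16754, 12896), (16755, 16941), (16756, 12628), (16757, 16758), (16758, 16757),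 (16759, 12630), (16760, 20159), (16761, 16958), (16762, 16717), (16763, 12635), (16764, 16767), (16765, 12637), (16766, 12639), (16767, 16764)]
    ⟨e3 q16704 (flp_g L209013) q12526, e3 q16705 (flp_g L209093) q16713, e3 q16706 L237045 q20127, e3 q16707 (flp_g L209037) q12527, e3 q16708 (flp_g L209051) q12925, e3 q16709 L237067 q20130, e3 q16710 (flp_g L209061) q12528, e3 q16711 (flp_g L233601) q19732, e3 q16712 (flp_g L209079) q12529, e3 q16713 L209093 q16705, e3 q16714 L209101 q12696, e3 q16715 L209115 q12535, e3 q16716 L209125 q12695, e3 q16717 L209515 q16762, e3 q16718 (flp_g L219124) q17928, e3 q16719 L209151 q14138, e3 q16720 L209159 q12833, e3 q16721 L209173 q13538, e3 q16722 L209183 q12986, e3 q16723 L237143 q20137, e3 q16724 L209193 q14150, e3 q16725 (flp_g L209199) q12546, e3 q16726 (flp_g L226343) q18840, e3 q16727 (flp_g L210853) q16923, e3 q16728 L237175 q20140, e3 q16729 (flp_g L209233) q12551, e3 q16730 (flp_g L227379) q18981, e3 q16731 (flp_g L211336) q16989, e3 q16732 L209259 q15090, e3 q16733 L237215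 q20145, e3 q16734 (flp_g L211137) q16963, e3 q16735 (flp_g L226351) q18841, e3 q16736 L209292 q13097, e3 q16737 L209300 q13482, e3 q16738 L209305 q13208, e3 q16739 (flp_g L209309) q12566, e3 q16740 (flp_g L210204) q16846, e3 q16741 L209333 q13272, e3 q16742 (flp_g L209341) q13261, e3 q16743 (flp_g L209343) q12579, e3 q16744 L209361 q12799, e3 q16745 L209375 q14892, e3 q16746 L209387 q12608, e3 q16747 (flp_g L229806) q19302, e3 q16748 L209395 q13487, e3 q16749 L209409 q15804, e3 q16750 (flp_g L215084) q17456, e3 q16751 (flp_g L215092) q17457, e3 q16752 L209427 q12894, e3 q16753 L209433 q12895, e3 q16754 L209439 q12896, e3 q16755 L210971 q16941, e3 q16756 L209461 q12628, e3 q16757 L209483 q16758, e3 q16758 (flp_g L209483) q16757, e3 q16759 (flp_g L209485) q12630, e3 q16760 L237330 q20159, e3 q16761 (flp_g L211095) q16958, e3 q16762 (flp_g L209515) q16717, e3 q16763 (flp_g L209519) q12635, e3 q16764 (flp_g L209565) q16767, e3 q16765 (flp_g L209539) q12637, e3 q16766 (flp_g L209547) q12639, e3 q16767 L209565 q16764,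 trivial⟩ (by decide +kernel)

theorem ce_g_262 : ∀ r, r < 64 → sm gg (Qf (16768 + r)) = Qf (tab Gen.g (16768 + r)) :=
  edges_tab (sm gg) Qf (tab Gen.g) 16768 [(16768, 12644), (16769, 20149), (16770, 15574), (16771, 16629), (16772, 12648), (16773, 12708), (16774, 16821), (16775, 12654), (16776, 12657), (16777, 13931), (16778, 12662), (16779, 14153), (16780, 12664), (16781, 17049), (16782, 16878), (16783, 12719), (16784, 12720), (16785, 12721), (16786, 16832), (16787, 17938), (16788, 12683), (16789, 12685), (16790, 12686), (16791, 16797), (16792, 16650), (16793, 18570), (16794, 20176), (16795, 14890), (16796, 12680), (16797, 16791), (16798, 20172), (16799, 20179), (16800, 19618), (16801, 12687), (16802, 13168), (16803, 16559), (16804, 20181), (16805, 12692), (16806, 13164), (16807, 20132), (16808, 20118), (16809, 19264), (16810, 16842), (16811, 19487), (16812, 12699), (16813, 20089), (16814, 16827), (16815, 20190), (16816, 19423), (16817, 12704), (16818, 14709), (16819, 20146), (16820, 20193), (16821, 16774), (16822,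 12709), (16823, 12712), (16824, 20194), (16825, 12714), (16826, 12715), (16827, 16814), (16828, 14002), (16829, 14991), (16830, 20169), (16831, 19273)]
    ⟨e3 q16768 L209575 q12644, e3 q16769 (flp_g L237261) q20149, e3 q16770 L209597 q15574, e3 q16771 L209609 q16629, e3 q16772 (flp_g L209613) q12648, e3 q16773 L209633 q12708, e3 q16774 L210013 q16821, e3 q16775 (flp_g L209645) q12654, e3 q16776 L209667 q12657, e3 q16777 L209679 q13931, e3 q16778 (flp_g L209683) q12662, e3 q16779 L209697 q14153, e3 q16780 (flp_g L209699) q12664, e3 q16781 (flp_g L211811) q17049, e3 q16782 (flp_g L210501) q16878, e3 q16783 L209725 q12719, e3 q16784 L209731 q12720, e3 q16785 L209735 q12721, e3 q16786 L210107 q16832, e3 q16787 (flp_g L219222) q17938, e3 q16788 L209755 q12683, e3 q16789 L209761 q12685, e3 q16790 L209769 q12686, e3 q16791 L209829 q16797, e3 q16792 L209785 q16650, e3 q16793 (flp_g L224513) q18570, e3 q16794 L237473 q20176, e3 q16795 (flp_g L209809) q14890, e3 q16796 (flp_g L209811) q12680, e3 q16797 (flp_g L209829) q16791,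 e3 q16798 (flp_g L237441) q20172, e3 q16799 L237501 q20179, e3 q16800 (flp_g L232686) q19618, e3 q16801 (flp_g L209853) q12687, e3 q16802 L209867 q13168, e3 q16803 L209879 q16559, e3 q16804 L237519 q20181, e3 q16805 (flp_g L209891) q12692, e3 q16806 L209911 q13164, e3 q16807 (flp_g L237095) q20132, e3 q16808 (flp_g L236957) q20118, e3 q16809 (flp_g L229458) q19264, e3 q16810 (flp_g L210179) q16842, e3 q16811 (flp_g L231506) q19487, e3 q16812 (flp_g L209939) q12699, e3 q16813 (flp_g L236667) q20089, e3 q16814 (flp_g L210061) q16827, e3 q16815 L237591 q20190, e3 q16816 (flp_g L230984) q19423, e3 q16817 (flp_g L209975) q12704, e3 q16818 L209985 q14709, e3 q16819 (flp_g L237235) q20146, e3 q16820 L237621 q20193, e3 q16821 (flp_g L210013) q16774, e3 q16822 (flp_g L210015) q12709, e3 q16823 (flp_g L210023) q12712, e3 q16824 L237629 q20194, e3 q16825 (flp_g L210041) q12714, e3 q16826 (flp_g L210045) q12715, e3 q16827 L210061 q16814, e3 q16828 L210069 q14002, e3 q16829 L210081 q14991, e3 q16830 (flp_g L237419) q20169, e3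 q16831 (flp_g L229532) q19273, trivial⟩ (by decide +kernel)

theorem ce_g_263 : ∀ r, r < 64 → sm gg (Qf (16832 + r)) = Qf (tab Gen.g (16832 + r)) :=
  edges_tab (sm gg) Qf (tab Gen.g) 16832 [(16832, 16786), (16833, 19243), (16834, 20200), (16835, 12722), (16836, 20201), (16837, 19317), (16838, 20203), (16839, 12727), (16840, 19271), (16841, 12728), (16842, 16810), (16843, 14825), (16844, 13259), (16845, 18601), (16846, 16740), (16847, 20209), (16848, 12753), (16849, 14947), (16850, 14337), (16851, 17507), (16852, 15793), (16853, 13001), (16854, 12811), (16855, 12766), (16856, 13930), (16857, 17451), (16858, 12771), (16859, 14644), (16860, 18477), (16861, 14525), (16862, 12898), (16863, 14371), (16864, 16371), (16865, 12796), (16866, 17434), (16867, 13974), (16868, 20213), (16869, 12803), (16870, 12812), (16871, 16425), (16872, 16896), (16873, 20214), (16874, 12824), (16875, 12826), (16876, 20125), (16877, 20215), (16878, 16782), (16879, 12848), (16880, 12850), (16881, 16901), (16882, 14860), (16883, 12935), (16884,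 20219), (16885, 12830), (16886, 15185), (16887, 16991), (16888, 12841), (16889, 20220), (16890, 12842), (16891, 17010), (16892, 20164), (16893, 20222), (16894, 12844), (16895, 15039)]
    ⟨e3 q16832 (flp_g L210107) q16786, e3 q16833 (flp_g L229266) q19243, e3 q16834 L237685 q20200, e3 q16835 (flp_g L210123) q12722, e3 q16836 L237695 q20201, e3 q16837 (flp_g L229970) q19317, e3 q16838 L237715 q20203, e3 q16839 (flp_g L210151) q12727, e3 q16840 (flp_g L229512) q19271, e3 q16841 (flp_g L210169) q12728, e3 q16842 L210179 q16810, e3 q16843 L210185 q14825, e3 q16844 L210193 q13259, e3 q16845 (flp_g L224782) q18601, e3 q16846 L210204 q16740, e3 q16847 L237782 q20209, e3 q16848 (flp_g L210209) q12753, e3 q16849 L210227 q14947, e3 q16850 L210240 q14337, e3 q16851 (flp_g L215588) q17507, e3 q16852 L210257 q15793, e3 q16853 L210271 q13001, e3 q16854 L210281 q12811, e3 q16855 (flp_g L210283) q12766, e3 q16856 L210299 q13930, e3 q16857 L215102 q17451, e3 q16858 (flp_g L210307) q12771, e3 q16859 L210325 q14644, e3 q16860 (flp_g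 L223649) q18477, e3 q16861 (flp_g L210349) q14525, e3 q16862 L210359 q12898, e3 q16863 L210369 q14371, e3 q16864 L210379 q16371, e3 q16865 L210387 q12796, e3 q16866 L214878 q17434, e3 q16867 L210403 q13974, e3 q16868 L237827 q20213, e3 q16869 (flp_g L210417) q12803, e3 q16870 (flp_g L210427) q12812, e3 q16871 L210447 q16425, e3 q16872 (flp_g L210643) q16896, e3 q16873 L237837 q20214, e3 q16874 (flp_g L210473) q12824, e3 q16875 L210481 q12826, e3 q16876 (flp_g L237027) q20125, e3 q16877 (flp_g L237851) q20215, e3 q16878 L210501 q16782, e3 q16879 L210509 q12848, e3 q16880 L210521 q12850, e3 q16881 L210697 q16901, e3 q16882 L210537 q14860, e3 q16883 (flp_g L210543) q12935, e3 q16884 L237878 q20219, e3 q16885 (flp_g L210549) q12830, e3 q16886 (flp_g L210567) q15185, e3 q16887 (flp_g L211358) q16991, e3 q16888 (flp_g L210581) q12841, e3 q16889 L237887 q20220, e3 q16890 (flp_g L210595) q12842, e3 q16891 (flp_g L211505) q17010, e3 q16892 (flp_g L237383) q20164, e3 q16893 L237901 q20222, e3 q16894 (flp_g L210629) q12844,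 e3 q16895 L210635 q15039, trivial⟩ (by decide +kernel)

theorem ce_g_264 : ∀ r, r < 64 → sm gg (Qf (16896 + r)) = Qf (tab Gen.g (16896 + r)) :=
  edges_tab (sm gg) Qf (tab Gen.g) 16896 [(16896, 16872), (16897, 16688), (16898, 20110), (16899, 12847), (16900, 14590), (16901, 16881), (16902, 12933), (16903, 14344), (16904, 14343), (16905, 18413), (16906, 20232), (16907, 12851), (16908, 20234), (16909, 12854), (16910, 18634), (16911, 18527), (16912, 15844), (16913, 12868), (16914, 12891), (16915, 20185), (16916, 16920), (16917, 20241), (16918, 12873), (16919, 20243), (16920, 16916), (16921, 19815), (16922, 12877), (16923, 16727), (16924, 14676), (16925, 18506), (16926, 12881), (16927, 16975), (16928, 12883), (16929, 19120), (16930, 15447), (16931, 18968), (16932, 12886), (16933, 18624), (16934, 15529), (16935, 16990), (16936, 17188), (16937, 20152), (16938, 20153), (16939, 20264), (16940, 20155), (16941, 16755), (16942, 20136), (16943, 12897), (16944, 18565), (16945, 15271), (16946, 19318), (16947, 20270), (16948, 12900),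 (16949, 13477), (16950, 17865), (16951, 20272), (16952, 20273), (16953, 20274), (16954, 12909), (16955, 20134), (16956, 12910), (16957, 12911), (16958, 16761), (16959, 17086)]
    ⟨e3 q16896 L210643 q16872, e3 q16897 (flp_g L210653) q16688, e3 q16898 (flp_g L236875) q20110, e3 q16899 (flp_g L210663) q12847, e3 q16900 L210687 q14590, e3 q16901 (flp_g L210697) q16881, e3 q16902 L210703 q12933, e3 q16903 L210711 q14344, e3 q16904 L210723 q14343, e3 q16905 L223189 q18413, e3 q16906 L237961 q20232, e3 q16907 (flp_g L210733) q12851, e3 q16908 L237971 q20234, e3 q16909 (flp_g L210749) q12854, e3 q16910 (flp_g L225061) q18634, e3 q16911 (flp_g L224117) q18527, e3 q16912 L210781 q15844, e3 q16913 (flp_g L210787) q12868, e3 q16914 L210801 q12891, e3 q16915 (flp_g L237557) q20185, e3 q16916 L210833 q16920, e3 q16917 L238015 q20241, e3 q16918 (flp_g L210813) q12873, e3 q16919 L238029 q20243, e3 q16920 (flp_g L210833) q16916, e3 q16921 (flp_g L234267) q19815, e3 q16922 (flp_g L210839) q12877, e3 q16923 L210853 q16727, e3 q16924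 L210865 q14676, e3 q16925 (flp_g L223945) q18506, e3 q16926 (flp_g L210877) q12881, e3 q16927 L211232 q16975, e3 q16928 (flp_g L210891) q12883, e3 q16929 (flp_g L228319) q19120, e3 q16930 L210903 q15447, e3 q16931 L227280 q18968, e3 q16932 (flp_g L210909) q12886, e3 q16933 (flp_g L224985) q18624, e3 q16934 L210931 q15529, e3 q16935 (flp_g L211344) q16990, e3 q16936 (flp_g L212825) q17188, e3 q16937 (flp_g L237283) q20152, e3 q16938 (flp_g L237287) q20153, e3 q16939 L238175 q20264, e3 q16940 (flp_g L237303) q20155, e3 q16941 (flp_g L210971) q16755, e3 q16942 L237141 q20136, e3 q16943 (flp_g L210981) q12897, e3 q16944 (flp_g L224471) q18565, e3 q16945 L211005 q15271, e3 q16946 (flp_g L229978) q19318, e3 q16947 L238225 q20270, e3 q16948 (flp_g L211021) q12900, e3 q16949 L211041 q13477, e3 q16950 (flp_g L218520) q17865, e3 q16951 L238245 q20272, e3 q16952 L238255 q20273, e3 q16953 L238263 q20274, e3 q16954 (flp_g L211061) q12909, e3 q16955 (flp_g L237119) q20134, e3 q16956 (flp_g L211073) q12910, e3 q16957 (flp_g L211081)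 q12911, e3 q16958 L211095 q16761, e3 q16959 L212071 q17086, trivial⟩ (by decide +kernel)

theorem ce_g_265 : ∀ r, r < 64 → sm gg (Qf (16960 + r)) = Qf (tab Gen.g (16960 + r)) :=
  edges_tab (sm gg) Qf (tab Gen.g) 16960 [(16960, 13430), (16961, 13422), (16962, 13149), (16963, 16734), (16964, 12917), (16965, 17482), (16966, 15151), (16967, 12923), (16968, 12924), (16969, 15449), (16970, 20282), (16971, 20283), (16972, 20128), (16973, 20168), (16974, 20293), (16975, 16927), (16976, 12927), (16977, 16984), (16978, 19769), (16979, 12928), (16980, 20297), (16981, 12929), (16982, 20299), (16983, 12930), (16984, 16977), (16985, 16987), (16986, 12932), (16987, 16985), (16988, 19794), (16989, 16731), (16990, 16935), (16991, 16887), (16992, 16699), (16993, 20304), (16994, 12938), (16995, 18980), (16996, 20308), (16997, 12940), (16998, 16681), (16999, 20313), (17000, 17906), (17001, 12943), (17002, 12945), (17003, 12946), (17004, 17006), (17005, 20314), (17006, 17004), (17007, 19677), (17008, 20321), (17009, 12947), (17010,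 16891), (17011, 12948), (17012, 12949), (17013, 18576), (17014, 20141), (17015, 12952), (17016, 15031), (17017, 17025), (17018, 12953), (17019, 17034), (17020, 12957), (17021, 18259), (17022, 12961), (17023, 12962)]
    ⟨e3 q16960 L211113 q13430, e3 q16961 L211121 q13422, e3 q16962 L211125 q13149, e3 q16963 L211137 q16734, e3 q16964 (flp_g L211139) q12917, e3 q16965 (flp_g L215341) q17482, e3 q16966 L211167 q15151, e3 q16967 L211175 q12923, e3 q16968 L211183 q12924, e3 q16969 L211195 q15449, e3 q16970 (flp_g L238341) q20282, e3 q16971 (flp_g L238347) q20283, e3 q16972 (flp_g L237059) q20128, e3 q16973 (flp_g L237411) q20168, e3 q16974 L238419 q20293, e3 q16975 (flp_g L211232) q16927, e3 q16976 (flp_g L211234) q12927, e3 q16977 (flp_g L211292) q16984, e3 q16978 L233913 q19769, e3 q16979 (flp_g L211258) q12928, e3 q16980 L238445 q20297, e3 q16981 (flp_g L211268) q12929, e3 q16982 L238461 q20299, e3 q16983 (flp_g L211282) q12930, e3 q16984 L211292 q16977, e3 q16985 (flp_g L211324) q16987, e3 q16986 (flp_g L211302)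 q12932, e3 q16987 L211324 q16985, e3 q16988 (flp_g L234107) q19794, e3 q16989 L211336 q16731, e3 q16990 L211344 q16935, e3 q16991 L211358 q16887, e3 q16992 (flp_g L211368) q16699, e3 q16993 L238505 q20304, e3 q16994 (flp_g L211378) q12938, e3 q16995 (flp_g L227367) q18980, e3 q16996 L238530 q20308, e3 q16997 (flp_g L211399) q12940, e3 q16998 (flp_g L211411) q16681, e3 q16999 L238571 q20313, e3 q17000 (flp_g L218904) q17906, e3 q17001 (flp_g L211427) q12943, e3 q17002 L211443 q12945, e3 q17003 L211451 q12946, e3 q17004 L211475 q17006, e3 q17005 (flp_g L238589) q20314, e3 q17006 (flp_g L211475) q17004, e3 q17007 L233181 q19677, e3 q17008 L238631 q20321, e3 q17009 (flp_g L211485) q12947, e3 q17010 L211505 q16891, e3 q17011 (flp_g L211509) q12948, e3 q17012 (flp_g L211519) q12949, e3 q17013 (flp_g L224561) q18576, e3 q17014 (flp_g L237189) q20141, e3 q17015 (flp_g L211549) q12952, e3 q17016 (flp_g L211571) q15031, e3 q17017 (flp_g L211641) q17025, e3 q17018 (flp_g L211585) q12953, e3 q17019 (flp_g L211715) q17034, e3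 q17020 (flp_g L211601) q12957, e3 q17021 (flp_g L221630) q18259, e3 q17022 (flp_g L211617) q12961, e3 q17023 (flp_g L211625) q12962, trivial⟩ (by decide +kernel)

theorem ce_g_266 : ∀ r, r < 64 → sm gg (Qf (17024 + r)) = Qf (tab Gen.g (17024 + r)) :=
  edges_tab (sm gg) Qf (tab Gen.g) 17024 [(17024, 19455), (17025, 17017), (17026, 19979), (17027, 16414), (17028, 14788), (17029, 12985), (17030, 13058), (17031, 12971), (17032, 12972), (17033, 12978), (17034, 17019), (17035, 14037), (17036, 12979), (17037, 12980), (17038, 17045), (17039, 18542), (17040, 20327), (17041, 20330), (17042, 20331), (17043, 17132), (17044, 19963), (17045, 17038), (17046, 20334), (17047, 19590), (17048, 12981), (17049, 16781), (17050, 14748), (17051, 20325), (17052, 18275), (17053, 20135), (17054, 17864), (17055, 13111), (17056, 13112), (17057, 13401), (17058, 13793), (17059, 14835), (17060, 13116), (17061, 13118), (17062, 17200), (17063, 20355), (17064, 20356), (17065, 20357), (17066, 12992), (17067, 14833), (17068, 14749), (17069, 13125),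 (17070, 13128), (17071, 13129), (17072, 17215), (17073, 20046), (17074, 17082), (17075, 20365), (17076, 12997), (17077, 16331), (17078, 20368), (17079, 12998), (17080, 20369), (17081, 12999), (17082, 17074), (17083, 18578), (17084, 17088), (17085, 20376), (17086, 16959), (17087, 13002)]
    ⟨e3 q17024 (flp_g L231212) q19455, e3 q17025 L211641 q17017, e3 q17026 (flp_g L235753) q19979, e3 q17027 (flp_g L211659) q16414, e3 q17028 L211669 q14788, e3 q17029 L211677 q12985, e3 q17030 L211687 q13058, e3 q17031 (flp_g L211691) q12971, e3 q17032 (flp_g L211697) q12972, e3 q17033 L211707 q12978, e3 q17034 L211715 q17019, e3 q17035 L211721 q14037, e3 q17036 L211727 q12979, e3 q17037 L211735 q12980, e3 q17038 L211779 q17045, e3 q17039 L224279 q18542, e3 q17040 (flp_g L238701) q20327, e3 q17041 (flp_g L238737) q20330, e3 q17042 (flp_g L238751) q20331, e3 q17043 (flp_g L216603) q17132, e3 q17044 (flp_g L235615) q19963, e3 q17045 (flp_g L211779) q17038, e3 q17046 (flp_g L238785) q20334, e3 q17047 (flp_g L232434) q19590, e3 q17048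 (flp_g L211795) q12981, e3 q17049 L211811 q16781, e3 q17050 L211821 q14748, e3 q17051 (flp_g L238679) q20325, e3 q17052 L221734 q18275, e3 q17053 (flp_g L237129) q20135, e3 q17054 (flp_g L218510) q17864, e3 q17055 L211849 q13111, e3 q17056 L211855 q13112, e3 q17057 L211863 q13401, e3 q17058 L211871 q13793, e3 q17059 L211877 q14835, e3 q17060 L211883 q13116, e3 q17061 L211891 q13118, e3 q17062 L212919 q17200, e3 q17063 L239001 q20355, e3 q17064 L239005 q20356, e3 q17065 L239017 q20357, e3 q17066 (flp_g L211921) q12992, e3 q17067 L211935 q14833, e3 q17068 L211947 q14749, e3 q17069 L211955 q13125, e3 q17070 L211963 q13128, e3 q17071 L211973 q13129, e3 q17072 L213021 q17215, e3 q17073 (flp_g L236328) q20046, e3 q17074 (flp_g L212043) q17082, e3 q17075 L239091 q20365, e3 q17076 (flp_g L211999) q12997, e3 q17077 (flp_g L212009) q16331, e3 q17078 L239113 q20368, e3 q17079 (flp_g L212017) q12998, e3 q17080 L239123 q20369, e3 q17081 (flp_g L212029) q12999, e3 q17082 L212043 q17074, e3 q17083 (flp_g L224583) q18578, e3 q17084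 L212087 q17088, e3 q17085 L239171 q20376, e3 q17086 (flp_g L212071) q16959, e3 q17087 (flp_g L212073) q13002, trivial⟩ (by decide +kernel)

theorem ce_g_267 : ∀ r, r < 64 → sm gg (Qf (17088 + r)) = Qf (tab Gen.g (17088 + r)) :=
  edges_tab (sm gg) Qf (tab Gen.g) 17088 [(17088, 17084), (17089, 20380), (17090, 13005), (17091, 16583), (17092, 16579), (17093, 16212), (17094, 16218), (17095, 15244), (17096, 20386), (17097, 18869), (17098, 16170), (17099, 13015), (17100, 13084), (17101, 16555), (17102, 19961), (17103, 20036), (17104, 20390), (17105, 20391), (17106, 13023), (17107, 14507), (17108, 17116), (17109, 13029), (17110, 17124), (17111, 13033), (17112, 14494), (17113, 18314), (17114, 20392), (17115, 13038), (17116, 17108), (17117, 14807), (17118, 13040), (17119, 14805), (17120, 18326), (17121, 20397), (17122, 20336), (17123, 13047), (17124, 17110), (17125, 17138), (17126, 17129), (17127, 13049), (17128, 18551), (17129, 17126), (17130, 19842), (17131, 19841), (17132, 17043), (17133, 13053), (17134, 17181), (17135,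 13054), (17136, 20401), (17137, 13055), (17138, 17125), (17139, 20326), (17140, 20405), (17141, 19715), (17142, 13059), (17143, 17909), (17144, 17273), (17145, 20407), (17146, 13061), (17147, 20408), (17148, 18283), (17149, 17280), (17150, 17746), (17151, 13064)]
    ⟨e3 q17088 (flp_g L212087) q17084, e3 q17089 L239215 q20380, e3 q17090 (flp_g L212099) q13005, e3 q17091 L212115 q16583, e3 q17092 L212121 q16579, e3 q17093 L212129 q16212, e3 q17094 L212141 q16218, e3 q17095 L212149 q15244, e3 q17096 L239267 q20386, e3 q17097 (flp_g L226547) q18869, e3 q17098 (flp_g L212175) q16170, e3 q17099 (flp_g L212167) q13015, e3 q17100 L212185 q13084, e3 q17101 L212195 q16555, e3 q17102 (flp_g L235589) q19961, e3 q17103 (flp_g L236251) q20036, e3 q17104 L239305 q20390, e3 q17105 L239313 q20391, e3 q17106 (flp_g L212223) q13023, e3 q17107 (flp_g L212237) q14507, e3 q17108 (flp_g L212309) q17116, e3 q17109 (flp_g L212251) q13029, e3 q17110 (flp_g L212371) q17124, e3 q17111 (flp_g L212269) q13033, e3 q17112 L212281 q14494, e3 q17113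 (flp_g L222050) q18314, e3 q17114 L239321 q20392, e3 q17115 (flp_g L212297) q13038, e3 q17116 L212309 q17108, e3 q17117 (flp_g L212317) q14807, e3 q17118 (flp_g L212319) q13040, e3 q17119 L212339 q14805, e3 q17120 L222130 q18326, e3 q17121 L239371 q20397, e3 q17122 (flp_g L238805) q20336, e3 q17123 (flp_g L212359) q13047, e3 q17124 L212371 q17110, e3 q17125 (flp_g L212457) q17138, e3 q17126 (flp_g L212401) q17129, e3 q17127 (flp_g L212387) q13049, e3 q17128 L224355 q18551, e3 q17129 L212401 q17126, e3 q17130 L234505 q19842, e3 q17131 L234493 q19841, e3 q17132 L216603 q17043, e3 q17133 (flp_g L212417) q13053, e3 q17134 (flp_g L212775) q17181, e3 q17135 (flp_g L212427) q13054, e3 q17136 L239413 q20401, e3 q17137 (flp_g L212443) q13055, e3 q17138 L212457 q17125, e3 q17139 (flp_g L238689) q20326, e3 q17140 L239443 q20405, e3 q17141 (flp_g L233465) q19715, e3 q17142 (flp_g L212475) q13059, e3 q17143 (flp_g L218942) q17909, e3 q17144 (flp_g L213393) q17273, e3 q17145 L239455 q20407, e3 q17146 (flp_g L212501) q13061, e3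 q17147 (flp_g L239477) q20408, e3 q17148 (flp_g L221784) q18283, e3 q17149 (flp_g L213451) q17280, e3 q17150 (flp_g L217500) q17746, e3 q17151 (flp_g L212549) q13064, trivial⟩ (by decide +kernel)

theorem ce_g_268 : ∀ r, r < 64 → sm gg (Qf (17152 + r)) = Qf (tab Gen.g (17152 + r)) :=
  edges_tab (sm gg) Qf (tab Gen.g) 17152 [(17152, 13066), (17153, 20412), (17154, 14771), (17155, 13067), (17156, 17300), (17157, 19840), (17158, 13069), (17159, 13080), (17160, 13072), (17161, 13073), (17162, 17165), (17163, 18709), (17164, 20413), (17165, 17162), (17166, 20414), (17167, 13074), (17168, 16634), (17169, 13413), (17170, 20423), (17171, 16588), (17172, 13076), (17173, 13407), (17174, 17439), (17175, 19911), (17176, 19910), (17177, 13086), (17178, 19853), (17179, 19855), (17180, 16152), (17181, 17134), (17182, 18845), (17183, 16581), (17184, 16586), (17185, 20048), (17186, 15565), (17187, 15060), (17188, 16936), (17189, 15537), (17190, 18357), (17191, 16267), (17192, 19921), (17193, 20345), (17194, 17725), (17195, 17729),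 (17196, 20437), (17197, 13113), (17198, 19233), (17199, 14839), (17200, 17062), (17201, 20440), (17202, 17678), (17203, 19491), (17204, 13119), (17205, 17213), (17206, 20444), (17207, 13120), (17208, 15913), (17209, 20446), (17210, 13122), (17211, 20448), (17212, 13123), (17213, 17205), (17214, 20359), (17215, 17072)]
    ⟨e3 q17152 L212557 q13066, e3 q17153 L239511 q20412, e3 q17154 (flp_g L212581) q14771, e3 q17155 (flp_g L212583) q13067, e3 q17156 (flp_g L213581) q17300, e3 q17157 (flp_g L234481) q19840, e3 q17158 (flp_g L212613) q13069, e3 q17159 L212621 q13080, e3 q17160 L212627 q13072, e3 q17161 L212633 q13073, e3 q17162 L212659 q17165, e3 q17163 (flp_g L225534) q18709, e3 q17164 (flp_g L239531) q20413, e3 q17165 (flp_g L212659) q17162, e3 q17166 (flp_g L239537) q20414, e3 q17167 (flp_g L212665) q13074, e3 q17168 L212679 q16634, e3 q17169 (flp_g L212687) q13413, e3 q17170 L239609 q20423, e3 q17171 L212697 q16588, e3 q17172 (flp_g L212699) q13076, e3 q17173 L212713 q13407, e3 q17174 (flp_g L214926) q17439,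 e3 q17175 (flp_g L235119) q19911, e3 q17176 (flp_g L235105) q19910, e3 q17177 L212749 q13086, e3 q17178 (flp_g L234613) q19853, e3 q17179 (flp_g L234637) q19855, e3 q17180 L212763 q16152, e3 q17181 L212775 q17134, e3 q17182 (flp_g L226377) q18845, e3 q17183 L212789 q16581, e3 q17184 L212793 q16586, e3 q17185 L236344 q20048, e3 q17186 L212807 q15565, e3 q17187 L212815 q15060, e3 q17188 L212825 q16936, e3 q17189 L212833 q15537, e3 q17190 (flp_g L222425) q18357, e3 q17191 L212845 q16267, e3 q17192 L235201 q19921, e3 q17193 (flp_g L238885) q20345, e3 q17194 L217306 q17725, e3 q17195 L217342 q17729, e3 q17196 L239749 q20437, e3 q17197 (flp_g L212883) q13113, e3 q17198 (flp_g L229174) q19233, e3 q17199 L212907 q14839, e3 q17200 (flp_g L212919) q17062, e3 q17201 L239779 q20440, e3 q17202 (flp_g L216944) q17678, e3 q17203 L231546 q19491, e3 q17204 (flp_g L212943) q13119, e3 q17205 (flp_g L213001) q17213, e3 q17206 L239807 q20444, e3 q17207 (flp_g L212961) q13120, e3 q17208 L212971 q15913, e3 q17209 L239823 q20446, e3 q17210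 (flp_g L212977) q13122, e3 q17211 L239841 q20448, e3 q17212 (flp_g L212991) q13123, e3 q17213 L213001 q17205, e3 q17214 (flp_g L239045) q20359, e3 q17215 (flp_g L213021) q17072, trivial⟩ (by decide +kernel)

theorem ce_g_269 : ∀ r, r < 64 → sm gg (Qf (17216 + r)) = Qf (tab Gen.g (17216 + r)) :=
  edges_tab (sm gg) Qf (tab Gen.g) 17216 [(17216, 20416), (17217, 18545), (17218, 18549), (17219, 13127), (17220, 20360), (17221, 19746), (17222, 20419), (17223, 20454), (17224, 13130), (17225, 17234), (17226, 13131), (17227, 20455), (17228, 19586), (17229, 16556), (17230, 18533), (17231, 13138), (17232, 20279), (17233, 13139), (17234, 17225), (17235, 20458), (17236, 20459), (17237, 13142), (17238, 20463), (17239, 20014), (17240, 13144), (17241, 20466), (17242, 20278), (17243, 17252), (17244, 13145), (17245, 16479), (17246, 15578), (17247, 20471), (17248, 20280), (17249, 20474), (17250, 13148), (17251, 13150), (17252, 17243), (17253, 17253), (17254, 20482), (17255, 19331), (17256, 17261), (17257, 13154), (17258, 15643), (17259,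 13155), (17260, 13156), (17261, 17256), (17262, 15852), (17263, 19394), (17264, 20488), (17265, 20180), (17266, 20492), (17267, 19984), (17268, 13169), (17269, 17461), (17270, 17661), (17271, 13171), (17272, 13173), (17273, 17144), (17274, 20494), (17275, 14619), (17276, 13175), (17277, 14618), (17278, 13177), (17279, 19272)]
    ⟨e3 q17216 (flp_g L239563) q20416, e3 q17217 (flp_g L224301) q18545, e3 q17218 (flp_g L224333) q18549, e3 q17219 (flp_g L213043) q13127, e3 q17220 (flp_g L239057) q20360, e3 q17221 (flp_g L233715) q19746, e3 q17222 (flp_g L239587) q20419, e3 q17223 L239897 q20454, e3 q17224 (flp_g L213073) q13130, e3 q17225 (flp_g L213149) q17234, e3 q17226 (flp_g L213089) q13131, e3 q17227 (flp_g L239913) q20455, e3 q17228 (flp_g L232394) q19586, e3 q17229 L213111 q16556, e3 q17230 (flp_g L224175) q18533, e3 q17231 (flp_g L213123) q13138, e3 q17232 (flp_g L238311) q20279, e3 q17233 (flp_g L213137) q13139, e3 q17234 L213149 q17225, e3 q17235 L239937 q20458, e3 q17236 L239945 q20459, e3 q17237 (flp_g L213159)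 q13142, e3 q17238 L239985 q20463, e3 q17239 (flp_g L236087) q20014, e3 q17240 (flp_g L213173) q13144, e3 q17241 L240013 q20466, e3 q17242 (flp_g L238303) q20278, e3 q17243 (flp_g L213247) q17252, e3 q17244 (flp_g L213197) q13145, e3 q17245 (flp_g L213211) q16479, e3 q17246 L213219 q15578, e3 q17247 L240043 q20471, e3 q17248 (flp_g L238319) q20280, e3 q17249 L240055 q20474, e3 q17250 (flp_g L213231) q13148, e3 q17251 (flp_g L213235) q13150, e3 q17252 L213247 q17243, e3 q17253 L213253 q17253, e3 q17254 L240115 q20482, e3 q17255 (flp_g L230086) q19331, e3 q17256 (flp_g L213299) q17261, e3 q17257 (flp_g L213266) q13154, e3 q17258 (flp_g L213279) q15643, e3 q17259 (flp_g L213281) q13155, e3 q17260 (flp_g L213287) q13156, e3 q17261 L213299 q17256, e3 q17262 L213309 q15852, e3 q17263 (flp_g L230600) q19394, e3 q17264 L240163 q20488, e3 q17265 (flp_g L237517) q20180, e3 q17266 L240203 q20492, e3 q17267 (flp_g L235805) q19984, e3 q17268 (flp_g L213349) q13169, e3 q17269 (flp_g L215135) q17461, e3 q17270 (flp_g L216787) q17661,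 e3 q17271 (flp_g L213371) q13171, e3 q17272 L213383 q13173, e3 q17273 L213393 q17144, e3 q17274 (flp_g L240225) q20494, e3 q17275 L213409 q14619, e3 q17276 (flp_g L213413) q13175, e3 q17277 L213431 q14618, e3 q17278 (flp_g L213433) q13177, e3 q17279 (flp_g L229524) q19272, trivial⟩ (by decide +kernel)

theorem ce_g_270 : ∀ r, r < 64 → sm gg (Qf (17280 + r)) = Qf (tab Gen.g (17280 + r)) :=
  edges_tab (sm gg) Qf (tab Gen.g) 17280 [(17280, 17149), (17281, 13181), (17282, 13182), (17283, 17286), (17284, 20503), (17285, 20500), (17286, 17283), (17287, 20501), (17288, 20507), (17289, 13183), (17290, 20508), (17291, 13184), (17292, 16412), (17293, 14111), (17294, 14837), (17295, 17913), (17296, 20511), (17297, 13187), (17298, 13188), (17299, 13198), (17300, 17156), (17301, 13197), (17302, 17307), (17303, 18577), (17304, 13194), (17305, 19375), (17306, 13240), (17307, 17302), (17308, 19312), (17309, 20514), (17310, 13199), (17311, 20516), (17312, 20517), (17313, 13201), (17314, 20521), (17315, 20277), (17316, 13203), (17317,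 20524), (17318, 20150), (17319, 17328), (17320, 13204), (17321, 19495), (17322, 19943), (17323, 20529), (17324, 20151), (17325, 20532), (17326, 13207), (17327, 13209), (17328, 17319), (17329, 20537), (17330, 20540), (17331, 20541), (17332, 17337), (17333, 13213), (17334, 19547), (17335, 13214), (17336, 13215), (17337, 17332), (17338, 18701), (17339, 18703), (17340, 14448), (17341, 14741), (17342, 20545), (17343, 13222)]
    ⟨e3 q17280 L213451 q17149, e3 q17281 L213457 q13181, e3 q17282 L213461 q13182, e3 q17283 L213485 q17286, e3 q17284 L240293 q20503, e3 q17285 (flp_g L240277) q20500, e3 q17286 (flp_g L213485) q17283, e3 q17287 (flp_g L240283) q20501, e3 q17288 L240331 q20507, e3 q17289 (flp_g L213497) q13183, e3 q17290 L240339 q20508, e3 q17291 (flp_g L213515) q13184, e3 q17292 L213529 q16412, e3 q17293 L213535 q14111, e3 q17294 L213543 q14837, e3 q17295 L218978 q17913, e3 q17296 L240369 q20511, e3 q17297 (flp_g L213557) q13187, e3 q17298 (flp_g L213563) q13188, e3 q17299 L213573 q13198, e3 q17300 L213581 q17156,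 e3 q17301 L213589 q13197, e3 q17302 L213637 q17307, e3 q17303 (flp_g L224571) q18577, e3 q17304 (flp_g L213605) q13194, e3 q17305 (flp_g L230420) q19375, e3 q17306 L213627 q13240, e3 q17307 (flp_g L213637) q17302, e3 q17308 L229916 q19312, e3 q17309 L240401 q20514, e3 q17310 (flp_g L213651) q13199, e3 q17311 L240419 q20516, e3 q17312 L240429 q20517, e3 q17313 (flp_g L213671) q13201, e3 q17314 L240473 q20521, e3 q17315 (flp_g L238293) q20277, e3 q17316 (flp_g L213685) q13203, e3 q17317 L240497 q20524, e3 q17318 (flp_g L237269) q20150, e3 q17319 (flp_g L213757) q17328, e3 q17320 (flp_g L213707) q13204, e3 q17321 (flp_g L231594) q19495, e3 q17322 (flp_g L235421) q19943, e3 q17323 L240529 q20529, e3 q17324 (flp_g L237277) q20151, e3 q17325 L240543 q20532, e3 q17326 (flp_g L213741) q13207, e3 q17327 (flp_g L213745) q13209, e3 q17328 L213757 q17319, e3 q17329 L240581 q20537, e3 q17330 L240609 q20540, e3 q17331 L240613 q20541, e3 q17332 (flp_g L213809) q17337, e3 q17333 (flp_g L213778) q13213, e3 q17334 (flp_g L232074)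 q19547, e3 q17335 (flp_g L213788) q13214, e3 q17336 (flp_g L213797) q13215, e3 q17337 L213809 q17332, e3 q17338 (flp_g L225463) q18701, e3 q17339 (flp_g L225483) q18703, e3 q17340 L213830 q14448, e3 q17341 L213840 q14741, e3 q17342 L240646 q20545, e3 q17343 (flp_g L213853) q13222, trivial⟩ (by decide +kernel)

theorem ce_g_271 : ∀ r, r < 64 → sm gg (Qf (17344 + r)) = Qf (tab Gen.g (17344 + r)) :=
  edges_tab (sm gg) Qf (tab Gen.g) 17344 [(17344, 20548), (17345, 15286), (17346, 13223), (17347, 20552), (17348, 19409), (17349, 13224), (17350, 13225), (17351, 20555), (17352, 17355), (17353, 13228), (17354, 13229), (17355, 17352), (17356, 17388), (17357, 17389), (17358, 13251), (17359, 15312), (17360, 19877), (17361, 20567), (17362, 13252), (17363, 13233), (17364, 13253), (17365, 13234), (17366, 19333), (17367, 19993), (17368, 18249), (17369, 17696), (17370, 17671), (17371, 13242), (17372, 20547), (17373, 17378), (17374, 13243), (17375, 20577), (17376, 18857), (17377, 13244), (17378, 17373), (17379, 20580), (17380, 17383),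 (17381, 13248), (17382, 13249), (17383, 17380), (17384, 20559), (17385, 20560), (17386, 20564), (17387, 20566), (17388, 17356), (17389, 17357), (17390, 14452), (17391, 13447), (17392, 17415), (17393, 13265), (17394, 13270), (17395, 19924), (17396, 13480), (17397, 13485), (17398, 13298), (17399, 13615), (17400, 13304), (17401, 15670), (17402, 17635), (17403, 13795), (17404, 13794), (17405, 17409), (17406, 13320), (17407, 16330)]
    ⟨e3 q17344 L240676 q20548, e3 q17345 (flp_g L222844) q15286, e3 q17346 (flp_g L213875) q13223, e3 q17347 L240712 q20552, e3 q17348 (flp_g L230700) q19409, e3 q17349 (flp_g L213903) q13224, e3 q17350 (flp_g L213913) q13225, e3 q17351 L240738 q20555, e3 q17352 (flp_g L213955) q17355, e3 q17353 (flp_g L213937) q13228, e3 q17354 (flp_g L213943) q13229, e3 q17355 L213955 q17352, e3 q17356 (flp_g L222892) q17388, e3 q17357 (flp_g L222874) q17389, e3 q17358 L222793 q13251, e3 q17359 L222796 q15312, e3 q17360 (flp_g L234815) q19877, e3 q17361 L240837 q20567, e3 q17362 L222752 q13252, e3 q17363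 (flp_g L214084) q13233, e3 q17364 L222714 q13253, e3 q17365 (flp_g L214093) q13234, e3 q17366 (flp_g L230106) q19333, e3 q17367 (flp_g L235900) q19993, e3 q17368 (flp_g L221536) q18249, e3 q17369 (flp_g L217070) q17696, e3 q17370 L216865 q17671, e3 q17371 (flp_g L214158) q13242, e3 q17372 L240674 q20547, e3 q17373 (flp_g L214238) q17378, e3 q17374 (flp_g L214182) q13243, e3 q17375 L240942 q20577, e3 q17376 (flp_g L226457) q18857, e3 q17377 (flp_g L214212) q13244, e3 q17378 L214238 q17373, e3 q17379 L240972 q20580, e3 q17380 (flp_g L214276) q17383, e3 q17381 (flp_g L214252) q13248, e3 q17382 (flp_g L214260) q13249, e3 q17383 L214276 q17380, e3 q17384 (flp_g L240776) q20559, e3 q17385 (flp_g L240784) q20560, e3 q17386 (flp_g L240815) q20564, e3 q17387 L240835 q20566, e3 q17388 L222892 q17356, e3 q17389 L222874 q17357, e3 q17390 L214441 q14452, e3 q17391 (flp_g L214453) q13447, e3 q17392 (flp_g L214679) q17415, e3 q17393 (flp_g L214463) q13265, e3 q17394 (flp_g L214479) q13270, e3 q17395 (flp_g L235231) q19924, e3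 q17396 L214497 q13480, e3 q17397 L214507 q13485, e3 q17398 L214515 q13298, e3 q17399 L214527 q13615, e3 q17400 L214537 q13304, e3 q17401 L214543 q15670, e3 q17402 L216589 q17635, e3 q17403 (flp_g L214563) q13795, e3 q17404 L214573 q13794, e3 q17405 (flp_g L214619) q17409, e3 q17406 (flp_g L214585) q13320, e3 q17407 L214597 q16330, trivial⟩ (by decide +kernel)

theorem ce_g_272 : ∀ r, r < 64 → sm gg (Qf (17408 + r)) = Qf (tab Gen.g (17408 + r)) :=
  edges_tab (sm gg) Qf (tab Gen.g) 17408 [(17408, 13323), (17409, 17405), (17410, 14886), (17411, 14866), (17412, 17424), (17413, 13337), (17414, 14704), (17415, 17392), (17416, 17706), (17417, 13350), (17418, 13470), (17419, 14611), (17420, 13370), (17421, 13358), (17422, 17709), (17423, 13378), (17424, 17412), (17425, 13408), (17426, 13382), (17427, 13412), (17428, 16366), (17429, 13386), (17430, 16290), (17431, 17431), (17432, 19665), (17433, 19303), (17434, 16866), (17435, 13392), (17436, 20346), (17437, 13402), (17438, 19240), (17439, 17174), (17440, 16475), (17441,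 20424), (17442, 14072), (17443, 18569), (17444, 13425), (17445, 16387), (17446, 15573), (17447, 16507), (17448, 17448), (17449, 17449), (17450, 16576), (17451, 16857), (17452, 13435), (17453, 13436), (17454, 17869), (17455, 16463), (17456, 16750), (17457, 16751), (17458, 19530), (17459, 20206), (17460, 13444), (17461, 17269), (17462, 15792), (17463, 14468), (17464, 13459), (17465, 16276), (17466, 13474), (17467, 13468), (17468, 15633), (17469, 14875), (17470, 13479), (17471, 19493)]
    ⟨e3 q17408 (flp_g L214603) q13323, e3 q17409 L214619 q17405, e3 q17410 L214631 q14886, e3 q17411 L214643 q14866, e3 q17412 (flp_g L214769) q17424, e3 q17413 (flp_g L214653) q13337, e3 q17414 L214669 q14704, e3 q17415 L214679 q17392, e3 q17416 L217152 q17706, e3 q17417 (flp_g L214691) q13350, e3 q17418 L214709 q13470, e3 q17419 (flp_g L214717) q14611, e3 q17420 (flp_g L214725) q13370, e3 q17421 (flp_g L214727) q13358, e3 q17422 (flp_g L217192) q17709, e3 q17423 L214755 q13378, e3 q17424 L214769 q17412, e3 q17425 L214779 q13408, e3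 q17426 (flp_g L214785) q13382, e3 q17427 L214805 q13412, e3 q17428 L214817 q16366, e3 q17429 (flp_g L214821) q13386, e3 q17430 L214839 q16290, e3 q17431 L214849 q17431, e3 q17432 (flp_g L233093) q19665, e3 q17433 (flp_g L229822) q19303, e3 q17434 (flp_g L214878) q16866, e3 q17435 (flp_g L214880) q13392, e3 q17436 (flp_g L238901) q20346, e3 q17437 (flp_g L214898) q13402, e3 q17438 (flp_g L229238) q19240, e3 q17439 L214926 q17174, e3 q17440 L214936 q16475, e3 q17441 (flp_g L239625) q20424, e3 q17442 L214960 q14072, e3 q17443 (flp_g L224503) q18569, e3 q17444 (flp_g L214974) q13425, e3 q17445 L214994 q16387, e3 q17446 L215004 q15573, e3 q17447 L215014 q16507, e3 q17448 L215020 q17448, e3 q17449 L215027 q17449, e3 q17450 L215038 q16576, e3 q17451 (flp_g L215102) q16857, e3 q17452 (flp_g L215046) q13435, e3 q17453 (flp_g L215052) q13436, e3 q17454 (flp_g L218558) q17869, e3 q17455 L215074 q16463, e3 q17456 L215084 q16750, e3 q17457 L215092 q16751, e3 q17458 L231898 q19530, e3 q17459 (flp_g L237755) q20206, e3 q17460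 (flp_g L215123) q13444, e3 q17461 L215135 q17269, e3 q17462 L215145 q15792, e3 q17463 L215153 q14468, e3 q17464 L215165 q13459, e3 q17465 L215175 q16276, e3 q17466 L215187 q13474, e3 q17467 (flp_g L215189) q13468, e3 q17468 L215211 q15633, e3 q17469 L215221 q14875, e3 q17470 (flp_g L215225) q13479, e3 q17471 (flp_g L231572) q19493, trivial⟩ (by decide +kernel)

theorem ce_g_273 : ∀ r, r < 64 → sm gg (Qf (17472 + r)) = Qf (tab Gen.g (17472 + r)) :=
  edges_tab (sm gg) Qf (tab Gen.g) 17472 [(17472, 13483), (17473, 16541), (17474, 20592), (17475, 13486), (17476, 18598), (17477, 14979), (17478, 14940), (17479, 20594), (17480, 14911), (17481, 17877), (17482, 16965), (17483, 13506), (17484, 16232), (17485, 20084), (17486, 14752), (17487, 14841), (17488, 18584), (17489, 13527), (17490, 20597), (17491, 13530), (17492, 18594), (17493, 18610), (17494, 19914), (17495, 13584), (17496, 16418), (17497, 13989), (17498, 14995), (17499, 14936), (17500, 15915), (17501, 13574), (17502, 17503), (17503, 17502), (17504, 13997), (17505,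 14824), (17506, 15680), (17507, 16851), (17508, 17508), (17509, 13599), (17510, 17510), (17511, 20599), (17512, 20601), (17513, 13600), (17514, 20602), (17515, 13601), (17516, 13610), (17517, 17941), (17518, 13611), (17519, 13613), (17520, 20328), (17521, 13619), (17522, 20603), (17523, 13617), (17524, 18295), (17525, 17591), (17526, 13733), (17527, 13858), (17528, 19382), (17529, 17727), (17530, 13625), (17531, 16433), (17532, 20352), (17533, 13627), (17534, 17535), (17535, 17534)]
    ⟨e3 q17472 (flp_g L215251) q13483, e3 q17473 (flp_g L215266) q16541, e3 q17474 L241078 q20592, e3 q17475 (flp_g L215275) q13486, e3 q17476 (flp_g L224764) q18598, e3 q17477 L215297 q14979, e3 q17478 L215307 q14940, e3 q17479 L241096 q20594, e3 q17480 L215319 q14911, e3 q17481 (flp_g L218624) q17877, e3 q17482 L215341 q16965, e3 q17483 (flp_g L215345) q13506, e3 q17484 L215361 q16232, e3 q17485 (flp_g L236613) q20084, e3 q17486 L215379 q14752, e3 q17487 L215393 q14841, e3 q17488 (flp_g L224633) q18584, e3 q17489 (flp_g L215411) q13527,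 e3 q17490 (flp_g L241138) q20597, e3 q17491 L215429 q13530, e3 q17492 (flp_g L224725) q18594, e3 q17493 (flp_g L224875) q18610, e3 q17494 (flp_g L235141) q19914, e3 q17495 L215465 q13584, e3 q17496 L215481 q16418, e3 q17497 L215487 q13989, e3 q17498 L215495 q14995, e3 q17499 L215504 q14936, e3 q17500 L215512 q15915, e3 q17501 (flp_g L215518) q13574, e3 q17502 (flp_g L215545) q17503, e3 q17503 L215545 q17502, e3 q17504 L215554 q13997, e3 q17505 L215562 q14824, e3 q17506 L215578 q15680, e3 q17507 L215588 q16851, e3 q17508 L215597 q17508, e3 q17509 L215608 q13599, e3 q17510 L215616 q17510, e3 q17511 (flp_g L241162) q20599, e3 q17512 L241180 q20601, e3 q17513 (flp_g L215636) q13600, e3 q17514 L241194 q20602, e3 q17515 (flp_g L215659) q13601, e3 q17516 L215671 q13610, e3 q17517 (flp_g L219254) q17941, e3 q17518 (flp_g L215681) q13611, e3 q17519 (flp_g L215691) q13613, e3 q17520 (flp_g L238715) q20328, e3 q17521 L215713 q13619, e3 q17522 L241208 q20603, e3 q17523 (flp_g L215723) q13617, e3 q17524 (flp_g L221900) q18295,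 e3 q17525 (flp_g L216279) q17591, e3 q17526 L215757 q13733, e3 q17527 L215769 q13858, e3 q17528 (flp_g L230482) q19382, e3 q17529 (flp_g L217324) q17727, e3 q17530 (flp_g L215783) q13625, e3 q17531 L215803 q16433, e3 q17532 (flp_g L238977) q20352, e3 q17533 (flp_g L215809) q13627, e3 q17534 L215831 q17535, e3 q17535 (flp_g L215831) q17534, trivial⟩ (by decide +kernel)

theorem ce_g_274 : ∀ r, r < 64 → sm gg (Qf (17536 + r)) = Qf (tab Gen.g (17536 + r)) :=
  edges_tab (sm gg) Qf (tab Gen.g) 17536 [(17536, 20609), (17537, 13636), (17538, 13639), (17539, 13642), (17540, 13644), (17541, 14326), (17542, 13648), (17543, 13762), (17544, 13653), (17545, 20613), (17546, 13763), (17547, 13655), (17548, 13779), (17549, 17579), (17550, 20618), (17551, 13659), (17552, 14976), (17553, 13662), (17554, 18602), (17555, 17555), (17556, 18604), (17557, 17557), (17558, 15009), (17559, 17836), (17560, 20619), (17561, 15046), (17562, 20622), (17563, 13721), (17564, 19517), (17565, 17643), (17566, 20624), (17567, 13725), (17568, 20626),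 (17569, 13726), (17570, 20625), (17571, 14312), (17572, 14313), (17573, 14314), (17574, 18109), (17575, 14317), (17576, 13741), (17577, 17586), (17578, 19370), (17579, 17549), (17580, 19669), (17581, 20640), (17582, 13738), (17583, 19929), (17584, 19930), (17585, 20643), (17586, 17577), (17587, 20645), (17588, 13743), (17589, 15689), (17590, 14491), (17591, 17525), (17592, 18632), (17593, 13840), (17594, 14361), (17595, 18148), (17596, 13849), (17597, 17701), (17598, 20657), (17599, 20659)]
    ⟨e3 q17536 L241269 q20609, e3 q17537 (flp_g L215843) q13636, e3 q17538 (flp_g L215853) q13639, e3 q17539 (flp_g L215859) q13642, e3 q17540 (flp_g L215869) q13644, e3 q17541 L215887 q14326, e3 q17542 L215897 q13648, e3 q17543 L215909 q13762, e3 q17544 L215917 q13653, e3 q17545 (flp_g L241316) q20613, e3 q17546 (flp_g L215928) q13763, e3 q17547 (flp_g L215930) q13655, e3 q17548 L215954 q13779, e3 q17549 (flp_g L216193) q17579, e3 q17550 L241338 q20618, e3 q17551 (flp_g L215967) q13659, e3 q17552 (flp_g L215985) q14976, e3 q17553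 (flp_g L215989) q13662, e3 q17554 (flp_g L224793) q18602, e3 q17555 L216018 q17555, e3 q17556 (flp_g L224819) q18604, e3 q17557 L216036 q17557, e3 q17558 (flp_g L216045) q15009, e3 q17559 L218250 q17836, e3 q17560 L241346 q20619, e3 q17561 L216065 q15046, e3 q17562 L241386 q20622, e3 q17563 (flp_g L216075) q13721, e3 q17564 L231776 q19517, e3 q17565 (flp_g L216667) q17643, e3 q17566 L241410 q20624, e3 q17567 (flp_g L216105) q13725, e3 q17568 L241426 q20626, e3 q17569 (flp_g L216117) q13726, e3 q17570 (flp_g L241424) q20625, e3 q17571 L216131 q14312, e3 q17572 L216137 q14313, e3 q17573 L216141 q14314, e3 q17574 L220462 q18109, e3 q17575 L216153 q14317, e3 q17576 L216163 q13741, e3 q17577 L216241 q17586, e3 q17578 (flp_g L230368) q19370, e3 q17579 L216193 q17549, e3 q17580 (flp_g L233127) q19669, e3 q17581 L241518 q20640, e3 q17582 (flp_g L216203) q13738, e3 q17583 (flp_g L235280) q19929, e3 q17584 (flp_g L235290) q19930, e3 q17585 L241552 q20643, e3 q17586 (flp_g L216241) q17577, e3 q17587 L241574 q20645, e3 q17588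 (flp_g L216247) q13743, e3 q17589 L216263 q15689, e3 q17590 L216269 q14491, e3 q17591 L216279 q17525, e3 q17592 (flp_g L225041) q18632, e3 q17593 L216291 q13840, e3 q17594 L216299 q14361, e3 q17595 L220808 q18148, e3 q17596 L216313 q13849, e3 q17597 L217124 q17701, e3 q17598 L241674 q20657, e3 q17599 L241684 q20659, trivial⟩ (by decide +kernel)

theorem ce_g_275 : ∀ r, r < 64 → sm gg (Qf (17600 + r)) = Qf (tab Gen.g (17600 + r)) :=
  edges_tab (sm gg) Qf (tab Gen.g) 17600 [(17600, 18165), (17601, 20661), (17602, 13754), (17603, 18167), (17604, 17616), (17605, 13760), (17606, 15901), (17607, 19384), (17608, 20663), (17609, 20615), (17610, 15696), (17611, 17935), (17612, 19533), (17613, 13765), (17614, 13766), (17615, 20667), (17616, 17604), (17617, 18175), (17618, 19097), (17619, 13778), (17620, 14624), (17621, 18554), (17622, 18631), (17623, 14420), (17624, 17675), (17625, 18448), (17626, 15717), (17627, 18360), (17628, 20675), (17629, 13790), (17630, 18677), (17631, 20348), (17632, 20349), (17633, 17704), (17634,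 14561), (17635, 17402), (17636, 19750), (17637, 13796), (17638, 18246), (17639, 14451), (17640, 20679), (17641, 13800), (17642, 14460), (17643, 17565), (17644, 14462), (17645, 18265), (17646, 20686), (17647, 20329), (17648, 19830), (17649, 19829), (17650, 13805), (17651, 20689), (17652, 13806), (17653, 20690), (17654, 13807), (17655, 16062), (17656, 17659), (17657, 20691), (17658, 13809), (17659, 17656), (17660, 20351), (17661, 17270), (17662, 13811), (17663, 13826)]
    ⟨e3 q17600 (flp_g L220904) q18165, e3 q17601 L241702 q20661, e3 q17602 (flp_g L216341) q13754, e3 q17603 (flp_g L220928) q18167, e3 q17604 (flp_g L216455) q17616, e3 q17605 (flp_g L216367) q13760, e3 q17606 L216381 q15901, e3 q17607 (flp_g L230502) q19384, e3 q17608 L241718 q20663, e3 q17609 L241324 q20615, e3 q17610 L216409 q15696, e3 q17611 (flp_g L219184) q17935, e3 q17612 (flp_g L231934) q19533, e3 q17613 (flp_g L216425) q13765, e3 q17614 (flp_g L216429) q13766, e3 q17615 (flp_g L241760) q20667, e3 q17616 L216455 q17604, e3 q17617 (flp_g L221000)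 q18175, e3 q17618 (flp_g L228168) q19097, e3 q17619 L216477 q13778, e3 q17620 L216483 q14624, e3 q17621 (flp_g L224371) q18554, e3 q17622 (flp_g L225033) q18631, e3 q17623 L216503 q14420, e3 q17624 (flp_g L216909) q17675, e3 q17625 (flp_g L223449) q18448, e3 q17626 L216521 q15717, e3 q17627 (flp_g L222447) q18360, e3 q17628 L241850 q20675, e3 q17629 (flp_g L216543) q13790, e3 q17630 (flp_g L225335) q18677, e3 q17631 (flp_g L238925) q20348, e3 q17632 (flp_g L238939) q20349, e3 q17633 L217176 q17704, e3 q17634 L216575 q14561, e3 q17635 (flp_g L216589) q17402, e3 q17636 (flp_g L233753) q19750, e3 q17637 (flp_g L216611) q13796, e3 q17638 (flp_g L221514) q18246, e3 q17639 (flp_g L216643) q14451, e3 q17640 L241886 q20679, e3 q17641 (flp_g L216649) q13800, e3 q17642 L216657 q14460, e3 q17643 L216667 q17565, e3 q17644 L216671 q14462, e3 q17645 L221658 q18265, e3 q17646 L241940 q20686, e3 q17647 (flp_g L238725) q20329, e3 q17648 (flp_g L234391) q19830, e3 q17649 (flp_g L234381) q19829, e3 q17650 (flp_g L216689) q13805, e3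 q17651 L241968 q20689, e3 q17652 (flp_g L216703) q13806, e3 q17653 L241980 q20690, e3 q17654 (flp_g L216717) q13807, e3 q17655 L216731 q16062, e3 q17656 L216767 q17659, e3 q17657 L241990 q20691, e3 q17658 (flp_g L216753) q13809, e3 q17659 (flp_g L216767) q17656, e3 q17660 (flp_g L238967) q20351, e3 q17661 L216787 q17270, e3 q17662 (flp_g L216789) q13811, e3 q17663 L216805 q13826, trivial⟩ (by decide +kernel)

theorem ce_g_276 : ∀ r, r < 64 → sm gg (Qf (17664 + r)) = Qf (tab Gen.g (17664 + r)) :=
  edges_tab (sm gg) Qf (tab Gen.g) 17664 [(17664, 13827), (17665, 18264), (17666, 13831), (17667, 17681), (17668, 16088), (17669, 18894), (17670, 15245), (17671, 17370), (17672, 13818), (17673, 18380), (17674, 20698), (17675, 17624), (17676, 13821), (17677, 13824), (17678, 17202), (17679, 20692), (17680, 14399), (17681, 17667), (17682, 15227), (17683, 19031), (17684, 19007), (17685, 20704), (17686, 13830), (17687, 18975), (17688, 20707), (17689, 20708), (17690, 13832), (17691, 13833), (17692, 17692), (17693, 17693), (17694,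 17694), (17695, 19928), (17696, 17369), (17697, 15688), (17698, 14501), (17699, 13838), (17700, 20113), (17701, 17597), (17702, 20714), (17703, 20715), (17704, 17633), (17705, 13843), (17706, 17416), (17707, 13844), (17708, 19579), (17709, 17422), (17710, 14450), (17711, 13847), (17712, 20111), (17713, 20718), (17714, 20720), (17715, 13850), (17716, 18325), (17717, 13851), (17718, 17900), (17719, 19827), (17720, 20724), (17721, 19833), (17722, 16138), (17723, 19834), (17724, 13857), (17725, 17194), (17726, 20432), (17727, 17529)]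
    ⟨e3 q17664 L216815 q13827, e3 q17665 L221678 q18264, e3 q17666 L216825 q13831, e3 q17667 L216974 q17681, e3 q17668 (flp_g L216843) q16088, e3 q17669 (flp_g L226721) q18894, e3 q17670 L216857 q15245, e3 q17671 (flp_g L216865) q17370, e3 q17672 (flp_g L216867) q13818, e3 q17673 (flp_g L222974) q18380, e3 q17674 L242064 q20698, e3 q17675 L216909 q17624, e3 q17676 (flp_g L216918) q13821, e3 q17677 (flp_g L216926) q13824, e3 q17678 L216944 q17202, e3 q17679 (flp_g L242010) q20692, e3 q17680 (flp_g L216964) q14399, e3 q17681 (flp_g L216974) q17667, e3 q17682 L216982 q15227, e3 q17683 (flp_g L227754) q19031, e3 q17684 L227606 q19007, e3 q17685 L242134 q20704, e3 q17686 (flp_g L217002) q13830, e3 q17687 L227330 q18975, e3 q17688 L242164 q20707, e3 q17689 L242180 q20708, e3 q17690 (flp_g L217021) q13832, e3 q17691 (flp_g L217031) q13833, e3 q17692 L217045 q17692, e3 q17693 L217050 q17693, e3 q17694 L217057 q17694, e3 q17695 (flp_g L235272) q19928, e3 q17696 L217070 q17369, e3 q17697 L217088 q15688, e3 q17698 (flp_g L217096)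 q14501, e3 q17699 (flp_g L217100) q13838, e3 q17700 (flp_g L236903) q20113, e3 q17701 (flp_g L217124) q17597, e3 q17702 L242230 q20714, e3 q17703 L242236 q20715, e3 q17704 (flp_g L217176) q17633, e3 q17705 (flp_g L217136) q13843, e3 q17706 (flp_g L217152) q17416, e3 q17707 (flp_g L217154) q13844, e3 q17708 (flp_g L232336) q19579, e3 q17709 L217192 q17422, e3 q17710 (flp_g L217206) q14450, e3 q17711 (flp_g L217208) q13847, e3 q17712 (flp_g L236885) q20111, e3 q17713 L242264 q20718, e3 q17714 L242286 q20720, e3 q17715 (flp_g L217232) q13850, e3 q17716 (flp_g L222122) q18325, e3 q17717 (flp_g L217246) q13851, e3 q17718 (flp_g L222902) q17900, e3 q17719 (flp_g L234365) q19827, e3 q17720 L242312 q20724, e3 q17721 (flp_g L234421) q19833, e3 q17722 (flp_g L217282) q16138, e3 q17723 (flp_g L234429) q19834, e3 q17724 (flp_g L217290) q13857, e3 q17725 (flp_g L217306) q17194, e3 q17726 (flp_g L239711) q20432, e3 q17727 L217324 q17529, trivial⟩ (by decide +kernel)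

theorem ce_g_277 : ∀ r, r < 64 → sm gg (Qf (17728 + r)) = Qf (tab Gen.g (17728 + r)) :=
  edges_tab (sm gg) Qf (tab Gen.g) 17728 [(17728, 17893), (17729, 17195), (17730, 14065), (17731, 13860), (17732, 17758), (17733, 17759), (17734, 20729), (17735, 18211), (17736, 13863), (17737, 19526), (17738, 18920), (17739, 18922), (17740, 15294), (17741, 13869), (17742, 20496), (17743, 18458), (17744, 13870), (17745, 13873), (17746, 17150), (17747, 20733), (17748, 13875), (17749, 13876), (17750, 15638), (17751, 20734), (17752, 20735), (17753, 19145), (17754, 13879), (17755, 20738), (17756, 13880), (17757, 20736), (17758, 17732), (17759, 17733), (17760, 20435), (17761, 19988), (17762, 20744), (17763, 13884), (17764, 14934), (17765, 13885), (17766, 15559), (17767, 20746), (17768, 13906), (17769, 17777), (17770, 13888), (17771, 19554), (17772, 20750), (17773, 20752), (17774, 17791), (17775, 13891), (17776, 13892), (17777, 17769), (17778, 20754), (17779, 20756), (17780, 17785), (17781, 13896), (17782, 19330), (17783, 13897),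 (17784, 13898), (17785, 17780), (17786, 13900), (17787, 20758), (17788, 13901), (17789, 15639), (17790, 20762), (17791, 17774)]
    ⟨e3 q17728 (flp_g L218792) q17893, e3 q17729 (flp_g L217342) q17195, e3 q17730 (flp_g L217354) q14065, e3 q17731 (flp_g L217356) q13860, e3 q17732 (flp_g L217585) q17758, e3 q17733 (flp_g L217595) q17759, e3 q17734 L242368 q20729, e3 q17735 (flp_g L221271) q18211, e3 q17736 (flp_g L217398) q13863, e3 q17737 (flp_g L231856) q19526, e3 q17738 (flp_g L226918) q18920, e3 q17739 (flp_g L226936) q18922, e3 q17740 L217440 q15294, e3 q17741 (flp_g L217442) q13869, e3 q17742 (flp_g L240245) q20496, e3 q17743 (flp_g L223521) q18458, e3 q17744 (flp_g L217472) q13870, e3 q17745 (flp_g L217482) q13873, e3 q17746 L217500 q17150, e3 q17747 L242416 q20733, e3 q17748 (flp_g L217512) q13875, e3 q17749 (flp_g L217522) q13876, e3 q17750 L217538 q15638, e3 q17751 L242430 q20734, e3 q17752 L242440 q20735, e3 q17753 L228521 q19145, e3 q17754 (flp_g L217558) q13879, e3 q17755 L242470 q20738, e3 q17756 (flp_g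 L217568) q13880, e3 q17757 (flp_g L242455) q20736, e3 q17758 L217585 q17732, e3 q17759 L217595 q17733, e3 q17760 (flp_g L239741) q20435, e3 q17761 (flp_g L235844) q19988, e3 q17762 L242528 q20744, e3 q17763 (flp_g L217616) q13884, e3 q17764 (flp_g L217630) q14934, e3 q17765 (flp_g L217634) q13885, e3 q17766 (flp_g L217652) q15559, e3 q17767 L242548 q20746, e3 q17768 (flp_g L217666) q13906, e3 q17769 (flp_g L217730) q17777, e3 q17770 (flp_g L217674) q13888, e3 q17771 (flp_g L232133) q19554, e3 q17772 L242586 q20750, e3 q17773 L242604 q20752, e3 q17774 L217817 q17791, e3 q17775 (flp_g L217708) q13891, e3 q17776 (flp_g L217712) q13892, e3 q17777 L217730 q17769, e3 q17778 L242622 q20754, e3 q17779 L242646 q20756, e3 q17780 (flp_g L217771) q17785, e3 q17781 (flp_g L217746) q13896, e3 q17782 (flp_g L230072) q19330, e3 q17783 (flp_g L217757) q13897, e3 q17784 (flp_g L217763) q13898, e3 q17785 L217771 q17780, e3 q17786 (flp_g L217773) q13900, e3 q17787 L242669 q20758, e3 q17788 (flp_g L217787) q13901, e3 q17789 L217803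 q15639, e3 q17790 L242711 q20762, e3 q17791 (flp_g L217817) q17774, trivial⟩ (by decide +kernel)

theorem ce_g_278 : ∀ r, r < 64 → sm gg (Qf (17792 + r)) = Qf (tab Gen.g (17792 + r)) :=
  edges_tab (sm gg) Qf (tab Gen.g) 17792 [(17792, 19434), (17793, 13904), (17794, 19763), (17795, 20767), (17796, 17801), (17797, 13909), (17798, 19144), (17799, 13910), (17800, 13911), (17801, 17796), (17802, 20770), (17803, 17806), (17804, 13913), (17805, 13914), (17806, 17803), (17807, 17826), (17808, 17827), (17809, 13925), (17810, 18938), (17811, 20781), (17812, 19623), (17813, 13926), (17814, 13918), (17815, 13927), (17816, 13919), (17817, 20785), (17818, 17821), (17819, 13922), (17820, 13923), (17821, 17818), (17822, 20774), (17823, 20775), (17824, 20780), (17825, 20782), (17826, 17807), (17827, 17808), (17828, 14015), (17829, 17870), (17830, 16674), (17831, 17914), (17832, 16356), (17833, 13992), (17834, 15021), (17835, 13948), (17836, 17559), (17837, 13952), (17838, 14918), (17839, 16357), (17840, 13959), (17841, 13965),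 (17842, 17849), (17843, 14978), (17844, 13973), (17845, 16453), (17846, 14137), (17847, 17926), (17848, 13984), (17849, 17842), (17850, 18586), (17851, 13980), (17852, 14012), (17853, 17867), (17854, 13999), (17855, 13993)]
    ⟨e3 q17792 L231068 q19434, e3 q17793 (flp_g L217825) q13904, e3 q17794 (flp_g L233875) q19763, e3 q17795 L242761 q20767, e3 q17796 (flp_g L217872) q17801, e3 q17797 (flp_g L217847) q13909, e3 q17798 (flp_g L228527) q19144, e3 q17799 (flp_g L217857) q13910, e3 q17800 (flp_g L217864) q13911, e3 q17801 L217872 q17796, e3 q17802 L242794 q20770, e3 q17803 (flp_g L217924) q17806, e3 q17804 (flp_g L217894) q13913, e3 q17805 (flp_g L217904) q13914, e3 q17806 L217924 q17803, e3 q17807 (flp_g L222882) q17826, e3 q17808 (flp_g L222880) q17827, e3 q17809 (flp_g L222817) q13925, e3 q17810 (flp_g L227078) q18938, e3 q17811 L242879 q20781, e3 q17812 (flp_g L232743) q19623, e3 q17813 L222750 q13926, e3 q17814 (flp_g L217980) q13918, e3 q17815 L222720 q13927, e3 q17816 (flp_g L217991) q13919, e3 q17817 L242915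 q20785, e3 q17818 (flp_g L218070) q17821, e3 q17819 (flp_g L218040) q13922, e3 q17820 (flp_g L218050) q13923, e3 q17821 L218070 q17818, e3 q17822 (flp_g L242840) q20774, e3 q17823 (flp_g L242854) q20775, e3 q17824 L242877 q20780, e3 q17825 (flp_g L242891) q20782, e3 q17826 L222882 q17807, e3 q17827 L222880 q17808, e3 q17828 L218170 q14015, e3 q17829 (flp_g L218562) q17870, e3 q17830 L218192 q16674, e3 q17831 (flp_g L218990) q17914, e3 q17832 L218208 q16356, e3 q17833 L218222 q13992, e3 q17834 L218234 q15021, e3 q17835 (flp_g L218238) q13948, e3 q17836 (flp_g L218250) q17559, e3 q17837 (flp_g L218254) q13952, e3 q17838 L218270 q14918, e3 q17839 L218282 q16357, e3 q17840 (flp_g L218286) q13959, e3 q17841 (flp_g L218298) q13965, e3 q17842 (flp_g L218384) q17849, e3 q17843 L218324 q14978, e3 q17844 L218332 q13973, e3 q17845 L218344 q16453, e3 q17846 L218350 q14137, e3 q17847 (flp_g L219100) q17926, e3 q17848 L218374 q13984, e3 q17849 L218384 q17842, e3 q17850 (flp_g L224658) q18586, e3 q17851 (flp_g L218400) q13980,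 e3 q17852 L218412 q14012, e3 q17853 L218542 q17867, e3 q17854 L218428 q13999, e3 q17855 (flp_g L218430) q13993, trivial⟩ (by decide +kernel)

theorem ce_g_279 : ∀ r, r < 64 → sm gg (Qf (17856 + r)) = Qf (tab Gen.g (17856 + r)) :=
  edges_tab (sm gg) Qf (tab Gen.g) 17856 [(17856, 17950), (17857, 18538), (17858, 18534), (17859, 20792), (17860, 13996), (17861, 16679), (17862, 16307), (17863, 20197), (17864, 17054), (17865, 16950), (17866, 14924), (17867, 17853), (17868, 14165), (17869, 17454), (17870, 17829), (17871, 20671), (17872, 20590), (17873, 14016), (17874, 14018), (17875, 20798), (17876, 14021), (17877, 17481), (17878, 20109), (17879, 14742), (17880, 20799), (17881, 14034), (17882, 16680), (17883, 14038), (17884, 16438), (17885, 14069), (17886, 14075), (17887, 14076), (17888, 14548), (17889, 16593), (17890, 19920), (17891, 14058), (17892, 17907), (17893, 17728), (17894, 20801), (17895, 14662), (17896, 15914), (17897, 20807), (17898, 14073), (17899, 20802), (17900, 17718), (17901, 18609), (17902, 16689), (17903,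 14089), (17904, 16691), (17905, 20112), (17906, 17000), (17907, 17892), (17908, 14589), (17909, 17143), (17910, 20813), (17911, 14106), (17912, 18550), (17913, 17295), (17914, 17831), (17915, 14118), (17916, 18420), (17917, 14614), (17918, 14822), (17919, 14610)]
    ⟨e3 q17856 (flp_g L219346) q17950, e3 q17857 (flp_g L224231) q18538, e3 q17858 (flp_g L224185) q18534, e3 q17859 L242981 q20792, e3 q17860 (flp_g L218468) q13996, e3 q17861 L218482 q16679, e3 q17862 L218496 q16307, e3 q17863 (flp_g L237663) q20197, e3 q17864 L218510 q17054, e3 q17865 L218520 q16950, e3 q17866 L218532 q14924, e3 q17867 (flp_g L218542) q17853, e3 q17868 L218548 q14165, e3 q17869 L218558 q17454, e3 q17870 L218562 q17829, e3 q17871 (flp_g L241810) q20671, e3 q17872 (flp_g L241070) q20590, e3 q17873 (flp_g L218578) q14016, e3 q17874 (flp_g L218590) q14018, e3 q17875 L243027 q20798, e3 q17876 (flp_g L218606) q14021, e3 q17877 L218624 q17481, e3 q17878 (flp_g L236863) q20109, e3 q17879 (flp_g L218648) q14742, e3 q17880 L243039 q20799, e3 q17881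 (flp_g L218658) q14034, e3 q17882 L218672 q16680, e3 q17883 (flp_g L218676) q14038, e3 q17884 L218694 q16438, e3 q17885 L218708 q14069, e3 q17886 L218720 q14075, e3 q17887 L218726 q14076, e3 q17888 L218736 q14548, e3 q17889 L218748 q16593, e3 q17890 (flp_g L235191) q19920, e3 q17891 (flp_g L218762) q14058, e3 q17892 (flp_g L218916) q17907, e3 q17893 L218792 q17728, e3 q17894 (flp_g L243065) q20801, e3 q17895 L218814 q14662, e3 q17896 L218826 q15914, e3 q17897 L243141 q20807, e3 q17898 (flp_g L218834) q14073, e3 q17899 (flp_g L243079) q20802, e3 q17900 L222902 q17718, e3 q17901 (flp_g L224867) q18609, e3 q17902 L218866 q16689, e3 q17903 (flp_g L218870) q14089, e3 q17904 L218886 q16691, e3 q17905 L236897 q20112, e3 q17906 L218904 q17000, e3 q17907 L218916 q17892, e3 q17908 L218930 q14589, e3 q17909 L218942 q17143, e3 q17910 L243211 q20813, e3 q17911 (flp_g L218950) q14106, e3 q17912 (flp_g L224343) q18550, e3 q17913 (flp_g L218978) q17295, e3 q17914 L218990 q17831, e3 q17915 L219004 q14118, e3 q17916 (flp_g L223247)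 q18420, e3 q17917 L219026 q14614, e3 q17918 L219038 q14822, e3 q17919 L219044 q14610, trivial⟩ (by decide +kernel)

theorem ce_g_280 : ∀ r, r < 64 → sm gg (Qf (17920 + r)) = Qf (tab Gen.g (17920 + r)) :=
  edges_tab (sm gg) Qf (tab Gen.g) 17920 [(17920, 14693), (17921, 18419), (17922, 18421), (17923, 14130), (17924, 16283), (17925, 14136), (17926, 17847), (17927, 20669), (17928, 16718), (17929, 14146), (17930, 20820), (17931, 14147), (17932, 14155), (17933, 16325), (17934, 14926), (17935, 17611), (17936, 18378), (17937, 14989), (17938, 16787), (17939, 14168), (17940, 14170), (17941, 17517), (17942, 18138), (17943, 20006), (17944, 14180), (17945, 19931), (17946, 14612), (17947, 14186), (17948, 14821), (17949, 18166), (17950, 17856), (17951, 14194), (17952, 20823), (17953, 14195), (17954, 15028), (17955, 18252), (17956, 20825), (17957, 14199), (17958, 20108), (17959, 14202), (17960, 19710), (17961, 14229), (17962, 17993), (17963, 16092), (17964, 15470), (17965, 19139), (17966, 18011), (17967, 18008), (17968, 18009),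 (17969, 14219), (17970, 17970), (17971, 17971), (17972, 20831), (17973, 14213), (17974, 19519), (17975, 19510), (17976, 14215), (17977, 14225), (17978, 14357), (17979, 14243), (17980, 20829), (17981, 20830), (17982, 14244), (17983, 14283)]
    ⟨e3 q17920 L219054 q14693, e3 q17921 L223241 q18419, e3 q17922 (flp_g L223251) q18421, e3 q17923 (flp_g L219066) q14130, e3 q17924 L219080 q16283, e3 q17925 (flp_g L219084) q14136, e3 q17926 L219100 q17847, e3 q17927 (flp_g L241784) q20669, e3 q17928 L219124 q16718, e3 q17929 (flp_g L219136) q14146, e3 q17930 (flp_g L243315) q20820, e3 q17931 (flp_g L219144) q14147, e3 q17932 (flp_g L219156) q14155, e3 q17933 L219166 q16325, e3 q17934 L219176 q14926, e3 q17935 L219184 q17611, e3 q17936 (flp_g L222954) q18378, e3 q17937 (flp_g L219208) q14989, e3 q17938 L219222 q16787, e3 q17939 (flp_g L219224) q14168, e3 q17940 (flp_g L219232) q14170, e3 q17941 L219254 q17517, e3 q17942 L220730 q18138, e3 q17943 L236017 q20006, e3 q17944 (flp_g L219270) q14180, e3 q17945 (flp_g L235306) q19931,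 e3 q17946 L219300 q14612, e3 q17947 (flp_g L219302) q14186, e3 q17948 L219326 q14821, e3 q17949 (flp_g L220914) q18166, e3 q17950 L219346 q17856, e3 q17951 (flp_g L219350) q14194, e3 q17952 L243335 q20823, e3 q17953 (flp_g L219372) q14195, e3 q17954 L219388 q15028, e3 q17955 (flp_g L221570) q18252, e3 q17956 L243363 q20825, e3 q17957 (flp_g L219410) q14199, e3 q17958 (flp_g L236851) q20108, e3 q17959 L219428 q14202, e3 q17960 L233427 q19710, e3 q17961 L219438 q14229, e3 q17962 L219672 q17993, e3 q17963 (flp_g L220038) q16092, e3 q17964 L219460 q15470, e3 q17965 (flp_g L228483) q19139, e3 q17966 (flp_g L219783) q18011, e3 q17967 (flp_g L219765) q18008, e3 q17968 (flp_g L219773) q18009, e3 q17969 L219493 q14219, e3 q17970 L219500 q17970, e3 q17971 L219507 q17971, e3 q17972 L243431 q20831, e3 q17973 (flp_g L219516) q14213, e3 q17974 L231796 q19519, e3 q17975 (flp_g L231716) q19510, e3 q17976 (flp_g L219534) q14215, e3 q17977 L219546 q14225, e3 q17978 L219554 q14357, e3 q17979 L219564 q14243, e3 q17980 (flp_g L243411)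 q20829, e3 q17981 (flp_g L243427) q20830, e3 q17982 (flp_g L219578) q14244, e3 q17983 L219588 q14283, trivial⟩ (by decide +kernel)

theorem ce_g_281 : ∀ r, r < 64 → sm gg (Qf (17984 + r)) = Qf (tab Gen.g (17984 + r)) :=
  edges_tab (sm gg) Qf (tab Gen.g) 17984 [(17984, 20837), (17985, 14221), (17986, 14223), (17987, 19512), (17988, 14234), (17989, 20833), (17990, 18046), (17991, 18767), (17992, 18007), (17993, 17962), (17994, 20842), (17995, 16082), (17996, 14230), (17997, 18076), (17998, 14231), (17999, 15199), (18000, 20845), (18001, 19518), (18002, 14233), (18003, 20838), (18004, 19291), (18005, 20620), (18006, 14235), (18007, 17992), (18008, 17967), (18009, 17968), (18010, 18786), (18011, 17966), (18012, 18089), (18013, 18093), (18014, 14242), (18015, 20854), (18016, 20858), (18017, 20834), (18018, 19290), (18019, 19278), (18020, 20862), (18021, 20863), (18022, 14245), (18023, 14246), (18024, 18254), (18025, 15033), (18026, 18645), (18027, 19483), (18028, 14258), (18029, 14260), (18030, 14261), (18031, 18040),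 (18032, 20873), (18033, 20874), (18034, 19092), (18035, 20876), (18036, 19393), (18037, 19064), (18038, 14257), (18039, 20869), (18040, 18031), (18041, 20879), (18042, 20881), (18043, 20882), (18044, 19594), (18045, 14262), (18046, 17990), (18047, 14263)]
    ⟨e3 q17984 L243485 q20837, e3 q17985 (flp_g L219598) q14221, e3 q17986 (flp_g L219606) q14223, e3 q17987 L231742 q19512, e3 q17988 L219624 q14234, e3 q17989 (flp_g L243455) q20833, e3 q17990 L220010 q18046, e3 q17991 (flp_g L225941) q18767, e3 q17992 (flp_g L219756) q18007, e3 q17993 (flp_g L219672) q17962, e3 q17994 L243529 q20842, e3 q17995 (flp_g L220026) q16082, e3 q17996 (flp_g L219684) q14230, e3 q17997 (flp_g L220236) q18076, e3 q17998 (flp_g L219698) q14231, e3 q17999 L220028 q15199, e3 q18000 L243553 q20845, e3 q18001 (flp_g L231786) q19518, e3 q18002 (flp_g L219722) q14233, e3 q18003 (flp_g L243505) q20838, e3 q18004 L229690 q19291, e3 q18005 (flp_g L241370) q20620, e3 q18006 (flp_g L219740) q14235, e3 q18007 L219756 q17992, e3 q18008 L219765 q17967,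 e3 q18009 L219773 q17968, e3 q18010 (flp_g L226039) q18786, e3 q18011 L219783 q17966, e3 q18012 L220338 q18089, e3 q18013 (flp_g L220372) q18093, e3 q18014 L219800 q14242, e3 q18015 (flp_g L243645) q20854, e3 q18016 L243677 q20858, e3 q18017 (flp_g L243463) q20834, e3 q18018 L229680 q19290, e3 q18019 (flp_g L229574) q19278, e3 q18020 L243717 q20862, e3 q18021 L243725 q20863, e3 q18022 (flp_g L219840) q14245, e3 q18023 (flp_g L219846) q14246, e3 q18024 (flp_g L221592) q18254, e3 q18025 L219866 q15033, e3 q18026 (flp_g L225135) q18645, e3 q18027 L231468 q19483, e3 q18028 L219884 q14258, e3 q18029 L219888 q14260, e3 q18030 L219896 q14261, e3 q18031 L219974 q18040, e3 q18032 L243823 q20873, e3 q18033 L243833 q20874, e3 q18034 (flp_g L228138) q19092, e3 q18035 L243859 q20876, e3 q18036 (flp_g L230590) q19393, e3 q18037 (flp_g L227961) q19064, e3 q18038 (flp_g L219956) q14257, e3 q18039 (flp_g L243783) q20869, e3 q18040 (flp_g L219974) q18031, e3 q18041 L243889 q20879, e3 q18042 L243911 q20881, e3 q18043 L243921 q20882,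 e3 q18044 (flp_g L232464) q19594, e3 q18045 (flp_g L219996) q14262, e3 q18046 (flp_g L220010) q17990, e3 q18047 (flp_g L220012) q14263, trivial⟩ (by decide +kernel)

theorem ce_g_282 : ∀ r, r < 64 → sm gg (Qf (18048 + r)) = Qf (tab Gen.g (18048 + r)) :=
  edges_tab (sm gg) Qf (tab Gen.g) 18048 [(18048, 18720), (18049, 20886), (18050, 19297), (18051, 14265), (18052, 20890), (18053, 14266), (18054, 15322), (18055, 15041), (18056, 18974), (18057, 18074), (18058, 20894), (18059, 20895), (18060, 14274), (18061, 14506), (18062, 18628), (18063, 15339), (18064, 15107), (18065, 15059), (18066, 18697), (18067, 14277), (18068, 18475), (18069, 14278), (18070, 20901), (18071, 14280), (18072, 14281), (18073, 19280), (18074, 18057), (18075, 20836), (18076, 17997), (18077, 20908), (18078, 19489), (18079, 14286), (18080, 14293), (18081, 18724), (18082, 20909), (18083, 14288), (18084, 14289), (18085, 14290), (18086, 19754), (18087, 14643), (18088, 14295), (18089, 18012), (18090, 14297), (18091, 14298), (18092, 14299), (18093, 18013),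 (18094, 14304), (18095, 14305), (18096, 14306), (18097, 14311), (18098, 14653), (18099, 18770), (18100, 14309), (18101, 20915), (18102, 18769), (18103, 20917), (18104, 20929), (18105, 20191), (18106, 20631), (18107, 15862), (18108, 20633), (18109, 17574), (18110, 20933), (18111, 14315)]
    ⟨e3 q18048 L225619 q18720, e3 q18049 L243957 q20886, e3 q18050 L229746 q19297, e3 q18051 (flp_g L220054) q14265, e3 q18052 L243991 q20890, e3 q18053 (flp_g L220066) q14266, e3 q18054 L220082 q15322, e3 q18055 L220090 q15041, e3 q18056 L227316 q18974, e3 q18057 (flp_g L220218) q18074, e3 q18058 L244031 q20894, e3 q18059 L244043 q20895, e3 q18060 (flp_g L220116) q14274, e3 q18061 L220128 q14506, e3 q18062 (flp_g L225009) q18628, e3 q18063 L220142 q15339, e3 q18064 (flp_g L220154) q15107, e3 q18065 (flp_g L220162) q15059, e3 q18066 L225425 q18697, e3 q18067 (flp_g L220168) q14277, e3 q18068 (flp_g L223633) q18475, e3 q18069 (flp_g L220184) q14278, e3 q18070 (flp_g L244123) q20901, e3 q18071 (flp_g L220198) q14280, e3 q18072 (flp_g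 L220202) q14281, e3 q18073 (flp_g L229602) q19280, e3 q18074 L220218 q18057, e3 q18075 (flp_g L243483) q20836, e3 q18076 L220236 q17997, e3 q18077 L244183 q20908, e3 q18078 (flp_g L231526) q19489, e3 q18079 (flp_g L220252) q14286, e3 q18080 L220268 q14293, e3 q18081 (flp_g L225663) q18724, e3 q18082 L244193 q20909, e3 q18083 (flp_g L220288) q14288, e3 q18084 (flp_g L220292) q14289, e3 q18085 (flp_g L220302) q14290, e3 q18086 (flp_g L233795) q19754, e3 q18087 L220324 q14643, e3 q18088 (flp_g L220326) q14295, e3 q18089 (flp_g L220338) q18012, e3 q18090 (flp_g L220340) q14297, e3 q18091 (flp_g L220348) q14298, e3 q18092 (flp_g L220358) q14299, e3 q18093 L220372 q18013, e3 q18094 (flp_g L220374) q14304, e3 q18095 (flp_g L220380) q14305, e3 q18096 (flp_g L220390) q14306, e3 q18097 L220396 q14311, e3 q18098 L220406 q14653, e3 q18099 (flp_g L229786) q18770, e3 q18100 (flp_g L220412) q14309, e3 q18101 (flp_g L244245) q20915, e3 q18102 L229796 q18769, e3 q18103 (flp_g L244261) q20917, e3 q18104 L244323 q20929, e3 q18105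 (flp_g L237605) q20191, e3 q18106 (flp_g L241446) q20631, e3 q18107 (flp_g L220450) q15862, e3 q18108 (flp_g L241466) q20633, e3 q18109 (flp_g L220462) q17574, e3 q18110 L244361 q20933, e3 q18111 (flp_g L220468) q14315, trivial⟩ (by decide +kernel)

theorem ce_g_283 : ∀ r, r < 64 → sm gg (Qf (18112 + r)) = Qf (tab Gen.g (18112 + r)) :=
  edges_tab (sm gg) Qf (tab Gen.g) 18112 [(18112, 14562), (18113, 14319), (18114, 16118), (18115, 16595), (18116, 14332), (18117, 14335), (18118, 18126), (18119, 20612), (18120, 15597), (18121, 19481), (18122, 19482), (18123, 20937), (18124, 14329), (18125, 15321), (18126, 18118), (18127, 14334), (18128, 20870), (18129, 14336), (18130, 19372), (18131, 19373), (18132, 18504), (18133, 14354), (18134, 18349), (18135, 15085), (18136, 20114), (18137, 20940), (18138, 17942), (18139, 20075), (18140, 14345), (18141, 15554), (18142, 18146), (18143, 20650), (18144, 15102), (18145, 15101), (18146, 18142), (18147, 20648), (18148, 17595), (18149, 15610), (18150, 20945), (18151, 20947), (18152,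 14362), (18153, 20949), (18154, 18300), (18155, 20953), (18156, 20956), (18157, 20957), (18158, 14366), (18159, 20090), (18160, 20091), (18161, 19845), (18162, 20960), (18163, 14368), (18164, 14369), (18165, 17600), (18166, 17949), (18167, 17603), (18168, 15058), (18169, 14377), (18170, 18181), (18171, 20905), (18172, 14379), (18173, 16652), (18174, 15596), (18175, 17617)]
    ⟨e3 q18112 L220484 q14562, e3 q18113 (flp_g L220488) q14319, e3 q18114 L220506 q16118, e3 q18115 (flp_g L220518) q16595, e3 q18116 L220526 q14332, e3 q18117 L220538 q14335, e3 q18118 L220626 q18126, e3 q18119 (flp_g L241310) q20612, e3 q18120 L220564 q15597, e3 q18121 (flp_g L231442) q19481, e3 q18122 (flp_g L231454) q19482, e3 q18123 L244393 q20937, e3 q18124 (flp_g L220588) q14329, e3 q18125 L220612 q15321, e3 q18126 (flp_g L220626) q18118, e3 q18127 (flp_g L220628) q14334, e3 q18128 (flp_g L243795) q20870, e3 q18129 (flp_g L220650) q14336, e3 q18130 (flp_g L230390) q19372, e3 q18131 L230400 q19373, e3 q18132 (flp_g L223921) q18504, e3 q18133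 (flp_g L220690) q14354, e3 q18134 (flp_g L222357) q18349, e3 q18135 L220708 q15085, e3 q18136 (flp_g L236917) q20114, e3 q18137 L244419 q20940, e3 q18138 (flp_g L220730) q17942, e3 q18139 (flp_g L236545) q20075, e3 q18140 (flp_g L220738) q14345, e3 q18141 L220752 q15554, e3 q18142 (flp_g L220796) q18146, e3 q18143 (flp_g L241640) q20650, e3 q18144 (flp_g L220776) q15102, e3 q18145 L220786 q15101, e3 q18146 L220796 q18142, e3 q18147 (flp_g L241616) q20648, e3 q18148 (flp_g L220808) q17595, e3 q18149 L220818 q15610, e3 q18150 L244461 q20945, e3 q18151 L244477 q20947, e3 q18152 (flp_g L220828) q14362, e3 q18153 L244487 q20949, e3 q18154 L221944 q18300, e3 q18155 L244513 q20953, e3 q18156 L244527 q20956, e3 q18157 L244533 q20957, e3 q18158 (flp_g L220858) q14366, e3 q18159 (flp_g L236673) q20090, e3 q18160 (flp_g L236681) q20091, e3 q18161 (flp_g L234537) q19845, e3 q18162 L244555 q20960, e3 q18163 (flp_g L220886) q14368, e3 q18164 (flp_g L220894) q14369, e3 q18165 L220904 q17600, e3 q18166 L220914 q17949, e3 q18167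 L220928 q17603, e3 q18168 L220936 q15058, e3 q18169 (flp_g L220940) q14377, e3 q18170 (flp_g L221072) q18181, e3 q18171 (flp_g L244163) q20905, e3 q18172 (flp_g L220972) q14379, e3 q18173 L220984 q16652, e3 q18174 L220992 q15596, e3 q18175 L221000 q17617, trivial⟩ (by decide +kernel)

theorem ce_g_284 : ∀ r, r < 64 → sm gg (Qf (18176 + r)) = Qf (tab Gen.g (18176 + r)) :=
  edges_tab (sm gg) Qf (tab Gen.g) 18176 [(18176, 15999), (18177, 14389), (18178, 14387), (18179, 18895), (18180, 14390), (18181, 18170), (18182, 20037), (18183, 14394), (18184, 15358), (18185, 18987), (18186, 20700), (18187, 20969), (18188, 14401), (18189, 18240), (18190, 14402), (18191, 14403), (18192, 14407), (18193, 14405), (18194, 20971), (18195, 20972), (18196, 20973), (18197, 20983), (18198, 18198), (18199, 15350), (18200, 18200), (18201, 15352), (18202, 15329), (18203, 18958), (18204, 18959), (18205, 15331), (18206, 18965), (18207, 18969), (18208, 15528), (18209, 19135), (18210, 19138), (18211, 17735), (18212, 18313), (18213, 18217), (18214,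 14490), (18215, 14425), (18216, 21000), (18217, 18213), (18218, 18498), (18219, 21004), (18220, 21007), (18221, 21008), (18222, 14429), (18223, 20849), (18224, 14430), (18225, 16052), (18226, 14431), (18227, 14433), (18228, 15186), (18229, 21010), (18230, 14436), (18231, 15432), (18232, 21015), (18233, 14437), (18234, 18250), (18235, 14441), (18236, 21018), (18237, 14442), (18238, 14443), (18239, 14447)]
    ⟨e3 q18176 L221012 q15999, e3 q18177 L221026 q14389, e3 q18178 (flp_g L221030) q14387, e3 q18179 (flp_g L226733) q18895, e3 q18180 (flp_g L221052) q14390, e3 q18181 L221072 q18170, e3 q18182 (flp_g L236259) q20037, e3 q18183 (flp_g L221079) q14394, e3 q18184 L221092 q15358, e3 q18185 (flp_g L227474) q18987, e3 q18186 L242102 q20700, e3 q18187 L244627 q20969, e3 q18188 (flp_g L221114) q14401, e3 q18189 (flp_g L221478) q18240, e3 q18190 (flp_g L221129) q14402, e3 q18191 (flp_g L221136) q14403, e3 q18192 L221147 q14407, e3 q18193 (flp_g L221149) q14405, e3 q18194 (flp_g L244653) q20971, e3 q18195 (flp_g L244659)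 q20972, e3 q18196 (flp_g L244663) q20973, e3 q18197 L244718 q20983, e3 q18198 L221173 q18198, e3 q18199 L221182 q15350, e3 q18200 L221188 q18200, e3 q18201 L221195 q15352, e3 q18202 L221203 q15329, e3 q18203 (flp_g L227226) q18958, e3 q18204 (flp_g L227236) q18959, e3 q18205 L221227 q15331, e3 q18206 (flp_g L227268) q18965, e3 q18207 (flp_g L227290) q18969, e3 q18208 L221253 q15528, e3 q18209 (flp_g L228457) q19135, e3 q18210 L228475 q19138, e3 q18211 L221271 q17735, e3 q18212 (flp_g L222038) q18313, e3 q18213 (flp_g L221316) q18217, e3 q18214 L221294 q14490, e3 q18215 L221303 q14425, e3 q18216 L244851 q21000, e3 q18217 L221316 q18213, e3 q18218 (flp_g L223877) q18498, e3 q18219 L244873 q21004, e3 q18220 L244889 q21007, e3 q18221 L244895 q21008, e3 q18222 (flp_g L221334) q14429, e3 q18223 (flp_g L243599) q20849, e3 q18224 (flp_g L221343) q14430, e3 q18225 L227432 q16052, e3 q18226 (flp_g L221358) q14431, e3 q18227 L221372 q14433, e3 q18228 L221382 q15186, e3 q18229 (flp_g L244917) q21010, e3 q18230 L221396 q14436,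 e3 q18231 L221404 q15432, e3 q18232 L244955 q21015, e3 q18233 (flp_g L221412) q14437, e3 q18234 (flp_g L221548) q18250, e3 q18235 (flp_g L221430) q14441, e3 q18236 L244985 q21018, e3 q18237 (flp_g L221450) q14442, e3 q18238 (flp_g L221456) q14443, e3 q18239 L221468 q14447, trivial⟩ (by decide +kernel)

theorem ce_g_285 : ∀ r, r < 64 → sm gg (Qf (18240 + r)) = Qf (tab Gen.g (18240 + r)) :=
  edges_tab (sm gg) Qf (tab Gen.g) 18240 [(18240, 18189), (18241, 14445), (18242, 19580), (18243, 19577), (18244, 19576), (18245, 21025), (18246, 17638), (18247, 14499), (18248, 20261), (18249, 17368), (18250, 18234), (18251, 14497), (18252, 17955), (18253, 14455), (18254, 18024), (18255, 18739), (18256, 15389), (18257, 14458), (18258, 20680), (18259, 17021), (18260, 20682), (18261, 19728), (18262, 21040), (18263, 16015), (18264, 17665), (18265, 17645), (18266, 19724), (18267, 20694), (18268, 14464), (18269, 20340), (18270, 14568), (18271, 14569), (18272, 14467), (18273, 19809), (18274, 20591), (18275, 17052), (18276, 21053), (18277,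 14576), (18278, 14578), (18279, 14579), (18280, 18335), (18281, 19028), (18282, 18288), (18283, 17148), (18284, 14472), (18285, 18476), (18286, 14473), (18287, 14474), (18288, 18282), (18289, 14479), (18290, 14482), (18291, 15908), (18292, 16061), (18293, 14488), (18294, 18299), (18295, 17524), (18296, 21057), (18297, 21058), (18298, 14492), (18299, 18294), (18300, 18154), (18301, 21060), (18302, 21062), (18303, 21063)]
    ⟨e3 q18240 L221478 q18189, e3 q18241 (flp_g L221480) q14445, e3 q18242 (flp_g L232344) q19580, e3 q18243 (flp_g L232322) q19577, e3 q18244 (flp_g L232312) q19576, e3 q18245 L245045 q21025, e3 q18246 L221514 q17638, e3 q18247 (flp_g L221524) q14499, e3 q18248 L238161 q20261, e3 q18249 L221536 q17368, e3 q18250 L221548 q18234, e3 q18251 (flp_g L221558) q14497, e3 q18252 L221570 q17955, e3 q18253 (flp_g L221574) q14455, e3 q18254 L221592 q18024, e3 q18255 (flp_g L225789) q18739, e3 q18256 L221602 q15389, e3 q18257 (flp_g L221606) q14458, e3 q18258 (flp_g L241898) q20680, e3 q18259 L221630 q17021,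 e3 q18260 (flp_g L241918) q20682, e3 q18261 (flp_g L233571) q19728, e3 q18262 L245179 q21040, e3 q18263 L221684 q16015, e3 q18264 (flp_g L221678) q17665, e3 q18265 (flp_g L221658) q17645, e3 q18266 (flp_g L233533) q19724, e3 q18267 L242030 q20694, e3 q18268 (flp_g L221688) q14464, e3 q18269 (flp_g L238849) q20340, e3 q18270 L221708 q14568, e3 q18271 L221712 q14569, e3 q18272 (flp_g L221714) q14467, e3 q18273 (flp_g L234219) q19809, e3 q18274 (flp_g L241076) q20591, e3 q18275 (flp_g L221734) q17052, e3 q18276 L245265 q21053, e3 q18277 L221742 q14576, e3 q18278 L221750 q14578, e3 q18279 L221756 q14579, e3 q18280 L222188 q18335, e3 q18281 (flp_g L227734) q19028, e3 q18282 (flp_g L221830) q18288, e3 q18283 L221784 q17148, e3 q18284 (flp_g L221786) q14472, e3 q18285 L223639 q18476, e3 q18286 (flp_g L221806) q14473, e3 q18287 (flp_g L221816) q14474, e3 q18288 L221830 q18282, e3 q18289 (flp_g L221832) q14479, e3 q18290 (flp_g L221842) q14482, e3 q18291 L221864 q15908, e3 q18292 L221872 q16061, e3 q18293 (flp_g L221876)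 q14488, e3 q18294 (flp_g L221934) q18299, e3 q18295 L221900 q17524, e3 q18296 (flp_g L245319) q21057, e3 q18297 L245321 q21058, e3 q18298 (flp_g L221918) q14492, e3 q18299 L221934 q18294, e3 q18300 (flp_g L221944) q18154, e3 q18301 L245331 q21060, e3 q18302 L245345 q21062, e3 q18303 L245355 q21063, trivial⟩ (by decide +kernel)

theorem ce_g_286 : ∀ r, r < 64 → sm gg (Qf (18304 + r)) = Qf (tab Gen.g (18304 + r)) :=
  edges_tab (sm gg) Qf (tab Gen.g) 18304 [(18304, 14496), (18305, 21028), (18306, 20487), (18307, 21026), (18308, 14498), (18309, 15023), (18310, 15188), (18311, 15196), (18312, 20896), (18313, 18212), (18314, 17113), (18315, 21071), (18316, 14508), (18317, 21074), (18318, 21076), (18319, 14509), (18320, 20296), (18321, 21078), (18322, 14511), (18323, 15493), (18324, 14512), (18325, 17716), (18326, 17120), (18327, 18453), (18328, 18547), (18329, 20409), (18330, 20182), (18331, 21087), (18332, 14517), (18333, 19126), (18334, 18463), (18335, 18280), (18336, 21016), (18337, 14519), (18338, 15492), (18339,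 14522), (18340, 14523), (18341, 18343), (18342, 15737), (18343, 18341), (18344, 20350), (18345, 14524), (18346, 18347), (18347, 18346), (18348, 14533), (18349, 18134), (18350, 14546), (18351, 14539), (18352, 18363), (18353, 14540), (18354, 18366), (18355, 14541), (18356, 21092), (18357, 17190), (18358, 20803), (18359, 21091), (18360, 17627), (18361, 14549), (18362, 18480), (18363, 18352), (18364, 14551), (18365, 18485), (18366, 18354), (18367, 20914)]
    ⟨e3 q18304 (flp_g L221958) q14496, e3 q18305 (flp_g L245085) q21028, e3 q18306 L240159 q20487, e3 q18307 (flp_g L245067) q21026, e3 q18308 (flp_g L221990) q14498, e3 q18309 L222006 q15023, e3 q18310 (flp_g L222020) q15188, e3 q18311 L222028 q15196, e3 q18312 (flp_g L244063) q20896, e3 q18313 L222038 q18212, e3 q18314 L222050 q17113, e3 q18315 L245445 q21071, e3 q18316 (flp_g L222056) q14508, e3 q18317 L245473 q21074, e3 q18318 L245487 q21076, e3 q18319 (flp_g L222080) q14509, e3 q18320 L238443 q20296, e3 q18321 L245503 q21078, e3 q18322 (flp_g L222098) q14511,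 e3 q18323 L222116 q15493, e3 q18324 (flp_g L222108) q14512, e3 q18325 L222122 q17716, e3 q18326 (flp_g L222130) q17120, e3 q18327 (flp_g L223487) q18453, e3 q18328 (flp_g L224315) q18547, e3 q18329 (flp_g L239491) q20409, e3 q18330 L237541 q20182, e3 q18331 L245553 q21087, e3 q18332 (flp_g L222162) q14517, e3 q18333 (flp_g L228379) q19126, e3 q18334 (flp_g L223541) q18463, e3 q18335 (flp_g L222188) q18280, e3 q18336 (flp_g L244975) q21016, e3 q18337 (flp_g L222194) q14519, e3 q18338 L222241 q15492, e3 q18339 L222249 q14522, e3 q18340 L222261 q14523, e3 q18341 L222297 q18343, e3 q18342 L222285 q15737, e3 q18343 (flp_g L222297) q18341, e3 q18344 (flp_g L238955) q20350, e3 q18345 (flp_g L222309) q14524, e3 q18346 L222337 q18347, e3 q18347 (flp_g L222337) q18346, e3 q18348 (flp_g L222339) q14533, e3 q18349 L222357 q18134, e3 q18350 L222367 q14546, e3 q18351 (flp_g L222369) q14539, e3 q18352 (flp_g L222473) q18363, e3 q18353 (flp_g L222389) q14540, e3 q18354 (flp_g L222499) q18366, e3 q18355 (flp_g L222409) q14541, e3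 q18356 (flp_g L245615) q21092, e3 q18357 L222425 q17190, e3 q18358 (flp_g L243095) q20803, e3 q18359 (flp_g L245605) q21091, e3 q18360 L222447 q17627, e3 q18361 (flp_g L222451) q14549, e3 q18362 (flp_g L223679) q18480, e3 q18363 L222473 q18352, e3 q18364 (flp_g L222475) q14551, e3 q18365 (flp_g L223727) q18485, e3 q18366 L222499 q18354, e3 q18367 (flp_g L244239) q20914, trivial⟩ (by decide +kernel)

theorem ce_g_287 : ∀ r, r < 64 → sm gg (Qf (18368 + r)) = Qf (tab Gen.g (18368 + r)) :=
  edges_tab (sm gg) Qf (tab Gen.g) 18368 [(18368, 18488), (18369, 21115), (18370, 21118), (18371, 15490), (18372, 20323), (18373, 18492), (18374, 15491), (18375, 20932), (18376, 21121), (18377, 14559), (18378, 17936), (18379, 14564), (18380, 17673), (18381, 16060), (18382, 16601), (18383, 21124), (18384, 14567), (18385, 20252), (18386, 21046), (18387, 21047), (18388, 21048), (18389, 18449), (18390, 19125), (18391, 14570), (18392, 15765), (18393, 21131), (18394, 20460), (18395, 14572), (18396, 14573), (18397, 21128), (18398, 21135),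 (18399, 21136), (18400, 14575), (18401, 20987), (18402, 20307), (18403, 21054), (18404, 21140), (18405, 14580), (18406, 19121), (18407, 15766), (18408, 15767), (18409, 19459), (18410, 15769), (18411, 19463), (18412, 20811), (18413, 16905), (18414, 14591), (18415, 18423), (18416, 14592), (18417, 18426), (18418, 21150), (18419, 17921), (18420, 17916), (18421, 17922), (18422, 15943), (18423, 18415), (18424, 21157), (18425, 14601), (18426, 18417), (18427, 21161), (18428, 14603), (18429, 21163), (18430, 14604), (18431, 21164)]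
    ⟨e3 q18368 (flp_g L223745) q18488, e3 q18369 L245783 q21115, e3 q18370 L245801 q21118, e3 q18371 L222515 q15490, e3 q18372 (flp_g L238663) q20323, e3 q18373 (flp_g L223773) q18492, e3 q18374 L222926 q15491, e3 q18375 (flp_g L244355) q20932, e3 q18376 L245823 q21121, e3 q18377 (flp_g L222940) q14559, e3 q18378 L222954 q17936, e3 q18379 (flp_g L222958) q14564, e3 q18380 L222974 q17673, e3 q18381 L222984 q16060, e3 q18382 L222998 q16601, e3 q18383 L245855 q21124, e3 q18384 (flp_g L223008) q14567, e3 q18385 (flp_g L238085) q20252, e3 q18386 (flp_g L245223) q21046, e3 q18387 (flp_g L245233) q21047, e3 q18388 (flp_g L245241) q21048, e3 q18389 L223455 q18449, e3 q18390 (flp_g L228371) q19125, e3 q18391 (flp_g L223042) q14570, e3 q18392 L223058 q15765, e3 q18393 L245907 q21131, e3 q18394 (flp_g L239959) q20460, e3 q18395 (flp_g L223072) q14572, e3 q18396 (flp_g L223078) q14573, e3 q18397 (flp_g L245885) q21128, e3 q18398 L245928 q21135, e3 q18399 L245934 q21136, e3 q18400 (flp_g L223094) q14575, e3 q18401 L244758 q20987,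 e3 q18402 L238528 q20307, e3 q18403 (flp_g L245285) q21054, e3 q18404 L245962 q21140, e3 q18405 (flp_g L223120) q14580, e3 q18406 L228333 q19121, e3 q18407 L223141 q15766, e3 q18408 L223147 q15767, e3 q18409 L231240 q19459, e3 q18410 L223161 q15769, e3 q18411 L231268 q19463, e3 q18412 (flp_g L243191) q20811, e3 q18413 (flp_g L223189) q16905, e3 q18414 (flp_g L223201) q14591, e3 q18415 (flp_g L223271) q18423, e3 q18416 (flp_g L223221) q14592, e3 q18417 (flp_g L223297) q18426, e3 q18418 L246050 q21150, e3 q18419 (flp_g L223241) q17921, e3 q18420 L223247 q17916, e3 q18421 L223251 q17922, e3 q18422 L223261 q15943, e3 q18423 L223271 q18415, e3 q18424 (flp_g L246653) q21157, e3 q18425 (flp_g L223277) q14601, e3 q18426 L223297 q18417, e3 q18427 L246140 q21161, e3 q18428 (flp_g L223303) q14603, e3 q18429 L246154 q21163, e3 q18430 (flp_g L223317) q14604, e3 q18431 (flp_g L246170) q21164, trivial⟩ (by decide +kernel)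

theorem ce_g_288 : ∀ r, r < 64 → sm gg (Qf (18432 + r)) = Qf (tab Gen.g (18432 + r)) :=
  edges_tab (sm gg) Qf (tab Gen.g) 18432 [(18432, 21171), (18433, 19846), (18434, 20815), (18435, 19848), (18436, 19849), (18437, 21175), (18438, 20814), (18439, 20816), (18440, 14613), (18441, 14615), (18442, 15785), (18443, 16625), (18444, 14617), (18445, 20497), (18446, 20673), (18447, 20142), (18448, 17625), (18449, 18389), (18450, 21180), (18451, 14620), (18452, 18730), (18453, 18327), (18454, 20394), (18455, 20484), (18456, 20518), (18457, 14623), (18458, 17743), (18459, 21186), (18460, 21187), (18461, 14626), (18462, 14628), (18463, 18334), (18464, 21191), (18465, 19662), (18466, 21194), (18467, 14632), (18468, 19664), (18469, 14635), (18470, 14638), (18471, 14639), (18472, 21195), (18473, 20911), (18474, 15962), (18475, 18068), (18476, 18285), (18477, 16860), (18478, 14647), (18479, 14648), (18480, 18362), (18481, 15603), (18482, 20916), (18483, 14650), (18484, 14651), (18485, 18365), (18486, 16528), (18487, 19102),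 (18488, 18368), (18489, 21113), (18490, 21212), (18491, 20821), (18492, 18373), (18493, 20804), (18494, 19369), (18495, 21214)]
    ⟨e3 q18432 L246212 q21171, e3 q18433 (flp_g L234545) q19846, e3 q18434 (flp_g L243247) q20815, e3 q18435 (flp_g L234563) q19848, e3 q18436 (flp_g L234573) q19849, e3 q18437 L246244 q21175, e3 q18438 (flp_g L243233) q20814, e3 q18439 (flp_g L243259) q20816, e3 q18440 (flp_g L223373) q14613, e3 q18441 (flp_g L223385) q14615, e3 q18442 L223403 q15785, e3 q18443 (flp_g L223415) q16625, e3 q18444 (flp_g L223417) q14617, e3 q18445 (flp_g L240253) q20497, e3 q18446 (flp_g L241834) q20673, e3 q18447 (flp_g L237195) q20142, e3 q18448 L223449 q17625, e3 q18449 (flp_g L223455) q18389, e3 q18450 L246292 q21180, e3 q18451 (flp_g L223461) q14620, e3 q18452 (flp_g L225723) q18730, e3 q18453 L223487 q18327, e3 q18454 (flp_g L239347) q20394, e3 q18455 (flp_g L240131) q20484, e3 q18456 (flp_g L240445) q20518, e3 q18457 (flp_g L223509) q14623, e3 q18458 L223521 q17743, e3 q18459 L246342 q21186, e3 q18460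 L246347 q21187, e3 q18461 (flp_g L223527) q14626, e3 q18462 (flp_g L223529) q14628, e3 q18463 L223541 q18334, e3 q18464 L246379 q21191, e3 q18465 (flp_g L233059) q19662, e3 q18466 L246413 q21194, e3 q18467 (flp_g L223559) q14632, e3 q18468 (flp_g L233081) q19664, e3 q18469 (flp_g L223575) q14635, e3 q18470 (flp_g L223585) q14638, e3 q18471 (flp_g L223597) q14639, e3 q18472 (flp_g L246423) q21195, e3 q18473 (flp_g L244213) q20911, e3 q18474 L223623 q15962, e3 q18475 L223633 q18068, e3 q18476 (flp_g L223639) q18285, e3 q18477 L223649 q16860, e3 q18478 (flp_g L223653) q14647, e3 q18479 (flp_g L223665) q14648, e3 q18480 L223679 q18362, e3 q18481 L223691 q15603, e3 q18482 (flp_g L244257) q20916, e3 q18483 (flp_g L223705) q14650, e3 q18484 (flp_g L223713) q14651, e3 q18485 L223727 q18365, e3 q18486 L223737 q16528, e3 q18487 (flp_g L228206) q19102, e3 q18488 L223745 q18368, e3 q18489 L245775 q21113, e3 q18490 L246559 q21212, e3 q18491 (flp_g L243325) q20821, e3 q18492 L223773 q18373, e3 q18493 (flp_g L243107) q20804, e3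 q18494 (flp_g L230354) q19369, e3 q18495 L246571 q21214, trivial⟩ (by decide +kernel)

theorem ce_g_289 : ∀ r, r < 64 → sm gg (Qf (18496 + r)) = Qf (tab Gen.g (18496 + r)) :=
  edges_tab (sm gg) Qf (tab Gen.g) 18496 [(18496, 14660), (18497, 14887), (18498, 18218), (18499, 18514), (18500, 21218), (18501, 21219), (18502, 20871), (18503, 14672), (18504, 18132), (18505, 14674), (18506, 16925), (18507, 21222), (18508, 14677), (18509, 15841), (18510, 14679), (18511, 20651), (18512, 21226), (18513, 14680), (18514, 18499), (18515, 21165), (18516, 14682), (18517, 21228), (18518, 20986), (18519, 15896), (18520, 15897), (18521, 15898), (18522, 19581), (18523, 20817), (18524, 14689), (18525, 15903), (18526, 14695), (18527, 16911), (18528, 18698), (18529, 14714), (18530, 19949), (18531, 16497), (18532, 15916), (18533, 17230), (18534, 17858), (18535, 14746), (18536, 14982), (18537, 14761), (18538, 17857), (18539, 15032), (18540, 20097), (18541, 14838), (18542, 17039), (18543, 14793), (18544, 20393), (18545, 17217), (18546, 19173),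 (18547, 18328), (18548, 16416), (18549, 17218), (18550, 17912), (18551, 17128), (18552, 20510), (18553, 20126), (18554, 17621), (18555, 20017), (18556, 14859), (18557, 15008), (18558, 16223), (18559, 14864)]
    ⟨e3 q18496 (flp_g L223851) q14660, e3 q18497 L223863 q14887, e3 q18498 L223877 q18218, e3 q18499 (flp_g L224019) q18514, e3 q18500 L246609 q21218, e3 q18501 L246617 q21219, e3 q18502 (flp_g L243807) q20871, e3 q18503 (flp_g L223909) q14672, e3 q18504 L223921 q18132, e3 q18505 (flp_g L223923) q14674, e3 q18506 L223945 q16925, e3 q18507 L246657 q21222, e3 q18508 (flp_g L223953) q14677, e3 q18509 L223973 q15841, e3 q18510 (flp_g L223985) q14679, e3 q18511 (flp_g L241652) q20651, e3 q18512 L246689 q21226, e3 q18513 (flp_g L224003) q14680, e3 q18514 L224019 q18499, e3 q18515 (flp_g L246180) q21165, e3 q18516 (flp_g L224027) q14682, e3 q18517 (flp_g L246707) q21228, e3 q18518 (flp_g L244748) q20986, e3 q18519 L224041 q15896, e3 q18520 L224053 q15897, e3 q18521 L224065 q15898, e3 q18522 L232354 q19581, e3 q18523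 (flp_g L243277) q20817, e3 q18524 (flp_g L224083) q14689, e3 q18525 L224095 q15903, e3 q18526 (flp_g L224099) q14695, e3 q18527 L224117 q16911, e3 q18528 (flp_g L225435) q18698, e3 q18529 (flp_g L224125) q14714, e3 q18530 (flp_g L235477) q19949, e3 q18531 L224151 q16497, e3 q18532 L224161 q15916, e3 q18533 L224175 q17230, e3 q18534 L224185 q17858, e3 q18535 (flp_g L224189) q14746, e3 q18536 (flp_g L224211) q14982, e3 q18537 (flp_g L224213) q14761, e3 q18538 L224231 q17857, e3 q18539 L224245 q15032, e3 q18540 (flp_g L236749) q20097, e3 q18541 L224265 q14838, e3 q18542 (flp_g L224279) q17039, e3 q18543 (flp_g L224281) q14793, e3 q18544 (flp_g L239339) q20393, e3 q18545 L224301 q17217, e3 q18546 L228719 q19173, e3 q18547 L224315 q18328, e3 q18548 L224325 q16416, e3 q18549 L224333 q17218, e3 q18550 L224343 q17912, e3 q18551 (flp_g L224355) q17128, e3 q18552 (flp_g L240365) q20510, e3 q18553 L237043 q20126, e3 q18554 L224371 q17621, e3 q18555 (flp_g L236119) q20017, e3 q18556 L224391 q14859, e3 q18557 L224405 q15008,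 e3 q18558 L224415 q16223, e3 q18559 L224423 q14864, trivial⟩ (by decide +kernel)

theorem ce_g_290 : ∀ r, r < 64 → sm gg (Qf (18560 + r)) = Qf (tab Gen.g (18560 + r)) :=
  edges_tab (sm gg) Qf (tab Gen.g) 18560 [(18560, 14868), (18561, 21239), (18562, 20218), (18563, 20051), (18564, 20377), (18565, 16944), (18566, 21241), (18567, 20064), (18568, 14870), (18569, 17443), (18570, 16793), (18571, 14962), (18572, 16261), (18573, 18581), (18574, 20513), (18575, 20175), (18576, 17013), (18577, 17303), (18578, 17083), (18579, 21258), (18580, 14897), (18581, 18573), (18582, 15011), (18583, 20595), (18584, 17488), (18585, 16623), (18586, 17850), (18587, 14966), (18588, 21259), (18589, 14931), (18590, 14937), (18591, 14939), (18592, 20210), (18593, 14950), (18594, 17492), (18595, 14959), (18596, 14968), (18597, 19306), (18598, 17476), (18599, 18608), (18600, 20208), (18601, 16845), (18602, 17554), (18603, 15017), (18604, 17556), (18605, 15014), (18606, 20085), (18607, 20608), (18608, 18599), (18609, 17901), (18610, 17493),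 (18611, 20642), (18612, 15024), (18613, 19698), (18614, 19282), (18615, 15938), (18616, 19525), (18617, 19424), (18618, 15034), (18619, 19514), (18620, 15036), (18621, 15037), (18622, 20223), (18623, 20224)]
    ⟨e3 q18560 L224431 q14868, e3 q18561 (flp_g L246793) q21239, e3 q18562 (flp_g L237876) q20218, e3 q18563 (flp_g L236360) q20051, e3 q18564 (flp_g L239185) q20377, e3 q18565 L224471 q16944, e3 q18566 (flp_g L246813) q21241, e3 q18567 (flp_g L236462) q20064, e3 q18568 (flp_g L224483) q14870, e3 q18569 L224503 q17443, e3 q18570 L224513 q16793, e3 q18571 L224527 q14962, e3 q18572 L224537 q16261, e3 q18573 (flp_g L224603) q18581, e3 q18574 (flp_g L240397) q20513, e3 q18575 L237471 q20175, e3 q18576 L224561 q17013, e3 q18577 L224571 q17303, e3 q18578 L224583 q17083, e3 q18579 L246967 q21258, e3 q18580 (flp_g L224587) q14897, e3 q18581 L224603 q18573, e3 q18582 L224613 q15011, e3 q18583 (flp_g L241116) q20595, e3 q18584 L224633 q17488, e3 q18585 L224645 q16623, e3 q18586 L224658 q17850, e3 q18587 L224672 q14966,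 e3 q18588 L246977 q21259, e3 q18589 (flp_g L224680) q14931, e3 q18590 L224692 q14937, e3 q18591 (flp_g L224694) q14939, e3 q18592 (flp_g L237801) q20210, e3 q18593 (flp_g L224707) q14950, e3 q18594 L224725 q17492, e3 q18595 (flp_g L224727) q14959, e3 q18596 L224749 q14968, e3 q18597 L229858 q19306, e3 q18598 L224764 q17476, e3 q18599 (flp_g L224855) q18608, e3 q18600 (flp_g L237778) q20208, e3 q18601 L224782 q16845, e3 q18602 L224793 q17554, e3 q18603 L224805 q15017, e3 q18604 L224819 q17556, e3 q18605 L224833 q15014, e3 q18606 (flp_g L236623) q20085, e3 q18607 L241267 q20608, e3 q18608 L224855 q18599, e3 q18609 L224867 q17901, e3 q18610 L224875 q17493, e3 q18611 (flp_g L241548) q20642, e3 q18612 (flp_g L224881) q15024, e3 q18613 (flp_g L233333) q19698, e3 q18614 (flp_g L229622) q19282, e3 q18615 L224917 q15938, e3 q18616 (flp_g L231846) q19525, e3 q18617 (flp_g L230996) q19424, e3 q18618 (flp_g L224939) q15034, e3 q18619 (flp_g L231760) q19514, e3 q18620 (flp_g L224957) q15036, e3 q18621 (flp_g L224969) q15037,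 e3 q18622 (flp_g L237913) q20223, e3 q18623 (flp_g L237917) q20224, trivial⟩ (by decide +kernel)

theorem ce_g_291 : ∀ r, r < 64 → sm gg (Qf (18624 + r)) = Qf (tab Gen.g (18624 + r)) :=
  edges_tab (sm gg) Qf (tab Gen.g) 18624 [(18624, 16933), (18625, 21270), (18626, 15042), (18627, 18976), (18628, 18062), (18629, 20898), (18630, 15043), (18631, 17622), (18632, 17592), (18633, 19289), (18634, 16910), (18635, 15124), (18636, 18687), (18637, 21277), (18638, 19811), (18639, 19798), (18640, 15051), (18641, 19038), (18642, 21281), (18643, 15408), (18644, 15054), (18645, 18026), (18646, 20899), (18647, 16501), (18648, 20902), (18649, 20428), (18650, 19714), (18651, 19712), (18652, 15739), (18653, 15740), (18654, 21289), (18655, 21291), (18656, 15064), (18657, 15065), (18658, 18712), (18659, 18713), (18660, 18660), (18661, 18661), (18662, 18717), (18663, 18719), (18664, 18664), (18665, 18665), (18666, 18726), (18667, 20970), (18668, 15080), (18669, 15093), (18670, 15095), (18671, 18727), (18672, 21300), (18673, 15147),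 (18674, 15210), (18675, 15212), (18676, 15088), (18677, 17630), (18678, 20143), (18679, 20259), (18680, 20912), (18681, 19511), (18682, 20461), (18683, 20387), (18684, 18780), (18685, 20320), (18686, 15097), (18687, 18636)]
    ⟨e3 q18624 L224985 q16933, e3 q18625 L247075 q21270, e3 q18626 L224997 q15042, e3 q18627 (flp_g L227336) q18976, e3 q18628 L225009 q18062, e3 q18629 (flp_g L244087) q20898, e3 q18630 (flp_g L225021) q15043, e3 q18631 L225033 q17622, e3 q18632 L225041 q17592, e3 q18633 L229668 q19289, e3 q18634 L225061 q16910, e3 q18635 L225075 q15124, e3 q18636 (flp_g L225383) q18687, e3 q18637 L247126 q21277, e3 q18638 L234237 q19811, e3 q18639 L234127 q19798, e3 q18640 (flp_g L225097) q15051, e3 q18641 (flp_g L227806) q19038, e3 q18642 L247162 q21281, e3 q18643 L225117 q15408, e3 q18644 (flp_g L225121) q15054, e3 q18645 L225135 q18026, e3 q18646 (flp_g L244095) q20899, e3 q18647 L225155 q16501, e3 q18648 (flp_g L244129) q20902, e3 q18649 (flp_g L239667) q20428, e3 q18650 (flp_g L233457) q19714, e3 q18651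 (flp_g L233439) q19712, e3 q18652 L225183 q15739, e3 q18653 L225197 q15740, e3 q18654 L247221 q21289, e3 q18655 L247231 q21291, e3 q18656 (flp_g L225207) q15064, e3 q18657 (flp_g L225213) q15065, e3 q18658 (flp_g L225560) q18712, e3 q18659 (flp_g L225567) q18713, e3 q18660 L225239 q18660, e3 q18661 L225245 q18661, e3 q18662 (flp_g L225605) q18717, e3 q18663 (flp_g L225613) q18719, e3 q18664 L225259 q18664, e3 q18665 L225262 q18665, e3 q18666 (flp_g L225679) q18726, e3 q18667 (flp_g L244645) q20970, e3 q18668 (flp_g L225271) q15080, e3 q18669 L225283 q15093, e3 q18670 L225289 q15095, e3 q18671 (flp_g L225691) q18727, e3 q18672 L247305 q21300, e3 q18673 (flp_g L225303) q15147, e3 q18674 L225311 q15210, e3 q18675 L225319 q15212, e3 q18676 (flp_g L225321) q15088, e3 q18677 L225335 q17630, e3 q18678 (flp_g L237205) q20143, e3 q18679 (flp_g L238143) q20259, e3 q18680 (flp_g L244221) q20912, e3 q18681 L231730 q19511, e3 q18682 L239973 q20461, e3 q18683 (flp_g L239283) q20387, e3 q18684 L226009 q18780, e3 q18685 (flp_g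 L238643) q20320, e3 q18686 (flp_g L225365) q15097, e3 q18687 L225383 q18636, trivial⟩ (by decide +kernel)

theorem ce_g_292 : ∀ r, r < 64 → sm gg (Qf (18688 + r)) = Qf (tab Gen.g (18688 + r)) :=
  edges_tab (sm gg) Qf (tab Gen.g) 18688 [(18688, 21313), (18689, 21314), (18690, 15100), (18691, 21315), (18692, 21317), (18693, 18833), (18694, 21319), (18695, 15103), (18696, 21322), (18697, 18066), (18698, 18528), (18699, 16506), (18700, 19276), (18701, 17338), (18702, 16334), (18703, 17339), (18704, 18704), (18705, 19951), (18706, 15806), (18707, 15810), (18708, 19336), (18709, 17163), (18710, 19995), (18711, 20024), (18712, 18658), (18713, 18659), (18714, 15133), (18715, 21335), (18716, 15140), (18717, 18662), (18718, 21338), (18719, 18663), (18720, 18048), (18721, 21340), (18722, 20884), (18723, 15137), (18724, 18081), (18725, 21017), (18726, 18666), (18727, 18671), (18728, 15143), (18729, 16125), (18730, 18452), (18731, 20053), (18732, 20047), (18733, 21349), (18734, 15144), (18735, 18737), (18736, 21351), (18737,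 18735), (18738, 20236), (18739, 18255), (18740, 20872), (18741, 19521), (18742, 15330), (18743, 19301), (18744, 15155), (18745, 21154), (18746, 21153), (18747, 19112), (18748, 15157), (18749, 15169), (18750, 21360), (18751, 15173)]
    ⟨e3 q18688 L247427 q21313, e3 q18689 L247439 q21314, e3 q18690 (flp_g L225395) q15100, e3 q18691 L247451 q21315, e3 q18692 L247471 q21317, e3 q18693 (flp_g L226305) q18833, e3 q18694 L247487 q21319, e3 q18695 (flp_g L225413) q15103, e3 q18696 L247519 q21322, e3 q18697 (flp_g L225425) q18066, e3 q18698 L225435 q18528, e3 q18699 L225447 q16506, e3 q18700 (flp_g L229556) q19276, e3 q18701 L225463 q17338, e3 q18702 L225471 q16334, e3 q18703 L225483 q17339, e3 q18704 L225491 q18704, e3 q18705 (flp_g L235495) q19951, e3 q18706 L225510 q15806, e3 q18707 L225518 q15810, e3 q18708 (flp_g L230138) q19336, e3 q18709 L225534 q17163, e3 q18710 (flp_g L235916) q19995, e3 q18711 (flp_g L236173) q20024, e3 q18712 L225560 q18658, e3 q18713 L225567 q18659, e3 q18714 L225576 q15133, e3 q18715 (flp_g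 L247665) q21335, e3 q18716 L225595 q15140, e3 q18717 L225605 q18662, e3 q18718 L247687 q21338, e3 q18719 L225613 q18663, e3 q18720 (flp_g L225619) q18048, e3 q18721 L247707 q21340, e3 q18722 (flp_g L243945) q20884, e3 q18723 (flp_g L225651) q15137, e3 q18724 L225663 q18081, e3 q18725 (flp_g L244981) q21017, e3 q18726 L225679 q18666, e3 q18727 L225691 q18671, e3 q18728 L225701 q15143, e3 q18729 L225711 q16125, e3 q18730 L225723 q18452, e3 q18731 (flp_g L236372) q20053, e3 q18732 (flp_g L236334) q20047, e3 q18733 L247805 q21349, e3 q18734 (flp_g L225753) q15144, e3 q18735 (flp_g L225779) q18737, e3 q18736 L247819 q21351, e3 q18737 L225779 q18735, e3 q18738 (flp_g L237993) q20236, e3 q18739 L225789 q18255, e3 q18740 L243821 q20872, e3 q18741 L231820 q19521, e3 q18742 L225805 q15330, e3 q18743 (flp_g L229778) q19301, e3 q18744 (flp_g L225811) q15155, e3 q18745 (flp_g L246092) q21154, e3 q18746 (flp_g L246080) q21153, e3 q18747 L228262 q19112, e3 q18748 (flp_g L225841) q15157, e3 q18749 L225849 q15169, e3 q18750 L247902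 q21360, e3 q18751 L225859 q15173, trivial⟩ (by decide +kernel)

theorem ce_g_293 : ∀ r, r < 64 → sm gg (Qf (18752 + r)) = Qf (tab Gen.g (18752 + r)) :=
  edges_tab (sm gg) Qf (tab Gen.g) 18752 [(18752, 15256), (18753, 18768), (18754, 20925), (18755, 20867), (18756, 15162), (18757, 21366), (18758, 19065), (18759, 15163), (18760, 21367), (18761, 15165), (18762, 21368), (18763, 21369), (18764, 15166), (18765, 20920), (18766, 15167), (18767, 17991), (18768, 18753), (18769, 18102), (18770, 18099), (18771, 15171), (18772, 21376), (18773, 20542), (18774, 15172), (18775, 21380), (18776, 18892), (18777, 15174), (18778, 21384), (18779, 15175), (18780, 18684), (18781, 21387), (18782, 15176), (18783, 21388), (18784, 21394), (18785, 15180), (18786, 18010), (18787, 21269), (18788, 20851), (18789, 20897), (18790, 15182), (18791, 18796), (18792, 21400), (18793, 21011), (18794, 21402), (18795, 15363), (18796, 18791), (18797, 20722), (18798, 19293), (18799, 15191), (18800, 18830), (18801, 21405), (18802, 21406), (18803, 15193), (18804,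 15194), (18805, 21066), (18806, 21067), (18807, 20889), (18808, 15383), (18809, 19032), (18810, 15197), (18811, 21403), (18812, 18818), (18813, 21285), (18814, 21414), (18815, 15200)]
    ⟨e3 q18752 L225867 q15256, e3 q18753 L225953 q18768, e3 q18754 (flp_g L244307) q20925, e3 q18755 (flp_g L243761) q20867, e3 q18756 (flp_g L225879) q15162, e3 q18757 L247944 q21366, e3 q18758 (flp_g L227971) q19065, e3 q18759 (flp_g L225901) q15163, e3 q18760 (flp_g L247960) q21367, e3 q18761 (flp_g L225911) q15165, e3 q18762 L247963 q21368, e3 q18763 L247967 q21369, e3 q18764 (flp_g L225923) q15166, e3 q18765 L244277 q20920, e3 q18766 (flp_g L225931) q15167, e3 q18767 L225941 q17991, e3 q18768 (flp_g L225953) q18753, e3 q18769 (flp_g L229796) q18102, e3 q18770 L229786 q18099, e3 q18771 (flp_g L225961) q15171, e3 q18772 L248033 q21376, e3 q18773 (flp_g L240629) q20542, e3 q18774 (flp_g L225973) q15172, e3 q18775 L248063 q21380, e3 q18776 (flp_g L226707) q18892, e3 q18777 (flp_g L225983) q15174, e3 q18778 L248101 q21384, e3 q18779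 (flp_g L225997) q15175, e3 q18780 (flp_g L226009) q18684, e3 q18781 L248125 q21387, e3 q18782 (flp_g L226013) q15176, e3 q18783 (flp_g L248143) q21388, e3 q18784 L248181 q21394, e3 q18785 L226031 q15180, e3 q18786 L226039 q18010, e3 q18787 (flp_g L247071) q21269, e3 q18788 L243615 q20851, e3 q18789 (flp_g L244075) q20897, e3 q18790 (flp_g L226059) q15182, e3 q18791 (flp_g L226099) q18796, e3 q18792 L248233 q21400, e3 q18793 (flp_g L244927) q21011, e3 q18794 L248251 q21402, e3 q18795 L226091 q15363, e3 q18796 L226099 q18791, e3 q18797 (flp_g L242302) q20722, e3 q18798 (flp_g L229716) q19293, e3 q18799 (flp_g L226113) q15191, e3 q18800 (flp_g L226289) q18830, e3 q18801 L248284 q21405, e3 q18802 L248290 q21406, e3 q18803 (flp_g L226133) q15193, e3 q18804 (flp_g L226141) q15194, e3 q18805 (flp_g L245395) q21066, e3 q18806 (flp_g L245411) q21067, e3 q18807 L243989 q20889, e3 q18808 (flp_g L226161) q15383, e3 q18809 L227766 q19032, e3 q18810 (flp_g L226169) q15197, e3 q18811 (flp_g L248271) q21403, e3 q18812 (flp_g L226215)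 q18818, e3 q18813 (flp_g L247193) q21285, e3 q18814 L248345 q21414, e3 q18815 (flp_g L226195) q15200, trivial⟩ (by decide +kernel)

theorem ce_g_294 : ∀ r, r < 64 → sm gg (Qf (18816 + r)) = Qf (tab Gen.g (18816 + r)) :=
  edges_tab (sm gg) Qf (tab Gen.g) 18816 [(18816, 15201), (18817, 15205), (18818, 18812), (18819, 15203), (18820, 20958), (18821, 21355), (18822, 21418), (18823, 21420), (18824, 21421), (18825, 15206), (18826, 15207), (18827, 21422), (18828, 15287), (18829, 19279), (18830, 18800), (18831, 20519), (18832, 20426), (18833, 18693), (18834, 21435), (18835, 21438), (18836, 21439), (18837, 21441), (18838, 21442), (18839, 15214), (18840, 16726), (18841, 16735), (18842, 18842), (18843, 18843), (18844, 20044), (18845, 17182), (18846, 18846), (18847, 18847), (18848, 18929), (18849, 18945), (18850, 16567), (18851, 20578), (18852, 20383), (18853, 15238), (18854, 15228), (18855, 21456), (18856, 15249), (18857, 17376), (18858, 15255), (18859, 15257), (18860, 18873), (18861, 18886), (18862, 21453), (18863, 20041),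 (18864, 18888), (18865, 15241), (18866, 20556), (18867, 20571), (18868, 15243), (18869, 17097), (18870, 18893), (18871, 20581), (18872, 15248), (18873, 18860), (18874, 15263), (18875, 21469), (18876, 21470), (18877, 15265), (18878, 15252), (18879, 15253)]
    ⟨e3 q18816 (flp_g L226199) q15201, e3 q18817 L226209 q15205, e3 q18818 L226215 q18812, e3 q18819 (flp_g L226217) q15203, e3 q18820 (flp_g L244543) q20958, e3 q18821 (flp_g L247863) q21355, e3 q18822 L248383 q21418, e3 q18823 L248403 q21420, e3 q18824 L248409 q21421, e3 q18825 (flp_g L226259) q15206, e3 q18826 (flp_g L226261) q15207, e3 q18827 (flp_g L248423) q21422, e3 q18828 L226277 q15287, e3 q18829 (flp_g L229588) q19279, e3 q18830 L226289 q18800, e3 q18831 L240459 q20519, e3 q18832 (flp_g L239647) q20426, e3 q18833 L226305 q18693, e3 q18834 L248527 q21435, e3 q18835 L248551 q21438, e3 q18836 L248561 q21439, e3 q18837 L248581 q21441, e3 q18838 L248589 q21442, e3 q18839 (flp_g L226335) q15214, e3 q18840 L226343 q16726, e3 q18841 L226351 q16735, e3 q18842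 L226357 q18842, e3 q18843 L226364 q18843, e3 q18844 (flp_g L236312) q20044, e3 q18845 L226377 q17182, e3 q18846 L226387 q18846, e3 q18847 L226396 q18847, e3 q18848 (flp_g L226990) q18929, e3 q18849 (flp_g L227135) q18945, e3 q18850 (flp_g L226413) q16567, e3 q18851 (flp_g L240960) q20578, e3 q18852 (flp_g L239245) q20383, e3 q18853 L226427 q15238, e3 q18854 (flp_g L226429) q15228, e3 q18855 L248706 q21456, e3 q18856 L226447 q15249, e3 q18857 L226457 q17376, e3 q18858 L226467 q15255, e3 q18859 L226473 q15257, e3 q18860 L226573 q18873, e3 q18861 L226671 q18886, e3 q18862 L248694 q21453, e3 q18863 (flp_g L236290) q20041, e3 q18864 (flp_g L226683) q18888, e3 q18865 (flp_g L226499) q15241, e3 q18866 (flp_g L240748) q20556, e3 q18867 (flp_g L240886) q20571, e3 q18868 (flp_g L226525) q15243, e3 q18869 L226547 q17097, e3 q18870 (flp_g L226715) q18893, e3 q18871 (flp_g L240984) q20581, e3 q18872 (flp_g L226559) q15248, e3 q18873 (flp_g L226573) q18860, e3 q18874 L226607 q15263, e3 q18875 L248812 q21469, e3 q18876 L248824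 q21470, e3 q18877 L226603 q15265, e3 q18878 (flp_g L226609) q15252, e3 q18879 (flp_g L226619) q15253, trivial⟩ (by decide +kernel)

theorem ce_g_295 : ∀ r, r < 64 → sm gg (Qf (18880 + r)) = Qf (tab Gen.g (18880 + r)) :=
  edges_tab (sm gg) Qf (tab Gen.g) 18880 [(18880, 21361), (18881, 21474), (18882, 20196), (18883, 21478), (18884, 15258), (18885, 18942), (18886, 18861), (18887, 15259), (18888, 18864), (18889, 21466), (18890, 15261), (18891, 21468), (18892, 18776), (18893, 18870), (18894, 17669), (18895, 18179), (18896, 18983), (18897, 20267), (18898, 21488), (18899, 15274), (18900, 20266), (18901, 21377), (18902, 21489), (18903, 15276), (18904, 15277), (18905, 15291), (18906, 18943), (18907, 21495), (18908, 18918), (18909, 15281), (18910, 21492), (18911, 18939), (18912, 15720), (18913, 21424), (18914, 20173), (18915, 15288), (18916, 20549), (18917, 21490), (18918, 18908), (18919, 21491), (18920, 17738), (18921, 21505), (18922, 17739), (18923, 15296), (18924, 15297), (18925, 15305), (18926, 21507), (18927, 15301),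 (18928, 15302), (18929, 18848), (18930, 21506), (18931, 18932), (18932, 18931), (18933, 15318), (18934, 15320), (18935, 15308), (18936, 20561), (18937, 15310), (18938, 17810), (18939, 18911), (18940, 20562), (18941, 20563), (18942, 18885), (18943, 18906)]
    ⟨e3 q18880 (flp_g L247918) q21361, e3 q18881 L248846 q21474, e3 q18882 (flp_g L237655) q20196, e3 q18883 L248878 q21478, e3 q18884 (flp_g L226655) q15258, e3 q18885 (flp_g L227106) q18942, e3 q18886 (flp_g L226671) q18861, e3 q18887 (flp_g L226673) q15259, e3 q18888 L226683 q18864, e3 q18889 L248786 q21466, e3 q18890 (flp_g L226692) q15261, e3 q18891 L248810 q21468, e3 q18892 L226707 q18776, e3 q18893 L226715 q18870, e3 q18894 L226721 q17669, e3 q18895 L226733 q18179, e3 q18896 L227403 q18983, e3 q18897 (flp_g L238207) q20267, e3 q18898 L248954 q21488, e3 q18899 (flp_g L226760) q15274, e3 q18900 (flp_g L238197) q20266, e3 q18901 (flp_g L248049) q21377, e3 q18902 L248964 q21489, e3 q18903 (flp_g L226798) q15276, e3 q18904 (flp_g L226808) q15277, e3 q18905 L226824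 q15291, e3 q18906 L227118 q18943, e3 q18907 L249026 q21495, e3 q18908 (flp_g L226906) q18918, e3 q18909 (flp_g L226842) q15281, e3 q18910 (flp_g L249006) q21492, e3 q18911 (flp_g L227088) q18939, e3 q18912 L226868 q15720, e3 q18913 (flp_g L248439) q21424, e3 q18914 (flp_g L237451) q20173, e3 q18915 (flp_g L226888) q15288, e3 q18916 (flp_g L240688) q20549, e3 q18917 (flp_g L248986) q21490, e3 q18918 L226906 q18908, e3 q18919 (flp_g L248996) q21491, e3 q18920 L226918 q17738, e3 q18921 L249096 q21505, e3 q18922 L226936 q17739, e3 q18923 (flp_g L226942) q15296, e3 q18924 (flp_g L226950) q15297, e3 q18925 L226964 q15305, e3 q18926 L249112 q21507, e3 q18927 (flp_g L226970) q15301, e3 q18928 (flp_g L226974) q15302, e3 q18929 L226990 q18848, e3 q18930 (flp_g L249110) q21506, e3 q18931 (flp_g L227026) q18932, e3 q18932 L227026 q18931, e3 q18933 (flp_g L227040) q15318, e3 q18934 L227052 q15320, e3 q18935 (flp_g L227054) q15308, e3 q18936 (flp_g L240792) q20561, e3 q18937 (flp_g L227066) q15310, e3 q18938 L227078 q17810, e3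 q18939 L227088 q18911, e3 q18940 (flp_g L240798) q20562, e3 q18941 (flp_g L240804) q20563, e3 q18942 L227106 q18885, e3 q18943 (flp_g L227118) q18906, trivial⟩ (by decide +kernel)

theorem ce_g_296 : ∀ r, r < 64 → sm gg (Qf (18944 + r)) = Qf (tab Gen.g (18944 + r)) :=
  edges_tab (sm gg) Qf (tab Gen.g) 18944 [(18944, 18944), (18945, 18849), (18946, 21511), (18947, 21512), (18948, 19739), (18949, 16569), (18950, 20888), (18951, 21273), (18952, 15335), (18953, 15337), (18954, 15338), (18955, 18971), (18956, 20250), (18957, 15440), (18958, 18203), (18959, 18204), (18960, 15333), (18961, 20984), (18962, 21356), (18963, 21535), (18964, 20255), (18965, 18206), (18966, 18967), (18967, 18966), (18968, 16931), (18969, 18207), (18970, 20705), (18971, 18955), (18972, 21549), (18973, 21101), (18974, 18056), (18975, 17687), (18976, 18627), (18977, 20989), (18978, 15340), (18979, 15347), (18980, 16995), (18981, 16730), (18982, 21553), (18983, 18896), (18984, 18984), (18985, 20856), (18986, 18986), (18987, 18185), (18988, 21557),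 (18989, 18989), (18990, 18990), (18991, 15983), (18992, 19216), (18993, 19010), (18994, 19001), (18995, 20966), (18996, 15359), (18997, 21563), (18998, 21564), (18999, 15361), (19000, 20702), (19001, 18994), (19002, 21571), (19003, 15379), (19004, 15364), (19005, 20755), (19006, 20701), (19007, 17684)]
    ⟨e3 q18944 L227126 q18944, e3 q18945 L227135 q18849, e3 q18946 L249166 q21511, e3 q18947 (flp_g L249178) q21512, e3 q18948 (flp_g L233661) q19739, e3 q18949 L227165 q16569, e3 q18950 (flp_g L243983) q20888, e3 q18951 (flp_g L247109) q21273, e3 q18952 L227190 q15335, e3 q18953 L227194 q15337, e3 q18954 L227198 q15338, e3 q18955 (flp_g L227302) q18971, e3 q18956 (flp_g L238075) q20250, e3 q18957 L227216 q15440, e3 q18958 L227226 q18203, e3 q18959 L227236 q18204, e3 q18960 L227244 q15333, e3 q18961 (flp_g L244732) q20984, e3 q18962 (flp_g L247873) q21356, e3 q18963 L249365 q21535, e3 q18964 (flp_g L238115) q20255, e3 q18965 L227268 q18206, e3 q18966 (flp_g L238107) q18967, e3 q18967 L238107 q18966, e3 q18968 (flp_g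 L227280) q16931, e3 q18969 L227290 q18207, e3 q18970 (flp_g L242156) q20705, e3 q18971 L227302 q18955, e3 q18972 L249494 q21549, e3 q18973 (flp_g L245687) q21101, e3 q18974 (flp_g L227316) q18056, e3 q18975 (flp_g L227330) q17687, e3 q18976 L227336 q18627, e3 q18977 (flp_g L244778) q20989, e3 q18978 (flp_g L227342) q15340, e3 q18979 L227356 q15347, e3 q18980 L227367 q16995, e3 q18981 L227379 q16730, e3 q18982 (flp_g L249537) q21553, e3 q18983 (flp_g L227403) q18896, e3 q18984 L227446 q18984, e3 q18985 (flp_g L243667) q20856, e3 q18986 L227467 q18986, e3 q18987 L227474 q18185, e3 q18988 L249575 q21557, e3 q18989 L227490 q18989, e3 q18990 L227499 q18990, e3 q18991 L227508 q15983, e3 q18992 (flp_g L229044) q19216, e3 q18993 (flp_g L227630) q19010, e3 q18994 L227574 q19001, e3 q18995 (flp_g L244615) q20966, e3 q18996 (flp_g L227534) q15359, e3 q18997 L249623 q21563, e3 q18998 L249631 q21564, e3 q18999 (flp_g L227556) q15361, e3 q19000 (flp_g L242126) q20702, e3 q19001 (flp_g L227574) q18994, e3 q19002 L249677 q21571,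 e3 q19003 L227584 q15379, e3 q19004 (flp_g L227586) q15364, e3 q19005 (flp_g L242644) q20755, e3 q19006 L242114 q20701, e3 q19007 (flp_g L227606) q17684, trivial⟩ (by decide +kernel)

theorem ce_g_297 : ∀ r, r < 64 → sm gg (Qf (19008 + r)) = Qf (tab Gen.g (19008 + r)) :=
  edges_tab (sm gg) Qf (tab Gen.g) 19008 [(19008, 15365), (19009, 21550), (19010, 18993), (19011, 15378), (19012, 19567), (19013, 21580), (19014, 15377), (19015, 15369), (19016, 21581), (19017, 15373), (19018, 15413), (19019, 15757), (19020, 19078), (19021, 21579), (19022, 21576), (19023, 19080), (19024, 21591), (19025, 21567), (19026, 21570), (19027, 20699), (19028, 18281), (19029, 15381), (19030, 21572), (19031, 17683), (19032, 18809), (19033, 15384), (19034, 21337), (19035, 15386), (19036, 15387), (19037, 21031), (19038, 18641), (19039, 19176), (19040, 15975), (19041, 21603), (19042, 19052), (19043, 15393), (19044, 15968), (19045, 21606), (19046, 19644), (19047, 15396), (19048, 21610), (19049, 15397), (19050, 19084), (19051, 15398), (19052, 19042),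 (19053, 19087), (19054, 19086), (19055, 19192), (19056, 21620), (19057, 21621), (19058, 15421), (19059, 15404), (19060, 21624), (19061, 15405), (19062, 21627), (19063, 15406), (19064, 18037), (19065, 18758), (19066, 19453), (19067, 19206), (19068, 15513), (19069, 21635), (19070, 15514), (19071, 15410)]
    ⟨e3 q19008 (flp_g L227618) q15365, e3 q19009 (flp_g L249510) q21550, e3 q19010 L227630 q18993, e3 q19011 L227636 q15378, e3 q19012 (flp_g L232234) q19567, e3 q19013 L249739 q21580, e3 q19014 L227648 q15377, e3 q19015 (flp_g L227650) q15369, e3 q19016 L249747 q21581, e3 q19017 (flp_g L227666) q15373, e3 q19018 L227678 q15413, e3 q19019 L227688 q15757, e3 q19020 L228052 q19078, e3 q19021 (flp_g L249737) q21579, e3 q19022 (flp_g L249725) q21576, e3 q19023 (flp_g L228066) q19080, e3 q19024 L249817 q21591, e3 q19025 (flp_g L249663) q21567, e3 q19026 (flp_g L249675) q21570, e3 q19027 (flp_g L242084) q20699, e3 q19028 L227734 q18281, e3 q19029 (flp_g L227738) q15381, e3 q19030 (flp_g L249693) q21572, e3 q19031 L227754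 q17683, e3 q19032 (flp_g L227766) q18809, e3 q19033 (flp_g L227770) q15384, e3 q19034 L247683 q21337, e3 q19035 (flp_g L227784) q15386, e3 q19036 (flp_g L227790) q15387, e3 q19037 (flp_g L245117) q21031, e3 q19038 L227806 q18641, e3 q19039 (flp_g L228738) q19176, e3 q19040 L227819 q15975, e3 q19041 L249913 q21603, e3 q19042 (flp_g L227893) q19052, e3 q19043 (flp_g L227831) q15393, e3 q19044 (flp_g L227849) q15968, e3 q19045 L249935 q21606, e3 q19046 (flp_g L232903) q19644, e3 q19047 (flp_g L227859) q15396, e3 q19048 L249967 q21610, e3 q19049 (flp_g L227871) q15397, e3 q19050 (flp_g L228087) q19084, e3 q19051 (flp_g L227881) q15398, e3 q19052 L227893 q19042, e3 q19053 (flp_g L228107) q19087, e3 q19054 (flp_g L228101) q19086, e3 q19055 (flp_g L228850) q19192, e3 q19056 L250041 q21620, e3 q19057 L250051 q21621, e3 q19058 (flp_g L227919) q15421, e3 q19059 (flp_g L227927) q15404, e3 q19060 L250071 q21624, e3 q19061 (flp_g L227941) q15405, e3 q19062 L250093 q21627, e3 q19063 (flp_g L227951) q15406, e3 q19064 L227961 q18037,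 e3 q19065 L227971 q18758, e3 q19066 (flp_g L231200) q19453, e3 q19067 (flp_g L230909) q19206, e3 q19068 L230903 q15513, e3 q19069 L250159 q21635, e3 q19070 L230898 q15514, e3 q19071 (flp_g L228001) q15410, trivial⟩ (by decide +kernel)

theorem ce_g_298 : ∀ r, r < 64 → sm gg (Qf (19072 + r)) = Qf (tab Gen.g (19072 + r)) :=
  edges_tab (sm gg) Qf (tab Gen.g) 19072 [(19072, 15518), (19073, 21582), (19074, 21642), (19075, 21643), (19076, 15414), (19077, 19213), (19078, 19020), (19079, 15415), (19080, 19023), (19081, 19450), (19082, 15417), (19083, 21619), (19084, 19050), (19085, 15424), (19086, 19054), (19087, 19053), (19088, 21648), (19089, 16700), (19090, 21657), (19091, 21659), (19092, 18034), (19093, 20868), (19094, 20732), (19095, 15429), (19096, 20309), (19097, 17618), (19098, 20242), (19099, 15434), (19100, 15435), (19101, 21661), (19102, 18487), (19103, 21667), (19104, 21670), (19105, 15436), (19106, 21674), (19107, 21675), (19108, 15438), (19109, 15444), (19110, 19164), (19111, 21299), (19112, 18747), (19113,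 15441), (19114, 15442), (19115, 21656), (19116, 20246), (19117, 21014), (19118, 20253), (19119, 20284), (19120, 16929), (19121, 18406), (19122, 15451), (19123, 20847), (19124, 15453), (19125, 18390), (19126, 18333), (19127, 16410), (19128, 15753), (19129, 21685), (19130, 15458), (19131, 15459), (19132, 15481), (19133, 15483), (19134, 15465), (19135, 18209)]
    ⟨e3 q19072 L230825 q15518, e3 q19073 (flp_g L249761) q21582, e3 q19074 L250216 q21642, e3 q19075 L250226 q21643, e3 q19076 (flp_g L228034) q15414, e3 q19077 (flp_g L230907) q19213, e3 q19078 (flp_g L228052) q19020, e3 q19079 (flp_g L228054) q15415, e3 q19080 L228066 q19023, e3 q19081 L231182 q19450, e3 q19082 (flp_g L228075) q15417, e3 q19083 L250039 q21619, e3 q19084 L228087 q19050, e3 q19085 L228095 q15424, e3 q19086 L228101 q19054, e3 q19087 L228107 q19053, e3 q19088 (flp_g L250274) q21648, e3 q19089 L228119 q16700, e3 q19090 L250348 q21657, e3 q19091 L250369 q21659, e3 q19092 L228138 q18034, e3 q19093 (flp_g L243773) q20868, e3 q19094 L242414 q20732,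 e3 q19095 (flp_g L228148) q15429, e3 q19096 (flp_g L238546) q20309, e3 q19097 L228168 q17618, e3 q19098 L238027 q20242, e3 q19099 L228182 q15434, e3 q19100 L228192 q15435, e3 q19101 (flp_g L250406) q21661, e3 q19102 L228206 q18487, e3 q19103 L250444 q21667, e3 q19104 L250478 q21670, e3 q19105 (flp_g L228214) q15436, e3 q19106 L250526 q21674, e3 q19107 L250540 q21675, e3 q19108 (flp_g L228228) q15438, e3 q19109 L228242 q15444, e3 q19110 L228645 q19164, e3 q19111 L247303 q21299, e3 q19112 (flp_g L228262) q18747, e3 q19113 (flp_g L228254) q15441, e3 q19114 (flp_g L228264) q15442, e3 q19115 L250344 q21656, e3 q19116 (flp_g L238053) q20246, e3 q19117 L244953 q21014, e3 q19118 (flp_g L238095) q20253, e3 q19119 (flp_g L238357) q20284, e3 q19120 L228319 q16929, e3 q19121 (flp_g L228333) q18406, e3 q19122 (flp_g L228335) q15451, e3 q19123 (flp_g L243577) q20847, e3 q19124 (flp_g L228356) q15453, e3 q19125 L228371 q18390, e3 q19126 L228379 q18333, e3 q19127 (flp_g L228385) q16410, e3 q19128 (flp_g L228398) q15753, e3 q19129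 L250639 q21685, e3 q19130 (flp_g L228407) q15458, e3 q19131 (flp_g L228419) q15459, e3 q19132 L228433 q15481, e3 q19133 L228439 q15483, e3 q19134 L228447 q15465, e3 q19135 L228457 q18209, trivial⟩ (by decide +kernel)

theorem ce_g_299 : ∀ r, r < 64 → sm gg (Qf (19136 + r)) = Qf (tab Gen.g (19136 + r)) :=
  edges_tab (sm gg) Qf (tab Gen.g) 19136 [(19136, 21665), (19137, 21664), (19138, 18210), (19139, 17965), (19140, 21693), (19141, 21697), (19142, 19162), (19143, 15468), (19144, 17798), (19145, 17753), (19146, 19805), (19147, 15469), (19148, 21698), (19149, 21701), (19150, 15472), (19151, 19214), (19152, 21704), (19153, 19159), (19154, 15473), (19155, 15760), (19156, 15478), (19157, 19417), (19158, 21686), (19159, 19153), (19160, 21687), (19161, 19190), (19162, 19142), (19163, 21688), (19164, 19110), (19165, 15488), (19166, 19170), (19167, 21552), (19168, 20737), (19169, 15487), (19170, 19166), (19171, 19820), (19172, 20445), (19173, 18546), (19174, 20995), (19175, 15512), (19176, 19039), (19177, 19651), (19178,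 21720), (19179, 19189), (19180, 15497), (19181, 19446), (19182, 21723), (19183, 21724), (19184, 15500), (19185, 21725), (19186, 15501), (19187, 15502), (19188, 15508), (19189, 19179), (19190, 19161), (19191, 15510), (19192, 19055), (19193, 21726), (19194, 19195), (19195, 19194), (19196, 15524), (19197, 19219), (19198, 15526), (19199, 21730)]
    ⟨e3 q19136 (flp_g L250436) q21665, e3 q19137 (flp_g L250426) q21664, e3 q19138 (flp_g L228475) q18210, e3 q19139 L228483 q17965, e3 q19140 L250713 q21693, e3 q19141 L250739 q21697, e3 q19142 (flp_g L228631) q19162, e3 q19143 (flp_g L228507) q15468, e3 q19144 L228527 q17798, e3 q19145 (flp_g L228521) q17753, e3 q19146 (flp_g L234179) q19805, e3 q19147 (flp_g L228533) q15469, e3 q19148 (flp_g L250753) q21698, e3 q19149 L250775 q21701, e3 q19150 (flp_g L228557) q15472, e3 q19151 L229027 q19214, e3 q19152 L250797 q21704, e3 q19153 (flp_g L228617) q19159, e3 q19154 (flp_g L228581) q15473, e3 q19155 (flp_g L228591) q15760, e3 q19156 (flp_g L228595) q15478, e3 q19157 (flp_g L230766)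 q19417, e3 q19158 (flp_g L250657) q21686, e3 q19159 L228617 q19153, e3 q19160 (flp_g L250665) q21687, e3 q19161 (flp_g L228838) q19190, e3 q19162 L228631 q19142, e3 q19163 (flp_g L250675) q21688, e3 q19164 (flp_g L228645) q19110, e3 q19165 L228653 q15488, e3 q19166 (flp_g L228699) q19170, e3 q19167 (flp_g L249526) q21552, e3 q19168 (flp_g L242468) q20737, e3 q19169 (flp_g L228681) q15487, e3 q19170 L228699 q19166, e3 q19171 (flp_g L234331) q19820, e3 q19172 (flp_g L239819) q20445, e3 q19173 (flp_g L228719) q18546, e3 q19174 (flp_g L244822) q20995, e3 q19175 L228729 q15512, e3 q19176 L228738 q19039, e3 q19177 L232971 q19651, e3 q19178 L250941 q21720, e3 q19179 (flp_g L228830) q19189, e3 q19180 (flp_g L228764) q15497, e3 q19181 (flp_g L231152) q19446, e3 q19182 L250969 q21723, e3 q19183 L250975 q21724, e3 q19184 (flp_g L228796) q15500, e3 q19185 L250987 q21725, e3 q19186 (flp_g L228806) q15501, e3 q19187 (flp_g L228812) q15502, e3 q19188 L228822 q15508, e3 q19189 L228830 q19179, e3 q19190 L228838 q19161, e3 q19191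 L228844 q15510, e3 q19192 L228850 q19055, e3 q19193 (flp_g L251001) q21726, e3 q19194 L228872 q19195, e3 q19195 (flp_g L228872) q19194, e3 q19196 (flp_g L228884) q15524, e3 q19197 (flp_g L229066) q19219, e3 q19198 L228900 q15526, e3 q19199 (flp_g L251033) q21730, trivial⟩ (by decide +kernel)

theorem ce_g_300 : ∀ r, r < 64 → sm gg (Qf (19200 + r)) = Qf (tab Gen.g (19200 + r)) :=
  edges_tab (sm gg) Qf (tab Gen.g) 19200 [(19200, 15527), (19201, 20900), (19202, 21411), (19203, 19203), (19204, 21632), (19205, 21634), (19206, 19067), (19207, 21746), (19208, 15516), (19209, 21636), (19210, 15892), (19211, 21637), (19212, 21638), (19213, 19077), (19214, 19151), (19215, 19215), (19216, 18992), (19217, 21734), (19218, 21735), (19219, 19197), (19220, 21589), (19221, 21737), (19222, 21739), (19223, 20131), (19224, 21272), (19225, 15539), (19226, 15540), (19227, 19235), (19228, 15547), (19229, 15549), (19230, 20431), (19231, 21761), (19232, 16042), (19233, 17198), (19234, 19696), (19235, 19227), (19236, 19241), (19237, 15541),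 (19238, 21330), (19239, 15542), (19240, 17438), (19241, 19236), (19242, 21760), (19243, 16833), (19244, 19550), (19245, 20229), (19246, 15589), (19247, 15590), (19248, 15964), (19249, 15594), (19250, 15595), (19251, 19285), (19252, 19286), (19253, 20199), (19254, 19504), (19255, 15829), (19256, 15830), (19257, 19257), (19258, 19258), (19259, 15580), (19260, 15572), (19261, 15616), (19262, 15575), (19263, 15577)]
    ⟨e3 q19200 (flp_g L228912) q15527, e3 q19201 (flp_g L244113) q20900, e3 q19202 (flp_g L248332) q21411, e3 q19203 L230927 q19203, e3 q19204 (flp_g L250142) q21632, e3 q19205 (flp_g L250157) q21634, e3 q19206 L230909 q19067, e3 q19207 L251179 q21746, e3 q19208 (flp_g L228985) q15516, e3 q19209 (flp_g L250175) q21636, e3 q19210 L229001 q15892, e3 q19211 (flp_g L250183) q21637, e3 q19212 (flp_g L250189) q21638, e3 q19213 L230907 q19077, e3 q19214 (flp_g L229027) q19151, e3 q19215 L229035 q19215, e3 q19216 L229044 q18992, e3 q19217 L251077 q21734, e3 q19218 (flp_g L251089) q21735, e3 q19219 L229066 q19197,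 e3 q19220 L249809 q21589, e3 q19221 (flp_g L251103) q21737, e3 q19222 L251121 q21739, e3 q19223 (flp_g L237087) q20131, e3 q19224 L247103 q21272, e3 q19225 L229108 q15539, e3 q19226 L229114 q15540, e3 q19227 L229194 q19235, e3 q19228 L229138 q15547, e3 q19229 L229148 q15549, e3 q19230 (flp_g L239701) q20431, e3 q19231 L251327 q21761, e3 q19232 L229168 q16042, e3 q19233 L229174 q17198, e3 q19234 (flp_g L233315) q19696, e3 q19235 (flp_g L229194) q19227, e3 q19236 (flp_g L229246) q19241, e3 q19237 (flp_g L229206) q15541, e3 q19238 (flp_g L247616) q21330, e3 q19239 (flp_g L229222) q15542, e3 q19240 L229238 q17438, e3 q19241 L229246 q19236, e3 q19242 (flp_g L251323) q21760, e3 q19243 L229266 q16833, e3 q19244 L232092 q19550, e3 q19245 (flp_g L237949) q20229, e3 q19246 L229288 q15589, e3 q19247 L229298 q15590, e3 q19248 (flp_g L229308) q15964, e3 q19249 L229318 q15594, e3 q19250 L229330 q15595, e3 q19251 (flp_g L229644) q19285, e3 q19252 (flp_g L229654) q19286, e3 q19253 L237681 q20199, e3 q19254 (flp_g L231660) q19504,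 e3 q19255 L229370 q15829, e3 q19256 L229378 q15830, e3 q19257 L229390 q19257, e3 q19258 L229397 q19258, e3 q19259 L229412 q15580, e3 q19260 L229426 q15572, e3 q19261 L229436 q15616, e3 q19262 L229448 q15575, e3 q19263 L229452 q15577, trivial⟩ (by decide +kernel)

theorem ce_g_301 : ∀ r, r < 64 → sm gg (Qf (19264 + r)) = Qf (tab Gen.g (19264 + r)) :=
  edges_tab (sm gg) Qf (tab Gen.g) 19264 [(19264, 16809), (19265, 15582), (19266, 15584), (19267, 15585), (19268, 21427), (19269, 21426), (19270, 20468), (19271, 16840), (19272, 17279), (19273, 16831), (19274, 21776), (19275, 16084), (19276, 18700), (19277, 15924), (19278, 18019), (19279, 18829), (19280, 18073), (19281, 19761), (19282, 18614), (19283, 21786), (19284, 21767), (19285, 19251), (19286, 19252), (19287, 19548), (19288, 20846), (19289, 18633), (19290, 18018), (19291, 18004), (19292, 15593), (19293, 18798), (19294, 20892), (19295, 21769), (19296, 20934), (19297, 18050), (19298, 16096), (19299, 21794), (19300, 15598), (19301, 18743), (19302, 16747), (19303, 17433),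 (19304, 16466), (19305, 21260), (19306, 18597), (19307, 15617), (19308, 15618), (19309, 19314), (19310, 19789), (19311, 16105), (19312, 17308), (19313, 15624), (19314, 19309), (19315, 16003), (19316, 16147), (19317, 16837), (19318, 16946), (19319, 19786), (19320, 20483), (19321, 19598), (19322, 20759), (19323, 20570), (19324, 19551), (19325, 21802), (19326, 15640), (19327, 15641)]
    ⟨e3 q19264 L229458 q16809, e3 q19265 L229470 q15582, e3 q19266 L229476 q15584, e3 q19267 L229492 q15585, e3 q19268 (flp_g L248465) q21427, e3 q19269 (flp_g L248453) q21426, e3 q19270 (flp_g L240031) q20468, e3 q19271 L229512 q16840, e3 q19272 L229524 q17279, e3 q19273 L229532 q16831, e3 q19274 (flp_g L251494) q21776, e3 q19275 L229546 q16084, e3 q19276 L229556 q18700, e3 q19277 L229566 q15924, e3 q19278 L229574 q18019, e3 q19279 L229588 q18829, e3 q19280 L229602 q18073, e3 q19281 (flp_g L233855) q19761, e3 q19282 L229622 q18614, e3 q19283 L251592 q21786, e3 q19284 (flp_g L251387) q21767, e3 q19285 L229644 q19251, e3 q19286 L229654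 q19252, e3 q19287 (flp_g L232082) q19548, e3 q19288 (flp_g L243567) q20846, e3 q19289 (flp_g L229668) q18633, e3 q19290 (flp_g L229680) q18018, e3 q19291 (flp_g L229690) q18004, e3 q19292 (flp_g L229698) q15593, e3 q19293 L229716 q18798, e3 q19294 (flp_g L244017) q20892, e3 q19295 (flp_g L251409) q21769, e3 q19296 (flp_g L244373) q20934, e3 q19297 (flp_g L229746) q18050, e3 q19298 (flp_g L229756) q16096, e3 q19299 L251678 q21794, e3 q19300 (flp_g L229762) q15598, e3 q19301 L229778 q18743, e3 q19302 L229806 q16747, e3 q19303 L229822 q17433, e3 q19304 L229834 q16466, e3 q19305 (flp_g L246999) q21260, e3 q19306 (flp_g L229858) q18597, e3 q19307 (flp_g L229860) q15617, e3 q19308 (flp_g L229868) q15618, e3 q19309 (flp_g L229938) q19314, e3 q19310 L234055 q19789, e3 q19311 L229904 q16105, e3 q19312 (flp_g L229916) q17308, e3 q19313 (flp_g L229918) q15624, e3 q19314 L229938 q19309, e3 q19315 L229950 q16003, e3 q19316 L229962 q16147, e3 q19317 L229970 q16837, e3 q19318 L229978 q16946, e3 q19319 L234029 q19786, e3 q19320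 (flp_g L240127) q20483, e3 q19321 (flp_g L232510) q19598, e3 q19322 (flp_g L242691) q20759, e3 q19323 (flp_g L240870) q20570, e3 q19324 (flp_g L232102) q19551, e3 q19325 L251780 q21802, e3 q19326 (flp_g L230038) q15640, e3 q19327 (flp_g L230042) q15641, trivial⟩ (by decide +kernel)

theorem ce_g_302 : ∀ r, r < 64 → sm gg (Qf (19328 + r)) = Qf (tab Gen.g (19328 + r)) :=
  edges_tab (sm gg) Qf (tab Gen.g) 19328 [(19328, 15647), (19329, 19329), (19330, 17782), (19331, 17255), (19332, 21803), (19333, 17366), (19334, 19472), (19335, 15648), (19336, 18708), (19337, 15650), (19338, 21325), (19339, 15651), (19340, 15652), (19341, 21808), (19342, 19575), (19343, 19353), (19344, 15657), (19345, 21811), (19346, 21813), (19347, 15658), (19348, 21708), (19349, 15895), (19350, 15659), (19351, 15889), (19352, 15660), (19353, 19343), (19354, 15756), (19355, 15759), (19356, 19420), (19357, 19563), (19358, 19568), (19359, 21160), (19360, 15665), (19361, 21820), (19362, 21064), (19363, 15666), (19364, 19751), (19365, 21822), (19366,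 15667), (19367, 21257), (19368, 15668), (19369, 18494), (19370, 17578), (19371, 15679), (19372, 18130), (19373, 18131), (19374, 15683), (19375, 17305), (19376, 20646), (19377, 20641), (19378, 20647), (19379, 20843), (19380, 15690), (19381, 16278), (19382, 17528), (19383, 20665), (19384, 17607), (19385, 15697), (19386, 19477), (19387, 15700), (19388, 15707), (19389, 21829), (19390, 15706), (19391, 15708)]
    ⟨e3 q19328 L230060 q15647, e3 q19329 L230067 q19329, e3 q19330 L230072 q17782, e3 q19331 L230086 q17255, e3 q19332 (flp_g L251799) q21803, e3 q19333 L230106 q17366, e3 q19334 (flp_g L231356) q19472, e3 q19335 (flp_g L230120) q15648, e3 q19336 L230138 q18708, e3 q19337 (flp_g L230142) q15650, e3 q19338 (flp_g L247557) q21325, e3 q19339 (flp_g L230162) q15651, e3 q19340 (flp_g L230174) q15652, e3 q19341 L251834 q21808, e3 q19342 (flp_g L232304) q19575, e3 q19343 (flp_g L230254) q19353, e3 q19344 (flp_g L230198) q15657, e3 q19345 L251864 q21811, e3 q19346 L251884 q21813, e3 q19347 (flp_g L230216) q15658, e3 q19348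 (flp_g L250825) q21708, e3 q19349 (flp_g L230917) q15895, e3 q19350 (flp_g L230230) q15659, e3 q19351 L230952 q15889, e3 q19352 (flp_g L230244) q15660, e3 q19353 L230254 q19343, e3 q19354 L230262 q15756, e3 q19355 L230270 q15759, e3 q19356 (flp_g L230802) q19420, e3 q19357 L232208 q19563, e3 q19358 (flp_g L232246) q19568, e3 q19359 L246138 q21160, e3 q19360 (flp_g L230288) q15665, e3 q19361 L251948 q21820, e3 q19362 (flp_g L245379) q21064, e3 q19363 (flp_g L230310) q15666, e3 q19364 L233765 q19751, e3 q19365 L251972 q21822, e3 q19366 (flp_g L230334) q15667, e3 q19367 (flp_g L246965) q21257, e3 q19368 (flp_g L230344) q15668, e3 q19369 L230354 q18494, e3 q19370 L230368 q17578, e3 q19371 (flp_g L230370) q15679, e3 q19372 L230390 q18130, e3 q19373 (flp_g L230400) q18131, e3 q19374 (flp_g L230404) q15683, e3 q19375 L230420 q17305, e3 q19376 (flp_g L241592) q20646, e3 q19377 (flp_g L241534) q20641, e3 q19378 (flp_g L241604) q20647, e3 q19379 (flp_g L243547) q20843, e3 q19380 (flp_g L230454) q15690, e3 q19381 L230472 q16278,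 e3 q19382 L230482 q17528, e3 q19383 (flp_g L241740) q20665, e3 q19384 L230502 q17607, e3 q19385 (flp_g L230506) q15697, e3 q19386 (flp_g L231402) q19477, e3 q19387 (flp_g L230526) q15700, e3 q19388 L230545 q15707, e3 q19389 L252044 q21829, e3 q19390 (flp_g L230558) q15706, e3 q19391 (flp_g L230566) q15708, trivial⟩ (by decide +kernel)

theorem ce_g_303 : ∀ r, r < 64 → sm gg (Qf (19392 + r)) = Qf (tab Gen.g (19392 + r)) :=
  edges_tab (sm gg) Qf (tab Gen.g) 19392 [(19392, 15776), (19393, 18036), (19394, 17263), (19395, 21831), (19396, 15712), (19397, 19411), (19398, 15714), (19399, 20429), (19400, 19608), (19401, 19654), (19402, 15944), (19403, 15718), (19404, 21836), (19405, 21499), (19406, 15719), (19407, 21425), (19408, 19656), (19409, 17348), (19410, 15722), (19411, 19397), (19412, 21842), (19413, 15724), (19414, 15761), (19415, 15764), (19416, 15954), (19417, 19157), (19418, 15955), (19419, 15959), (19420, 19356), (19421, 15734), (19422, 15735), (19423, 16816), (19424, 18617), (19425, 20913), (19426, 16408),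 (19427, 16517), (19428, 16382), (19429, 19629), (19430, 21849), (19431, 19442), (19432, 15742), (19433, 15743), (19434, 17792), (19435, 21853), (19436, 20751), (19437, 15746), (19438, 21854), (19439, 21639), (19440, 15747), (19441, 15748), (19442, 19431), (19443, 15750), (19444, 21297), (19445, 15751), (19446, 19181), (19447, 15887), (19448, 21816), (19449, 21583), (19450, 19081), (19451, 21608), (19452, 21683), (19453, 19066), (19454, 20565), (19455, 17024)]
    ⟨e3 q19392 L230582 q15776, e3 q19393 L230590 q18036, e3 q19394 L230600 q17263, e3 q19395 L252070 q21831, e3 q19396 (flp_g L230616) q15712, e3 q19397 (flp_g L230720) q19411, e3 q19398 (flp_g L230632) q15714, e3 q19399 (flp_g L239679) q20429, e3 q19400 (flp_g L232604) q19608, e3 q19401 (flp_g L232993) q19654, e3 q19402 (flp_g L230925) q15944, e3 q19403 (flp_g L230664) q15718, e3 q19404 L252114 q21836, e3 q19405 (flp_g L249060) q21499, e3 q19406 (flp_g L230682) q15719, e3 q19407 (flp_g L248445) q21425, e3 q19408 L233013 q19656, e3 q19409 L230700 q17348, e3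 q19410 (flp_g L230702) q15722, e3 q19411 L230720 q19397, e3 q19412 L252164 q21842, e3 q19413 (flp_g L230732) q15724, e3 q19414 L230915 q15761, e3 q19415 L230913 q15764, e3 q19416 (flp_g L230889) q15954, e3 q19417 L230766 q19157, e3 q19418 (flp_g L230919) q15955, e3 q19419 L230816 q15959, e3 q19420 L230802 q19356, e3 q19421 (flp_g L230804) q15734, e3 q19422 (flp_g L230968) q15735, e3 q19423 L230984 q16816, e3 q19424 L230996 q18617, e3 q19425 (flp_g L244231) q20913, e3 q19426 L231010 q16408, e3 q19427 L231018 q16517, e3 q19428 L231028 q16382, e3 q19429 L232805 q19629, e3 q19430 L252239 q21849, e3 q19431 (flp_g L231112) q19442, e3 q19432 (flp_g L231046) q15742, e3 q19433 (flp_g L231052) q15743, e3 q19434 (flp_g L231068) q17792, e3 q19435 L252269 q21853, e3 q19436 (flp_g L242602) q20751, e3 q19437 (flp_g L231080) q15746, e3 q19438 L252275 q21854, e3 q19439 L250196 q21639, e3 q19440 (flp_g L231094) q15747, e3 q19441 (flp_g L231098) q15748, e3 q19442 L231112 q19431, e3 q19443 (flp_g L231114) q15750, e3 q19444 (flp_g L247282)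 q21297, e3 q19445 (flp_g L231132) q15751, e3 q19446 L231152 q19181, e3 q19447 L231156 q15887, e3 q19448 (flp_g L251918) q21816, e3 q19449 (flp_g L249771) q21583, e3 q19450 (flp_g L231182) q19081, e3 q19451 (flp_g L249959) q21608, e3 q19452 (flp_g L250629) q21683, e3 q19453 L231200 q19066, e3 q19454 L240827 q20565, e3 q19455 L231212 q17024, trivial⟩ (by decide +kernel)

theorem ce_g_304 : ∀ r, r < 64 → sm gg (Qf (19456 + r)) = Qf (tab Gen.g (19456 + r)) :=
  edges_tab (sm gg) Qf (tab Gen.g) 19456 [(19456, 21129), (19457, 20322), (19458, 21143), (19459, 18409), (19460, 21144), (19461, 21864), (19462, 15768), (19463, 18411), (19464, 15771), (19465, 19471), (19466, 15788), (19467, 20880), (19468, 15779), (19469, 15780), (19470, 15781), (19471, 19465), (19472, 19334), (19473, 15884), (19474, 20495), (19475, 21867), (19476, 15784), (19477, 19386), (19478, 20491), (19479, 15799), (19480, 20165), (19481, 18121), (19482, 18122), (19483, 18027), (19484, 21871), (19485, 15796), (19486, 15797), (19487, 16811), (19488, 15821),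 (19489, 18078), (19490, 15820), (19491, 17203), (19492, 15802), (19493, 17471), (19494, 19536), (19495, 17321), (19496, 21328), (19497, 16007), (19498, 21329), (19499, 15920), (19500, 19543), (19501, 19962), (19502, 21305), (19503, 15817), (19504, 19254), (19505, 21873), (19506, 20204), (19507, 21880), (19508, 19595), (19509, 15822), (19510, 17975), (19511, 18681), (19512, 17987), (19513, 15824), (19514, 18619), (19515, 21343), (19516, 21773), (19517, 17564), (19518, 18001), (19519, 17974)]
    ⟨e3 q19456 (flp_g L245895) q21129, e3 q19457 L238651 q20322, e3 q19458 (flp_g L245996) q21143, e3 q19459 (flp_g L231240) q18409, e3 q19460 (flp_g L246008) q21144, e3 q19461 L252377 q21864, e3 q19462 (flp_g L231252) q15768, e3 q19463 (flp_g L231268) q18411, e3 q19464 (flp_g L231272) q15771, e3 q19465 (flp_g L231346) q19471, e3 q19466 L231298 q15788, e3 q19467 (flp_g L243909) q20880, e3 q19468 (flp_g L231312) q15779, e3 q19469 (flp_g L231320) q15780, e3 q19470 (flp_g L231332) q15781, e3 q19471 L231346 q19465, e3 q19472 L231356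 q19334, e3 q19473 (flp_g L231368) q15884, e3 q19474 (flp_g L240235) q20495, e3 q19475 L252411 q21867, e3 q19476 (flp_g L231388) q15784, e3 q19477 L231402 q19386, e3 q19478 L240201 q20491, e3 q19479 L231422 q15799, e3 q19480 (flp_g L237391) q20165, e3 q19481 L231442 q18121, e3 q19482 L231454 q18122, e3 q19483 (flp_g L231468) q18027, e3 q19484 L252451 q21871, e3 q19485 (flp_g L231478) q15796, e3 q19486 (flp_g L231490) q15797, e3 q19487 L231506 q16811, e3 q19488 L231516 q15821, e3 q19489 L231526 q18078, e3 q19490 L231535 q15820, e3 q19491 (flp_g L231546) q17203, e3 q19492 (flp_g L231548) q15802, e3 q19493 L231572 q17471, e3 q19494 (flp_g L231968) q19536, e3 q19495 L231594 q17321, e3 q19496 (flp_g L247590) q21328, e3 q19497 L231608 q16007, e3 q19498 (flp_g L247602) q21329, e3 q19499 L231630 q15920, e3 q19500 (flp_g L232040) q19543, e3 q19501 (flp_g L235599) q19962, e3 q19502 (flp_g L247365) q21305, e3 q19503 (flp_g L231648) q15817, e3 q19504 L231660 q19254, e3 q19505 (flp_g L252478) q21873, e3 q19506 (flp_g L237735)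 q20204, e3 q19507 L252552 q21880, e3 q19508 (flp_g L232478) q19595, e3 q19509 (flp_g L231698) q15822, e3 q19510 L231716 q17975, e3 q19511 (flp_g L231730) q18681, e3 q19512 (flp_g L231742) q17987, e3 q19513 (flp_g L231744) q15824, e3 q19514 L231760 q18619, e3 q19515 L247743 q21343, e3 q19516 (flp_g L251459) q21773, e3 q19517 (flp_g L231776) q17564, e3 q19518 L231786 q18001, e3 q19519 (flp_g L231796) q17974, trivial⟩ (by decide +kernel)

theorem ce_g_305 : ∀ r, r < 64 → sm gg (Qf (19520 + r)) = Qf (tab Gen.g (19520 + r)) :=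
  edges_tab (sm gg) Qf (tab Gen.g) 19520 [(19520, 15831), (19521, 18741), (19522, 15832), (19523, 20684), (19524, 15833), (19525, 18616), (19526, 17737), (19527, 19680), (19528, 16012), (19529, 20919), (19530, 17458), (19531, 15846), (19532, 15848), (19533, 17612), (19534, 19990), (19535, 15851), (19536, 19494), (19537, 15856), (19538, 15858), (19539, 21889), (19540, 21890), (19541, 15859), (19542, 16077), (19543, 19500), (19544, 20662), (19545, 15867), (19546, 21892), (19547, 17334), (19548, 19287), (19549, 21893), (19550, 19244), (19551, 19324), (19552, 15874), (19553, 15931), (19554, 17771), (19555, 21895), (19556, 20766), (19557, 15877), (19558, 15934), (19559, 19560), (19560, 19559), (19561, 21856), (19562, 21815), (19563, 19357), (19564, 15888), (19565, 21899), (19566, 21902), (19567, 19012), (19568, 19358), (19569, 15890), (19570, 21748), (19571, 21848), (19572, 15893), (19573, 21809), (19574, 21206), (19575, 19342), (19576, 18244), (19577, 18243), (19578, 21024), (19579, 17708), (19580, 18242), (19581, 18522),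 (19582, 21233), (19583, 21021)]
    ⟨e3 q19520 (flp_g L231798) q15831, e3 q19521 (flp_g L231820) q18741, e3 q19522 (flp_g L231822) q15832, e3 q19523 L241932 q20684, e3 q19524 (flp_g L231836) q15833, e3 q19525 L231846 q18616, e3 q19526 L231856 q17737, e3 q19527 L233197 q19680, e3 q19528 L231872 q16012, e3 q19529 (flp_g L244269) q20919, e3 q19530 (flp_g L231898) q17458, e3 q19531 (flp_g L231902) q15846, e3 q19532 L231924 q15848, e3 q19533 L231934 q17612, e3 q19534 L235868 q19990, e3 q19535 (flp_g L231946) q15851, e3 q19536 L231968 q19494, e3 q19537 L231978 q15856, e3 q19538 L231986 q15858, e3 q19539 (flp_g L252650) q21889, e3 q19540 (flp_g L252660) q21890, e3 q19541 (flp_g L232008) q15859, e3 q19542 L232028 q16077, e3 q19543 L232040 q19500, e3 q19544 L241716 q20662, e3 q19545 L232056 q15867, e3 q19546 (flp_g L252688) q21892, e3 q19547 L232074 q17334, e3 q19548 L232082 q19287, e3 q19549 L252694 q21893, e3 q19550 (flp_g L232092) q19244, e3 q19551 L232102 q19324, e3 q19552 (flp_g L232104) q15874, e3 q19553 L232122 q15931,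 e3 q19554 L232133 q17771, e3 q19555 L252718 q21895, e3 q19556 (flp_g L242759) q20766, e3 q19557 (flp_g L232150) q15877, e3 q19558 L232167 q15934, e3 q19559 (flp_g L232188) q19560, e3 q19560 L232188 q19559, e3 q19561 (flp_g L252301) q21856, e3 q19562 (flp_g L251908) q21815, e3 q19563 (flp_g L232208) q19357, e3 q19564 (flp_g L232218) q15888, e3 q19565 (flp_g L252756) q21899, e3 q19566 L252776 q21902, e3 q19567 L232234 q19012, e3 q19568 L232246 q19358, e3 q19569 (flp_g L232250) q15890, e3 q19570 (flp_g L251205) q21748, e3 q19571 (flp_g L252235) q21848, e3 q19572 (flp_g L232278) q15893, e3 q19573 (flp_g L251850) q21809, e3 q19574 (flp_g L246529) q21206, e3 q19575 L232304 q19342, e3 q19576 L232312 q18244, e3 q19577 L232322 q18243, e3 q19578 L245041 q21024, e3 q19579 L232336 q17708, e3 q19580 L232344 q18242, e3 q19581 (flp_g L232354) q18522, e3 q19582 (flp_g L246735) q21233, e3 q19583 L245013 q21021, trivial⟩ (by decide +kernel)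

theorem ce_g_306 : ∀ r, r < 64 → sm gg (Qf (19584 + r)) = Qf (tab Gen.g (19584 + r)) :=
  edges_tab (sm gg) Qf (tab Gen.g) 19584 [(19584, 15899), (19585, 15904), (19586, 17228), (19587, 20161), (19588, 15912), (19589, 20805), (19590, 17047), (19591, 21235), (19592, 15919), (19593, 20964), (19594, 18044), (19595, 19508), (19596, 15925), (19597, 21783), (19598, 19321), (19599, 21894), (19600, 15935), (19601, 15965), (19602, 19792), (19603, 19616), (19604, 15940), (19605, 21152), (19606, 21832), (19607, 21833), (19608, 19400), (19609, 21914), (19610, 21915), (19611, 15945), (19612, 21359), (19613, 15946), (19614, 21834), (19615, 15948), (19616, 19603), (19617, 15960), (19618, 16800), (19619, 19619), (19620, 21843), (19621, 21844), (19622, 15957), (19623, 17812), (19624, 21922), (19625, 15961), (19626, 21768), (19627, 19944), (19628, 21817), (19629, 19429), (19630, 15966), (19631, 21604), (19632, 19643), (19633, 15967), (19634, 19647), (19635, 20745), (19636, 21928), (19637, 21925), (19638, 15971), (19639, 21601),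 (19640, 21930), (19641, 15972), (19642, 15973), (19643, 19632), (19644, 19046), (19645, 15976), (19646, 15986), (19647, 19634)]
    ⟨e3 q19584 (flp_g L232362) q15899, e3 q19585 (flp_g L232372) q15904, e3 q19586 L232394 q17228, e3 q19587 (flp_g L237358) q20161, e3 q19588 (flp_g L232407) q15912, e3 q19589 (flp_g L243121) q20805, e3 q19590 L232434 q17047, e3 q19591 (flp_g L246755) q21235, e3 q19592 L232452 q15919, e3 q19593 (flp_g L244601) q20964, e3 q19594 L232464 q18044, e3 q19595 L232478 q19508, e3 q19596 L232488 q15925, e3 q19597 (flp_g L251574) q21783, e3 q19598 L232510 q19321, e3 q19599 (flp_g L252715) q21894, e3 q19600 L232532 q15935, e3 q19601 L232542 q15965, e3 q19602 (flp_g L234087) q19792, e3 q19603 (flp_g L232668) q19616, e3 q19604 (flp_g L232564) q15940, e3 q19605 (flp_g L246070) q21152, e3 q19606 (flp_g L252088) q21832, e3 q19607 (flp_g L252096) q21833, e3 q19608 L232604 q19400, e3 q19609 L252906 q21914, e3 q19610 L252918 q21915, e3 q19611 (flp_g L232624) q15945, e3 q19612 (flp_g L247900) q21359, e3 q19613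 (flp_g L232638) q15946, e3 q19614 (flp_g L252102) q21834, e3 q19615 (flp_g L232650) q15948, e3 q19616 L232668 q19603, e3 q19617 L232676 q15960, e3 q19618 L232686 q16800, e3 q19619 L232694 q19619, e3 q19620 (flp_g L252182) q21843, e3 q19621 (flp_g L252195) q21844, e3 q19622 (flp_g L232721) q15957, e3 q19623 L232743 q17812, e3 q19624 L252986 q21922, e3 q19625 (flp_g L232755) q15961, e3 q19626 (flp_g L251399) q21768, e3 q19627 (flp_g L235431) q19944, e3 q19628 (flp_g L251932) q21817, e3 q19629 (flp_g L232805) q19429, e3 q19630 (flp_g L232807) q15966, e3 q19631 L249927 q21604, e3 q19632 (flp_g L232893) q19643, e3 q19633 (flp_g L232827) q15967, e3 q19634 (flp_g L232935) q19647, e3 q19635 (flp_g L242544) q20745, e3 q19636 L253052 q21928, e3 q19637 (flp_g L253028) q21925, e3 q19638 (flp_g L232863) q15971, e3 q19639 (flp_g L249903) q21601, e3 q19640 L253068 q21930, e3 q19641 (flp_g L232877) q15972, e3 q19642 (flp_g L232881) q15973, e3 q19643 L232893 q19632, e3 q19644 L232903 q19046, e3 q19645 (flp_g L232905) q15976, e3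 q19646 L232921 q15986, e3 q19647 L232935 q19634, trivial⟩ (by decide +kernel)

theorem ce_g_307 : ∀ r, r < 64 → sm gg (Qf (19648 + r)) = Qf (tab Gen.g (19648 + r)) :=
  edges_tab (sm gg) Qf (tab Gen.g) 19648 [(19648, 21932), (19649, 15981), (19650, 21559), (19651, 19177), (19652, 15984), (19653, 21600), (19654, 19401), (19655, 21934), (19656, 19408), (19657, 15990), (19658, 21936), (19659, 15991), (19660, 21937), (19661, 15992), (19662, 18465), (19663, 15994), (19664, 18468), (19665, 17432), (19666, 20600), (19667, 21874), (19668, 16006), (19669, 17580), (19670, 21883), (19671, 21888), (19672, 19683), (19673, 16011), (19674, 20319), (19675, 20317), (19676, 21035), (19677, 17007), (19678, 16016), (19679, 21947), (19680, 19527), (19681, 16017), (19682, 16018), (19683, 19672), (19684, 21949), (19685, 19690), (19686, 16024), (19687, 21951), (19688, 16025), (19689, 16026), (19690, 19685), (19691, 21250), (19692, 21249), (19693, 20456), (19694, 16028), (19695, 16029), (19696, 19234), (19697, 16030), (19698, 18613), (19699,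 21957), (19700, 21958), (19701, 21960), (19702, 21254), (19703, 16035), (19704, 21963), (19705, 19725), (19706, 16036), (19707, 21592), (19708, 19729), (19709, 16037), (19710, 17960), (19711, 21961)]
    ⟨e3 q19648 L253092 q21932, e3 q19649 (flp_g L232947) q15981, e3 q19650 (flp_g L249595) q21559, e3 q19651 (flp_g L232971) q19177, e3 q19652 (flp_g L232973) q15984, e3 q19653 (flp_g L249893) q21600, e3 q19654 L232993 q19401, e3 q19655 L253112 q21934, e3 q19656 (flp_g L233013) q19408, e3 q19657 (flp_g L233015) q15990, e3 q19658 L253136 q21936, e3 q19659 (flp_g L233031) q15991, e3 q19660 L253150 q21937, e3 q19661 (flp_g L233045) q15992, e3 q19662 L233059 q18465, e3 q19663 (flp_g L233061) q15994, e3 q19664 L233081 q18468, e3 q19665 L233093 q17432, e3 q19666 (flp_g L241176) q20600, e3 q19667 (flp_g L252492) q21874, e3 q19668 (flp_g L233109) q16006, e3 q19669 L233127 q17580, e3 q19670 (flp_g L252586) q21883, e3 q19671 (flp_g L252640) q21888, e3 q19672 (flp_g L233219) q19683, e3 q19673 (flp_g L233147) q16011, e3 q19674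 (flp_g L238625) q20319, e3 q19675 L238611 q20317, e3 q19676 (flp_g L245141) q21035, e3 q19677 (flp_g L233181) q17007, e3 q19678 (flp_g L233183) q16016, e3 q19679 L253264 q21947, e3 q19680 (flp_g L233197) q19527, e3 q19681 (flp_g L233199) q16017, e3 q19682 (flp_g L233205) q16018, e3 q19683 L233219 q19672, e3 q19684 L253280 q21949, e3 q19685 (flp_g L233257) q19690, e3 q19686 (flp_g L233231) q16024, e3 q19687 L253290 q21951, e3 q19688 (flp_g L233239) q16025, e3 q19689 (flp_g L233245) q16026, e3 q19690 L233257 q19685, e3 q19691 (flp_g L246901) q21250, e3 q19692 (flp_g L246887) q21249, e3 q19693 (flp_g L239925) q20456, e3 q19694 (flp_g L233287) q16028, e3 q19695 (flp_g L233295) q16029, e3 q19696 L233315 q19234, e3 q19697 (flp_g L233317) q16030, e3 q19698 L233333 q18613, e3 q19699 L253343 q21957, e3 q19700 L253357 q21958, e3 q19701 L253377 q21960, e3 q19702 (flp_g L246935) q21254, e3 q19703 (flp_g L233365) q16035, e3 q19704 L253399 q21963, e3 q19705 (flp_g L233549) q19725, e3 q19706 (flp_g L233387) q16036, e3 q19707 (flp_g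 L249829) q21592, e3 q19708 (flp_g L233581) q19729, e3 q19709 (flp_g L233409) q16037, e3 q19710 (flp_g L233427) q17960, e3 q19711 (flp_g L253385) q21961, trivial⟩ (by decide +kernel)

theorem ce_g_308 : ∀ r, r < 64 → sm gg (Qf (19712 + r)) = Qf (tab Gen.g (19712 + r)) :=
  edges_tab (sm gg) Qf (tab Gen.g) 19712 [(19712, 18651), (19713, 21762), (19714, 18650), (19715, 17141), (19716, 21678), (19717, 20225), (19718, 21946), (19719, 16045), (19720, 21398), (19721, 20257), (19722, 16046), (19723, 16047), (19724, 18266), (19725, 19705), (19726, 16049), (19727, 16050), (19728, 18261), (19729, 19708), (19730, 19939), (19731, 21041), (19732, 16711), (19733, 19752), (19734, 20447), (19735, 21055), (19736, 20687), (19737, 19831), (19738, 16059), (19739, 18948), (19740, 21973), (19741, 16063), (19742, 21974), (19743, 16065), (19744, 16066), (19745, 16071), (19746, 17221), (19747, 20332), (19748, 21779), (19749, 16070), (19750, 17636), (19751, 19364), (19752, 19733), (19753, 20170), (19754, 18086), (19755, 20058), (19756, 21122),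 (19757, 21976), (19758, 16075), (19759, 16076), (19760, 16078), (19761, 19281), (19762, 21781), (19763, 17794), (19764, 21978), (19765, 20695), (19766, 19777), (19767, 16087), (19768, 21982), (19769, 16978), (19770, 21983), (19771, 16091), (19772, 21984), (19773, 21274), (19774, 21792), (19775, 16093)]
    ⟨e3 q19712 L233439 q18651, e3 q19713 (flp_g L251347) q21762, e3 q19714 L233457 q18650, e3 q19715 L233465 q17141, e3 q19716 (flp_g L250574) q21678, e3 q19717 (flp_g L237925) q20225, e3 q19718 (flp_g L253262) q21946, e3 q19719 (flp_g L233495) q16045, e3 q19720 L248227 q21398, e3 q19721 (flp_g L238127) q20257, e3 q19722 (flp_g L233517) q16046, e3 q19723 (flp_g L233523) q16047, e3 q19724 L233533 q18266, e3 q19725 L233549 q19705, e3 q19726 (flp_g L233553) q16049, e3 q19727 (flp_g L233557) q16050, e3 q19728 L233571 q18261, e3 q19729 L233581 q19708, e3 q19730 L235392 q19939, e3 q19731 (flp_g L245195) q21041, e3 q19732 L233601 q16711, e3 q19733 (flp_g L233775) q19752, e3 q19734 (flp_g L239837) q20447, e3 q19735 (flp_g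 L245295) q21055, e3 q19736 (flp_g L241956) q20687, e3 q19737 (flp_g L234403) q19831, e3 q19738 (flp_g L233647) q16059, e3 q19739 L233661 q18948, e3 q19740 L253493 q21973, e3 q19741 (flp_g L233669) q16063, e3 q19742 L253501 q21974, e3 q19743 (flp_g L233685) q16065, e3 q19744 (flp_g L233691) q16066, e3 q19745 L233703 q16071, e3 q19746 L233715 q17221, e3 q19747 (flp_g L238769) q20332, e3 q19748 (flp_g L251530) q21779, e3 q19749 (flp_g L233737) q16070, e3 q19750 L233753 q17636, e3 q19751 (flp_g L233765) q19364, e3 q19752 L233775 q19733, e3 q19753 (flp_g L237427) q20170, e3 q19754 L233795 q18086, e3 q19755 (flp_g L236409) q20058, e3 q19756 (flp_g L245841) q21122, e3 q19757 L253525 q21976, e3 q19758 (flp_g L233825) q16075, e3 q19759 (flp_g L233831) q16076, e3 q19760 (flp_g L233845) q16078, e3 q19761 L233855 q19281, e3 q19762 (flp_g L251548) q21781, e3 q19763 L233875 q17794, e3 q19764 L253551 q21978, e3 q19765 (flp_g L242040) q20695, e3 q19766 (flp_g L233967) q19777, e3 q19767 (flp_g L233895) q16087, e3 q19768 L253595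 q21982, e3 q19769 (flp_g L233913) q16978, e3 q19770 L253605 q21983, e3 q19771 (flp_g L233921) q16091, e3 q19772 L253617 q21984, e3 q19773 L247118 q21274, e3 q19774 (flp_g L251668) q21792, e3 q19775 (flp_g L233945) q16093, trivial⟩ (by decide +kernel)

theorem ce_g_309 : ∀ r, r < 64 → sm gg (Qf (19776 + r)) = Qf (tab Gen.g (19776 + r)) :=
  edges_tab (sm gg) Qf (tab Gen.g) 19776 [(19776, 16094), (19777, 19766), (19778, 21573), (19779, 19784), (19780, 16100), (19781, 21989), (19782, 16101), (19783, 16102), (19784, 19779), (19785, 21992), (19786, 19319), (19787, 20512), (19788, 16104), (19789, 19310), (19790, 16106), (19791, 16119), (19792, 19602), (19793, 21995), (19794, 16988), (19795, 21998), (19796, 21242), (19797, 16111), (19798, 18639), (19799, 19819), (19800, 16112), (19801, 21345), (19802, 19823), (19803, 16113), (19804, 22003), (19805, 19146), (19806, 16367), (19807, 20875), (19808, 21993), (19809, 18273), (19810, 21531), (19811, 18638), (19812, 20116), (19813, 16121), (19814, 20855), (19815, 16921), (19816,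 16122), (19817, 21068), (19818, 16123), (19819, 19799), (19820, 19171), (19821, 21712), (19822, 16126), (19823, 19802), (19824, 16128), (19825, 20806), (19826, 22009), (19827, 17719), (19828, 19950), (19829, 17649), (19830, 17648), (19831, 19737), (19832, 16135), (19833, 17721), (19834, 17723), (19835, 20696), (19836, 20398), (19837, 16141), (19838, 20396), (19839, 16142)]
    ⟨e3 q19776 (flp_g L233953) q16094, e3 q19777 L233967 q19766, e3 q19778 L249703 q21573, e3 q19779 (flp_g L234011) q19784, e3 q19780 (flp_g L233979) q16100, e3 q19781 L253655 q21989, e3 q19782 (flp_g L233989) q16101, e3 q19783 (flp_g L233993) q16102, e3 q19784 L234011 q19779, e3 q19785 L253675 q21992, e3 q19786 (flp_g L234029) q19319, e3 q19787 (flp_g L240387) q20512, e3 q19788 (flp_g L234039) q16104, e3 q19789 (flp_g L234055) q19310, e3 q19790 (flp_g L234059) q16106, e3 q19791 L234075 q16119, e3 q19792 L234087 q19602, e3 q19793 L253713 q21995, e3 q19794 L234107 q16988, e3 q19795 L253742 q21998, e3 q19796 (flp_g L246819) q21242, e3 q19797 (flp_g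 L234115) q16111, e3 q19798 (flp_g L234127) q18639, e3 q19799 (flp_g L234305) q19819, e3 q19800 (flp_g L234137) q16112, e3 q19801 (flp_g L247765) q21345, e3 q19802 (flp_g L234341) q19823, e3 q19803 (flp_g L234161) q16113, e3 q19804 L253790 q22003, e3 q19805 L234179 q19146, e3 q19806 (flp_g L234197) q16367, e3 q19807 L243857 q20875, e3 q19808 (flp_g L253697) q21993, e3 q19809 L234219 q18273, e3 q19810 (flp_g L249335) q21531, e3 q19811 (flp_g L234237) q18638, e3 q19812 L236937 q20116, e3 q19813 (flp_g L234247) q16121, e3 q19814 L243655 q20855, e3 q19815 L234267 q16921, e3 q19816 (flp_g L234269) q16122, e3 q19817 (flp_g L245423) q21068, e3 q19818 (flp_g L234289) q16123, e3 q19819 L234305 q19799, e3 q19820 L234331 q19171, e3 q19821 (flp_g L250871) q21712, e3 q19822 (flp_g L234319) q16126, e3 q19823 L234341 q19802, e3 q19824 (flp_g L234343) q16128, e3 q19825 L243139 q20806, e3 q19826 L253844 q22009, e3 q19827 L234365 q17719, e3 q19828 (flp_g L235483) q19950, e3 q19829 L234381 q17649, e3 q19830 L234391 q17648, e3 q19831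 L234403 q19737, e3 q19832 (flp_g L234407) q16135, e3 q19833 L234421 q17721, e3 q19834 L234429 q17723, e3 q19835 (flp_g L242050) q20696, e3 q19836 (flp_g L239389) q20398, e3 q19837 (flp_g L234447) q16141, e3 q19838 (flp_g L239369) q20396, e3 q19839 (flp_g L234465) q16142, trivial⟩ (by decide +kernel)

theorem ce_g_310 : ∀ r, r < 64 → sm gg (Qf (19840 + r)) = Qf (tab Gen.g (19840 + r)) :=
  edges_tab (sm gg) Qf (tab Gen.g) 19840 [(19840, 17157), (19841, 17131), (19842, 17130), (19843, 16146), (19844, 21798), (19845, 18161), (19846, 18433), (19847, 20400), (19848, 18435), (19849, 18436), (19850, 20961), (19851, 21090), (19852, 16151), (19853, 17178), (19854, 22015), (19855, 17179), (19856, 16154), (19857, 16155), (19858, 16172), (19859, 16157), (19860, 19870), (19861, 16158), (19862, 21500), (19863, 22019), (19864, 22026), (19865, 21370), (19866, 16161), (19867, 22027), (19868, 16162), (19869, 16163), (19870, 19860), (19871, 22017), (19872, 16167), (19873, 20771), (19874, 19876), (19875, 16169), (19876, 19874), (19877,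 17360), (19878, 19888), (19879, 16173), (19880, 22038), (19881, 22018), (19882, 22040), (19883, 21415), (19884, 16176), (19885, 21845), (19886, 16177), (19887, 16178), (19888, 19878), (19889, 21452), (19890, 16183), (19891, 16184), (19892, 16206), (19893, 16202), (19894, 16293), (19895, 16565), (19896, 16214), (19897, 20039), (19898, 16584), (19899, 19905), (19900, 22045), (19901, 21240), (19902, 16221), (19903, 16222)]
    ⟨e3 q19840 L234481 q17157, e3 q19841 (flp_g L234493) q17131, e3 q19842 (flp_g L234505) q17130, e3 q19843 (flp_g L234507) q16146, e3 q19844 (flp_g L251732) q21798, e3 q19845 L234537 q18161, e3 q19846 L234545 q18433, e3 q19847 (flp_g L239411) q20400, e3 q19848 L234563 q18435, e3 q19849 L234573 q18436, e3 q19850 (flp_g L244569) q20961, e3 q19851 (flp_g L245591) q21090, e3 q19852 (flp_g L234595) q16151, e3 q19853 L234613 q17178, e3 q19854 L253910 q22015, e3 q19855 L234637 q17179, e3 q19856 (flp_g L234641) q16154, e3 q19857 (flp_g L234651) q16155, e3 q19858 L234669 q16172, e3 q19859 (flp_g L234663)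 q16157, e3 q19860 (flp_g L234743) q19870, e3 q19861 (flp_g L234679) q16158, e3 q19862 (flp_g L249066) q21500, e3 q19863 (flp_g L253958) q22019, e3 q19864 L254016 q22026, e3 q19865 (flp_g L247985) q21370, e3 q19866 (flp_g L234709) q16161, e3 q19867 L254030 q22027, e3 q19868 (flp_g L234725) q16162, e3 q19869 (flp_g L234731) q16163, e3 q19870 L234743 q19860, e3 q19871 (flp_g L253938) q22017, e3 q19872 (flp_g L234749) q16167, e3 q19873 (flp_g L242810) q20771, e3 q19874 (flp_g L234805) q19876, e3 q19875 (flp_g L234783) q16169, e3 q19876 L234805 q19874, e3 q19877 L234815 q17360, e3 q19878 (flp_g L234891) q19888, e3 q19879 (flp_g L234825) q16173, e3 q19880 L254134 q22038, e3 q19881 (flp_g L253946) q22018, e3 q19882 L254158 q22040, e3 q19883 (flp_g L248363) q21415, e3 q19884 (flp_g L234855) q16176, e3 q19885 (flp_g L252205) q21845, e3 q19886 (flp_g L234871) q16177, e3 q19887 (flp_g L234877) q16178, e3 q19888 L234891 q19878, e3 q19889 (flp_g L248686) q21452, e3 q19890 L234905 q16183, e3 q19891 (flp_g L234907) q16184, e3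 q19892 L234931 q16206, e3 q19893 (flp_g L234933) q16202, e3 q19894 L234957 q16293, e3 q19895 (flp_g L234971) q16565, e3 q19896 (flp_g L234979) q16214, e3 q19897 (flp_g L236274) q20039, e3 q19898 L234999 q16584, e3 q19899 (flp_g L235057) q19905, e3 q19900 L254216 q22045, e3 q19901 (flp_g L246805) q21240, e3 q19902 (flp_g L235025) q16221, e3 q19903 (flp_g L235033) q16222, trivial⟩ (by decide +kernel)

theorem ce_g_311 : ∀ r, r < 64 → sm gg (Qf (19904 + r)) = Qf (tab Gen.g (19904 + r)) :=
  edges_tab (sm gg) Qf (tab Gen.g) 19904 [(19904, 16227), (19905, 19899), (19906, 20596), (19907, 16228), (19908, 16244), (19909, 16242), (19910, 17176), (19911, 17175), (19912, 16251), (19913, 19917), (19914, 17494), (19915, 16257), (19916, 16260), (19917, 19913), (19918, 22047), (19919, 21251), (19920, 17890), (19921, 17192), (19922, 20088), (19923, 16269), (19924, 17395), (19925, 20022), (19926, 20765), (19927, 16312), (19928, 17695), (19929, 17583), (19930, 17584), (19931, 17945), (19932, 16313), (19933, 19948), (19934, 20366),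 (19935, 21789), (19936, 16332), (19937, 22049), (19938, 16338), (19939, 19730), (19940, 20076), (19941, 16340), (19942, 20074), (19943, 17322), (19944, 19627), (19945, 22053), (19946, 16348), (19947, 16350), (19948, 19933), (19949, 18530), (19950, 19828), (19951, 18705), (19952, 22004), (19953, 19977), (19954, 22057), (19955, 19960), (19956, 16374), (19957, 22055), (19958, 16377), (19959, 16378), (19960, 19955), (19961, 17102), (19962, 19501), (19963, 17044), (19964, 22061), (19965, 19974), (19966, 16390), (19967, 19976)]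
    ⟨e3 q19904 L235047 q16227, e3 q19905 L235057 q19899, e3 q19906 (flp_g L241128) q20596, e3 q19907 (flp_g L235067) q16228, e3 q19908 L235089 q16244, e3 q19909 (flp_g L235093) q16242, e3 q19910 L235105 q17176, e3 q19911 L235119 q17175, e3 q19912 L235129 q16251, e3 q19913 (flp_g L235169) q19917, e3 q19914 L235141 q17494, e3 q19915 (flp_g L235151) q16257, e3 q19916 L235159 q16260, e3 q19917 L235169 q19913, e3 q19918 (flp_g L254246) q22047, e3 q19919 (flp_g L246913) q21251, e3 q19920 L235191 q17890, e3 q19921 (flp_g L235201) q17192, e3 q19922 L236655 q20088, e3 q19923 (flp_g L235213) q16269, e3 q19924 L235231 q17395, e3 q19925 (flp_g L236155) q20022, e3 q19926 (flp_g L242745) q20765, e3 q19927 L235262 q16312, e3 q19928 L235272 q17695, e3 q19929 L235280 q17583, e3 q19930 L235290 q17584, e3 q19931 L235306 q17945, e3 q19932 (flp_g L235310) q16313, e3 q19933 (flp_g L235465) q19948, e3 q19934 (flp_g L239105) q20366, e3 q19935 (flp_g L251628) q21789, e3 q19936 (flp_g L235352) q16332, e3 q19937 L254261 q22049, e3 q19938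 (flp_g L235372) q16338, e3 q19939 (flp_g L235392) q19730, e3 q19940 (flp_g L236553) q20076, e3 q19941 (flp_g L235398) q16340, e3 q19942 (flp_g L236534) q20074, e3 q19943 L235421 q17322, e3 q19944 L235431 q19627, e3 q19945 L254308 q22053, e3 q19946 (flp_g L235440) q16348, e3 q19947 (flp_g L235447) q16350, e3 q19948 L235465 q19933, e3 q19949 L235477 q18530, e3 q19950 L235483 q19828, e3 q19951 L235495 q18705, e3 q19952 (flp_g L253806) q22004, e3 q19953 (flp_g L235739) q19977, e3 q19954 L254350 q22057, e3 q19955 (flp_g L235577) q19960, e3 q19956 (flp_g L235535) q16374, e3 q19957 (flp_g L254332) q22055, e3 q19958 (flp_g L235553) q16377, e3 q19959 (flp_g L235559) q16378, e3 q19960 L235577 q19955, e3 q19961 L235589 q17102, e3 q19962 L235599 q19501, e3 q19963 L235615 q17044, e3 q19964 L254402 q22061, e3 q19965 (flp_g L235713) q19974, e3 q19966 (flp_g L235637) q16390, e3 q19967 (flp_g L235731) q19976, trivial⟩ (by decide +kernel)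

theorem ce_g_312 : ∀ r, r < 64 → sm gg (Qf (19968 + r)) = Qf (tab Gen.g (19968 + r)) :=
  edges_tab (sm gg) Qf (tab Gen.g) 19968 [(19968, 16393), (19969, 21304), (19970, 16396), (19971, 22063), (19972, 16398), (19973, 16399), (19974, 19965), (19975, 16403), (19976, 19967), (19977, 19953), (19978, 20509), (19979, 17026), (19980, 16419), (19981, 20205), (19982, 16422), (19983, 16423), (19984, 17267), (19985, 16426), (19986, 19986), (19987, 20606), (19988, 17761), (19989, 20668), (19990, 19534), (19991, 16454), (19992, 16490), (19993, 17367), (19994, 20015), (19995, 18710), (19996, 20467), (19997, 16604), (19998, 22066), (19999, 22067), (20000, 16481), (20001, 16482), (20002, 16488), (20003, 16486), (20004, 22068), (20005, 20063), (20006, 17943), (20007, 16491), (20008, 20942), (20009, 21323), (20010, 20013), (20011, 16509), (20012, 16512), (20013, 20010), (20014, 17239), (20015, 19994), (20016, 16520), (20017, 18555), (20018, 22070), (20019, 16530), (20020, 21523), (20021, 16532), (20022, 19925), (20023, 20535),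 (20024, 18711), (20025, 22074), (20026, 16544), (20027, 21772), (20028, 16546), (20029, 22077), (20030, 16548), (20031, 20067)]
    ⟨e3 q19968 (flp_g L235653) q16393, e3 q19969 L247355 q21304, e3 q19970 (flp_g L235669) q16396, e3 q19971 L254426 q22063, e3 q19972 (flp_g L235687) q16398, e3 q19973 (flp_g L235695) q16399, e3 q19974 L235713 q19965, e3 q19975 (flp_g L235717) q16403, e3 q19976 L235731 q19967, e3 q19977 L235739 q19953, e3 q19978 (flp_g L240359) q20509, e3 q19979 L235753 q17026, e3 q19980 (flp_g L235759) q16419, e3 q19981 (flp_g L237745) q20205, e3 q19982 (flp_g L235781) q16422, e3 q19983 (flp_g L235791) q16423, e3 q19984 L235805 q17267, e3 q19985 (flp_g L235809) q16426, e3 q19986 L235827 q19986, e3 q19987 (flp_g L241248) q20606, e3 q19988 L235844 q17761, e3 q19989 (flp_g L241776) q20668, e3 q19990 (flp_g L235868) q19534, e3 q19991 (flp_g L235870) q16454, e3 q19992 L235890 q16490, e3 q19993 L235900 q17367, e3 q19994 L236095 q20015, e3 q19995 L235916 q18710, e3 q19996 (flp_g L240023) q20467, e3 q19997 (flp_g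 L235936) q16604, e3 q19998 L254465 q22066, e3 q19999 L254476 q22067, e3 q20000 (flp_g L235960) q16481, e3 q20001 (flp_g L235964) q16482, e3 q20002 L235980 q16488, e3 q20003 (flp_g L235983) q16486, e3 q20004 (flp_g L254497) q22068, e3 q20005 (flp_g L236451) q20063, e3 q20006 (flp_g L236017) q17943, e3 q20007 (flp_g L236021) q16491, e3 q20008 L244449 q20942, e3 q20009 (flp_g L247531) q21323, e3 q20010 (flp_g L236077) q20013, e3 q20011 (flp_g L236057) q16509, e3 q20012 (flp_g L236063) q16512, e3 q20013 L236077 q20010, e3 q20014 L236087 q17239, e3 q20015 (flp_g L236095) q19994, e3 q20016 (flp_g L236107) q16520, e3 q20017 L236119 q18555, e3 q20018 L254510 q22070, e3 q20019 (flp_g L236129) q16530, e3 q20020 (flp_g L249266) q21523, e3 q20021 (flp_g L236145) q16532, e3 q20022 L236155 q19925, e3 q20023 L240570 q20535, e3 q20024 L236173 q18711, e3 q20025 L254554 q22074, e3 q20026 (flp_g L236181) q16544, e3 q20027 (flp_g L251449) q21772, e3 q20028 (flp_g L236199) q16546, e3 q20029 L254574 q22077, e3 q20030 (flp_g L236211)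 q16548, e3 q20031 (flp_g L236488) q20067, trivial⟩ (by decide +kernel)

theorem ce_g_313 : ∀ r, r < 64 → sm gg (Qf (20032 + r)) = Qf (tab Gen.g (20032 + r)) :=
  edges_tab (sm gg) Qf (tab Gen.g) 20032 [(20032, 20628), (20033, 21341), (20034, 16551), (20035, 20071), (20036, 17103), (20037, 18182), (20038, 21448), (20039, 19897), (20040, 21449), (20041, 18863), (20042, 20588), (20043, 20479), (20044, 18844), (20045, 20381), (20046, 17073), (20047, 18732), (20048, 17185), (20049, 20382), (20050, 22044), (20051, 18563), (20052, 22093), (20053, 18731), (20054, 21348), (20055, 20422), (20056, 16587), (20057, 20156), (20058, 19755), (20059, 22065), (20060, 22099), (20061, 16635), (20062, 16605), (20063, 20005), (20064, 18567), (20065, 22103), (20066, 16611), (20067, 20031), (20068, 22107), (20069, 20078), (20070, 16614), (20071, 20035), (20072, 20080), (20073, 16628), (20074, 19942), (20075, 18139), (20076, 19940), (20077, 22111), (20078, 20069), (20079, 22118), (20080, 20072), (20081, 16631), (20082, 20418), (20083, 22098),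 (20084, 17485), (20085, 18606), (20086, 20174), (20087, 16660), (20088, 19922), (20089, 16813), (20090, 18159), (20091, 18160), (20092, 22126), (20093, 16665), (20094, 16675), (20095, 16669)]
    ⟨e3 q20032 (flp_g L253198) q20628, e3 q20033 (flp_g L247727) q21341, e3 q20034 (flp_g L236237) q16551, e3 q20035 (flp_g L236506) q20071, e3 q20036 L236251 q17103, e3 q20037 L236259 q18182, e3 q20038 L248652 q21448, e3 q20039 L236274 q19897, e3 q20040 (flp_g L248660) q21449, e3 q20041 L236290 q18863, e3 q20042 (flp_g L241054) q20588, e3 q20043 (flp_g L240099) q20479, e3 q20044 L236312 q18844, e3 q20045 (flp_g L239231) q20381, e3 q20046 L236328 q17073, e3 q20047 L236334 q18732, e3 q20048 (flp_g L236344) q17185, e3 q20049 (flp_g L239239) q20382, e3 q20050 (flp_g L254210) q22044, e3 q20051 L236360 q18563, e3 q20052 L254716 q22093, e3 q20053 L236372 q18731, e3 q20054 L247801 q21348, e3 q20055 (flp_g L239607) q20422, e3 q20056 (flp_g L236384) q16587, e3 q20057 (flp_g L237317) q20156, e3 q20058 L236409 q19755, e3 q20059 L254461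 q22065, e3 q20060 L254752 q22099, e3 q20061 L236431 q16635, e3 q20062 (flp_g L236433) q16605, e3 q20063 L236451 q20005, e3 q20064 L236462 q18567, e3 q20065 L254794 q22103, e3 q20066 (flp_g L236470) q16611, e3 q20067 L236488 q20031, e3 q20068 L254830 q22107, e3 q20069 (flp_g L236565) q20078, e3 q20070 (flp_g L236498) q16614, e3 q20071 L236506 q20035, e3 q20072 L236577 q20080, e3 q20073 L236524 q16628, e3 q20074 L236534 q19942, e3 q20075 L236545 q18139, e3 q20076 L236553 q19940, e3 q20077 (flp_g L254867) q22111, e3 q20078 L236565 q20069, e3 q20079 L254917 q22118, e3 q20080 (flp_g L236577) q20072, e3 q20081 (flp_g L236579) q16631, e3 q20082 (flp_g L239577) q20418, e3 q20083 (flp_g L254748) q22098, e3 q20084 L236613 q17485, e3 q20085 L236623 q18606, e3 q20086 (flp_g L237461) q20174, e3 q20087 L236641 q16660, e3 q20088 (flp_g L236655) q19922, e3 q20089 L236667 q16813, e3 q20090 L236673 q18159, e3 q20091 L236681 q18160, e3 q20092 L254988 q22126, e3 q20093 (flp_g L236697) q16665, e3 q20094 L236711 q16675, e3 q20095 (flp_g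 L236715) q16669, trivial⟩ (by decide +kernel)

theorem ce_g_314 : ∀ r, r < 64 → sm gg (Qf (20096 + r)) = Qf (tab Gen.g (20096 + r)) :=
  edges_tab (sm gg) Qf (tab Gen.g) 20096 [(20096, 16670), (20097, 18540), (20098, 20632), (20099, 22127), (20100, 20800), (20101, 20310), (20102, 16682), (20103, 22130), (20104, 16683), (20105, 20681), (20106, 21885), (20107, 16685), (20108, 17958), (20109, 17878), (20110, 16898), (20111, 17712), (20112, 17905), (20113, 17700), (20114, 18136), (20115, 20716), (20116, 19812), (20117, 16692), (20118, 16808), (20119, 16702), (20120, 20123), (20121, 20302), (20122, 21668), (20123, 20120), (20124, 16703), (20125, 16876), (20126, 18553), (20127, 16706), (20128, 16972), (20129, 21545), (20130, 16709), (20131, 19223), (20132, 16807), (20133, 20160), (20134, 16955), (20135, 17053), (20136, 16942), (20137, 16723), (20138, 21142), (20139, 20247), (20140, 16728), (20141, 17014), (20142, 18447), (20143, 18678), (20144, 21303), (20145, 16733), (20146, 16819), (20147, 20281), (20148, 21443), (20149,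 16769), (20150, 17318), (20151, 17324), (20152, 16937), (20153, 16938), (20154, 20262), (20155, 16940), (20156, 20057), (20157, 20275), (20158, 22149), (20159, 16760)]
    ⟨e3 q20096 (flp_g L236727) q16670, e3 q20097 L236749 q18540, e3 q20098 (flp_g L241458) q20632, e3 q20099 (flp_g L255006) q22127, e3 q20100 (flp_g L243055) q20800, e3 q20101 (flp_g L238556) q20310, e3 q20102 (flp_g L236781) q16682, e3 q20103 L255034 q22130, e3 q20104 (flp_g L236805) q16683, e3 q20105 (flp_g L241910) q20681, e3 q20106 (flp_g L252608) q21885, e3 q20107 (flp_g L236837) q16685, e3 q20108 L236851 q17958, e3 q20109 L236863 q17878, e3 q20110 L236875 q16898, e3 q20111 L236885 q17712, e3 q20112 (flp_g L236897) q17905, e3 q20113 L236903 q17700, e3 q20114 L236917 q18136, e3 q20115 L242256 q20716, e3 q20116 (flp_g L236937) q19812, e3 q20117 (flp_g L236939) q16692, e3 q20118 L236957 q16808, e3 q20119 L236967 q16702, e3 q20120 L237007 q20123, e3 q20121 (flp_g L238497) q20302, e3 q20122 (flp_g L250453) q21668, e3 q20123 (flp_g L237007) q20120,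 e3 q20124 (flp_g L237009) q16703, e3 q20125 L237027 q16876, e3 q20126 (flp_g L237043) q18553, e3 q20127 (flp_g L237045) q16706, e3 q20128 L237059 q16972, e3 q20129 (flp_g L249464) q21545, e3 q20130 (flp_g L237067) q16709, e3 q20131 L237087 q19223, e3 q20132 L237095 q16807, e3 q20133 (flp_g L237344) q20160, e3 q20134 L237119 q16955, e3 q20135 L237129 q17053, e3 q20136 (flp_g L237141) q16942, e3 q20137 (flp_g L237143) q16723, e3 q20138 L245986 q21142, e3 q20139 (flp_g L238063) q20247, e3 q20140 (flp_g L237175) q16728, e3 q20141 L237189 q17014, e3 q20142 L237195 q18447, e3 q20143 L237205 q18678, e3 q20144 (flp_g L247343) q21303, e3 q20145 (flp_g L237215) q16733, e3 q20146 L237235 q16819, e3 q20147 (flp_g L238329) q20281, e3 q20148 (flp_g L248603) q21443, e3 q20149 L237261 q16769, e3 q20150 L237269 q17318, e3 q20151 L237277 q17324, e3 q20152 L237283 q16937, e3 q20153 L237287 q16938, e3 q20154 L238169 q20262, e3 q20155 L237303 q16940, e3 q20156 L237317 q20057, e3 q20157 (flp_g L238277) q20275, e3 q20158 L255230 q22149,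 e3 q20159 (flp_g L237330) q16760, trivial⟩ (by decide +kernel)

theorem ce_g_315 : ∀ r, r < 64 → sm gg (Qf (20160 + r)) = Qf (tab Gen.g (20160 + r)) :=
  edges_tab (sm gg) Qf (tab Gen.g) 20160 [(20160, 20133), (20161, 19587), (20162, 21954), (20163, 20192), (20164, 16892), (20165, 19480), (20166, 20339), (20167, 20216), (20168, 16973), (20169, 16830), (20170, 19753), (20171, 20499), (20172, 16798), (20173, 18914), (20174, 20086), (20175, 18575), (20176, 16794), (20177, 21920), (20178, 22156), (20179, 16799), (20180, 17265), (20181, 16804), (20182, 18330), (20183, 22136), (20184, 21996), (20185, 16915), (20186, 21775), (20187, 22124), (20188, 21483), (20189, 21846), (20190, 16815), (20191, 18105), (20192, 20163), (20193, 16820), (20194, 16824), (20195, 20260), (20196, 18882), (20197, 17863), (20198, 20605), (20199, 19253), (20200, 16834), (20201, 16836), (20202, 20637), (20203, 16838), (20204, 19506), (20205, 19981), (20206, 17459), (20207, 20211), (20208, 18600), (20209, 16847), (20210, 18592), (20211, 20207), (20212,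 21199), (20213, 16868), (20214, 16873), (20215, 16877), (20216, 20167), (20217, 20227), (20218, 18562), (20219, 16884), (20220, 16889), (20221, 21731), (20222, 16893), (20223, 18622)]
    ⟨e3 q20160 L237344 q20133, e3 q20161 L237358 q19587, e3 q20162 (flp_g L253318) q21954, e3 q20163 L237619 q20192, e3 q20164 L237383 q16892, e3 q20165 L237391 q19480, e3 q20166 (flp_g L238837) q20339, e3 q20167 (flp_g L237859) q20216, e3 q20168 L237411 q16973, e3 q20169 L237419 q16830, e3 q20170 L237427 q19753, e3 q20171 (flp_g L240269) q20499, e3 q20172 L237441 q16798, e3 q20173 L237451 q18914, e3 q20174 L237461 q20086, e3 q20175 (flp_g L237471) q18575, e3 q20176 (flp_g L237473) q16794, e3 q20177 (flp_g L252972) q21920, e3 q20178 L255291 q22156, e3 q20179 (flp_g L237501) q16799, e3 q20180 L237517 q17265, e3 q20181 (flp_g L237519) q16804, e3 q20182 (flp_g L237541) q18330, e3 q20183 (flp_g L255118) q22136, e3 q20184 (flp_g L253734) q21996, e3 q20185 L237557 q16915, e3 q20186 (flp_g L251480) q21775, e3 q20187 (flp_g L254974) q22124,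 e3 q20188 (flp_g L248923) q21483, e3 q20189 (flp_g L252217) q21846, e3 q20190 (flp_g L237591) q16815, e3 q20191 L237605 q18105, e3 q20192 (flp_g L237619) q20163, e3 q20193 (flp_g L237621) q16820, e3 q20194 (flp_g L237629) q16824, e3 q20195 (flp_g L238149) q20260, e3 q20196 L237655 q18882, e3 q20197 L237663 q17863, e3 q20198 (flp_g L241234) q20605, e3 q20199 (flp_g L237681) q19253, e3 q20200 (flp_g L237685) q16834, e3 q20201 (flp_g L237695) q16836, e3 q20202 (flp_g L241500) q20637, e3 q20203 (flp_g L237715) q16838, e3 q20204 L237735 q19506, e3 q20205 L237745 q19981, e3 q20206 L237755 q17459, e3 q20207 (flp_g L237814) q20211, e3 q20208 L237778 q18600, e3 q20209 (flp_g L237782) q16847, e3 q20210 L237801 q18592, e3 q20211 L237814 q20207, e3 q20212 (flp_g L246461) q21199, e3 q20213 (flp_g L237827) q16868, e3 q20214 (flp_g L237837) q16873, e3 q20215 L237851 q16877, e3 q20216 L237859 q20167, e3 q20217 (flp_g L237937) q20227, e3 q20218 L237876 q18562, e3 q20219 (flp_g L237878) q16884, e3 q20220 (flp_g L237887) q16889, e3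 q20221 (flp_g L251041) q21731, e3 q20222 (flp_g L237901) q16893, e3 q20223 L237913 q18622, trivial⟩ (by decide +kernel)

theorem ce_g_316 : ∀ r, r < 64 → sm gg (Qf (20224 + r)) = Qf (tab Gen.g (20224 + r)) :=
  edges_tab (sm gg) Qf (tab Gen.g) 20224 [(20224, 18623), (20225, 19717), (20226, 21093), (20227, 20217), (20228, 21709), (20229, 19245), (20230, 22179), (20231, 21279), (20232, 16906), (20233, 22180), (20234, 16908), (20235, 20824), (20236, 18738), (20237, 22161), (20238, 21083), (20239, 21669), (20240, 22185), (20241, 16917), (20242, 19098), (20243, 16919), (20244, 21280), (20245, 22001), (20246, 19116), (20247, 20139), (20248, 21310), (20249, 20292), (20250, 18956), (20251, 21544), (20252, 18385), (20253, 19118), (20254, 21540), (20255, 18964), (20256, 21546), (20257, 19721), (20258, 20988), (20259, 18679), (20260, 20195), (20261, 18248), (20262, 20154), (20263, 22197), (20264, 16939), (20265, 21246), (20266, 18900), (20267, 18897), (20268, 21799), (20269, 22200), (20270, 16947), (20271, 22201), (20272,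 16951), (20273, 16952), (20274, 16953), (20275, 20157), (20276, 20375), (20277, 17315), (20278, 17242), (20279, 17232), (20280, 17248), (20281, 20147), (20282, 16970), (20283, 16971), (20284, 19119), (20285, 22207), (20286, 21548), (20287, 21542)]
    ⟨e3 q20224 L237917 q18623, e3 q20225 L237925 q19717, e3 q20226 (flp_g L245621) q21093, e3 q20227 L237937 q20217, e3 q20228 (flp_g L250835) q21709, e3 q20229 L237949 q19245, e3 q20230 L255478 q22179, e3 q20231 (flp_g L247148) q21279, e3 q20232 (flp_g L237961) q16906, e3 q20233 (flp_g L255490) q22180, e3 q20234 (flp_g L237971) q16908, e3 q20235 (flp_g L243359) q20824, e3 q20236 L237993 q18738, e3 q20237 (flp_g L255344) q22161, e3 q20238 (flp_g L245537) q21083, e3 q20239 L250476 q21669, e3 q20240 L255528 q22185, e3 q20241 (flp_g L238015) q16917, e3 q20242 (flp_g L238027) q19098, e3 q20243 (flp_g L238029) q16919, e3 q20244 L247160 q21280, e3 q20245 (flp_g L253776) q22001, e3 q20246 L238053 q19116, e3 q20247 L238063 q20139, e3 q20248 (flp_g L247409) q21310, e3 q20249 L238417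 q20292, e3 q20250 L238075 q18956, e3 q20251 L249452 q21544, e3 q20252 L238085 q18385, e3 q20253 L238095 q19118, e3 q20254 (flp_g L249404) q21540, e3 q20255 L238115 q18964, e3 q20256 (flp_g L249474) q21546, e3 q20257 L238127 q19721, e3 q20258 (flp_g L244766) q20988, e3 q20259 L238143 q18679, e3 q20260 L238149 q20195, e3 q20261 (flp_g L238161) q18248, e3 q20262 (flp_g L238169) q20154, e3 q20263 L255644 q22197, e3 q20264 (flp_g L238175) q16939, e3 q20265 (flp_g L246861) q21246, e3 q20266 L238197 q18900, e3 q20267 L238207 q18897, e3 q20268 (flp_g L251744) q21799, e3 q20269 L255682 q22200, e3 q20270 (flp_g L238225) q16947, e3 q20271 L255694 q22201, e3 q20272 (flp_g L238245) q16951, e3 q20273 (flp_g L238255) q16952, e3 q20274 (flp_g L238263) q16953, e3 q20275 L238277 q20157, e3 q20276 L239169 q20375, e3 q20277 L238293 q17315, e3 q20278 L238303 q17242, e3 q20279 L238311 q17232, e3 q20280 L238319 q17248, e3 q20281 L238329 q20147, e3 q20282 L238341 q16970, e3 q20283 L238347 q16971, e3 q20284 L238357 q19119, e3 q20285 (flp_g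 L255777) q22207, e3 q20286 L249492 q21548, e3 q20287 (flp_g L249422) q21542, trivial⟩ (by decide +kernel)

theorem ce_g_317 : ∀ r, r < 64 → sm gg (Qf (20288 + r)) = Qf (tab Gen.g (20288 + r)) :=
  edges_tab (sm gg) Qf (tab Gen.g) 20288 [(20288, 21541), (20289, 22194), (20290, 22152), (20291, 22215), (20292, 20249), (20293, 16974), (20294, 20301), (20295, 22181), (20296, 18320), (20297, 16980), (20298, 22219), (20299, 16982), (20300, 20891), (20301, 20294), (20302, 20121), (20303, 22223), (20304, 16993), (20305, 21554), (20306, 21968), (20307, 18402), (20308, 16996), (20309, 19096), (20310, 20101), (20311, 22230), (20312, 20810), (20313, 16999), (20314, 17005), (20315, 22232), (20316, 21944), (20317, 19675), (20318, 21945), (20319, 19674), (20320, 18685), (20321, 17008), (20322, 19457), (20323, 18372), (20324, 21860), (20325, 17051), (20326, 17139), (20327, 17040), (20328, 17520), (20329, 17647), (20330, 17041), (20331, 17042), (20332, 19747), (20333, 20453), (20334, 17046), (20335, 22059), (20336, 17122), (20337,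 20399), (20338, 21910), (20339, 20166), (20340, 18269), (20341, 22238), (20342, 21052), (20343, 22137), (20344, 20794), (20345, 17193), (20346, 17436), (20347, 20678), (20348, 17631), (20349, 17632), (20350, 18344), (20351, 17660)]
    ⟨e3 q20288 (flp_g L249414) q21541, e3 q20289 (flp_g L255614) q22194, e3 q20290 (flp_g L255263) q22152, e3 q20291 L255857 q22215, e3 q20292 (flp_g L238417) q20249, e3 q20293 (flp_g L238419) q16974, e3 q20294 (flp_g L238483) q20301, e3 q20295 (flp_g L255502) q22181, e3 q20296 (flp_g L238443) q18320, e3 q20297 (flp_g L238445) q16980, e3 q20298 L255895 q22219, e3 q20299 (flp_g L238461) q16982, e3 q20300 (flp_g L244005) q20891, e3 q20301 L238483 q20294, e3 q20302 L238497 q20121, e3 q20303 L255936 q22223, e3 q20304 (flp_g L238505) q16993, e3 q20305 (flp_g L249547) q21554, e3 q20306 (flp_g L253463) q21968, e3 q20307 (flp_g L238528) q18402, e3 q20308 (flp_g L238530) q16996, e3 q20309 L238546 q19096, e3 q20310 L238556 q20101, e3 q20311 L256010 q22230, e3 q20312 (flp_g L243181) q20810, e3 q20313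 (flp_g L238571) q16999, e3 q20314 L238589 q17005, e3 q20315 L256034 q22232, e3 q20316 (flp_g L253238) q21944, e3 q20317 (flp_g L238611) q19675, e3 q20318 L253250 q21945, e3 q20319 L238625 q19674, e3 q20320 L238643 q18685, e3 q20321 (flp_g L238631) q17008, e3 q20322 (flp_g L238651) q19457, e3 q20323 L238663 q18372, e3 q20324 (flp_g L252345) q21860, e3 q20325 L238679 q17051, e3 q20326 L238689 q17139, e3 q20327 L238701 q17040, e3 q20328 L238715 q17520, e3 q20329 L238725 q17647, e3 q20330 L238737 q17041, e3 q20331 L238751 q17042, e3 q20332 L238769 q19747, e3 q20333 L239895 q20453, e3 q20334 L238785 q17046, e3 q20335 (flp_g L254386) q22059, e3 q20336 L238805 q17122, e3 q20337 (flp_g L239399) q20399, e3 q20338 (flp_g L252866) q21910, e3 q20339 L238837 q20166, e3 q20340 L238849 q18269, e3 q20341 (flp_g L256104) q22238, e3 q20342 L245263 q21052, e3 q20343 (flp_g L255128) q22137, e3 q20344 (flp_g L243001) q20794, e3 q20345 L238885 q17193, e3 q20346 L238901 q17436, e3 q20347 (flp_g L241882) q20678, e3 q20348 L238925 q17631,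 e3 q20349 L238939 q17632, e3 q20350 L238955 q18344, e3 q20351 L238967 q17660, trivial⟩ (by decide +kernel)

theorem ce_g_318 : ∀ r, r < 64 → sm gg (Qf (20352 + r)) = Qf (tab Gen.g (20352 + r)) :=
  edges_tab (sm gg) Qf (tab Gen.g) 20352 [(20352, 17532), (20353, 20358), (20354, 20411), (20355, 17063), (20356, 17064), (20357, 17065), (20358, 20353), (20359, 17214), (20360, 17220), (20361, 20450), (20362, 22087), (20363, 20370), (20364, 22245), (20365, 17075), (20366, 19934), (20367, 22246), (20368, 17078), (20369, 17080), (20370, 20363), (20371, 21256), (20372, 20378), (20373, 22248), (20374, 21255), (20375, 20276), (20376, 17085), (20377, 18564), (20378, 20372), (20379, 22012), (20380, 17089), (20381, 20045), (20382, 20049), (20383, 18852), (20384, 20415), (20385, 22252), (20386, 17096), (20387, 18683), (20388, 22046), (20389, 22254), (20390, 17104), (20391, 17105), (20392, 17114), (20393, 18544), (20394, 18454), (20395, 21081), (20396, 19838), (20397, 17121), (20398, 19836), (20399, 20337), (20400, 19847), (20401,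 17136), (20402, 22239), (20403, 20832), (20404, 21967), (20405, 17140), (20406, 20812), (20407, 17145), (20408, 17147), (20409, 18329), (20410, 20726), (20411, 20354), (20412, 17153), (20413, 17164), (20414, 17166), (20415, 20384)]
    ⟨e3 q20352 L238977 q17532, e3 q20353 (flp_g L239035) q20358, e3 q20354 (flp_g L239509) q20411, e3 q20355 (flp_g L239001) q17063, e3 q20356 (flp_g L239005) q17064, e3 q20357 (flp_g L239017) q17065, e3 q20358 L239035 q20353, e3 q20359 L239045 q17214, e3 q20360 L239057 q17220, e3 q20361 (flp_g L239865) q20450, e3 q20362 (flp_g L254672) q22087, e3 q20363 (flp_g L239137) q20370, e3 q20364 L256178 q22245, e3 q20365 (flp_g L239091) q17075, e3 q20366 L239105 q19934, e3 q20367 L256184 q22246, e3 q20368 (flp_g L239113) q17078, e3 q20369 (flp_g L239123) q17080, e3 q20370 L239137 q20363, e3 q20371 (flp_g L246957) q21256, e3 q20372 (flp_g L239197) q20378, e3 q20373 L256204 q22248, e3 q20374 (flp_g L246945) q21255, e3 q20375 (flp_g L239169) q20276, e3 q20376 (flp_g L239171) q17085, e3 q20377 L239185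 q18564, e3 q20378 L239197 q20372, e3 q20379 (flp_g L253882) q22012, e3 q20380 (flp_g L239215) q17089, e3 q20381 L239231 q20045, e3 q20382 L239239 q20049, e3 q20383 L239245 q18852, e3 q20384 (flp_g L239551) q20415, e3 q20385 L256246 q22252, e3 q20386 (flp_g L239267) q17096, e3 q20387 L239283 q18683, e3 q20388 (flp_g L254234) q22046, e3 q20389 L256266 q22254, e3 q20390 (flp_g L239305) q17104, e3 q20391 (flp_g L239313) q17105, e3 q20392 (flp_g L239321) q17114, e3 q20393 L239339 q18544, e3 q20394 L239347 q18454, e3 q20395 (flp_g L245525) q21081, e3 q20396 L239369 q19838, e3 q20397 (flp_g L239371) q17121, e3 q20398 L239389 q19836, e3 q20399 L239399 q20337, e3 q20400 L239411 q19847, e3 q20401 (flp_g L239413) q17136, e3 q20402 (flp_g L256118) q22239, e3 q20403 (flp_g L243447) q20832, e3 q20404 (flp_g L253449) q21967, e3 q20405 (flp_g L239443) q17140, e3 q20406 (flp_g L243205) q20812, e3 q20407 (flp_g L239455) q17145, e3 q20408 L239477 q17147, e3 q20409 L239491 q18329, e3 q20410 (flp_g L242344) q20726, e3 q20411 L239509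 q20354, e3 q20412 (flp_g L239511) q17153, e3 q20413 L239531 q17164, e3 q20414 L239537 q17166, e3 q20415 L239551 q20384, trivial⟩ (by decide +kernel)

theorem ce_g_319 : ∀ r, r < 64 → sm gg (Qf (20416 + r)) = Qf (tab Gen.g (20416 + r)) :=
  edges_tab (sm gg) Qf (tab Gen.g) 20416 [(20416, 17216), (20417, 22260), (20418, 20082), (20419, 17222), (20420, 20975), (20421, 22263), (20422, 20055), (20423, 17170), (20424, 17441), (20425, 21501), (20426, 18832), (20427, 21788), (20428, 18649), (20429, 19399), (20430, 21099), (20431, 19230), (20432, 17726), (20433, 20904), (20434, 21098), (20435, 17760), (20436, 22265), (20437, 17196), (20438, 20674), (20439, 22266), (20440, 17201), (20441, 20768), (20442, 20449), (20443, 20786), (20444, 17206), (20445, 19172), (20446, 17209), (20447, 19734), (20448, 17211), (20449, 20442), (20450, 20361), (20451, 21801), (20452, 21172), (20453, 20333), (20454, 17223), (20455, 17227), (20456, 19693), (20457, 22268), (20458, 17235), (20459, 17236), (20460, 18394), (20461, 18682), (20462, 21308),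 (20463, 17238), (20464, 22204), (20465, 20476), (20466, 17241), (20467, 19996), (20468, 19270), (20469, 22272), (20470, 22274), (20471, 17247), (20472, 21141), (20473, 22277), (20474, 17249), (20475, 20569), (20476, 20465), (20477, 20477), (20478, 20478), (20479, 20043)]
    ⟨e3 q20416 L239563 q17216, e3 q20417 (flp_g L256342) q22260, e3 q20418 L239577 q20082, e3 q20419 L239587 q17222, e3 q20420 (flp_g L244672) q20975, e3 q20421 L256372 q22263, e3 q20422 L239607 q20055, e3 q20423 (flp_g L239609) q17170, e3 q20424 L239625 q17441, e3 q20425 (flp_g L249076) q21501, e3 q20426 L239647 q18832, e3 q20427 (flp_g L251618) q21788, e3 q20428 L239667 q18649, e3 q20429 L239679 q19399, e3 q20430 (flp_g L245655) q21099, e3 q20431 L239701 q19230, e3 q20432 L239711 q17726, e3 q20433 (flp_g L244149) q20904, e3 q20434 (flp_g L245645) q21098, e3 q20435 L239741 q17760, e3 q20436 L256400 q22265, e3 q20437 (flp_g L239749) q17196, e3 q20438 (flp_g L241846) q20674, e3 q20439 L256414 q22266, e3 q20440 (flp_g L239779) q17201, e3 q20441 (flp_g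 L242782) q20768, e3 q20442 (flp_g L239853) q20449, e3 q20443 L242933 q20786, e3 q20444 (flp_g L239807) q17206, e3 q20445 L239819 q19172, e3 q20446 (flp_g L239823) q17209, e3 q20447 L239837 q19734, e3 q20448 (flp_g L239841) q17211, e3 q20449 L239853 q20442, e3 q20450 L239865 q20361, e3 q20451 (flp_g L251778) q21801, e3 q20452 (flp_g L246222) q21172, e3 q20453 (flp_g L239895) q20333, e3 q20454 (flp_g L239897) q17223, e3 q20455 L239913 q17227, e3 q20456 L239925 q19693, e3 q20457 L256434 q22268, e3 q20458 (flp_g L239937) q17235, e3 q20459 (flp_g L239945) q17236, e3 q20460 L239959 q18394, e3 q20461 (flp_g L239973) q18682, e3 q20462 (flp_g L247389) q21308, e3 q20463 (flp_g L239985) q17238, e3 q20464 (flp_g L255742) q22204, e3 q20465 (flp_g L240073) q20476, e3 q20466 (flp_g L240013) q17241, e3 q20467 L240023 q19996, e3 q20468 L240031 q19270, e3 q20469 L256480 q22272, e3 q20470 L256495 q22274, e3 q20471 (flp_g L240043) q17247, e3 q20472 (flp_g L245974) q21141, e3 q20473 L256527 q22277, e3 q20474 (flp_g L240055) q17249,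 e3 q20475 (flp_g L240861) q20569, e3 q20476 L240073 q20465, e3 q20477 L240079 q20477, e3 q20478 L240088 q20478, e3 q20479 L240099 q20043, trivial⟩ (by decide +kernel)

theorem ce_g_320 : ∀ r, r < 64 → sm gg (Qf (20480 + r)) = Qf (tab Gen.g (20480 + r)) :=
  edges_tab (sm gg) Qf (tab Gen.g) 20480 [(20480, 22281), (20481, 21378), (20482, 17254), (20483, 19320), (20484, 18455), (20485, 20539), (20486, 21830), (20487, 18306), (20488, 17264), (20489, 22158), (20490, 21865), (20491, 19478), (20492, 17266), (20493, 21778), (20494, 17274), (20495, 19474), (20496, 17742), (20497, 18445), (20498, 20731), (20499, 20171), (20500, 17285), (20501, 17287), (20502, 20504), (20503, 17284), (20504, 20502), (20505, 21825), (20506, 22287), (20507, 17288), (20508, 17290), (20509, 19978), (20510, 18552), (20511, 17296), (20512, 19787), (20513, 18574), (20514, 17309), (20515, 22286), (20516, 17311), (20517, 17312), (20518, 18456), (20519, 18831), (20520, 21431), (20521, 17314), (20522, 22145), (20523, 20534), (20524, 17317), (20525, 21383),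 (20526, 22052), (20527, 22292), (20528, 22294), (20529, 17323), (20530, 22147), (20531, 21065), (20532, 17325), (20533, 20568), (20534, 20523), (20535, 20023), (20536, 22298), (20537, 17329), (20538, 22300), (20539, 20485), (20540, 17330), (20541, 17331), (20542, 18773), (20543, 22301)]
    ⟨e3 q20480 L256563 q22281, e3 q20481 (flp_g L248057) q21378, e3 q20482 (flp_g L240115) q17254, e3 q20483 L240127 q19320, e3 q20484 L240131 q18455, e3 q20485 L240603 q20539, e3 q20486 (flp_g L252066) q21830, e3 q20487 (flp_g L240159) q18306, e3 q20488 (flp_g L240163) q17264, e3 q20489 (flp_g L255315) q22158, e3 q20490 (flp_g L252397) q21865, e3 q20491 (flp_g L240201) q19478, e3 q20492 (flp_g L240203) q17266, e3 q20493 (flp_g L251516) q21778, e3 q20494 L240225 q17274, e3 q20495 L240235 q19474, e3 q20496 L240245 q17742, e3 q20497 L240253 q18445, e3 q20498 (flp_g L242398) q20731, e3 q20499 L240269 q20171, e3 q20500 L240277 q17285, e3 q20501 L240283 q17287, e3 q20502 L240309 q20504, e3 q20503 (flp_g L240293) q17284, e3 q20504 (flp_g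 L240309) q20502, e3 q20505 (flp_g L252008) q21825, e3 q20506 L256627 q22287, e3 q20507 (flp_g L240331) q17288, e3 q20508 (flp_g L240339) q17290, e3 q20509 L240359 q19978, e3 q20510 L240365 q18552, e3 q20511 (flp_g L240369) q17296, e3 q20512 L240387 q19787, e3 q20513 L240397 q18574, e3 q20514 (flp_g L240401) q17309, e3 q20515 (flp_g L256623) q22286, e3 q20516 (flp_g L240419) q17311, e3 q20517 (flp_g L240429) q17312, e3 q20518 L240445 q18456, e3 q20519 (flp_g L240459) q18831, e3 q20520 (flp_g L248505) q21431, e3 q20521 (flp_g L240473) q17314, e3 q20522 (flp_g L255202) q22145, e3 q20523 (flp_g L240561) q20534, e3 q20524 (flp_g L240497) q17317, e3 q20525 L248099 q21383, e3 q20526 (flp_g L254304) q22052, e3 q20527 L256685 q22292, e3 q20528 L256707 q22294, e3 q20529 (flp_g L240529) q17323, e3 q20530 (flp_g L255218) q22147, e3 q20531 (flp_g L245383) q21065, e3 q20532 (flp_g L240543) q17325, e3 q20533 (flp_g L240852) q20568, e3 q20534 L240561 q20523, e3 q20535 (flp_g L240570) q20023, e3 q20536 L256744 q22298, e3 q20537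 (flp_g L240581) q17329, e3 q20538 L256770 q22300, e3 q20539 (flp_g L240603) q20485, e3 q20540 (flp_g L240609) q17330, e3 q20541 (flp_g L240613) q17331, e3 q20542 L240629 q18773, e3 q20543 (flp_g L256784) q22301, trivial⟩ (by decide +kernel)

theorem ce_g_321 : ∀ r, r < 64 → sm gg (Qf (20544 + r)) = Qf (tab Gen.g (20544 + r)) :=
  edges_tab (sm gg) Qf (tab Gen.g) 20544 [(20544, 21326), (20545, 17342), (20546, 20573), (20547, 17372), (20548, 17344), (20549, 18916), (20550, 21935), (20551, 21838), (20552, 17347), (20553, 21503), (20554, 21465), (20555, 17351), (20556, 18866), (20557, 20579), (20558, 20585), (20559, 17384), (20560, 17385), (20561, 18936), (20562, 18940), (20563, 18941), (20564, 17386), (20565, 19454), (20566, 17387), (20567, 17361), (20568, 20533), (20569, 20475), (20570, 19323), (20571, 18867), (20572, 22303), (20573, 20546), (20574, 21450), (20575, 22304), (20576, 21457), (20577, 17375), (20578, 18851), (20579, 20557), (20580, 17379), (20581, 18871), (20582, 22318), (20583, 22307), (20584, 22315),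 (20585, 20558), (20586, 22021), (20587, 21764), (20588, 20042), (20589, 20795), (20590, 17872), (20591, 18274), (20592, 17474), (20593, 21826), (20594, 17479), (20595, 18583), (20596, 19906), (20597, 17490), (20598, 21264), (20599, 17511), (20600, 19666), (20601, 17512), (20602, 17514), (20603, 17522), (20604, 20649), (20605, 20198), (20606, 19987), (20607, 21261)]
    ⟨e3 q20544 (flp_g L247567) q21326, e3 q20545 (flp_g L240646) q17342, e3 q20546 (flp_g L240910) q20573, e3 q20547 (flp_g L240674) q17372, e3 q20548 (flp_g L240676) q17344, e3 q20549 L240688 q18916, e3 q20550 (flp_g L253134) q21935, e3 q20551 (flp_g L252138) q21838, e3 q20552 (flp_g L240712) q17347, e3 q20553 (flp_g L249088) q21503, e3 q20554 (flp_g L248776) q21465, e3 q20555 (flp_g L240738) q17351, e3 q20556 L240748 q18866, e3 q20557 (flp_g L240968) q20579, e3 q20558 (flp_g L241028) q20585, e3 q20559 L240776 q17384, e3 q20560 L240784 q17385, e3 q20561 L240792 q18936, e3 q20562 L240798 q18940, e3 q20563 L240804 q18941, e3 q20564 L240815 q17386, e3 q20565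 (flp_g L240827) q19454, e3 q20566 (flp_g L240835) q17387, e3 q20567 (flp_g L240837) q17361, e3 q20568 L240852 q20533, e3 q20569 L240861 q20475, e3 q20570 L240870 q19323, e3 q20571 L240886 q18867, e3 q20572 (flp_g L256806) q22303, e3 q20573 L240910 q20546, e3 q20574 (flp_g L248668) q21450, e3 q20575 (flp_g L256816) q22304, e3 q20576 (flp_g L248722) q21457, e3 q20577 (flp_g L240942) q17375, e3 q20578 L240960 q18851, e3 q20579 L240968 q20557, e3 q20580 (flp_g L240972) q17379, e3 q20581 L240984 q18871, e3 q20582 (flp_g L256949) q22318, e3 q20583 (flp_g L256856) q22307, e3 q20584 (flp_g L256919) q22315, e3 q20585 L241028 q20558, e3 q20586 (flp_g L253972) q22021, e3 q20587 (flp_g L251361) q21764, e3 q20588 L241054 q20042, e3 q20589 (flp_g L243011) q20795, e3 q20590 L241070 q17872, e3 q20591 L241076 q18274, e3 q20592 (flp_g L241078) q17474, e3 q20593 (flp_g L252022) q21826, e3 q20594 (flp_g L241096) q17479, e3 q20595 L241116 q18583, e3 q20596 L241128 q19906, e3 q20597 L241138 q17490, e3 q20598 (flp_g L247041) q21264, e3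 q20599 L241162 q17511, e3 q20600 L241176 q19666, e3 q20601 (flp_g L241180) q17512, e3 q20602 (flp_g L241194) q17514, e3 q20603 (flp_g L241208) q17522, e3 q20604 (flp_g L241628) q20649, e3 q20605 L241234 q20198, e3 q20606 L241248 q19987, e3 q20607 (flp_g L247011) q21261, trivial⟩ (by decide +kernel)

theorem ce_g_322 : ∀ r, r < 64 → sm gg (Qf (20608 + r)) = Qf (tab Gen.g (20608 + r)) :=
  edges_tab (sm gg) Qf (tab Gen.g) 20608 [(20608, 18607), (20609, 17536), (20610, 20610), (20611, 20644), (20612, 18119), (20613, 17545), (20614, 22319), (20615, 17609), (20616, 20635), (20617, 22324), (20618, 17550), (20619, 17560), (20620, 18005), (20621, 21344), (20622, 17562), (20623, 21884), (20624, 17566), (20625, 17570), (20626, 17568), (20627, 22325), (20628, 20032), (20629, 22105), (20630, 22080), (20631, 18106), (20632, 20098), (20633, 18108), (20634, 20931), (20635, 20616), (20636, 21877), (20637, 20202), (20638, 22338), (20639, 21828), (20640, 17581), (20641, 19377), (20642, 18611), (20643, 17585), (20644, 20611), (20645,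 17587), (20646, 19376), (20647, 19378), (20648, 18147), (20649, 20604), (20650, 18143), (20651, 18511), (20652, 22340), (20653, 20712), (20654, 22344), (20655, 22346), (20656, 22347), (20657, 17598), (20658, 22348), (20659, 17599), (20660, 20962), (20661, 17601), (20662, 19544), (20663, 17608), (20664, 22321), (20665, 19383), (20666, 20672), (20667, 17615), (20668, 19989), (20669, 17927), (20670, 20819), (20671, 17871)]
    ⟨e3 q20608 (flp_g L241267) q18607, e3 q20609 (flp_g L241269) q17536, e3 q20610 L241289 q20610, e3 q20611 L241570 q20644, e3 q20612 L241310 q18119, e3 q20613 L241316 q17545, e3 q20614 (flp_g L256959) q22319, e3 q20615 (flp_g L241324) q17609, e3 q20616 (flp_g L241478) q20635, e3 q20617 L256987 q22324, e3 q20618 (flp_g L241338) q17550, e3 q20619 (flp_g L241346) q17560, e3 q20620 L241370 q18005, e3 q20621 (flp_g L247751) q21344, e3 q20622 (flp_g L241386) q17562, e3 q20623 (flp_g L252598) q21884, e3 q20624 (flp_g L241410) q17566, e3 q20625 L241424 q17570, e3 q20626 (flp_g L241426) q17568, e3 q20627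 (flp_g L257003) q22325, e3 q20628 L253198 q20032, e3 q20629 L254822 q22105, e3 q20630 L254610 q22080, e3 q20631 L241446 q18106, e3 q20632 L241458 q20098, e3 q20633 L241466 q18108, e3 q20634 L244347 q20931, e3 q20635 L241478 q20616, e3 q20636 (flp_g L252528) q21877, e3 q20637 L241500 q20202, e3 q20638 L257107 q22338, e3 q20639 (flp_g L252040) q21828, e3 q20640 (flp_g L241518) q17581, e3 q20641 L241534 q19377, e3 q20642 L241548 q18611, e3 q20643 (flp_g L241552) q17585, e3 q20644 (flp_g L241570) q20611, e3 q20645 (flp_g L241574) q17587, e3 q20646 L241592 q19376, e3 q20647 L241604 q19378, e3 q20648 L241616 q18147, e3 q20649 L241628 q20604, e3 q20650 L241640 q18143, e3 q20651 L241652 q18511, e3 q20652 L257127 q22340, e3 q20653 L242220 q20712, e3 q20654 L257155 q22344, e3 q20655 L257165 q22346, e3 q20656 L257175 q22347, e3 q20657 (flp_g L241674) q17598, e3 q20658 L257185 q22348, e3 q20659 (flp_g L241684) q17599, e3 q20660 (flp_g L244581) q20962, e3 q20661 (flp_g L241702) q17601, e3 q20662 (flp_g L241716) q19544, e3 q20663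 (flp_g L241718) q17608, e3 q20664 L256969 q22321, e3 q20665 L241740 q19383, e3 q20666 (flp_g L241822) q20672, e3 q20667 L241760 q17615, e3 q20668 L241776 q19989, e3 q20669 L241784 q17927, e3 q20670 (flp_g L243301) q20819, e3 q20671 L241810 q17871, trivial⟩ (by decide +kernel)

theorem ce_g_323 : ∀ r, r < 64 → sm gg (Qf (20672 + r)) = Qf (tab Gen.g (20672 + r)) :=
  edges_tab (sm gg) Qf (tab Gen.g) 20672 [(20672, 20666), (20673, 18446), (20674, 20438), (20675, 17628), (20676, 21301), (20677, 22014), (20678, 20347), (20679, 17640), (20680, 18258), (20681, 20105), (20682, 18260), (20683, 21037), (20684, 19523), (20685, 21146), (20686, 17646), (20687, 19736), (20688, 22353), (20689, 17651), (20690, 17653), (20691, 17657), (20692, 17679), (20693, 21036), (20694, 18267), (20695, 19765), (20696, 19835), (20697, 21486), (20698, 17674), (20699, 19027), (20700, 18186), (20701, 19006), (20702, 19000), (20703, 20706), (20704, 17685), (20705, 18970), (20706, 20703), (20707, 17688), (20708, 17689), (20709, 20709), (20710, 20710),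 (20711, 21263), (20712, 20653), (20713, 22359), (20714, 17702), (20715, 17703), (20716, 20115), (20717, 22360), (20718, 17713), (20719, 21077), (20720, 17714), (20721, 20808), (20722, 18797), (20723, 21100), (20724, 17720), (20725, 22010), (20726, 20410), (20727, 20740), (20728, 22361), (20729, 17734), (20730, 21886), (20731, 20498), (20732, 19094), (20733, 17747), (20734, 17751), (20735, 17752)]
    ⟨e3 q20672 L241822 q20666, e3 q20673 L241834 q18446, e3 q20674 L241846 q20438, e3 q20675 (flp_g L241850) q17628, e3 q20676 (flp_g L247319) q21301, e3 q20677 (flp_g L253906) q22014, e3 q20678 L241882 q20347, e3 q20679 (flp_g L241886) q17640, e3 q20680 L241898 q18258, e3 q20681 L241910 q20105, e3 q20682 L241918 q18260, e3 q20683 L245163 q21037, e3 q20684 (flp_g L241932) q19523, e3 q20685 (flp_g L246026) q21146, e3 q20686 (flp_g L241940) q17646, e3 q20687 L241956 q19736, e3 q20688 L257237 q22353, e3 q20689 (flp_g L241968) q17651, e3 q20690 (flp_g L241980) q17653, e3 q20691 (flp_g L241990) q17657, e3 q20692 L242010 q17679,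 e3 q20693 (flp_g L245151) q21036, e3 q20694 (flp_g L242030) q18267, e3 q20695 L242040 q19765, e3 q20696 L242050 q19835, e3 q20697 (flp_g L248946) q21486, e3 q20698 (flp_g L242064) q17674, e3 q20699 L242084 q19027, e3 q20700 (flp_g L242102) q18186, e3 q20701 (flp_g L242114) q19006, e3 q20702 L242126 q19000, e3 q20703 (flp_g L242178) q20706, e3 q20704 (flp_g L242134) q17685, e3 q20705 L242156 q18970, e3 q20706 L242178 q20703, e3 q20707 (flp_g L242164) q17688, e3 q20708 (flp_g L242180) q17689, e3 q20709 L242194 q20709, e3 q20710 L242199 q20710, e3 q20711 (flp_g L247033) q21263, e3 q20712 (flp_g L242220) q20653, e3 q20713 L257311 q22359, e3 q20714 (flp_g L242230) q17702, e3 q20715 (flp_g L242236) q17703, e3 q20716 (flp_g L242256) q20115, e3 q20717 L257325 q22360, e3 q20718 (flp_g L242264) q17713, e3 q20719 (flp_g L245501) q21077, e3 q20720 (flp_g L242286) q17714, e3 q20721 (flp_g L243161) q20808, e3 q20722 L242302 q18797, e3 q20723 (flp_g L245665) q21100, e3 q20724 (flp_g L242312) q17720, e3 q20725 (flp_g L253860) q22010,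 e3 q20726 L242344 q20410, e3 q20727 (flp_g L242500) q20740, e3 q20728 L257335 q22361, e3 q20729 (flp_g L242368) q17734, e3 q20730 (flp_g L252622) q21886, e3 q20731 L242398 q20498, e3 q20732 (flp_g L242414) q19094, e3 q20733 (flp_g L242416) q17747, e3 q20734 (flp_g L242430) q17751, e3 q20735 (flp_g L242440) q17752, trivial⟩ (by decide +kernel)

theorem ce_g_324 : ∀ r, r < 64 → sm gg (Qf (20736 + r)) = Qf (tab Gen.g (20736 + r)) :=
  edges_tab (sm gg) Qf (tab Gen.g) 20736 [(20736, 17757), (20737, 19168), (20738, 17755), (20739, 20741), (20740, 20727), (20741, 20739), (20742, 21876), (20743, 22264), (20744, 17762), (20745, 19635), (20746, 17767), (20747, 21800), (20748, 22367), (20749, 20763), (20750, 17772), (20751, 19436), (20752, 17773), (20753, 22369), (20754, 17778), (20755, 19005), (20756, 17779), (20757, 20757), (20758, 17787), (20759, 19322), (20760, 22372), (20761, 21850), (20762, 17790), (20763, 20749), (20764, 20783), (20765, 19926), (20766, 19556), (20767, 17795), (20768, 20441), (20769, 22267), (20770,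 17802), (20771, 19873), (20772, 20784), (20773, 20790), (20774, 17822), (20775, 17823), (20776, 21517), (20777, 21518), (20778, 21519), (20779, 22381), (20780, 17824), (20781, 17811), (20782, 17825), (20783, 20764), (20784, 20772), (20785, 17817), (20786, 20443), (20787, 22276), (20788, 22374), (20789, 22380), (20790, 20773), (20791, 21236), (20792, 17859), (20793, 22167), (20794, 20344), (20795, 20589), (20796, 21911), (20797, 21870), (20798, 17875), (20799, 17880)]
    ⟨e3 q20736 L242455 q17757, e3 q20737 L242468 q19168, e3 q20738 (flp_g L242470) q17755, e3 q20739 L242510 q20741, e3 q20740 L242500 q20727, e3 q20741 (flp_g L242510) q20739, e3 q20742 (flp_g L252514) q21876, e3 q20743 (flp_g L256394) q22264, e3 q20744 (flp_g L242528) q17762, e3 q20745 L242544 q19635, e3 q20746 (flp_g L242548) q17767, e3 q20747 (flp_g L251760) q21800, e3 q20748 L257401 q22367, e3 q20749 (flp_g L242727) q20763, e3 q20750 (flp_g L242586) q17772, e3 q20751 L242602 q19436, e3 q20752 (flp_g L242604) q17773, e3 q20753 L257420 q22369, e3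 q20754 (flp_g L242622) q17778, e3 q20755 L242644 q19005, e3 q20756 (flp_g L242646) q17779, e3 q20757 L242668 q20757, e3 q20758 (flp_g L242669) q17787, e3 q20759 L242691 q19322, e3 q20760 L257458 q22372, e3 q20761 L252257 q21850, e3 q20762 (flp_g L242711) q17790, e3 q20763 L242727 q20749, e3 q20764 (flp_g L242898) q20783, e3 q20765 L242745 q19926, e3 q20766 L242759 q19556, e3 q20767 (flp_g L242761) q17795, e3 q20768 L242782 q20441, e3 q20769 (flp_g L256432) q22267, e3 q20770 (flp_g L242794) q17802, e3 q20771 L242810 q19873, e3 q20772 (flp_g L242911) q20784, e3 q20773 (flp_g L242969) q20790, e3 q20774 L242840 q17822, e3 q20775 L242854 q17823, e3 q20776 (flp_g L249208) q21517, e3 q20777 (flp_g L249214) q21518, e3 q20778 (flp_g L249226) q21519, e3 q20779 L257545 q22381, e3 q20780 (flp_g L242877) q17824, e3 q20781 (flp_g L242879) q17811, e3 q20782 L242891 q17825, e3 q20783 L242898 q20764, e3 q20784 L242911 q20772, e3 q20785 (flp_g L242915) q17817, e3 q20786 (flp_g L242933) q20443, e3 q20787 (flp_g L256523) q22276, e3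 q20788 (flp_g L257485) q22374, e3 q20789 L257543 q22380, e3 q20790 L242969 q20773, e3 q20791 (flp_g L246769) q21236, e3 q20792 (flp_g L242981) q17859, e3 q20793 (flp_g L255398) q22167, e3 q20794 L243001 q20344, e3 q20795 L243011 q20589, e3 q20796 (flp_g L252880) q21911, e3 q20797 L252449 q21870, e3 q20798 (flp_g L243027) q17875, e3 q20799 (flp_g L243039) q17880, trivial⟩ (by decide +kernel)

theorem ce_g_325 : ∀ r, r < 64 → sm gg (Qf (20800 + r)) = Qf (tab Gen.g (20800 + r)) :=
  edges_tab (sm gg) Qf (tab Gen.g) 20800 [(20800, 20100), (20801, 17894), (20802, 17899), (20803, 18358), (20804, 18493), (20805, 19589), (20806, 19825), (20807, 17897), (20808, 20721), (20809, 22132), (20810, 20312), (20811, 18412), (20812, 20406), (20813, 17910), (20814, 18438), (20815, 18434), (20816, 18439), (20817, 18523), (20818, 21151), (20819, 20670), (20820, 17930), (20821, 18491), (20822, 21905), (20823, 17952), (20824, 20235), (20825, 17956), (20826, 20841), (20827, 20852), (20828, 20853), (20829, 17980), (20830, 17981), (20831,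 17972), (20832, 20403), (20833, 17989), (20834, 18017), (20835, 22385), (20836, 18075), (20837, 17984), (20838, 18003), (20839, 21879), (20840, 21354), (20841, 20826), (20842, 17994), (20843, 19379), (20844, 22092), (20845, 18000), (20846, 19288), (20847, 19123), (20848, 21396), (20849, 18223), (20850, 21389), (20851, 18788), (20852, 20827), (20853, 20828), (20854, 18015), (20855, 19814), (20856, 18985), (20857, 22391), (20858, 18016), (20859, 21790), (20860, 21352), (20861, 22392), (20862, 18020), (20863, 18021)]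
    ⟨e3 q20800 L243055 q20100, e3 q20801 L243065 q17894, e3 q20802 L243079 q17899, e3 q20803 L243095 q18358, e3 q20804 L243107 q18493, e3 q20805 L243121 q19589, e3 q20806 (flp_g L243139) q19825, e3 q20807 (flp_g L243141) q17897, e3 q20808 L243161 q20721, e3 q20809 (flp_g L255066) q22132, e3 q20810 L243181 q20312, e3 q20811 L243191 q18412, e3 q20812 L243205 q20406, e3 q20813 (flp_g L243211) q17910, e3 q20814 L243233 q18438, e3 q20815 L243247 q18434, e3 q20816 L243259 q18439, e3 q20817 L243277 q18523, e3 q20818 (flp_g L246060) q21151, e3 q20819 L243301 q20670, e3 q20820 L243315 q17930, e3 q20821 L243325 q18491, e3 q20822 (flp_g L252814) q21905, e3 q20823 (flp_g L243335) q17952, e3 q20824 L243359 q20235, e3 q20825 (flp_g L243363) q17956, e3 q20826 L243527 q20841, e3 q20827 (flp_g L243621) q20852, e3 q20828 (flp_g L243633) q20853, e3 q20829 L243411 q17980, e3 q20830 L243427 q17981, e3 q20831 (flp_g L243431) q17972, e3 q20832 L243447 q20403, e3 q20833 L243455 q17989, e3 q20834 L243463 q18017, e3 q20835 L257586 q22385,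 e3 q20836 L243483 q18075, e3 q20837 (flp_g L243485) q17984, e3 q20838 L243505 q18003, e3 q20839 L252550 q21879, e3 q20840 (flp_g L247853) q21354, e3 q20841 (flp_g L243527) q20826, e3 q20842 (flp_g L243529) q17994, e3 q20843 L243547 q19379, e3 q20844 L254714 q22092, e3 q20845 (flp_g L243553) q18000, e3 q20846 L243567 q19288, e3 q20847 L243577 q19123, e3 q20848 (flp_g L248205) q21396, e3 q20849 L243599 q18223, e3 q20850 (flp_g L248151) q21389, e3 q20851 (flp_g L243615) q18788, e3 q20852 L243621 q20827, e3 q20853 L243633 q20828, e3 q20854 L243645 q18015, e3 q20855 (flp_g L243655) q19814, e3 q20856 L243667 q18985, e3 q20857 L257642 q22391, e3 q20858 (flp_g L243677) q18016, e3 q20859 (flp_g L251644) q21790, e3 q20860 (flp_g L247835) q21352, e3 q20861 L257650 q22392, e3 q20862 (flp_g L243717) q18020, e3 q20863 (flp_g L243725) q18021, trivial⟩ (by decide +kernel)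

theorem ce_g_326 : ∀ r, r < 64 → sm gg (Qf (20864 + r)) = Qf (tab Gen.g (20864 + r)) :=
  edges_tab (sm gg) Qf (tab Gen.g) 20864 [(20864, 21029), (20865, 21203), (20866, 21030), (20867, 18755), (20868, 19093), (20869, 18039), (20870, 18128), (20871, 18502), (20872, 18740), (20873, 18032), (20874, 18033), (20875, 19807), (20876, 18035), (20877, 21357), (20878, 21043), (20879, 18041), (20880, 19467), (20881, 18042), (20882, 18043), (20883, 21103), (20884, 18722), (20885, 21791), (20886, 18049), (20887, 20963), (20888, 18950), (20889, 18807), (20890, 18052), (20891, 20300), (20892, 19294), (20893, 20906), (20894, 18058), (20895, 18059), (20896, 18312), (20897, 18789), (20898, 18629), (20899, 18646), (20900, 19201), (20901, 18070), (20902, 18648), (20903, 22403), (20904, 20433), (20905, 18171), (20906, 20893), (20907, 21221), (20908, 18077), (20909, 18082), (20910, 21339), (20911, 18473), (20912, 18680), (20913, 19425), (20914, 18367), (20915, 18101), (20916, 18482), (20917, 18103), (20918, 20927), (20919, 19529),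 (20920, 18765), (20921, 21196), (20922, 21372), (20923, 22408), (20924, 22417), (20925, 18754), (20926, 21373), (20927, 20918)]
    ⟨e3 q20864 (flp_g L245095) q21029, e3 q20865 (flp_g L246505) q21203, e3 q20866 (flp_g L245105) q21030, e3 q20867 L243761 q18755, e3 q20868 L243773 q19093, e3 q20869 L243783 q18039, e3 q20870 L243795 q18128, e3 q20871 L243807 q18502, e3 q20872 (flp_g L243821) q18740, e3 q20873 (flp_g L243823) q18032, e3 q20874 (flp_g L243833) q18033, e3 q20875 (flp_g L243857) q19807, e3 q20876 (flp_g L243859) q18035, e3 q20877 (flp_g L247881) q21357, e3 q20878 (flp_g L245203) q21043, e3 q20879 (flp_g L243889) q18041, e3 q20880 L243909 q19467, e3 q20881 (flp_g L243911) q18042, e3 q20882 (flp_g L243921) q18043, e3 q20883 (flp_g L245703) q21103, e3 q20884 L243945 q18722, e3 q20885 (flp_g L251654) q21791, e3 q20886 (flp_g L243957) q18049, e3 q20887 (flp_g L244587) q20963, e3 q20888 L243983 q18950, e3 q20889 (flp_g L243989) q18807, e3 q20890 (flp_g L243991) q18052, e3 q20891 L244005 q20300, e3 q20892 L244017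 q19294, e3 q20893 (flp_g L244173) q20906, e3 q20894 (flp_g L244031) q18058, e3 q20895 (flp_g L244043) q18059, e3 q20896 L244063 q18312, e3 q20897 L244075 q18789, e3 q20898 L244087 q18629, e3 q20899 L244095 q18646, e3 q20900 L244113 q19201, e3 q20901 L244123 q18070, e3 q20902 L244129 q18648, e3 q20903 L257772 q22403, e3 q20904 L244149 q20433, e3 q20905 L244163 q18171, e3 q20906 L244173 q20893, e3 q20907 L246655 q21221, e3 q20908 (flp_g L244183) q18077, e3 q20909 (flp_g L244193) q18082, e3 q20910 L247705 q21339, e3 q20911 L244213 q18473, e3 q20912 L244221 q18680, e3 q20913 L244231 q19425, e3 q20914 L244239 q18367, e3 q20915 L244245 q18101, e3 q20916 L244257 q18482, e3 q20917 L244261 q18103, e3 q20918 L244317 q20927, e3 q20919 L244269 q19529, e3 q20920 (flp_g L244277) q18765, e3 q20921 (flp_g L246435) q21196, e3 q20922 L248009 q21372, e3 q20923 (flp_g L257822) q22408, e3 q20924 L257898 q22417, e3 q20925 L244307 q18754, e3 q20926 (flp_g L248015) q21373, e3 q20927 (flp_g L244317) q20918, trivial⟩ (by decide +kernel)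

theorem ce_g_327 : ∀ r, r < 64 → sm gg (Qf (20928 + r)) = Qf (tab Gen.g (20928 + r)) :=
  edges_tab (sm gg) Qf (tab Gen.g) 20928 [(20928, 22421), (20929, 18104), (20930, 22164), (20931, 20634), (20932, 18375), (20933, 18110), (20934, 19296), (20935, 21363), (20936, 21869), (20937, 18123), (20938, 22399), (20939, 22090), (20940, 18137), (20941, 22054), (20942, 20008), (20943, 22426), (20944, 22428), (20945, 18150), (20946, 22429), (20947, 18151), (20948, 22397), (20949, 18153), (20950, 22431), (20951, 22432), (20952, 22422), (20953, 18155), (20954, 22400), (20955, 22434), (20956, 18156), (20957, 18157), (20958, 18820), (20959, 22125), (20960, 18162), (20961, 19850), (20962, 20660), (20963, 20887), (20964, 19593), (20965, 21565), (20966, 18995), (20967, 21555), (20968, 21543), (20969, 18187), (20970, 18667), (20971, 18194), (20972, 18195), (20973, 18196), (20974, 20981), (20975, 20420), (20976, 22227), (20977, 22226), (20978, 21628), (20979, 21309), (20980, 22228), (20981, 20974), (20982, 22447), (20983, 18197),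 (20984, 18961), (20985, 21530), (20986, 18518), (20987, 18401), (20988, 20258), (20989, 18977), (20990, 21089), (20991, 22450)]
    ⟨e3 q20928 L257942 q22421, e3 q20929 (flp_g L244323) q18104, e3 q20930 (flp_g L255370) q22164, e3 q20931 (flp_g L244347) q20634, e3 q20932 L244355 q18375, e3 q20933 (flp_g L244361) q18110, e3 q20934 L244373 q19296, e3 q20935 (flp_g L247930) q21363, e3 q20936 (flp_g L252433) q21869, e3 q20937 (flp_g L244393) q18123, e3 q20938 (flp_g L257736) q22399, e3 q20939 L254690 q22090, e3 q20940 (flp_g L244419) q18137, e3 q20941 (flp_g L254324) q22054, e3 q20942 (flp_g L244449) q20008, e3 q20943 L257986 q22426, e3 q20944 L258000 q22428, e3 q20945 (flp_g L244461) q18150, e3 q20946 L258004 q22429, e3 q20947 (flp_g L244477) q18151, e3 q20948 (flp_g L257714) q22397, e3 q20949 (flp_g L244487) q18153, e3 q20950 L258020 q22431, e3 q20951 L258030 q22432, e3 q20952 (flp_g L257958) q22422, e3 q20953 (flp_g L244513) q18155, e3 q20954 (flp_g L257746) q22400, e3 q20955 L258050 q22434, e3 q20956 (flp_g L244527)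 q18156, e3 q20957 (flp_g L244533) q18157, e3 q20958 L244543 q18820, e3 q20959 (flp_g L254984) q22125, e3 q20960 (flp_g L244555) q18162, e3 q20961 L244569 q19850, e3 q20962 L244581 q20660, e3 q20963 L244587 q20887, e3 q20964 L244601 q19593, e3 q20965 (flp_g L249647) q21565, e3 q20966 L244615 q18995, e3 q20967 (flp_g L249561) q21555, e3 q20968 (flp_g L249434) q21543, e3 q20969 (flp_g L244627) q18187, e3 q20970 L244645 q18667, e3 q20971 L244653 q18194, e3 q20972 L244659 q18195, e3 q20973 L244663 q18196, e3 q20974 L244708 q20981, e3 q20975 L244672 q20420, e3 q20976 L255984 q22227, e3 q20977 (flp_g L255970) q22226, e3 q20978 (flp_g L250107) q21628, e3 q20979 (flp_g L247397) q21309, e3 q20980 L255998 q22228, e3 q20981 (flp_g L244708) q20974, e3 q20982 L258181 q22447, e3 q20983 (flp_g L244718) q18197, e3 q20984 L244732 q18961, e3 q20985 (flp_g L249327) q21530, e3 q20986 L244748 q18518, e3 q20987 (flp_g L244758) q18401, e3 q20988 L244766 q20258, e3 q20989 L244778 q18977, e3 q20990 (flp_g L245581) q21089, e3 q20991 L258211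 q22450, trivial⟩ (by decide +kernel)

theorem ce_g_328 : ∀ r, r < 64 → sm gg (Qf (20992 + r)) = Qf (tab Gen.g (20992 + r)) :=
  edges_tab (sm gg) Qf (tab Gen.g) 20992 [(20992, 21088), (20993, 21689), (20994, 21690), (20995, 19174), (20996, 21547), (20997, 22454), (20998, 21009), (20999, 22456), (21000, 18216), (21001, 22203), (21002, 22458), (21003, 22195), (21004, 18219), (21005, 22402), (21006, 22459), (21007, 18220), (21008, 18221), (21009, 20998), (21010, 18229), (21011, 18793), (21012, 21942), (21013, 21189), (21014, 19117), (21015, 18232), (21016, 18336), (21017, 18725), (21018, 18236), (21019, 21023), (21020, 21906), (21021, 19583), (21022, 21209), (21023, 21019), (21024, 19578), (21025, 18245), (21026, 18307), (21027, 22196), (21028, 18305), (21029, 20864), (21030, 20866), (21031, 19037), (21032, 21409), (21033, 21408), (21034, 22413), (21035, 19676), (21036, 20693), (21037, 20683), (21038, 21596), (21039, 22354), (21040, 18262), (21041, 19731), (21042, 21095), (21043, 20878), (21044, 22241), (21045, 22190),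 (21046, 18386), (21047, 18387), (21048, 18388), (21049, 22005), (21050, 22440), (21051, 21977), (21052, 20342), (21053, 18276), (21054, 18403), (21055, 19735)]
    ⟨e3 q20992 (flp_g L245567) q21088, e3 q20993 L250685 q21689, e3 q20994 L250695 q21690, e3 q20995 L244822 q19174, e3 q20996 L249482 q21547, e3 q20997 L258254 q22454, e3 q20998 (flp_g L244907) q21009, e3 q20999 L258276 q22456, e3 q21000 (flp_g L244851) q18216, e3 q21001 (flp_g L255728) q22203, e3 q21002 L258296 q22458, e3 q21003 (flp_g L255628) q22195, e3 q21004 (flp_g L244873) q18219, e3 q21005 (flp_g L257770) q22402, e3 q21006 L258308 q22459, e3 q21007 (flp_g L244889) q18220, e3 q21008 (flp_g L244895) q18221, e3 q21009 L244907 q20998, e3 q21010 L244917 q18229, e3 q21011 L244927 q18793, e3 q21012 L253220 q21942, e3 q21013 (flp_g L246367) q21189, e3 q21014 (flp_g L244953) q19117, e3 q21015 (flp_g L244955) q18232, e3 q21016 L244975 q18336, e3 q21017 L244981 q18725, e3 q21018 (flp_g L244985) q18236, e3 q21019 L245029 q21023, e3 q21020 (flp_g L252822) q21906,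 e3 q21021 (flp_g L245013) q19583, e3 q21022 (flp_g L246549) q21209, e3 q21023 (flp_g L245029) q21019, e3 q21024 (flp_g L245041) q19578, e3 q21025 (flp_g L245045) q18245, e3 q21026 L245067 q18307, e3 q21027 (flp_g L255642) q22196, e3 q21028 L245085 q18305, e3 q21029 L245095 q20864, e3 q21030 L245105 q20866, e3 q21031 L245117 q19037, e3 q21032 (flp_g L248316) q21409, e3 q21033 (flp_g L248308) q21408, e3 q21034 (flp_g L257862) q22413, e3 q21035 L245141 q19676, e3 q21036 L245151 q20693, e3 q21037 (flp_g L245163) q20683, e3 q21038 (flp_g L249875) q21596, e3 q21039 L257261 q22354, e3 q21040 (flp_g L245179) q18262, e3 q21041 L245195 q19731, e3 q21042 L245677 q21095, e3 q21043 L245203 q20878, e3 q21044 (flp_g L256144) q22241, e3 q21045 (flp_g L255579) q22190, e3 q21046 L245223 q18386, e3 q21047 L245233 q18387, e3 q21048 L245241 q18388, e3 q21049 (flp_g L253816) q22005, e3 q21050 (flp_g L258109) q22440, e3 q21051 L253549 q21977, e3 q21052 (flp_g L245263) q20342, e3 q21053 (flp_g L245265) q18276, e3 q21054 L245285 q18403,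 e3 q21055 L245295 q19735, trivial⟩ (by decide +kernel)

theorem ce_g_329 : ∀ r, r < 64 → sm gg (Qf (21056 + r)) = Qf (tab Gen.g (21056 + r)) :=
  edges_tab (sm gg) Qf (tab Gen.g) 21056 [(21056, 21784), (21057, 18296), (21058, 18297), (21059, 22474), (21060, 18301), (21061, 22475), (21062, 18302), (21063, 18303), (21064, 19362), (21065, 20531), (21066, 18805), (21067, 18806), (21068, 19817), (21069, 22395), (21070, 22394), (21071, 18315), (21072, 22218), (21073, 22478), (21074, 18317), (21075, 22134), (21076, 18318), (21077, 20719), (21078, 18321), (21079, 22216), (21080, 21986), (21081, 20395), (21082, 21673), (21083, 20238), (21084, 22159), (21085, 21682), (21086, 22485), (21087, 18331), (21088, 20992), (21089, 20990), (21090, 19851), (21091, 18359), (21092, 18356), (21093, 20226), (21094, 21872), (21095, 21042), (21096, 22240), (21097, 22231), (21098, 20434), (21099, 20430), (21100, 20723), (21101, 18973), (21102, 21200), (21103, 20883), (21104, 21201), (21105, 22131), (21106, 21204), (21107, 21205), (21108, 22497),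 (21109, 22393), (21110, 21386), (21111, 22406), (21112, 22501), (21113, 18489), (21114, 21167), (21115, 18369), (21116, 22503), (21117, 22504), (21118, 18370), (21119, 22128)]
    ⟨e3 q21056 L251584 q21784, e3 q21057 L245319 q18296, e3 q21058 (flp_g L245321) q18297, e3 q21059 L258486 q22474, e3 q21060 (flp_g L245331) q18301, e3 q21061 L258498 q22475, e3 q21062 (flp_g L245345) q18302, e3 q21063 (flp_g L245355) q18303, e3 q21064 L245379 q19362, e3 q21065 L245383 q20531, e3 q21066 L245395 q18805, e3 q21067 L245411 q18806, e3 q21068 L245423 q19817, e3 q21069 (flp_g L257690) q22395, e3 q21070 (flp_g L257678) q22394, e3 q21071 (flp_g L245445) q18315, e3 q21072 (flp_g L255891) q22218, e3 q21073 L258528 q22478, e3 q21074 (flp_g L245473) q18317, e3 q21075 (flp_g L255092) q22134, e3 q21076 (flp_g L245487) q18318, e3 q21077 L245501 q20719, e3 q21078 (flp_g L245503) q18321, e3 q21079 (flp_g L255871) q22216, e3 q21080 (flp_g L253641) q21986, e3 q21081 L245525 q20395, e3 q21082 L250524 q21673, e3 q21083 L245537 q20238, e3 q21084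 (flp_g L255327) q22159, e3 q21085 (flp_g L250617) q21682, e3 q21086 L258612 q22485, e3 q21087 (flp_g L245553) q18331, e3 q21088 L245567 q20992, e3 q21089 L245581 q20990, e3 q21090 L245591 q19851, e3 q21091 L245605 q18359, e3 q21092 L245615 q18356, e3 q21093 L245621 q20226, e3 q21094 (flp_g L252469) q21872, e3 q21095 (flp_g L245677) q21042, e3 q21096 (flp_g L256130) q22240, e3 q21097 (flp_g L256032) q22231, e3 q21098 L245645 q20434, e3 q21099 L245655 q20430, e3 q21100 L245665 q20723, e3 q21101 L245687 q18973, e3 q21102 (flp_g L246471) q21200, e3 q21103 L245703 q20883, e3 q21104 (flp_g L246477) q21201, e3 q21105 (flp_g L255054) q22131, e3 q21106 (flp_g L246513) q21204, e3 q21107 (flp_g L246521) q21205, e3 q21108 L258742 q22497, e3 q21109 (flp_g L257668) q22393, e3 q21110 (flp_g L248121) q21386, e3 q21111 (flp_g L257808) q22406, e3 q21112 L258782 q22501, e3 q21113 (flp_g L245775) q18489, e3 q21114 (flp_g L246188) q21167, e3 q21115 (flp_g L245783) q18369, e3 q21116 L258804 q22503, e3 q21117 L258816 q22504, e3 q21118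 (flp_g L245801) q18370, e3 q21119 (flp_g L255020) q22128, trivial⟩ (by decide +kernel)

theorem ce_g_330 : ∀ r, r < 64 → sm gg (Qf (21120 + r)) = Qf (tab Gen.g (21120 + r)) :=
  edges_tab (sm gg) Qf (tab Gen.g) 21120 [(21120, 22236), (21121, 18376), (21122, 19756), (21123, 22191), (21124, 18383), (21125, 21672), (21126, 22187), (21127, 21179), (21128, 18397), (21129, 19456), (21130, 22506), (21131, 18393), (21132, 22507), (21133, 21178), (21134, 21137), (21135, 18398), (21136, 18399), (21137, 21134), (21138, 22224), (21139, 22512), (21140, 18404), (21141, 20472), (21142, 20138), (21143, 19458), (21144, 19460), (21145, 21862), (21146, 20685), (21147, 22515), (21148, 22217), (21149, 22517), (21150, 18418), (21151, 20818), (21152, 19605), (21153, 18746), (21154, 18745), (21155, 22518), (21156, 22455), (21157, 18424), (21158, 22516), (21159, 22520), (21160, 19359), (21161, 18427), (21162, 22521), (21163, 18429), (21164, 18431), (21165, 18515), (21166, 22525), (21167, 21114), (21168, 21980), (21169, 22526), (21170, 22468),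 (21171, 18432), (21172, 20452), (21173, 22013), (21174, 21302), (21175, 18437), (21176, 22140), (21177, 22288), (21178, 21133), (21179, 21127), (21180, 18450), (21181, 21188), (21182, 22256), (21183, 22283)]
    ⟨e3 q21120 (flp_g L256080) q22236, e3 q21121 (flp_g L245823) q18376, e3 q21122 L245841 q19756, e3 q21123 (flp_g L255589) q22191, e3 q21124 (flp_g L245855) q18383, e3 q21125 L250510 q21672, e3 q21126 L255555 q22187, e3 q21127 (flp_g L246288) q21179, e3 q21128 L245885 q18397, e3 q21129 L245895 q19456, e3 q21130 (flp_g L258842) q22506, e3 q21131 (flp_g L245907) q18393, e3 q21132 (flp_g L258854) q22507, e3 q21133 (flp_g L246278) q21178, e3 q21134 (flp_g L245942) q21137, e3 q21135 (flp_g L245928) q18398, e3 q21136 (flp_g L245934) q18399, e3 q21137 L245942 q21134, e3 q21138 (flp_g L255955) q22224, e3 q21139 L258901 q22512, e3 q21140 (flp_g L245962) q18404, e3 q21141 L245974 q20472, e3 q21142 (flp_g L245986) q20138, e3 q21143 L245996 q19458, e3 q21144 L246008 q19460, e3 q21145 L252367 q21862, e3 q21146 L246026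 q20685, e3 q21147 L258941 q22515, e3 q21148 L255883 q22217, e3 q21149 L258965 q22517, e3 q21150 (flp_g L246050) q18418, e3 q21151 L246060 q20818, e3 q21152 L246070 q19605, e3 q21153 L246080 q18746, e3 q21154 L246092 q18745, e3 q21155 L258981 q22518, e3 q21156 (flp_g L258272) q22455, e3 q21157 L246653 q18424, e3 q21158 (flp_g L258959) q22516, e3 q21159 L258995 q22520, e3 q21160 (flp_g L246138) q19359, e3 q21161 (flp_g L246140) q18427, e3 q21162 (flp_g L259017) q22521, e3 q21163 (flp_g L246154) q18429, e3 q21164 L246170 q18431, e3 q21165 L246180 q18515, e3 q21166 (flp_g L259057) q22525, e3 q21167 L246188 q21114, e3 q21168 (flp_g L253577) q21980, e3 q21169 L259061 q22526, e3 q21170 (flp_g L258420) q22468, e3 q21171 (flp_g L246212) q18432, e3 q21172 L246222 q20452, e3 q21173 (flp_g L253894) q22013, e3 q21174 (flp_g L247331) q21302, e3 q21175 (flp_g L246244) q18437, e3 q21176 (flp_g L255154) q22140, e3 q21177 (flp_g L256649) q22288, e3 q21178 L246278 q21133, e3 q21179 L246288 q21127, e3 q21180 (flp_g L246292) q18450,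 e3 q21181 (flp_g L246355) q21188, e3 q21182 (flp_g L256298) q22256, e3 q21183 (flp_g L256585) q22283, trivial⟩ (by decide +kernel)

theorem ce_g_331 : ∀ r, r < 64 → sm gg (Qf (21184 + r)) = Qf (tab Gen.g (21184 + r)) :=
  edges_tab (sm gg) Qf (tab Gen.g) 21184 [(21184, 22531), (21185, 22532), (21186, 18459), (21187, 18460), (21188, 21181), (21189, 21013), (21190, 22534), (21191, 18464), (21192, 21938), (21193, 22202), (21194, 18466), (21195, 18472), (21196, 20921), (21197, 21283), (21198, 21948), (21199, 20212), (21200, 21102), (21201, 21104), (21202, 22442), (21203, 20865), (21204, 21106), (21205, 21107), (21206, 19574), (21207, 22327), (21208, 21663), (21209, 21022), (21210, 22463), (21211, 22544), (21212, 18490), (21213, 22545), (21214, 18495), (21215, 21284), (21216, 22469), (21217, 22411), (21218, 18500), (21219, 18501), (21220, 21436), (21221, 20907), (21222, 18507), (21223, 21320), (21224, 22548), (21225, 22522), (21226, 18512), (21227, 22540), (21228, 18517), (21229, 21318), (21230, 22538), (21231, 22220),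 (21232, 22448), (21233, 19582), (21234, 21907), (21235, 19591), (21236, 20791), (21237, 22255), (21238, 21312), (21239, 18561), (21240, 19901), (21241, 18566), (21242, 19796), (21243, 21994), (21244, 22091), (21245, 21796), (21246, 20265), (21247, 22462)]
    ⟨e3 q21184 L259119 q22531, e3 q21185 L259131 q22532, e3 q21186 (flp_g L246342) q18459, e3 q21187 (flp_g L246347) q18460, e3 q21188 L246355 q21181, e3 q21189 L246367 q21013, e3 q21190 L259148 q22534, e3 q21191 (flp_g L246379) q18464, e3 q21192 (flp_g L253168) q21938, e3 q21193 (flp_g L255718) q22202, e3 q21194 (flp_g L246413) q18466, e3 q21195 L246423 q18472, e3 q21196 L246435 q20921, e3 q21197 (flp_g L247185) q21283, e3 q21198 (flp_g L253276) q21948, e3 q21199 L246461 q20212, e3 q21200 L246471 q21102, e3 q21201 L246477 q21104, e3 q21202 (flp_g L258131) q22442, e3 q21203 L246505 q20865, e3 q21204 L246513 q21106, e3 q21205 L246521 q21107, e3 q21206 L246529 q19574, e3 q21207 (flp_g L257019) q22327, e3 q21208 (flp_g L250422) q21663, e3 q21209 L246549 q21022, e3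 q21210 (flp_g L258368) q22463, e3 q21211 L259262 q22544, e3 q21212 (flp_g L246559) q18490, e3 q21213 L259272 q22545, e3 q21214 (flp_g L246571) q18495, e3 q21215 (flp_g L247189) q21284, e3 q21216 (flp_g L258430) q22469, e3 q21217 (flp_g L257842) q22411, e3 q21218 (flp_g L246609) q18500, e3 q21219 (flp_g L246617) q18501, e3 q21220 L248539 q21436, e3 q21221 (flp_g L246655) q20907, e3 q21222 (flp_g L246657) q18507, e3 q21223 L247505 q21320, e3 q21224 L259304 q22548, e3 q21225 (flp_g L259031) q22522, e3 q21226 (flp_g L246689) q18512, e3 q21227 (flp_g L259226) q22540, e3 q21228 L246707 q18517, e3 q21229 L247485 q21318, e3 q21230 (flp_g L259208) q22538, e3 q21231 (flp_g L255911) q22220, e3 q21232 (flp_g L258201) q22448, e3 q21233 L246735 q19582, e3 q21234 (flp_g L252836) q21907, e3 q21235 L246755 q19591, e3 q21236 L246769 q20791, e3 q21237 (flp_g L256284) q22255, e3 q21238 (flp_g L247423) q21312, e3 q21239 L246793 q18561, e3 q21240 L246805 q19901, e3 q21241 L246813 q18566, e3 q21242 L246819 q19796, e3 q21243 (flp_g L253709)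 q21994, e3 q21244 (flp_g L254698) q22091, e3 q21245 (flp_g L251704) q21796, e3 q21246 L246861 q20265, e3 q21247 L258356 q22462, trivial⟩ (by decide +kernel)

theorem ce_g_332 : ∀ r, r < 64 → sm gg (Qf (21248 + r)) = Qf (tab Gen.g (21248 + r)) :=
  edges_tab (sm gg) Qf (tab Gen.g) 21248 [(21248, 22101), (21249, 19692), (21250, 19691), (21251, 19919), (21252, 22249), (21253, 21956), (21254, 19702), (21255, 20374), (21256, 20371), (21257, 19367), (21258, 18579), (21259, 18588), (21260, 19305), (21261, 20607), (21262, 22122), (21263, 20711), (21264, 20598), (21265, 21887), (21266, 22170), (21267, 22171), (21268, 22562), (21269, 18787), (21270, 18625), (21271, 21551), (21272, 19224), (21273, 18951), (21274, 19773), (21275, 22007), (21276, 22564), (21277, 18637), (21278, 22000), (21279, 20231), (21280, 20244), (21281, 18642), (21282, 21658), (21283, 21197), (21284, 21215), (21285, 18813), (21286, 21966), (21287, 21823), (21288, 22412), (21289, 18654), (21290, 21909), (21291, 18655), (21292, 22198), (21293, 21333), (21294,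 21334), (21295, 21295), (21296, 21296), (21297, 19444), (21298, 21298), (21299, 19111), (21300, 18672), (21301, 20676), (21302, 21174), (21303, 20144), (21304, 19969), (21305, 19502), (21306, 21382), (21307, 22235), (21308, 20462), (21309, 20979), (21310, 20248), (21311, 22396)]
    ⟨e3 q21248 (flp_g L254782) q22101, e3 q21249 L246887 q19692, e3 q21250 L246901 q19691, e3 q21251 L246913 q19919, e3 q21252 (flp_g L256224) q22249, e3 q21253 (flp_g L253340) q21956, e3 q21254 L246935 q19702, e3 q21255 L246945 q20374, e3 q21256 L246957 q20371, e3 q21257 L246965 q19367, e3 q21258 (flp_g L246967) q18579, e3 q21259 (flp_g L246977) q18588, e3 q21260 L246999 q19305, e3 q21261 L247011 q20607, e3 q21262 (flp_g L254952) q22122, e3 q21263 L247033 q20711, e3 q21264 L247041 q20598, e3 q21265 (flp_g L252628) q21887, e3 q21266 (flp_g L255418) q22170, e3 q21267 (flp_g L255424) q22171, e3 q21268 L259452 q22562, e3 q21269 L247071 q18787, e3 q21270 (flp_g L247075) q18625, e3 q21271 (flp_g L249518) q21551, e3 q21272 (flp_g L247103) q19224,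 e3 q21273 L247109 q18951, e3 q21274 (flp_g L247118) q19773, e3 q21275 (flp_g L253836) q22007, e3 q21276 L259474 q22564, e3 q21277 (flp_g L247126) q18637, e3 q21278 (flp_g L253758) q22000, e3 q21279 L247148 q20231, e3 q21280 (flp_g L247160) q20244, e3 q21281 (flp_g L247162) q18642, e3 q21282 L250367 q21658, e3 q21283 L247185 q21197, e3 q21284 L247189 q21215, e3 q21285 L247193 q18813, e3 q21286 (flp_g L253439) q21966, e3 q21287 (flp_g L251988) q21823, e3 q21288 L257854 q22412, e3 q21289 (flp_g L247221) q18654, e3 q21290 L252854 q21909, e3 q21291 (flp_g L247231) q18655, e3 q21292 (flp_g L255664) q22198, e3 q21293 (flp_g L247650) q21333, e3 q21294 (flp_g L247654) q21334, e3 q21295 L247266 q21295, e3 q21296 L247272 q21296, e3 q21297 L247282 q19444, e3 q21298 L247294 q21298, e3 q21299 (flp_g L247303) q19111, e3 q21300 (flp_g L247305) q18672, e3 q21301 L247319 q20676, e3 q21302 L247331 q21174, e3 q21303 L247343 q20144, e3 q21304 (flp_g L247355) q19969, e3 q21305 L247365 q19502, e3 q21306 L248085 q21382, e3 q21307 (flp_g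 L256070) q22235, e3 q21308 L247389 q20462, e3 q21309 L247397 q20979, e3 q21310 L247409 q20248, e3 q21311 (flp_g L257702) q22396, trivial⟩ (by decide +kernel)

theorem ce_g_333 : ∀ r, r < 64 → sm gg (Qf (21312 + r)) = Qf (tab Gen.g (21312 + r)) :=
  edges_tab (sm gg) Qf (tab Gen.g) 21312 [(21312, 21238), (21313, 18688), (21314, 18689), (21315, 18691), (21316, 21428), (21317, 18692), (21318, 21229), (21319, 18694), (21320, 21223), (21321, 22444), (21322, 18696), (21323, 20009), (21324, 21782), (21325, 19338), (21326, 20544), (21327, 21327), (21328, 19496), (21329, 19498), (21330, 19238), (21331, 21765), (21332, 22072), (21333, 21293), (21334, 21294), (21335, 18715), (21336, 22576), (21337, 19034), (21338, 18718), (21339, 20910), (21340, 18721), (21341, 20033), (21342, 22259), (21343, 19515), (21344, 20621), (21345, 19801), (21346, 21710), (21347, 22086), (21348, 20054), (21349, 18733), (21350, 22472), (21351, 18736), (21352, 20860), (21353, 22079), (21354, 20840), (21355, 18821), (21356, 18962), (21357, 20877), (21358,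 22363), (21359, 19612), (21360, 18750), (21361, 18880), (21362, 21462), (21363, 20935), (21364, 22418), (21365, 21660), (21366, 18757), (21367, 18760), (21368, 18762), (21369, 18763), (21370, 19865), (21371, 21374), (21372, 20922), (21373, 20926), (21374, 21371), (21375, 21896)]
    ⟨e3 q21312 L247423 q21238, e3 q21313 (flp_g L247427) q18688, e3 q21314 (flp_g L247439) q18689, e3 q21315 (flp_g L247451) q18691, e3 q21316 (flp_g L248481) q21428, e3 q21317 (flp_g L247471) q18692, e3 q21318 (flp_g L247485) q21229, e3 q21319 (flp_g L247487) q18694, e3 q21320 (flp_g L247505) q21223, e3 q21321 L258153 q22444, e3 q21322 (flp_g L247519) q18696, e3 q21323 L247531 q20009, e3 q21324 (flp_g L251564) q21782, e3 q21325 L247557 q19338, e3 q21326 L247567 q20544, e3 q21327 L247581 q21327, e3 q21328 L247590 q19496, e3 q21329 L247602 q19498, e3 q21330 L247616 q19238, e3 q21331 (flp_g L251367) q21765, e3 q21332 (flp_g L254540) q22072, e3 q21333 L247650 q21293, e3 q21334 L247654 q21294, e3 q21335 L247665 q18715, e3 q21336 (flp_g L259597)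 q22576, e3 q21337 (flp_g L247683) q19034, e3 q21338 (flp_g L247687) q18718, e3 q21339 (flp_g L247705) q20910, e3 q21340 (flp_g L247707) q18721, e3 q21341 L247727 q20033, e3 q21342 (flp_g L256328) q22259, e3 q21343 (flp_g L247743) q19515, e3 q21344 L247751 q20621, e3 q21345 L247765 q19801, e3 q21346 (flp_g L250845) q21710, e3 q21347 (flp_g L254662) q22086, e3 q21348 (flp_g L247801) q20054, e3 q21349 (flp_g L247805) q18733, e3 q21350 (flp_g L258468) q22472, e3 q21351 (flp_g L247819) q18736, e3 q21352 L247835 q20860, e3 q21353 (flp_g L254598) q22079, e3 q21354 L247853 q20840, e3 q21355 L247863 q18821, e3 q21356 L247873 q18962, e3 q21357 L247881 q20877, e3 q21358 (flp_g L257367) q22363, e3 q21359 L247900 q19612, e3 q21360 (flp_g L247902) q18750, e3 q21361 L247918 q18880, e3 q21362 (flp_g L248754) q21462, e3 q21363 L247930 q20935, e3 q21364 (flp_g L257918) q22418, e3 q21365 (flp_g L250386) q21660, e3 q21366 (flp_g L247944) q18757, e3 q21367 L247960 q18760, e3 q21368 (flp_g L247963) q18762, e3 q21369 (flp_g L247967) q18763,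 e3 q21370 L247985 q19865, e3 q21371 (flp_g L248023) q21374, e3 q21372 (flp_g L248009) q20922, e3 q21373 L248015 q20926, e3 q21374 L248023 q21371, e3 q21375 (flp_g L252734) q21896, trivial⟩ (by decide +kernel)

theorem ce_g_334 : ∀ r, r < 64 → sm gg (Qf (21376 + r)) = Qf (tab Gen.g (21376 + r)) :=
  edges_tab (sm gg) Qf (tab Gen.g) 21376 [(21376, 18772), (21377, 18901), (21378, 20481), (21379, 21485), (21380, 18775), (21381, 21481), (21382, 21306), (21383, 20525), (21384, 18778), (21385, 22253), (21386, 21110), (21387, 18781), (21388, 18783), (21389, 20850), (21390, 22585), (21391, 22388), (21392, 22590), (21393, 22493), (21394, 18784), (21395, 21397), (21396, 20848), (21397, 21395), (21398, 19720), (21399, 22457), (21400, 18792), (21401, 22461), (21402, 18794), (21403, 18811), (21404, 21840), (21405, 18801), (21406, 18802), (21407, 21493), (21408, 21033), (21409, 21032), (21410, 22139), (21411, 19202), (21412, 22357), (21413, 21923), (21414, 18814), (21415, 19883), (21416, 22433), (21417, 22435), (21418, 18822),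 (21419, 22514), (21420, 18823), (21421, 18824), (21422, 18827), (21423, 21804), (21424, 18913), (21425, 19407), (21426, 19269), (21427, 19268), (21428, 21316), (21429, 22597), (21430, 22527), (21431, 20520), (21432, 22550), (21433, 22600), (21434, 22602), (21435, 18834), (21436, 21220), (21437, 22603), (21438, 18835), (21439, 18836)]
    ⟨e3 q21376 (flp_g L248033) q18772, e3 q21377 L248049 q18901, e3 q21378 L248057 q20481, e3 q21379 (flp_g L248940) q21485, e3 q21380 (flp_g L248063) q18775, e3 q21381 (flp_g L248908) q21481, e3 q21382 (flp_g L248085) q21306, e3 q21383 (flp_g L248099) q20525, e3 q21384 (flp_g L248101) q18778, e3 q21385 L256264 q22253, e3 q21386 L248121 q21110, e3 q21387 (flp_g L248125) q18781, e3 q21388 L248143 q18783, e3 q21389 L248151 q20850, e3 q21390 (flp_g L259676) q22585, e3 q21391 L257620 q22388, e3 q21392 L259720 q22590, e3 q21393 (flp_g L258700) q22493, e3 q21394 (flp_g L248181) q18784, e3 q21395 (flp_g L248217) q21397, e3 q21396 L248205 q20848, e3 q21397 L248217 q21395, e3 q21398 (flp_g L248227)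 q19720, e3 q21399 (flp_g L258292) q22457, e3 q21400 (flp_g L248233) q18792, e3 q21401 (flp_g L258342) q22461, e3 q21402 (flp_g L248251) q18794, e3 q21403 L248271 q18811, e3 q21404 (flp_g L252152) q21840, e3 q21405 (flp_g L248284) q18801, e3 q21406 (flp_g L248290) q18802, e3 q21407 (flp_g L249016) q21493, e3 q21408 L248308 q21033, e3 q21409 L248316 q21032, e3 q21410 (flp_g L255146) q22139, e3 q21411 L248332 q19202, e3 q21412 (flp_g L257297) q22357, e3 q21413 (flp_g L253004) q21923, e3 q21414 (flp_g L248345) q18814, e3 q21415 L248363 q19883, e3 q21416 (flp_g L258046) q22433, e3 q21417 (flp_g L258064) q22435, e3 q21418 (flp_g L248383) q18822, e3 q21419 (flp_g L258937) q22514, e3 q21420 (flp_g L248403) q18823, e3 q21421 (flp_g L248409) q18824, e3 q21422 L248423 q18827, e3 q21423 (flp_g L251808) q21804, e3 q21424 L248439 q18913, e3 q21425 L248445 q19407, e3 q21426 L248453 q19269, e3 q21427 L248465 q19268, e3 q21428 L248481 q21316, e3 q21429 L259794 q22597, e3 q21430 (flp_g L259083) q22527, e3 q21431 L248505 q20520, e3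 q21432 (flp_g L259334) q22550, e3 q21433 L259828 q22600, e3 q21434 L259848 q22602, e3 q21435 (flp_g L248527) q18834, e3 q21436 (flp_g L248539) q21220, e3 q21437 (flp_g L259868) q22603, e3 q21438 (flp_g L248551) q18835, e3 q21439 (flp_g L248561) q18836, trivial⟩ (by decide +kernel)

theorem ce_g_335 : ∀ r, r < 64 → sm gg (Qf (21440 + r)) = Qf (tab Gen.g (21440 + r)) :=
  edges_tab (sm gg) Qf (tab Gen.g) 21440 [(21440, 21652), (21441, 18837), (21442, 18838), (21443, 20148), (21444, 22313), (21445, 21445), (21446, 22085), (21447, 21508), (21448, 20038), (21449, 20040), (21450, 20574), (21451, 21918), (21452, 19889), (21453, 18862), (21454, 21861), (21455, 22037), (21456, 18855), (21457, 20576), (21458, 21477), (21459, 22083), (21460, 21479), (21461, 21482), (21462, 21362), (21463, 21480), (21464, 21484), (21465, 20554), (21466, 18889), (21467, 22611), (21468, 18891), (21469, 18875), (21470, 18876), (21471, 22614), (21472, 21516), (21473, 22616), (21474, 18881), (21475, 22617), (21476, 21520), (21477, 21458), (21478,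 18883), (21479, 21460), (21480, 21463), (21481, 21381), (21482, 21461), (21483, 20188), (21484, 21464), (21485, 21379), (21486, 20697), (21487, 22199), (21488, 18898), (21489, 18902), (21490, 18917), (21491, 18919), (21492, 18910), (21493, 21407), (21494, 21521), (21495, 18907), (21496, 22610), (21497, 22024), (21498, 22305), (21499, 19405), (21500, 19862), (21501, 20425), (21502, 22029), (21503, 20553)]
    ⟨e3 q21440 (flp_g L250306) q21652, e3 q21441 (flp_g L248581) q18837, e3 q21442 (flp_g L248589) q18838, e3 q21443 L248603 q20148, e3 q21444 (flp_g L256898) q22313, e3 q21445 L248621 q21445, e3 q21446 (flp_g L254650) q22085, e3 q21447 (flp_g L249126) q21508, e3 q21448 (flp_g L248652) q20038, e3 q21449 L248660 q20040, e3 q21450 L248668 q20574, e3 q21451 (flp_g L252954) q21918, e3 q21452 L248686 q19889, e3 q21453 (flp_g L248694) q18862, e3 q21454 (flp_g L252357) q21861, e3 q21455 L254132 q22037, e3 q21456 (flp_g L248706) q18855, e3 q21457 L248722 q20576, e3 q21458 L248876 q21477, e3 q21459 (flp_g L254628) q22083,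 e3 q21460 (flp_g L248892) q21479, e3 q21461 (flp_g L248916) q21482, e3 q21462 L248754 q21362, e3 q21463 L248900 q21480, e3 q21464 (flp_g L248931) q21484, e3 q21465 L248776 q20554, e3 q21466 (flp_g L248786) q18889, e3 q21467 L259958 q22611, e3 q21468 (flp_g L248810) q18891, e3 q21469 (flp_g L248812) q18875, e3 q21470 (flp_g L248824) q18876, e3 q21471 L259984 q22614, e3 q21472 (flp_g L249200) q21516, e3 q21473 L259996 q22616, e3 q21474 (flp_g L248846) q18881, e3 q21475 L260000 q22617, e3 q21476 (flp_g L249240) q21520, e3 q21477 (flp_g L248876) q21458, e3 q21478 (flp_g L248878) q18883, e3 q21479 L248892 q21460, e3 q21480 (flp_g L248900) q21463, e3 q21481 L248908 q21381, e3 q21482 L248916 q21461, e3 q21483 L248923 q20188, e3 q21484 L248931 q21464, e3 q21485 L248940 q21379, e3 q21486 L248946 q20697, e3 q21487 (flp_g L255678) q22199, e3 q21488 (flp_g L248954) q18898, e3 q21489 (flp_g L248964) q18902, e3 q21490 L248986 q18917, e3 q21491 L248996 q18919, e3 q21492 L249006 q18910, e3 q21493 L249016 q21407, e3 q21494 (flp_g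 L249252) q21521, e3 q21495 (flp_g L249026) q18907, e3 q21496 (flp_g L259954) q22610, e3 q21497 L253998 q22024, e3 q21498 (flp_g L256830) q22305, e3 q21499 L249060 q19405, e3 q21500 L249066 q19862, e3 q21501 L249076 q20425, e3 q21502 (flp_g L254054) q22029, e3 q21503 L249088 q20553, trivial⟩ (by decide +kernel)

theorem ce_g_336 : ∀ r, r < 64 → sm gg (Qf (21504 + r)) = Qf (tab Gen.g (21504 + r)) :=
  edges_tab (sm gg) Qf (tab Gen.g) 21504 [(21504, 22530), (21505, 18921), (21506, 18930), (21507, 18926), (21508, 21447), (21509, 21510), (21510, 21509), (21511, 18946), (21512, 18947), (21513, 22309), (21514, 22310), (21515, 22311), (21516, 21472), (21517, 20776), (21518, 20777), (21519, 20778), (21520, 21476), (21521, 21494), (21522, 22271), (21523, 20020), (21524, 21524), (21525, 22625), (21526, 21972), (21527, 21528), (21528, 21527), (21529, 22634), (21530, 20985), (21531, 19810), (21532, 21981), (21533, 22439), (21534, 22438), (21535, 18963), (21536, 22635), (21537, 21537), (21538, 21539), (21539, 21538), (21540,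 20254), (21541, 20288), (21542, 20287), (21543, 20968), (21544, 20251), (21545, 20129), (21546, 20256), (21547, 20996), (21548, 20286), (21549, 18972), (21550, 19009), (21551, 21271), (21552, 19167), (21553, 18982), (21554, 20305), (21555, 20967), (21556, 22640), (21557, 18988), (21558, 21558), (21559, 19650), (21560, 21575), (21561, 21574), (21562, 21566), (21563, 18997), (21564, 18998), (21565, 20965), (21566, 21562), (21567, 19025)]
    ⟨e3 q21504 (flp_g L259117) q22530, e3 q21505 (flp_g L249096) q18921, e3 q21506 L249110 q18930, e3 q21507 (flp_g L249112) q18926, e3 q21508 L249126 q21447, e3 q21509 (flp_g L249150) q21510, e3 q21510 L249150 q21509, e3 q21511 (flp_g L249166) q18946, e3 q21512 L249178 q18947, e3 q21513 (flp_g L256872) q22309, e3 q21514 (flp_g L256880) q22310, e3 q21515 (flp_g L256886) q22311, e3 q21516 L249200 q21472, e3 q21517 L249208 q20776, e3 q21518 L249214 q20777, e3 q21519 L249226 q20778, e3 q21520 L249240 q21476, e3 q21521 L249252 q21494, e3 q21522 (flp_g L256478) q22271, e3 q21523 L249266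 q20020, e3 q21524 L249276 q21524, e3 q21525 (flp_g L260104) q22625, e3 q21526 (flp_g L253491) q21972, e3 q21527 L249307 q21528, e3 q21528 (flp_g L249307) q21527, e3 q21529 L260188 q22634, e3 q21530 L249327 q20985, e3 q21531 L249335 q19810, e3 q21532 (flp_g L253589) q21981, e3 q21533 (flp_g L258097) q22439, e3 q21534 (flp_g L258081) q22438, e3 q21535 (flp_g L249365) q18963, e3 q21536 (flp_g L260208) q22635, e3 q21537 L249373 q21537, e3 q21538 (flp_g L249390) q21539, e3 q21539 L249390 q21538, e3 q21540 L249404 q20254, e3 q21541 L249414 q20288, e3 q21542 L249422 q20287, e3 q21543 L249434 q20968, e3 q21544 (flp_g L249452) q20251, e3 q21545 L249464 q20129, e3 q21546 L249474 q20256, e3 q21547 (flp_g L249482) q20996, e3 q21548 (flp_g L249492) q20286, e3 q21549 (flp_g L249494) q18972, e3 q21550 L249510 q19009, e3 q21551 L249518 q21271, e3 q21552 L249526 q19167, e3 q21553 L249537 q18982, e3 q21554 L249547 q20305, e3 q21555 L249561 q20967, e3 q21556 L260241 q22640, e3 q21557 (flp_g L249575) q18988, e3 q21558 L249586 q21558,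 e3 q21559 L249595 q19650, e3 q21560 (flp_g L249717) q21575, e3 q21561 (flp_g L249709) q21574, e3 q21562 (flp_g L249655) q21566, e3 q21563 (flp_g L249623) q18997, e3 q21564 (flp_g L249631) q18998, e3 q21565 L249647 q20965, e3 q21566 L249655 q21562, e3 q21567 L249663 q19025, trivial⟩ (by decide +kernel)

theorem ce_g_337 : ∀ r, r < 64 → sm gg (Qf (21568 + r)) = Qf (tab Gen.g (21568 + r)) :=
  edges_tab (sm gg) Qf (tab Gen.g) 21568 [(21568, 22547), (21569, 21965), (21570, 19026), (21571, 19002), (21572, 19030), (21573, 19778), (21574, 21561), (21575, 21560), (21576, 19022), (21577, 21651), (21578, 21900), (21579, 19021), (21580, 19013), (21581, 19016), (21582, 19073), (21583, 19449), (21584, 21631), (21585, 22650), (21586, 21644), (21587, 22657), (21588, 21645), (21589, 19220), (21590, 22578), (21591, 19024), (21592, 19707), (21593, 22647), (21594, 22466), (21595, 22135), (21596, 21038), (21597, 21759), (21598, 21715), (21599, 21716), (21600, 19653), (21601, 19639), (21602, 21611), (21603, 19041), (21604, 19631), (21605,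 21929), (21606, 19045), (21607, 21751), (21608, 19451), (21609, 21646), (21610, 19048), (21611, 21602), (21612, 21647), (21613, 21729), (21614, 21653), (21615, 21649), (21616, 21650), (21617, 21625), (21618, 22670), (21619, 19083), (21620, 19056), (21621, 19057), (21622, 22673), (21623, 21654), (21624, 19060), (21625, 21617), (21626, 21714), (21627, 19062), (21628, 20978), (21629, 21717), (21630, 21859), (21631, 21584)]
    ⟨e3 q21568 L259300 q22547, e3 q21569 L253429 q21965, e3 q21570 L249675 q19026, e3 q21571 (flp_g L249677) q19002, e3 q21572 L249693 q19030, e3 q21573 (flp_g L249703) q19778, e3 q21574 L249709 q21561, e3 q21575 L249717 q21560, e3 q21576 L249725 q19022, e3 q21577 (flp_g L250298) q21651, e3 q21578 (flp_g L252764) q21900, e3 q21579 L249737 q19021, e3 q21580 (flp_g L249739) q19013, e3 q21581 (flp_g L249747) q19016, e3 q21582 L249761 q19073, e3 q21583 L249771 q19449, e3 q21584 (flp_g L250129) q21631, e3 q21585 (flp_g L260357) q22650, e3 q21586 (flp_g L250240) q21644, e3 q21587 L260408 q22657, e3 q21588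 (flp_g L250252) q21645, e3 q21589 (flp_g L249809) q19220, e3 q21590 (flp_g L259612) q22578, e3 q21591 (flp_g L249817) q19024, e3 q21592 L249829 q19707, e3 q21593 (flp_g L260323) q22647, e3 q21594 (flp_g L258400) q22466, e3 q21595 (flp_g L255106) q22135, e3 q21596 L249875 q21038, e3 q21597 (flp_g L251309) q21759, e3 q21598 (flp_g L250896) q21715, e3 q21599 (flp_g L250905) q21716, e3 q21600 L249893 q19653, e3 q21601 L249903 q19639, e3 q21602 (flp_g L249979) q21611, e3 q21603 (flp_g L249913) q19041, e3 q21604 (flp_g L249927) q19631, e3 q21605 (flp_g L253066) q21929, e3 q21606 (flp_g L249935) q19045, e3 q21607 (flp_g L251237) q21751, e3 q21608 L249959 q19451, e3 q21609 (flp_g L250258) q21646, e3 q21610 (flp_g L249967) q19048, e3 q21611 L249979 q21602, e3 q21612 (flp_g L250264) q21647, e3 q21613 (flp_g L251029) q21729, e3 q21614 (flp_g L250314) q21653, e3 q21615 (flp_g L250280) q21649, e3 q21616 (flp_g L250288) q21650, e3 q21617 (flp_g L250083) q21625, e3 q21618 L260528 q22670, e3 q21619 (flp_g L250039) q19083, e3 q21620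 (flp_g L250041) q19056, e3 q21621 (flp_g L250051) q19057, e3 q21622 L260556 q22673, e3 q21623 (flp_g L250324) q21654, e3 q21624 (flp_g L250071) q19060, e3 q21625 L250083 q21617, e3 q21626 (flp_g L250889) q21714, e3 q21627 (flp_g L250093) q19062, e3 q21628 L250107 q20978, e3 q21629 (flp_g L250915) q21717, e3 q21630 (flp_g L252335) q21859, e3 q21631 L250129 q21584, trivial⟩ (by decide +kernel)

theorem ce_g_338 : ∀ r, r < 64 → sm gg (Qf (21632 + r)) = Qf (tab Gen.g (21632 + r)) :=
  edges_tab (sm gg) Qf (tab Gen.g) 21632 [(21632, 19204), (21633, 21749), (21634, 19205), (21635, 19069), (21636, 19209), (21637, 19211), (21638, 19212), (21639, 19439), (21640, 22680), (21641, 22383), (21642, 19074), (21643, 19075), (21644, 21586), (21645, 21588), (21646, 21609), (21647, 21612), (21648, 19088), (21649, 21615), (21650, 21616), (21651, 21577), (21652, 21440), (21653, 21614), (21654, 21623), (21655, 22686), (21656, 19115), (21657, 19090), (21658, 21282), (21659, 19091), (21660, 21365), (21661, 19101), (21662, 21676), (21663,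 21208), (21664, 19137), (21665, 19136), (21666, 22221), (21667, 19103), (21668, 20122), (21669, 20239), (21670, 19104), (21671, 22222), (21672, 21125), (21673, 21082), (21674, 19106), (21675, 19107), (21676, 21662), (21677, 22384), (21678, 19716), (21679, 21713), (21680, 22192), (21681, 22208), (21682, 21085), (21683, 19452), (21684, 22694), (21685, 19129), (21686, 19158), (21687, 19160), (21688, 19163), (21689, 20993), (21690, 20994), (21691, 22697), (21692, 22699), (21693, 19140), (21694, 22495), (21695, 22480)]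
    ⟨e3 q21632 L250142 q19204, e3 q21633 (flp_g L251215) q21749, e3 q21634 L250157 q19205, e3 q21635 (flp_g L250159) q19069, e3 q21636 L250175 q19209, e3 q21637 L250183 q19211, e3 q21638 L250189 q19212, e3 q21639 (flp_g L250196) q19439, e3 q21640 L260627 q22680, e3 q21641 (flp_g L257572) q22383, e3 q21642 (flp_g L250216) q19074, e3 q21643 (flp_g L250226) q19075, e3 q21644 L250240 q21586, e3 q21645 L250252 q21588, e3 q21646 L250258 q21609, e3 q21647 L250264 q21612, e3 q21648 L250274 q19088, e3 q21649 L250280 q21615, e3 q21650 L250288 q21616, e3 q21651 L250298 q21577, e3 q21652 L250306 q21440, e3 q21653 L250314 q21614, e3 q21654 L250324 q21623, e3 q21655 (flp_g L260701) q22686, e3 q21656 (flp_g L250344) q19115, e3 q21657 (flp_g L250348) q19090, e3 q21658 (flp_g L250367) q21282, e3 q21659 (flp_g L250369) q19091, e3 q21660 L250386 q21365, e3 q21661 L250406 q19101, e3 q21662 (flp_g L250552) q21676, e3 q21663 L250422 q21208, e3 q21664 L250426 q19137, e3 q21665 L250436 q19136, e3 q21666 (flp_g L255922) q22221, e3 q21667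 (flp_g L250444) q19103, e3 q21668 L250453 q20122, e3 q21669 (flp_g L250476) q20239, e3 q21670 (flp_g L250478) q19104, e3 q21671 (flp_g L255934) q22222, e3 q21672 (flp_g L250510) q21125, e3 q21673 (flp_g L250524) q21082, e3 q21674 (flp_g L250526) q19106, e3 q21675 (flp_g L250540) q19107, e3 q21676 L250552 q21662, e3 q21677 (flp_g L257582) q22384, e3 q21678 L250574 q19716, e3 q21679 (flp_g L250879) q21713, e3 q21680 (flp_g L255599) q22192, e3 q21681 (flp_g L255787) q22208, e3 q21682 L250617 q21085, e3 q21683 L250629 q19452, e3 q21684 L260783 q22694, e3 q21685 (flp_g L250639) q19129, e3 q21686 L250657 q19158, e3 q21687 L250665 q19160, e3 q21688 L250675 q19163, e3 q21689 (flp_g L250685) q20993, e3 q21690 (flp_g L250695) q20994, e3 q21691 L260817 q22697, e3 q21692 L260840 q22699, e3 q21693 (flp_g L250713) q19140, e3 q21694 L258732 q22495, e3 q21695 (flp_g L258558) q22480, trivial⟩ (by decide +kernel)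

theorem ce_g_339 : ∀ r, r < 64 → sm gg (Qf (21696 + r)) = Qf (tab Gen.g (21696 + r)) :=
  edges_tab (sm gg) Qf (tab Gen.g) 21696 [(21696, 21711), (21697, 19141), (21698, 19148), (21699, 21952), (21700, 22701), (21701, 19149), (21702, 21750), (21703, 21705), (21704, 19152), (21705, 21703), (21706, 22695), (21707, 21728), (21708, 19348), (21709, 20228), (21710, 21346), (21711, 21696), (21712, 19821), (21713, 21679), (21714, 21626), (21715, 21598), (21716, 21599), (21717, 21629), (21718, 21931), (21719, 21727), (21720, 19178), (21721, 21855), (21722, 22706), (21723, 19182), (21724, 19183), (21725, 19185), (21726, 19193), (21727, 21719), (21728, 21707), (21729, 21613), (21730, 19199), (21731, 20221), (21732, 21733), (21733, 21732), (21734, 19217), (21735, 19218), (21736, 21754), (21737, 19221), (21738, 22709), (21739, 19222), (21740, 22212), (21741, 21741), (21742, 21742), (21743, 22676), (21744, 22677), (21745, 21924), (21746, 19207), (21747, 22678), (21748, 19570), (21749, 21633), (21750, 21702), (21751, 21607),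 (21752, 22711), (21753, 22656), (21754, 21736), (21755, 22658), (21756, 21962), (21757, 21758), (21758, 21757), (21759, 21597)]
    ⟨e3 q21696 (flp_g L250859) q21711, e3 q21697 (flp_g L250739) q19141, e3 q21698 L250753 q19148, e3 q21699 (flp_g L253304) q21952, e3 q21700 L260868 q22701, e3 q21701 (flp_g L250775) q19149, e3 q21702 L251227 q21750, e3 q21703 (flp_g L250811) q21705, e3 q21704 (flp_g L250797) q19152, e3 q21705 L250811 q21703, e3 q21706 (flp_g L260803) q22695, e3 q21707 (flp_g L251021) q21728, e3 q21708 L250825 q19348, e3 q21709 L250835 q20228, e3 q21710 L250845 q21346, e3 q21711 L250859 q21696, e3 q21712 L250871 q19821, e3 q21713 L250879 q21679, e3 q21714 L250889 q21626, e3 q21715 L250896 q21598, e3 q21716 L250905 q21599, e3 q21717 L250915 q21629, e3 q21718 L253090 q21931, e3 q21719 (flp_g L251011) q21727, e3 q21720 (flp_g L250941) q19178, e3 q21721 (flp_g L252293) q21855, e3 q21722 L260916 q22706, e3 q21723 (flp_g L250969) q19182, e3 q21724 (flp_g L250975) q19183, e3 q21725 (flp_g L250987) q19185, e3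 q21726 L251001 q19193, e3 q21727 L251011 q21719, e3 q21728 L251021 q21707, e3 q21729 L251029 q21613, e3 q21730 L251033 q19199, e3 q21731 L251041 q20221, e3 q21732 (flp_g L251061) q21733, e3 q21733 L251061 q21732, e3 q21734 (flp_g L251077) q19217, e3 q21735 L251089 q19218, e3 q21736 (flp_g L251263) q21754, e3 q21737 L251103 q19221, e3 q21738 (flp_g L260962) q22709, e3 q21739 (flp_g L251121) q19222, e3 q21740 L255829 q22212, e3 q21741 L251137 q21741, e3 q21742 L251148 q21742, e3 q21743 (flp_g L260587) q22676, e3 q21744 (flp_g L260600) q22677, e3 q21745 L253014 q21924, e3 q21746 (flp_g L251179) q19207, e3 q21747 (flp_g L260610) q22678, e3 q21748 L251205 q19570, e3 q21749 L251215 q21633, e3 q21750 (flp_g L251227) q21702, e3 q21751 L251237 q21607, e3 q21752 (flp_g L260982) q22711, e3 q21753 L260406 q22656, e3 q21754 L251263 q21736, e3 q21755 (flp_g L260424) q22658, e3 q21756 L253397 q21962, e3 q21757 (flp_g L251299) q21758, e3 q21758 L251299 q21757, e3 q21759 L251309 q21597, trivial⟩ (by decide +kernel)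

theorem ce_g_340 : ∀ r, r < 64 → sm gg (Qf (21760 + r)) = Qf (tab Gen.g (21760 + r)) :=
  edges_tab (sm gg) Qf (tab Gen.g) 21760 [(21760, 19242), (21761, 19231), (21762, 19713), (21763, 21955), (21764, 20587), (21765, 21331), (21766, 22720), (21767, 19284), (21768, 19626), (21769, 19295), (21770, 21787), (21771, 21891), (21772, 20027), (21773, 19516), (21774, 21774), (21775, 20186), (21776, 19274), (21777, 22648), (21778, 20493), (21779, 19748), (21780, 21975), (21781, 19762), (21782, 21324), (21783, 19597), (21784, 21056), (21785, 22724), (21786, 19283), (21787, 21770), (21788, 20427), (21789, 19935), (21790, 20859), (21791, 20885), (21792, 19774), (21793, 22727), (21794, 19299), (21795, 21797), (21796, 21245), (21797, 21795), (21798, 19844), (21799, 20268), (21800, 20747), (21801, 20451), (21802, 19325), (21803, 19332), (21804, 21423), (21805, 22299), (21806, 21814), (21807, 22704), (21808, 19341), (21809, 19573), (21810, 22714), (21811, 19345), (21812, 22703), (21813, 19346), (21814, 21806), (21815, 19562),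 (21816, 19448), (21817, 19628), (21818, 21898), (21819, 22519), (21820, 19361), (21821, 22559), (21822, 19365), (21823, 21287)]
    ⟨e3 q21760 L251323 q19242, e3 q21761 (flp_g L251327) q19231, e3 q21762 L251347 q19713, e3 q21763 (flp_g L253330) q21955, e3 q21764 L251361 q20587, e3 q21765 L251367 q21331, e3 q21766 L261076 q22720, e3 q21767 L251387 q19284, e3 q21768 L251399 q19626, e3 q21769 L251409 q19295, e3 q21770 (flp_g L251610) q21787, e3 q21771 (flp_g L252674) q21891, e3 q21772 L251449 q20027, e3 q21773 L251459 q19516, e3 q21774 L251469 q21774, e3 q21775 L251480 q20186, e3 q21776 L251494 q19274, e3 q21777 (flp_g L260335) q22648, e3 q21778 L251516 q20493, e3 q21779 L251530 q19748, e3 q21780 (flp_g L253523) q21975, e3 q21781 L251548 q19762, e3 q21782 L251564 q21324, e3 q21783 L251574 q19597, e3 q21784 (flp_g L251584) q21056, e3 q21785 L261116 q22724, e3 q21786 (flp_g L251592) q19283, e3 q21787 L251610 q21770, e3 q21788 L251618 q20427, e3 q21789 L251628 q19935, e3 q21790 L251644 q20859, e3 q21791 L251654 q20885,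 e3 q21792 L251668 q19774, e3 q21793 L261156 q22727, e3 q21794 (flp_g L251678) q19299, e3 q21795 (flp_g L251720) q21797, e3 q21796 L251704 q21245, e3 q21797 L251720 q21795, e3 q21798 L251732 q19844, e3 q21799 L251744 q20268, e3 q21800 L251760 q20747, e3 q21801 L251778 q20451, e3 q21802 (flp_g L251780) q19325, e3 q21803 L251799 q19332, e3 q21804 L251808 q21423, e3 q21805 (flp_g L256766) q22299, e3 q21806 (flp_g L251898) q21814, e3 q21807 (flp_g L260902) q22704, e3 q21808 (flp_g L251834) q19341, e3 q21809 L251850 q19573, e3 q21810 (flp_g L261022) q22714, e3 q21811 (flp_g L251864) q19345, e3 q21812 (flp_g L260890) q22703, e3 q21813 (flp_g L251884) q19346, e3 q21814 L251898 q21806, e3 q21815 L251908 q19562, e3 q21816 L251918 q19448, e3 q21817 L251932 q19628, e3 q21818 L252746 q21898, e3 q21819 L258993 q22519, e3 q21820 (flp_g L251948) q19361, e3 q21821 (flp_g L259426) q22559, e3 q21822 (flp_g L251972) q19365, e3 q21823 L251988 q21287, trivial⟩ (by decide +kernel)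

theorem ce_g_341 : ∀ r, r < 64 → sm gg (Qf (21824 + r)) = Qf (tab Gen.g (21824 + r)) :=
  edges_tab (sm gg) Qf (tab Gen.g) 21824 [(21824, 22039), (21825, 20505), (21826, 20593), (21827, 22350), (21828, 20639), (21829, 19389), (21830, 20486), (21831, 19395), (21832, 19606), (21833, 19607), (21834, 19614), (21835, 21921), (21836, 19404), (21837, 22594), (21838, 20551), (21839, 22595), (21840, 21404), (21841, 22269), (21842, 19412), (21843, 19620), (21844, 19621), (21845, 19885), (21846, 20189), (21847, 22025), (21848, 19571), (21849, 19430), (21850, 20761), (21851, 21927), (21852, 22365), (21853, 19435), (21854, 19438), (21855, 21721), (21856, 19561), (21857, 22662), (21858, 22652), (21859, 21630), (21860, 20324), (21861, 21454), (21862, 21145), (21863, 22148), (21864, 19461), (21865, 20490), (21866, 22285), (21867, 19475), (21868, 22150), (21869, 20936), (21870, 20797), (21871, 19484), (21872, 21094), (21873, 19505), (21874, 19667), (21875, 22234), (21876, 20742), (21877, 20636), (21878, 22351), (21879, 20839),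 (21880, 19507), (21881, 21940), (21882, 22484), (21883, 19670), (21884, 20623), (21885, 20106), (21886, 20730), (21887, 21265)]
    ⟨e3 q21824 (flp_g L254154) q22039, e3 q21825 L252008 q20505, e3 q21826 L252022 q20593, e3 q21827 (flp_g L257209) q22350, e3 q21828 L252040 q20639, e3 q21829 (flp_g L252044) q19389, e3 q21830 L252066 q20486, e3 q21831 (flp_g L252070) q19395, e3 q21832 L252088 q19606, e3 q21833 L252096 q19607, e3 q21834 L252102 q19614, e3 q21835 L252984 q21921, e3 q21836 (flp_g L252114) q19404, e3 q21837 (flp_g L259770) q22594, e3 q21838 L252138 q20551, e3 q21839 (flp_g L259778) q22595, e3 q21840 L252152 q21404, e3 q21841 (flp_g L256456) q22269, e3 q21842 (flp_g L252164) q19412, e3 q21843 L252182 q19620, e3 q21844 L252195 q19621, e3 q21845 L252205 q19885, e3 q21846 L252217 q20189, e3 q21847 (flp_g L254012) q22025, e3 q21848 L252235 q19571, e3 q21849 (flp_g L252239) q19430, e3 q21850 (flp_g L252257) q20761, e3 q21851 L253050 q21927, e3 q21852 L257391 q22365, e3 q21853 (flp_g L252269) q19435, e3 q21854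 (flp_g L252275) q19438, e3 q21855 L252293 q21721, e3 q21856 L252301 q19561, e3 q21857 (flp_g L260464) q22662, e3 q21858 (flp_g L260373) q22652, e3 q21859 L252335 q21630, e3 q21860 L252345 q20324, e3 q21861 L252357 q21454, e3 q21862 (flp_g L252367) q21145, e3 q21863 (flp_g L255228) q22148, e3 q21864 (flp_g L252377) q19461, e3 q21865 L252397 q20490, e3 q21866 (flp_g L256611) q22285, e3 q21867 (flp_g L252411) q19475, e3 q21868 (flp_g L255246) q22150, e3 q21869 L252433 q20936, e3 q21870 (flp_g L252449) q20797, e3 q21871 (flp_g L252451) q19484, e3 q21872 L252469 q21094, e3 q21873 L252478 q19505, e3 q21874 L252492 q19667, e3 q21875 (flp_g L256062) q22234, e3 q21876 L252514 q20742, e3 q21877 L252528 q20636, e3 q21878 (flp_g L257223) q22351, e3 q21879 (flp_g L252550) q20839, e3 q21880 (flp_g L252552) q19507, e3 q21881 (flp_g L253192) q21940, e3 q21882 (flp_g L258606) q22484, e3 q21883 L252586 q19670, e3 q21884 L252598 q20623, e3 q21885 L252608 q20106, e3 q21886 L252622 q20730, e3 q21887 L252628 q21265, trivial⟩ (by decide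 +kernel)

theorem ce_g_342 : ∀ r, r < 64 → sm gg (Qf (21888 + r)) = Qf (tab Gen.g (21888 + r)) :=
  edges_tab (sm gg) Qf (tab Gen.g) 21888 [(21888, 19671), (21889, 19539), (21890, 19540), (21891, 21771), (21892, 19546), (21893, 19549), (21894, 19599), (21895, 19555), (21896, 21375), (21897, 22735), (21898, 21818), (21899, 19565), (21900, 21578), (21901, 22742), (21902, 19566), (21903, 22713), (21904, 22537), (21905, 20822), (21906, 21020), (21907, 21234), (21908, 22120), (21909, 21290), (21910, 20338), (21911, 20796), (21912, 22723), (21913, 22041), (21914, 19609), (21915, 19610), (21916, 22377), (21917, 22237), (21918, 21451), (21919, 22375), (21920, 20177), (21921, 21835), (21922, 19624), (21923, 21413), (21924, 21745), (21925, 19637), (21926, 22371), (21927, 21851), (21928, 19636), (21929, 21605), (21930, 19640), (21931, 21718), (21932, 19648), (21933, 22642), (21934, 19655), (21935, 20550), (21936, 19658), (21937, 19660), (21938, 21192), (21939, 22719), (21940, 21881), (21941, 22740), (21942, 21012), (21943,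 22502), (21944, 20316), (21945, 20318), (21946, 19718), (21947, 19679), (21948, 21198), (21949, 19684), (21950, 22270), (21951, 19687)]
    ⟨e3 q21888 L252640 q19671, e3 q21889 L252650 q19539, e3 q21890 L252660 q19540, e3 q21891 L252674 q21771, e3 q21892 L252688 q19546, e3 q21893 (flp_g L252694) q19549, e3 q21894 L252715 q19599, e3 q21895 (flp_g L252718) q19555, e3 q21896 L252734 q21375, e3 q21897 (flp_g L261244) q22735, e3 q21898 (flp_g L252746) q21818, e3 q21899 L252756 q19565, e3 q21900 L252764 q21578, e3 q21901 L261318 q22742, e3 q21902 (flp_g L252776) q19566, e3 q21903 (flp_g L261008) q22713, e3 q21904 (flp_g L259198) q22537, e3 q21905 L252814 q20822, e3 q21906 L252822 q21020, e3 q21907 L252836 q21234, e3 q21908 (flp_g L254931) q22120, e3 q21909 (flp_g L252854) q21290, e3 q21910 L252866 q20338, e3 q21911 L252880 q20796, e3 q21912 (flp_g L261112) q22723, e3 q21913 (flp_g L254182) q22041, e3 q21914 (flp_g L252906) q19609, e3 q21915 (flp_g L252918) q19610, e3 q21916 (flp_g L257517) q22377, e3 q21917 (flp_g L256094)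 q22237, e3 q21918 L252954 q21451, e3 q21919 (flp_g L257499) q22375, e3 q21920 L252972 q20177, e3 q21921 (flp_g L252984) q21835, e3 q21922 (flp_g L252986) q19624, e3 q21923 L253004 q21413, e3 q21924 (flp_g L253014) q21745, e3 q21925 L253028 q19637, e3 q21926 (flp_g L257454) q22371, e3 q21927 (flp_g L253050) q21851, e3 q21928 (flp_g L253052) q19636, e3 q21929 L253066 q21605, e3 q21930 (flp_g L253068) q19640, e3 q21931 (flp_g L253090) q21718, e3 q21932 (flp_g L253092) q19648, e3 q21933 (flp_g L260268) q22642, e3 q21934 (flp_g L253112) q19655, e3 q21935 L253134 q20550, e3 q21936 (flp_g L253136) q19658, e3 q21937 (flp_g L253150) q19660, e3 q21938 L253168 q21192, e3 q21939 (flp_g L261070) q22719, e3 q21940 L253192 q21881, e3 q21941 (flp_g L261302) q22740, e3 q21942 (flp_g L253220) q21012, e3 q21943 (flp_g L258800) q22502, e3 q21944 L253238 q20316, e3 q21945 (flp_g L253250) q20318, e3 q21946 L253262 q19718, e3 q21947 (flp_g L253264) q19679, e3 q21948 L253276 q21198, e3 q21949 (flp_g L253280) q19684, e3 q21950 (flp_g L256466)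 q22270, e3 q21951 (flp_g L253290) q19687, trivial⟩ (by decide +kernel)

theorem ce_g_343 : ∀ r, r < 64 → sm gg (Qf (21952 + r)) = Qf (tab Gen.g (21952 + r)) :=
  edges_tab (sm gg) Qf (tab Gen.g) 21952 [(21952, 21699), (21953, 22028), (21954, 20162), (21955, 21763), (21956, 21253), (21957, 19699), (21958, 19700), (21959, 21971), (21960, 19701), (21961, 19711), (21962, 21756), (21963, 19704), (21964, 22659), (21965, 21569), (21966, 21286), (21967, 20404), (21968, 20306), (21969, 22172), (21970, 22690), (21971, 21959), (21972, 21526), (21973, 19740), (21974, 19742), (21975, 21780), (21976, 19757), (21977, 21051), (21978, 19764), (21979, 22355), (21980, 21168), (21981, 21532), (21982, 19768), (21983, 19770), (21984, 19772), (21985, 22609), (21986, 21080), (21987, 21990), (21988, 22747), (21989, 19781), (21990, 21987), (21991, 22746), (21992, 19785), (21993, 19808), (21994, 21243), (21995, 19793), (21996, 20184), (21997, 22096), (21998, 19795), (21999, 22698), (22000, 21278), (22001, 20245), (22002, 22667), (22003, 19804),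 (22004, 19952), (22005, 21049), (22006, 22470), (22007, 21275), (22008, 22133), (22009, 19826), (22010, 20725), (22011, 22356), (22012, 20379), (22013, 21173), (22014, 20677), (22015, 19854)]
    ⟨e3 q21952 L253304 q21699, e3 q21953 (flp_g L254046) q22028, e3 q21954 L253318 q20162, e3 q21955 L253330 q21763, e3 q21956 L253340 q21253, e3 q21957 (flp_g L253343) q19699, e3 q21958 (flp_g L253357) q19700, e3 q21959 L253481 q21971, e3 q21960 (flp_g L253377) q19701, e3 q21961 L253385 q19711, e3 q21962 (flp_g L253397) q21756, e3 q21963 (flp_g L253399) q19704, e3 q21964 (flp_g L260436) q22659, e3 q21965 (flp_g L253429) q21569, e3 q21966 L253439 q21286, e3 q21967 L253449 q20404, e3 q21968 L253463 q20306, e3 q21969 (flp_g L255430) q22172, e3 q21970 (flp_g L260749) q22690, e3 q21971 (flp_g L253481) q21959, e3 q21972 L253491 q21526, e3 q21973 (flp_g L253493) q19740, e3 q21974 (flp_g L253501) q19742, e3 q21975 L253523 q21780, e3 q21976 (flp_g L253525) q19757, e3 q21977 (flp_g L253549) q21051, e3 q21978 (flp_g L253551) q19764,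 e3 q21979 (flp_g L257269) q22355, e3 q21980 L253577 q21168, e3 q21981 L253589 q21532, e3 q21982 (flp_g L253595) q19768, e3 q21983 (flp_g L253605) q19770, e3 q21984 (flp_g L253617) q19772, e3 q21985 (flp_g L259938) q22609, e3 q21986 L253641 q21080, e3 q21987 (flp_g L253671) q21990, e3 q21988 (flp_g L261376) q22747, e3 q21989 (flp_g L253655) q19781, e3 q21990 L253671 q21987, e3 q21991 (flp_g L261368) q22746, e3 q21992 (flp_g L253675) q19785, e3 q21993 L253697 q19808, e3 q21994 L253709 q21243, e3 q21995 (flp_g L253713) q19793, e3 q21996 L253734 q20184, e3 q21997 (flp_g L254738) q22096, e3 q21998 (flp_g L253742) q19795, e3 q21999 L260838 q22698, e3 q22000 L253758 q21278, e3 q22001 L253776 q20245, e3 q22002 (flp_g L260506) q22667, e3 q22003 (flp_g L253790) q19804, e3 q22004 L253806 q19952, e3 q22005 L253816 q21049, e3 q22006 (flp_g L258444) q22470, e3 q22007 L253836 q21275, e3 q22008 (flp_g L255078) q22133, e3 q22009 (flp_g L253844) q19826, e3 q22010 L253860 q20725, e3 q22011 (flp_g L257281) q22356, e3 q22012 L253882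 q20379, e3 q22013 L253894 q21173, e3 q22014 L253906 q20677, e3 q22015 (flp_g L253910) q19854, trivial⟩ (by decide +kernel)

theorem ce_g_344 : ∀ r, r < 64 → sm gg (Qf (22016 + r)) = Qf (tab Gen.g (22016 + r)) :=
  edges_tab (sm gg) Qf (tab Gen.g) 22016 [(22016, 22043), (22017, 19871), (22018, 19881), (22019, 19863), (22020, 22154), (22021, 20586), (22022, 22023), (22023, 22022), (22024, 21497), (22025, 21847), (22026, 19864), (22027, 19867), (22028, 21953), (22029, 21502), (22030, 22296), (22031, 22633), (22032, 22619), (22033, 22275), (22034, 22165), (22035, 22308), (22036, 22465), (22037, 21455), (22038, 19880), (22039, 21824), (22040, 19882), (22041, 21913), (22042, 22608), (22043, 22016), (22044, 20050), (22045, 19900), (22046, 20388), (22047, 19918), (22048, 22071), (22049, 19937), (22050, 22113), (22051, 22112), (22052, 20526), (22053, 19945), (22054, 20941), (22055, 19957), (22056, 22058), (22057, 19954), (22058, 22056), (22059, 20335), (22060, 22062), (22061, 19964), (22062, 22060), (22063, 19971), (22064,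 22064), (22065, 20059), (22066, 19998), (22067, 19999), (22068, 20004), (22069, 22100), (22070, 20018), (22071, 22048), (22072, 21332), (22073, 22721), (22074, 20025), (22075, 22328), (22076, 22751), (22077, 20029), (22078, 22104), (22079, 21353)]
    ⟨e3 q22016 (flp_g L254198) q22043, e3 q22017 L253938 q19871, e3 q22018 L253946 q19881, e3 q22019 L253958 q19863, e3 q22020 (flp_g L255277) q22154, e3 q22021 L253972 q20586, e3 q22022 (flp_g L253984) q22023, e3 q22023 L253984 q22022, e3 q22024 (flp_g L253998) q21497, e3 q22025 L254012 q21847, e3 q22026 (flp_g L254016) q19864, e3 q22027 (flp_g L254030) q19867, e3 q22028 L254046 q21953, e3 q22029 L254054 q21502, e3 q22030 (flp_g L256734) q22296, e3 q22031 (flp_g L260184) q22633, e3 q22032 (flp_g L260030) q22619, e3 q22033 (flp_g L256513) q22275, e3 q22034 L255384 q22165, e3 q22035 (flp_g L256864) q22308, e3 q22036 (flp_g L258386) q22465, e3 q22037 (flp_g L254132) q21455, e3 q22038 (flp_g L254134) q19880, e3 q22039 L254154 q21824, e3 q22040 (flp_g L254158) q19882, e3 q22041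 L254182 q21913, e3 q22042 (flp_g L259926) q22608, e3 q22043 L254198 q22016, e3 q22044 L254210 q20050, e3 q22045 (flp_g L254216) q19900, e3 q22046 L254234 q20388, e3 q22047 L254246 q19918, e3 q22048 (flp_g L254528) q22071, e3 q22049 (flp_g L254261) q19937, e3 q22050 (flp_g L254890) q22113, e3 q22051 (flp_g L254879) q22112, e3 q22052 L254304 q20526, e3 q22053 (flp_g L254308) q19945, e3 q22054 L254324 q20941, e3 q22055 L254332 q19957, e3 q22056 (flp_g L254374) q22058, e3 q22057 (flp_g L254350) q19954, e3 q22058 L254374 q22056, e3 q22059 L254386 q20335, e3 q22060 (flp_g L254420) q22062, e3 q22061 (flp_g L254402) q19964, e3 q22062 L254420 q22060, e3 q22063 (flp_g L254426) q19971, e3 q22064 L254448 q22064, e3 q22065 (flp_g L254461) q20059, e3 q22066 (flp_g L254465) q19998, e3 q22067 (flp_g L254476) q19999, e3 q22068 L254497 q20004, e3 q22069 (flp_g L254771) q22100, e3 q22070 (flp_g L254510) q20018, e3 q22071 L254528 q22048, e3 q22072 L254540 q21332, e3 q22073 (flp_g L261090) q22721, e3 q22074 (flp_g L254554) q20025, e3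 q22075 (flp_g L257025) q22328, e3 q22076 L261398 q22751, e3 q22077 (flp_g L254574) q20029, e3 q22078 (flp_g L254814) q22104, e3 q22079 L254598 q21353, trivial⟩ (by decide +kernel)

theorem ce_g_345 : ∀ r, r < 64 → sm gg (Qf (22080 + r)) = Qf (tab Gen.g (22080 + r)) :=
  edges_tab (sm gg) Qf (tab Gen.g) 22080 [(22080, 20630), (22081, 22331), (22082, 22109), (22083, 21459), (22084, 22279), (22085, 21446), (22086, 21347), (22087, 20362), (22088, 22722), (22089, 22250), (22090, 20939), (22091, 21244), (22092, 20844), (22093, 20052), (22094, 22175), (22095, 22262), (22096, 21997), (22097, 22761), (22098, 20083), (22099, 20060), (22100, 22069), (22101, 21248), (22102, 22765), (22103, 20065), (22104, 22078), (22105, 20629), (22106, 22333), (22107, 20068), (22108, 22117), (22109, 22082), (22110, 22770), (22111, 20077), (22112, 22051), (22113, 22050), (22114, 22114), (22115, 22776), (22116, 22768), (22117, 22108), (22118, 20079), (22119, 22767), (22120, 21908), (22121, 22121), (22122, 21262), (22123, 22155), (22124, 20187),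 (22125, 20959), (22126, 20092), (22127, 20099), (22128, 21119), (22129, 22334), (22130, 20103), (22131, 21105), (22132, 20809), (22133, 22008), (22134, 21075), (22135, 21595), (22136, 20183), (22137, 20343), (22138, 22513), (22139, 21410), (22140, 21176), (22141, 22488), (22142, 22205), (22143, 22782)]
    ⟨e3 q22080 (flp_g L254610) q20630, e3 q22081 (flp_g L257041) q22331, e3 q22082 (flp_g L254846) q22109, e3 q22083 L254628 q21459, e3 q22084 (flp_g L256549) q22279, e3 q22085 L254650 q21446, e3 q22086 L254662 q21347, e3 q22087 L254672 q20362, e3 q22088 (flp_g L261102) q22722, e3 q22089 (flp_g L256234) q22250, e3 q22090 (flp_g L254690) q20939, e3 q22091 L254698 q21244, e3 q22092 (flp_g L254714) q20844, e3 q22093 (flp_g L254716) q20052, e3 q22094 (flp_g L255458) q22175, e3 q22095 (flp_g L256368) q22262, e3 q22096 L254738 q21997, e3 q22097 L261502 q22761, e3 q22098 L254748 q20083, e3 q22099 (flp_g L254752) q20060, e3 q22100 L254771 q22069, e3 q22101 L254782 q21248, e3 q22102 L261536 q22765, e3 q22103 (flp_g L254794)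 q20065, e3 q22104 L254814 q22078, e3 q22105 (flp_g L254822) q20629, e3 q22106 L257065 q22333, e3 q22107 (flp_g L254830) q20068, e3 q22108 (flp_g L257057) q22117, e3 q22109 L254846 q22082, e3 q22110 L261579 q22770, e3 q22111 L254867 q20077, e3 q22112 L254879 q22051, e3 q22113 L254890 q22050, e3 q22114 L254894 q22114, e3 q22115 L261637 q22776, e3 q22116 (flp_g L261570) q22768, e3 q22117 L257057 q22108, e3 q22118 (flp_g L254917) q20079, e3 q22119 (flp_g L261562) q22767, e3 q22120 L254931 q21908, e3 q22121 L254941 q22121, e3 q22122 L254952 q21262, e3 q22123 (flp_g L255287) q22155, e3 q22124 L254974 q20187, e3 q22125 L254984 q20959, e3 q22126 (flp_g L254988) q20092, e3 q22127 L255006 q20099, e3 q22128 L255020 q21119, e3 q22129 (flp_g L257079) q22334, e3 q22130 (flp_g L255034) q20103, e3 q22131 L255054 q21105, e3 q22132 L255066 q20809, e3 q22133 L255078 q22008, e3 q22134 L255092 q21075, e3 q22135 L255106 q21595, e3 q22136 L255118 q20183, e3 q22137 L255128 q20343, e3 q22138 (flp_g L258923) q22513, e3 q22139 L255146 q21410,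 e3 q22140 L255154 q21176, e3 q22141 (flp_g L258652) q22488, e3 q22142 (flp_g L255754) q22205, e3 q22143 L261696 q22782, trivial⟩ (by decide +kernel)

theorem ce_g_346 : ∀ r, r < 64 → sm gg (Qf (22144 + r)) = Qf (tab Gen.g (22144 + r)) :=
  edges_tab (sm gg) Qf (tab Gen.g) 22144 [(22144, 22605), (22145, 20522), (22146, 22316), (22147, 20530), (22148, 21863), (22149, 20158), (22150, 21868), (22151, 22151), (22152, 20290), (22153, 22284), (22154, 22020), (22155, 22123), (22156, 20178), (22157, 22623), (22158, 20489), (22159, 21084), (22160, 22691), (22161, 20237), (22162, 22364), (22163, 22618), (22164, 20930), (22165, 22034), (22166, 22596), (22167, 20793), (22168, 22710), (22169, 22675), (22170, 21266), (22171, 21267), (22172, 21969), (22173, 22225), (22174, 22487), (22175, 22094), (22176, 22688), (22177, 22565), (22178, 22793), (22179, 20230), (22180, 20233), (22181, 20295), (22182, 22790), (22183, 22452), (22184, 22622), (22185, 20240), (22186, 22692), (22187, 21126), (22188, 22229), (22189, 22214), (22190, 21045),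 (22191, 21123), (22192, 21680), (22193, 22193), (22194, 20289), (22195, 21003), (22196, 21027), (22197, 20263), (22198, 21292), (22199, 21487), (22200, 20269), (22201, 20271), (22202, 21193), (22203, 21001), (22204, 20464), (22205, 22142), (22206, 22206), (22207, 20285)]
    ⟨e3 q22144 (flp_g L259888) q22605, e3 q22145 L255202 q20522, e3 q22146 (flp_g L256928) q22316, e3 q22147 L255218 q20530, e3 q22148 L255228 q21863, e3 q22149 (flp_g L255230) q20158, e3 q22150 L255246 q21868, e3 q22151 L255254 q22151, e3 q22152 L255263 q20290, e3 q22153 (flp_g L256595) q22284, e3 q22154 L255277 q22020, e3 q22155 L255287 q22123, e3 q22156 (flp_g L255291) q20178, e3 q22157 (flp_g L260076) q22623, e3 q22158 L255315 q20489, e3 q22159 L255327 q21084, e3 q22160 (flp_g L260755) q22691, e3 q22161 L255344 q20237, e3 q22162 (flp_g L257377) q22364, e3 q22163 (flp_g L260020) q22618, e3 q22164 L255370 q20930, e3 q22165 (flp_g L255384) q22034, e3 q22166 L259792 q22596, e3 q22167 L255398 q20793, e3 q22168 (flp_g L260970) q22710, e3 q22169 (flp_g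 L260573) q22675, e3 q22170 L255418 q21266, e3 q22171 L255424 q21267, e3 q22172 L255430 q21969, e3 q22173 (flp_g L255963) q22225, e3 q22174 (flp_g L258642) q22487, e3 q22175 L255458 q22094, e3 q22176 (flp_g L260721) q22688, e3 q22177 (flp_g L259492) q22565, e3 q22178 L261824 q22793, e3 q22179 (flp_g L255478) q20230, e3 q22180 L255490 q20233, e3 q22181 L255502 q20295, e3 q22182 (flp_g L261796) q22790, e3 q22183 (flp_g L258238) q22452, e3 q22184 (flp_g L260062) q22622, e3 q22185 (flp_g L255528) q20240, e3 q22186 (flp_g L260771) q22692, e3 q22187 (flp_g L255555) q21126, e3 q22188 (flp_g L256006) q22229, e3 q22189 L255855 q22214, e3 q22190 L255579 q21045, e3 q22191 L255589 q21123, e3 q22192 L255599 q21680, e3 q22193 L255603 q22193, e3 q22194 L255614 q20289, e3 q22195 L255628 q21003, e3 q22196 L255642 q21027, e3 q22197 (flp_g L255644) q20263, e3 q22198 L255664 q21292, e3 q22199 L255678 q21487, e3 q22200 (flp_g L255682) q20269, e3 q22201 (flp_g L255694) q20271, e3 q22202 L255718 q21193, e3 q22203 L255728 q21001, e3 q22204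 L255742 q20464, e3 q22205 L255754 q22142, e3 q22206 L255766 q22206, e3 q22207 L255777 q20285, trivial⟩ (by decide +kernel)

theorem ce_g_347 : ∀ r, r < 64 → sm gg (Qf (22208 + r)) = Qf (tab Gen.g (22208 + r)) :=
  edges_tab (sm gg) Qf (tab Gen.g) 22208 [(22208, 21681), (22209, 22510), (22210, 22492), (22211, 22787), (22212, 21740), (22213, 22460), (22214, 22189), (22215, 20291), (22216, 21079), (22217, 21148), (22218, 21072), (22219, 20298), (22220, 21231), (22221, 21666), (22222, 21671), (22223, 20303), (22224, 21138), (22225, 22173), (22226, 20977), (22227, 20976), (22228, 20980), (22229, 22188), (22230, 20311), (22231, 21097), (22232, 20315), (22233, 22700), (22234, 21875), (22235, 21307), (22236, 21120), (22237, 21917), (22238, 20341), (22239, 20402), (22240, 21096), (22241, 21044), (22242, 22473), (22243, 22725), (22244, 22247), (22245, 20364), (22246, 20367), (22247, 22244), (22248, 20373), (22249, 21252), (22250, 22089), (22251, 22261), (22252, 20385), (22253, 21385), (22254, 20389), (22255, 21237), (22256,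 21182), (22257, 22482), (22258, 22486), (22259, 21342), (22260, 20417), (22261, 22251), (22262, 22095), (22263, 20421), (22264, 20743), (22265, 20436), (22266, 20439), (22267, 20769), (22268, 20457), (22269, 21841), (22270, 21950), (22271, 21522)]
    ⟨e3 q22208 L255787 q21681, e3 q22209 (flp_g L258890) q22510, e3 q22210 (flp_g L258692) q22492, e3 q22211 (flp_g L261759) q22787, e3 q22212 (flp_g L255829) q21740, e3 q22213 (flp_g L258332) q22460, e3 q22214 (flp_g L255855) q22189, e3 q22215 (flp_g L255857) q20291, e3 q22216 L255871 q21079, e3 q22217 (flp_g L255883) q21148, e3 q22218 L255891 q21072, e3 q22219 (flp_g L255895) q20298, e3 q22220 L255911 q21231, e3 q22221 L255922 q21666, e3 q22222 L255934 q21671, e3 q22223 (flp_g L255936) q20303, e3 q22224 L255955 q21138, e3 q22225 L255963 q22173, e3 q22226 L255970 q20977, e3 q22227 (flp_g L255984) q20976, e3 q22228 (flp_g L255998) q20980, e3 q22229 L256006 q22188, e3 q22230 (flp_g L256010) q20311, e3 q22231 L256032 q21097, e3 q22232 (flp_g L256034) q20315, e3 q22233 (flp_g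 L260864) q22700, e3 q22234 L256062 q21875, e3 q22235 L256070 q21307, e3 q22236 L256080 q21120, e3 q22237 L256094 q21917, e3 q22238 L256104 q20341, e3 q22239 L256118 q20402, e3 q22240 L256130 q21096, e3 q22241 L256144 q21044, e3 q22242 L258482 q22473, e3 q22243 (flp_g L261138) q22725, e3 q22244 (flp_g L256200) q22247, e3 q22245 (flp_g L256178) q20364, e3 q22246 (flp_g L256184) q20367, e3 q22247 L256200 q22244, e3 q22248 (flp_g L256204) q20373, e3 q22249 L256224 q21252, e3 q22250 L256234 q22089, e3 q22251 (flp_g L256358) q22261, e3 q22252 (flp_g L256246) q20385, e3 q22253 (flp_g L256264) q21385, e3 q22254 (flp_g L256266) q20389, e3 q22255 L256284 q21237, e3 q22256 L256298 q21182, e3 q22257 (flp_g L258582) q22482, e3 q22258 (flp_g L258630) q22486, e3 q22259 L256328 q21342, e3 q22260 L256342 q20417, e3 q22261 L256358 q22251, e3 q22262 L256368 q22095, e3 q22263 (flp_g L256372) q20421, e3 q22264 L256394 q20743, e3 q22265 (flp_g L256400) q20436, e3 q22266 (flp_g L256414) q20439, e3 q22267 L256432 q20769, e3 q22268 (flp_g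 L256434) q20457, e3 q22269 L256456 q21841, e3 q22270 L256466 q21950, e3 q22271 L256478 q21522, trivial⟩ (by decide +kernel)

theorem ce_g_348 : ∀ r, r < 64 → sm gg (Qf (22272 + r)) = Qf (tab Gen.g (22272 + r)) :=
  edges_tab (sm gg) Qf (tab Gen.g) 22272 [(22272, 20469), (22273, 22378), (22274, 20470), (22275, 22033), (22276, 20787), (22277, 20473), (22278, 22376), (22279, 22084), (22280, 22535), (22281, 20480), (22282, 22529), (22283, 21183), (22284, 22153), (22285, 21866), (22286, 20515), (22287, 20506), (22288, 21177), (22289, 22509), (22290, 22583), (22291, 22306), (22292, 20527), (22293, 22477), (22294, 20528), (22295, 22314), (22296, 22030), (22297, 22631), (22298, 20536), (22299, 21805), (22300, 20538), (22301, 20543), (22302, 22508), (22303, 20572), (22304, 20575), (22305, 21498), (22306, 22291), (22307, 20583), (22308, 22035), (22309, 21513), (22310, 21514), (22311, 21515), (22312, 22798), (22313, 21444), (22314, 22295), (22315, 20584), (22316, 22146), (22317, 22607), (22318, 20582), (22319, 20614), (22320,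 22814), (22321, 20664), (22322, 22336), (22323, 22813), (22324, 20617), (22325, 20627), (22326, 22332), (22327, 21207), (22328, 22075), (22329, 22763), (22330, 22738), (22331, 22081), (22332, 22326), (22333, 22106), (22334, 22129), (22335, 22815)]
    ⟨e3 q22272 (flp_g L256480) q20469, e3 q22273 (flp_g L257531) q22378, e3 q22274 (flp_g L256495) q20470, e3 q22275 L256513 q22033, e3 q22276 L256523 q20787, e3 q22277 (flp_g L256527) q20473, e3 q22278 (flp_g L257507) q22376, e3 q22279 L256549 q22084, e3 q22280 (flp_g L259170) q22535, e3 q22281 (flp_g L256563) q20480, e3 q22282 (flp_g L259101) q22529, e3 q22283 L256585 q21183, e3 q22284 L256595 q22153, e3 q22285 L256611 q21866, e3 q22286 L256623 q20515, e3 q22287 (flp_g L256627) q20506, e3 q22288 L256649 q21177, e3 q22289 (flp_g L258878) q22509, e3 q22290 (flp_g L259654) q22583, e3 q22291 L256844 q22306, e3 q22292 (flp_g L256685) q20527, e3 q22293 (flp_g L258524) q22477, e3 q22294 (flp_g L256707) q20528, e3 q22295 (flp_g L256906) q22314, e3 q22296 L256734 q22030, e3 q22297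 (flp_g L260162) q22631, e3 q22298 (flp_g L256744) q20536, e3 q22299 L256766 q21805, e3 q22300 (flp_g L256770) q20538, e3 q22301 L256784 q20543, e3 q22302 (flp_g L258868) q22508, e3 q22303 L256806 q20572, e3 q22304 L256816 q20575, e3 q22305 L256830 q21498, e3 q22306 (flp_g L256844) q22291, e3 q22307 L256856 q20583, e3 q22308 L256864 q22035, e3 q22309 L256872 q21513, e3 q22310 L256880 q21514, e3 q22311 L256886 q21515, e3 q22312 (flp_g L261888) q22798, e3 q22313 L256898 q21444, e3 q22314 L256906 q22295, e3 q22315 L256919 q20584, e3 q22316 L256928 q22146, e3 q22317 (flp_g L259914) q22607, e3 q22318 L256949 q20582, e3 q22319 L256959 q20614, e3 q22320 L262039 q22814, e3 q22321 (flp_g L256969) q20664, e3 q22322 (flp_g L257089) q22336, e3 q22323 L262037 q22813, e3 q22324 (flp_g L256987) q20617, e3 q22325 L257003 q20627, e3 q22326 (flp_g L257047) q22332, e3 q22327 L257019 q21207, e3 q22328 L257025 q22075, e3 q22329 L261522 q22763, e3 q22330 (flp_g L261276) q22738, e3 q22331 L257041 q22081, e3 q22332 L257047 q22326, e3 q22333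 (flp_g L257065) q22106, e3 q22334 L257079 q22129, e3 q22335 (flp_g L262051) q22815, trivial⟩ (by decide +kernel)

theorem ce_g_349 : ∀ r, r < 64 → sm gg (Qf (22336 + r)) = Qf (tab Gen.g (22336 + r)) :=
  edges_tab (sm gg) Qf (tab Gen.g) 22336 [(22336, 22322), (22337, 22731), (22338, 20638), (22339, 22821), (22340, 20652), (22341, 22542), (22342, 22543), (22343, 22780), (22344, 20654), (22345, 22754), (22346, 20655), (22347, 20656), (22348, 20658), (22349, 22823), (22350, 21827), (22351, 21878), (22352, 22401), (22353, 20688), (22354, 21039), (22355, 21979), (22356, 22011), (22357, 21412), (22358, 22358), (22359, 20713), (22360, 20717), (22361, 20728), (22362, 22624), (22363, 21358), (22364, 22162), (22365, 21852), (22366, 22370), (22367, 20748), (22368, 22679), (22369, 20753), (22370, 22366), (22371, 21926), (22372, 20760), (22373, 22382), (22374, 20788), (22375, 21919), (22376, 22278), (22377, 21916), (22378, 22273), (22379, 22632), (22380, 20789), (22381, 20779), (22382, 22373), (22383, 21641), (22384, 21677),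 (22385, 20835), (22386, 22586), (22387, 22404), (22388, 21391), (22389, 22784), (22390, 22471), (22391, 20857), (22392, 20861), (22393, 21109), (22394, 21070), (22395, 21069), (22396, 21311), (22397, 20948), (22398, 22728), (22399, 20938)]
    ⟨e3 q22336 L257089 q22322, e3 q22337 (flp_g L261216) q22731, e3 q22338 (flp_g L257107) q20638, e3 q22339 L262101 q22821, e3 q22340 (flp_g L257127) q20652, e3 q22341 (flp_g L259246) q22542, e3 q22342 L259260 q22543, e3 q22343 (flp_g L261686) q22780, e3 q22344 (flp_g L257155) q20654, e3 q22345 (flp_g L261434) q22754, e3 q22346 (flp_g L257165) q20655, e3 q22347 (flp_g L257175) q20656, e3 q22348 (flp_g L257185) q20658, e3 q22349 L262121 q22823, e3 q22350 L257209 q21827, e3 q22351 L257223 q21878, e3 q22352 (flp_g L257758) q22401, e3 q22353 (flp_g L257237) q20688, e3 q22354 (flp_g L257261) q21039, e3 q22355 L257269 q21979, e3 q22356 L257281 q22011, e3 q22357 L257297 q21412, e3 q22358 L257308 q22358, e3 q22359 (flp_g L257311) q20713, e3 q22360 (flp_g L257325) q20717, e3 q22361 (flp_g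 L257335) q20728, e3 q22362 (flp_g L260088) q22624, e3 q22363 L257367 q21358, e3 q22364 L257377 q22162, e3 q22365 (flp_g L257391) q21852, e3 q22366 L257442 q22370, e3 q22367 (flp_g L257401) q20748, e3 q22368 (flp_g L260624) q22679, e3 q22369 (flp_g L257420) q20753, e3 q22370 (flp_g L257442) q22366, e3 q22371 L257454 q21926, e3 q22372 (flp_g L257458) q20760, e3 q22373 (flp_g L257559) q22382, e3 q22374 L257485 q20788, e3 q22375 L257499 q21919, e3 q22376 L257507 q22278, e3 q22377 L257517 q21916, e3 q22378 L257531 q22273, e3 q22379 (flp_g L260174) q22632, e3 q22380 (flp_g L257543) q20789, e3 q22381 (flp_g L257545) q20779, e3 q22382 L257559 q22373, e3 q22383 L257572 q21641, e3 q22384 L257582 q21677, e3 q22385 (flp_g L257586) q20835, e3 q22386 (flp_g L259688) q22586, e3 q22387 (flp_g L257794) q22404, e3 q22388 (flp_g L257620) q21391, e3 q22389 (flp_g L261720) q22784, e3 q22390 (flp_g L258454) q22471, e3 q22391 (flp_g L257642) q20857, e3 q22392 (flp_g L257650) q20861, e3 q22393 L257668 q21109, e3 q22394 L257678 q21070,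 e3 q22395 L257690 q21069, e3 q22396 L257702 q21311, e3 q22397 L257714 q20948, e3 q22398 (flp_g L261178) q22728, e3 q22399 L257736 q20938, trivial⟩ (by decide +kernel)

theorem ce_g_350 : ∀ r, r < 64 → sm gg (Qf (22400 + r)) = Qf (tab Gen.g (22400 + r)) :=
  edges_tab (sm gg) Qf (tab Gen.g) 22400 [(22400, 20954), (22401, 22352), (22402, 21005), (22403, 20903), (22404, 22387), (22405, 22831), (22406, 21111), (22407, 22500), (22408, 20923), (22409, 22415), (22410, 22420), (22411, 21217), (22412, 21288), (22413, 21034), (22414, 22580), (22415, 22409), (22416, 22838), (22417, 20924), (22418, 21364), (22419, 22839), (22420, 22410), (22421, 20928), (22422, 20952), (22423, 22755), (22424, 22756), (22425, 22646), (22426, 20943), (22427, 22842), (22428, 20944), (22429, 20946), (22430, 22726), (22431, 20950), (22432, 20951), (22433, 21416), (22434, 20955), (22435, 21417), (22436, 22644), (22437, 22437), (22438, 21534), (22439, 21533), (22440, 21050), (22441, 22445), (22442, 21202), (22443, 22446), (22444, 21321), (22445, 22441),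 (22446, 22443), (22447, 20982), (22448, 21232), (22449, 22533), (22450, 20991), (22451, 22453), (22452, 22183), (22453, 22451), (22454, 20997), (22455, 21156), (22456, 20999), (22457, 21399), (22458, 21002), (22459, 21006), (22460, 22213), (22461, 21401), (22462, 21247), (22463, 21210)]
    ⟨e3 q22400 L257746 q20954, e3 q22401 L257758 q22352, e3 q22402 L257770 q21005, e3 q22403 (flp_g L257772) q20903, e3 q22404 L257794 q22387, e3 q22405 (flp_g L262205) q22831, e3 q22406 L257808 q21111, e3 q22407 L258778 q22500, e3 q22408 L257822 q20923, e3 q22409 L257886 q22415, e3 q22410 L257940 q22420, e3 q22411 L257842 q21217, e3 q22412 (flp_g L257854) q21288, e3 q22413 L257862 q21034, e3 q22414 (flp_g L259632) q22580, e3 q22415 (flp_g L257886) q22409, e3 q22416 L262273 q22838, e3 q22417 (flp_g L257898) q20924, e3 q22418 L257918 q21364, e3 q22419 L262287 q22839, e3 q22420 (flp_g L257940) q22410, e3 q22421 (flp_g L257942) q20928, e3 q22422 L257958 q20952, e3 q22423 (flp_g L261450) q22755, e3 q22424 (flp_g L261456) q22756, e3 q22425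 (flp_g L260309) q22646, e3 q22426 (flp_g L257986) q20943, e3 q22427 L262321 q22842, e3 q22428 (flp_g L258000) q20944, e3 q22429 (flp_g L258004) q20946, e3 q22430 (flp_g L261152) q22726, e3 q22431 (flp_g L258020) q20950, e3 q22432 (flp_g L258030) q20951, e3 q22433 L258046 q21416, e3 q22434 (flp_g L258050) q20955, e3 q22435 L258064 q21417, e3 q22436 (flp_g L260290) q22644, e3 q22437 L258076 q22437, e3 q22438 L258081 q21534, e3 q22439 L258097 q21533, e3 q22440 L258109 q21050, e3 q22441 (flp_g L258165) q22445, e3 q22442 L258131 q21202, e3 q22443 L258177 q22446, e3 q22444 (flp_g L258153) q21321, e3 q22445 L258165 q22441, e3 q22446 (flp_g L258177) q22443, e3 q22447 (flp_g L258181) q20982, e3 q22448 L258201 q21232, e3 q22449 (flp_g L259146) q22533, e3 q22450 (flp_g L258211) q20991, e3 q22451 (flp_g L258250) q22453, e3 q22452 L258238 q22183, e3 q22453 L258250 q22451, e3 q22454 (flp_g L258254) q20997, e3 q22455 L258272 q21156, e3 q22456 (flp_g L258276) q20999, e3 q22457 L258292 q21399, e3 q22458 (flp_g L258296) q21002, e3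 q22459 (flp_g L258308) q21006, e3 q22460 L258332 q22213, e3 q22461 L258342 q21401, e3 q22462 (flp_g L258356) q21247, e3 q22463 L258368 q21210, trivial⟩ (by decide +kernel)

theorem ce_g_351 : ∀ r, r < 64 → sm gg (Qf (22464 + r)) = Qf (tab Gen.g (22464 + r)) :=
  edges_tab (sm gg) Qf (tab Gen.g) 22464 [(22464, 22758), (22465, 22036), (22466, 21594), (22467, 22489), (22468, 21170), (22469, 21216), (22470, 22006), (22471, 22390), (22472, 21350), (22473, 22242), (22474, 21059), (22475, 21061), (22476, 22757), (22477, 22293), (22478, 21073), (22479, 22796), (22480, 21695), (22481, 22739), (22482, 22257), (22483, 22584), (22484, 21882), (22485, 21086), (22486, 22258), (22487, 22174), (22488, 22141), (22489, 22467), (22490, 22736), (22491, 22797), (22492, 22210), (22493, 21393), (22494, 22536), (22495, 21694), (22496, 22524), (22497, 21108), (22498, 22832), (22499, 22833), (22500, 22407), (22501, 21112), (22502, 21943), (22503, 21116), (22504, 21117), (22505, 22563), (22506, 21130), (22507, 21132), (22508, 22302), (22509,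 22289), (22510, 22209), (22511, 22511), (22512, 21139), (22513, 22138), (22514, 21419), (22515, 21147), (22516, 21158), (22517, 21149), (22518, 21155), (22519, 21819), (22520, 21159), (22521, 21162), (22522, 21225), (22523, 22850), (22524, 22496), (22525, 21166), (22526, 21169), (22527, 21430)]
    ⟨e3 q22464 (flp_g L261476) q22758, e3 q22465 L258386 q22036, e3 q22466 L258400 q21594, e3 q22467 (flp_g L258662) q22489, e3 q22468 L258420 q21170, e3 q22469 L258430 q21216, e3 q22470 L258444 q22006, e3 q22471 L258454 q22390, e3 q22472 L258468 q21350, e3 q22473 (flp_g L258482) q22242, e3 q22474 (flp_g L258486) q21059, e3 q22475 (flp_g L258498) q21061, e3 q22476 (flp_g L261464) q22757, e3 q22477 L258524 q22293, e3 q22478 (flp_g L258528) q21073, e3 q22479 (flp_g L261866) q22796, e3 q22480 L258558 q21695, e3 q22481 (flp_g L261288) q22739, e3 q22482 L258582 q22257, e3 q22483 (flp_g L259666) q22584, e3 q22484 L258606 q21882, e3 q22485 (flp_g L258612) q21086, e3 q22486 L258630 q22258, e3 q22487 L258642 q22174, e3 q22488 L258652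 q22141, e3 q22489 L258662 q22467, e3 q22490 (flp_g L261256) q22736, e3 q22491 (flp_g L261880) q22797, e3 q22492 L258692 q22210, e3 q22493 L258700 q21393, e3 q22494 (flp_g L259182) q22536, e3 q22495 (flp_g L258732) q21694, e3 q22496 (flp_g L259047) q22524, e3 q22497 (flp_g L258742) q21108, e3 q22498 (flp_g L262215) q22832, e3 q22499 (flp_g L262229) q22833, e3 q22500 (flp_g L258778) q22407, e3 q22501 (flp_g L258782) q21112, e3 q22502 L258800 q21943, e3 q22503 (flp_g L258804) q21116, e3 q22504 (flp_g L258816) q21117, e3 q22505 (flp_g L259470) q22563, e3 q22506 L258842 q21130, e3 q22507 L258854 q21132, e3 q22508 L258868 q22302, e3 q22509 L258878 q22289, e3 q22510 L258890 q22209, e3 q22511 L258900 q22511, e3 q22512 (flp_g L258901) q21139, e3 q22513 L258923 q22138, e3 q22514 L258937 q21419, e3 q22515 (flp_g L258941) q21147, e3 q22516 L258959 q21158, e3 q22517 (flp_g L258965) q21149, e3 q22518 (flp_g L258981) q21155, e3 q22519 (flp_g L258993) q21819, e3 q22520 (flp_g L258995) q21159, e3 q22521 L259017 q21162, e3 q22522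 L259031 q21225, e3 q22523 (flp_g L262423) q22850, e3 q22524 L259047 q22496, e3 q22525 L259057 q21166, e3 q22526 (flp_g L259061) q21169, e3 q22527 L259083 q21430, trivial⟩ (by decide +kernel)

theorem ce_g_352 : ∀ r, r < 64 → sm gg (Qf (22528 + r)) = Qf (tab Gen.g (22528 + r)) :=
  edges_tab (sm gg) Qf (tab Gen.g) 22528 [(22528, 22792), (22529, 22282), (22530, 21504), (22531, 21184), (22532, 21185), (22533, 22449), (22534, 21190), (22535, 22280), (22536, 22494), (22537, 21904), (22538, 21230), (22539, 22553), (22540, 21227), (22541, 22587), (22542, 22341), (22543, 22342), (22544, 21211), (22545, 21213), (22546, 22851), (22547, 21568), (22548, 21224), (22549, 22571), (22550, 21432), (22551, 22570), (22552, 22818), (22553, 22539), (22554, 22557), (22555, 22854), (22556, 22855), (22557, 22554), (22558, 22558), (22559, 21821), (22560, 22588), (22561, 22592), (22562, 21268), (22563, 22505), (22564, 21276), (22565, 22177), (22566, 22573), (22567, 22574), (22568, 22568), (22569, 22569), (22570, 22551), (22571, 22549), (22572,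 22575), (22573, 22566), (22574, 22567), (22575, 22572), (22576, 21336), (22577, 22858), (22578, 21590), (22579, 22601), (22580, 22414), (22581, 22621), (22582, 22620), (22583, 22290), (22584, 22483), (22585, 21390), (22586, 22386), (22587, 22541), (22588, 22560), (22589, 22785), (22590, 21392), (22591, 22668)]
    ⟨e3 q22528 (flp_g L261822) q22792, e3 q22529 L259101 q22282, e3 q22530 L259117 q21504, e3 q22531 (flp_g L259119) q21184, e3 q22532 (flp_g L259131) q21185, e3 q22533 L259146 q22449, e3 q22534 (flp_g L259148) q21190, e3 q22535 L259170 q22280, e3 q22536 L259182 q22494, e3 q22537 L259198 q21904, e3 q22538 L259208 q21230, e3 q22539 (flp_g L259370) q22553, e3 q22540 L259226 q21227, e3 q22541 (flp_g L259700) q22587, e3 q22542 L259246 q22341, e3 q22543 (flp_g L259260) q22342, e3 q22544 (flp_g L259262) q21211, e3 q22545 (flp_g L259272) q21213, e3 q22546 (flp_g L262435) q22851, e3 q22547 (flp_g L259300) q21568, e3 q22548 (flp_g L259304) q21224, e3 q22549 (flp_g L259548) q22571, e3 q22550 L259334 q21432, e3 q22551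 (flp_g L259536) q22570, e3 q22552 (flp_g L262081) q22818, e3 q22553 L259370 q22539, e3 q22554 (flp_g L259405) q22557, e3 q22555 (flp_g L262475) q22854, e3 q22556 L262479 q22855, e3 q22557 L259405 q22554, e3 q22558 L259417 q22558, e3 q22559 L259426 q21821, e3 q22560 (flp_g L259706) q22588, e3 q22561 (flp_g L259752) q22592, e3 q22562 (flp_g L259452) q21268, e3 q22563 L259470 q22505, e3 q22564 (flp_g L259474) q21276, e3 q22565 L259492 q22177, e3 q22566 (flp_g L259566) q22573, e3 q22567 (flp_g L259574) q22574, e3 q22568 L259518 q22568, e3 q22569 L259526 q22569, e3 q22570 L259536 q22551, e3 q22571 L259548 q22549, e3 q22572 (flp_g L259584) q22575, e3 q22573 L259566 q22566, e3 q22574 L259574 q22567, e3 q22575 L259584 q22572, e3 q22576 L259597 q21336, e3 q22577 (flp_g L262530) q22858, e3 q22578 L259612 q21590, e3 q22579 L259846 q22601, e3 q22580 L259632 q22414, e3 q22581 (flp_g L260052) q22621, e3 q22582 (flp_g L260036) q22620, e3 q22583 L259654 q22290, e3 q22584 L259666 q22483, e3 q22585 L259676 q21390, e3 q22586 L259688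 q22386, e3 q22587 L259700 q22541, e3 q22588 L259706 q22560, e3 q22589 (flp_g L261734) q22785, e3 q22590 (flp_g L259720) q21392, e3 q22591 (flp_g L260518) q22668, trivial⟩ (by decide +kernel)

theorem ce_g_353 : ∀ r, r < 64 → sm gg (Qf (22592 + r)) = Qf (tab Gen.g (22592 + r)) :=
  edges_tab (sm gg) Qf (tab Gen.g) 22592 [(22592, 22561), (22593, 22841), (22594, 21837), (22595, 21839), (22596, 22166), (22597, 21429), (22598, 22745), (22599, 22860), (22600, 21433), (22601, 22579), (22602, 21434), (22603, 21437), (22604, 22809), (22605, 22144), (22606, 22810), (22607, 22317), (22608, 22042), (22609, 21985), (22610, 21496), (22611, 21467), (22612, 22628), (22613, 22844), (22614, 21471), (22615, 22630), (22616, 21473), (22617, 21475), (22618, 22163), (22619, 22032), (22620, 22582), (22621, 22581), (22622, 22184), (22623, 22157), (22624, 22362), (22625, 21525), (22626, 22805), (22627, 22806), (22628, 22612), (22629, 22808), (22630, 22615), (22631, 22297), (22632, 22379), (22633, 22031), (22634, 21529), (22635, 21536), (22636,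 22636), (22637, 22638), (22638, 22637), (22639, 22712), (22640, 21556), (22641, 22641), (22642, 21933), (22643, 22649), (22644, 22436), (22645, 22645), (22646, 22425), (22647, 21593), (22648, 21777), (22649, 22643), (22650, 21585), (22651, 22685), (22652, 21858), (22653, 22865), (22654, 22682), (22655, 22681)]
    ⟨e3 q22592 L259752 q22561, e3 q22593 (flp_g L262317) q22841, e3 q22594 L259770 q21837, e3 q22595 L259778 q21839, e3 q22596 (flp_g L259792) q22166, e3 q22597 (flp_g L259794) q21429, e3 q22598 (flp_g L261360) q22745, e3 q22599 L262545 q22860, e3 q22600 (flp_g L259828) q21433, e3 q22601 (flp_g L259846) q22579, e3 q22602 (flp_g L259848) q21434, e3 q22603 L259868 q21437, e3 q22604 (flp_g L261994) q22809, e3 q22605 L259888 q22144, e3 q22606 (flp_g L262011) q22810, e3 q22607 L259914 q22317, e3 q22608 L259926 q22042, e3 q22609 L259938 q21985, e3 q22610 L259954 q21496, e3 q22611 (flp_g L259958) q21467, e3 q22612 (flp_g L260134) q22628, e3 q22613 (flp_g L262349) q22844, e3 q22614 (flp_g L259984) q21471, e3 q22615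 (flp_g L260150) q22630, e3 q22616 (flp_g L259996) q21473, e3 q22617 (flp_g L260000) q21475, e3 q22618 L260020 q22163, e3 q22619 L260030 q22032, e3 q22620 L260036 q22582, e3 q22621 L260052 q22581, e3 q22622 L260062 q22184, e3 q22623 L260076 q22157, e3 q22624 L260088 q22362, e3 q22625 L260104 q21525, e3 q22626 (flp_g L261957) q22805, e3 q22627 (flp_g L261965) q22806, e3 q22628 L260134 q22612, e3 q22629 (flp_g L261985) q22808, e3 q22630 L260150 q22615, e3 q22631 L260162 q22297, e3 q22632 L260174 q22379, e3 q22633 L260184 q22031, e3 q22634 (flp_g L260188) q21529, e3 q22635 L260208 q21536, e3 q22636 L260214 q22636, e3 q22637 (flp_g L260227) q22638, e3 q22638 L260227 q22637, e3 q22639 (flp_g L260994) q22712, e3 q22640 (flp_g L260241) q21556, e3 q22641 L260256 q22641, e3 q22642 L260268 q21933, e3 q22643 (flp_g L260349) q22649, e3 q22644 L260290 q22436, e3 q22645 L260300 q22645, e3 q22646 L260309 q22425, e3 q22647 L260323 q21593, e3 q22648 L260335 q21777, e3 q22649 L260349 q22643, e3 q22650 L260357 q21585, e3 q22651 (flp_g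 L260687) q22685, e3 q22652 L260373 q21858, e3 q22653 L262595 q22865, e3 q22654 (flp_g L260659) q22682, e3 q22655 (flp_g L260649) q22681, trivial⟩ (by decide +kernel)

theorem ce_g_354 : ∀ r, r < 64 → sm gg (Qf (22656 + r)) = Qf (tab Gen.g (22656 + r)) :=
  edges_tab (sm gg) Qf (tab Gen.g) 22656 [(22656, 21753), (22657, 21587), (22658, 21755), (22659, 21964), (22660, 22705), (22661, 22715), (22662, 21857), (22663, 22683), (22664, 22708), (22665, 22684), (22666, 22671), (22667, 22002), (22668, 22591), (22669, 22687), (22670, 21618), (22671, 22666), (22672, 22789), (22673, 21622), (22674, 22689), (22675, 22169), (22676, 21743), (22677, 21744), (22678, 21747), (22679, 22368), (22680, 21640), (22681, 22655), (22682, 22654), (22683, 22663), (22684, 22665), (22685, 22651), (22686, 21655), (22687, 22669), (22688, 22176), (22689, 22674), (22690, 21970), (22691, 22160), (22692, 22186), (22693, 22857), (22694, 21684), (22695, 21706), (22696, 22759), (22697, 21691), (22698, 21999), (22699, 21692), (22700, 22233), (22701, 21700),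 (22702, 22707), (22703, 21812), (22704, 21807), (22705, 22660), (22706, 21722), (22707, 22702), (22708, 22664), (22709, 21738), (22710, 22168), (22711, 21752), (22712, 22639), (22713, 21903), (22714, 21810), (22715, 22661), (22716, 22864), (22717, 22753), (22718, 22737), (22719, 21939)]
    ⟨e3 q22656 (flp_g L260406) q21753, e3 q22657 (flp_g L260408) q21587, e3 q22658 L260424 q21755, e3 q22659 L260436 q21964, e3 q22660 (flp_g L260913) q22705, e3 q22661 (flp_g L261032) q22715, e3 q22662 L260464 q21857, e3 q22663 (flp_g L260665) q22683, e3 q22664 (flp_g L260950) q22708, e3 q22665 (flp_g L260673) q22684, e3 q22666 (flp_g L260542) q22671, e3 q22667 L260506 q22002, e3 q22668 L260518 q22591, e3 q22669 (flp_g L260711) q22687, e3 q22670 (flp_g L260528) q21618, e3 q22671 L260542 q22666, e3 q22672 (flp_g L261784) q22789, e3 q22673 (flp_g L260556) q21622, e3 q22674 (flp_g L260735) q22689, e3 q22675 L260573 q22169, e3 q22676 L260587 q21743, e3 q22677 L260600 q21744, e3 q22678 L260610 q21747, e3 q22679 L260624 q22368, e3 q22680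 (flp_g L260627) q21640, e3 q22681 L260649 q22655, e3 q22682 L260659 q22654, e3 q22683 L260665 q22663, e3 q22684 L260673 q22665, e3 q22685 L260687 q22651, e3 q22686 L260701 q21655, e3 q22687 L260711 q22669, e3 q22688 L260721 q22176, e3 q22689 L260735 q22674, e3 q22690 L260749 q21970, e3 q22691 L260755 q22160, e3 q22692 L260771 q22186, e3 q22693 (flp_g L262517) q22857, e3 q22694 (flp_g L260783) q21684, e3 q22695 L260803 q21706, e3 q22696 (flp_g L261491) q22759, e3 q22697 (flp_g L260817) q21691, e3 q22698 (flp_g L260838) q21999, e3 q22699 (flp_g L260840) q21692, e3 q22700 L260864 q22233, e3 q22701 (flp_g L260868) q21700, e3 q22702 (flp_g L260940) q22707, e3 q22703 L260890 q21812, e3 q22704 L260902 q21807, e3 q22705 L260913 q22660, e3 q22706 (flp_g L260916) q21722, e3 q22707 L260940 q22702, e3 q22708 L260950 q22664, e3 q22709 L260962 q21738, e3 q22710 L260970 q22168, e3 q22711 L260982 q21752, e3 q22712 L260994 q22639, e3 q22713 L261008 q21903, e3 q22714 L261022 q21810, e3 q22715 L261032 q22661, e3 q22716 L262593 q22864,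 e3 q22717 (flp_g L261422) q22753, e3 q22718 (flp_g L261266) q22737, e3 q22719 L261070 q21939, trivial⟩ (by decide +kernel)

theorem ce_g_355 : ∀ r, r < 64 → sm gg (Qf (22720 + r)) = Qf (tab Gen.g (22720 + r)) :=
  edges_tab (sm gg) Qf (tab Gen.g) 22720 [(22720, 21766), (22721, 22073), (22722, 22088), (22723, 21912), (22724, 21785), (22725, 22243), (22726, 22430), (22727, 21793), (22728, 22398), (22729, 22730), (22730, 22729), (22731, 22337), (22732, 22799), (22733, 22744), (22734, 22825), (22735, 21897), (22736, 22490), (22737, 22718), (22738, 22330), (22739, 22481), (22740, 21941), (22741, 22849), (22742, 21901), (22743, 22803), (22744, 22733), (22745, 22598), (22746, 21991), (22747, 21988), (22748, 22859), (22749, 22788), (22750, 22804), (22751, 22076), (22752, 22819), (22753, 22717), (22754, 22345), (22755, 22423), (22756, 22424), (22757, 22476), (22758, 22464), (22759, 22696), (22760, 22847), (22761, 22097), (22762, 22874), (22763, 22329), (22764, 22779), (22765, 22102), (22766, 22775), (22767, 22119), (22768,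 22116), (22769, 22836), (22770, 22110), (22771, 22771), (22772, 22772), (22773, 22845), (22774, 22875), (22775, 22766), (22776, 22115), (22777, 22777), (22778, 22843), (22779, 22764), (22780, 22343), (22781, 22876), (22782, 22143), (22783, 22811)]
    ⟨e3 q22720 (flp_g L261076) q21766, e3 q22721 L261090 q22073, e3 q22722 L261102 q22088, e3 q22723 L261112 q21912, e3 q22724 (flp_g L261116) q21785, e3 q22725 L261138 q22243, e3 q22726 L261152 q22430, e3 q22727 (flp_g L261156) q21793, e3 q22728 L261178 q22398, e3 q22729 (flp_g L261204) q22730, e3 q22730 L261204 q22729, e3 q22731 L261216 q22337, e3 q22732 (flp_g L261896) q22799, e3 q22733 (flp_g L261348) q22744, e3 q22734 (flp_g L262151) q22825, e3 q22735 L261244 q21897, e3 q22736 L261256 q22490, e3 q22737 L261266 q22718, e3 q22738 L261276 q22330, e3 q22739 L261288 q22481, e3 q22740 L261302 q21941, e3 q22741 (flp_g L262409) q22849, e3 q22742 (flp_g L261318) q21901, e3 q22743 (flp_g L261941) q22803, e3 q22744 L261348 q22733, e3 q22745 L261360 q22598, e3 q22746 L261368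 q21991, e3 q22747 L261376 q21988, e3 q22748 (flp_g L262543) q22859, e3 q22749 (flp_g L261769) q22788, e3 q22750 (flp_g L261947) q22804, e3 q22751 (flp_g L261398) q22076, e3 q22752 (flp_g L262089) q22819, e3 q22753 L261422 q22717, e3 q22754 L261434 q22345, e3 q22755 L261450 q22423, e3 q22756 L261456 q22424, e3 q22757 L261464 q22476, e3 q22758 L261476 q22464, e3 q22759 L261491 q22696, e3 q22760 (flp_g L262383) q22847, e3 q22761 (flp_g L261502) q22097, e3 q22762 (flp_g L262714) q22874, e3 q22763 (flp_g L261522) q22329, e3 q22764 (flp_g L261672) q22779, e3 q22765 (flp_g L261536) q22102, e3 q22766 L261635 q22775, e3 q22767 L261562 q22119, e3 q22768 L261570 q22116, e3 q22769 L262257 q22836, e3 q22770 (flp_g L261579) q22110, e3 q22771 L261597 q22771, e3 q22772 L261604 q22772, e3 q22773 (flp_g L262359) q22845, e3 q22774 (flp_g L262728) q22875, e3 q22775 (flp_g L261635) q22766, e3 q22776 (flp_g L261637) q22115, e3 q22777 L261653 q22777, e3 q22778 (flp_g L262335) q22843, e3 q22779 L261672 q22764, e3 q22780 L261686 q22343,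 e3 q22781 L262732 q22876, e3 q22782 (flp_g L261696) q22143, e3 q22783 (flp_g L262022) q22811, trivial⟩ (by decide +kernel)

theorem ce_g_356 : ∀ r, r < 64 → sm gg (Qf (22784 + r)) = Qf (tab Gen.g (22784 + r)) :=
  edges_tab (sm gg) Qf (tab Gen.g) 22784 [(22784, 22389), (22785, 22589), (22786, 22786), (22787, 22211), (22788, 22749), (22789, 22672), (22790, 22182), (22791, 22816), (22792, 22528), (22793, 22178), (22794, 22848), (22795, 22795), (22796, 22479), (22797, 22491), (22798, 22312), (22799, 22732), (22800, 22802), (22801, 22807), (22802, 22800), (22803, 22743), (22804, 22750), (22805, 22626), (22806, 22627), (22807, 22801), (22808, 22629), (22809, 22604), (22810, 22606), (22811, 22783), (22812, 22828), (22813, 22323), (22814, 22320), (22815, 22335), (22816, 22791), (22817, 22879), (22818, 22552), (22819, 22752), (22820, 22877), (22821, 22339), (22822, 22852), (22823, 22349), (22824, 22829), (22825, 22734), (22826, 22869), (22827, 22830), (22828, 22812), (22829, 22824), (22830, 22827), (22831, 22405), (22832,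 22498), (22833, 22499), (22834, 22872), (22835, 22837), (22836, 22769), (22837, 22835), (22838, 22416), (22839, 22419), (22840, 22861), (22841, 22593), (22842, 22427), (22843, 22778), (22844, 22613), (22845, 22773), (22846, 22856), (22847, 22760)]
    ⟨e3 q22784 L261720 q22389, e3 q22785 L261734 q22589, e3 q22786 L261748 q22786, e3 q22787 L261759 q22211, e3 q22788 L261769 q22749, e3 q22789 L261784 q22672, e3 q22790 L261796 q22182, e3 q22791 (flp_g L262061) q22816, e3 q22792 L261822 q22528, e3 q22793 (flp_g L261824) q22178, e3 q22794 (flp_g L262397) q22848, e3 q22795 L261853 q22795, e3 q22796 L261866 q22479, e3 q22797 L261880 q22491, e3 q22798 L261888 q22312, e3 q22799 L261896 q22732, e3 q22800 (flp_g L261930) q22802, e3 q22801 (flp_g L261975) q22807, e3 q22802 L261930 q22800, e3 q22803 L261941 q22743, e3 q22804 L261947 q22750, e3 q22805 L261957 q22626, e3 q22806 L261965 q22627, e3 q22807 L261975 q22801, e3 q22808 L261985 q22629, e3 q22809 L261994 q22604, e3 q22810 L262011 q22606, e3 q22811 L262022 q22783, e3 q22812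 (flp_g L262175) q22828, e3 q22813 (flp_g L262037) q22323, e3 q22814 (flp_g L262039) q22320, e3 q22815 L262051 q22335, e3 q22816 L262061 q22791, e3 q22817 (flp_g L262777) q22879, e3 q22818 L262081 q22552, e3 q22819 L262089 q22752, e3 q22820 (flp_g L262750) q22877, e3 q22821 (flp_g L262101) q22339, e3 q22822 (flp_g L262449) q22852, e3 q22823 (flp_g L262121) q22349, e3 q22824 (flp_g L262186) q22829, e3 q22825 L262151 q22734, e3 q22826 (flp_g L262649) q22869, e3 q22827 (flp_g L262196) q22830, e3 q22828 L262175 q22812, e3 q22829 L262186 q22824, e3 q22830 L262196 q22827, e3 q22831 L262205 q22405, e3 q22832 L262215 q22498, e3 q22833 L262229 q22499, e3 q22834 (flp_g L262686) q22872, e3 q22835 L262269 q22837, e3 q22836 (flp_g L262257) q22769, e3 q22837 (flp_g L262269) q22835, e3 q22838 (flp_g L262273) q22416, e3 q22839 (flp_g L262287) q22419, e3 q22840 (flp_g L262565) q22861, e3 q22841 L262317 q22593, e3 q22842 (flp_g L262321) q22427, e3 q22843 L262335 q22778, e3 q22844 L262349 q22613, e3 q22845 L262359 q22773, e3 q22846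 (flp_g L262503) q22856, e3 q22847 L262383 q22760, trivial⟩ (by decide +kernel)

theorem ce_g_357 : ∀ r, r < 32 → sm gg (Qf (22848 + r)) = Qf (tab Gen.g (22848 + r)) :=
  edges_tab (sm gg) Qf (tab Gen.g) 22848 [(22848, 22794), (22849, 22741), (22850, 22523), (22851, 22546), (22852, 22822), (22853, 22873), (22854, 22555), (22855, 22556), (22856, 22846), (22857, 22693), (22858, 22577), (22859, 22748), (22860, 22599), (22861, 22840), (22862, 22878), (22863, 22871), (22864, 22716), (22865, 22653), (22866, 22870), (22867, 22868), (22868, 22867), (22869, 22826), (22870, 22866), (22871, 22863), (22872, 22834), (22873, 22853), (22874, 22762), (22875, 22774), (22876, 22781), (22877, 22820), (22878, 22862), (22879, 22817)]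
    ⟨e3 q22848 L262397 q22794, e3 q22849 L262409 q22741, e3 q22850 L262423 q22523, e3 q22851 L262435 q22546, e3 q22852 L262449 q22822, e3 q22853 (flp_g L262700) q22873, e3 q22854 L262475 q22555, e3 q22855 (flp_g L262479) q22556, e3 q22856 L262503 q22846, e3 q22857 L262517 q22693, e3 q22858 L262530 q22577, e3 q22859 L262543 q22748, e3 q22860 (flp_g L262545) q22599, e3 q22861 L262565 q22840, e3 q22862 (flp_g L262764) q22878, e3 q22863 (flp_g L262674) q22871, e3 q22864 (flp_g L262593) q22716, e3 q22865 (flp_g L262595) q22653, e3 q22866 (flp_g L262658) q22870, e3 q22867 (flp_g L262633) q22868, e3 q22868 L262633 q22867, e3 q22869 L262649 q22826, e3 q22870 L262658 q22866, e3 q22871 L262674 q22863, e3 q22872 L262686 q22834, e3 q22873 L262700 q22853, e3 q22874 L262714 q22762, e3 q22875 L262728 q22774, e3 q22876 (flp_g L262732) q22781, e3 q22877 L262750 q22820, e3 q22878 L262764 q22862, e3 q22879 L262777 q22817, trivial⟩ (by decide +kernel)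

theorem cl_g : ∀ i, i < 22880 → sm gg (Qf i) = Qf (tab Gen.g i) :=
  all_of_chunks (fun i => sm gg (Qf i) = Qf (tab Gen.g i)) 357 32
    ⟨ce_g_0, ce_g_1, ce_g_2, ce_g_3, ce_g_4, ce_g_5, ce_g_6, ce_g_7, ce_g_8, ce_g_9, ce_g_10, ce_g_11, ce_g_12, ce_g_13, ce_g_14, ce_g_15, ce_g_16, ce_g_17, ce_g_18, ce_g_19, ce_g_20, ce_g_21, ce_g_22, ce_g_23, ce_g_24, ce_g_25, ce_g_26, ce_g_27, ce_g_28, ce_g_29, ce_g_30, ce_g_31, ce_g_32, ce_g_33, ce_g_34, ce_g_35, ce_g_36, ce_g_37, ce_g_38, ce_g_39, ce_g_40, ce_g_41, ce_g_42, ce_g_43, ce_g_44, ce_g_45, ce_g_46, ce_g_47, ce_g_48, ce_g_49, ce_g_50, ce_g_51, ce_g_52, ce_g_53, ce_g_54, ce_g_55, ce_g_56, ce_g_57, ce_g_58, ce_g_59, ce_g_60, ce_g_61, ce_g_62, ce_g_63, ce_g_64, ce_g_65, ce_g_66, ce_g_67, ce_g_68, ce_g_69, ce_g_70, ce_g_71, ce_g_72, ce_g_73, ce_g_74, ce_g_75, ce_g_76, ce_g_77, ce_g_78, ce_g_79, ce_g_80, ce_g_81, ce_g_82, ce_g_83, ce_g_84, ce_g_85, ce_g_86, ce_g_87, ce_g_88, ce_g_89, ce_g_90, ce_g_91, ce_g_92, ce_g_93, ce_g_94, ce_g_95, ce_g_96, ce_g_97, ce_g_98, ce_g_99,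 ce_g_100, ce_g_101, ce_g_102, ce_g_103, ce_g_104, ce_g_105, ce_g_106, ce_g_107, ce_g_108, ce_g_109, ce_g_110, ce_g_111, ce_g_112, ce_g_113, ce_g_114, ce_g_115, ce_g_116, ce_g_117, ce_g_118, ce_g_119, ce_g_120, ce_g_121, ce_g_122, ce_g_123, ce_g_124, ce_g_125, ce_g_126, ce_g_127, ce_g_128, ce_g_129, ce_g_130, ce_g_131, ce_g_132, ce_g_133, ce_g_134, ce_g_135, ce_g_136, ce_g_137, ce_g_138, ce_g_139, ce_g_140, ce_g_141, ce_g_142, ce_g_143, ce_g_144, ce_g_145, ce_g_146, ce_g_147, ce_g_148, ce_g_149, ce_g_150, ce_g_151, ce_g_152, ce_g_153, ce_g_154, ce_g_155, ce_g_156, ce_g_157, ce_g_158, ce_g_159, ce_g_160, ce_g_161, ce_g_162, ce_g_163, ce_g_164, ce_g_165, ce_g_166, ce_g_167, ce_g_168, ce_g_169, ce_g_170, ce_g_171, ce_g_172, ce_g_173, ce_g_174, ce_g_175, ce_g_176, ce_g_177, ce_g_178, ce_g_179, ce_g_180, ce_g_181, ce_g_182, ce_g_183, ce_g_184, ce_g_185, ce_g_186, ce_g_187, ce_g_188, ce_g_189, ce_g_190, ce_g_191, ce_g_192, ce_g_193, ce_g_194, ce_g_195, ce_g_196, ce_g_197, ce_g_198, ce_g_199, ce_g_200, ce_g_201, ce_g_202,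 ce_g_203, ce_g_204, ce_g_205, ce_g_206, ce_g_207, ce_g_208, ce_g_209, ce_g_210, ce_g_211, ce_g_212, ce_g_213, ce_g_214, ce_g_215, ce_g_216, ce_g_217, ce_g_218, ce_g_219, ce_g_220, ce_g_221, ce_g_222, ce_g_223, ce_g_224, ce_g_225, ce_g_226, ce_g_227, ce_g_228, ce_g_229, ce_g_230, ce_g_231, ce_g_232, ce_g_233, ce_g_234, ce_g_235, ce_g_236, ce_g_237, ce_g_238, ce_g_239, ce_g_240, ce_g_241, ce_g_242, ce_g_243, ce_g_244, ce_g_245, ce_g_246, ce_g_247, ce_g_248, ce_g_249, ce_g_250, ce_g_251, ce_g_252, ce_g_253, ce_g_254, ce_g_255, ce_g_256, ce_g_257, ce_g_258, ce_g_259, ce_g_260, ce_g_261, ce_g_262, ce_g_263, ce_g_264, ce_g_265, ce_g_266, ce_g_267, ce_g_268, ce_g_269, ce_g_270, ce_g_271, ce_g_272, ce_g_273, ce_g_274, ce_g_275, ce_g_276, ce_g_277, ce_g_278, ce_g_279, ce_g_280, ce_g_281, ce_g_282, ce_g_283, ce_g_284, ce_g_285, ce_g_286, ce_g_287, ce_g_288, ce_g_289, ce_g_290, ce_g_291, ce_g_292, ce_g_293, ce_g_294, ce_g_295, ce_g_296, ce_g_297, ce_g_298, ce_g_299, ce_g_300, ce_g_301, ce_g_302, ce_g_303, ce_g_304, ce_g_305,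 ce_g_306, ce_g_307, ce_g_308, ce_g_309, ce_g_310, ce_g_311, ce_g_312, ce_g_313, ce_g_314, ce_g_315, ce_g_316, ce_g_317, ce_g_318, ce_g_319, ce_g_320, ce_g_321, ce_g_322, ce_g_323, ce_g_324, ce_g_325, ce_g_326, ce_g_327, ce_g_328, ce_g_329, ce_g_330, ce_g_331, ce_g_332, ce_g_333, ce_g_334, ce_g_335, ce_g_336, ce_g_337, ce_g_338, ce_g_339, ce_g_340, ce_g_341, ce_g_342, ce_g_343, ce_g_344, ce_g_345, ce_g_346, ce_g_347, ce_g_348, ce_g_349, ce_g_350, ce_g_351, ce_g_352, ce_g_353, ce_g_354, ce_g_355, ce_g_356, trivial⟩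
    ce_g_357


end Cfsg.Agent.Helper28.SzbA
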