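import Cfsg.Agent.Helper28.SzbR0

/-!
# The Suzuki group presentation, cosets of the subgroup generated by a, b, c, d, f, g: relator checks, part 3 (helper28; generated)
-/

set_option autoImplicit false
set_option maxRecDepth 100000
set_option linter.unusedSimpArgs false
set_option linter.constructorNameAsVariable false

noncomputable section

namespace Cfsg.Agent.Helper28.SzbA

open Cfsg.Spor Cfsg.Spor.Suz Cfsg.Agent.Helper28.CosetTable

theorem cxr_g_c_0 : allFrom (fun i => Nat.ble 22880 i || Nat.beq (tq_g (tq_c (tq_g (tq_c i)))) i) 0 6250 = true := by decide +kernel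
theorem cxr_g_c_1 : allFrom (fun i => Nat.ble 22880 i || Nat.beq (tq_g (tq_c (tq_g (tq_c i)))) i) 6250 6250 = true := by decide +kernel
theorem cxr_g_c_2 : allFrom (fun i => Nat.ble 22880 i || Nat.beq (tq_g (tq_c (tq_g (tq_c i)))) i) 12500 6250 = true := by decide +kernel
theorem cxr_g_c_3 : allFrom (fun i => Nat.ble 22880 i || Nat.beq (tq_g (tq_c (tq_g (tq_c i)))) i) 18750 6250 = true := by decide +kernel
theorem cxr_g_c : ∀ i, i < 22880 → (Nat.beq (tq_g (tq_c (tq_g (tq_c i)))) i) = true :=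
  blocks_lt (fun i => Nat.beq (tq_g (tq_c (tq_g (tq_c i)))) i) 22880 6250 4 (by norm_num) ⟨cxr_g_c_0, cxr_g_c_1, cxr_g_c_2, cxr_g_c_3, trivial⟩

theorem cx_g_c : ∀ i, i < 22880 → evalT tab [Gen.g, Gen.c, Gen.g, Gen.c] i = i := by
  intro i hi
  have h := Nat.eq_of_beq_eq_true (cxr_g_c i hi)
  simp only [evalT_cons', evalT_nil', tab_a, tab_b, tab_c, tab_d, tab_e, tab_f, tab_g]
  exact h

theorem cxr_g_d_0 : allFrom (fun i => Nat.ble 22880 i || Nat.beq (tq_g (tq_d (tq_g (tq_d i)))) i) 0 6250 = true := by decide +kernel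
theorem cxr_g_d_1 : allFrom (fun i => Nat.ble 22880 i || Nat.beq (tq_g (tq_d (tq_g (tq_d i)))) i) 6250 6250 = true := by decide +kernel
theorem cxr_g_d_2 : allFrom (fun i => Nat.ble 22880 i || Nat.beq (tq_g (tq_d (tq_g (tq_d i)))) i) 12500 6250 = true := by decide +kernel
theorem cxr_g_d_3 : allFrom (fun i => Nat.ble 22880 i || Nat.beq (tq_g (tq_d (tq_g (tq_d i)))) i) 18750 6250 = true := by decide +kernel
theorem cxr_g_d : ∀ i, i < 22880 → (Nat.beq (tq_g (tq_d (tq_g (tq_d i)))) i) = true :=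
  blocks_lt (fun i => Nat.beq (tq_g (tq_d (tq_g (tq_d i)))) i) 22880 6250 4 (by norm_num) ⟨cxr_g_d_0, cxr_g_d_1, cxr_g_d_2, cxr_g_d_3, trivial⟩

theorem cx_g_d : ∀ i, i < 22880 → evalT tab [Gen.g, Gen.d, Gen.g, Gen.d] i = i := by
  intro i hi
  have h := Nat.eq_of_beq_eq_true (cxr_g_d i hi)
  simp only [evalT_cons', evalT_nil', tab_a, tab_b, tab_c, tab_d, tab_e, tab_f, tab_g]
  exact h

theorem cxr_g_e_0 : allFrom (fun i => Nat.ble 22880 i || Nat.beq (tq_g (tq_e (tq_g (tq_e i)))) i) 0 6250 = true := by decide +kernel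
theorem cxr_g_e_1 : allFrom (fun i => Nat.ble 22880 i || Nat.beq (tq_g (tq_e (tq_g (tq_e i)))) i) 6250 6250 = true := by decide +kernel
theorem cxr_g_e_2 : allFrom (fun i => Nat.ble 22880 i || Nat.beq (tq_g (tq_e (tq_g (tq_e i)))) i) 12500 6250 = true := by decide +kernel
theorem cxr_g_e_3 : allFrom (fun i => Nat.ble 22880 i || Nat.beq (tq_g (tq_e (tq_g (tq_e i)))) i) 18750 6250 = true := by decide +kernel
theorem cxr_g_e : ∀ i, i < 22880 → (Nat.beq (tq_g (tq_e (tq_g (tq_e i)))) i) = true :=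
  blocks_lt (fun i => Nat.beq (tq_g (tq_e (tq_g (tq_e i)))) i) 22880 6250 4 (by norm_num) ⟨cxr_g_e_0, cxr_g_e_1, cxr_g_e_2, cxr_g_e_3, trivial⟩

theorem cx_g_e : ∀ i, i < 22880 → evalT tab [Gen.g, Gen.e, Gen.g, Gen.e] i = i := by
  intro i hi
  have h := Nat.eq_of_beq_eq_true (cxr_g_e i hi)
  simp only [evalT_cons', evalT_nil', tab_a, tab_b, tab_c, tab_d, tab_e, tab_f, tab_g]
  exact h

theorem cxr_g_f_0 : allFrom (fun i => Nat.ble 22880 i || Nat.beq (tq_g (tq_f (tq_g (tq_f (tq_g (tq_f (tq_g (tq_f i)))))))) i) 0 3125 = true := by decide +kernel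
theorem cxr_g_f_1 : allFrom (fun i => Nat.ble 22880 i || Nat.beq (tq_g (tq_f (tq_g (tq_f (tq_g (tq_f (tq_g (tq_f i)))))))) i) 3125 3125 = true := by decide +kernel
theorem cxr_g_f_2 : allFrom (fun i => Nat.ble 22880 i || Nat.beq (tq_g (tq_f (tq_g (tq_f (tq_g (tq_f (tq_g (tq_f i)))))))) i) 6250 3125 = true := by decide +kernel
theorem cxr_g_f_3 : allFrom (fun i => Nat.ble 22880 i || Nat.beq (tq_g (tq_f (tq_g (tq_f (tq_g (tq_f (tq_g (tq_f i)))))))) i) 9375 3125 = true := by decide +kernel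
theorem cxr_g_f_4 : allFrom (fun i => Nat.ble 22880 i || Nat.beq (tq_g (tq_f (tq_g (tq_f (tq_g (tq_f (tq_g (tq_f i)))))))) i) 12500 3125 = true := by decide +kernel
theorem cxr_g_f_5 : allFrom (fun i => Nat.ble 22880 i || Nat.beq (tq_g (tq_f (tq_g (tq_f (tq_g (tq_f (tq_g (tq_f i)))))))) i) 15625 3125 = true := by decide +kernel
theorem cxr_g_f_6 : allFrom (fun i => Nat.ble 22880 i || Nat.beq (tq_g (tq_f (tq_g (tq_f (tq_g (tq_f (tq_g (tq_f i)))))))) i) 18750 3125 = true := by decide +kernel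
theorem cxr_g_f_7 : allFrom (fun i => Nat.ble 22880 i || Nat.beq (tq_g (tq_f (tq_g (tq_f (tq_g (tq_f (tq_g (tq_f i)))))))) i) 21875 3125 = true := by decide +kernel
theorem cxr_g_f : ∀ i, i < 22880 → (Nat.beq (tq_g (tq_f (tq_g (tq_f (tq_g (tq_f (tq_g (tq_f i)))))))) i) = true :=
  blocks_lt (fun i => Nat.beq (tq_g (tq_f (tq_g (tq_f (tq_g (tq_f (tq_g (tq_f i)))))))) i) 22880 3125 8 (by norm_num) ⟨cxr_g_f_0, cxr_g_f_1, cxr_g_f_2, cxr_g_f_3, cxr_g_f_4, cxr_g_f_5, cxr_g_f_6, cxr_g_f_7, trivial⟩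

theorem cx_g_f : ∀ i, i < 22880 → evalT tab [Gen.g, Gen.f, Gen.g, Gen.f, Gen.g, Gen.f, Gen.g, Gen.f] i = i := by
  intro i hi
  have h := Nat.eq_of_beq_eq_true (cxr_g_f i hi)
  simp only [evalT_cons', evalT_nil', tab_a, tab_b, tab_c, tab_d, tab_e, tab_f, tab_g]
  exact h

theorem cxr_g_g_0 : allFrom (fun i => Nat.ble 22880 i || Nat.beq (tq_g (tq_g i)) i) 0 12500 = true := by decide +kernel
theorem cxr_g_g_1 : allFrom (fun i => Nat.ble 22880 i || Nat.beq (tq_g (tq_g i)) i) 12500 12500 = true := by decide +kernel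
theorem cxr_g_g : ∀ i, i < 22880 → (Nat.beq (tq_g (tq_g i)) i) = true :=
  blocks_lt (fun i => Nat.beq (tq_g (tq_g i)) i) 22880 12500 2 (by norm_num) ⟨cxr_g_g_0, cxr_g_g_1, trivial⟩

theorem cx_g_g : ∀ i, i < 22880 → evalT tab [Gen.g, Gen.g] i = i := by
  intro i hi
  have h := Nat.eq_of_beq_eq_true (cxr_g_g i hi)
  simp only [evalT_cons', evalT_nil', tab_a, tab_b, tab_c, tab_d, tab_e, tab_f, tab_g]
  exact h

theorem exr_0_0 : allFrom (fun i => Nat.ble 22880 i || Nat.beq (tq_a (tq_d (tq_c (tq_d (tq_c (tq_d (tq_c (tq_d (tq_c i))))))))) i) 0 2777 = true := by decide +kernel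
theorem exr_0_1 : allFrom (fun i => Nat.ble 22880 i || Nat.beq (tq_a (tq_d (tq_c (tq_d (tq_c (tq_d (tq_c (tq_d (tq_c i))))))))) i) 2777 2777 = true := by decide +kernel
theorem exr_0_2 : allFrom (fun i => Nat.ble 22880 i || Nat.beq (tq_a (tq_d (tq_c (tq_d (tq_c (tq_d (tq_c (tq_d (tq_c i))))))))) i) 5554 2777 = true := by decide +kernel
theorem exr_0_3 : allFrom (fun i => Nat.ble 22880 i || Nat.beq (tq_a (tq_d (tq_c (tq_d (tq_c (tq_d (tq_c (tq_d (tq_c i))))))))) i) 8331 2777 = true := by decide +kernel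
theorem exr_0_4 : allFrom (fun i => Nat.ble 22880 i || Nat.beq (tq_a (tq_d (tq_c (tq_d (tq_c (tq_d (tq_c (tq_d (tq_c i))))))))) i) 11108 2777 = true := by decide +kernel
theorem exr_0_5 : allFrom (fun i => Nat.ble 22880 i || Nat.beq (tq_a (tq_d (tq_c (tq_d (tq_c (tq_d (tq_c (tq_d (tq_c i))))))))) i) 13885 2777 = true := by decide +kernel
theorem exr_0_6 : allFrom (fun i => Nat.ble 22880 i || Nat.beq (tq_a (tq_d (tq_c (tq_d (tq_c (tq_d (tq_c (tq_d (tq_c i))))))))) i) 16662 2777 = true := by decide +kernel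
theorem exr_0_7 : allFrom (fun i => Nat.ble 22880 i || Nat.beq (tq_a (tq_d (tq_c (tq_d (tq_c (tq_d (tq_c (tq_d (tq_c i))))))))) i) 19439 2777 = true := by decide +kernel
theorem exr_0_8 : allFrom (fun i => Nat.ble 22880 i || Nat.beq (tq_a (tq_d (tq_c (tq_d (tq_c (tq_d (tq_c (tq_d (tq_c i))))))))) i) 22216 2777 = true := by decide +kernel
theorem exr_0 : ∀ i, i < 22880 → (Nat.beq (tq_a (tq_d (tq_c (tq_d (tq_c (tq_d (tq_c (tq_d (tq_c i))))))))) i) = true :=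
  blocks_lt (fun i => Nat.beq (tq_a (tq_d (tq_c (tq_d (tq_c (tq_d (tq_c (tq_d (tq_c i))))))))) i) 22880 2777 9 (by norm_num) ⟨exr_0_0, exr_0_1, exr_0_2, exr_0_3, exr_0_4, exr_0_5, exr_0_6, exr_0_7, exr_0_8, trivial⟩

theorem ex_0 : ∀ i, i < 22880 → evalT tab [Gen.a, Gen.d, Gen.c, Gen.d, Gen.c, Gen.d, Gen.c, Gen.d, Gen.c] i = i := by
  intro i hi
  have h := Nat.eq_of_beq_eq_true (exr_0 i hi)
  simp only [evalT_cons', evalT_nil', tab_a, tab_b, tab_c, tab_d, tab_e, tab_f, tab_g]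
  exact h

theorem exr_1_0 : allFrom (fun i => Nat.ble 22880 i || Nat.beq (tq_a (tq_g (tq_f (tq_g (tq_f i))))) i) 0 5000 = true := by decide +kernel
theorem exr_1_1 : allFrom (fun i => Nat.ble 22880 i || Nat.beq (tq_a (tq_g (tq_f (tq_g (tq_f i))))) i) 5000 5000 = true := by decide +kernel
theorem exr_1_2 : allFrom (fun i => Nat.ble 22880 i || Nat.beq (tq_a (tq_g (tq_f (tq_g (tq_f i))))) i) 10000 5000 = true := by decide +kernel
theorem exr_1_3 : allFrom (fun i => Nat.ble 22880 i || Nat.beq (tq_a (tq_g (tq_f (tq_g (tq_f i))))) i) 15000 5000 = true := by decide +kernel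
theorem exr_1_4 : allFrom (fun i => Nat.ble 22880 i || Nat.beq (tq_a (tq_g (tq_f (tq_g (tq_f i))))) i) 20000 5000 = true := by decide +kernel
theorem exr_1 : ∀ i, i < 22880 → (Nat.beq (tq_a (tq_g (tq_f (tq_g (tq_f i))))) i) = true :=
  blocks_lt (fun i => Nat.beq (tq_a (tq_g (tq_f (tq_g (tq_f i))))) i) 22880 5000 5 (by norm_num) ⟨exr_1_0, exr_1_1, exr_1_2, exr_1_3, exr_1_4, trivial⟩

theorem ex_1 : ∀ i, i < 22880 → evalT tab [Gen.a, Gen.g, Gen.f, Gen.g, Gen.f] i = i := by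
  intro i hi
  have h := Nat.eq_of_beq_eq_true (exr_1 i hi)
  simp only [evalT_cons', evalT_nil', tab_a, tab_b, tab_c, tab_d, tab_e, tab_f, tab_g]
  exact h

theorem exr_2_0 : allFrom (fun i => Nat.ble 22880 i || Nat.beq (tq_a (tq_b (tq_c (tq_f (tq_a (tq_b (tq_c (tq_f (tq_a (tq_b (tq_c (tq_f (tq_a (tq_b (tq_c (tq_f (tq_a (tq_b (tq_c (tq_f i)))))))))))))))))))) i) 0 1250 = true := by decide +kernel
theorem exr_2_1 : allFrom (fun i => Nat.ble 22880 i || Nat.beq (tq_a (tq_b (tq_c (tq_f (tq_a (tq_b (tq_c (tq_f (tq_a (tq_b (tq_c (tq_f (tq_a (tq_b (tq_c (tq_f (tq_a (tq_b (tq_c (tq_f i)))))))))))))))))))) i) 1250 1250 = true := by decide +kernel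
theorem exr_2_2 : allFrom (fun i => Nat.ble 22880 i || Nat.beq (tq_a (tq_b (tq_c (tq_f (tq_a (tq_b (tq_c (tq_f (tq_a (tq_b (tq_c (tq_f (tq_a (tq_b (tq_c (tq_f (tq_a (tq_b (tq_c (tq_f i)))))))))))))))))))) i) 2500 1250 = true := by decide +kernel
theorem exr_2_3 : allFrom (fun i => Nat.ble 22880 i || Nat.beq (tq_a (tq_b (tq_c (tq_f (tq_a (tq_b (tq_c (tq_f (tq_a (tq_b (tq_c (tq_f (tq_a (tq_b (tq_c (tq_f (tq_a (tq_b (tq_c (tq_f i)))))))))))))))))))) i) 3750 1250 = true := by decide +kernel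
theorem exr_2_4 : allFrom (fun i => Nat.ble 22880 i || Nat.beq (tq_a (tq_b (tq_c (tq_f (tq_a (tq_b (tq_c (tq_f (tq_a (tq_b (tq_c (tq_f (tq_a (tq_b (tq_c (tq_f (tq_a (tq_b (tq_c (tq_f i)))))))))))))))))))) i) 5000 1250 = true := by decide +kernel
theorem exr_2_5 : allFrom (fun i => Nat.ble 22880 i || Nat.beq (tq_a (tq_b (tq_c (tq_f (tq_a (tq_b (tq_c (tq_f (tq_a (tq_b (tq_c (tq_f (tq_a (tq_b (tq_c (tq_f (tq_a (tq_b (tq_c (tq_f i)))))))))))))))))))) i) 6250 1250 = true := by decide +kernel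
theorem exr_2_6 : allFrom (fun i => Nat.ble 22880 i || Nat.beq (tq_a (tq_b (tq_c (tq_f (tq_a (tq_b (tq_c (tq_f (tq_a (tq_b (tq_c (tq_f (tq_a (tq_b (tq_c (tq_f (tq_a (tq_b (tq_c (tq_f i)))))))))))))))))))) i) 7500 1250 = true := by decide +kernel
theorem exr_2_7 : allFrom (fun i => Nat.ble 22880 i || Nat.beq (tq_a (tq_b (tq_c (tq_f (tq_a (tq_b (tq_c (tq_f (tq_a (tq_b (tq_c (tq_f (tq_a (tq_b (tq_c (tq_f (tq_a (tq_b (tq_c (tq_f i)))))))))))))))))))) i) 8750 1250 = true := by decide +kernel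
theorem exr_2_8 : allFrom (fun i => Nat.ble 22880 i || Nat.beq (tq_a (tq_b (tq_c (tq_f (tq_a (tq_b (tq_c (tq_f (tq_a (tq_b (tq_c (tq_f (tq_a (tq_b (tq_c (tq_f (tq_a (tq_b (tq_c (tq_f i)))))))))))))))))))) i) 10000 1250 = true := by decide +kernel
theorem exr_2_9 : allFrom (fun i => Nat.ble 22880 i || Nat.beq (tq_a (tq_b (tq_c (tq_f (tq_a (tq_b (tq_c (tq_f (tq_a (tq_b (tq_c (tq_f (tq_a (tq_b (tq_c (tq_f (tq_a (tq_b (tq_c (tq_f i)))))))))))))))))))) i) 11250 1250 = true := by decide +kernel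
theorem exr_2_10 : allFrom (fun i => Nat.ble 22880 i || Nat.beq (tq_a (tq_b (tq_c (tq_f (tq_a (tq_b (tq_c (tq_f (tq_a (tq_b (tq_c (tq_f (tq_a (tq_b (tq_c (tq_f (tq_a (tq_b (tq_c (tq_f i)))))))))))))))))))) i) 12500 1250 = true := by decide +kernel
theorem exr_2_11 : allFrom (fun i => Nat.ble 22880 i || Nat.beq (tq_a (tq_b (tq_c (tq_f (tq_a (tq_b (tq_c (tq_f (tq_a (tq_b (tq_c (tq_f (tq_a (tq_b (tq_c (tq_f (tq_a (tq_b (tq_c (tq_f i)))))))))))))))))))) i) 13750 1250 = true := by decide +kernel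
theorem exr_2_12 : allFrom (fun i => Nat.ble 22880 i || Nat.beq (tq_a (tq_b (tq_c (tq_f (tq_a (tq_b (tq_c (tq_f (tq_a (tq_b (tq_c (tq_f (tq_a (tq_b (tq_c (tq_f (tq_a (tq_b (tq_c (tq_f i)))))))))))))))))))) i) 15000 1250 = true := by decide +kernel
theorem exr_2_13 : allFrom (fun i => Nat.ble 22880 i || Nat.beq (tq_a (tq_b (tq_c (tq_f (tq_a (tq_b (tq_c (tq_f (tq_a (tq_b (tq_c (tq_f (tq_a (tq_b (tq_c (tq_f (tq_a (tq_b (tq_c (tq_f i)))))))))))))))))))) i) 16250 1250 = true := by decide +kernel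
theorem exr_2_14 : allFrom (fun i => Nat.ble 22880 i || Nat.beq (tq_a (tq_b (tq_c (tq_f (tq_a (tq_b (tq_c (tq_f (tq_a (tq_b (tq_c (tq_f (tq_a (tq_b (tq_c (tq_f (tq_a (tq_b (tq_c (tq_f i)))))))))))))))))))) i) 17500 1250 = true := by decide +kernel
theorem exr_2_15 : allFrom (fun i => Nat.ble 22880 i || Nat.beq (tq_a (tq_b (tq_c (tq_f (tq_a (tq_b (tq_c (tq_f (tq_a (tq_b (tq_c (tq_f (tq_a (tq_b (tq_c (tq_f (tq_a (tq_b (tq_c (tq_f i)))))))))))))))))))) i) 18750 1250 = true := by decide +kernel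
theorem exr_2_16 : allFrom (fun i => Nat.ble 22880 i || Nat.beq (tq_a (tq_b (tq_c (tq_f (tq_a (tq_b (tq_c (tq_f (tq_a (tq_b (tq_c (tq_f (tq_a (tq_b (tq_c (tq_f (tq_a (tq_b (tq_c (tq_f i)))))))))))))))))))) i) 20000 1250 = true := by decide +kernel
theorem exr_2_17 : allFrom (fun i => Nat.ble 22880 i || Nat.beq (tq_a (tq_b (tq_c (tq_f (tq_a (tq_b (tq_c (tq_f (tq_a (tq_b (tq_c (tq_f (tq_a (tq_b (tq_c (tq_f (tq_a (tq_b (tq_c (tq_f i)))))))))))))))))))) i) 21250 1250 = true := by decide +kernel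
theorem exr_2_18 : allFrom (fun i => Nat.ble 22880 i || Nat.beq (tq_a (tq_b (tq_c (tq_f (tq_a (tq_b (tq_c (tq_f (tq_a (tq_b (tq_c (tq_f (tq_a (tq_b (tq_c (tq_f (tq_a (tq_b (tq_c (tq_f i)))))))))))))))))))) i) 22500 1250 = true := by decide +kernel
theorem exr_2 : ∀ i, i < 22880 → (Nat.beq (tq_a (tq_b (tq_c (tq_f (tq_a (tq_b (tq_c (tq_f (tq_a (tq_b (tq_c (tq_f (tq_a (tq_b (tq_c (tq_f (tq_a (tq_b (tq_c (tq_f i)))))))))))))))))))) i) = true :=
  blocks_lt (fun i => Nat.beq (tq_a (tq_b (tq_c (tq_f (tq_a (tq_b (tq_c (tq_f (tq_a (tq_b (tq_c (tq_f (tq_a (tq_b (tq_c (tq_f (tq_a (tq_b (tq_c (tq_f i)))))))))))))))))))) i) 22880 1250 19 (by norm_num) ⟨exr_2_0, exr_2_1, exr_2_2, exr_2_3, exr_2_4, exr_2_5, exr_2_6, exr_2_7, exr_2_8, exr_2_9, exr_2_10, exr_2_11, exr_2_12, exr_2_13, exr_2_14, exr_2_15, exr_2_16, exr_2_17, exr_2_18, trivial⟩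

theorem ex_2 : ∀ i, i < 22880 → evalT tab [Gen.a, Gen.b, Gen.c, Gen.f, Gen.a, Gen.b, Gen.c, Gen.f, Gen.a, Gen.b, Gen.c, Gen.f, Gen.a, Gen.b, Gen.c, Gen.f, Gen.a, Gen.b, Gen.c, Gen.f] i = i := by
  intro i hi
  have h := Nat.eq_of_beq_eq_true (exr_2 i hi)
  simp only [evalT_cons', evalT_nil', tab_a, tab_b, tab_c, tab_d, tab_e, tab_f, tab_g]
  exact h

theorem exr_3_0 : allFrom (fun i => Nat.ble 22880 i || Nat.beq (tq_b (tq_f (tq_g (tq_b (tq_f (tq_g (tq_b (tq_f (tq_g (tq_b (tq_f (tq_g (tq_b (tq_f (tq_g i))))))))))))))) i) 0 1666 = true := by decide +kernel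
theorem exr_3_1 : allFrom (fun i => Nat.ble 22880 i || Nat.beq (tq_b (tq_f (tq_g (tq_b (tq_f (tq_g (tq_b (tq_f (tq_g (tq_b (tq_f (tq_g (tq_b (tq_f (tq_g i))))))))))))))) i) 1666 1666 = true := by decide +kernel
theorem exr_3_2 : allFrom (fun i => Nat.ble 22880 i || Nat.beq (tq_b (tq_f (tq_g (tq_b (tq_f (tq_g (tq_b (tq_f (tq_g (tq_b (tq_f (tq_g (tq_b (tq_f (tq_g i))))))))))))))) i) 3332 1666 = true := by decide +kernel
theorem exr_3_3 : allFrom (fun i => Nat.ble 22880 i || Nat.beq (tq_b (tq_f (tq_g (tq_b (tq_f (tq_g (tq_b (tq_f (tq_g (tq_b (tq_f (tq_g (tq_b (tq_f (tq_g i))))))))))))))) i) 4998 1666 = true := by decide +kernel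
theorem exr_3_4 : allFrom (fun i => Nat.ble 22880 i || Nat.beq (tq_b (tq_f (tq_g (tq_b (tq_f (tq_g (tq_b (tq_f (tq_g (tq_b (tq_f (tq_g (tq_b (tq_f (tq_g i))))))))))))))) i) 6664 1666 = true := by decide +kernel
theorem exr_3_5 : allFrom (fun i => Nat.ble 22880 i || Nat.beq (tq_b (tq_f (tq_g (tq_b (tq_f (tq_g (tq_b (tq_f (tq_g (tq_b (tq_f (tq_g (tq_b (tq_f (tq_g i))))))))))))))) i) 8330 1666 = true := by decide +kernel
theorem exr_3_6 : allFrom (fun i => Nat.ble 22880 i || Nat.beq (tq_b (tq_f (tq_g (tq_b (tq_f (tq_g (tq_b (tq_f (tq_g (tq_b (tq_f (tq_g (tq_b (tq_f (tq_g i))))))))))))))) i) 9996 1666 = true := by decide +kernel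
theorem exr_3_7 : allFrom (fun i => Nat.ble 22880 i || Nat.beq (tq_b (tq_f (tq_g (tq_b (tq_f (tq_g (tq_b (tq_f (tq_g (tq_b (tq_f (tq_g (tq_b (tq_f (tq_g i))))))))))))))) i) 11662 1666 = true := by decide +kernel
theorem exr_3_8 : allFrom (fun i => Nat.ble 22880 i || Nat.beq (tq_b (tq_f (tq_g (tq_b (tq_f (tq_g (tq_b (tq_f (tq_g (tq_b (tq_f (tq_g (tq_b (tq_f (tq_g i))))))))))))))) i) 13328 1666 = true := by decide +kernel
theorem exr_3_9 : allFrom (fun i => Nat.ble 22880 i || Nat.beq (tq_b (tq_f (tq_g (tq_b (tq_f (tq_g (tq_b (tq_f (tq_g (tq_b (tq_f (tq_g (tq_b (tq_f (tq_g i))))))))))))))) i) 14994 1666 = true := by decide +kernel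
theorem exr_3_10 : allFrom (fun i => Nat.ble 22880 i || Nat.beq (tq_b (tq_f (tq_g (tq_b (tq_f (tq_g (tq_b (tq_f (tq_g (tq_b (tq_f (tq_g (tq_b (tq_f (tq_g i))))))))))))))) i) 16660 1666 = true := by decide +kernel
theorem exr_3_11 : allFrom (fun i => Nat.ble 22880 i || Nat.beq (tq_b (tq_f (tq_g (tq_b (tq_f (tq_g (tq_b (tq_f (tq_g (tq_b (tq_f (tq_g (tq_b (tq_f (tq_g i))))))))))))))) i) 18326 1666 = true := by decide +kernel
theorem exr_3_12 : allFrom (fun i => Nat.ble 22880 i || Nat.beq (tq_b (tq_f (tq_g (tq_b (tq_f (tq_g (tq_b (tq_f (tq_g (tq_b (tq_f (tq_g (tq_b (tq_f (tq_g i))))))))))))))) i) 19992 1666 = true := by decide +kernel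
theorem exr_3_13 : allFrom (fun i => Nat.ble 22880 i || Nat.beq (tq_b (tq_f (tq_g (tq_b (tq_f (tq_g (tq_b (tq_f (tq_g (tq_b (tq_f (tq_g (tq_b (tq_f (tq_g i))))))))))))))) i) 21658 1666 = true := by decide +kernel
theorem exr_3 : ∀ i, i < 22880 → (Nat.beq (tq_b (tq_f (tq_g (tq_b (tq_f (tq_g (tq_b (tq_f (tq_g (tq_b (tq_f (tq_g (tq_b (tq_f (tq_g i))))))))))))))) i) = true :=
  blocks_lt (fun i => Nat.beq (tq_b (tq_f (tq_g (tq_b (tq_f (tq_g (tq_b (tq_f (tq_g (tq_b (tq_f (tq_g (tq_b (tq_f (tq_g i))))))))))))))) i) 22880 1666 14 (by norm_num) ⟨exr_3_0, exr_3_1, exr_3_2, exr_3_3, exr_3_4, exr_3_5, exr_3_6, exr_3_7, exr_3_8, exr_3_9, exr_3_10, exr_3_11, exr_3_12, exr_3_13, trivial⟩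

theorem ex_3 : ∀ i, i < 22880 → evalT tab [Gen.b, Gen.f, Gen.g, Gen.b, Gen.f, Gen.g, Gen.b, Gen.f, Gen.g, Gen.b, Gen.f, Gen.g, Gen.b, Gen.f, Gen.g] i = i := by
  intro i hi
  have h := Nat.eq_of_beq_eq_true (exr_3 i hi)
  simp only [evalT_cons', evalT_nil', tab_a, tab_b, tab_c, tab_d, tab_e, tab_f, tab_g]
  exact h

end Cfsg.Agent.Helper28.SzbA
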