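import Cfsg.Agent.Helper28.SzbR0

/-!
# The Suzuki group presentation, cosets of the subgroup generated by a, b, c, d, f, g: relator checks, part 4 (helper28; generated)
-/

set_option autoImplicit false
set_option maxRecDepth 100000
set_option linter.unusedSimpArgs false
set_option linter.constructorNameAsVariable false

noncomputable section

namespace Cfsg.Agent.Helper28.SzbA

open Cfsg.Spor Cfsg.Spor.Suz Cfsg.Agent.Helper28.CosetTable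

theorem exr_4_0 : allFrom (fun i => Nat.ble 22880 i || Nat.beq (tq_b (tq_c (tq_d (tq_c (tq_d (tq_b (tq_c (tq_d (tq_c (tq_d (tq_b (tq_c (tq_d (tq_c (tq_d (tq_b (tq_c (tq_d (tq_c (tq_d (tq_b (tq_c (tq_d (tq_c (tq_d (tq_e (tq_b (tq_c (tq_d (tq_c (tq_d (tq_b (tq_c (tq_d (tq_c (tq_d (tq_b (tq_c (tq_d (tq_c (tq_d (tq_b (tq_c (tq_d (tq_c (tq_d (tq_b (tq_c (tq_d (tq_c (tq_d (tq_e (tq_b (tq_c (tq_d (tq_c (tq_d (tq_b (tq_c (tq_d (tq_c (tq_d (tq_b (tq_c (tq_d (tq_c (tq_d (tq_b (tq_c (tq_d (tq_c (tq_d (tq_b (tq_c (tq_d (tq_c (tq_d (tq_e i)))))))))))))))))))))))))))))))))))))))))))))))))))))))))))))))))))))))))))))) i) 0 320 = true := by decide +kernel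
theorem exr_4_1 : allFrom (fun i => Nat.ble 22880 i || Nat.beq (tq_b (tq_c (tq_d (tq_c (tq_d (tq_b (tq_c (tq_d (tq_c (tq_d (tq_b (tq_c (tq_d (tq_c (tq_d (tq_b (tq_c (tq_d (tq_c (tq_d (tq_b (tq_c (tq_d (tq_c (tq_d (tq_e (tq_b (tq_c (tq_d (tq_c (tq_d (tq_b (tq_c (tq_d (tq_c (tq_d (tq_b (tq_c (tq_d (tq_c (tq_d (tq_b (tq_c (tq_d (tq_c (tq_d (tq_b (tq_c (tq_d (tq_c (tq_d (tq_e (tq_b (tq_c (tq_d (tq_c (tq_d (tq_b (tq_c (tq_d (tq_c (tq_d (tq_b (tq_c (tq_d (tq_c (tq_d (tq_b (tq_c (tq_d (tq_c (tq_d (tq_b (tq_c (tq_d (tq_c (tq_d (tq_e i)))))))))))))))))))))))))))))))))))))))))))))))))))))))))))))))))))))))))))))) i) 320 320 = true := by decide +kernel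
theorem exr_4_2 : allFrom (fun i => Nat.ble 22880 i || Nat.beq (tq_b (tq_c (tq_d (tq_c (tq_d (tq_b (tq_c (tq_d (tq_c (tq_d (tq_b (tq_c (tq_d (tq_c (tq_d (tq_b (tq_c (tq_d (tq_c (tq_d (tq_b (tq_c (tq_d (tq_c (tq_d (tq_e (tq_b (tq_c (tq_d (tq_c (tq_d (tq_b (tq_c (tq_d (tq_c (tq_d (tq_b (tq_c (tq_d (tq_c (tq_d (tq_b (tq_c (tq_d (tq_c (tq_d (tq_b (tq_c (tq_d (tq_c (tq_d (tq_e (tq_b (tq_c (tq_d (tq_c (tq_d (tq_b (tq_c (tq_d (tq_c (tq_d (tq_b (tq_c (tq_d (tq_c (tq_d (tq_b (tq_c (tq_d (tq_c (tq_d (tq_b (tq_c (tq_d (tq_c (tq_d (tq_e i)))))))))))))))))))))))))))))))))))))))))))))))))))))))))))))))))))))))))))))) i) 640 320 = true := by decide +kernel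
theorem exr_4_3 : allFrom (fun i => Nat.ble 22880 i || Nat.beq (tq_b (tq_c (tq_d (tq_c (tq_d (tq_b (tq_c (tq_d (tq_c (tq_d (tq_b (tq_c (tq_d (tq_c (tq_d (tq_b (tq_c (tq_d (tq_c (tq_d (tq_b (tq_c (tq_d (tq_c (tq_d (tq_e (tq_b (tq_c (tq_d (tq_c (tq_d (tq_b (tq_c (tq_d (tq_c (tq_d (tq_b (tq_c (tq_d (tq_c (tq_d (tq_b (tq_c (tq_d (tq_c (tq_d (tq_b (tq_c (tq_d (tq_c (tq_d (tq_e (tq_b (tq_c (tq_d (tq_c (tq_d (tq_b (tq_c (tq_d (tq_c (tq_d (tq_b (tq_c (tq_d (tq_c (tq_d (tq_b (tq_c (tq_d (tq_c (tq_d (tq_b (tq_c (tq_d (tq_c (tq_d (tq_e i)))))))))))))))))))))))))))))))))))))))))))))))))))))))))))))))))))))))))))))) i) 960 320 = true := by decide +kernel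
theorem exr_4_4 : allFrom (fun i => Nat.ble 22880 i || Nat.beq (tq_b (tq_c (tq_d (tq_c (tq_d (tq_b (tq_c (tq_d (tq_c (tq_d (tq_b (tq_c (tq_d (tq_c (tq_d (tq_b (tq_c (tq_d (tq_c (tq_d (tq_b (tq_c (tq_d (tq_c (tq_d (tq_e (tq_b (tq_c (tq_d (tq_c (tq_d (tq_b (tq_c (tq_d (tq_c (tq_d (tq_b (tq_c (tq_d (tq_c (tq_d (tq_b (tq_c (tq_d (tq_c (tq_d (tq_b (tq_c (tq_d (tq_c (tq_d (tq_e (tq_b (tq_c (tq_d (tq_c (tq_d (tq_b (tq_c (tq_d (tq_c (tq_d (tq_b (tq_c (tq_d (tq_c (tq_d (tq_b (tq_c (tq_d (tq_c (tq_d (tq_b (tq_c (tq_d (tq_c (tq_d (tq_e i)))))))))))))))))))))))))))))))))))))))))))))))))))))))))))))))))))))))))))))) i) 1280 320 = true := by decide +kernel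
theorem exr_4_5 : allFrom (fun i => Nat.ble 22880 i || Nat.beq (tq_b (tq_c (tq_d (tq_c (tq_d (tq_b (tq_c (tq_d (tq_c (tq_d (tq_b (tq_c (tq_d (tq_c (tq_d (tq_b (tq_c (tq_d (tq_c (tq_d (tq_b (tq_c (tq_d (tq_c (tq_d (tq_e (tq_b (tq_c (tq_d (tq_c (tq_d (tq_b (tq_c (tq_d (tq_c (tq_d (tq_b (tq_c (tq_d (tq_c (tq_d (tq_b (tq_c (tq_d (tq_c (tq_d (tq_b (tq_c (tq_d (tq_c (tq_d (tq_e (tq_b (tq_c (tq_d (tq_c (tq_d (tq_b (tq_c (tq_d (tq_c (tq_d (tq_b (tq_c (tq_d (tq_c (tq_d (tq_b (tq_c (tq_d (tq_c (tq_d (tq_b (tq_c (tq_d (tq_c (tq_d (tq_e i)))))))))))))))))))))))))))))))))))))))))))))))))))))))))))))))))))))))))))))) i) 1600 320 = true := by decide +kernel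
theorem exr_4_6 : allFrom (fun i => Nat.ble 22880 i || Nat.beq (tq_b (tq_c (tq_d (tq_c (tq_d (tq_b (tq_c (tq_d (tq_c (tq_d (tq_b (tq_c (tq_d (tq_c (tq_d (tq_b (tq_c (tq_d (tq_c (tq_d (tq_b (tq_c (tq_d (tq_c (tq_d (tq_e (tq_b (tq_c (tq_d (tq_c (tq_d (tq_b (tq_c (tq_d (tq_c (tq_d (tq_b (tq_c (tq_d (tq_c (tq_d (tq_b (tq_c (tq_d (tq_c (tq_d (tq_b (tq_c (tq_d (tq_c (tq_d (tq_e (tq_b (tq_c (tq_d (tq_c (tq_d (tq_b (tq_c (tq_d (tq_c (tq_d (tq_b (tq_c (tq_d (tq_c (tq_d (tq_b (tq_c (tq_d (tq_c (tq_d (tq_b (tq_c (tq_d (tq_c (tq_d (tq_e i)))))))))))))))))))))))))))))))))))))))))))))))))))))))))))))))))))))))))))))) i) 1920 320 = true := by decide +kernel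
theorem exr_4_7 : allFrom (fun i => Nat.ble 22880 i || Nat.beq (tq_b (tq_c (tq_d (tq_c (tq_d (tq_b (tq_c (tq_d (tq_c (tq_d (tq_b (tq_c (tq_d (tq_c (tq_d (tq_b (tq_c (tq_d (tq_c (tq_d (tq_b (tq_c (tq_d (tq_c (tq_d (tq_e (tq_b (tq_c (tq_d (tq_c (tq_d (tq_b (tq_c (tq_d (tq_c (tq_d (tq_b (tq_c (tq_d (tq_c (tq_d (tq_b (tq_c (tq_d (tq_c (tq_d (tq_b (tq_c (tq_d (tq_c (tq_d (tq_e (tq_b (tq_c (tq_d (tq_c (tq_d (tq_b (tq_c (tq_d (tq_c (tq_d (tq_b (tq_c (tq_d (tq_c (tq_d (tq_b (tq_c (tq_d (tq_c (tq_d (tq_b (tq_c (tq_d (tq_c (tq_d (tq_e i)))))))))))))))))))))))))))))))))))))))))))))))))))))))))))))))))))))))))))))) i) 2240 320 = true := by decide +kernel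
theorem exr_4_8 : allFrom (fun i => Nat.ble 22880 i || Nat.beq (tq_b (tq_c (tq_d (tq_c (tq_d (tq_b (tq_c (tq_d (tq_c (tq_d (tq_b (tq_c (tq_d (tq_c (tq_d (tq_b (tq_c (tq_d (tq_c (tq_d (tq_b (tq_c (tq_d (tq_c (tq_d (tq_e (tq_b (tq_c (tq_d (tq_c (tq_d (tq_b (tq_c (tq_d (tq_c (tq_d (tq_b (tq_c (tq_d (tq_c (tq_d (tq_b (tq_c (tq_d (tq_c (tq_d (tq_b (tq_c (tq_d (tq_c (tq_d (tq_e (tq_b (tq_c (tq_d (tq_c (tq_d (tq_b (tq_c (tq_d (tq_c (tq_d (tq_b (tq_c (tq_d (tq_c (tq_d (tq_b (tq_c (tq_d (tq_c (tq_d (tq_b (tq_c (tq_d (tq_c (tq_d (tq_e i)))))))))))))))))))))))))))))))))))))))))))))))))))))))))))))))))))))))))))))) i) 2560 320 = true := by decide +kernel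
theorem exr_4_9 : allFrom (fun i => Nat.ble 22880 i || Nat.beq (tq_b (tq_c (tq_d (tq_c (tq_d (tq_b (tq_c (tq_d (tq_c (tq_d (tq_b (tq_c (tq_d (tq_c (tq_d (tq_b (tq_c (tq_d (tq_c (tq_d (tq_b (tq_c (tq_d (tq_c (tq_d (tq_e (tq_b (tq_c (tq_d (tq_c (tq_d (tq_b (tq_c (tq_d (tq_c (tq_d (tq_b (tq_c (tq_d (tq_c (tq_d (tq_b (tq_c (tq_d (tq_c (tq_d (tq_b (tq_c (tq_d (tq_c (tq_d (tq_e (tq_b (tq_c (tq_d (tq_c (tq_d (tq_b (tq_c (tq_d (tq_c (tq_d (tq_b (tq_c (tq_d (tq_c (tq_d (tq_b (tq_c (tq_d (tq_c (tq_d (tq_b (tq_c (tq_d (tq_c (tq_d (tq_e i)))))))))))))))))))))))))))))))))))))))))))))))))))))))))))))))))))))))))))))) i) 2880 320 = true := by decide +kernel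
theorem exr_4_10 : allFrom (fun i => Nat.ble 22880 i || Nat.beq (tq_b (tq_c (tq_d (tq_c (tq_d (tq_b (tq_c (tq_d (tq_c (tq_d (tq_b (tq_c (tq_d (tq_c (tq_d (tq_b (tq_c (tq_d (tq_c (tq_d (tq_b (tq_c (tq_d (tq_c (tq_d (tq_e (tq_b (tq_c (tq_d (tq_c (tq_d (tq_b (tq_c (tq_d (tq_c (tq_d (tq_b (tq_c (tq_d (tq_c (tq_d (tq_b (tq_c (tq_d (tq_c (tq_d (tq_b (tq_c (tq_d (tq_c (tq_d (tq_e (tq_b (tq_c (tq_d (tq_c (tq_d (tq_b (tq_c (tq_d (tq_c (tq_d (tq_b (tq_c (tq_d (tq_c (tq_d (tq_b (tq_c (tq_d (tq_c (tq_d (tq_b (tq_c (tq_d (tq_c (tq_d (tq_e i)))))))))))))))))))))))))))))))))))))))))))))))))))))))))))))))))))))))))))))) i) 3200 320 = true := by decide +kernel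
theorem exr_4_11 : allFrom (fun i => Nat.ble 22880 i || Nat.beq (tq_b (tq_c (tq_d (tq_c (tq_d (tq_b (tq_c (tq_d (tq_c (tq_d (tq_b (tq_c (tq_d (tq_c (tq_d (tq_b (tq_c (tq_d (tq_c (tq_d (tq_b (tq_c (tq_d (tq_c (tq_d (tq_e (tq_b (tq_c (tq_d (tq_c (tq_d (tq_b (tq_c (tq_d (tq_c (tq_d (tq_b (tq_c (tq_d (tq_c (tq_d (tq_b (tq_c (tq_d (tq_c (tq_d (tq_b (tq_c (tq_d (tq_c (tq_d (tq_e (tq_b (tq_c (tq_d (tq_c (tq_d (tq_b (tq_c (tq_d (tq_c (tq_d (tq_b (tq_c (tq_d (tq_c (tq_d (tq_b (tq_c (tq_d (tq_c (tq_d (tq_b (tq_c (tq_d (tq_c (tq_d (tq_e i)))))))))))))))))))))))))))))))))))))))))))))))))))))))))))))))))))))))))))))) i) 3520 320 = true := by decide +kernel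
theorem exr_4_12 : allFrom (fun i => Nat.ble 22880 i || Nat.beq (tq_b (tq_c (tq_d (tq_c (tq_d (tq_b (tq_c (tq_d (tq_c (tq_d (tq_b (tq_c (tq_d (tq_c (tq_d (tq_b (tq_c (tq_d (tq_c (tq_d (tq_b (tq_c (tq_d (tq_c (tq_d (tq_e (tq_b (tq_c (tq_d (tq_c (tq_d (tq_b (tq_c (tq_d (tq_c (tq_d (tq_b (tq_c (tq_d (tq_c (tq_d (tq_b (tq_c (tq_d (tq_c (tq_d (tq_b (tq_c (tq_d (tq_c (tq_d (tq_e (tq_b (tq_c (tq_d (tq_c (tq_d (tq_b (tq_c (tq_d (tq_c (tq_d (tq_b (tq_c (tq_d (tq_c (tq_d (tq_b (tq_c (tq_d (tq_c (tq_d (tq_b (tq_c (tq_d (tq_c (tq_d (tq_e i)))))))))))))))))))))))))))))))))))))))))))))))))))))))))))))))))))))))))))))) i) 3840 320 = true := by decide +kernel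
theorem exr_4_13 : allFrom (fun i => Nat.ble 22880 i || Nat.beq (tq_b (tq_c (tq_d (tq_c (tq_d (tq_b (tq_c (tq_d (tq_c (tq_d (tq_b (tq_c (tq_d (tq_c (tq_d (tq_b (tq_c (tq_d (tq_c (tq_d (tq_b (tq_c (tq_d (tq_c (tq_d (tq_e (tq_b (tq_c (tq_d (tq_c (tq_d (tq_b (tq_c (tq_d (tq_c (tq_d (tq_b (tq_c (tq_d (tq_c (tq_d (tq_b (tq_c (tq_d (tq_c (tq_d (tq_b (tq_c (tq_d (tq_c (tq_d (tq_e (tq_b (tq_c (tq_d (tq_c (tq_d (tq_b (tq_c (tq_d (tq_c (tq_d (tq_b (tq_c (tq_d (tq_c (tq_d (tq_b (tq_c (tq_d (tq_c (tq_d (tq_b (tq_c (tq_d (tq_c (tq_d (tq_e i)))))))))))))))))))))))))))))))))))))))))))))))))))))))))))))))))))))))))))))) i) 4160 320 = true := by decide +kernel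
theorem exr_4_14 : allFrom (fun i => Nat.ble 22880 i || Nat.beq (tq_b (tq_c (tq_d (tq_c (tq_d (tq_b (tq_c (tq_d (tq_c (tq_d (tq_b (tq_c (tq_d (tq_c (tq_d (tq_b (tq_c (tq_d (tq_c (tq_d (tq_b (tq_c (tq_d (tq_c (tq_d (tq_e (tq_b (tq_c (tq_d (tq_c (tq_d (tq_b (tq_c (tq_d (tq_c (tq_d (tq_b (tq_c (tq_d (tq_c (tq_d (tq_b (tq_c (tq_d (tq_c (tq_d (tq_b (tq_c (tq_d (tq_c (tq_d (tq_e (tq_b (tq_c (tq_d (tq_c (tq_d (tq_b (tq_c (tq_d (tq_c (tq_d (tq_b (tq_c (tq_d (tq_c (tq_d (tq_b (tq_c (tq_d (tq_c (tq_d (tq_b (tq_c (tq_d (tq_c (tq_d (tq_e i)))))))))))))))))))))))))))))))))))))))))))))))))))))))))))))))))))))))))))))) i) 4480 320 = true := by decide +kernel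
theorem exr_4_15 : allFrom (fun i => Nat.ble 22880 i || Nat.beq (tq_b (tq_c (tq_d (tq_c (tq_d (tq_b (tq_c (tq_d (tq_c (tq_d (tq_b (tq_c (tq_d (tq_c (tq_d (tq_b (tq_c (tq_d (tq_c (tq_d (tq_b (tq_c (tq_d (tq_c (tq_d (tq_e (tq_b (tq_c (tq_d (tq_c (tq_d (tq_b (tq_c (tq_d (tq_c (tq_d (tq_b (tq_c (tq_d (tq_c (tq_d (tq_b (tq_c (tq_d (tq_c (tq_d (tq_b (tq_c (tq_d (tq_c (tq_d (tq_e (tq_b (tq_c (tq_d (tq_c (tq_d (tq_b (tq_c (tq_d (tq_c (tq_d (tq_b (tq_c (tq_d (tq_c (tq_d (tq_b (tq_c (tq_d (tq_c (tq_d (tq_b (tq_c (tq_d (tq_c (tq_d (tq_e i)))))))))))))))))))))))))))))))))))))))))))))))))))))))))))))))))))))))))))))) i) 4800 320 = true := by decide +kernel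
theorem exr_4_16 : allFrom (fun i => Nat.ble 22880 i || Nat.beq (tq_b (tq_c (tq_d (tq_c (tq_d (tq_b (tq_c (tq_d (tq_c (tq_d (tq_b (tq_c (tq_d (tq_c (tq_d (tq_b (tq_c (tq_d (tq_c (tq_d (tq_b (tq_c (tq_d (tq_c (tq_d (tq_e (tq_b (tq_c (tq_d (tq_c (tq_d (tq_b (tq_c (tq_d (tq_c (tq_d (tq_b (tq_c (tq_d (tq_c (tq_d (tq_b (tq_c (tq_d (tq_c (tq_d (tq_b (tq_c (tq_d (tq_c (tq_d (tq_e (tq_b (tq_c (tq_d (tq_c (tq_d (tq_b (tq_c (tq_d (tq_c (tq_d (tq_b (tq_c (tq_d (tq_c (tq_d (tq_b (tq_c (tq_d (tq_c (tq_d (tq_b (tq_c (tq_d (tq_c (tq_d (tq_e i)))))))))))))))))))))))))))))))))))))))))))))))))))))))))))))))))))))))))))))) i) 5120 320 = true := by decide +kernel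
theorem exr_4_17 : allFrom (fun i => Nat.ble 22880 i || Nat.beq (tq_b (tq_c (tq_d (tq_c (tq_d (tq_b (tq_c (tq_d (tq_c (tq_d (tq_b (tq_c (tq_d (tq_c (tq_d (tq_b (tq_c (tq_d (tq_c (tq_d (tq_b (tq_c (tq_d (tq_c (tq_d (tq_e (tq_b (tq_c (tq_d (tq_c (tq_d (tq_b (tq_c (tq_d (tq_c (tq_d (tq_b (tq_c (tq_d (tq_c (tq_d (tq_b (tq_c (tq_d (tq_c (tq_d (tq_b (tq_c (tq_d (tq_c (tq_d (tq_e (tq_b (tq_c (tq_d (tq_c (tq_d (tq_b (tq_c (tq_d (tq_c (tq_d (tq_b (tq_c (tq_d (tq_c (tq_d (tq_b (tq_c (tq_d (tq_c (tq_d (tq_b (tq_c (tq_d (tq_c (tq_d (tq_e i)))))))))))))))))))))))))))))))))))))))))))))))))))))))))))))))))))))))))))))) i) 5440 320 = true := by decide +kernel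
theorem exr_4_18 : allFrom (fun i => Nat.ble 22880 i || Nat.beq (tq_b (tq_c (tq_d (tq_c (tq_d (tq_b (tq_c (tq_d (tq_c (tq_d (tq_b (tq_c (tq_d (tq_c (tq_d (tq_b (tq_c (tq_d (tq_c (tq_d (tq_b (tq_c (tq_d (tq_c (tq_d (tq_e (tq_b (tq_c (tq_d (tq_c (tq_d (tq_b (tq_c (tq_d (tq_c (tq_d (tq_b (tq_c (tq_d (tq_c (tq_d (tq_b (tq_c (tq_d (tq_c (tq_d (tq_b (tq_c (tq_d (tq_c (tq_d (tq_e (tq_b (tq_c (tq_d (tq_c (tq_d (tq_b (tq_c (tq_d (tq_c (tq_d (tq_b (tq_c (tq_d (tq_c (tq_d (tq_b (tq_c (tq_d (tq_c (tq_d (tq_b (tq_c (tq_d (tq_c (tq_d (tq_e i)))))))))))))))))))))))))))))))))))))))))))))))))))))))))))))))))))))))))))))) i) 5760 320 = true := by decide +kernel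
theorem exr_4_19 : allFrom (fun i => Nat.ble 22880 i || Nat.beq (tq_b (tq_c (tq_d (tq_c (tq_d (tq_b (tq_c (tq_d (tq_c (tq_d (tq_b (tq_c (tq_d (tq_c (tq_d (tq_b (tq_c (tq_d (tq_c (tq_d (tq_b (tq_c (tq_d (tq_c (tq_d (tq_e (tq_b (tq_c (tq_d (tq_c (tq_d (tq_b (tq_c (tq_d (tq_c (tq_d (tq_b (tq_c (tq_d (tq_c (tq_d (tq_b (tq_c (tq_d (tq_c (tq_d (tq_b (tq_c (tq_d (tq_c (tq_d (tq_e (tq_b (tq_c (tq_d (tq_c (tq_d (tq_b (tq_c (tq_d (tq_c (tq_d (tq_b (tq_c (tq_d (tq_c (tq_d (tq_b (tq_c (tq_d (tq_c (tq_d (tq_b (tq_c (tq_d (tq_c (tq_d (tq_e i)))))))))))))))))))))))))))))))))))))))))))))))))))))))))))))))))))))))))))))) i) 6080 320 = true := by decide +kernel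
theorem exr_4_20 : allFrom (fun i => Nat.ble 22880 i || Nat.beq (tq_b (tq_c (tq_d (tq_c (tq_d (tq_b (tq_c (tq_d (tq_c (tq_d (tq_b (tq_c (tq_d (tq_c (tq_d (tq_b (tq_c (tq_d (tq_c (tq_d (tq_b (tq_c (tq_d (tq_c (tq_d (tq_e (tq_b (tq_c (tq_d (tq_c (tq_d (tq_b (tq_c (tq_d (tq_c (tq_d (tq_b (tq_c (tq_d (tq_c (tq_d (tq_b (tq_c (tq_d (tq_c (tq_d (tq_b (tq_c (tq_d (tq_c (tq_d (tq_e (tq_b (tq_c (tq_d (tq_c (tq_d (tq_b (tq_c (tq_d (tq_c (tq_d (tq_b (tq_c (tq_d (tq_c (tq_d (tq_b (tq_c (tq_d (tq_c (tq_d (tq_b (tq_c (tq_d (tq_c (tq_d (tq_e i)))))))))))))))))))))))))))))))))))))))))))))))))))))))))))))))))))))))))))))) i) 6400 320 = true := by decide +kernel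
theorem exr_4_21 : allFrom (fun i => Nat.ble 22880 i || Nat.beq (tq_b (tq_c (tq_d (tq_c (tq_d (tq_b (tq_c (tq_d (tq_c (tq_d (tq_b (tq_c (tq_d (tq_c (tq_d (tq_b (tq_c (tq_d (tq_c (tq_d (tq_b (tq_c (tq_d (tq_c (tq_d (tq_e (tq_b (tq_c (tq_d (tq_c (tq_d (tq_b (tq_c (tq_d (tq_c (tq_d (tq_b (tq_c (tq_d (tq_c (tq_d (tq_b (tq_c (tq_d (tq_c (tq_d (tq_b (tq_c (tq_d (tq_c (tq_d (tq_e (tq_b (tq_c (tq_d (tq_c (tq_d (tq_b (tq_c (tq_d (tq_c (tq_d (tq_b (tq_c (tq_d (tq_c (tq_d (tq_b (tq_c (tq_d (tq_c (tq_d (tq_b (tq_c (tq_d (tq_c (tq_d (tq_e i)))))))))))))))))))))))))))))))))))))))))))))))))))))))))))))))))))))))))))))) i) 6720 320 = true := by decide +kernel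
theorem exr_4_22 : allFrom (fun i => Nat.ble 22880 i || Nat.beq (tq_b (tq_c (tq_d (tq_c (tq_d (tq_b (tq_c (tq_d (tq_c (tq_d (tq_b (tq_c (tq_d (tq_c (tq_d (tq_b (tq_c (tq_d (tq_c (tq_d (tq_b (tq_c (tq_d (tq_c (tq_d (tq_e (tq_b (tq_c (tq_d (tq_c (tq_d (tq_b (tq_c (tq_d (tq_c (tq_d (tq_b (tq_c (tq_d (tq_c (tq_d (tq_b (tq_c (tq_d (tq_c (tq_d (tq_b (tq_c (tq_d (tq_c (tq_d (tq_e (tq_b (tq_c (tq_d (tq_c (tq_d (tq_b (tq_c (tq_d (tq_c (tq_d (tq_b (tq_c (tq_d (tq_c (tq_d (tq_b (tq_c (tq_d (tq_c (tq_d (tq_b (tq_c (tq_d (tq_c (tq_d (tq_e i)))))))))))))))))))))))))))))))))))))))))))))))))))))))))))))))))))))))))))))) i) 7040 320 = true := by decide +kernel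
theorem exr_4_23 : allFrom (fun i => Nat.ble 22880 i || Nat.beq (tq_b (tq_c (tq_d (tq_c (tq_d (tq_b (tq_c (tq_d (tq_c (tq_d (tq_b (tq_c (tq_d (tq_c (tq_d (tq_b (tq_c (tq_d (tq_c (tq_d (tq_b (tq_c (tq_d (tq_c (tq_d (tq_e (tq_b (tq_c (tq_d (tq_c (tq_d (tq_b (tq_c (tq_d (tq_c (tq_d (tq_b (tq_c (tq_d (tq_c (tq_d (tq_b (tq_c (tq_d (tq_c (tq_d (tq_b (tq_c (tq_d (tq_c (tq_d (tq_e (tq_b (tq_c (tq_d (tq_c (tq_d (tq_b (tq_c (tq_d (tq_c (tq_d (tq_b (tq_c (tq_d (tq_c (tq_d (tq_b (tq_c (tq_d (tq_c (tq_d (tq_b (tq_c (tq_d (tq_c (tq_d (tq_e i)))))))))))))))))))))))))))))))))))))))))))))))))))))))))))))))))))))))))))))) i) 7360 320 = true := by decide +kernel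
theorem exr_4_24 : allFrom (fun i => Nat.ble 22880 i || Nat.beq (tq_b (tq_c (tq_d (tq_c (tq_d (tq_b (tq_c (tq_d (tq_c (tq_d (tq_b (tq_c (tq_d (tq_c (tq_d (tq_b (tq_c (tq_d (tq_c (tq_d (tq_b (tq_c (tq_d (tq_c (tq_d (tq_e (tq_b (tq_c (tq_d (tq_c (tq_d (tq_b (tq_c (tq_d (tq_c (tq_d (tq_b (tq_c (tq_d (tq_c (tq_d (tq_b (tq_c (tq_d (tq_c (tq_d (tq_b (tq_c (tq_d (tq_c (tq_d (tq_e (tq_b (tq_c (tq_d (tq_c (tq_d (tq_b (tq_c (tq_d (tq_c (tq_d (tq_b (tq_c (tq_d (tq_c (tq_d (tq_b (tq_c (tq_d (tq_c (tq_d (tq_b (tq_c (tq_d (tq_c (tq_d (tq_e i)))))))))))))))))))))))))))))))))))))))))))))))))))))))))))))))))))))))))))))) i) 7680 320 = true := by decide +kernel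
theorem exr_4_25 : allFrom (fun i => Nat.ble 22880 i || Nat.beq (tq_b (tq_c (tq_d (tq_c (tq_d (tq_b (tq_c (tq_d (tq_c (tq_d (tq_b (tq_c (tq_d (tq_c (tq_d (tq_b (tq_c (tq_d (tq_c (tq_d (tq_b (tq_c (tq_d (tq_c (tq_d (tq_e (tq_b (tq_c (tq_d (tq_c (tq_d (tq_b (tq_c (tq_d (tq_c (tq_d (tq_b (tq_c (tq_d (tq_c (tq_d (tq_b (tq_c (tq_d (tq_c (tq_d (tq_b (tq_c (tq_d (tq_c (tq_d (tq_e (tq_b (tq_c (tq_d (tq_c (tq_d (tq_b (tq_c (tq_d (tq_c (tq_d (tq_b (tq_c (tq_d (tq_c (tq_d (tq_b (tq_c (tq_d (tq_c (tq_d (tq_b (tq_c (tq_d (tq_c (tq_d (tq_e i)))))))))))))))))))))))))))))))))))))))))))))))))))))))))))))))))))))))))))))) i) 8000 320 = true := by decide +kernel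
theorem exr_4_26 : allFrom (fun i => Nat.ble 22880 i || Nat.beq (tq_b (tq_c (tq_d (tq_c (tq_d (tq_b (tq_c (tq_d (tq_c (tq_d (tq_b (tq_c (tq_d (tq_c (tq_d (tq_b (tq_c (tq_d (tq_c (tq_d (tq_b (tq_c (tq_d (tq_c (tq_d (tq_e (tq_b (tq_c (tq_d (tq_c (tq_d (tq_b (tq_c (tq_d (tq_c (tq_d (tq_b (tq_c (tq_d (tq_c (tq_d (tq_b (tq_c (tq_d (tq_c (tq_d (tq_b (tq_c (tq_d (tq_c (tq_d (tq_e (tq_b (tq_c (tq_d (tq_c (tq_d (tq_b (tq_c (tq_d (tq_c (tq_d (tq_b (tq_c (tq_d (tq_c (tq_d (tq_b (tq_c (tq_d (tq_c (tq_d (tq_b (tq_c (tq_d (tq_c (tq_d (tq_e i)))))))))))))))))))))))))))))))))))))))))))))))))))))))))))))))))))))))))))))) i) 8320 320 = true := by decide +kernel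
theorem exr_4_27 : allFrom (fun i => Nat.ble 22880 i || Nat.beq (tq_b (tq_c (tq_d (tq_c (tq_d (tq_b (tq_c (tq_d (tq_c (tq_d (tq_b (tq_c (tq_d (tq_c (tq_d (tq_b (tq_c (tq_d (tq_c (tq_d (tq_b (tq_c (tq_d (tq_c (tq_d (tq_e (tq_b (tq_c (tq_d (tq_c (tq_d (tq_b (tq_c (tq_d (tq_c (tq_d (tq_b (tq_c (tq_d (tq_c (tq_d (tq_b (tq_c (tq_d (tq_c (tq_d (tq_b (tq_c (tq_d (tq_c (tq_d (tq_e (tq_b (tq_c (tq_d (tq_c (tq_d (tq_b (tq_c (tq_d (tq_c (tq_d (tq_b (tq_c (tq_d (tq_c (tq_d (tq_b (tq_c (tq_d (tq_c (tq_d (tq_b (tq_c (tq_d (tq_c (tq_d (tq_e i)))))))))))))))))))))))))))))))))))))))))))))))))))))))))))))))))))))))))))))) i) 8640 320 = true := by decide +kernel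
theorem exr_4_28 : allFrom (fun i => Nat.ble 22880 i || Nat.beq (tq_b (tq_c (tq_d (tq_c (tq_d (tq_b (tq_c (tq_d (tq_c (tq_d (tq_b (tq_c (tq_d (tq_c (tq_d (tq_b (tq_c (tq_d (tq_c (tq_d (tq_b (tq_c (tq_d (tq_c (tq_d (tq_e (tq_b (tq_c (tq_d (tq_c (tq_d (tq_b (tq_c (tq_d (tq_c (tq_d (tq_b (tq_c (tq_d (tq_c (tq_d (tq_b (tq_c (tq_d (tq_c (tq_d (tq_b (tq_c (tq_d (tq_c (tq_d (tq_e (tq_b (tq_c (tq_d (tq_c (tq_d (tq_b (tq_c (tq_d (tq_c (tq_d (tq_b (tq_c (tq_d (tq_c (tq_d (tq_b (tq_c (tq_d (tq_c (tq_d (tq_b (tq_c (tq_d (tq_c (tq_d (tq_e i)))))))))))))))))))))))))))))))))))))))))))))))))))))))))))))))))))))))))))))) i) 8960 320 = true := by decide +kernel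
theorem exr_4_29 : allFrom (fun i => Nat.ble 22880 i || Nat.beq (tq_b (tq_c (tq_d (tq_c (tq_d (tq_b (tq_c (tq_d (tq_c (tq_d (tq_b (tq_c (tq_d (tq_c (tq_d (tq_b (tq_c (tq_d (tq_c (tq_d (tq_b (tq_c (tq_d (tq_c (tq_d (tq_e (tq_b (tq_c (tq_d (tq_c (tq_d (tq_b (tq_c (tq_d (tq_c (tq_d (tq_b (tq_c (tq_d (tq_c (tq_d (tq_b (tq_c (tq_d (tq_c (tq_d (tq_b (tq_c (tq_d (tq_c (tq_d (tq_e (tq_b (tq_c (tq_d (tq_c (tq_d (tq_b (tq_c (tq_d (tq_c (tq_d (tq_b (tq_c (tq_d (tq_c (tq_d (tq_b (tq_c (tq_d (tq_c (tq_d (tq_b (tq_c (tq_d (tq_c (tq_d (tq_e i)))))))))))))))))))))))))))))))))))))))))))))))))))))))))))))))))))))))))))))) i) 9280 320 = true := by decide +kernel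
theorem exr_4_30 : allFrom (fun i => Nat.ble 22880 i || Nat.beq (tq_b (tq_c (tq_d (tq_c (tq_d (tq_b (tq_c (tq_d (tq_c (tq_d (tq_b (tq_c (tq_d (tq_c (tq_d (tq_b (tq_c (tq_d (tq_c (tq_d (tq_b (tq_c (tq_d (tq_c (tq_d (tq_e (tq_b (tq_c (tq_d (tq_c (tq_d (tq_b (tq_c (tq_d (tq_c (tq_d (tq_b (tq_c (tq_d (tq_c (tq_d (tq_b (tq_c (tq_d (tq_c (tq_d (tq_b (tq_c (tq_d (tq_c (tq_d (tq_e (tq_b (tq_c (tq_d (tq_c (tq_d (tq_b (tq_c (tq_d (tq_c (tq_d (tq_b (tq_c (tq_d (tq_c (tq_d (tq_b (tq_c (tq_d (tq_c (tq_d (tq_b (tq_c (tq_d (tq_c (tq_d (tq_e i)))))))))))))))))))))))))))))))))))))))))))))))))))))))))))))))))))))))))))))) i) 9600 320 = true := by decide +kernel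
theorem exr_4_31 : allFrom (fun i => Nat.ble 22880 i || Nat.beq (tq_b (tq_c (tq_d (tq_c (tq_d (tq_b (tq_c (tq_d (tq_c (tq_d (tq_b (tq_c (tq_d (tq_c (tq_d (tq_b (tq_c (tq_d (tq_c (tq_d (tq_b (tq_c (tq_d (tq_c (tq_d (tq_e (tq_b (tq_c (tq_d (tq_c (tq_d (tq_b (tq_c (tq_d (tq_c (tq_d (tq_b (tq_c (tq_d (tq_c (tq_d (tq_b (tq_c (tq_d (tq_c (tq_d (tq_b (tq_c (tq_d (tq_c (tq_d (tq_e (tq_b (tq_c (tq_d (tq_c (tq_d (tq_b (tq_c (tq_d (tq_c (tq_d (tq_b (tq_c (tq_d (tq_c (tq_d (tq_b (tq_c (tq_d (tq_c (tq_d (tq_b (tq_c (tq_d (tq_c (tq_d (tq_e i)))))))))))))))))))))))))))))))))))))))))))))))))))))))))))))))))))))))))))))) i) 9920 320 = true := by decide +kernel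
theorem exr_4_32 : allFrom (fun i => Nat.ble 22880 i || Nat.beq (tq_b (tq_c (tq_d (tq_c (tq_d (tq_b (tq_c (tq_d (tq_c (tq_d (tq_b (tq_c (tq_d (tq_c (tq_d (tq_b (tq_c (tq_d (tq_c (tq_d (tq_b (tq_c (tq_d (tq_c (tq_d (tq_e (tq_b (tq_c (tq_d (tq_c (tq_d (tq_b (tq_c (tq_d (tq_c (tq_d (tq_b (tq_c (tq_d (tq_c (tq_d (tq_b (tq_c (tq_d (tq_c (tq_d (tq_b (tq_c (tq_d (tq_c (tq_d (tq_e (tq_b (tq_c (tq_d (tq_c (tq_d (tq_b (tq_c (tq_d (tq_c (tq_d (tq_b (tq_c (tq_d (tq_c (tq_d (tq_b (tq_c (tq_d (tq_c (tq_d (tq_b (tq_c (tq_d (tq_c (tq_d (tq_e i)))))))))))))))))))))))))))))))))))))))))))))))))))))))))))))))))))))))))))))) i) 10240 320 = true := by decide +kernel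
theorem exr_4_33 : allFrom (fun i => Nat.ble 22880 i || Nat.beq (tq_b (tq_c (tq_d (tq_c (tq_d (tq_b (tq_c (tq_d (tq_c (tq_d (tq_b (tq_c (tq_d (tq_c (tq_d (tq_b (tq_c (tq_d (tq_c (tq_d (tq_b (tq_c (tq_d (tq_c (tq_d (tq_e (tq_b (tq_c (tq_d (tq_c (tq_d (tq_b (tq_c (tq_d (tq_c (tq_d (tq_b (tq_c (tq_d (tq_c (tq_d (tq_b (tq_c (tq_d (tq_c (tq_d (tq_b (tq_c (tq_d (tq_c (tq_d (tq_e (tq_b (tq_c (tq_d (tq_c (tq_d (tq_b (tq_c (tq_d (tq_c (tq_d (tq_b (tq_c (tq_d (tq_c (tq_d (tq_b (tq_c (tq_d (tq_c (tq_d (tq_b (tq_c (tq_d (tq_c (tq_d (tq_e i)))))))))))))))))))))))))))))))))))))))))))))))))))))))))))))))))))))))))))))) i) 10560 320 = true := by decide +kernel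
theorem exr_4_34 : allFrom (fun i => Nat.ble 22880 i || Nat.beq (tq_b (tq_c (tq_d (tq_c (tq_d (tq_b (tq_c (tq_d (tq_c (tq_d (tq_b (tq_c (tq_d (tq_c (tq_d (tq_b (tq_c (tq_d (tq_c (tq_d (tq_b (tq_c (tq_d (tq_c (tq_d (tq_e (tq_b (tq_c (tq_d (tq_c (tq_d (tq_b (tq_c (tq_d (tq_c (tq_d (tq_b (tq_c (tq_d (tq_c (tq_d (tq_b (tq_c (tq_d (tq_c (tq_d (tq_b (tq_c (tq_d (tq_c (tq_d (tq_e (tq_b (tq_c (tq_d (tq_c (tq_d (tq_b (tq_c (tq_d (tq_c (tq_d (tq_b (tq_c (tq_d (tq_c (tq_d (tq_b (tq_c (tq_d (tq_c (tq_d (tq_b (tq_c (tq_d (tq_c (tq_d (tq_e i)))))))))))))))))))))))))))))))))))))))))))))))))))))))))))))))))))))))))))))) i) 10880 320 = true := by decide +kernel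
theorem exr_4_35 : allFrom (fun i => Nat.ble 22880 i || Nat.beq (tq_b (tq_c (tq_d (tq_c (tq_d (tq_b (tq_c (tq_d (tq_c (tq_d (tq_b (tq_c (tq_d (tq_c (tq_d (tq_b (tq_c (tq_d (tq_c (tq_d (tq_b (tq_c (tq_d (tq_c (tq_d (tq_e (tq_b (tq_c (tq_d (tq_c (tq_d (tq_b (tq_c (tq_d (tq_c (tq_d (tq_b (tq_c (tq_d (tq_c (tq_d (tq_b (tq_c (tq_d (tq_c (tq_d (tq_b (tq_c (tq_d (tq_c (tq_d (tq_e (tq_b (tq_c (tq_d (tq_c (tq_d (tq_b (tq_c (tq_d (tq_c (tq_d (tq_b (tq_c (tq_d (tq_c (tq_d (tq_b (tq_c (tq_d (tq_c (tq_d (tq_b (tq_c (tq_d (tq_c (tq_d (tq_e i)))))))))))))))))))))))))))))))))))))))))))))))))))))))))))))))))))))))))))))) i) 11200 320 = true := by decide +kernel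
theorem exr_4_36 : allFrom (fun i => Nat.ble 22880 i || Nat.beq (tq_b (tq_c (tq_d (tq_c (tq_d (tq_b (tq_c (tq_d (tq_c (tq_d (tq_b (tq_c (tq_d (tq_c (tq_d (tq_b (tq_c (tq_d (tq_c (tq_d (tq_b (tq_c (tq_d (tq_c (tq_d (tq_e (tq_b (tq_c (tq_d (tq_c (tq_d (tq_b (tq_c (tq_d (tq_c (tq_d (tq_b (tq_c (tq_d (tq_c (tq_d (tq_b (tq_c (tq_d (tq_c (tq_d (tq_b (tq_c (tq_d (tq_c (tq_d (tq_e (tq_b (tq_c (tq_d (tq_c (tq_d (tq_b (tq_c (tq_d (tq_c (tq_d (tq_b (tq_c (tq_d (tq_c (tq_d (tq_b (tq_c (tq_d (tq_c (tq_d (tq_b (tq_c (tq_d (tq_c (tq_d (tq_e i)))))))))))))))))))))))))))))))))))))))))))))))))))))))))))))))))))))))))))))) i) 11520 320 = true := by decide +kernel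
theorem exr_4_37 : allFrom (fun i => Nat.ble 22880 i || Nat.beq (tq_b (tq_c (tq_d (tq_c (tq_d (tq_b (tq_c (tq_d (tq_c (tq_d (tq_b (tq_c (tq_d (tq_c (tq_d (tq_b (tq_c (tq_d (tq_c (tq_d (tq_b (tq_c (tq_d (tq_c (tq_d (tq_e (tq_b (tq_c (tq_d (tq_c (tq_d (tq_b (tq_c (tq_d (tq_c (tq_d (tq_b (tq_c (tq_d (tq_c (tq_d (tq_b (tq_c (tq_d (tq_c (tq_d (tq_b (tq_c (tq_d (tq_c (tq_d (tq_e (tq_b (tq_c (tq_d (tq_c (tq_d (tq_b (tq_c (tq_d (tq_c (tq_d (tq_b (tq_c (tq_d (tq_c (tq_d (tq_b (tq_c (tq_d (tq_c (tq_d (tq_b (tq_c (tq_d (tq_c (tq_d (tq_e i)))))))))))))))))))))))))))))))))))))))))))))))))))))))))))))))))))))))))))))) i) 11840 320 = true := by decide +kernel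
theorem exr_4_38 : allFrom (fun i => Nat.ble 22880 i || Nat.beq (tq_b (tq_c (tq_d (tq_c (tq_d (tq_b (tq_c (tq_d (tq_c (tq_d (tq_b (tq_c (tq_d (tq_c (tq_d (tq_b (tq_c (tq_d (tq_c (tq_d (tq_b (tq_c (tq_d (tq_c (tq_d (tq_e (tq_b (tq_c (tq_d (tq_c (tq_d (tq_b (tq_c (tq_d (tq_c (tq_d (tq_b (tq_c (tq_d (tq_c (tq_d (tq_b (tq_c (tq_d (tq_c (tq_d (tq_b (tq_c (tq_d (tq_c (tq_d (tq_e (tq_b (tq_c (tq_d (tq_c (tq_d (tq_b (tq_c (tq_d (tq_c (tq_d (tq_b (tq_c (tq_d (tq_c (tq_d (tq_b (tq_c (tq_d (tq_c (tq_d (tq_b (tq_c (tq_d (tq_c (tq_d (tq_e i)))))))))))))))))))))))))))))))))))))))))))))))))))))))))))))))))))))))))))))) i) 12160 320 = true := by decide +kernel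
theorem exr_4_39 : allFrom (fun i => Nat.ble 22880 i || Nat.beq (tq_b (tq_c (tq_d (tq_c (tq_d (tq_b (tq_c (tq_d (tq_c (tq_d (tq_b (tq_c (tq_d (tq_c (tq_d (tq_b (tq_c (tq_d (tq_c (tq_d (tq_b (tq_c (tq_d (tq_c (tq_d (tq_e (tq_b (tq_c (tq_d (tq_c (tq_d (tq_b (tq_c (tq_d (tq_c (tq_d (tq_b (tq_c (tq_d (tq_c (tq_d (tq_b (tq_c (tq_d (tq_c (tq_d (tq_b (tq_c (tq_d (tq_c (tq_d (tq_e (tq_b (tq_c (tq_d (tq_c (tq_d (tq_b (tq_c (tq_d (tq_c (tq_d (tq_b (tq_c (tq_d (tq_c (tq_d (tq_b (tq_c (tq_d (tq_c (tq_d (tq_b (tq_c (tq_d (tq_c (tq_d (tq_e i)))))))))))))))))))))))))))))))))))))))))))))))))))))))))))))))))))))))))))))) i) 12480 320 = true := by decide +kernel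
theorem exr_4_40 : allFrom (fun i => Nat.ble 22880 i || Nat.beq (tq_b (tq_c (tq_d (tq_c (tq_d (tq_b (tq_c (tq_d (tq_c (tq_d (tq_b (tq_c (tq_d (tq_c (tq_d (tq_b (tq_c (tq_d (tq_c (tq_d (tq_b (tq_c (tq_d (tq_c (tq_d (tq_e (tq_b (tq_c (tq_d (tq_c (tq_d (tq_b (tq_c (tq_d (tq_c (tq_d (tq_b (tq_c (tq_d (tq_c (tq_d (tq_b (tq_c (tq_d (tq_c (tq_d (tq_b (tq_c (tq_d (tq_c (tq_d (tq_e (tq_b (tq_c (tq_d (tq_c (tq_d (tq_b (tq_c (tq_d (tq_c (tq_d (tq_b (tq_c (tq_d (tq_c (tq_d (tq_b (tq_c (tq_d (tq_c (tq_d (tq_b (tq_c (tq_d (tq_c (tq_d (tq_e i)))))))))))))))))))))))))))))))))))))))))))))))))))))))))))))))))))))))))))))) i) 12800 320 = true := by decide +kernel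
theorem exr_4_41 : allFrom (fun i => Nat.ble 22880 i || Nat.beq (tq_b (tq_c (tq_d (tq_c (tq_d (tq_b (tq_c (tq_d (tq_c (tq_d (tq_b (tq_c (tq_d (tq_c (tq_d (tq_b (tq_c (tq_d (tq_c (tq_d (tq_b (tq_c (tq_d (tq_c (tq_d (tq_e (tq_b (tq_c (tq_d (tq_c (tq_d (tq_b (tq_c (tq_d (tq_c (tq_d (tq_b (tq_c (tq_d (tq_c (tq_d (tq_b (tq_c (tq_d (tq_c (tq_d (tq_b (tq_c (tq_d (tq_c (tq_d (tq_e (tq_b (tq_c (tq_d (tq_c (tq_d (tq_b (tq_c (tq_d (tq_c (tq_d (tq_b (tq_c (tq_d (tq_c (tq_d (tq_b (tq_c (tq_d (tq_c (tq_d (tq_b (tq_c (tq_d (tq_c (tq_d (tq_e i)))))))))))))))))))))))))))))))))))))))))))))))))))))))))))))))))))))))))))))) i) 13120 320 = true := by decide +kernel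
theorem exr_4_42 : allFrom (fun i => Nat.ble 22880 i || Nat.beq (tq_b (tq_c (tq_d (tq_c (tq_d (tq_b (tq_c (tq_d (tq_c (tq_d (tq_b (tq_c (tq_d (tq_c (tq_d (tq_b (tq_c (tq_d (tq_c (tq_d (tq_b (tq_c (tq_d (tq_c (tq_d (tq_e (tq_b (tq_c (tq_d (tq_c (tq_d (tq_b (tq_c (tq_d (tq_c (tq_d (tq_b (tq_c (tq_d (tq_c (tq_d (tq_b (tq_c (tq_d (tq_c (tq_d (tq_b (tq_c (tq_d (tq_c (tq_d (tq_e (tq_b (tq_c (tq_d (tq_c (tq_d (tq_b (tq_c (tq_d (tq_c (tq_d (tq_b (tq_c (tq_d (tq_c (tq_d (tq_b (tq_c (tq_d (tq_c (tq_d (tq_b (tq_c (tq_d (tq_c (tq_d (tq_e i)))))))))))))))))))))))))))))))))))))))))))))))))))))))))))))))))))))))))))))) i) 13440 320 = true := by decide +kernel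
theorem exr_4_43 : allFrom (fun i => Nat.ble 22880 i || Nat.beq (tq_b (tq_c (tq_d (tq_c (tq_d (tq_b (tq_c (tq_d (tq_c (tq_d (tq_b (tq_c (tq_d (tq_c (tq_d (tq_b (tq_c (tq_d (tq_c (tq_d (tq_b (tq_c (tq_d (tq_c (tq_d (tq_e (tq_b (tq_c (tq_d (tq_c (tq_d (tq_b (tq_c (tq_d (tq_c (tq_d (tq_b (tq_c (tq_d (tq_c (tq_d (tq_b (tq_c (tq_d (tq_c (tq_d (tq_b (tq_c (tq_d (tq_c (tq_d (tq_e (tq_b (tq_c (tq_d (tq_c (tq_d (tq_b (tq_c (tq_d (tq_c (tq_d (tq_b (tq_c (tq_d (tq_c (tq_d (tq_b (tq_c (tq_d (tq_c (tq_d (tq_b (tq_c (tq_d (tq_c (tq_d (tq_e i)))))))))))))))))))))))))))))))))))))))))))))))))))))))))))))))))))))))))))))) i) 13760 320 = true := by decide +kernel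
theorem exr_4_44 : allFrom (fun i => Nat.ble 22880 i || Nat.beq (tq_b (tq_c (tq_d (tq_c (tq_d (tq_b (tq_c (tq_d (tq_c (tq_d (tq_b (tq_c (tq_d (tq_c (tq_d (tq_b (tq_c (tq_d (tq_c (tq_d (tq_b (tq_c (tq_d (tq_c (tq_d (tq_e (tq_b (tq_c (tq_d (tq_c (tq_d (tq_b (tq_c (tq_d (tq_c (tq_d (tq_b (tq_c (tq_d (tq_c (tq_d (tq_b (tq_c (tq_d (tq_c (tq_d (tq_b (tq_c (tq_d (tq_c (tq_d (tq_e (tq_b (tq_c (tq_d (tq_c (tq_d (tq_b (tq_c (tq_d (tq_c (tq_d (tq_b (tq_c (tq_d (tq_c (tq_d (tq_b (tq_c (tq_d (tq_c (tq_d (tq_b (tq_c (tq_d (tq_c (tq_d (tq_e i)))))))))))))))))))))))))))))))))))))))))))))))))))))))))))))))))))))))))))))) i) 14080 320 = true := by decide +kernel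
theorem exr_4_45 : allFrom (fun i => Nat.ble 22880 i || Nat.beq (tq_b (tq_c (tq_d (tq_c (tq_d (tq_b (tq_c (tq_d (tq_c (tq_d (tq_b (tq_c (tq_d (tq_c (tq_d (tq_b (tq_c (tq_d (tq_c (tq_d (tq_b (tq_c (tq_d (tq_c (tq_d (tq_e (tq_b (tq_c (tq_d (tq_c (tq_d (tq_b (tq_c (tq_d (tq_c (tq_d (tq_b (tq_c (tq_d (tq_c (tq_d (tq_b (tq_c (tq_d (tq_c (tq_d (tq_b (tq_c (tq_d (tq_c (tq_d (tq_e (tq_b (tq_c (tq_d (tq_c (tq_d (tq_b (tq_c (tq_d (tq_c (tq_d (tq_b (tq_c (tq_d (tq_c (tq_d (tq_b (tq_c (tq_d (tq_c (tq_d (tq_b (tq_c (tq_d (tq_c (tq_d (tq_e i)))))))))))))))))))))))))))))))))))))))))))))))))))))))))))))))))))))))))))))) i) 14400 320 = true := by decide +kernel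
theorem exr_4_46 : allFrom (fun i => Nat.ble 22880 i || Nat.beq (tq_b (tq_c (tq_d (tq_c (tq_d (tq_b (tq_c (tq_d (tq_c (tq_d (tq_b (tq_c (tq_d (tq_c (tq_d (tq_b (tq_c (tq_d (tq_c (tq_d (tq_b (tq_c (tq_d (tq_c (tq_d (tq_e (tq_b (tq_c (tq_d (tq_c (tq_d (tq_b (tq_c (tq_d (tq_c (tq_d (tq_b (tq_c (tq_d (tq_c (tq_d (tq_b (tq_c (tq_d (tq_c (tq_d (tq_b (tq_c (tq_d (tq_c (tq_d (tq_e (tq_b (tq_c (tq_d (tq_c (tq_d (tq_b (tq_c (tq_d (tq_c (tq_d (tq_b (tq_c (tq_d (tq_c (tq_d (tq_b (tq_c (tq_d (tq_c (tq_d (tq_b (tq_c (tq_d (tq_c (tq_d (tq_e i)))))))))))))))))))))))))))))))))))))))))))))))))))))))))))))))))))))))))))))) i) 14720 320 = true := by decide +kernel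
theorem exr_4_47 : allFrom (fun i => Nat.ble 22880 i || Nat.beq (tq_b (tq_c (tq_d (tq_c (tq_d (tq_b (tq_c (tq_d (tq_c (tq_d (tq_b (tq_c (tq_d (tq_c (tq_d (tq_b (tq_c (tq_d (tq_c (tq_d (tq_b (tq_c (tq_d (tq_c (tq_d (tq_e (tq_b (tq_c (tq_d (tq_c (tq_d (tq_b (tq_c (tq_d (tq_c (tq_d (tq_b (tq_c (tq_d (tq_c (tq_d (tq_b (tq_c (tq_d (tq_c (tq_d (tq_b (tq_c (tq_d (tq_c (tq_d (tq_e (tq_b (tq_c (tq_d (tq_c (tq_d (tq_b (tq_c (tq_d (tq_c (tq_d (tq_b (tq_c (tq_d (tq_c (tq_d (tq_b (tq_c (tq_d (tq_c (tq_d (tq_b (tq_c (tq_d (tq_c (tq_d (tq_e i)))))))))))))))))))))))))))))))))))))))))))))))))))))))))))))))))))))))))))))) i) 15040 320 = true := by decide +kernel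
theorem exr_4_48 : allFrom (fun i => Nat.ble 22880 i || Nat.beq (tq_b (tq_c (tq_d (tq_c (tq_d (tq_b (tq_c (tq_d (tq_c (tq_d (tq_b (tq_c (tq_d (tq_c (tq_d (tq_b (tq_c (tq_d (tq_c (tq_d (tq_b (tq_c (tq_d (tq_c (tq_d (tq_e (tq_b (tq_c (tq_d (tq_c (tq_d (tq_b (tq_c (tq_d (tq_c (tq_d (tq_b (tq_c (tq_d (tq_c (tq_d (tq_b (tq_c (tq_d (tq_c (tq_d (tq_b (tq_c (tq_d (tq_c (tq_d (tq_e (tq_b (tq_c (tq_d (tq_c (tq_d (tq_b (tq_c (tq_d (tq_c (tq_d (tq_b (tq_c (tq_d (tq_c (tq_d (tq_b (tq_c (tq_d (tq_c (tq_d (tq_b (tq_c (tq_d (tq_c (tq_d (tq_e i)))))))))))))))))))))))))))))))))))))))))))))))))))))))))))))))))))))))))))))) i) 15360 320 = true := by decide +kernel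
theorem exr_4_49 : allFrom (fun i => Nat.ble 22880 i || Nat.beq (tq_b (tq_c (tq_d (tq_c (tq_d (tq_b (tq_c (tq_d (tq_c (tq_d (tq_b (tq_c (tq_d (tq_c (tq_d (tq_b (tq_c (tq_d (tq_c (tq_d (tq_b (tq_c (tq_d (tq_c (tq_d (tq_e (tq_b (tq_c (tq_d (tq_c (tq_d (tq_b (tq_c (tq_d (tq_c (tq_d (tq_b (tq_c (tq_d (tq_c (tq_d (tq_b (tq_c (tq_d (tq_c (tq_d (tq_b (tq_c (tq_d (tq_c (tq_d (tq_e (tq_b (tq_c (tq_d (tq_c (tq_d (tq_b (tq_c (tq_d (tq_c (tq_d (tq_b (tq_c (tq_d (tq_c (tq_d (tq_b (tq_c (tq_d (tq_c (tq_d (tq_b (tq_c (tq_d (tq_c (tq_d (tq_e i)))))))))))))))))))))))))))))))))))))))))))))))))))))))))))))))))))))))))))))) i) 15680 320 = true := by decide +kernel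
theorem exr_4_50 : allFrom (fun i => Nat.ble 22880 i || Nat.beq (tq_b (tq_c (tq_d (tq_c (tq_d (tq_b (tq_c (tq_d (tq_c (tq_d (tq_b (tq_c (tq_d (tq_c (tq_d (tq_b (tq_c (tq_d (tq_c (tq_d (tq_b (tq_c (tq_d (tq_c (tq_d (tq_e (tq_b (tq_c (tq_d (tq_c (tq_d (tq_b (tq_c (tq_d (tq_c (tq_d (tq_b (tq_c (tq_d (tq_c (tq_d (tq_b (tq_c (tq_d (tq_c (tq_d (tq_b (tq_c (tq_d (tq_c (tq_d (tq_e (tq_b (tq_c (tq_d (tq_c (tq_d (tq_b (tq_c (tq_d (tq_c (tq_d (tq_b (tq_c (tq_d (tq_c (tq_d (tq_b (tq_c (tq_d (tq_c (tq_d (tq_b (tq_c (tq_d (tq_c (tq_d (tq_e i)))))))))))))))))))))))))))))))))))))))))))))))))))))))))))))))))))))))))))))) i) 16000 320 = true := by decide +kernel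
theorem exr_4_51 : allFrom (fun i => Nat.ble 22880 i || Nat.beq (tq_b (tq_c (tq_d (tq_c (tq_d (tq_b (tq_c (tq_d (tq_c (tq_d (tq_b (tq_c (tq_d (tq_c (tq_d (tq_b (tq_c (tq_d (tq_c (tq_d (tq_b (tq_c (tq_d (tq_c (tq_d (tq_e (tq_b (tq_c (tq_d (tq_c (tq_d (tq_b (tq_c (tq_d (tq_c (tq_d (tq_b (tq_c (tq_d (tq_c (tq_d (tq_b (tq_c (tq_d (tq_c (tq_d (tq_b (tq_c (tq_d (tq_c (tq_d (tq_e (tq_b (tq_c (tq_d (tq_c (tq_d (tq_b (tq_c (tq_d (tq_c (tq_d (tq_b (tq_c (tq_d (tq_c (tq_d (tq_b (tq_c (tq_d (tq_c (tq_d (tq_b (tq_c (tq_d (tq_c (tq_d (tq_e i)))))))))))))))))))))))))))))))))))))))))))))))))))))))))))))))))))))))))))))) i) 16320 320 = true := by decide +kernel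
theorem exr_4_52 : allFrom (fun i => Nat.ble 22880 i || Nat.beq (tq_b (tq_c (tq_d (tq_c (tq_d (tq_b (tq_c (tq_d (tq_c (tq_d (tq_b (tq_c (tq_d (tq_c (tq_d (tq_b (tq_c (tq_d (tq_c (tq_d (tq_b (tq_c (tq_d (tq_c (tq_d (tq_e (tq_b (tq_c (tq_d (tq_c (tq_d (tq_b (tq_c (tq_d (tq_c (tq_d (tq_b (tq_c (tq_d (tq_c (tq_d (tq_b (tq_c (tq_d (tq_c (tq_d (tq_b (tq_c (tq_d (tq_c (tq_d (tq_e (tq_b (tq_c (tq_d (tq_c (tq_d (tq_b (tq_c (tq_d (tq_c (tq_d (tq_b (tq_c (tq_d (tq_c (tq_d (tq_b (tq_c (tq_d (tq_c (tq_d (tq_b (tq_c (tq_d (tq_c (tq_d (tq_e i)))))))))))))))))))))))))))))))))))))))))))))))))))))))))))))))))))))))))))))) i) 16640 320 = true := by decide +kernel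
theorem exr_4_53 : allFrom (fun i => Nat.ble 22880 i || Nat.beq (tq_b (tq_c (tq_d (tq_c (tq_d (tq_b (tq_c (tq_d (tq_c (tq_d (tq_b (tq_c (tq_d (tq_c (tq_d (tq_b (tq_c (tq_d (tq_c (tq_d (tq_b (tq_c (tq_d (tq_c (tq_d (tq_e (tq_b (tq_c (tq_d (tq_c (tq_d (tq_b (tq_c (tq_d (tq_c (tq_d (tq_b (tq_c (tq_d (tq_c (tq_d (tq_b (tq_c (tq_d (tq_c (tq_d (tq_b (tq_c (tq_d (tq_c (tq_d (tq_e (tq_b (tq_c (tq_d (tq_c (tq_d (tq_b (tq_c (tq_d (tq_c (tq_d (tq_b (tq_c (tq_d (tq_c (tq_d (tq_b (tq_c (tq_d (tq_c (tq_d (tq_b (tq_c (tq_d (tq_c (tq_d (tq_e i)))))))))))))))))))))))))))))))))))))))))))))))))))))))))))))))))))))))))))))) i) 16960 320 = true := by decide +kernel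
theorem exr_4_54 : allFrom (fun i => Nat.ble 22880 i || Nat.beq (tq_b (tq_c (tq_d (tq_c (tq_d (tq_b (tq_c (tq_d (tq_c (tq_d (tq_b (tq_c (tq_d (tq_c (tq_d (tq_b (tq_c (tq_d (tq_c (tq_d (tq_b (tq_c (tq_d (tq_c (tq_d (tq_e (tq_b (tq_c (tq_d (tq_c (tq_d (tq_b (tq_c (tq_d (tq_c (tq_d (tq_b (tq_c (tq_d (tq_c (tq_d (tq_b (tq_c (tq_d (tq_c (tq_d (tq_b (tq_c (tq_d (tq_c (tq_d (tq_e (tq_b (tq_c (tq_d (tq_c (tq_d (tq_b (tq_c (tq_d (tq_c (tq_d (tq_b (tq_c (tq_d (tq_c (tq_d (tq_b (tq_c (tq_d (tq_c (tq_d (tq_b (tq_c (tq_d (tq_c (tq_d (tq_e i)))))))))))))))))))))))))))))))))))))))))))))))))))))))))))))))))))))))))))))) i) 17280 320 = true := by decide +kernel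
theorem exr_4_55 : allFrom (fun i => Nat.ble 22880 i || Nat.beq (tq_b (tq_c (tq_d (tq_c (tq_d (tq_b (tq_c (tq_d (tq_c (tq_d (tq_b (tq_c (tq_d (tq_c (tq_d (tq_b (tq_c (tq_d (tq_c (tq_d (tq_b (tq_c (tq_d (tq_c (tq_d (tq_e (tq_b (tq_c (tq_d (tq_c (tq_d (tq_b (tq_c (tq_d (tq_c (tq_d (tq_b (tq_c (tq_d (tq_c (tq_d (tq_b (tq_c (tq_d (tq_c (tq_d (tq_b (tq_c (tq_d (tq_c (tq_d (tq_e (tq_b (tq_c (tq_d (tq_c (tq_d (tq_b (tq_c (tq_d (tq_c (tq_d (tq_b (tq_c (tq_d (tq_c (tq_d (tq_b (tq_c (tq_d (tq_c (tq_d (tq_b (tq_c (tq_d (tq_c (tq_d (tq_e i)))))))))))))))))))))))))))))))))))))))))))))))))))))))))))))))))))))))))))))) i) 17600 320 = true := by decide +kernel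
theorem exr_4_56 : allFrom (fun i => Nat.ble 22880 i || Nat.beq (tq_b (tq_c (tq_d (tq_c (tq_d (tq_b (tq_c (tq_d (tq_c (tq_d (tq_b (tq_c (tq_d (tq_c (tq_d (tq_b (tq_c (tq_d (tq_c (tq_d (tq_b (tq_c (tq_d (tq_c (tq_d (tq_e (tq_b (tq_c (tq_d (tq_c (tq_d (tq_b (tq_c (tq_d (tq_c (tq_d (tq_b (tq_c (tq_d (tq_c (tq_d (tq_b (tq_c (tq_d (tq_c (tq_d (tq_b (tq_c (tq_d (tq_c (tq_d (tq_e (tq_b (tq_c (tq_d (tq_c (tq_d (tq_b (tq_c (tq_d (tq_c (tq_d (tq_b (tq_c (tq_d (tq_c (tq_d (tq_b (tq_c (tq_d (tq_c (tq_d (tq_b (tq_c (tq_d (tq_c (tq_d (tq_e i)))))))))))))))))))))))))))))))))))))))))))))))))))))))))))))))))))))))))))))) i) 17920 320 = true := by decide +kernel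
theorem exr_4_57 : allFrom (fun i => Nat.ble 22880 i || Nat.beq (tq_b (tq_c (tq_d (tq_c (tq_d (tq_b (tq_c (tq_d (tq_c (tq_d (tq_b (tq_c (tq_d (tq_c (tq_d (tq_b (tq_c (tq_d (tq_c (tq_d (tq_b (tq_c (tq_d (tq_c (tq_d (tq_e (tq_b (tq_c (tq_d (tq_c (tq_d (tq_b (tq_c (tq_d (tq_c (tq_d (tq_b (tq_c (tq_d (tq_c (tq_d (tq_b (tq_c (tq_d (tq_c (tq_d (tq_b (tq_c (tq_d (tq_c (tq_d (tq_e (tq_b (tq_c (tq_d (tq_c (tq_d (tq_b (tq_c (tq_d (tq_c (tq_d (tq_b (tq_c (tq_d (tq_c (tq_d (tq_b (tq_c (tq_d (tq_c (tq_d (tq_b (tq_c (tq_d (tq_c (tq_d (tq_e i)))))))))))))))))))))))))))))))))))))))))))))))))))))))))))))))))))))))))))))) i) 18240 320 = true := by decide +kernel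
theorem exr_4_58 : allFrom (fun i => Nat.ble 22880 i || Nat.beq (tq_b (tq_c (tq_d (tq_c (tq_d (tq_b (tq_c (tq_d (tq_c (tq_d (tq_b (tq_c (tq_d (tq_c (tq_d (tq_b (tq_c (tq_d (tq_c (tq_d (tq_b (tq_c (tq_d (tq_c (tq_d (tq_e (tq_b (tq_c (tq_d (tq_c (tq_d (tq_b (tq_c (tq_d (tq_c (tq_d (tq_b (tq_c (tq_d (tq_c (tq_d (tq_b (tq_c (tq_d (tq_c (tq_d (tq_b (tq_c (tq_d (tq_c (tq_d (tq_e (tq_b (tq_c (tq_d (tq_c (tq_d (tq_b (tq_c (tq_d (tq_c (tq_d (tq_b (tq_c (tq_d (tq_c (tq_d (tq_b (tq_c (tq_d (tq_c (tq_d (tq_b (tq_c (tq_d (tq_c (tq_d (tq_e i)))))))))))))))))))))))))))))))))))))))))))))))))))))))))))))))))))))))))))))) i) 18560 320 = true := by decide +kernel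
theorem exr_4_59 : allFrom (fun i => Nat.ble 22880 i || Nat.beq (tq_b (tq_c (tq_d (tq_c (tq_d (tq_b (tq_c (tq_d (tq_c (tq_d (tq_b (tq_c (tq_d (tq_c (tq_d (tq_b (tq_c (tq_d (tq_c (tq_d (tq_b (tq_c (tq_d (tq_c (tq_d (tq_e (tq_b (tq_c (tq_d (tq_c (tq_d (tq_b (tq_c (tq_d (tq_c (tq_d (tq_b (tq_c (tq_d (tq_c (tq_d (tq_b (tq_c (tq_d (tq_c (tq_d (tq_b (tq_c (tq_d (tq_c (tq_d (tq_e (tq_b (tq_c (tq_d (tq_c (tq_d (tq_b (tq_c (tq_d (tq_c (tq_d (tq_b (tq_c (tq_d (tq_c (tq_d (tq_b (tq_c (tq_d (tq_c (tq_d (tq_b (tq_c (tq_d (tq_c (tq_d (tq_e i)))))))))))))))))))))))))))))))))))))))))))))))))))))))))))))))))))))))))))))) i) 18880 320 = true := by decide +kernel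
theorem exr_4_60 : allFrom (fun i => Nat.ble 22880 i || Nat.beq (tq_b (tq_c (tq_d (tq_c (tq_d (tq_b (tq_c (tq_d (tq_c (tq_d (tq_b (tq_c (tq_d (tq_c (tq_d (tq_b (tq_c (tq_d (tq_c (tq_d (tq_b (tq_c (tq_d (tq_c (tq_d (tq_e (tq_b (tq_c (tq_d (tq_c (tq_d (tq_b (tq_c (tq_d (tq_c (tq_d (tq_b (tq_c (tq_d (tq_c (tq_d (tq_b (tq_c (tq_d (tq_c (tq_d (tq_b (tq_c (tq_d (tq_c (tq_d (tq_e (tq_b (tq_c (tq_d (tq_c (tq_d (tq_b (tq_c (tq_d (tq_c (tq_d (tq_b (tq_c (tq_d (tq_c (tq_d (tq_b (tq_c (tq_d (tq_c (tq_d (tq_b (tq_c (tq_d (tq_c (tq_d (tq_e i)))))))))))))))))))))))))))))))))))))))))))))))))))))))))))))))))))))))))))))) i) 19200 320 = true := by decide +kernel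
theorem exr_4_61 : allFrom (fun i => Nat.ble 22880 i || Nat.beq (tq_b (tq_c (tq_d (tq_c (tq_d (tq_b (tq_c (tq_d (tq_c (tq_d (tq_b (tq_c (tq_d (tq_c (tq_d (tq_b (tq_c (tq_d (tq_c (tq_d (tq_b (tq_c (tq_d (tq_c (tq_d (tq_e (tq_b (tq_c (tq_d (tq_c (tq_d (tq_b (tq_c (tq_d (tq_c (tq_d (tq_b (tq_c (tq_d (tq_c (tq_d (tq_b (tq_c (tq_d (tq_c (tq_d (tq_b (tq_c (tq_d (tq_c (tq_d (tq_e (tq_b (tq_c (tq_d (tq_c (tq_d (tq_b (tq_c (tq_d (tq_c (tq_d (tq_b (tq_c (tq_d (tq_c (tq_d (tq_b (tq_c (tq_d (tq_c (tq_d (tq_b (tq_c (tq_d (tq_c (tq_d (tq_e i)))))))))))))))))))))))))))))))))))))))))))))))))))))))))))))))))))))))))))))) i) 19520 320 = true := by decide +kernel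
theorem exr_4_62 : allFrom (fun i => Nat.ble 22880 i || Nat.beq (tq_b (tq_c (tq_d (tq_c (tq_d (tq_b (tq_c (tq_d (tq_c (tq_d (tq_b (tq_c (tq_d (tq_c (tq_d (tq_b (tq_c (tq_d (tq_c (tq_d (tq_b (tq_c (tq_d (tq_c (tq_d (tq_e (tq_b (tq_c (tq_d (tq_c (tq_d (tq_b (tq_c (tq_d (tq_c (tq_d (tq_b (tq_c (tq_d (tq_c (tq_d (tq_b (tq_c (tq_d (tq_c (tq_d (tq_b (tq_c (tq_d (tq_c (tq_d (tq_e (tq_b (tq_c (tq_d (tq_c (tq_d (tq_b (tq_c (tq_d (tq_c (tq_d (tq_b (tq_c (tq_d (tq_c (tq_d (tq_b (tq_c (tq_d (tq_c (tq_d (tq_b (tq_c (tq_d (tq_c (tq_d (tq_e i)))))))))))))))))))))))))))))))))))))))))))))))))))))))))))))))))))))))))))))) i) 19840 320 = true := by decide +kernel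
theorem exr_4_63 : allFrom (fun i => Nat.ble 22880 i || Nat.beq (tq_b (tq_c (tq_d (tq_c (tq_d (tq_b (tq_c (tq_d (tq_c (tq_d (tq_b (tq_c (tq_d (tq_c (tq_d (tq_b (tq_c (tq_d (tq_c (tq_d (tq_b (tq_c (tq_d (tq_c (tq_d (tq_e (tq_b (tq_c (tq_d (tq_c (tq_d (tq_b (tq_c (tq_d (tq_c (tq_d (tq_b (tq_c (tq_d (tq_c (tq_d (tq_b (tq_c (tq_d (tq_c (tq_d (tq_b (tq_c (tq_d (tq_c (tq_d (tq_e (tq_b (tq_c (tq_d (tq_c (tq_d (tq_b (tq_c (tq_d (tq_c (tq_d (tq_b (tq_c (tq_d (tq_c (tq_d (tq_b (tq_c (tq_d (tq_c (tq_d (tq_b (tq_c (tq_d (tq_c (tq_d (tq_e i)))))))))))))))))))))))))))))))))))))))))))))))))))))))))))))))))))))))))))))) i) 20160 320 = true := by decide +kernel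
theorem exr_4_64 : allFrom (fun i => Nat.ble 22880 i || Nat.beq (tq_b (tq_c (tq_d (tq_c (tq_d (tq_b (tq_c (tq_d (tq_c (tq_d (tq_b (tq_c (tq_d (tq_c (tq_d (tq_b (tq_c (tq_d (tq_c (tq_d (tq_b (tq_c (tq_d (tq_c (tq_d (tq_e (tq_b (tq_c (tq_d (tq_c (tq_d (tq_b (tq_c (tq_d (tq_c (tq_d (tq_b (tq_c (tq_d (tq_c (tq_d (tq_b (tq_c (tq_d (tq_c (tq_d (tq_b (tq_c (tq_d (tq_c (tq_d (tq_e (tq_b (tq_c (tq_d (tq_c (tq_d (tq_b (tq_c (tq_d (tq_c (tq_d (tq_b (tq_c (tq_d (tq_c (tq_d (tq_b (tq_c (tq_d (tq_c (tq_d (tq_b (tq_c (tq_d (tq_c (tq_d (tq_e i)))))))))))))))))))))))))))))))))))))))))))))))))))))))))))))))))))))))))))))) i) 20480 320 = true := by decide +kernel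
theorem exr_4_65 : allFrom (fun i => Nat.ble 22880 i || Nat.beq (tq_b (tq_c (tq_d (tq_c (tq_d (tq_b (tq_c (tq_d (tq_c (tq_d (tq_b (tq_c (tq_d (tq_c (tq_d (tq_b (tq_c (tq_d (tq_c (tq_d (tq_b (tq_c (tq_d (tq_c (tq_d (tq_e (tq_b (tq_c (tq_d (tq_c (tq_d (tq_b (tq_c (tq_d (tq_c (tq_d (tq_b (tq_c (tq_d (tq_c (tq_d (tq_b (tq_c (tq_d (tq_c (tq_d (tq_b (tq_c (tq_d (tq_c (tq_d (tq_e (tq_b (tq_c (tq_d (tq_c (tq_d (tq_b (tq_c (tq_d (tq_c (tq_d (tq_b (tq_c (tq_d (tq_c (tq_d (tq_b (tq_c (tq_d (tq_c (tq_d (tq_b (tq_c (tq_d (tq_c (tq_d (tq_e i)))))))))))))))))))))))))))))))))))))))))))))))))))))))))))))))))))))))))))))) i) 20800 320 = true := by decide +kernel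
theorem exr_4_66 : allFrom (fun i => Nat.ble 22880 i || Nat.beq (tq_b (tq_c (tq_d (tq_c (tq_d (tq_b (tq_c (tq_d (tq_c (tq_d (tq_b (tq_c (tq_d (tq_c (tq_d (tq_b (tq_c (tq_d (tq_c (tq_d (tq_b (tq_c (tq_d (tq_c (tq_d (tq_e (tq_b (tq_c (tq_d (tq_c (tq_d (tq_b (tq_c (tq_d (tq_c (tq_d (tq_b (tq_c (tq_d (tq_c (tq_d (tq_b (tq_c (tq_d (tq_c (tq_d (tq_b (tq_c (tq_d (tq_c (tq_d (tq_e (tq_b (tq_c (tq_d (tq_c (tq_d (tq_b (tq_c (tq_d (tq_c (tq_d (tq_b (tq_c (tq_d (tq_c (tq_d (tq_b (tq_c (tq_d (tq_c (tq_d (tq_b (tq_c (tq_d (tq_c (tq_d (tq_e i)))))))))))))))))))))))))))))))))))))))))))))))))))))))))))))))))))))))))))))) i) 21120 320 = true := by decide +kernel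
theorem exr_4_67 : allFrom (fun i => Nat.ble 22880 i || Nat.beq (tq_b (tq_c (tq_d (tq_c (tq_d (tq_b (tq_c (tq_d (tq_c (tq_d (tq_b (tq_c (tq_d (tq_c (tq_d (tq_b (tq_c (tq_d (tq_c (tq_d (tq_b (tq_c (tq_d (tq_c (tq_d (tq_e (tq_b (tq_c (tq_d (tq_c (tq_d (tq_b (tq_c (tq_d (tq_c (tq_d (tq_b (tq_c (tq_d (tq_c (tq_d (tq_b (tq_c (tq_d (tq_c (tq_d (tq_b (tq_c (tq_d (tq_c (tq_d (tq_e (tq_b (tq_c (tq_d (tq_c (tq_d (tq_b (tq_c (tq_d (tq_c (tq_d (tq_b (tq_c (tq_d (tq_c (tq_d (tq_b (tq_c (tq_d (tq_c (tq_d (tq_b (tq_c (tq_d (tq_c (tq_d (tq_e i)))))))))))))))))))))))))))))))))))))))))))))))))))))))))))))))))))))))))))))) i) 21440 320 = true := by decide +kernel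
theorem exr_4_68 : allFrom (fun i => Nat.ble 22880 i || Nat.beq (tq_b (tq_c (tq_d (tq_c (tq_d (tq_b (tq_c (tq_d (tq_c (tq_d (tq_b (tq_c (tq_d (tq_c (tq_d (tq_b (tq_c (tq_d (tq_c (tq_d (tq_b (tq_c (tq_d (tq_c (tq_d (tq_e (tq_b (tq_c (tq_d (tq_c (tq_d (tq_b (tq_c (tq_d (tq_c (tq_d (tq_b (tq_c (tq_d (tq_c (tq_d (tq_b (tq_c (tq_d (tq_c (tq_d (tq_b (tq_c (tq_d (tq_c (tq_d (tq_e (tq_b (tq_c (tq_d (tq_c (tq_d (tq_b (tq_c (tq_d (tq_c (tq_d (tq_b (tq_c (tq_d (tq_c (tq_d (tq_b (tq_c (tq_d (tq_c (tq_d (tq_b (tq_c (tq_d (tq_c (tq_d (tq_e i)))))))))))))))))))))))))))))))))))))))))))))))))))))))))))))))))))))))))))))) i) 21760 320 = true := by decide +kernel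
theorem exr_4_69 : allFrom (fun i => Nat.ble 22880 i || Nat.beq (tq_b (tq_c (tq_d (tq_c (tq_d (tq_b (tq_c (tq_d (tq_c (tq_d (tq_b (tq_c (tq_d (tq_c (tq_d (tq_b (tq_c (tq_d (tq_c (tq_d (tq_b (tq_c (tq_d (tq_c (tq_d (tq_e (tq_b (tq_c (tq_d (tq_c (tq_d (tq_b (tq_c (tq_d (tq_c (tq_d (tq_b (tq_c (tq_d (tq_c (tq_d (tq_b (tq_c (tq_d (tq_c (tq_d (tq_b (tq_c (tq_d (tq_c (tq_d (tq_e (tq_b (tq_c (tq_d (tq_c (tq_d (tq_b (tq_c (tq_d (tq_c (tq_d (tq_b (tq_c (tq_d (tq_c (tq_d (tq_b (tq_c (tq_d (tq_c (tq_d (tq_b (tq_c (tq_d (tq_c (tq_d (tq_e i)))))))))))))))))))))))))))))))))))))))))))))))))))))))))))))))))))))))))))))) i) 22080 320 = true := by decide +kernel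
theorem exr_4_70 : allFrom (fun i => Nat.ble 22880 i || Nat.beq (tq_b (tq_c (tq_d (tq_c (tq_d (tq_b (tq_c (tq_d (tq_c (tq_d (tq_b (tq_c (tq_d (tq_c (tq_d (tq_b (tq_c (tq_d (tq_c (tq_d (tq_b (tq_c (tq_d (tq_c (tq_d (tq_e (tq_b (tq_c (tq_d (tq_c (tq_d (tq_b (tq_c (tq_d (tq_c (tq_d (tq_b (tq_c (tq_d (tq_c (tq_d (tq_b (tq_c (tq_d (tq_c (tq_d (tq_b (tq_c (tq_d (tq_c (tq_d (tq_e (tq_b (tq_c (tq_d (tq_c (tq_d (tq_b (tq_c (tq_d (tq_c (tq_d (tq_b (tq_c (tq_d (tq_c (tq_d (tq_b (tq_c (tq_d (tq_c (tq_d (tq_b (tq_c (tq_d (tq_c (tq_d (tq_e i)))))))))))))))))))))))))))))))))))))))))))))))))))))))))))))))))))))))))))))) i) 22400 320 = true := by decide +kernel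
theorem exr_4_71 : allFrom (fun i => Nat.ble 22880 i || Nat.beq (tq_b (tq_c (tq_d (tq_c (tq_d (tq_b (tq_c (tq_d (tq_c (tq_d (tq_b (tq_c (tq_d (tq_c (tq_d (tq_b (tq_c (tq_d (tq_c (tq_d (tq_b (tq_c (tq_d (tq_c (tq_d (tq_e (tq_b (tq_c (tq_d (tq_c (tq_d (tq_b (tq_c (tq_d (tq_c (tq_d (tq_b (tq_c (tq_d (tq_c (tq_d (tq_b (tq_c (tq_d (tq_c (tq_d (tq_b (tq_c (tq_d (tq_c (tq_d (tq_e (tq_b (tq_c (tq_d (tq_c (tq_d (tq_b (tq_c (tq_d (tq_c (tq_d (tq_b (tq_c (tq_d (tq_c (tq_d (tq_b (tq_c (tq_d (tq_c (tq_d (tq_b (tq_c (tq_d (tq_c (tq_d (tq_e i)))))))))))))))))))))))))))))))))))))))))))))))))))))))))))))))))))))))))))))) i) 22720 320 = true := by decide +kernel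
theorem exr_4 : ∀ i, i < 22880 → (Nat.beq (tq_b (tq_c (tq_d (tq_c (tq_d (tq_b (tq_c (tq_d (tq_c (tq_d (tq_b (tq_c (tq_d (tq_c (tq_d (tq_b (tq_c (tq_d (tq_c (tq_d (tq_b (tq_c (tq_d (tq_c (tq_d (tq_e (tq_b (tq_c (tq_d (tq_c (tq_d (tq_b (tq_c (tq_d (tq_c (tq_d (tq_b (tq_c (tq_d (tq_c (tq_d (tq_b (tq_c (tq_d (tq_c (tq_d (tq_b (tq_c (tq_d (tq_c (tq_d (tq_e (tq_b (tq_c (tq_d (tq_c (tq_d (tq_b (tq_c (tq_d (tq_c (tq_d (tq_b (tq_c (tq_d (tq_c (tq_d (tq_b (tq_c (tq_d (tq_c (tq_d (tq_b (tq_c (tq_d (tq_c (tq_d (tq_e i)))))))))))))))))))))))))))))))))))))))))))))))))))))))))))))))))))))))))))))) i) = true :=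
  blocks_lt (fun i => Nat.beq (tq_b (tq_c (tq_d (tq_c (tq_d (tq_b (tq_c (tq_d (tq_c (tq_d (tq_b (tq_c (tq_d (tq_c (tq_d (tq_b (tq_c (tq_d (tq_c (tq_d (tq_b (tq_c (tq_d (tq_c (tq_d (tq_e (tq_b (tq_c (tq_d (tq_c (tq_d (tq_b (tq_c (tq_d (tq_c (tq_d (tq_b (tq_c (tq_d (tq_c (tq_d (tq_b (tq_c (tq_d (tq_c (tq_d (tq_b (tq_c (tq_d (tq_c (tq_d (tq_e (tq_b (tq_c (tq_d (tq_c (tq_d (tq_b (tq_c (tq_d (tq_c (tq_d (tq_b (tq_c (tq_d (tq_c (tq_d (tq_b (tq_c (tq_d (tq_c (tq_d (tq_b (tq_c (tq_d (tq_c (tq_d (tq_e i)))))))))))))))))))))))))))))))))))))))))))))))))))))))))))))))))))))))))))))) i) 22880 320 72 (by norm_num) ⟨exr_4_0, exr_4_1, exr_4_2, exr_4_3, exr_4_4, exr_4_5, exr_4_6, exr_4_7, exr_4_8, exr_4_9, exr_4_10, exr_4_11, exr_4_12, exr_4_13, exr_4_14, exr_4_15, exr_4_16, exr_4_17, exr_4_18, exr_4_19, exr_4_20,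 exr_4_21, exr_4_22, exr_4_23, exr_4_24, exr_4_25, exr_4_26, exr_4_27, exr_4_28, exr_4_29, exr_4_30, exr_4_31, exr_4_32, exr_4_33, exr_4_34, exr_4_35, exr_4_36, exr_4_37, exr_4_38, exr_4_39, exr_4_40, exr_4_41, exr_4_42, exr_4_43, exr_4_44, exr_4_45, exr_4_46, exr_4_47, exr_4_48, exr_4_49, exr_4_50, exr_4_51, exr_4_52, exr_4_53, exr_4_54, exr_4_55, exr_4_56, exr_4_57, exr_4_58, exr_4_59, exr_4_60, exr_4_61, exr_4_62, exr_4_63, exr_4_64, exr_4_65, exr_4_66, exr_4_67, exr_4_68, exr_4_69, exr_4_70, exr_4_71, trivial⟩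

theorem ex_4 : ∀ i, i < 22880 → evalT tab [Gen.b, Gen.c, Gen.d, Gen.c, Gen.d, Gen.b, Gen.c, Gen.d, Gen.c, Gen.d, Gen.b, Gen.c, Gen.d, Gen.c, Gen.d, Gen.b, Gen.c, Gen.d, Gen.c, Gen.d, Gen.b, Gen.c, Gen.d, Gen.c, Gen.d, Gen.e, Gen.b, Gen.c, Gen.d, Gen.c, Gen.d, Gen.b, Gen.c, Gen.d, Gen.c, Gen.d, Gen.b, Gen.c, Gen.d, Gen.c, Gen.d, Gen.b, Gen.c, Gen.d, Gen.c, Gen.d, Gen.b, Gen.c, Gen.d, Gen.c, Gen.d, Gen.e, Gen.b, Gen.c, Gen.d, Gen.c, Gen.d, Gen.b, Gen.c, Gen.d, Gen.c, Gen.d, Gen.b, Gen.c, Gen.d, Gen.c, Gen.d, Gen.b, Gen.c, Gen.d, Gen.c, Gen.d, Gen.b, Gen.c, Gen.d, Gen.c, Gen.d, Gen.e] i = i := by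
  intro i hi
  have h := Nat.eq_of_beq_eq_true (exr_4 i hi)
  simp only [evalT_cons', evalT_nil', tab_a, tab_b, tab_c, tab_d, tab_e, tab_f, tab_g]
  exact h

end Cfsg.Agent.Helper28.SzbA
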