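import Mathlib

/-!
Tables for the automorphisms of the system of the supports of size six of the ternary code of
length 12: a transversal of permutations with their inverses and diagonal parts, and the set of
the supports as a bitmap.
-/

set_option autoImplicit false

namespace Cfsg.Agent.Helper28.TGolayAutData

def UT : ℕ := 0x56a9487b321095746b8a32108b57a469321064b597a8321049865ab73210a74b85963210786ab9453210ba9876543210ba9876543210ba9876543210ba9876543210ba98765432109845a673b2104b697583a21074a85b6392105796b4a382106a5489b37210b58a47936210a9b768435210867b9a534210ba9876543210ba9876543210ba9876543210ba987654321045986a732b10694b57832a10a874b563291096574ba32810546a98b327108ab574932610b7a9864325107b86a953241098ba67542310ba9876543210ba9876543210ba987654321086a4597321b0b576948321a04b5a8763219074b965a32180a98546b321705748ab932160986b7a4321506a97b8532140a6798b542130876ba9543120ba9876543210ba98765432109456a873210b46957b83210a7a8b546321095964b7a3210865498ab32107b8a745932106ab786943210587ba96532104b9867a5421039ba768543102687a9b543201ba9876543210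

def UQ : ℕ := 0x49865ab7321064b597a83210a74b8596321095746b8a321056a9487b32108b57a4693210786ab9453210ba9876543210ba9876543210ba9876543210ba9876543210ba987654321037ba56894210a385796b42106938b57a42107593a8b642105a673b984210b85963a742109ba687354210867b9a534210ba9876543210ba9876543210ba9876543210ba9876543210269857ab431082a56b7943107b2a9568431065b28a974310587629ba43109a5b72864310b987a6254310a769b852431098ba67542310ba9876543210ba9876543210ba9876543210196b5a784320b17598a64320a817659b43209581b76a43205ba9168743206758a1b9432086ba791543207a968b5143206b879a541320876ba9543120ba9876543210ba987654321007b6589a432160957a8b43218a09b576432175a069b8432156870ba94321b95a80674321ab6897054321987ba6504321b6a978540321a9b687543021687a9b543201ba9876543210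

def US : ℕ := 0x222222222121222222222211111111111221222222222211222222222121111111111221111111111111111111111111111111111111111111111111111111111111111111111111222222222121222222222211111111111221222222222211222222222121111111111221111111111111111111111111111111111111111111111111111111111111111111111111111221212221212211112111222121211121121122112111221111122221211222121121221212211211122221121211212122112211111111111111111111111111111111111111111221212221212211112111222121211121121122112111221111122221211222121121221212211211122221121211212122112211111111111111111111111111111111111111111221212221212211112111222121211121121122112111221111122221211222121121221212211211122221121211212122112211111111111111111111111111111111111111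

def HB : ℕ := 0x1000000000000000000000000000000000000000200041000000000000000000000000010000204000000000400100200010000000000008000000000000000000001000000000240000000100100000800000400002000000000010000040020000000081000000000020000000040000040200008000000000000000000000000000004010000200000010000020040001000000000080000010000000010080000020000400000000000200400000000084000200000000000000200100400000010000008000000040000000020000200008040000000000000400200000004200000000080001000080000800000000000000000000000000000000000000000010000100008000100000000042000000040020000000000000201000040000400000000200000001000000800000020080040000000000000040002100000000020040000000000020000400000100800000000800000100000000008000200400000800000040000802000000000000000000000000000001000040200000200000000400000000008100000000400200000800000000004000020000010000080080000000240000000008000000000000000000001000000000000800040080020000000002040000800000000000000000000000008200040000000000000000000000000000000000000008000000000000000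

end Cfsg.Agent.Helper28.TGolayAutData
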