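import Cfsg.Agent.Helper28.WittF
import Cfsg.Agent.Helper28.WittData

set_option autoImplicit false

namespace Cfsg.Agent.Helper28.Witt

def RC12 : List (List ℕ) := [[5, 6, 11, 10, 9, 15, 2095, 1103, 149, 2229, 725], [5, 8, 11, 9, 10, 15, 2095, 783, 149, 2229, 1429], [5, 9, 11, 8, 6, 15, 2095, 783, 149, 2229, 725], [5, 10, 11, 6, 8, 15, 2095, 1103, 149, 2229, 1429], [5, 11, 9, 10, 6, 23, 567, 3095, 139, 683, 2251], [6, 5, 10, 11, 8, 15, 1103, 2095, 147, 1235, 435], [6, 8, 10, 9, 5, 15, 1103, 783, 147, 1235, 435], [6, 9, 10, 8, 11, 15, 1103, 783, 147, 1235, 2707], [6, 10, 8, 11, 5, 23, 343, 3095, 141, 461, 1197], [6, 11, 10, 5, 9, 15, 1103, 2095, 147, 1235, 2707], [8, 5, 9, 11, 6, 15, 783, 2095, 153, 921, 249], [8, 6, 9, 10, 5, 15, 783, 1103, 153, 921, 249], [8, 9, 6, 5, 11, 23, 343, 567, 141, 461, 2701], [8, 10, 9, 6, 11, 15, 783, 1103,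 153, 921, 3225], [8, 11, 9, 5, 10, 15, 783, 2095, 153, 921, 3225], [9, 5, 8, 11, 6, 15, 783, 2095, 153, 921, 249], [9, 6, 8, 10, 5, 15, 783, 1103, 153, 921, 249], [9, 8, 5, 6, 10, 23, 567, 343, 139, 683, 1419], [9, 10, 8, 6, 11, 15, 783, 1103, 153, 921, 3225], [9, 11, 8, 5, 10, 15, 783, 2095, 153, 921, 3225], [10, 5, 6, 11, 8, 15, 1103, 2095, 147, 1235, 435], [10, 6, 11, 8, 5, 23, 3095, 343, 153, 3225, 249], [10, 8, 6, 9, 5, 15, 1103, 783, 147, 1235, 435], [10, 9, 6, 8, 11, 15, 1103, 783, 147, 1235, 2707], [10, 11, 6, 5, 9, 15, 1103, 2095, 147, 1235, 2707], [11, 5, 10, 9, 6, 23, 3095, 567, 153, 3225, 249], [11, 6, 5, 10, 9, 15, 2095, 1103, 149, 2229, 725], [11, 8, 5, 9, 10, 15, 2095, 783, 149, 2229, 1429], [11, 9, 5, 8, 6, 15, 2095, 783, 149, 2229, 725], [11, 10, 5, 6, 8, 15, 2095, 1103, 149, 2229, 1429]]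

theorem rok12 : rigOK 12 5 L12 31 159 7 4 15 159 RC12 = true := by decide +kernel

theorem rig12 (hS : Cfsg.IsSteinerSystem 5 6 (Sys 12 L12)) {g : Equiv.Perm (Fin 12)}
    (hg : ∀ b ∈ Sys 12 L12, b.image g ∈ Sys 12 L12) (h : ∀ x ∈ um 12 31, g x = x) : g = 1 :=
  rigid_gen hS rok12 hg h

def RC11 : List (List ℕ) := [[4, 6, 10, 9, 7, 7, 1047, 583, 44, 1084, 236], [4, 7, 10, 8, 6, 7, 1047, 391, 44, 1084, 236], [4, 8, 10, 7, 9, 7, 1047, 391, 44, 1084, 812], [4, 9, 10, 6, 8, 7, 1047, 583, 44, 1084, 812], [4, 10, 8, 9, 6, 11, 283, 1547, 38, 310, 1126], [6, 4, 9, 10, 7, 7, 583, 1047, 42, 618, 186], [6, 7, 9, 8, 4, 7, 583, 391, 42, 618, 186], [6, 8, 9, 7, 10, 7, 583, 391, 42, 618, 1322], [6, 9, 7, 10, 8, 11, 203, 1547, 44, 236, 812], [6, 10, 9, 4, 8, 7, 583, 1047, 42, 618, 1322], [7, 4, 8, 10, 9, 7, 391, 1047, 41, 425, 569], [7, 6, 8, 9, 10,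 7, 391, 583, 41, 425, 1129], [7, 8, 6, 4, 9, 11, 203, 283, 44, 236, 812], [7, 9, 8, 6, 4, 7, 391, 583, 41, 425, 569], [7, 10, 8, 4, 6, 7, 391, 1047, 41, 425, 1129], [8, 4, 7, 10, 9, 7, 391, 1047, 41, 425, 569], [8, 6, 7, 9, 10, 7, 391, 583, 41, 425, 1129], [8, 7, 4, 6, 9, 11, 283, 203, 38, 310, 678], [8, 9, 7, 6, 4, 7, 391, 583, 41, 425, 569], [8, 10, 7, 4, 6, 7, 391, 1047, 41, 425, 1129], [9, 4, 6, 10, 7, 7, 583, 1047, 42, 618, 186], [9, 6, 10, 7, 8, 11, 1547, 203, 37, 1573, 357], [9, 7, 6, 8, 4, 7, 583, 391, 42, 618, 186], [9, 8, 6, 7, 10, 7, 583, 391, 42, 618, 1322], [9, 10, 6, 4, 8, 7, 583, 1047, 42, 618, 1322], [10, 4, 9, 8, 7, 11, 1547, 283, 37, 1573, 181], [10, 6, 4, 9, 7, 7, 1047, 583, 44, 1084, 236], [10, 7, 4, 8, 6, 7, 1047, 391, 44, 1084, 236], [10, 8, 4, 7, 9, 7, 1047, 391, 44, 1084, 812], [10, 9, 4, 6, 8, 7, 1047, 583, 44,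 1084, 812]]

theorem rok11 : rigOK 11 4 L11 15 47 5 3 7 47 RC11 = true := by decide +kernel

theorem rig11 (hS : Cfsg.IsSteinerSystem 4 5 (Sys 11 L11)) {g : Equiv.Perm (Fin 11)}
    (hg : ∀ b ∈ Sys 11 L11, b.image g ∈ Sys 11 L11) (h : ∀ x ∈ um 11 15, g x = x) : g = 1 :=
  rigid_gen hS rok11 hg h

end Cfsg.Agent.Helper28.Witt
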